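import Mathlib.Topology.Spectral.ConstructibleTopology
import Mathlib.Topology.Spectral.Hom
import Mathlib.Topology.Constructible
import Mathlib.Topology.Inseparable
import Mathlib.Topology.Connected.TotallyDisconnected

set_option autoImplicit false

/-!
Spectral spaces and their constructible topology.
-/

namespace Groth.L06.Spectral

open Topology TopologicalSpace Set

variable {X Y : Type*} [tX : TopologicalSpace X] [tY : TopologicalSpace Y]

local notation "cons" => constructibleTopology

theorem isClopen_cons {U : Set X} (hU : IsOpen U) (hc : IsCompact U) :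
    @IsClopen _ (cons X) U := by
  refine ⟨?_, hc.isOpen_constructibleTopology_of_isOpen hU⟩
  rw [← @isOpen_compl_iff]
  exact IsCompact.isOpen_constructibleTopology_of_isClosed (by rwa [compl_compl]) hU.isClosed_compl

theorem cons_le [PrespectralSpace X] : cons X ≤ tX := by
  intro U hU
  obtain ⟨S, hS, rfl⟩ := PrespectralSpace.isTopologicalBasis.open_eq_sUnion hU
  exact @isOpen_sUnion _ (cons X) _ fun t ht =>
    (hS ht).2.isOpen_constructibleTopology_of_isOpen (hS ht).1

theorem isClosed_cons_of_isClosed [PrespectralSpace X] {s : Set X} (hs : IsClosed s) :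
    IsClosed[cons X] s :=
  @IsClosed.mk _ (cons X) _ (cons_le _ hs.isOpen_compl)

theorem isCompact_of_le {t' : TopologicalSpace X} (h : t' ≤ tX) {s : Set X}
    (hs : @IsCompact X t' s) : @IsCompact X tX s := by
  intro f hf hfs
  obtain ⟨x, hx, hx'⟩ := @hs f hf hfs
  exact ⟨x, hx, Filter.NeBot.mono hx' (inf_le_inf_right _ (@nhds_mono X t' tX _ h))⟩

variable [SpectralSpace X] [SpectralSpace Y]

theorem compactSpace_cons : @CompactSpace X (cons X) :=
  @Function.Surjective.compactSpace _ _ _ (cons X) _
    (WithTopology.continuous_ofTopology _) _ (WithTopology.ofTopology_surjective _)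

theorem totallySeparated_cons : @TotallySeparatedSpace X (cons X) := by
  rw [@totallySeparatedSpace_iff_exists_isClopen]
  intro x y hxy
  by_cases h : y ⤳ x
  · have h' : ¬ x ⤳ y := fun h' => hxy (h'.antisymm h).eq
    rw [specializes_iff_forall_open] at h'
    push Not at h'
    obtain ⟨U, hU, hy, hx⟩ := h'
    obtain ⟨V, hV, hyV, hVU⟩ :=
      PrespectralSpace.isTopologicalBasis.exists_subset_of_mem_open hy hU
    refine ⟨Vᶜ, @IsClopen.compl _ (cons X) _ (isClopen_cons hV.1 hV.2), fun hxV => hx (hVU hxV), ?_⟩
    rwa [compl_compl]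
  · rw [specializes_iff_forall_open] at h
    push Not at h
    obtain ⟨U, hU, hx, hy⟩ := h
    obtain ⟨V, hV, hxV, hVU⟩ :=
      PrespectralSpace.isTopologicalBasis.exists_subset_of_mem_open hx hU
    exact ⟨V, isClopen_cons hV.1 hV.2, hxV, fun hyV => hy (hVU hyV)⟩

theorem t2Space_cons : @T2Space X (cons X) :=
  @T2Space.mk X (cons X) fun x y hxy => by
    obtain ⟨U, hU, hx, hy⟩ := @exists_isClopen_of_totally_separated X (cons X) totallySeparated_cons x y hxy
    exact ⟨U, Uᶜ, hU.2, (@IsClopen.compl _ (cons X) _ hU).2, hx, hy, disjoint_compl_right⟩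

theorem totallyDisconnected_cons : @TotallyDisconnectedSpace X (cons X) :=
  @TotallySeparatedSpace.totallyDisconnectedSpace X (cons X) totallySeparated_cons

theorem isCompact_cons_of_isClosed {s : Set X} (hs : IsClosed[cons X] s) :
    @IsCompact X (cons X) s :=
  @IsClosed.isCompact X (cons X) s compactSpace_cons hs

theorem isCompact_of_isClosed_cons {s : Set X} (hs : IsClosed[cons X] s) : IsCompact s :=
  isCompact_of_le cons_le (isCompact_cons_of_isClosed hs)

theorem isClosed_cons_singleton (x : X) : IsClosed[cons X] ({x} : Set X) :=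
  (@T1Space.t1 X (cons X) (@T2Space.t1Space X (cons X) t2Space_cons) x)

/-- Intersection of a directed family of sets which are closed for the constructible topology. -/
theorem nonempty_iInter_cons {ι : Type*} [Nonempty ι] (Z : ι → Set X)
    (hd : Directed (· ⊇ ·) Z) (hne : ∀ i, (Z i).Nonempty) (hcl : ∀ i, IsClosed[cons X] (Z i)) :
    (⋂ i, Z i).Nonempty :=
  @IsCompact.nonempty_iInter_of_directed_nonempty_isCompact_isClosed X (cons X) ι _ Z hd hne
    (fun i => isCompact_cons_of_isClosed (hcl i)) hcl

/-- A directed family of constructibly closed sets whose intersection lies in a constructibly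
open set `V` has a member inside `V`. -/
theorem exists_subset_of_iInter_subset {ι : Type*} [Nonempty ι] (Z : ι → Set X)
    (hd : Directed (· ⊇ ·) Z) (hcl : ∀ i, IsClosed[cons X] (Z i)) {V : Set X}
    (hV : IsOpen[cons X] V) (h : ⋂ i, Z i ⊆ V) : ∃ i, Z i ⊆ V := by
  by_contra! hc
  have hne : ∀ i, (Z i ∩ Vᶜ).Nonempty := fun i => by
    rw [inter_compl_nonempty_iff]; exact hc i
  obtain ⟨x, hx⟩ := nonempty_iInter_cons (fun i => Z i ∩ Vᶜ)
    (fun i j => (hd i j).imp fun k hk => ⟨inter_subset_inter_left _ hk.1, inter_subset_inter_left _ hk.2⟩)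
    hne (fun i => @IsClosed.inter _ _ _ (cons X) (hcl i) (@IsOpen.isClosed_compl _ (cons X) _ hV))
  simp only [mem_iInter, mem_inter_iff] at hx
  exact (hx (Classical.arbitrary ι)).2 (h (mem_iInter.mpr fun i => (hx i).1))

instance nonempty_qcOpenNhds (x : X) : Nonempty {U : Set X // IsOpen U ∧ IsCompact U ∧ x ∈ U} :=
  ⟨⟨univ, isOpen_univ, isCompact_univ, mem_univ x⟩⟩

theorem specializes_of_mem_qcOpenNhds {e x : X}
    (h : ∀ U : Set X, IsOpen U → IsCompact U → x ∈ U → e ∈ U) : e ⤳ x := by
  rw [specializes_iff_forall_open]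
  intro U hU hx
  obtain ⟨V, hV, hxV, hVU⟩ := PrespectralSpace.isTopologicalBasis.exists_subset_of_mem_open hx hU
  exact hVU (h V hV.1 hV.2 hxV)

/-- The closure of a constructibly closed set consists of the specializations of its points. -/
theorem exists_specializes_of_mem_closure {E : Set X} (hE : IsClosed[cons X] E) {x : X}
    (hx : x ∈ closure E) : ∃ e ∈ E, e ⤳ x := by
  let Z : {U : Set X // IsOpen U ∧ IsCompact U ∧ x ∈ U} → Set X := fun U => E ∩ U.1
  obtain ⟨e, he⟩ := nonempty_iInter_cons Z
    (fun U V => ⟨⟨U.1 ∩ V.1, U.2.1.inter V.2.1, U.2.2.1.inter_of_isOpen V.2.2.1 U.2.1 V.2.1,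
      U.2.2.2, V.2.2.2⟩, inter_subset_inter_right _ inter_subset_left,
      inter_subset_inter_right _ inter_subset_right⟩)
    (fun U => by simp only [Z]; rw [inter_comm]; exact mem_closure_iff.mp hx _ U.2.1 U.2.2.2)
    (fun U => @IsClosed.inter _ _ _ (cons X) hE (isClopen_cons U.2.1 U.2.2.1).1)
  simp only [Z, mem_iInter, mem_inter_iff] at he
  exact ⟨e, (he (Classical.arbitrary _)).1,
    specializes_of_mem_qcOpenNhds fun U h1 h2 h3 => (he ⟨U, h1, h2, h3⟩).2⟩

theorem isClosed_of_stableUnderSpecialization {E : Set X} (hE : IsClosed[cons X] E)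
    (hs : StableUnderSpecialization E) : IsClosed E := by
  refine closure_subset_iff_isClosed.mp fun x hx => ?_
  obtain ⟨e, he, hex⟩ := exists_specializes_of_mem_closure hE hx
  exact hs hex he

theorem isOpen_of_stableUnderGeneralization {E : Set X} (hE : IsOpen[cons X] E)
    (hs : StableUnderGeneralization E) : IsOpen E :=
  isClosed_compl_iff.mp <| isClosed_of_stableUnderSpecialization
    (@IsOpen.isClosed_compl _ (cons X) _ hE) (stableUnderSpecialization_compl_iff.mpr hs)

theorem continuous_cons {f : X → Y} (hf : IsSpectralMap f) : Continuous[cons X, cons Y] f := by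
  apply continuous_generateFrom_iff.mpr
  rintro s (⟨h1, h2⟩ | ⟨h1, h2⟩)
  · exact (hf.isCompact_preimage_of_isOpen h1 h2).isOpen_constructibleTopology_of_isOpen
      (h1.preimage hf.continuous)
  · apply IsCompact.isOpen_constructibleTopology_of_isClosed _ (h1.preimage hf.continuous)
    rw [← preimage_compl]
    exact hf.isCompact_preimage_of_isOpen h1.isOpen_compl h2

theorem isSpectralMap_of_continuous_cons {f : X → Y} (hf : Continuous f)
    (hf' : Continuous[cons X, cons Y] f) : IsSpectralMap f :=
  ⟨hf, fun _ h1 h2 => isCompact_of_isClosed_cons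
    (@IsClosed.preimage _ _ (cons X) (cons Y) _ hf' _ (isClopen_cons h1 h2).1)⟩

theorem isClosed_cons_image {f : X → Y} (hf : IsSpectralMap f) {s : Set X}
    (hs : IsClosed[cons X] s) : IsClosed[cons Y] (f '' s) :=
  @IsCompact.isClosed Y (cons Y) t2Space_cons _
    (@IsCompact.image X Y (cons X) (cons Y) s _ (isCompact_cons_of_isClosed hs) (continuous_cons hf))

/-- Clopen subsets for the constructible topology are constructible. -/
theorem isConstructible_of_isClopen_cons {E : Set X} (hE : @IsClopen _ (cons X) E) :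
    IsConstructible E := by
  have hc : @IsCompact X (cons X) E := isCompact_cons_of_isClosed hE.1
  have hb := @isTopologicalBasis_of_subbasis X (cons X) (constructibleTopologySubbasis X) rfl
  obtain ⟨S, hS, rfl⟩ := @IsTopologicalBasis.open_eq_sUnion X (cons X) _ hb _ hE.2
  rw [sUnion_eq_iUnion] at hc ⊢
  obtain ⟨F, hF⟩ := @IsCompact.elim_finite_subcover X (cons X) _ _ hc (fun i : S => (i : Set X))
    (fun i => @IsTopologicalBasis.isOpen X (cons X) _ _ hb (hS i.2)) (subset_refl _)
  rw [show (⋃ i : S, (i : Set X)) = ⋃ i ∈ (F : Set S), (i : Set X) from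
    subset_antisymm hF (iUnion₂_subset fun i _ => subset_iUnion (fun i : S => (i : Set X)) i)]
  refine IsConstructible.biUnion F.finite_toSet fun i _ => ?_
  obtain ⟨G, ⟨hGf, hG⟩, hGi⟩ := hS i.2
  rw [← hGi]
  refine IsConstructible.sInter hGf fun s hs => ?_
  rcases hG hs with ⟨h1, h2⟩ | ⟨h1, h2⟩
  · exact h2.isConstructible h1
  · simpa using (isCompact_univ.isConstructible isOpen_univ).sdiff (h2.isConstructible h1.isOpen_compl)

theorem isClopen_cons_of_isConstructible {E : Set X} (hE : IsConstructible E) :
    @IsClopen _ (cons X) E := by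
  induction hE using IsConstructible.empty_union_induction with
  | open_retrocompact U h1 h2 => exact isClopen_cons h1 h2.isCompact
  | union s hs t ht h1 h2 => exact @IsClopen.union _ (cons X) _ _ h1 h2
  | compl s hs h => exact @IsClopen.compl _ (cons X) _ h

theorem isConstructible_iff_isClopen_cons {E : Set X} :
    IsConstructible E ↔ @IsClopen _ (cons X) E :=
  ⟨isClopen_cons_of_isConstructible, isConstructible_of_isClopen_cons⟩

omit [SpectralSpace X] [SpectralSpace Y] in
/-- A T0 space having a finer compact topology in which a subbasis is clopen is spectral. -/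
theorem spectralSpace_of_finer_compact [T0Space X] (t' : TopologicalSpace X)
    [hc : @CompactSpace X t'] (S : Set (Set X)) (hS : tX = generateFrom S)
    (hclopen : ∀ s ∈ S, @IsClopen _ (t') s) : @SpectralSpace X tX := by
  letI : TopologicalSpace X := tX
  have hle : t' ≤ tX := by
    rw [hS, le_generateFrom_iff_subset_isOpen]
    exact fun s hs => (hclopen s hs).2
  let B : Set (Set X) := (fun f => ⋂₀ f) '' {f | f.Finite ∧ f ⊆ S}
  have hB : IsTopologicalBasis B := isTopologicalBasis_of_subbasis hS
  have hBcl : ∀ b ∈ B, IsClosed[t'] b := by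
    rintro _ ⟨f, ⟨_, hfS⟩, rfl⟩
    exact @isClosed_sInter X t' _ fun s hs => (hclopen s (hfS hs)).1
  have cpt : ∀ s : Set X, IsClosed[t'] s → IsCompact s := fun s hs =>
    isCompact_of_le hle (@IsClosed.isCompact X t' s hc hs)
  have hqc : ∀ U : Set X, IsOpen U → IsCompact U → IsClosed[t'] U := by
    intro U hU hUc
    obtain ⟨T, hT, rfl⟩ := hB.open_eq_sUnion hU
    rw [sUnion_eq_iUnion] at hUc ⊢
    obtain ⟨F, hF⟩ := hUc.elim_finite_subcover (fun i : T => (i : Set X))
      (fun i => hB.isOpen (hT i.2)) (subset_refl _)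
    rw [show (⋃ i : T, (i : Set X)) = ⋃ i ∈ (F : Set T), (i : Set X) from
      subset_antisymm hF (iUnion₂_subset fun i _ => subset_iUnion (fun i : T => (i : Set X)) i)]
    exact @Set.Finite.isClosed_biUnion X T t' _ _ F.finite_toSet fun i _ => hBcl _ (hT i.2)
  exact {
    isCompact_univ := cpt _ (@isClosed_univ X t')
    inter_isCompact := fun U V h1 h2 h3 h4 =>
      cpt _ (@IsClosed.inter _ _ _ t' (hqc U h1 h2) (hqc V h3 h4))
    isTopologicalBasis := hB.of_isOpen_of_subset (fun _ h => h.1)
      fun s hs => ⟨hB.isOpen hs, cpt s (hBcl s hs)⟩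
    sober := by
      intro Z hZ hZcl
      have hZcl' : IsClosed[t'] Z := @IsClosed.mk _ t' _ (hle _ hZcl.isOpen_compl)
      let ι := {F : Finset (Set X) // ∀ b ∈ F, b ∈ B ∧ (Z ∩ b).Nonempty}
      let K : ι → Set X := fun F => Z ∩ ⋂ b ∈ F.1, b
      have hKcl : ∀ F, IsClosed[t'] (K F) := fun F => @IsClosed.inter _ _ _ t' hZcl'
        (@isClosed_biInter _ _ t' _ _ fun b hb => hBcl b (F.2 b hb).1)
      have hne : ∀ F, (K F).Nonempty := by
        intro F
        have := (isIrreducible_iff_sInter.mp hZ) F.1 (fun b hb => hB.isOpen (F.2 b hb).1)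
          (fun b hb => (F.2 b hb).2)
        simpa [K, sInter_eq_biInter] using this
      have hd : Directed (· ⊇ ·) K := by
        classical
        exact fun F G => ⟨⟨F.1 ∪ G.1, fun b hb => (Finset.mem_union.mp hb).elim (F.2 b) (G.2 b)⟩,
          inter_subset_inter_right _ (biInter_subset_biInter_left fun b hb => Finset.mem_union_left _ hb),
          inter_subset_inter_right _ (biInter_subset_biInter_left fun b hb => Finset.mem_union_right _ hb)⟩
      haveI : Nonempty ι := ⟨⟨∅, by simp⟩⟩
      obtain ⟨η, hη⟩ := @IsCompact.nonempty_iInter_of_directed_nonempty_isCompact_isClosed X t' ι _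
        K hd hne (fun F => @IsClosed.isCompact X t' _ hc (hKcl F)) hKcl
      simp only [mem_iInter] at hη
      refine ⟨η, subset_antisymm (hZcl.closure_subset_iff.mpr
        (singleton_subset_iff.mpr (hη ⟨∅, by simp⟩).1)) fun z hz => ?_⟩
      rw [hB.mem_closure_iff]
      intro b hb hzb
      refine ⟨η, ?_, mem_singleton η⟩
      simpa [K] using (hη ⟨{b}, by simpa using ⟨hb, ⟨z, hz, hzb⟩⟩⟩).2 }

/-- A finer compact topology in which the compact opens are clopen is the constructible one. -/
theorem eq_cons_of_finer_compact (t' : TopologicalSpace X) [hc : @CompactSpace X t']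
    (h : ∀ U : Set X, IsOpen[tX] U → @IsCompact X tX U → @IsClopen _ (t') U) :
    t' = @constructibleTopology X tX := by
  letI : TopologicalSpace X := tX
  have hle : t' ≤ @constructibleTopology X tX := by
    apply le_generateFrom_iff_subset_isOpen.mpr
    rintro s (⟨h1, h2⟩ | ⟨h1, h2⟩)
    · exact (h s h1 h2).2
    · exact compl_compl s ▸ (@isOpen_compl_iff X _ t').mpr (h _ h1.isOpen_compl h2).1
  refine le_antisymm hle fun s hs => ?_
  have hcs : @IsClosed X (@constructibleTopology X tX) sᶜ :=
    @IsCompact.isClosed X (@constructibleTopology X tX) (@t2Space_cons X tX _) _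
      (@isCompact_of_le X (@constructibleTopology X tX) t' hle _
        (@IsClosed.isCompact X t' _ hc ((@isClosed_compl_iff X t' _).mpr hs)))
  exact (@isClosed_compl_iff X (@constructibleTopology X tX) _).mp hcs

end Groth.L06.Spectral
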