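import Mathlib.LinearAlgebra.Matrix.Charpoly.LinearMap
import Mathlib.RingTheory.LocalRing.ResidueField.Ideal
import Mathlib.RingTheory.Localization.BaseChange
import Mathlib.LinearAlgebra.TensorProduct.Quotient
import Mathlib.LinearAlgebra.Basis.VectorSpace
import Mathlib.Algebra.Module.Projective
import Mathlib.RingTheory.Finiteness.Finsupp
import Mathlib.Algebra.Module.LocalizedModule.Basic

/-! Left invertibility of a map from a finite module to a projective module (EGA 0_IV 19.1.12). -/

set_option linter.style.haveILetI false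

universe u

namespace Groth.L06.LeftInverse

open TensorProduct Polynomial

variable {A : Type u} [CommRing A] {M N : Type u} [AddCommGroup M] [Module A M]
  [AddCommGroup N] [Module A N]

/-- A map from a finite module to a projective one factors, up to split maps, through `A^n`. -/
theorem exists_reduction [Module.Finite A M] [Module.Projective A N] (u : M →ₗ[A] N) :
    ∃ (n : ℕ) (a : N →ₗ[A] (Fin n → A)) (b : (Fin n → A) →ₗ[A] N), b ∘ₗ a ∘ₗ u = u := by
  classical
  let p : (N →₀ A) →ₗ[A] N := Finsupp.linearCombination A id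
  obtain ⟨i, hi⟩ : ∃ i : N →ₗ[A] N →₀ A, p ∘ₗ i = LinearMap.id :=
    Module.projective_lifting_property p LinearMap.id (fun x => ⟨Finsupp.single x 1, by simp [p]⟩)
  obtain ⟨S, hS⟩ := Module.Finite.fg_top (R := A) (M := M)
  let s : Finset N := S.biUnion fun m => (i (u m)).support
  let e := s.equivFin
  let a : N →ₗ[A] (Fin s.card → A) := LinearMap.pi fun j => Finsupp.lapply ((e.symm j : s) : N) ∘ₗ i
  let b : (Fin s.card → A) →ₗ[A] N := Fintype.linearCombination A fun j => ((e.symm j : s) : N)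
  refine ⟨s.card, a, b, LinearMap.ext_on hS ?_⟩
  intro m hm
  have hm' : (i (u m)).support ⊆ s := fun x hx => Finset.mem_biUnion.mpr ⟨m, hm, hx⟩
  calc b (a (u m)) = ∑ j, (i (u m) ((e.symm j : s) : N)) • ((e.symm j : s) : N) := by
        simp [a, b, Fintype.linearCombination_apply]
    _ = ∑ x : s, (i (u m) (x : N)) • (x : N) := Equiv.sum_comp e.symm (fun x : s => (i (u m) (x : N)) • (x : N))
    _ = ∑ x ∈ s, (i (u m) x) • x := Finset.sum_coe_sort s (fun x => (i (u m) x) • x)
    _ = p (i (u m)) := by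
        simp only [p, Finsupp.linearCombination_apply, id_eq]
        rw [Finsupp.sum]
        exact (Finset.sum_subset hm' fun x _ hx => by simp [Finsupp.notMem_support_iff.mp hx]).symm
    _ = u m := LinearMap.congr_fun hi _

/-- The ideal of elements `f` such that `f • id` factors through `u`. -/
def goodIdeal (u : M →ₗ[A] N) : Ideal A where
  carrier := {f | ∃ l : N →ₗ[A] M, l ∘ₗ u = f • LinearMap.id}
  zero_mem' := ⟨0, by simp⟩
  add_mem' := by
    rintro f g ⟨l, hl⟩ ⟨l', hl'⟩
    exact ⟨l + l', by rw [LinearMap.add_comp, hl, hl', add_smul]⟩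
  smul_mem' := by
    rintro c f ⟨l, hl⟩
    exact ⟨c • l, by rw [LinearMap.smul_comp, hl, smul_smul, smul_eq_mul]⟩

theorem mem_goodIdeal {u : M →ₗ[A] N} {f : A} :
    f ∈ goodIdeal u ↔ ∃ l : N →ₗ[A] M, l ∘ₗ u = f • LinearMap.id := Iff.rfl

theorem one_mem_goodIdeal_iff {u : M →ₗ[A] N} :
    (1 : A) ∈ goodIdeal u ↔ ∃ l : N →ₗ[A] M, l ∘ₗ u = LinearMap.id := by
  rw [mem_goodIdeal]; simp only [one_smul]

theorem goodIdeal_comp_le (u : M →ₗ[A] N) {N' : Type u} [AddCommGroup N'] [Module A N'] (a : N →ₗ[A] N') :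
    goodIdeal (a ∘ₗ u) ≤ goodIdeal u := fun f ⟨l, hl⟩ => ⟨l ∘ₗ a, by rw [LinearMap.comp_assoc, hl]⟩

/-- If a localisation of `u` has a left inverse, so has `u` up to an element of the submonoid. -/
theorem exists_mem_goodIdeal_of_localized [Module.Finite A M] [Module.Projective A N] (u : M →ₗ[A] N)
    (S : Submonoid A) (w : LocalizedModule S N →ₗ[A] LocalizedModule S M)
    (hw : ∀ x, w (LocalizedModule.mkLinearMap S N (u x)) = LocalizedModule.mkLinearMap S M x) :
    ∃ f ∈ S, f ∈ goodIdeal u := by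
  classical
  obtain ⟨n, a, b, hab⟩ := exists_reduction u
  let g : (Fin n → A) →ₗ[A] LocalizedModule S M := w ∘ₗ LocalizedModule.mkLinearMap S N ∘ₗ b
  have hg : ∀ x, g (a (u x)) = LocalizedModule.mkLinearMap S M x := fun x => by
    have : b (a (u x)) = u x := LinearMap.congr_fun hab x
    simp only [g, LinearMap.comp_apply, this, hw]
  have hsurj := fun j => IsLocalizedModule.surj S (LocalizedModule.mkLinearMap S M) (g (Pi.basisFun A (Fin n) j))
  choose ms hms using hsurj
  let s : S := ∏ j, (ms j).2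
  let m : Fin n → M := fun j => (((∏ k ∈ Finset.univ.erase j, (ms k).2 : S) : A)) • (ms j).1
  let l : (Fin n → A) →ₗ[A] M := (Pi.basisFun A (Fin n)).constr A m
  have hl : LocalizedModule.mkLinearMap S M ∘ₗ l = (s : A) • g := by
    refine (Pi.basisFun A (Fin n)).ext fun j => ?_
    simp only [LinearMap.comp_apply, LinearMap.smul_apply, l, Module.Basis.constr_basis, m, map_smul, ← hms j,
      Submonoid.smul_def, smul_smul]
    congr 1
    rw [← Submonoid.coe_mul, Finset.prod_erase_mul _ _ (Finset.mem_univ j)]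
  obtain ⟨G, hG⟩ := Module.Finite.fg_top (R := A) (M := M)
  have hker : ∀ x, ∃ t : S, (t : A) • (l (a (u x))) = (t : A) • ((s : A) • x) := fun x => by
    obtain ⟨t, ht⟩ := IsLocalizedModule.exists_of_eq (S := S) (f := LocalizedModule.mkLinearMap S M)
      (x₁ := l (a (u x))) (x₂ := (s : A) • x) (by
        rw [map_smul, ← hg x]
        exact LinearMap.congr_fun hl _)
    exact ⟨t, ht⟩
  choose t ht using hker
  let T : S := ∏ x ∈ G, t x
  refine ⟨(T : A) * (s : A), (T * s).2, (T : A) • (l ∘ₗ a), LinearMap.ext_on hG fun x hx => ?_⟩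
  simp only [LinearMap.smul_comp, LinearMap.smul_apply, LinearMap.comp_apply, LinearMap.id_apply]
  rw [show (T : A) = ((∏ y ∈ G.erase x, t y : S) : A) * (t x : A) by
    rw [← Submonoid.coe_mul, Finset.prod_erase_mul _ _ hx], mul_smul, ht x, smul_smul, smul_smul]

/-- Conversely a multiple of the identity gives an inverse after localisation. -/
theorem exists_localized_of_mem_goodIdeal (u : M →ₗ[A] N) (S : Submonoid A) {f : A} (hf : f ∈ S)
    (hu : f ∈ goodIdeal u) :
    ∃ w : LocalizedModule S N →ₗ[A] LocalizedModule S M,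
      ∀ x, w (LocalizedModule.mkLinearMap S N (u x)) = LocalizedModule.mkLinearMap S M x := by
  obtain ⟨l, hl⟩ := hu
  have h0 := IsLocalizedModule.map_units (LocalizedModule.mkLinearMap S M) ⟨f, hf⟩
  obtain ⟨inv, hinv⟩ := h0
  refine ⟨(↑inv⁻¹ : Module.End A (LocalizedModule S M)) ∘ₗ
    IsLocalizedModule.map S (LocalizedModule.mkLinearMap S N) (LocalizedModule.mkLinearMap S M) l, fun x => ?_⟩
  rw [LinearMap.comp_apply, IsLocalizedModule.map_apply, show l (u x) = f • x from LinearMap.congr_fun hl x,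
    map_smul]
  have : f • LocalizedModule.mkLinearMap S M x = (↑inv : Module.End A (LocalizedModule S M)) (LocalizedModule.mkLinearMap S M x) := by
    rw [hinv]; rfl
  rw [this, ← Module.End.mul_apply, Units.inv_mul, Module.End.one_apply]

variable (p : Ideal A) [p.IsPrime]

instance isLocalizedModule_residueField :
    IsLocalizedModule p.primeCompl (IsScalarTower.toAlgHom A (A ⧸ p) p.ResidueField).toLinearMap := by
  rw [isLocalizedModule_iff_isLocalization]
  have h : Algebra.algebraMapSubmonoid (A ⧸ p) p.primeCompl = nonZeroDivisors (A ⧸ p) := by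
    ext x
    obtain ⟨a, rfl⟩ := Ideal.Quotient.mk_surjective x
    rw [mem_nonZeroDivisors_iff_ne_zero]
    constructor
    · rintro ⟨b, hb, hba⟩
      rw [← hba]
      exact fun h => hb (Ideal.Quotient.eq_zero_iff_mem.mp h)
    · exact fun h => ⟨a, fun ha => h (Ideal.Quotient.eq_zero_iff_mem.mpr ha), rfl⟩
  rw [h]
  exact inferInstanceAs (IsFractionRing (A ⧸ p) p.ResidueField)

variable (M)

/-- The map `(A/p) ⊗ M → κ(p) ⊗ M`, a localisation at the complement of `p`. -/
noncomputable def toResidue : (A ⧸ p) ⊗[A] M →ₗ[A] p.ResidueField ⊗[A] M :=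
  AlgebraTensorModule.rTensor A M (IsScalarTower.toAlgHom A (A ⧸ p) p.ResidueField).toLinearMap

instance : IsLocalizedModule p.primeCompl (toResidue M p) :=
  IsLocalizedModule.rTensor (A := A) (R := A) (N := M) p.primeCompl _

theorem toResidue_one_tmul (y : M) : toResidue M p (1 ⊗ₜ y) = 1 ⊗ₜ y := by
  simp [toResidue]

variable {M}

theorem exists_smul_eq_one_tmul (z : p.ResidueField ⊗[A] M) :
    ∃ (s : p.primeCompl) (y : M), s • z = 1 ⊗ₜ y := by
  obtain ⟨⟨z', s⟩, hz⟩ := IsLocalizedModule.surj p.primeCompl (toResidue M p) z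
  obtain ⟨y, hy⟩ : ∃ y : M, (1 : A ⧸ p) ⊗ₜ[A] y = z' :=
    ⟨_, (quotTensorEquivQuotSMul_symm_mk p _).symm.trans
      ((congrArg _ (Submodule.mkQ_surjective _ (quotTensorEquivQuotSMul M p z')).choose_spec).trans
        (LinearEquiv.symm_apply_apply _ _))⟩
  exact ⟨s, y, by rw [← toResidue_one_tmul, hy]; exact hz⟩

theorem exists_smul_mem_of_one_tmul_eq {y y' : M} (h : (1 : p.ResidueField) ⊗ₜ[A] y = 1 ⊗ₜ y') :
    ∃ t ∉ p, t • y - t • y' ∈ p • (⊤ : Submodule A M) := by
  rw [← toResidue_one_tmul, ← toResidue_one_tmul] at h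
  obtain ⟨t, ht⟩ := IsLocalizedModule.exists_of_eq (S := p.primeCompl) (f := toResidue M p) h
  refine ⟨t, t.2, (Submodule.Quotient.eq _).mp ?_⟩
  rw [← quotTensorEquivQuotSMul_mk_one_tmul p, ← quotTensorEquivQuotSMul_mk_one_tmul p]
  congr 1
  rw [TensorProduct.tmul_smul, TensorProduct.tmul_smul]
  exact ht

/-- The key point: injectivity at the residue field of a prime gives an element outside it. -/
theorem exists_notMem_goodIdeal [Module.Finite A M] [Module.Projective A N] (u : M →ₗ[A] N)
    (h : Function.Injective (u.lTensor p.ResidueField)) : ∃ f ∉ p, f ∈ goodIdeal u := by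
  classical
  obtain ⟨n, a, b, hab⟩ := exists_reduction u
  let w := a ∘ₗ u
  have hw : Function.Injective (w.baseChange p.ResidueField) := by
    have h' : u.lTensor p.ResidueField = b.lTensor p.ResidueField ∘ₗ w.lTensor p.ResidueField := by
      rw [← LinearMap.lTensor_comp, hab]
    rw [h', LinearMap.coe_comp] at h
    exact fun x y hxy => h.of_comp (a₁ := x) (a₂ := y) hxy
  obtain ⟨v, hv⟩ := (w.baseChange p.ResidueField).exists_leftInverse_of_injective (LinearMap.ker_eq_bot.mpr hw)
  have hsur := fun j => exists_smul_eq_one_tmul p (v (1 ⊗ₜ Pi.basisFun A (Fin n) j))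
  choose sj yj hsy using hsur
  let s : p.primeCompl := ∏ j, sj j
  let l : (Fin n → A) →ₗ[A] M :=
    (Pi.basisFun A (Fin n)).constr A fun j => ((∏ k ∈ Finset.univ.erase j, sj k : p.primeCompl) : A) • yj j
  have hl : TensorProduct.mk A p.ResidueField M 1 ∘ₗ l =
      (s : A) • (v.restrictScalars A ∘ₗ TensorProduct.mk A p.ResidueField (Fin n → A) 1) := by
    refine (Pi.basisFun A (Fin n)).ext fun j => ?_
    simp only [LinearMap.comp_apply, LinearMap.smul_apply, l, Module.Basis.constr_basis, TensorProduct.mk_apply,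
      TensorProduct.tmul_smul, ← hsy j, Submonoid.smul_def, smul_smul, LinearMap.coe_restrictScalars]
    congr 1
    rw [← Submonoid.coe_mul, Finset.prod_erase_mul _ _ (Finset.mem_univ j)]
  have hmem : ∀ x, ∃ t ∉ p, t • l (w x) - t • ((s : A) • x) ∈ p • (⊤ : Submodule A M) := fun x => by
    refine exists_smul_mem_of_one_tmul_eq p ?_
    have h1 := LinearMap.congr_fun hl (w x)
    have h2 : v (1 ⊗ₜ w x) = (1 : p.ResidueField) ⊗ₜ x := LinearMap.congr_fun hv (1 ⊗ₜ x)
    simp only [LinearMap.comp_apply, LinearMap.smul_apply, TensorProduct.mk_apply, LinearMap.coe_restrictScalars, h2] at h1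
    rw [h1, TensorProduct.tmul_smul]
  choose t htp htm using hmem
  obtain ⟨G, hG⟩ := Module.Finite.fg_top (R := A) (M := M)
  let T : A := ∏ x ∈ G, t x
  have hT : T ∉ p := fun hmem' => by
    obtain ⟨x, hx, hxp⟩ := (Ideal.IsPrime.prod_mem_iff (p := p)).mp hmem'
    exact htp x hxp
  set f := T * (s : A) with hfdef
  have hf : f ∉ p := fun hc => (‹p.IsPrime›.mem_or_mem hc).elim hT s.2
  let e : Module.End A M := T • (l ∘ₗ w)
  have hrange : LinearMap.range (e - f • LinearMap.id) ≤ p • ⊤ := by
    rw [LinearMap.range_eq_map]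
    conv_lhs => rw [← hG]
    rw [Submodule.map_span_le]
    intro x hx
    simp only [LinearMap.sub_apply, LinearMap.smul_apply, e, LinearMap.comp_apply, LinearMap.id_apply, hfdef, mul_smul]
    rw [show T = (∏ y ∈ G.erase x, t y) * t x from (Finset.prod_erase_mul _ _ hx).symm, mul_smul, mul_smul, ← smul_sub]
    exact Submodule.smul_mem _ _ (htm x)
  obtain ⟨P, hPm, -, hPc, hP0⟩ :=
    LinearMap.exists_monic_and_natDegree_eq_and_coeff_mem_pow_and_aeval_eq_zero A (e - f • LinearMap.id) p hrange
  let Q : A[X] := P.comp (X - C f)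
  have hQ : aeval e Q = 0 := by
    rw [aeval_comp]
    convert! hP0 using 3
    simp [Algebra.algebraMap_eq_smul_one, Module.End.one_eq_id]
  have hq0 : Q.coeff 0 ∉ p := by
    have : P.map (Ideal.Quotient.mk p) = X ^ P.natDegree := by
      ext k
      rw [coeff_map, coeff_X_pow]
      rcases lt_trichotomy k P.natDegree with hk | hk | hk
      · rw [if_neg hk.ne, Ideal.Quotient.eq_zero_iff_mem]
        exact Ideal.pow_le_self (Nat.sub_ne_zero_of_lt hk) (hPc k)
      · rw [if_pos hk, hk, hPm.coeff_natDegree, map_one]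
      · rw [if_neg hk.ne', coeff_eq_zero_of_natDegree_lt hk, map_zero]
    intro hc
    rw [coeff_zero_eq_eval_zero, eval_comp, eval_sub, eval_X, eval_C, zero_sub] at hc
    have h1 := Ideal.Quotient.eq_zero_iff_mem.mpr hc
    rw [← eval_map_apply, this, eval_pow, eval_X, map_neg] at h1
    exact hf (Ideal.Quotient.eq_zero_iff_mem.mp (neg_eq_zero.mp (eq_zero_of_pow_eq_zero h1)))
  refine ⟨Q.coeff 0, hq0, (-(aeval e Q.divX : Module.End A M)) ∘ₗ (T • (l ∘ₗ a)), ?_⟩
  have h1 : aeval e Q.divX * e + Q.coeff 0 • (1 : Module.End A M) = 0 := by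
    conv_rhs => rw [← hQ, ← divX_mul_X_add Q]
    simp [Algebra.algebraMap_eq_smul_one]
  have h2 : (T • (l ∘ₗ a)) ∘ₗ u = e := by
    simp [e, w, LinearMap.smul_comp, LinearMap.comp_assoc]
  rw [LinearMap.comp_assoc, h2, LinearMap.neg_comp, ← Module.End.mul_eq_comp, neg_eq_iff_add_eq_zero]
  exact h1

variable {p}

/-- Left inverse from injectivity at all maximal ideals. -/
theorem exists_leftInverse_of_forall_maximal [Module.Finite A M] [Module.Projective A N] (u : M →ₗ[A] N)
    (h : ∀ (m : Ideal A) [m.IsMaximal], ∃ f ∉ m, f ∈ goodIdeal u) :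
    ∃ l : N →ₗ[A] M, l ∘ₗ u = LinearMap.id := by
  rw [← one_mem_goodIdeal_iff, ← Ideal.eq_top_iff_one]
  by_contra hne
  obtain ⟨m, hm, hle⟩ := Ideal.exists_le_maximal _ hne
  obtain ⟨f, hfm, hf⟩ := h m
  exact hfm (hle hf)

/-- A multiple of the identity gives injectivity at residue fields. -/
theorem injective_lTensor_of_mem_goodIdeal (u : M →ₗ[A] N) (K : Type u) [Field K] [Algebra A K]
    {f : A} (hf : algebraMap A K f ≠ 0) (hu : f ∈ goodIdeal u) : Function.Injective (u.lTensor K) := by
  obtain ⟨l, hl⟩ := hu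
  refine (injective_iff_map_eq_zero _).mpr fun z hz => ?_
  have h1 : l.lTensor K (u.lTensor K z) = f • z := by
    rw [← LinearMap.comp_apply, ← LinearMap.lTensor_comp, hl, LinearMap.lTensor_smul, LinearMap.lTensor_id]
    rfl
  rw [hz, map_zero, ← IsScalarTower.algebraMap_smul K f z] at h1
  exact (smul_eq_zero_iff_right hf).mp h1.symm

end Groth.L06.LeftInverse
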