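import Mathlib.Algebra.Category.ModuleCat.Ext.HasExt
import Mathlib.Algebra.Category.ModuleCat.Ext.DimensionShifting
import Mathlib.Algebra.Category.ModuleCat.EnoughInjectives
import Mathlib.Algebra.Category.ModuleCat.Injective
import Mathlib.Algebra.Category.ModuleCat.ProjectiveDimension
import Mathlib.Algebra.Homology.DerivedCategory.Ext.EnoughInjectives
import Mathlib.Algebra.Homology.ShortComplex.ModuleCat
import Mathlib.CategoryTheory.Abelian.Injective.Dimension
import Mathlib.RingTheory.Regular.ProjectiveDimension
import Mathlib.RingTheory.Ideal.AssociatedPrime.Finiteness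
import Mathlib.RingTheory.LocalRing.Module

set_option autoImplicit false
set_option linter.style.haveILetI false

/-!
Injective and projective dimension: tests on cyclic modules, and on the residue field.
-/

namespace Groth.L06.ExtDim

open CategoryTheory CategoryTheory.Abelian

universe u

variable {R : Type u} [CommRing R]

theorem injective_of_forall_quotient (M : ModuleCat.{u} R)
    (h : ∀ I : Ideal R, Subsingleton (Ext (ModuleCat.of R (R ⧸ I)) M 1)) : Injective M := by
  have hB : Module.Baer R M := by
    intro I g
    let S : ShortComplex (ModuleCat.{u} R) :=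
      ModuleCat.shortComplexOfCompEqZero I.subtype (Submodule.mkQ I)
        (LinearMap.exact_subtype_mkQ I).linearMap_comp_eq_zero
    have hS : S.ShortExact := ModuleCat.shortComplex_shortExact S
      (LinearMap.exact_subtype_mkQ I) Subtype.val_injective (Submodule.mkQ_surjective _)
    haveI : Subsingleton (Ext S.X₃ M 1) := h I
    let g' : S.X₁ ⟶ M := ModuleCat.ofHom g
    obtain ⟨x, hx⟩ := Ext.contravariant_sequence_exact₁ hS M (Ext.mk₀ g') (add_zero 1)
      (Subsingleton.elim _ _)
    obtain ⟨φ, rfl⟩ := (Ext.mk₀_bijective _ _).2 x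
    rw [Ext.mk₀_comp_mk₀, (Ext.mk₀_bijective _ _).1.eq_iff] at hx
    refine ⟨φ.hom, fun a ha => ?_⟩
    exact DFunLike.congr_fun (congrArg ModuleCat.Hom.hom hx) ⟨a, ha⟩
  haveI := hB.injective
  exact (Module.injective_iff_injective_object R M).mp inferInstance

theorem hasInjectiveDimensionLT_of_forall_quotient (n : ℕ) : ∀ M : ModuleCat.{u} R,
    (∀ I : Ideal R, Subsingleton (Ext (ModuleCat.of R (R ⧸ I)) M (n + 1))) →
      HasInjectiveDimensionLT M (n + 1) := by
  induction n with
  | zero =>
    intro M h
    rw [← injective_iff_hasInjectiveDimensionLT_one]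
    exact injective_of_forall_quotient M h
  | succ n ih =>
    intro M h
    obtain ⟨⟨J, hJ, f, hf⟩⟩ := EnoughInjectives.presentation M
    let S := ShortComplex.mk f (Limits.cokernel.π f) (Limits.cokernel.condition f)
    have hS : S.ShortExact := { exact := ShortComplex.exact_cokernel f }
    haveI : Injective S.X₂ := hJ
    refine (hS.hasInjectiveDimensionLT_X₃_iff n hJ).mp (ih S.X₃ fun I => ⟨fun a b => ?_⟩)
    have key : ∀ x : Ext (ModuleCat.of R (R ⧸ I)) S.X₃ (n + 1), x = 0 := fun x => by
      haveI := h I
      obtain ⟨y, rfl⟩ := Ext.covariant_sequence_exact₃ _ hS x rfl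
        (Subsingleton.elim (α := Ext (ModuleCat.of R (R ⧸ I)) M (n + 1 + 1)) _ _)
      rw [Ext.eq_zero_of_injective y, Ext.zero_comp]
    rw [key a, key b]

theorem hasProjectiveDimensionLT_of_forall_cyclic (n : ℕ)
    (h : ∀ I : Ideal R, HasProjectiveDimensionLT (ModuleCat.of R (R ⧸ I)) (n + 1))
    (M : ModuleCat.{u} R) : HasProjectiveDimensionLT M (n + 1) := by
  refine hasProjectiveDimensionLT_of_enoughInjectives M (n + 1) fun Y => ?_
  haveI := hasInjectiveDimensionLT_of_forall_quotient n Y fun I =>
    haveI := h I; HasProjectiveDimensionLT.subsingleton _ (n + 1) (n + 1) le_rfl Y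
  exact HasInjectiveDimensionLT.subsingleton Y (n + 1) (n + 1) le_rfl M

theorem hasProjectiveDimensionLT_of_forall_ext_quotient [IsNoetherianRing R] (M : ModuleCat.{u} R)
    [Module.Finite R M] (n : ℕ)
    (h : ∀ I : Ideal R, Subsingleton (Ext M (ModuleCat.of R (R ⧸ I)) (n + 1))) :
    HasProjectiveDimensionLT M (n + 1) := by
  refine ModuleCat.hasProjectiveDimensionLT_of_forall_finite M (n + 1) fun L hL => ?_
  have := IsNoetherianRing.induction_on_isQuotientEquivQuotientPrime R hL
    (motive := fun N _ _ _ => Subsingleton (Ext M (ModuleCat.of R N) (n + 1)))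
    (fun N _ _ _ _ => ⟨fun a b => by
      have hz : Limits.IsZero (ModuleCat.of R N) := ModuleCat.isZero_of_subsingleton _
      haveI : Injective (ModuleCat.of R N) := hz.injective
      rw [Ext.eq_zero_of_injective a, Ext.eq_zero_of_injective b]⟩)
    (fun N _ _ _ p e => by
      haveI := h p.1
      refine ⟨fun a b => ?_⟩
      have hab : a.comp (Ext.mk₀ e.toModuleIso.hom) (add_zero (n + 1)) =
          b.comp (Ext.mk₀ e.toModuleIso.hom) (add_zero (n + 1)) := Subsingleton.elim _ _
      have := congrArg (fun z => z.comp (Ext.mk₀ e.toModuleIso.inv) (add_zero _)) hab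
      simpa only [Ext.comp_assoc_of_second_deg_zero, Ext.mk₀_comp_mk₀, Iso.hom_inv_id, Ext.comp_mk₀_id] using this)
    (fun N₁ _ _ _ N₂ _ _ _ N₃ _ _ _ f g hf hg hfg h₁ h₃ => ⟨fun a b => by
      let S : ShortComplex (ModuleCat.{u} R) :=
        ModuleCat.shortComplexOfCompEqZero f g hfg.linearMap_comp_eq_zero
      have hS : S.ShortExact := ModuleCat.shortComplex_shortExact S hfg hf hg
      have key : ∀ x : Ext M S.X₂ (n + 1), x = 0 := fun x => by
        haveI : Subsingleton (Ext M S.X₃ (n + 1)) := h₃
        haveI : Subsingleton (Ext M S.X₁ (n + 1)) := h₁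
        obtain ⟨y, rfl⟩ := Ext.covariant_sequence_exact₂ M hS x (Subsingleton.elim _ _)
        rw [Subsingleton.elim y 0, Ext.zero_comp]
      exact (key a).trans (key b).symm⟩)
  exact this

/-- `T R K n M`: the `n+1`-th `Tor` of `K` and `M` vanishes, expressed by finite free presentations. -/
def T (R : Type u) [CommRing R] (K : Type u) [AddCommGroup K] [Module R K] :
    ℕ → ∀ (M : Type u) [AddCommGroup M] [Module R M], Prop
  | 0, M, _, _ => ∀ (P : Type u) [AddCommGroup P] [Module R P] [Module.Finite R P] [Module.Free R P]
      (g : P →ₗ[R] M), Function.Surjective g →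
        Function.Injective ((LinearMap.ker g).subtype.lTensor K)
  | n + 1, M, _, _ => ∀ (P : Type u) [AddCommGroup P] [Module R P] [Module.Finite R P]
      [Module.Free R P] (g : P →ₗ[R] M), Function.Surjective g → T R K n (LinearMap.ker g)

section Local

theorem T_succ {K Q : Type u} [AddCommGroup K] [Module R K] [AddCommGroup Q] [Module R Q]
    [Module.Flat R Q] (f : Q →ₗ[R] K) (hf : Function.Surjective f) :
    ∀ (j : ℕ) (M : Type u) [AddCommGroup M] [Module R M],
      T R (LinearMap.ker f) j M → T R K (j + 1) M
  | 0, M, _, _, h => by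
    intro P _ _ _ _ g hg P' _ _ _ _ g' hg'
    refine lTensor_injective_of_exact_of_exact_of_rTensor_injective
      (f.exact_subtype_ker_map) hf g'.exact_subtype_ker_map hg' ?_
      (Module.Flat.lTensor_preserves_injective_linearMap _ Subtype.val_injective)
    have h1 : Function.Injective ((LinearMap.ker f).subtype.rTensor P ∘
        (LinearMap.ker g).subtype.lTensor (LinearMap.ker f)) :=
      (Module.Flat.rTensor_preserves_injective_linearMap _ Subtype.val_injective).comp (h P g hg)
    rw [← LinearMap.coe_comp, LinearMap.rTensor_comp_lTensor, ← LinearMap.lTensor_comp_rTensor,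
      LinearMap.coe_comp] at h1
    exact h1.of_comp
  | j + 1, M, _, _, h => by
    intro P _ _ _ _ g hg
    exact T_succ f hf j _ (h P g hg)

theorem T_of_hasProjectiveDimensionLT : ∀ (n : ℕ) (K : Type u) [AddCommGroup K] [Module R K],
    HasProjectiveDimensionLT (ModuleCat.of R K) (n + 1) →
      ∀ (M : Type u) [AddCommGroup M] [Module R M], T R K n M
  | 0, K, _, _, hK => by
    haveI : Module.Projective R K :=
      (IsProjective.iff_projective K).mpr (projective_iff_hasProjectiveDimensionLT_one.mpr hK)
    intro M _ _ P _ _ _ _ g hg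
    exact Module.Flat.lTensor_preserves_injective_linearMap _ Subtype.val_injective
  | n + 1, K, _, _, hK => by
    intro M _ _
    let f : (K →₀ R) →ₗ[R] K := Finsupp.linearCombination R id
    have hf : Function.Surjective f := Finsupp.linearCombination_id_surjective R K
    have hS := LinearMap.shortExact_shortComplexKer hf
    haveI : Projective f.shortComplexKer.X₂ := ModuleCat.projective_of_free Finsupp.basisSingleOne
    have hK' := (hS.hasProjectiveDimensionLT_X₃_iff n inferInstance).mp hK
    exact T_succ f hf n M (T_of_hasProjectiveDimensionLT n (LinearMap.ker f) hK' M)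

variable [IsNoetherianRing R] [IsLocalRing R]

theorem hasProjectiveDimensionLT_of_T : ∀ (n : ℕ) (M : Type u) [AddCommGroup M] [Module R M]
    [Module.Finite R M], T R (IsLocalRing.ResidueField R) n M →
      HasProjectiveDimensionLT (ModuleCat.of R M) (n + 1)
  | 0, M, _, _, _, h => by
    obtain ⟨P, _, _, _, _, g, hg⟩ := Module.exists_finite_presentation R M
    haveI : Module.Free R M := Module.free_of_lTensor_residueField_injective
      (LinearMap.ker g).subtype g hg g.exact_subtype_ker_map (h P g hg)
    exact projective_iff_hasProjectiveDimensionLT_one.mp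
      ((IsProjective.iff_projective M).mp inferInstance)
  | n + 1, M, _, _, _, h => by
    obtain ⟨P, _, _, _, _, g, hg⟩ := Module.exists_finite_presentation R M
    have hS := LinearMap.shortExact_shortComplexKer hg
    haveI : Projective g.shortComplexKer.X₂ := (IsProjective.iff_projective P).mp inferInstance
    refine (hS.hasProjectiveDimensionLT_X₃_iff n inferInstance).mpr ?_
    exact hasProjectiveDimensionLT_of_T n (LinearMap.ker g) (h P g hg)

theorem hasProjectiveDimensionLT_of_residueField (n : ℕ)
    (hk : HasProjectiveDimensionLT (ModuleCat.of R (IsLocalRing.ResidueField R)) (n + 1))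
    (M : ModuleCat.{u} R) : HasProjectiveDimensionLT M (n + 1) :=
  hasProjectiveDimensionLT_of_forall_cyclic n (fun I =>
    hasProjectiveDimensionLT_of_T n (R ⧸ I) (T_of_hasProjectiveDimensionLT n _ hk _)) M

end Local

end Groth.L06.ExtDim
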