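import Mathlib.Topology.KrullDimension
import Mathlib.Topology.NoetherianSpace
import Mathlib.Topology.Separation.Basic
import Mathlib.Topology.LocallyFinite

set_option autoImplicit false

/-!
Combinatorial dimension of topological spaces.
-/

namespace Groth.L06.Dim

open TopologicalSpace Topology Set

variable {X : Type*} [TopologicalSpace X]

/-- Trace of an irreducible closed subset on a subspace containing it. -/
def trace (S : Set X) (Z : IrreducibleCloseds X) (h : (Z : Set X) ⊆ S) : IrreducibleCloseds S where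
  carrier := Subtype.val ⁻¹' Z
  isIrreducible' := by
    obtain ⟨⟨z, hz⟩, hp⟩ := Z.isIrreducible
    refine ⟨⟨⟨z, h hz⟩, hz⟩, fun u v hu hv hune hvne => ?_⟩
    obtain ⟨U, hU, rfl⟩ := isOpen_induced_iff.mp hu
    obtain ⟨V, hV, rfl⟩ := isOpen_induced_iff.mp hv
    obtain ⟨⟨a, _⟩, ha1, ha2⟩ := hune
    obtain ⟨⟨b, _⟩, hb1, hb2⟩ := hvne
    obtain ⟨w, hw1, hw2, hw3⟩ := hp U V hU hV ⟨a, ha1, ha2⟩ ⟨b, hb1, hb2⟩
    exact ⟨⟨w, h hw1⟩, hw1, hw2, hw3⟩
  isClosed' := Z.isClosed.preimage continuous_subtype_val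

theorem length_le_of_last_subset (p : LTSeries (IrreducibleCloseds X)) {S : Set X}
    (h : (p.last : Set X) ⊆ S) : (p.length : WithBot ℕ∞) ≤ topologicalKrullDim S := by
  have hsub : ∀ i, (p i : Set X) ⊆ S := fun i => subset_trans (p.monotone (Fin.le_last i)) h
  exact Order.LTSeries.length_le_krullDim (LTSeries.mk p.length (fun i => trace S (p i) (hsub i))
    (by
      intro i j hij
      obtain ⟨hle, hne⟩ := Set.ssubset_iff_subset_ne.mp (SetLike.coe_ssubset_coe.mpr (p.strictMono hij))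
      refine lt_of_le_of_ne (fun x hx => hle (show (x : X) ∈ (p i : Set X) from hx)) fun e => hne (hle.antisymm fun x hx => ?_)
      exact (SetLike.ext_iff.mp e ⟨x, hsub j hx⟩).mpr hx))

theorem length_le_of_head_inter (p : LTSeries (IrreducibleCloseds X)) {U : Set X} (hU : IsOpen U)
    (h : ((p.head : Set X) ∩ U).Nonempty) : (p.length : WithBot ℕ∞) ≤ topologicalKrullDim U := by
  have hne : ∀ i, ((Subtype.val : U → X) ⁻¹' (p i : Set X)).Nonempty := fun i => by
    obtain ⟨x, hx, hxU⟩ := h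
    exact ⟨⟨x, hxU⟩, p.monotone (Fin.zero_le i) hx⟩
  let e := IrreducibleCloseds.orderIsoOfIsOpenEmbedding (Subtype.val : U → X) hU.isOpenEmbedding_subtypeVal
  exact Order.LTSeries.length_le_krullDim (LTSeries.mk p.length (fun i => e.symm ⟨p i, hne i⟩)
    (fun i j hij => e.symm.strictMono (p.strictMono hij)))

theorem eq_iSup {ι : Type*} (S : ι → Set X)
    (h : ∀ p : LTSeries (IrreducibleCloseds X), ∃ i, (p.length : WithBot ℕ∞) ≤ topologicalKrullDim (S i)) :
    topologicalKrullDim X = ⨆ i, topologicalKrullDim (S i) := by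
  refine le_antisymm (iSup_le fun p => ?_) (iSup_le fun i => topologicalKrullDim_subspace_le X (S i))
  obtain ⟨i, hi⟩ := h p
  exact le_iSup_of_le (f := fun i => topologicalKrullDim (S i)) i hi

theorem exists_subset_of_finite_cover {ι : Type*} [Finite ι] {Y : ι → Set X} (hY : ∀ i, IsClosed (Y i))
    {Z : Set X} (hZ : IsIrreducible Z) (h : Z ⊆ ⋃ i, Y i) : ∃ i, Z ⊆ Y i := by
  classical
  cases nonempty_fintype ι
  obtain ⟨z, hz, hZz⟩ := isIrreducible_iff_sUnion_isClosed.mp hZ (Finset.univ.image Y)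
    (by simpa using hY) (by simpa using h)
  obtain ⟨i, -, rfl⟩ := Finset.mem_image.mp hz
  exact ⟨i, hZz⟩

theorem exists_subset_of_locallyFinite {ι : Type*} {Y : ι → Set X} (hlf : LocallyFinite Y)
    (hY : ∀ i, IsClosed (Y i)) {Z : Set X} (hZ : IsIrreducible Z) (h : Z ⊆ ⋃ i, Y i) :
    ∃ i, Z ⊆ Y i := by
  obtain ⟨x, hx⟩ := hZ.nonempty
  obtain ⟨W, hW, hfin⟩ := hlf x
  obtain ⟨U, hUW, hU, hxU⟩ := mem_nhds_iff.mp hW
  have hsub : Z ⊆ ⋃ i : {i | (Y i ∩ W).Nonempty}, Y i := by
    have hcl : IsClosed (⋃ i : {i | (Y i ∩ W).Nonempty}, Y i) :=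
      have := hfin.to_subtype
      isClosed_iUnion_of_finite fun i => hY i
    refine (subset_closure_inter_of_isPreirreducible_of_isOpen hZ.isPreirreducible hU ⟨x, hx, hxU⟩).trans
      (closure_minimal (fun y hy => ?_) hcl)
    obtain ⟨i, hi⟩ := mem_iUnion.mp (h hy.1)
    exact mem_iUnion.mpr ⟨⟨i, y, hi, hUW hy.2⟩, hi⟩
  have := hfin.to_subtype
  obtain ⟨i, hi⟩ := exists_subset_of_finite_cover (fun i : {i | (Y i ∩ W).Nonempty} => hY i) hZ hsub
  exact ⟨i, hi⟩

theorem nonneg [Nonempty X] : (0 : WithBot ℕ∞) ≤ topologicalKrullDim X := by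
  obtain ⟨x⟩ := ‹Nonempty X›
  exact Order.krullDim_nonneg_iff.mpr ⟨⟨closure {x}, isIrreducible_singleton.closure, isClosed_closure⟩⟩

theorem eq_bot [IsEmpty X] : topologicalKrullDim X = ⊥ :=
  Order.krullDim_eq_bot_iff.mpr ⟨fun Z => IsEmpty.false Z.isIrreducible.nonempty.some⟩

theorem discreteTopology_of_dim_le_zero [NoetherianSpace X] [T0Space X]
    (h : topologicalKrullDim X ≤ 0) : Finite X ∧ DiscreteTopology X := by
  rw [topologicalKrullDim, Order.krullDim_nonpos_iff_forall_isMin] at h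
  have key : ∀ Z : IrreducibleCloseds X, ∃ x, (Z : Set X) = {x} := fun Z => by
    obtain ⟨x, hx, hxc⟩ := IsClosed.exists_closed_singleton Z.isClosed Z.isIrreducible.nonempty
    refine ⟨x, subset_antisymm ?_ (singleton_subset_iff.mpr hx)⟩
    exact h Z (b := ⟨{x}, isIrreducible_singleton, hxc⟩) (singleton_subset_iff.mpr hx)
  have hT1 : T1Space X := ⟨fun x => by
    obtain ⟨y, hy⟩ := key ⟨closure {x}, isIrreducible_singleton.closure, isClosed_closure⟩
    have hyx : x = y := hy.subset (subset_closure (mem_singleton x))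
    rw [hyx, ← hy]
    exact isClosed_closure⟩
  have hfin : Finite X := by
    rw [← finite_univ_iff]
    refine (NoetherianSpace.finite_irreducibleComponents (α := X)).sUnion ?_ |>.subset
      (sUnion_irreducibleComponents.ge)
    intro Z hZ
    obtain ⟨x, hx⟩ := key ⟨Z, hZ.1, isClosed_of_mem_irreducibleComponents Z hZ⟩
    rw [show Z = {x} from hx]
    exact finite_singleton x
  exact ⟨hfin, inferInstance⟩

end Groth.L06.Dim
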