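import Groth.Agent.L06.FlatFibre
import Mathlib.RingTheory.Nilpotent.GeometricallyReduced
import Mathlib.RingTheory.TensorProduct.Basic
import Mathlib.RingTheory.EssentialFiniteness
import Mathlib.FieldTheory.IntermediateField.Adjoin.Basic
import Mathlib.FieldTheory.AlgebraicClosure
import Mathlib.RingTheory.Flat.FaithfullyFlat.Basic
import Mathlib.RingTheory.Ideal.MinimalPrime.Noetherian
import Mathlib.LinearAlgebra.TensorProduct.Pi

/-! Fibres of composites: permanence of `(S_n)` and geometric reducedness. -/

set_option autoImplicit false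
set_option linter.style.haveILetI false
universe u

namespace Groth.L06.FibreComp

open TensorProduct IsLocalRing

theorem hasSk_of_ringEquiv {R R' : Type u} [CommRing R] [CommRing R'] [IsNoetherianRing R] (e : R ≃+* R')
    (k : ℕ) (h : LocCoh.HasSk k R R) : LocCoh.HasSk k R' R' := by
  rw [Groth.L06.FlatFibre.hasSk_self_iff] at h ⊢
  intro p _
  let p₀ := p.comap (e : R →+* R')
  let eL : Localization.AtPrime p₀ ≃+* Localization.AtPrime p :=
    IsLocalization.ringEquivOfRingEquiv (M := p₀.primeCompl) (T := p.primeCompl) _ _ e (by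
      ext x
      rw [Submonoid.mem_map]
      constructor
      · rintro ⟨y, hy, rfl⟩; exact hy
      · intro hx
        refine ⟨e.symm x, ?_, e.apply_symm_apply x⟩
        show e (e.symm x) ∉ p
        rwa [e.apply_symm_apply])
  rw [← ringKrullDim_eq_of_ringEquiv eL, Groth.L06.FlatFibre.depth_eq_of_ringEquiv eL]
  exact h p₀

/-- flatness descends along a faithfully flat second map -/
theorem flat_of_comp (A B C : Type u) [CommRing A] [CommRing B] [CommRing C] [Algebra A B] [Algebra B C]
    [Algebra A C] [IsScalarTower A B C] [Module.FaithfullyFlat B C] [Module.Flat A C] :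
    Module.Flat A B := by
  rw [Module.Flat.iff_lTensor_injective']
  intro I
  let N := ↥I
  let N' := A
  let f : I →ₗ[A] A := I.subtype
  have hf : Function.Injective f := Subtype.val_injective
  have hC := Module.Flat.lTensor_preserves_injective_linearMap (M := C) f hf
  let g : B ⊗[A] N →ₗ[B] B ⊗[A] N' := f.baseChange B
  have hg : Function.Injective (g.lTensor C) := by
    have key : ∀ z, AlgebraTensorModule.cancelBaseChange A B B C N' (g.lTensor C z) =
        f.lTensor C (AlgebraTensorModule.cancelBaseChange A B B C N z) := by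
      intro z
      induction z using TensorProduct.induction_on with
      | zero => simp
      | tmul c w =>
        induction w using TensorProduct.induction_on with
        | zero => simp
        | tmul b n => simp [g]
        | add x y hx hy => simp only [TensorProduct.tmul_add, map_add, hx, hy]
      | add x y hx hy => simp only [map_add, hx, hy]
    intro z z' hzz'
    refine (AlgebraTensorModule.cancelBaseChange A B B C N).injective (hC ?_)
    rw [← key, ← key, hzz']
  exact (Module.FaithfullyFlat.lTensor_injective_iff_injective B C g).mp hg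

variable {B C : Type u} [CommRing B] [CommRing C] [Algebra B C]

/-- fibres of a base change -/
theorem exists_fibre_baseChange {R' : Type u} [CommRing R'] [Algebra B R'] (Q : Ideal R') [Q.IsPrime] :
    ∃ (_ : Algebra (Q.comap (algebraMap B R')).ResidueField Q.ResidueField),
      IsScalarTower B (Q.comap (algebraMap B R')).ResidueField Q.ResidueField ∧
      Nonempty (Q.Fiber (R' ⊗[B] C) ≃+*
        Q.ResidueField ⊗[(Q.comap (algebraMap B R')).ResidueField] (Q.comap (algebraMap B R')).Fiber C) := by
  let q := Q.comap (algebraMap B R')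
  letI : Algebra q.ResidueField Q.ResidueField := (Ideal.ResidueField.map q Q (algebraMap B R') rfl).toAlgebra
  haveI : IsScalarTower B q.ResidueField Q.ResidueField := IsScalarTower.of_algebraMap_eq fun b => by
    rw [IsScalarTower.algebraMap_apply B R' Q.ResidueField]
    exact (Ideal.ResidueField.map_algebraMap q Q (algebraMap B R') rfl b).symm
  exact ⟨inferInstance, inferInstance, ⟨((Algebra.TensorProduct.cancelBaseChange B R' R' Q.ResidueField C).toRingEquiv).trans
    (Algebra.TensorProduct.cancelBaseChange B q.ResidueField q.ResidueField Q.ResidueField C).toRingEquiv.symm⟩⟩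

section

variable {A : Type u} [CommRing A] [Algebra A B] (p : Ideal A) [p.IsPrime]
  (k' : Type u) [Field k'] [Algebra p.ResidueField k'] [Algebra A k'] [IsScalarTower A p.ResidueField k']

/-- residue fields of `B ⊗_A k'` are generated by those of `B` and by `k'` -/
theorem residueField_eq_top (Q : Ideal (B ⊗[A] k')) [Q.IsPrime]
    [Algebra (Q.comap (algebraMap B (B ⊗[A] k'))).ResidueField Q.ResidueField]
    [IsScalarTower B (Q.comap (algebraMap B (B ⊗[A] k'))).ResidueField Q.ResidueField]
    (S : IntermediateField (Q.comap (algebraMap B (B ⊗[A] k'))).ResidueField Q.ResidueField)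
    (hS : ∀ c : k', algebraMap (B ⊗[A] k') Q.ResidueField (1 ⊗ₜ c) ∈ S) : S = ⊤ := by
  have h : ∀ x : B ⊗[A] k', algebraMap (B ⊗[A] k') Q.ResidueField x ∈ S := by
    intro x
    induction x using TensorProduct.induction_on with
    | zero => rw [map_zero]; exact zero_mem _
    | tmul b c =>
      rw [show b ⊗ₜ[A] c = algebraMap B (B ⊗[A] k') b * (1 ⊗ₜ c) by simp, map_mul,
        ← IsScalarTower.algebraMap_apply B (B ⊗[A] k') Q.ResidueField,
        IsScalarTower.algebraMap_apply B (Q.comap (algebraMap B (B ⊗[A] k'))).ResidueField Q.ResidueField]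
      exact mul_mem (IntermediateField.algebraMap_mem S _) (hS c)
    | add x y hx hy => rw [map_add]; exact add_mem hx hy
  refine eq_top_iff.mpr fun z _ => ?_
  obtain ⟨a, b, -, rfl⟩ := IsFractionRing.div_surjective (A := (B ⊗[A] k') ⧸ Q) z
  obtain ⟨a, rfl⟩ := Ideal.Quotient.mk_surjective a
  obtain ⟨b, rfl⟩ := Ideal.Quotient.mk_surjective b
  exact div_mem (h a) (h b)

theorem exists_residueField_map (Q : Ideal (B ⊗[A] k')) [Q.IsPrime]
    [Algebra (Q.comap (algebraMap B (B ⊗[A] k'))).ResidueField Q.ResidueField]
    [IsScalarTower B (Q.comap (algebraMap B (B ⊗[A] k'))).ResidueField Q.ResidueField] :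
    ∃ j : p.ResidueField →+* (Q.comap (algebraMap B (B ⊗[A] k'))).ResidueField, ∀ x,
      algebraMap (Q.comap (algebraMap B (B ⊗[A] k'))).ResidueField Q.ResidueField (j x) =
        algebraMap (B ⊗[A] k') Q.ResidueField (1 ⊗ₜ algebraMap p.ResidueField k' x) := by
  let q := Q.comap (algebraMap B (B ⊗[A] k'))
  let φ : p.ResidueField →+* Q.ResidueField := (algebraMap (B ⊗[A] k') Q.ResidueField).comp
    ((Algebra.TensorProduct.includeRight (R := A) (A := B) (B := k')).toRingHom.comp (algebraMap p.ResidueField k'))
  have hφ : ∀ a : A, φ (algebraMap A p.ResidueField a) = algebraMap B Q.ResidueField (algebraMap A B a) := fun a => by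
    show algebraMap (B ⊗[A] k') Q.ResidueField (1 ⊗ₜ algebraMap p.ResidueField k' (algebraMap A p.ResidueField a)) = _
    rw [← IsScalarTower.algebraMap_apply, IsScalarTower.algebraMap_apply B (B ⊗[A] k') Q.ResidueField]
    congr 1
    exact (Algebra.TensorProduct.includeRight (R := A) (A := B) (B := k')).commutes a
  have hp : p = q.comap (algebraMap A B) := by
    ext a
    rw [Ideal.mem_comap, ← Ideal.algebraMap_residueField_eq_zero (I := q), ← Ideal.algebraMap_residueField_eq_zero (I := p),
      ← map_eq_zero (algebraMap q.ResidueField Q.ResidueField), ← IsScalarTower.algebraMap_apply,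
      ← hφ, map_eq_zero_iff φ φ.injective]
  refine ⟨Ideal.ResidueField.map p q (algebraMap A B) hp, RingHom.congr_fun (f :=
    (algebraMap q.ResidueField Q.ResidueField).comp (Ideal.ResidueField.map p q (algebraMap A B) hp)) (g := φ) ?_⟩
  refine Ideal.ResidueField.ringHom_ext (RingHom.ext fun a => ?_)
  simp only [RingHom.comp_apply, Ideal.ResidueField.map_algebraMap, hφ]
  exact (IsScalarTower.algebraMap_apply B q.ResidueField Q.ResidueField _).symm

theorem bijective_residueField (Q : Ideal (B ⊗[A] p.ResidueField)) [Q.IsPrime]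
    [Algebra (Q.comap (algebraMap B (B ⊗[A] p.ResidueField))).ResidueField Q.ResidueField]
    [IsScalarTower B (Q.comap (algebraMap B (B ⊗[A] p.ResidueField))).ResidueField Q.ResidueField] :
    Function.Bijective (algebraMap (Q.comap (algebraMap B (B ⊗[A] p.ResidueField))).ResidueField Q.ResidueField) := by
  refine ⟨RingHom.injective _, fun z => ?_⟩
  obtain ⟨j, hj⟩ := exists_residueField_map p p.ResidueField Q
  have h := residueField_eq_top p.ResidueField Q ⊥ fun c => IntermediateField.mem_bot.mpr ⟨j c, hj c⟩
  exact IntermediateField.mem_bot.mp (h ▸ IntermediateField.mem_top)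

theorem isAlgebraic_residueField [Algebra.IsAlgebraic p.ResidueField k'] (Q : Ideal (B ⊗[A] k')) [Q.IsPrime]
    [Algebra (Q.comap (algebraMap B (B ⊗[A] k'))).ResidueField Q.ResidueField]
    [IsScalarTower B (Q.comap (algebraMap B (B ⊗[A] k'))).ResidueField Q.ResidueField] :
    Algebra.IsAlgebraic (Q.comap (algebraMap B (B ⊗[A] k'))).ResidueField Q.ResidueField := by
  obtain ⟨j, hj⟩ := exists_residueField_map p k' Q
  let φ : k' →+* Q.ResidueField := (algebraMap (B ⊗[A] k') Q.ResidueField).comp
    (Algebra.TensorProduct.includeRight (R := A) (A := B) (B := k')).toRingHom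
  let S := algebraicClosure (Q.comap (algebraMap B (B ⊗[A] k'))).ResidueField Q.ResidueField
  have h : S = ⊤ := residueField_eq_top k' Q S fun c => by
    refine mem_algebraicClosure_iff.mpr (IsIntegral.isAlgebraic ?_)
    exact (Algebra.IsIntegral.isIntegral (R := p.ResidueField) c).map_of_comp_eq j φ (RingHom.ext fun x => hj x)
  exact ⟨fun z => mem_algebraicClosure_iff.mp (h ▸ IntermediateField.mem_top : z ∈ S)⟩

/-- `k' ⊗_{k(p)} (k(p) ⊗_A C) ≅ (B ⊗_A k') ⊗_B C` -/
noncomputable def fibreEquiv [Algebra A C] [IsScalarTower A B C] :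
    k' ⊗[p.ResidueField] p.Fiber C ≃+* (B ⊗[A] k') ⊗[B] C :=
  ((Algebra.TensorProduct.cancelBaseChange A p.ResidueField p.ResidueField k' C).toRingEquiv).trans
    (((Algebra.TensorProduct.comm A k' C).toRingEquiv).trans
      (((Algebra.TensorProduct.cancelBaseChange A B B C k').symm.toRingEquiv).trans
        (Algebra.TensorProduct.comm B C (B ⊗[A] k')).toRingEquiv))

noncomputable def fibreEquivBase : k' ⊗[p.ResidueField] p.Fiber B ≃+* B ⊗[A] k' :=
  ((Algebra.TensorProduct.cancelBaseChange A p.ResidueField p.ResidueField k' B).toRingEquiv).trans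
    (Algebra.TensorProduct.comm A k' B).toRingEquiv

theorem isNoetherianRing_baseChange [Module.Finite p.ResidueField k'] [IsNoetherianRing B] :
    IsNoetherianRing (B ⊗[A] k') := by
  haveI : Algebra.EssFiniteType A k' := Algebra.EssFiniteType.comp A p.ResidueField k'
  exact Algebra.EssFiniteType.isNoetherianRing B (B ⊗[A] k')

end

/-- reducedness ascends along a flat map with reduced fibres -/
theorem isReduced_of_flat {R S : Type u} [CommRing R] [IsNoetherianRing R] [CommRing S] [Algebra R S]
    [Module.Flat R S] [IsReduced R] (h : ∀ (p : Ideal R) [p.IsPrime], IsReduced (p.Fiber S)) :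
    IsReduced S := by
  classical
  let ι := {p : Ideal R // p ∈ minimalPrimes R}
  haveI : Fintype ι := (minimalPrimes.finite_of_isNoetherianRing R).fintype
  haveI : ∀ i : ι, i.1.IsPrime := fun i => i.2.1.1
  let f : R →ₗ[R] (∀ i : ι, i.1.ResidueField) := LinearMap.pi fun i => Algebra.linearMap R i.1.ResidueField
  have hf : Function.Injective f := by
    rw [← LinearMap.ker_eq_bot, eq_bot_iff]
    intro x hx
    have h0 : ∀ q ∈ minimalPrimes R, x ∈ q := fun q hq => by
      haveI := hq.1.1
      exact Ideal.algebraMap_residueField_eq_zero.mp (congrFun (LinearMap.mem_ker.mp hx) ⟨q, hq⟩)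
    have : x ∈ nilradical R := by
      rw [nilradical, Ideal.zero_eq_bot, ← Ideal.sInf_minimalPrimes]
      exact Submodule.mem_sInf.mpr h0
    rw [nilradical_eq_bot_iff.mpr ‹IsReduced R›] at this
    exact this
  have hinj := Module.Flat.lTensor_preserves_injective_linearMap (M := S) f hf
  refine ⟨fun x hx => ?_⟩
  have hx1 : ∀ i : ι, algebraMap S (S ⊗[R] i.1.ResidueField) x = 0 := fun i => by
    haveI := h i.1
    haveI : IsReduced (S ⊗[R] i.1.ResidueField) := isReduced_of_injective _ (Algebra.TensorProduct.comm R S i.1.ResidueField).injective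
    exact (hx.map _).eq_zero
  have h1 : TensorProduct.piRight R R S (fun i : ι => i.1.ResidueField) (f.lTensor S (x ⊗ₜ[R] (1 : R))) = 0 := by
    funext i
    simp only [LinearMap.lTensor_tmul, TensorProduct.piRight_apply, TensorProduct.piRightHom_tmul]
    show x ⊗ₜ[R] (algebraMap R i.1.ResidueField 1) = 0
    rw [map_one]
    exact hx1 i
  have h2 := hinj (((LinearEquiv.map_eq_zero_iff _).mp h1).trans (map_zero _).symm)
  simpa using congrArg (TensorProduct.rid R S) h2

end Groth.L06.FibreComp
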