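import Groth.Prelude.Def_Found
import Mathlib.RingTheory.AdicCompletion.Algebra
import Mathlib.RingTheory.RingHom.Flat
import Mathlib.RingTheory.RegularLocalRing.Defs
import Mathlib.RingTheory.TensorProduct.Maps
import Mathlib.RingTheory.LocalRing.ResidueField.Fiber
import Mathlib.RingTheory.Finiteness.Basic

/-! Transport of regular homomorphisms and G-rings along ring isomorphisms. -/

set_option autoImplicit false
set_option linter.style.haveILetI false
universe u

namespace Groth.L06.GRingTransport

open scoped TensorProduct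

variable {R R' : Type u} [CommRing R] [CommRing R']

theorem pow_le_comap (φ : R →+* R') (I : Ideal R) (J : Ideal R') (h : I.map φ ≤ J) (n : ℕ) :
    I ^ n ≤ (J ^ n).comap φ :=
  Ideal.map_le_iff_le_comap.mp ((Ideal.map_pow φ I n).trans_le (Ideal.pow_right_mono h n))

theorem compat (φ : R →+* R') (I : Ideal R) (J : Ideal R') (h : I.map φ ≤ J) {m n : ℕ} (hle : m ≤ n) :
    (Ideal.Quotient.factorPow J hle).comp
      ((Ideal.quotientMap (J ^ n) φ (pow_le_comap φ I J h n)).comp (AdicCompletion.evalₐ I n).toRingHom) =
    (Ideal.quotientMap (J ^ m) φ (pow_le_comap φ I J h m)).comp (AdicCompletion.evalₐ I m).toRingHom :=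
  RingHom.ext fun x => by
    obtain ⟨c, rfl⟩ := AdicCompletion.mk_surjective I R x
    simp only [RingHom.comp_apply, AlgHom.toRingHom_eq_coe, RingHom.coe_coe, AdicCompletion.evalₐ_mk,
      Ideal.quotientMap_mk, Ideal.Quotient.factor_mk]
    rw [Ideal.Quotient.eq, ← map_sub]
    have := c.2 hle
    rw [SModEq.sub_mem, smul_eq_mul, Ideal.mul_top] at this
    exact pow_le_comap φ I J h m (by simpa using neg_mem this)

/-- the map induced on adic completions -/
noncomputable def mapCompletion (φ : R →+* R') (I : Ideal R) (J : Ideal R') (h : I.map φ ≤ J) :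
    AdicCompletion I R →+* AdicCompletion J R' :=
  AdicCompletion.liftRingHom J
    (fun n => (Ideal.quotientMap (J ^ n) φ (pow_le_comap φ I J h n)).comp (AdicCompletion.evalₐ I n).toRingHom)
    (compat φ I J h)

theorem evalₐ_mapCompletion (φ : R →+* R') (I : Ideal R) (J : Ideal R') (h : I.map φ ≤ J)
    (n : ℕ) (x : AdicCompletion I R) (a : R) (ha : AdicCompletion.evalₐ I n x = Ideal.Quotient.mk _ a) :
    AdicCompletion.evalₐ J n (mapCompletion φ I J h x) = Ideal.Quotient.mk _ (φ a) := by
  have : AdicCompletion.evalₐ J n (mapCompletion φ I J h x) =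
      Ideal.quotientMap (J ^ n) φ (pow_le_comap φ I J h n) (AdicCompletion.evalₐ I n x) :=
    AdicCompletion.evalₐ_liftRingHom J _ (compat φ I J h) n x
  rw [this, ha, Ideal.quotientMap_mk]

theorem mapCompletion_algebraMap (φ : R →+* R') (I : Ideal R) (J : Ideal R') (h : I.map φ ≤ J) (r : R) :
    mapCompletion φ I J h (algebraMap R _ r) = algebraMap R' _ (φ r) := by
  refine AdicCompletion.ext_evalₐ fun n => ?_
  rw [evalₐ_mapCompletion φ I J h n _ r (by rw [AlgHom.commutes]; rfl), AlgHom.commutes]
  rfl

/-- the isomorphism of adic completions induced by an isomorphism -/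
noncomputable def completionEquiv (e : R ≃+* R') (I : Ideal R) (J : Ideal R')
    (h : I.map (e : R →+* R') ≤ J) (h' : J.map (e.symm : R' →+* R) ≤ I) :
    AdicCompletion I R ≃+* AdicCompletion J R' :=
  RingEquiv.ofRingHom (mapCompletion (e : R →+* R') I J h) (mapCompletion (e.symm : R' →+* R) J I h')
    (RingHom.ext fun x => AdicCompletion.ext_evalₐ fun n => by
      obtain ⟨a, ha⟩ := Ideal.Quotient.mk_surjective (AdicCompletion.evalₐ J n x)
      rw [RingHom.comp_apply, evalₐ_mapCompletion _ _ _ _ n _ _ (evalₐ_mapCompletion _ _ _ h' n x a ha.symm)]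
      simp [← ha])
    (RingHom.ext fun x => AdicCompletion.ext_evalₐ fun n => by
      obtain ⟨a, ha⟩ := Ideal.Quotient.mk_surjective (AdicCompletion.evalₐ I n x)
      rw [RingHom.comp_apply, evalₐ_mapCompletion _ _ _ _ n _ _ (evalₐ_mapCompletion _ _ _ h n x a ha.symm)]
      simp [← ha])

theorem completionEquiv_algebraMap (e : R ≃+* R') (I : Ideal R) (J : Ideal R')
    (h : I.map (e : R →+* R') ≤ J) (h' : J.map (e.symm : R' →+* R) ≤ I) (r : R) :
    completionEquiv e I J h h' (algebraMap R _ r) = algebraMap R' _ (e r) :=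
  mapCompletion_algebraMap _ _ _ h r

/-- regular homomorphisms are stable under isomorphism of source and target -/
theorem isRegularHom_of_ringEquiv {S S' : Type u} [CommRing S] [CommRing S'] [Algebra R S] [Algebra R' S']
    (e : R ≃+* R') (ε : S ≃+* S') (hε : ∀ r, ε (algebraMap R S r) = algebraMap R' S' (e r))
    (H : CAlg.IsRegularHom R S) : CAlg.IsRegularHom R' S' := by
  obtain ⟨hflat, hfib⟩ := H
  letI : Algebra R R' := (e : R →+* R').toAlgebra
  letI : Algebra R S' := ((algebraMap R' S').comp (e : R →+* R')).toAlgebra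
  haveI : IsScalarTower R R' S' := IsScalarTower.of_algebraMap_eq' rfl
  let ε' : S ≃ₐ[R] S' := AlgEquiv.ofRingEquiv (f := ε) hε
  refine ⟨?_, ?_⟩
  · rw [← RingHom.flat_algebraMap_iff]
    have : algebraMap R' S' = ((ε : S →+* S').comp (algebraMap R S)).comp (e.symm : R' →+* R) := by
      ext r; simp [hε]
    rw [this]
    exact (RingHom.Flat.of_bijective e.symm.bijective).comp
      ((RingHom.flat_algebraMap_iff.mpr hflat).comp (RingHom.Flat.of_bijective ε.bijective))
  intro p' _
  let p : Ideal R := p'.comap (e : R →+* R')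
  haveI : p.IsPrime := Ideal.IsPrime.comap _
  let ψ : p.ResidueField →+* p'.ResidueField := Ideal.ResidueField.lift p
    ((algebraMap R' p'.ResidueField).comp (e : R →+* R'))
    (fun x hx => by
      rw [RingHom.mem_ker, RingHom.comp_apply, Ideal.algebraMap_residueField_eq_zero]
      exact hx)
    (fun x hx => by
      refine Ne.isUnit (fun h0 => hx ?_)
      rwa [RingHom.comp_apply, Ideal.algebraMap_residueField_eq_zero] at h0)
  letI := ψ.toAlgebra
  haveI : IsScalarTower R p.ResidueField p'.ResidueField := IsScalarTower.of_algebraMap_eq fun r =>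
    (Ideal.ResidueField.lift_algebraMap _ _ _ _ r).symm
  have hψsurj : Function.Surjective (algebraMap p.ResidueField p'.ResidueField) := by
    intro z
    obtain ⟨a, b, -, rfl⟩ := IsFractionRing.div_surjective (A := R' ⧸ p') z
    obtain ⟨a, rfl⟩ := Ideal.Quotient.mk_surjective a
    obtain ⟨b, rfl⟩ := Ideal.Quotient.mk_surjective b
    refine ⟨algebraMap R _ (e.symm a) / algebraMap R _ (e.symm b), ?_⟩
    rw [map_div₀, ← IsScalarTower.algebraMap_apply, ← IsScalarTower.algebraMap_apply,
      IsScalarTower.algebraMap_apply R R' p'.ResidueField, IsScalarTower.algebraMap_apply R R' p'.ResidueField]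
    simp [RingHom.algebraMap_toAlgebra]
    all_goals rfl
  haveI : Module.Finite p.ResidueField p'.ResidueField :=
    Module.Finite.of_surjective (Algebra.linearMap p.ResidueField p'.ResidueField) hψsurj
  have key : ∀ (k' : Type u) [Field k'] [Algebra p'.ResidueField k'], Module.Finite p'.ResidueField k' →
      IsRegularRing (k' ⊗[p'.ResidueField] p'.Fiber S') := by
    intro k' _ _ hk
    letI : Algebra p.ResidueField k' := ((algebraMap p'.ResidueField k').comp ψ).toAlgebra
    haveI : IsScalarTower p.ResidueField p'.ResidueField k' := IsScalarTower.of_algebraMap_eq' rfl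
    letI : Algebra R k' := ((algebraMap p.ResidueField k').comp (algebraMap R p.ResidueField)).toAlgebra
    haveI : IsScalarTower R p.ResidueField k' := IsScalarTower.of_algebraMap_eq' rfl
    letI : Algebra R' k' := ((algebraMap p'.ResidueField k').comp (algebraMap R' p'.ResidueField)).toAlgebra
    haveI : IsScalarTower R' p'.ResidueField k' := IsScalarTower.of_algebraMap_eq' rfl
    haveI : IsScalarTower R R' k' := IsScalarTower.of_algebraMap_eq fun r => by
      show algebraMap p'.ResidueField k' (ψ (algebraMap R _ r)) = algebraMap p'.ResidueField k' (algebraMap R' _ (e r))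
      exact congrArg _ (Ideal.ResidueField.lift_algebraMap _ _ _ _ r)
    haveI : Module.Finite p.ResidueField k' := Module.Finite.trans p'.ResidueField k'
    haveI := (hfib p).2 k' inferInstance
    haveI : TensorProduct.CompatibleSMul R R' k' S' := ⟨fun r' m n => by
      obtain ⟨r, rfl⟩ := e.surjective r'
      change (algebraMap R R' r • m) ⊗ₜ[R] n = m ⊗ₜ[R] (algebraMap R R' r • n)
      rw [algebraMap_smul, algebraMap_smul, TensorProduct.smul_tmul]⟩
    have e1 : k' ⊗[p.ResidueField] p.Fiber S ≃+* k' ⊗[R] S :=
      (Algebra.TensorProduct.cancelBaseChange R p.ResidueField p.ResidueField k' S).toRingEquiv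
    have e2 : k' ⊗[R] S ≃+* k' ⊗[R] S' := (Algebra.TensorProduct.congr (S := R) AlgEquiv.refl ε').toRingEquiv
    have e3 : k' ⊗[R'] S' ≃+* k' ⊗[R] S' := (Algebra.TensorProduct.equivOfCompatibleSMul R R' R k' S').symm.toRingEquiv.symm
    have e4 : k' ⊗[p'.ResidueField] p'.Fiber S' ≃+* k' ⊗[R'] S' :=
      (Algebra.TensorProduct.cancelBaseChange R' p'.ResidueField p'.ResidueField k' S').toRingEquiv
    exact IsRegularRing.of_ringEquiv (R := k' ⊗[p.ResidueField] p.Fiber S) ((e1.trans e2).trans (e3.symm.trans e4.symm))
  refine ⟨?_, key⟩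
  haveI : IsNoetherianRing (p'.ResidueField ⊗[p'.ResidueField] p'.Fiber S') :=
    (key p'.ResidueField inferInstance).toIsNoetherian
  exact isNoetherianRing_of_ringEquiv _ (Algebra.TensorProduct.lid p'.ResidueField (p'.Fiber S')).toRingEquiv

/-- regularity of the completion map is invariant under isomorphism of local rings -/
theorem isRegularHom_completion_of_ringEquiv [IsLocalRing R] [IsLocalRing R'] (e : R ≃+* R')
    (H : CAlg.IsRegularHom R (AdicCompletion (IsLocalRing.maximalIdeal R) R)) :
    CAlg.IsRegularHom R' (AdicCompletion (IsLocalRing.maximalIdeal R') R') := by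
  refine isRegularHom_of_ringEquiv e (completionEquiv e _ _ ?_ ?_) (completionEquiv_algebraMap e _ _ _ _) H
  · exact IsLocalRing.map_maximalIdeal_le (e : R →+* R')
  · exact IsLocalRing.map_maximalIdeal_le (e.symm : R' →+* R)

end Groth.L06.GRingTransport
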