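import Groth.Agent.L06.RegLocus
import Groth.Agent.S2650
import Groth.Agent.S9406
import Groth.Agent.L21.Smooth.EtaleRegular
import Mathlib.RingTheory.MvPolynomial.Localization
import Mathlib.RingTheory.RegularLocalRing.Polynomial
import Mathlib.RingTheory.Smooth.StandardSmoothOfFree
import Mathlib.RingTheory.Smooth.Locus
import Mathlib.RingTheory.RingHom.StandardSmooth
import Mathlib.RingTheory.RingHom.LocallyStandardSmooth
import Mathlib.RingTheory.Etale.Field
import Mathlib.RingTheory.Spectrum.Prime.FreeLocus
import Mathlib.RingTheory.Ideal.GoingUp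
import Mathlib.RingTheory.AlgebraicIndependent.TranscendenceBasis
import Mathlib.RingTheory.Polynomial.SeparableDegree
import Mathlib.FieldTheory.IsAlgClosed.AlgebraicClosure
import Mathlib.FieldTheory.SeparableClosure
import Mathlib.FieldTheory.Perfect

/-! J-0 for finite type domains from J-0 for finite domains. -/

set_option autoImplicit false
set_option linter.style.haveILetI false
universe u

namespace Groth.L06.J2

open IsLocalRing

/-- regular on a nonempty basic open -/
def J0 (A : Type u) [CommRing A] : Prop :=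
  ∃ f : A, f ≠ 0 ∧ ∀ q : PrimeSpectrum A, f ∉ q.asIdeal → q ∈ EGA4.regLocus A

theorem j0_iff {A : Type u} [CommRing A] [IsDomain A] :
    J0 A ↔ ∃ U : Set (PrimeSpectrum A), IsOpen U ∧ U.Nonempty ∧ U ⊆ EGA4.regLocus A := by
  refine ⟨fun ⟨f, hf, h⟩ => ⟨_, (PrimeSpectrum.basicOpen f).isOpen, ⟨⟨⊥, Ideal.isPrime_bot⟩, fun hm => hf (by simpa using hm)⟩, fun q hq => h q hq⟩, ?_⟩
  rintro ⟨U, hU, hne, hsub⟩
  obtain ⟨f, hf, h⟩ := Groth.L06.RegLocus.exists_basicOpen hU hne
  exact ⟨f, hf, fun q hq => hsub (h q hq)⟩

theorem isRegularRing_away {R : Type u} [CommRing R] [IsNoetherianRing R] (f : R) (Rf : Type u) [CommRing Rf]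
    [Algebra R Rf] [IsLocalization.Away f Rf]
    (h : ∀ q : PrimeSpectrum R, f ∉ q.asIdeal → q ∈ EGA4.regLocus R) : IsRegularRing Rf := by
  haveI : IsNoetherianRing Rf := IsLocalization.isNoetherianRing (Submonoid.powers f) Rf inferInstance
  refine ⟨fun P _ => ?_⟩
  have hmem : (⟨P, ‹_›⟩ : PrimeSpectrum Rf) ∈ EGA4.regLocus Rf := by
    rw [Groth.Agent.S2650.regLocus_preimage (T := Rf) (Submonoid.powers f)]
    refine h _ fun hm => ?_
    exact Ideal.IsPrime.ne_top ‹P.IsPrime› (Ideal.eq_top_of_isUnit_mem _ hm (IsLocalization.Away.algebraMap_isUnit f))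
  exact hmem

theorem regLocus_of_away {R : Type u} [CommRing R] (f : R) (Rf : Type u) [CommRing Rf]
    [Algebra R Rf] [IsLocalization.Away f Rf] [IsRegularRing Rf] (q : PrimeSpectrum R) (hq : f ∉ q.asIdeal) :
    q ∈ EGA4.regLocus R := by
  have hr : q ∈ Set.range (PrimeSpectrum.comap (algebraMap R Rf)) := by
    rw [PrimeSpectrum.localization_away_comap_range Rf f]; exact hq
  obtain ⟨P, rfl⟩ := hr
  have : P ∈ EGA4.regLocus Rf := IsRegularRing.isRegularLocalRing_localization P.asIdeal
  rwa [Groth.Agent.S2650.regLocus_preimage (R := R) (T := Rf) (Submonoid.powers f)] at this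

theorem mvPolynomial {R : Type u} [CommRing R] [IsNoetherianRing R] (f : R)
    (h : ∀ q : PrimeSpectrum R, f ∉ q.asIdeal → q ∈ EGA4.regLocus R) (σ : Type) [Finite σ]
    (Q : PrimeSpectrum (MvPolynomial σ R)) (hQ : MvPolynomial.C f ∉ Q.asIdeal) :
    Q ∈ EGA4.regLocus (MvPolynomial σ R) := by
  haveI := isRegularRing_away f (Localization.Away f) h
  letI := MvPolynomial.algebraMvPolynomial (σ := σ) (R := R) (S := Localization.Away f)
  haveI : IsLocalization.Away (MvPolynomial.C f) (MvPolynomial σ (Localization.Away f)) := by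
    have := MvPolynomial.isLocalization (σ := σ) (Submonoid.powers f) (Localization.Away f)
    rwa [Submonoid.map_powers] at this
  exact regLocus_of_away (MvPolynomial.C f) (MvPolynomial σ (Localization.Away f)) Q hQ

theorem etale_over {P A : Type u} [CommRing P] [IsNoetherianRing P] [CommRing A] [Algebra P A] [Algebra.Etale P A]
    (q : PrimeSpectrum A) (h : PrimeSpectrum.comap (algebraMap P A) q ∈ EGA4.regLocus P) : q ∈ EGA4.regLocus A := by
  let p := q.asIdeal.under P
  haveI : IsRegularLocalRing (Localization.AtPrime p) := h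
  letI := Localization.AtPrime.algebraOfLiesOver p q.asIdeal
  haveI : IsNoetherianRing A := Algebra.FiniteType.isNoetherianRing P A
  haveI : Module.Flat P A := inferInstance
  refine (Groth.L21.Smooth.regular_of_flat_of_map_maximalIdeal (Localization.AtPrime p) (Localization.AtPrime q.asIdeal) ?_).1
  have hu := ((Algebra.isUnramifiedAt_iff_map_eq P p q.asIdeal).mp inferInstance).2
  rw [← Localization.AtPrime.map_eq_maximalIdeal, Ideal.map_map,
    ← IsScalarTower.algebraMap_eq P (Localization.AtPrime p) (Localization.AtPrime q.asIdeal), hu]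

/-- smooth algebras over a ring regular on `D(f)` are regular over `D(f)` -/
theorem smooth_over {R S : Type u} [CommRing R] [IsNoetherianRing R] [CommRing S] [Algebra R S] [Algebra.Smooth R S]
    (f : R) (h : ∀ q : PrimeSpectrum R, f ∉ q.asIdeal → q ∈ EGA4.regLocus R) (Q : PrimeSpectrum S)
    (hQ : algebraMap R S f ∉ Q.asIdeal) : Q ∈ EGA4.regLocus S := by
  obtain ⟨s, hs, hstd⟩ := Algebra.Smooth.exists_span_eq_top_isStandardSmooth R S
  obtain ⟨t, hts, htQ⟩ : ∃ t ∈ s, t ∉ Q.asIdeal := by
    by_contra hc
    push Not at hc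
    exact Q.isPrime.ne_top (top_le_iff.mp (hs ▸ Ideal.span_le.mpr hc))
  haveI : Algebra.IsStandardSmooth R (Localization.Away t) := hstd t hts
  obtain ⟨n, g, hgC, hg⟩ := (RingHom.isStandardSmooth_algebraMap.mpr ‹_› : (algebraMap R (Localization.Away t)).IsStandardSmooth).exists_etale_mvPolynomial
  letI := g.toAlgebra
  haveI : Algebra.Etale (MvPolynomial (Fin n) R) (Localization.Away t) := hg
  haveI : IsNoetherianRing S := Algebra.FiniteType.isNoetherianRing R S
  haveI : IsRegularRing (Localization.Away (algebraMap S (Localization.Away t) (algebraMap R S f))) := by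
    refine isRegularRing_away (algebraMap S (Localization.Away t) (algebraMap R S f)) _ fun P hP => etale_over (P := MvPolynomial (Fin n) R) P ?_
    refine mvPolynomial f h (Fin n) _ ?_
    intro hm
    apply hP
    rw [← IsScalarTower.algebraMap_apply R S (Localization.Away t), ← hgC]
    exact hm
  have hr : Q ∈ Set.range (PrimeSpectrum.comap (algebraMap S (Localization.Away t))) := by
    rw [PrimeSpectrum.localization_away_comap_range (Localization.Away t) t]; exact htQ
  obtain ⟨P, rfl⟩ := hr
  have := regLocus_of_away (algebraMap S (Localization.Away t) (algebraMap R S f))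
    (Localization.Away (algebraMap S (Localization.Away t) (algebraMap R S f))) P hQ
  rwa [Groth.Agent.S2650.regLocus_preimage (R := S) (T := Localization.Away t) (Submonoid.powers t)] at this

/-- generic smoothness gives J-0 -/
theorem j0_of_generic {C B : Type u} [CommRing C] [IsDomain C] [IsNoetherianRing C] [CommRing B] [IsDomain B]
    [Algebra C B] [FaithfulSMul C B] [Algebra.FiniteType C B] (hC : J0 C)
    [Algebra (FractionRing C) (FractionRing B)] [IsScalarTower C (FractionRing C) (FractionRing B)]
    [Algebra.FormallySmooth (FractionRing C) (FractionRing B)] : J0 B := by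
  obtain ⟨f, hf, hfC⟩ := hC
  haveI : Algebra.FinitePresentation C B := Algebra.FinitePresentation.of_finiteType.mp inferInstance
  haveI : Algebra.FormallySmooth C (FractionRing C) := Algebra.FormallySmooth.of_isLocalization (nonZeroDivisors C)
  haveI : Algebra.FormallySmooth C (FractionRing B) := Algebra.FormallySmooth.comp C (FractionRing C) (FractionRing B)
  have hpc : (⊥ : Ideal B).primeCompl = nonZeroDivisors B := by
    ext z; simp [mem_nonZeroDivisors_iff_ne_zero]
  haveI : IsLocalization (⊥ : Ideal B).primeCompl (FractionRing B) := hpc.symm ▸ Localization.isLocalization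
  haveI : Algebra.IsSmoothAt C (⊥ : Ideal B) := Algebra.FormallySmooth.of_equiv
    ((IsLocalization.algEquiv (⊥ : Ideal B).primeCompl (FractionRing B) (Localization.AtPrime (⊥ : Ideal B))).restrictScalars C)
  obtain ⟨g, hg, hsm⟩ := Algebra.IsSmoothAt.exists_notMem_smooth C (⊥ : Ideal B)
  haveI : IsNoetherianRing B := Algebra.FiniteType.isNoetherianRing C B
  refine ⟨g * algebraMap C B f, mul_ne_zero (by simpa using hg)
    ((map_ne_zero_iff _ (FaithfulSMul.algebraMap_injective C B)).mpr hf), fun q hq => ?_⟩
  have hgq : g ∉ q.asIdeal := fun hm => hq (Ideal.mul_mem_right _ _ hm)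
  have hr : q ∈ Set.range (PrimeSpectrum.comap (algebraMap B (Localization.Away g))) := by
    rw [PrimeSpectrum.localization_away_comap_range (Localization.Away g) g]; exact hgq
  obtain ⟨P, rfl⟩ := hr
  have hPf : algebraMap C (Localization.Away g) f ∉ P.asIdeal := fun hm =>
    hq (Ideal.mul_mem_left _ _ (by rw [IsScalarTower.algebraMap_apply C B (Localization.Away g)] at hm; exact hm))
  have := smooth_over f hfC P hPf
  rwa [Groth.Agent.S2650.regLocus_preimage (R := B) (T := Localization.Away g) (Submonoid.powers g)] at this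

/-- descent along an injective finite type extension whose localisation is free -/
theorem j0_of_finite {A B : Type u} [CommRing A] [IsDomain A] [IsNoetherianRing A] [CommRing B] [IsDomain B]
    [Algebra A B] [FaithfulSMul A B] [Module.Finite A B] (hB : J0 B) : J0 A := by
  obtain ⟨g, hg, hgB⟩ := hB
  haveI : Algebra.IsIntegral A B := Algebra.IsIntegral.of_finite A B
  obtain ⟨a, ha0, ha⟩ : ∃ a : A, a ≠ 0 ∧ algebraMap A B a ∈ Ideal.span {g} := by
    have := Ideal.comap_ne_bot_of_integral_mem hg (Ideal.mem_span_singleton_self g) (Algebra.IsIntegral.isIntegral (R := A) g)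
    obtain ⟨a, ha, ha0⟩ := Submodule.exists_mem_ne_zero_of_ne_bot this
    exact ⟨a, ha0, ha⟩
  haveI : Module.FinitePresentation A B := Module.finitePresentation_of_finite A B
  have hgen : (⟨⊥, Ideal.isPrime_bot⟩ : PrimeSpectrum A) ∈ Module.freeLocus A B := by
    have hf : IsField (Localization.AtPrime (⊥ : Ideal A)) := by
      rw [IsLocalRing.isField_iff_maximalIdeal_eq, ← Localization.AtPrime.map_eq_maximalIdeal, Ideal.map_bot]
    letI := hf.toField
    show Module.Free (Localization.AtPrime (⊥ : Ideal A)) _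
    exact Module.Free.of_divisionRing _ _
  obtain ⟨r, hr, hfree⟩ := Groth.L06.RegLocus.exists_basicOpen Module.isOpen_freeLocus ⟨_, hgen⟩
  refine ⟨a * r, mul_ne_zero ha0 hr, fun q hq => ?_⟩
  haveI : IsNoetherianRing B := IsNoetherianRing.of_finite A B
  let M := Algebra.algebraMapSubmonoid B q.asIdeal.primeCompl
  let R := Localization.AtPrime q.asIdeal
  let S := Localization M
  haveI : IsNoetherianRing S := IsLocalization.isNoetherianRing M S inferInstance
  haveI : IsRegularRing S := ⟨fun P _ => by
    have h : (⟨P, ‹_›⟩ : PrimeSpectrum S) ∈ EGA4.regLocus S := by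
      rw [Groth.Agent.S2650.regLocus_preimage (T := S) M]
      refine hgB _ fun hm => ?_
      have ha' : algebraMap B S (algebraMap A B a) ∈ P := (Ideal.span_singleton_le_iff_mem _).mpr hm ha
      exact Ideal.IsPrime.ne_top ‹P.IsPrime› (Ideal.eq_top_of_isUnit_mem _ ha'
        (IsLocalization.map_units S (⟨_, a, fun h => hq (Ideal.mul_mem_right _ _ h), rfl⟩ : M)))
    exact h⟩
  haveI : IsLocalizedModule q.asIdeal.primeCompl (IsScalarTower.toAlgHom A B S).toLinearMap :=
    isLocalizedModule_iff_isLocalization.mpr inferInstance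
  haveI : Module.Free R (LocalizedModule q.asIdeal.primeCompl B) := hfree q fun h => hq (Ideal.mul_mem_left _ _ h)
  haveI : Module.Free R S := Module.Free.of_equiv
    ((IsLocalizedModule.iso q.asIdeal.primeCompl (IsScalarTower.toAlgHom A B S).toLinearMap).extendScalarsOfIsLocalization q.asIdeal.primeCompl R)
  haveI : IsDomain S := by
    refine IsLocalization.isDomain_localization (le_nonZeroDivisors_of_noZeroDivisors ?_)
    rintro ⟨x, hx, hx0⟩
    exact hx (((map_eq_zero_iff _ (FaithfulSMul.algebraMap_injective A B)).mp hx0) ▸ q.asIdeal.zero_mem)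
  haveI := Groth.Agent.S9406.result R S
  exact IsRegularLocalRing.of_isRegularRing_of_isLocalRing R

section Core

set_option maxHeartbeats 2000000

open Polynomial in
/-- an irreducible algebraic element has a `p ^ n` power which is separable, in every higher degree -/
theorem exists_forall_isSeparable {F E : Type u} [Field F] [Field E] [Algebra F E] (p : ℕ) [ExpChar F p] [ExpChar E p]
    {y : E} (hy : IsIntegral F y) : ∃ n, ∀ m, n ≤ m → IsSeparable F (y ^ p ^ m) := by
  obtain ⟨g, hg, n, hgn⟩ := (minpoly.irreducible hy).hasSeparableContraction p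
  refine ⟨n, fun m hm => ?_⟩
  have h0 : Polynomial.aeval (y ^ p ^ n) g = 0 := by rw [← Polynomial.expand_aeval, hgn, minpoly.aeval]
  have hs : IsSeparable F (y ^ p ^ n) := hg.of_dvd (minpoly.dvd F _ h0)
  obtain ⟨d, rfl⟩ := Nat.exists_eq_add_of_le hm
  rw [pow_add, pow_mul]
  exact mem_separableClosure_iff.mp (pow_mem (mem_separableClosure_iff.mpr hs) _)

/-- membership in a generated subfield only involves finitely many elements -/
theorem exists_finset_of_mem_closure {K : Type u} [Field K] {S T : Set K} {x : K}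
    (hx : x ∈ Subfield.closure (S ∪ T)) : ∃ F : Finset K, ↑F ⊆ S ∧ x ∈ Subfield.closure (↑F ∪ T) := by
  classical
  have mono : ∀ (F F' : Finset K), F ⊆ F' → Subfield.closure (↑F ∪ T) ≤ Subfield.closure (↑F' ∪ T) := fun F F' h =>
    Subfield.closure_mono (Set.union_subset_union_left T (by exact_mod_cast h))
  induction hx using Subfield.closure_induction with
  | mem x hx =>
    rcases hx with h | h
    · exact ⟨{x}, by simpa using h, Subfield.subset_closure (Or.inl (by simp))⟩
    · exact ⟨∅, by simp, Subfield.subset_closure (Or.inr h)⟩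
  | one => exact ⟨∅, by simp, one_mem _⟩
  | add x y _ _ hx hy =>
    obtain ⟨F, hF, hx⟩ := hx; obtain ⟨G, hG, hy⟩ := hy
    exact ⟨F ∪ G, by simp [hF, hG], add_mem (mono F _ Finset.subset_union_left hx) (mono G _ Finset.subset_union_right hy)⟩
  | neg x _ hx => obtain ⟨F, hF, hx⟩ := hx; exact ⟨F, hF, neg_mem hx⟩
  | inv x _ hx => obtain ⟨F, hF, hx⟩ := hx; exact ⟨F, hF, inv_mem hx⟩
  | mul x y _ _ hx hy =>
    obtain ⟨F, hF, hx⟩ := hx; obtain ⟨G, hG, hy⟩ := hy
    exact ⟨F ∪ G, by simp [hF, hG], mul_mem (mono F _ Finset.subset_union_left hx) (mono G _ Finset.subset_union_right hy)⟩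

theorem j0_of_finiteType_of_insep {A B : Type u} [CommRing A] [IsDomain A] [IsNoetherianRing A] [CommRing B] [IsDomain B]
    [Algebra A B] [FaithfulSMul A B] [Algebra.FiniteType A B]
    (h : ∀ (Ω : Type u) [Field Ω] [Algebra A Ω], Function.Injective (algebraMap A Ω) → ∀ (p : ℕ) [ExpChar Ω p]
      (R : Finset Ω) (e : ℕ), (∀ z ∈ R, z ^ p ^ e ∈ Set.range (algebraMap A Ω)) → J0 (Algebra.adjoin A (R : Set Ω))) :
    J0 B := by
  classical
  let L := FractionRing B
  let Ω := AlgebraicClosure L
  let j : B →+* Ω := algebraMap B Ω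
  have hj : Function.Injective j := by
    show Function.Injective (algebraMap B Ω)
    rw [IsScalarTower.algebraMap_eq B L Ω]
    exact (algebraMap L Ω).injective.comp (IsFractionRing.injective B L)
  haveI : IsScalarTower A B Ω := IsScalarTower.of_algebraMap_eq fun a => by
    rw [IsScalarTower.algebraMap_apply A L Ω, IsScalarTower.algebraMap_apply A B L, ← IsScalarTower.algebraMap_apply B L Ω]
  have hAΩ : Function.Injective (algebraMap A Ω) := by
    rw [IsScalarTower.algebraMap_eq A B Ω]
    exact hj.comp (FaithfulSMul.algebraMap_injective A B)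
  haveI : FaithfulSMul B Ω := (faithfulSMul_iff_algebraMap_injective B Ω).mpr hj
  obtain ⟨G, hG⟩ := Algebra.FiniteType.out (R := A) (A := B)
  haveI : Algebra.IsAlgebraic (Algebra.adjoin A (G : Set B)) B := ⟨fun b =>
    isAlgebraic_algebraMap (⟨b, hG ▸ Algebra.mem_top⟩ : Algebra.adjoin A (G : Set B))⟩
  obtain ⟨t, htG, ht⟩ := exists_isTranscendenceBasis_subset (R := A) (G : Set B)
  haveI : Finite t := (G.finite_toSet.subset htG).to_subtype
  haveI := ht.isAlgebraic
  -- the subfield generated by the transcendence basis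
  let F0 : Subfield Ω := Subfield.closure (Set.range (algebraMap A Ω) ∪ Set.range fun x : t => j x)
  have hF0 : ∀ z ∈ Algebra.adjoin A (Set.range ((↑) : t → B)), j z ∈ F0 := fun z hz => by
    induction hz using Algebra.adjoin_induction with
    | mem z hz => obtain ⟨x, rfl⟩ := hz; exact Subfield.subset_closure (Or.inr ⟨x, rfl⟩)
    | algebraMap a => exact Subfield.subset_closure (Or.inl ⟨a, rfl⟩)
    | add a b _ _ ha hb => rw [map_add]; exact add_mem ha hb
    | mul a b _ _ ha hb => rw [map_mul]; exact mul_mem ha hb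
  let i0 : Algebra.adjoin A (Set.range ((↑) : t → B)) →+* F0 := (j.comp (Subalgebra.val _).toRingHom).codRestrict F0 fun z => hF0 z z.2
  have hint : ∀ b : B, IsIntegral F0 (j b) := fun b => by
    obtain ⟨P, hP, hPb⟩ := ht.isAlgebraic.isAlgebraic b
    refine isAlgebraic_iff_isIntegral.mp ⟨P.map i0, (Polynomial.map_ne_zero_iff (fun a b hab => Subtype.ext (hj (congrArg Subtype.val hab)))).mpr hP, ?_⟩
    rw [Polynomial.aeval_def, Polynomial.eval₂_map, show (algebraMap F0 Ω).comp i0 = j.comp (algebraMap _ B) from rfl,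
      ← Polynomial.hom_eval₂, ← Polynomial.aeval_def, hPb, map_zero]
  obtain ⟨p, hp⟩ := ExpChar.exists Ω
  haveI : ExpChar F0 p := ((algebraMap F0 Ω).expChar_iff (algebraMap F0 Ω).injective p).mpr hp
  haveI : PerfectRing Ω p := PerfectField.toPerfectRing p
  choose n hn using fun b : B => exists_forall_isSeparable p (hint b)
  let e := G.sup n
  let ψ : Ω ≃+* Ω := iterateFrobeniusEquiv Ω p e
  let φ : Ω ≃+* Ω := ψ.symm
  have hφ : ∀ z : Ω, φ z ^ p ^ e = z := fun z => ψ.apply_symm_apply z
  let g : B → Polynomial F0 := fun b => minpoly F0 (j b ^ p ^ e)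
  choose T hT hTc using fun (b : B) (k : ℕ) => exists_finset_of_mem_closure ((g b).coeff k).2
  let R : Finset Ω := (G.biUnion fun b => (g b).support.biUnion fun k => T b k).image φ
  have hR : ∀ z ∈ R, z ^ p ^ e ∈ Set.range (algebraMap A Ω) := fun z hz => by
    obtain ⟨w, hw, rfl⟩ := Finset.mem_image.mp hz
    obtain ⟨b, -, hw⟩ := Finset.mem_biUnion.mp hw
    obtain ⟨k, -, hw⟩ := Finset.mem_biUnion.mp hw
    rw [hφ]; exact hT b k hw
  have hpe : 0 < p ^ e := pow_pos (expChar_pos Ω p) e
  let A' := Algebra.adjoin A (R : Set Ω)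
  haveI : Module.Finite A A' := Module.Finite.iff_fg.mpr (fg_adjoin_of_finite R.finite_toSet fun z hz => by
    obtain ⟨a, ha⟩ := hR z hz
    exact IsIntegral.of_pow hpe (ha ▸ isIntegral_algebraMap))
  have hA'pow : ∀ c ∈ A', c ^ p ^ e ∈ Set.range (algebraMap A Ω) := fun c hc => by
    induction hc using Algebra.adjoin_induction with
    | mem z hz => exact hR z hz
    | algebraMap a => exact ⟨a ^ p ^ e, map_pow _ _ _⟩
    | add a b _ _ ha hb =>
      obtain ⟨u, hu⟩ := ha; obtain ⟨v, hv⟩ := hb
      exact ⟨u + v, by rw [map_add, hu, hv, add_pow_expChar_pow]⟩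
    | mul a b _ _ ha hb =>
      obtain ⟨u, hu⟩ := ha; obtain ⟨v, hv⟩ := hb
      exact ⟨u * v, by rw [map_mul, hu, hv, mul_pow]⟩
  haveI : IsNoetherianRing A' := IsNoetherianRing.of_finite A A'
  obtain ⟨f, hf0, hf⟩ := h Ω hAΩ p R e hR
  -- the polynomial ring over `A'`
  let N := Nat.card t
  let et : Fin N ≃ t := (Finite.equivFin t).symm
  let sv : Fin N → Ω := fun i => φ (j (et i))
  let C := MvPolynomial (Fin N) A'
  let θ : C →+* Ω := MvPolynomial.eval₂Hom A'.val.toRingHom sv
  have hθ : Function.Injective θ := by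
    refine (injective_iff_map_eq_zero θ).mpr fun P hP => ?_
    choose r hr using fun c : A' => hA'pow c c.2
    let rh : A' →+* A :=
      { toFun := r
        map_one' := hAΩ (by rw [hr, map_one]; simp)
        map_mul' := fun a b => hAΩ (by rw [hr, map_mul, hr, hr]; simp [mul_pow])
        map_zero' := hAΩ (by rw [hr, map_zero, ZeroMemClass.coe_zero, zero_pow hpe.ne'])
        map_add' := fun a b => hAΩ (by rw [hr, map_add, hr, hr]; simp [add_pow_expChar_pow]) }
    have hr0 : Function.Injective rh := (injective_iff_map_eq_zero rh).mpr fun c hc => Subtype.ext <| by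
      have := hr c
      rw [show r c = 0 from hc, map_zero] at this
      exact eq_zero_of_pow_eq_zero this.symm
    have hai : AlgebraicIndependent A (fun i => (et i : B)) := ht.1.comp _ et.injective
    have : MvPolynomial.aeval (fun i => (et i : B)) (MvPolynomial.map rh P) = 0 := by
      apply hj
      rw [map_zero, MvPolynomial.aeval_def, MvPolynomial.eval₂_map, ← MvPolynomial.coe_eval₂Hom,
        MvPolynomial.map_eval₂Hom]
      have hψ := congrArg ψ hP
      rw [map_zero, show θ P = MvPolynomial.eval₂Hom A'.val.toRingHom sv P from rfl,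
        show ψ (MvPolynomial.eval₂Hom A'.val.toRingHom sv P) = ψ.toRingHom (MvPolynomial.eval₂Hom A'.val.toRingHom sv P) from rfl,
        MvPolynomial.map_eval₂Hom] at hψ
      convert hψ using 3
      · exact RingHom.ext fun c => hr c
      · funext i; exact (ψ.apply_symm_apply _).symm
    exact MvPolynomial.map_injective rh hr0 ((hai.eq_zero_of_aeval_eq_zero _ this).trans (map_zero _).symm)
  have hC : J0 C := ⟨MvPolynomial.C f, (map_ne_zero_iff _ (MvPolynomial.C_injective _ _)).mpr hf0,
    mvPolynomial f hf (Fin N)⟩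
  -- the extension `B'`
  let W : Set Ω := Set.range sv ∪ ↑R
  let B' := Algebra.adjoin B W
  let θ' : C →+* B' := θ.codRestrict B' fun P => by
    induction P using MvPolynomial.induction_on with
    | C c =>
      rw [show θ (MvPolynomial.C c) = (c : Ω) from MvPolynomial.eval₂Hom_C _ _ c]
      have : A' ≤ B'.restrictScalars A := Algebra.adjoin_le fun z hz => Algebra.subset_adjoin (Or.inr hz)
      exact this c.2
    | add P Q hP hQ => rw [map_add]; exact add_mem hP hQ
    | mul_X P i hP =>
      rw [map_mul, show θ (MvPolynomial.X i) = sv i from MvPolynomial.eval₂Hom_X' _ _ i]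
      exact mul_mem hP (Algebra.subset_adjoin (Or.inl ⟨i, rfl⟩))
  letI : Algebra C B' := θ'.toAlgebra
  haveI : FaithfulSMul C B' := (faithfulSMul_iff_algebraMap_injective C B').mpr fun a b hab => hθ (congrArg Subtype.val hab)
  have hW : W.Finite := (Set.finite_range sv).union R.finite_toSet
  haveI : Module.Finite B B' := Module.Finite.iff_fg.mpr (fg_adjoin_of_finite hW fun z hz => by
    rcases hz with ⟨i, rfl⟩ | hz
    · exact IsIntegral.of_pow hpe (by rw [show sv i ^ p ^ e = j (et i) from hφ _]; exact isIntegral_algebraMap)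
    · obtain ⟨a, ha⟩ := hR z hz
      exact IsIntegral.of_pow hpe (by rw [← ha, IsScalarTower.algebraMap_apply A B Ω]; exact isIntegral_algebraMap))
  haveI : FaithfulSMul B B' := (faithfulSMul_iff_algebraMap_injective B B').mpr fun a b hab => hj (congrArg Subtype.val hab)
  let gens : Set B' := {z | (z : Ω) ∈ W ∪ j '' (G : Set B)}
  have hgens : Algebra.adjoin C gens = ⊤ := by
    refine eq_top_iff.mpr fun z _ => ?_
    have hall : ∀ w (hw : w ∈ B'), (⟨w, hw⟩ : B') ∈ Algebra.adjoin C gens := by
      intro w hw
      induction hw using Algebra.adjoin_induction with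
      | mem w hw => exact Algebra.subset_adjoin (Or.inl hw)
      | algebraMap b =>
        have hb : b ∈ Algebra.adjoin A (G : Set B) := hG ▸ Algebra.mem_top
        induction hb using Algebra.adjoin_induction with
        | mem b hb => exact Algebra.subset_adjoin (Or.inr ⟨b, hb, rfl⟩)
        | algebraMap a =>
          have hmem : algebraMap C B' (MvPolynomial.C (algebraMap A A' a)) ∈ Algebra.adjoin C gens := Subalgebra.algebraMap_mem _ _
          convert hmem using 1
          refine Subtype.ext ?_
          show j (algebraMap A B a) = θ (MvPolynomial.C (algebraMap A A' a))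
          rw [show θ (MvPolynomial.C (algebraMap A A' a)) = algebraMap A Ω a from MvPolynomial.eval₂Hom_C _ _ _]
          rfl
        | add a b _ _ ha hb => convert add_mem ha hb using 1; exact Subtype.ext (map_add j a b)
        | mul a b _ _ ha hb => convert mul_mem ha hb using 1; exact Subtype.ext (map_mul j a b)
      | add a b _ _ ha hb => exact add_mem ha hb
      | mul a b _ _ ha hb => exact mul_mem ha hb
    exact hall z z.2
  haveI : Algebra.FiniteType C B' := by
    have hfin : gens.Finite := Set.Finite.preimage Subtype.val_injective.injOn (hW.union (G.finite_toSet.image _))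
    exact ⟨hfin.toFinset, by rwa [Set.Finite.coe_toFinset]⟩
  letI : Algebra C Ω := θ.toAlgebra
  haveI : IsScalarTower C B' Ω := IsScalarTower.of_algebraMap_eq fun P => rfl
  let M := FractionRing C
  let L' := FractionRing B'
  haveI : FaithfulSMul C Ω := (faithfulSMul_iff_algebraMap_injective C Ω).mpr hθ
  letI : Algebra M Ω := FractionRing.liftAlgebra C Ω
  haveI : FaithfulSMul C L' := (faithfulSMul_iff_algebraMap_injective C L').mpr
    ((IsFractionRing.injective B' L').comp (FaithfulSMul.algebraMap_injective C B'))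
  letI : Algebra M L' := FractionRing.liftAlgebra C L'
  let σ : L' →+* Ω := IsFractionRing.lift (g := B'.val.toRingHom) Subtype.val_injective
  have hσ : ∀ w : B', σ (algebraMap B' L' w) = (w : Ω) := fun w => IsFractionRing.lift_algebraMap _ w
  let σ' : L' →ₐ[M] Ω :=
    { σ with
      commutes' := fun m => by
        obtain ⟨a, b, -, rfl⟩ := IsFractionRing.div_surjective (A := C) m
        show σ (algebraMap M L' _) = _
        simp only [map_div₀, ← IsScalarTower.algebraMap_apply C M]
        rw [IsScalarTower.algebraMap_apply C B' L', IsScalarTower.algebraMap_apply C B' L' b]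
        rw [hσ, hσ]
        rfl }
  -- separability of the generators
  have hM : ∀ z ∈ Subfield.closure (Set.range θ), z ∈ (algebraMap M Ω).fieldRange := by
    intro z hz
    refine Subfield.closure_le.mpr ?_ hz
    rintro _ ⟨P, rfl⟩
    exact ⟨algebraMap C M P, (IsScalarTower.algebraMap_apply C M Ω P).symm⟩
  have hMθ : ∀ c : Ω, c ∈ Set.range θ → c ∈ separableClosure M Ω := fun c hc => by
    obtain ⟨m, hm⟩ := hM c (Subfield.subset_closure hc)
    exact hm ▸ IntermediateField.algebraMap_mem _ m
  have hsep : ∀ b ∈ G, IsSeparable M (j b) := by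
    intro b hb
    let P : Polynomial Ω := ((g b).map (algebraMap F0 Ω)).map φ.toRingHom
    have hcoef : ∀ k, P.coeff k ∈ (algebraMap M Ω).fieldRange := fun k => by
      refine hM _ ?_
      rw [Polynomial.coeff_map, Polynomial.coeff_map]
      by_cases hk : k ∈ (g b).support
      swap
      · rw [Polynomial.notMem_support_iff.mp hk, map_zero, map_zero]; exact zero_mem _
      have := hTc b k
      have h2 : φ.toRingHom (algebraMap F0 Ω ((g b).coeff k)) ∈ (Subfield.closure (↑(T b k) ∪ Set.range fun x : t => j x)).map φ.toRingHom :=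
        Subfield.mem_map.mpr ⟨_, this, rfl⟩
      rw [RingHom.map_field_closure] at h2
      refine Subfield.closure_mono ?_ h2
      rintro _ ⟨w, hw, rfl⟩
      rcases hw with hw | ⟨x, rfl⟩
      · have hwR : φ w ∈ R := Finset.mem_image_of_mem φ (Finset.mem_biUnion.mpr ⟨b, hb, Finset.mem_biUnion.mpr ⟨k, hk, hw⟩⟩)
        exact ⟨MvPolynomial.C ⟨φ w, Algebra.subset_adjoin hwR⟩, MvPolynomial.eval₂Hom_C _ _ _⟩
      · refine ⟨MvPolynomial.X (et.symm x), ?_⟩
        rw [show θ (MvPolynomial.X (et.symm x)) = sv (et.symm x) from MvPolynomial.eval₂Hom_X' _ _ _]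
        simp only [sv, Equiv.apply_symm_apply]
        rfl
    obtain ⟨P0, hP0⟩ : P ∈ Polynomial.lifts (algebraMap M Ω) := (Polynomial.lifts_iff_coeff_lifts P).mpr fun k => hcoef k
    have hPs : P.Separable := (Polynomial.Separable.map (p := g b) (hn b e (Finset.le_sup hb))).map
    rw [← hP0, Polynomial.coe_mapRingHom, Polynomial.separable_map] at hPs
    refine hPs.of_dvd (minpoly.dvd M _ ?_)
    rw [Polynomial.aeval_def, ← Polynomial.eval_map, show P0.map (algebraMap M Ω) = P from hP0, Polynomial.eval_map]
    have hjb : φ (j b ^ p ^ e) = j b := ψ.symm_apply_apply (j b)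
    conv_lhs => rw [← hjb]
    rw [show φ (j b ^ p ^ e) = φ.toRingHom (j b ^ p ^ e) from rfl, Polynomial.eval₂_at_apply,
      Polynomial.eval_map, ← Polynomial.aeval_def, minpoly.aeval, map_zero]
  have hsep' : ∀ z : L', σ z ∈ separableClosure M Ω := by
    intro z
    obtain ⟨a, b, -, rfl⟩ := IsFractionRing.div_surjective (A := B') z
    have hB' : ∀ w : B', (w : Ω) ∈ separableClosure M Ω := fun w => by
      have hw : w ∈ Algebra.adjoin C gens := hgens ▸ Algebra.mem_top
      induction hw using Algebra.adjoin_induction with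
      | mem w hw =>
        rcases hw with (⟨i, hi⟩ | hw) | ⟨b, hb, hb'⟩
        · exact hMθ _ ⟨MvPolynomial.X i, hi ▸ MvPolynomial.eval₂Hom_X' _ _ i⟩
        · exact hMθ _ ⟨MvPolynomial.C ⟨_, Algebra.subset_adjoin hw⟩, MvPolynomial.eval₂Hom_C _ _ _⟩
        · rw [← hb']; exact mem_separableClosure_iff.mpr (hsep b hb)
      | algebraMap P => exact hMθ _ ⟨P, rfl⟩
      | add a b _ _ ha hb => exact add_mem ha hb
      | mul a b _ _ ha hb => exact mul_mem ha hb
    rw [map_div₀]
    rw [hσ, hσ]
    exact div_mem (hB' a) (hB' b)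
  haveI : Algebra.IsSeparable M L' := ⟨fun z => IsSeparable.of_algHom σ' (mem_separableClosure_iff.mp (hsep' z))⟩
  haveI : Algebra.EssFiniteType C L' := Algebra.EssFiniteType.comp C B' L'
  haveI : Algebra.EssFiniteType M L' := Algebra.EssFiniteType.of_comp C M L'
  haveI : Algebra.FormallyEtale M L' := (Algebra.FormallyEtale.iff_isSeparable M L').mpr inferInstance
  haveI : IsNoetherianRing B := Algebra.FiniteType.isNoetherianRing A B
  exact j0_of_finite (B := B') (j0_of_generic hC)

theorem j0_of_finiteType {A B : Type u} [CommRing A] [IsDomain A] [IsNoetherianRing A] [CommRing B] [IsDomain B]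
    [Algebra A B] [FaithfulSMul A B] [Algebra.FiniteType A B]
    (h : ∀ (A' : Type u) [CommRing A'] [IsDomain A'] [Algebra A A'], Module.Finite A A' → J0 A') : J0 B :=
  j0_of_finiteType_of_insep fun Ω _ _ _ p _ R e hR =>
    haveI : Module.Finite A (Algebra.adjoin A (R : Set Ω)) := Module.Finite.iff_fg.mpr
      (fg_adjoin_of_finite R.finite_toSet fun z hz => by
        obtain ⟨a, ha⟩ := hR z hz
        exact IsIntegral.of_pow (pow_pos (expChar_pos Ω p) e) (ha ▸ isIntegral_algebraMap))
    h (Algebra.adjoin A (R : Set Ω)) inferInstance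

/-- J-2 from J-0 of the finite domains -/
theorem isJ2_of_finite_domains {A : Type u} [CommRing A] [IsNoetherianRing A]
    (h : ∀ (A' : Type u) [CommRing A'] [IsDomain A'] [Algebra A A'], Module.Finite A A' → J0 A') :
    EGA4.IsJ2 A := by
  intro S _ _ hS
  haveI : IsNoetherianRing S := Algebra.FiniteType.isNoetherianRing A S
  refine Groth.L06.RegLocus.isOpen_regLocus_of_nhds fun P hP =>
    Groth.L06.RegLocus.exists_nhd_of_quotient P hP (j0_iff.mp ?_)
  let K : Ideal A := RingHom.ker (algebraMap A (S ⧸ P.asIdeal))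
  haveI : K.IsPrime := RingHom.ker_isPrime _
  letI : Algebra (A ⧸ K) (S ⧸ P.asIdeal) := (RingHom.kerLift (algebraMap A (S ⧸ P.asIdeal))).toAlgebra
  haveI : IsScalarTower A (A ⧸ K) (S ⧸ P.asIdeal) := IsScalarTower.of_algebraMap_eq fun a => rfl
  haveI : Algebra.FiniteType (A ⧸ K) (S ⧸ P.asIdeal) := Algebra.FiniteType.of_restrictScalars_finiteType A _ _
  haveI : FaithfulSMul (A ⧸ K) (S ⧸ P.asIdeal) :=
    (faithfulSMul_iff_algebraMap_injective _ _).mpr (RingHom.kerLift_injective _)
  refine j0_of_finiteType (A := A ⧸ K) fun A' _ _ _ hfin => ?_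
  letI : Algebra A A' := ((algebraMap (A ⧸ K) A').comp (algebraMap A (A ⧸ K))).toAlgebra
  haveI : IsScalarTower A (A ⧸ K) A' := IsScalarTower.of_algebraMap_eq' rfl
  exact h A' (Module.Finite.trans (A ⧸ K) A')

end Core

end Groth.L06.J2
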