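import Groth.Agent.L06.BddDer
import Groth.Agent.L06.J2
import Mathlib.FieldTheory.KummerPolynomial
import Mathlib.FieldTheory.IntermediateField.Adjoin.Basic
import Mathlib.RingTheory.AdjoinRoot

/-! J-0 for purely inseparable finite extensions of a ring with enough bounded derivations. -/

set_option autoImplicit false
set_option linter.style.haveILetI false
universe u

namespace Groth.L06.InsepJ0

open Groth.L06.BddDer TrivSqZeroExt Polynomial

/-- a ring map to the dual numbers lifting the identity is a derivation -/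
noncomputable def derOfHom {L : Type u} [Field L] (h : L →+* DualNumber L) (hh : ∀ z, fst (h z) = z) : Derivation ℤ L L :=
  Derivation.mk' ((((TrivSqZeroExt.sndHom L L).toAddMonoidHom.comp h.toAddMonoidHom)).toIntLinearMap) fun a b => by
    show snd (h (a * b)) = a • snd (h b) + b • snd (h a)
    rw [map_mul, snd_mul, hh, hh, op_smul_eq_smul]

theorem derOfHom_apply {L : Type u} [Field L] (h : L →+* DualNumber L) (hh : ∀ z, fst (h z) = z) (z : L) :
    derOfHom h hh z = snd (h z) := rfl

variable {A K : Type u} [CommRing A] [IsDomain A] [Field K] [Algebra A K] [IsFractionRing A K]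

theorem isLocalization_away {B : Type u} [CommRing B] [Algebra A B] [Algebra B K] [IsScalarTower A B K]
    [FaithfulSMul B K] (g : A) (hg : g ≠ 0) [Algebra B (away (K := K) g)]
    (hv : ∀ b : B, (algebraMap B (away (K := K) g) b : K) = algebraMap B K b) :
    IsLocalization.Away (algebraMap A B g) (away (K := K) g) := by
  have hg' : algebraMap A K g ≠ 0 := (map_ne_zero_iff _ (IsFractionRing.injective A K)).mpr hg
  refine (isLocalization_iff _ _).mpr ⟨?_, ?_, ?_⟩
  · rintro ⟨_, n, rfl⟩
    refine IsUnit.of_mul_eq_one ⟨((algebraMap A K g) ^ n)⁻¹, n, 1, by rw [map_one, mul_inv_cancel₀ (pow_ne_zero _ hg')]⟩ (Subtype.ext ?_)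
    show (algebraMap B (away (K := K) g) (algebraMap A B g ^ n) : K) * ((algebraMap A K g) ^ n)⁻¹ = 1
    rw [hv]
    rw [map_pow, ← IsScalarTower.algebraMap_apply, mul_inv_cancel₀ (pow_ne_zero _ hg')]
  · rintro ⟨z, n, s, hs⟩
    refine ⟨(algebraMap A B s, ⟨_, n, rfl⟩), Subtype.ext ?_⟩
    show z * (algebraMap B (away (K := K) g) (algebraMap A B g ^ n) : K) = (algebraMap B (away (K := K) g) (algebraMap A B s) : K)
    rw [hv, hv]
    rw [map_pow, ← IsScalarTower.algebraMap_apply, ← IsScalarTower.algebraMap_apply, ← hs, mul_comm]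
  · intro x y hxy
    exact ⟨1, by rw [FaithfulSMul.algebraMap_injective B K ((hv x).symm.trans ((congrArg Subtype.val hxy).trans (hv y)))]⟩

/-- J-0 and separation -/
def Good (A K : Type u) [CommRing A] [Field K] [Algebra A K] (p : ℕ) : Prop := J2.J0 A ∧ Sep A K p

theorem Good.of_equiv {A' K' : Type u} [CommRing A'] [IsDomain A'] [Field K'] [Algebra A' K'] [IsFractionRing A' K']
    {p : ℕ} (e : A ≃+* A') (h : Good A K p) : Good A' K' p := by
  obtain ⟨⟨f, hf, hreg⟩, hsep⟩ := h
  let ε : K ≃+* K' := IsFractionRing.ringEquivOfRingEquiv e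
  have hε : ∀ r : A, ε (algebraMap A K r) = algebraMap A' K' (e r) := fun r =>
    IsFractionRing.ringEquivOfRingEquiv_algebraMap e r
  refine ⟨⟨e f, (map_ne_zero_iff _ e.injective).mpr hf, fun q hq => ?_⟩, fun a ha => ?_⟩
  · haveI : IsRegularLocalRing (Localization.AtPrime (q.asIdeal.comap e.toRingHom)) :=
      hreg ⟨q.asIdeal.comap e.toRingHom, inferInstance⟩ hq
    exact IsRegularLocalRing.of_ringEquiv (R := Localization.AtPrime (q.asIdeal.comap e.toRingHom))
        (IsLocalization.ringEquivOfRingEquiv (M := (q.asIdeal.comap e.toRingHom).primeCompl) (T := q.asIdeal.primeCompl) _ _ e (by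
          ext z
          constructor
          · rintro ⟨a, ha, rfl⟩; exact ha
          · intro hz; exact ⟨e.symm z, by simpa [Ideal.primeCompl] using hz, e.apply_symm_apply z⟩))
  · obtain ⟨D, ⟨g, hg, hD⟩, hDa⟩ := hsep (ε.symm a) fun b hb => ha (ε b) (by rw [← map_pow, hb, ε.apply_symm_apply])
    let D' : Derivation ℤ K' K' := Derivation.mk'
      ((ε.toAddMonoidHom.comp (D.toLinearMap.toAddMonoidHom.comp ε.symm.toAddMonoidHom)).toIntLinearMap) fun x y => by
        show ε (D (ε.symm (x * y))) = x • ε (D (ε.symm y)) + y • ε (D (ε.symm x))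
        rw [map_mul, D.leibniz, map_add, smul_eq_mul, smul_eq_mul, map_mul, map_mul, ε.apply_symm_apply, ε.apply_symm_apply,
          smul_eq_mul, smul_eq_mul]
    refine ⟨D', ⟨e g, (map_ne_zero_iff _ e.injective).mpr hg, fun r => ?_⟩, fun h0 => hDa ?_⟩
    · obtain ⟨n, s, hs⟩ := hD (e.symm r)
      refine ⟨n, e s, ?_⟩
      show algebraMap A' K' (e g) ^ n * ε (D (ε.symm (algebraMap A' K' r))) = algebraMap A' K' (e s)
      rw [show ε.symm (algebraMap A' K' r) = algebraMap A K (e.symm r) from ε.injective (by rw [ε.apply_symm_apply, hε, e.apply_symm_apply]),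
        ← hε, ← hε, ← map_pow, ← map_mul, hs]
    · exact ε.injective (h0.trans (map_zero ε).symm)

section Birational

variable {B : Type u} [CommRing B] [IsDomain B] [Algebra A B] [Algebra B K] [IsScalarTower A B K] [FaithfulSMul B K]

/-- birational extension -/
theorem good_of_le [IsNoetherianRing A] [IsNoetherianRing B] {p : ℕ} (h : Good A K p) (d : A) (hd : d ≠ 0)
    (hB : ∀ b : B, algebraMap B K b ∈ away (K := K) d) : Good B K p := by
  obtain ⟨⟨f, hf, hreg⟩, hsep⟩ := h
  have hinj : Function.Injective (algebraMap A B) := fun x y hxy => IsFractionRing.injective A K (by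
    rw [IsScalarTower.algebraMap_apply A B K, hxy, ← IsScalarTower.algebraMap_apply])
  refine ⟨⟨algebraMap A B (f * d), (map_ne_zero_iff _ hinj).mpr (mul_ne_zero hf hd), fun q hq => ?_⟩, fun a ha => ?_⟩
  · have hB' : ∀ b : B, algebraMap B K b ∈ away (K := K) (f * d) := fun b => away_mono (dvd_mul_left d f) (hB b)
    letI : Algebra B (away (K := K) (f * d)) := ((algebraMap B K).codRestrict (away (K := K) (f * d)) hB').toAlgebra
    haveI := isLocalization_away (A := A) (B := B) (K := K) (f * d) (mul_ne_zero hf hd) (fun b => rfl)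
    haveI : IsRegularRing (away (K := K) (f * d)) := by
      haveI : IsLocalization.Away (f * d) (away (K := K) (f * d)) :=
        isLocalization_away (A := A) (B := A) (K := K) (f * d) (mul_ne_zero hf hd) (fun b => rfl)
      exact J2.isRegularRing_away (f * d) _ fun Q hQ => hreg Q fun hm => hQ (Ideal.mul_mem_right _ _ hm)
    exact J2.regLocus_of_away (algebraMap A B (f * d)) (away (K := K) (f * d)) q hq
  · obtain ⟨D, ⟨g, hg, hD⟩, hDa⟩ := hsep a ha
    haveI : FaithfulSMul A K := (faithfulSMul_iff_algebraMap_injective A K).mpr (IsFractionRing.injective A K)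
    refine ⟨D, ⟨algebraMap A B (g * d), (map_ne_zero_iff _ hinj).mpr (mul_ne_zero hg hd), fun b => ?_⟩, hDa⟩
    obtain ⟨n, s, hs⟩ := mapsTo_away D (mul_ne_zero hg hd) (fun r => away_mono (dvd_mul_right g d) (hD r))
      (away_mono (dvd_mul_left d g) (hB b))
    exact ⟨n, algebraMap A B s, by rw [← IsScalarTower.algebraMap_apply, ← IsScalarTower.algebraMap_apply, hs]⟩

end Birational

section Step

variable {L : Type u} [Field L] [Algebra K L] [Algebra A L] [IsScalarTower A K L]
  (p : ℕ) [Fact p.Prime] [CharP K p] (t : L) (a : A)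

theorem exists_den_adjoin (htop : Algebra.adjoin K {t} = ⊤) (z : L) :
    ∃ b : A, b ≠ 0 ∧ algebraMap A L b * z ∈ Algebra.adjoin A {t} := by
  have hz : z ∈ Algebra.adjoin K {t} := htop ▸ Algebra.mem_top
  induction hz using Algebra.adjoin_induction with
  | mem z hz => exact ⟨1, one_ne_zero, by rw [map_one, one_mul]; exact Algebra.subset_adjoin hz⟩
  | algebraMap c =>
    obtain ⟨n, d, hd, rfl⟩ := IsFractionRing.div_surjective (A := A) c
    refine ⟨d, nonZeroDivisors.ne_zero hd, ?_⟩
    rw [IsScalarTower.algebraMap_apply A K L, ← map_mul, mul_div_cancel₀ _ ((map_ne_zero_iff _ (IsFractionRing.injective A K)).mpr (nonZeroDivisors.ne_zero hd)),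
      ← IsScalarTower.algebraMap_apply]
    exact Subalgebra.algebraMap_mem _ n
  | add x y _ _ hx hy =>
    obtain ⟨b, hb, hx⟩ := hx; obtain ⟨c, hc, hy⟩ := hy
    refine ⟨b * c, mul_ne_zero hb hc, ?_⟩
    rw [mul_add, map_mul, mul_comm (algebraMap A L b) _, mul_assoc, mul_comm (algebraMap A L c) (algebraMap A L b), mul_assoc]
    exact add_mem (mul_mem (Subalgebra.algebraMap_mem _ c) hx) (mul_mem (Subalgebra.algebraMap_mem _ b) hy)
  | mul x y _ _ hx hy =>
    obtain ⟨b, hb, hx⟩ := hx; obtain ⟨c, hc, hy⟩ := hy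
    refine ⟨b * c, mul_ne_zero hb hc, ?_⟩
    rw [map_mul, mul_mul_mul_comm]
    exact mul_mem hx hy

theorem isFractionRing_adjoin (htop : Algebra.adjoin K {t} = ⊤) :
    IsFractionRing (Algebra.adjoin A {t}) L := by
  have hinj : Function.Injective (algebraMap A L) := by
    rw [IsScalarTower.algebraMap_eq A K L]; exact (algebraMap K L).injective.comp (IsFractionRing.injective A K)
  refine IsFractionRing.of_field _ _ fun z => ?_
  obtain ⟨b, hb, hz⟩ := exists_den_adjoin (A := A) t htop z
  exact ⟨⟨_, hz⟩, ⟨_, Subalgebra.algebraMap_mem _ b⟩, by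
    show z = algebraMap A L b * z / algebraMap A L b
    rw [mul_div_cancel_left₀ _ ((map_ne_zero_iff _ hinj).mpr hb)]⟩

variable (ht : t ^ p = algebraMap A L a) (ha : ∀ b : K, b ^ p ≠ algebraMap A K a) (htop : Algebra.adjoin K {t} = ⊤)
include ht ha htop

theorem minpoly_eq : minpoly K t = X ^ p - C (algebraMap A K a) := by
  refine (minpoly.eq_of_irreducible_of_monic (X_pow_sub_C_irreducible_of_prime Fact.out ha) ?_
    (monic_X_pow_sub_C _ (Fact.out : p.Prime).ne_zero)).symm
  rw [map_sub, map_pow, aeval_X, aeval_C, ← IsScalarTower.algebraMap_apply, ht, sub_self]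

theorem exists_extension (D : Derivation ℤ K K) (hD : D (algebraMap A K a) = 0) (u : L) :
    ∃ D' : Derivation ℤ L L, (∀ c, D' (algebraMap K L c) = algebraMap K L (D c)) ∧ D' t = u := by
  haveI : CharP L p := charP_of_injective_algebraMap (algebraMap K L).injective p
  let P : K[X] := X ^ p - C (algebraMap A K a)
  haveI : Fact (Irreducible P) := ⟨X_pow_sub_C_irreducible_of_prime Fact.out ha⟩
  let φ : AdjoinRoot P →ₐ[K] L := AdjoinRoot.liftAlgHom P (Algebra.ofId K L) t (by
    rw [eval₂_sub, eval₂_X_pow, eval₂_C]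
    show t ^ p - algebraMap K L (algebraMap A K a) = 0
    rw [← IsScalarTower.algebraMap_apply, ht, sub_self])
  have hφ : Function.Bijective φ := by
    refine ⟨(φ : AdjoinRoot P →+* L).injective, fun z => ?_⟩
    have hz : z ∈ φ.range := by
      refine Algebra.adjoin_le ?_ (htop.symm ▸ Algebra.mem_top : z ∈ Algebra.adjoin K {t})
      rintro _ rfl
      exact ⟨AdjoinRoot.root P, AdjoinRoot.liftAlgHom_root ..⟩
    exact hz
  let e := AlgEquiv.ofBijective φ hφ
  let i0 : K →+* DualNumber L :=
    { toFun := fun c => inl (algebraMap K L c) + inr (algebraMap K L (D c))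
      map_one' := by ext <;> simp
      map_mul' := fun x y => by
        ext
        · simp
        · simp only [snd_mul, fst_add, fst_inl, fst_inr, snd_add, snd_inl, snd_inr, D.leibniz, map_add, map_mul, smul_eq_mul, op_smul_eq_smul, add_zero, zero_add]
      map_zero' := by ext <;> simp
      map_add' := fun x y => by ext <;> simp only [fst_add, snd_add, fst_inl, fst_inr, snd_inl, snd_inr, map_add, add_zero, zero_add] }
  have hroot : P.eval₂ i0 (inl t + inr u) = 0 := by
    rw [eval₂_sub, eval₂_X_pow, eval₂_C]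
    ext
    · simp [i0, fst_pow, ht, ← IsScalarTower.algebraMap_apply]
    · simp [i0, snd_pow, hD, nsmul_eq_mul, CharP.cast_eq_zero L p]
  let H : L →+* DualNumber L := (AdjoinRoot.lift i0 (inl t + inr u) hroot).comp e.symm.toAlgHom.toRingHom
  have hes : e.symm t = AdjoinRoot.root P := e.injective (by rw [e.apply_symm_apply]; show t = φ (AdjoinRoot.root P); exact (AdjoinRoot.liftAlgHom_root ..).symm)
  have hC : ∀ c, H (algebraMap K L c) = i0 c := fun c => by
    show AdjoinRoot.lift i0 _ hroot (e.symm (algebraMap K L c)) = i0 c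
    rw [e.symm.commutes, AdjoinRoot.algebraMap_eq, AdjoinRoot.lift_of]
  have hT : H t = inl t + inr u := by
    show AdjoinRoot.lift i0 _ hroot (e.symm t) = _
    rw [hes, AdjoinRoot.lift_root]
  have hfst : ∀ z, fst (H z) = z := fun z => by
    have hz : z ∈ Algebra.adjoin K {t} := htop ▸ Algebra.mem_top
    induction hz using Algebra.adjoin_induction with
    | mem z hz => obtain rfl : z = t := hz; rw [hT]; simp
    | algebraMap c => rw [hC]; simp [i0]
    | add x y _ _ hx hy => rw [map_add, fst_add, hx, hy]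
    | mul x y _ _ hx hy => rw [map_mul, fst_mul, hx, hy]
  exact ⟨derOfHom H hfst, fun c => by rw [derOfHom_apply, hC]; simp only [i0, RingHom.coe_mk, MonoidHom.coe_mk, OneHom.coe_mk, snd_add, snd_inl, snd_inr, zero_add], by rw [derOfHom_apply, hT]; simp⟩

omit ha htop in
theorem bdd_extension {D : Derivation ℤ K K} (hD : Bdd A D) (D' : Derivation ℤ L L)
    (h' : ∀ c, D' (algebraMap K L c) = algebraMap K L (D c)) (hu : D' t ∈ Algebra.adjoin A {t}) :
    Bdd (Algebra.adjoin A {t}) D' := by
  obtain ⟨f, hf, h⟩ := hD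
  have hinj : Function.Injective (algebraMap A L) := by
    rw [IsScalarTower.algebraMap_eq A K L]; exact (algebraMap K L).injective.comp (IsFractionRing.injective A K)
  refine ⟨algebraMap A _ f, fun h0 => hf (hinj (by rw [map_zero]; exact congrArg Subtype.val h0)), ?_⟩
  rintro ⟨r, hr⟩
  show D' r ∈ away (A := Algebra.adjoin A {t}) (K := L) (algebraMap A (Algebra.adjoin A {t}) f)
  have hmem : ∀ w (hw : w ∈ Algebra.adjoin A {t}), w ∈ away (A := Algebra.adjoin A {t}) (K := L) (algebraMap A (Algebra.adjoin A {t}) f) :=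
    fun w hw => ⟨0, ⟨w, hw⟩, by rw [pow_zero, one_mul]; rfl⟩
  induction hr using Algebra.adjoin_induction with
  | mem z hz => obtain rfl : z = t := hz; exact hmem _ hu
  | algebraMap c =>
    obtain ⟨n, s, hs⟩ := h c
    refine ⟨n, algebraMap A _ s, ?_⟩
    rw [← IsScalarTower.algebraMap_apply, ← IsScalarTower.algebraMap_apply, IsScalarTower.algebraMap_apply A K L c, h',
      IsScalarTower.algebraMap_apply A K L, IsScalarTower.algebraMap_apply A K L s, ← map_pow, ← map_mul, hs]
  | add x y _ _ hx hy => rw [map_add]; exact add_mem hx hy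
  | mul x y hx' hy' hx hy =>
    rw [D'.leibniz, smul_eq_mul, smul_eq_mul]
    exact add_mem (mul_mem (hmem x hx') hy) (mul_mem (hmem y hy') hx)

theorem sep_adjoin (h : Sep A K p) : Sep (Algebra.adjoin A {t}) L p := by
  haveI : CharP L p := charP_of_injective_algebraMap (algebraMap K L).injective p
  intro c hc
  have hp : p.Prime := Fact.out
  obtain ⟨D₁, h₁, h₁t⟩ := exists_extension p t a ht ha htop 0 (Derivation.zero_apply _) 1
  have hb₁ : Bdd (Algebra.adjoin A {t}) D₁ := bdd_extension p t a ht (D := 0)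
    ⟨1, one_ne_zero, fun r => by rw [Derivation.zero_apply]; exact zero_mem _⟩ D₁ h₁ (by rw [h₁t]; exact one_mem _)
  by_cases hc1 : D₁ c = 0
  swap
  · exact ⟨D₁, hb₁, hc1⟩
  have hQ : ∀ Q : K[X], D₁ (aeval t Q) = aeval t (derivative Q) := fun Q => by
    induction Q using Polynomial.induction_on' with
    | add P Q hP hQ => rw [map_add, map_add, derivative_add, map_add, hP, hQ]
    | monomial n b =>
      rw [aeval_monomial, derivative_monomial, aeval_monomial, D₁.leibniz, D₁.leibniz_pow, h₁, h₁t, Derivation.zero_apply,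
        map_zero, smul_zero, add_zero, smul_eq_mul, map_mul, map_natCast, nsmul_eq_mul, smul_eq_mul, mul_one, mul_assoc]
  obtain ⟨Q, rfl⟩ : ∃ Q, aeval t Q = c := by
    have : c ∈ Algebra.adjoin K {t} := htop ▸ Algebra.mem_top
    rw [Algebra.adjoin_singleton_eq_range_aeval] at this
    exact this
  have hmin := minpoly_eq p t a ht ha htop
  let R := Q %ₘ minpoly K t
  have hdeg : R.natDegree < p := by
    have hm : (X ^ p - C (algebraMap A K a)).natDegree = p := natDegree_X_pow_sub_C
    show (Q %ₘ minpoly K t).natDegree < p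
    rw [hmin]
    refine lt_of_lt_of_eq (natDegree_modByMonic_lt Q (monic_X_pow_sub_C _ hp.ne_zero) fun h1 => ?_) hm
    have := congrArg Polynomial.natDegree h1
    rw [hm, natDegree_one] at this
    exact hp.ne_zero this
  have hR : aeval t Q = aeval t R := (Polynomial.aeval_modByMonic_eq_self_of_root (minpoly.aeval K t)).symm
  have hder : derivative R = 0 := by
    by_contra hne
    have hle := Polynomial.natDegree_le_of_dvd (minpoly.dvd K t (show aeval t (derivative R) = 0 by rw [← hQ, ← hR, hc1])) hne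
    rw [hmin, natDegree_X_pow_sub_C] at hle
    have := natDegree_derivative_le R
    omega
  obtain ⟨c0, hc0⟩ : ∃ c0, R = C c0 := by
    refine ⟨R.coeff 0, Polynomial.ext fun n => ?_⟩
    rcases n with _ | n
    · rw [coeff_C_zero]
    · rw [coeff_C_succ]
      by_cases hn : n + 1 < p
      · have := congrArg (fun P => Polynomial.coeff P n) hder
        simp only [coeff_derivative, coeff_zero] at this
        refine (mul_eq_zero.mp this).resolve_right ?_
        intro h0
        rw [← Nat.cast_add_one, CharP.cast_eq_zero_iff K p] at h0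
        exact (fun hdvd => absurd (Nat.le_of_dvd (Nat.succ_pos n) hdvd) (by omega)) h0
      · exact coeff_eq_zero_of_natDegree_lt (by omega)
  rw [hR, hc0, aeval_C] at hc ⊢
  by_cases hex : ∃ D : Derivation ℤ K K, Bdd A D ∧ D (algebraMap A K a) = 0 ∧ D c0 ≠ 0
  · obtain ⟨D, hD, hDa, hDc⟩ := hex
    obtain ⟨D', h', h't⟩ := exists_extension p t a ht ha htop D hDa 0
    exact ⟨D', bdd_extension p t a ht hD D' h' (by rw [h't]; exact zero_mem _),
      by rw [h']; exact (map_ne_zero (algebraMap K L)).mpr hDc⟩
  · exfalso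
    push Not at hex
    obtain ⟨v, hv⟩ := h.mem_span ha hex
    refine hc (∑ i ∈ Finset.range p, algebraMap K L (v i) * t ^ i) ?_
    rw [hv, map_sum, sum_pow_char p]
    refine Finset.sum_congr rfl fun i _ => ?_
    rw [mul_pow, map_mul, map_pow, map_pow, ← pow_mul, mul_comm i p, pow_mul, ht, ← IsScalarTower.algebraMap_apply]

theorem j0_adjoin [IsNoetherianRing A] (h : Good A K p) : J2.J0 (Algebra.adjoin A {t}) := by
  obtain ⟨⟨f, hf, hreg⟩, hsep⟩ := h
  obtain ⟨D, ⟨g, hg, hD⟩, hDa⟩ := hsep.exists_one ha
  haveI : FaithfulSMul A K := (faithfulSMul_iff_algebraMap_injective A K).mpr (IsFractionRing.injective A K)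
  have hinj : Function.Injective (algebraMap A L) := by
    rw [IsScalarTower.algebraMap_eq A K L]; exact (algebraMap K L).injective.comp (IsFractionRing.injective A K)
  have hfg : f * g ≠ 0 := mul_ne_zero hf hg
  refine ⟨algebraMap A _ (f * g), fun h0 => hfg (hinj (by rw [map_zero]; exact congrArg Subtype.val h0)), fun q hq => ?_⟩
  let F : A[X] := X ^ p - C a
  have hF : F.Monic := monic_X_pow_sub_C _ (Fact.out : p.Prime).ne_zero
  let π : A[X] →+* Algebra.adjoin A {t} := (Polynomial.aeval (⟨t, Algebra.self_mem_adjoin_singleton A t⟩ : Algebra.adjoin A {t})).toRingHom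
  have hπv : ∀ P : A[X], (π P : L) = aeval t P := fun P =>
    (Polynomial.aeval_algHom_apply (Algebra.adjoin A {t}).val _ P).symm
  have hπs : Function.Surjective π := fun ⟨z, hz⟩ => by
    rw [Algebra.adjoin_singleton_eq_range_aeval] at hz
    obtain ⟨P, rfl⟩ := hz
    exact ⟨P, Subtype.ext (hπv P)⟩
  have hker : RingHom.ker π = Ideal.span {F} := by
    refine le_antisymm (fun P hP => Ideal.mem_span_singleton.mpr ?_) ((Ideal.span_singleton_le_iff_mem _).mpr (Subtype.ext ?_))
    · refine (Polynomial.map_dvd_map (algebraMap A K) (IsFractionRing.injective A K) hF).mp ?_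
      rw [show F.map (algebraMap A K) = X ^ p - C (algebraMap A K a) by simp [F], ← minpoly_eq p t a ht ha htop]
      refine minpoly.dvd K t ?_
      rw [aeval_map_algebraMap, ← hπv, show π P = 0 from hP]
      rfl
    · rw [hπv, map_sub, map_pow, aeval_X, aeval_C, ht, sub_self]; rfl
  let Q : Ideal A[X] := q.asIdeal.comap π
  haveI : Q.IsPrime := Ideal.IsPrime.comap π
  have hQg : C (f * g) ∉ Q := fun hm => hq (by
    have h' : π (C (f * g)) ∈ q.asIdeal := hm
    rwa [show π (C (f * g)) = algebraMap A _ (f * g) from aeval_C _ _] at h')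
  -- the local ring of the polynomial ring is regular
  haveI := J2.isRegularRing_away (f * g) (Localization.Away (f * g)) fun q' hq' => hreg q' fun hm => hq' (Ideal.mul_mem_right _ _ hm)
  have hQreg : (⟨Q, inferInstance⟩ : PrimeSpectrum A[X]) ∈ EGA4.regLocus A[X] := by
    letI : Algebra A[X] (Localization.Away (f * g))[X] := (Polynomial.mapRingHom (algebraMap A (Localization.Away (f * g)))).toAlgebra
    haveI : IsLocalization.Away (C (f * g)) (Localization.Away (f * g))[X] := by
      have := Polynomial.isLocalization (Submonoid.powers (f * g)) (Localization.Away (f * g))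
      rwa [Submonoid.map_powers] at this
    exact J2.regLocus_of_away (C (f * g)) (Localization.Away (f * g))[X] _ hQg
  let R := Localization.AtPrime Q
  haveI : IsRegularLocalRing R := hQreg
  let κ := IsLocalRing.ResidueField R
  let ρ : A[X] →+* κ := (IsLocalRing.residue R).comp (algebraMap A[X] R)
  have hρ : ∀ P, ρ P = 0 ↔ P ∈ Q := fun P => by
    rw [show ρ P = IsLocalRing.residue R (algebraMap A[X] R P) from rfl, IsLocalRing.residue_eq_zero_iff]
    exact IsLocalization.AtPrime.to_map_mem_maximal_iff R Q P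
  haveI hloc : IsLocalization.Away (f * g) (away (K := K) (f * g)) :=
    isLocalization_away (A := A) (B := A) (K := K) (f * g) hfg (fun b => rfl)
  have hunit : IsUnit ((ρ.comp C) (f * g)) := IsUnit.mk0 _ fun h0 => hQg ((hρ _).mp h0)
  let ι : away (K := K) (f * g) →+* κ := IsLocalization.Away.lift (f * g) hunit
  have hι : ∀ r, ι (algebraMap A _ r) = ρ (C r) := fun r => IsLocalization.Away.lift_eq _ hunit r
  let d : A → away (K := K) (f * g) := fun r => ⟨D (algebraMap A K r), away_mono (dvd_mul_left g f) (hD r)⟩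
  have hd1 : ∀ x y, d (x + y) = d x + d y := fun x y => Subtype.ext (by show D _ = D _ + D _; rw [map_add, map_add])
  have hd2 : ∀ x y, d (x * y) = algebraMap A _ x * d y + algebraMap A _ y * d x := fun x y => Subtype.ext (by
    show D _ = algebraMap A K x * D _ + algebraMap A K y * D _
    rw [map_mul, D.leibniz, smul_eq_mul, smul_eq_mul])
  let h0 : A →+* DualNumber κ :=
    { toFun := fun r => inl (ρ (C r)) + inr (ι (d r))
      map_one' := by
        have : d 1 = 0 := Subtype.ext (by show D _ = 0; rw [map_one, Derivation.map_one_eq_zero])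
        ext <;> simp [this]
      map_mul' := fun x y => by
        ext
        · simp
        · simp [hd2, map_add, map_mul, hι]; ring
      map_zero' := by
        have : d 0 = 0 := Subtype.ext (by show D _ = 0; rw [map_zero, map_zero])
        ext <;> simp [this]
      map_add' := fun x y => by ext <;> simp only [hd1, map_add, fst_add, snd_add, fst_inl, fst_inr, snd_inl, snd_inr, add_zero, zero_add] }
  let ψ : A[X] →+* DualNumber κ := eval₂RingHom h0 (inl (ρ X))
  have hψfst : ∀ P, fst (ψ P) = ρ P := fun P => by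
    induction P using Polynomial.induction_on with
    | C r => simp [ψ, h0]
    | add P P' hP hP' => rw [map_add, fst_add, hP, hP', map_add]
    | monomial n r ih =>
      rw [pow_succ, ← mul_assoc, map_mul, fst_mul, ih, map_mul ρ (C r * X ^ n)]
      simp [ψ]
  have hFm : algebraMap A[X] R F ∈ IsLocalRing.maximalIdeal R := by
    rw [IsLocalization.AtPrime.to_map_mem_maximal_iff R Q F]
    show π F ∈ q.asIdeal
    rw [show π F = 0 from hker.ge (Ideal.mem_span_singleton_self F)]
    exact zero_mem _
  have hFQ : algebraMap A[X] R F ∉ IsLocalRing.maximalIdeal R ^ 2 := by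
    intro hm
    rw [← Localization.AtPrime.map_eq_maximalIdeal, ← Ideal.map_pow,
      IsLocalization.algebraMap_mem_map_algebraMap_iff Q.primeCompl] at hm
    obtain ⟨s, hs, hsF⟩ := hm
    have hzero : ψ (s * F) = 0 := by
      rw [pow_two] at hsF
      refine Submodule.mul_induction_on hsF (fun x hx y hy => ?_) (fun x y hx hy => by rw [map_add, hx, hy, add_zero])
      have hx' : fst (ψ x) = 0 := by rw [hψfst]; exact (hρ x).mpr hx
      have hy' : fst (ψ y) = 0 := by rw [hψfst]; exact (hρ y).mpr hy
      rw [map_mul]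
      ext
      · rw [fst_mul, hx', zero_mul]; rfl
      · rw [snd_mul, hx', hy', zero_smul, op_smul_eq_smul, zero_smul, snd_zero]; exact add_zero 0
    have hψF : fst (ψ F) = 0 := by
      rw [hψfst, hρ]; exact (IsLocalization.AtPrime.to_map_mem_maximal_iff R Q F).mp hFm
    haveI : CharP A p := (RingHom.charP_iff (algebraMap A K) (IsFractionRing.injective A K) p).mpr ‹_›
    haveI : CharP κ p := CharP.of_ringHom_of_ne_zero (ρ.comp C) p (Fact.out : p.Prime).ne_zero
    have hsnd : snd (ψ F) = -1 := by
      have h1 : d a = 1 := Subtype.ext hDa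
      simp [ψ, F, h0, h1, snd_pow, nsmul_eq_mul, CharP.cast_eq_zero κ p]
    have := congrArg snd hzero
    rw [map_mul, snd_mul, hψF, op_smul_eq_smul, zero_smul, add_zero, hsnd, hψfst, snd_zero, smul_eq_mul, mul_neg, mul_one, neg_eq_zero, hρ] at this
    exact hs this
  haveI : IsRegularLocalRing (R ⧸ Ideal.span {algebraMap A[X] R F}) :=
    (Groth.L01.regular_quotient_of_notMem_sq hFm hFQ).1
  -- identify the local ring of the adjoined algebra
  let e := (Ideal.quotEquivOfEq hker).symm.trans (RingHom.quotientKerEquivOfSurjective hπs)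
  let q' : Ideal (A[X] ⧸ Ideal.span {F}) := q.asIdeal.comap e.toRingHom
  haveI : q'.IsPrime := Ideal.IsPrime.comap e.toRingHom
  have he : ∀ P, e (Ideal.Quotient.mk _ P) = π P := fun P => rfl
  have hspan : (Ideal.span {F}).map (algebraMap A[X] R) = Ideal.span {algebraMap A[X] R F} := by
    rw [Ideal.map_span, Set.image_singleton]
  haveI : IsRegularLocalRing (R ⧸ (Ideal.span {F}).map (algebraMap A[X] R)) :=
    IsRegularLocalRing.of_ringEquiv (R := R ⧸ Ideal.span {algebraMap A[X] R F}) (Ideal.quotEquivOfEq hspan).symm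
  have hsub' : Algebra.algebraMapSubmonoid (A[X] ⧸ Ideal.span {F}) Q.primeCompl = q'.primeCompl := by
    refine SetLike.ext fun z => ⟨?_, fun hz => ?_⟩
    · rintro ⟨P, hP, rfl⟩ hm
      exact hP hm
    · obtain ⟨P, rfl⟩ := Ideal.Quotient.mk_surjective z
      exact ⟨P, hz, rfl⟩
  haveI : IsLocalization.AtPrime (R ⧸ (Ideal.span {F}).map (algebraMap A[X] R)) q' := by
    show IsLocalization q'.primeCompl _
    rw [← hsub']
    infer_instance
  haveI : IsRegularLocalRing (Localization.AtPrime q') :=
    IsRegularLocalRing.of_ringEquiv (R := R ⧸ (Ideal.span {F}).map (algebraMap A[X] R)) (IsLocalization.algEquiv q'.primeCompl (R ⧸ (Ideal.span {F}).map (algebraMap A[X] R)) (Localization.AtPrime q')).toRingEquiv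
  exact IsRegularLocalRing.of_ringEquiv (R := Localization.AtPrime q')
    (IsLocalization.ringEquivOfRingEquiv (M := q'.primeCompl) (T := q.asIdeal.primeCompl) _ _ e (by
      ext z
      constructor
      · rintro ⟨a, ha, rfl⟩; exact ha
      · intro hz; exact ⟨e.symm z, by simpa [q', Ideal.primeCompl] using hz, e.apply_symm_apply z⟩))

end Step

section GrowAux

set_option maxHeartbeats 1000000

variable {Ω : Type u} [Field Ω] [Algebra K Ω] [Algebra A Ω] [IsScalarTower A K Ω]

/-- adjoining an element of the fraction field -/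
theorem good_adjoin_of_mem [IsNoetherianRing A] (p : ℕ) (h : Good A K p) (t : Ω) (hint : IsIntegral A t)
    (b : K) (hbt : algebraMap K Ω b = t) :
    Good (Algebra.adjoin A {t}) (FractionRing (Algebra.adjoin A {t})) p := by
  let A₁ := Algebra.adjoin A ({b} : Set K)
  have hintb : IsIntegral A b :=
    (isIntegral_algHom_iff (IsScalarTower.toAlgHom A K Ω) (algebraMap K Ω).injective).mp (by rw [IsScalarTower.coe_toAlgHom', hbt]; exact hint)
  haveI : Module.Finite A A₁ := Module.Finite.iff_fg.mpr hintb.fg_adjoin_singleton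
  haveI : IsNoetherianRing A₁ := IsNoetherianRing.of_finite A A₁
  obtain ⟨n, d, hd, hnd⟩ := IsFractionRing.div_surjective (A := A) b
  have hB : ∀ z : A₁, algebraMap A₁ K z ∈ away (K := K) d := fun z => by
    refine Algebra.adjoin_le ?_ z.2
    rintro _ rfl
    refine ⟨1, n, ?_⟩
    rw [← hnd, pow_one, mul_div_cancel₀ _ ((map_ne_zero_iff _ (IsFractionRing.injective A K)).mpr (nonZeroDivisors.ne_zero hd))]
  haveI : FaithfulSMul A₁ K := (faithfulSMul_iff_algebraMap_injective A₁ K).mpr Subtype.val_injective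
  haveI : IsFractionRing A₁ K := IsFractionRing.of_field _ _ fun z => by
    obtain ⟨x, y, -, rfl⟩ := IsFractionRing.div_surjective (A := A) z
    exact ⟨algebraMap A A₁ x, algebraMap A A₁ y, by rw [← IsScalarTower.algebraMap_apply, ← IsScalarTower.algebraMap_apply]⟩
  have e : A₁ ≃ₐ[A] Algebra.adjoin A {t} :=
    (A₁.equivMapOfInjective (IsScalarTower.toAlgHom A K Ω) (algebraMap K Ω).injective).trans
      (Subalgebra.equivOfEq _ _ (by rw [AlgHom.map_adjoin, Set.image_singleton, IsScalarTower.coe_toAlgHom', hbt]))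
  exact (good_of_le h d (nonZeroDivisors.ne_zero hd) hB).of_equiv e.toRingEquiv

/-- adjoining a `p`-th root outside the fraction field -/
theorem good_adjoin_of_notMem [IsNoetherianRing A] (p : ℕ) [Fact p.Prime] [CharP K p] (h : Good A K p) (t : Ω) (a : A)
    (ht : t ^ p = algebraMap A Ω a) (hint : IsIntegral A t) (hb : ∀ b : K, b ^ p ≠ algebraMap A K a) :
    Good (Algebra.adjoin A {t}) (FractionRing (Algebra.adjoin A {t})) p := by
  let L := IntermediateField.adjoin K {t}
  have hintK : IsIntegral K t := hint.tower_top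
  let t' : L := ⟨t, IntermediateField.mem_adjoin_simple_self K t⟩
  have htop : Algebra.adjoin K {t'} = ⊤ := by
    have h1 := IntermediateField.adjoin_simple_toSubalgebra_of_isAlgebraic hintK.isAlgebraic
    refine eq_top_iff.mpr fun z _ => ?_
    have hz : (z : Ω) ∈ Algebra.adjoin K {t} := h1 ▸ z.2
    rw [show ({t} : Set Ω) = (IntermediateField.val L) '' {t'} by rw [Set.image_singleton]; rfl, Algebra.adjoin_image] at hz
    obtain ⟨w, hw, hwz⟩ := hz
    rwa [show w = z from Subtype.ext hwz] at hw
  have ht' : t' ^ p = algebraMap A L a := Subtype.ext (by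
    rw [IntermediateField.coe_pow, IsScalarTower.algebraMap_apply A K L]
    exact ht.trans (IsScalarTower.algebraMap_apply A K Ω a))
  haveI := isFractionRing_adjoin (A := A) t' htop
  have hg : Good (Algebra.adjoin A {t'}) L p :=
    ⟨j0_adjoin p t' a ht' hb htop h, sep_adjoin p t' a ht' hb htop h.2⟩
  have e : Algebra.adjoin A {t'} ≃ₐ[A] Algebra.adjoin A {t} :=
    ((Algebra.adjoin A {t'}).equivMapOfInjective (L.val.restrictScalars A) Subtype.val_injective).trans
      (Subalgebra.equivOfEq _ _ (by rw [AlgHom.map_adjoin, Set.image_singleton]; rfl))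
  exact hg.of_equiv e.toRingEquiv

theorem good_adjoin [IsNoetherianRing A] (p : ℕ) [Fact p.Prime] [CharP Ω p] (h : Good A K p) (t : Ω) (a : A)
    (ht : t ^ p = algebraMap A Ω a) :
    IsNoetherianRing (Algebra.adjoin A {t}) ∧ Good (Algebra.adjoin A {t}) (FractionRing (Algebra.adjoin A {t})) p := by
  haveI : CharP K p := (RingHom.charP_iff (algebraMap K Ω) (algebraMap K Ω).injective p).mpr ‹_›
  have hint : IsIntegral A t := IsIntegral.of_pow (Fact.out : p.Prime).pos (ht ▸ isIntegral_algebraMap)
  haveI : Module.Finite A (Algebra.adjoin A {t}) := Module.Finite.iff_fg.mpr hint.fg_adjoin_singleton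
  refine ⟨IsNoetherianRing.of_finite A _, ?_⟩
  by_cases hb : ∃ b : K, b ^ p = algebraMap A K a
  · obtain ⟨b, hb⟩ := hb
    refine good_adjoin_of_mem p h t hint b (frobenius_inj Ω p ?_)
    rw [frobenius_def, frobenius_def, ← map_pow, hb, ← IsScalarTower.algebraMap_apply, ht]
  · push Not at hb
    exact good_adjoin_of_notMem p h t a ht hint hb

end GrowAux

section Grow

set_option synthInstance.maxHeartbeats 100000
set_option maxHeartbeats 1000000

variable {T Ω : Type u} [CommRing T] [Field Ω] [Algebra T Ω]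

/-- one step, inside an ambient field -/
theorem grow (p : ℕ) [Fact p.Prime] [CharP Ω p] (S : Subalgebra T Ω) [IsNoetherianRing S]
    (h : Good S (FractionRing S) p) (t : Ω) (ht : t ^ p ∈ S) :
    IsNoetherianRing ↥(S ⊔ Algebra.adjoin T {t}) ∧
      Good ↥(S ⊔ Algebra.adjoin T {t}) (FractionRing ↥(S ⊔ Algebra.adjoin T {t})) p := by
  letI : Algebra (FractionRing S) Ω := FractionRing.liftAlgebra S Ω
  obtain ⟨h1, h2⟩ := good_adjoin (A := S) (K := FractionRing S) (Ω := Ω) p h t ⟨t ^ p, ht⟩ rfl
  have hset : ∀ z : Ω, z ∈ Algebra.adjoin S {t} ↔ z ∈ S ⊔ Algebra.adjoin T {t} := fun z => by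
    rw [show (S ⊔ Algebra.adjoin T {t}) = (Algebra.adjoin S {t}).restrictScalars T by
      rw [Algebra.restrictScalars_adjoin, ← Algebra.adjoin_eq S, ← Algebra.adjoin_union, Algebra.adjoin_eq S]]
    rfl
  let e : Algebra.adjoin S {t} ≃+* ↥(S ⊔ Algebra.adjoin T {t}) :=
    { toFun := fun z => ⟨z.1, (hset _).mp z.2⟩
      invFun := fun z => ⟨z.1, (hset _).mpr z.2⟩
      left_inv := fun _ => rfl
      right_inv := fun _ => rfl
      map_mul' := fun _ _ => rfl
      map_add' := fun _ _ => rfl }
  exact ⟨isNoetherianRing_of_ringEquiv _ e, h2.of_equiv e⟩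

/-- finite purely inseparable extensions inside an ambient field -/
theorem good_of_forall_pow [IsNoetherianRing T] [IsDomain T] [FaithfulSMul T Ω] (p : ℕ) [Fact p.Prime] [CharP Ω p]
    (h : Good T (FractionRing T) p) (R : Finset Ω) (e : ℕ) (hR : ∀ z ∈ R, z ^ p ^ e ∈ Set.range (algebraMap T Ω)) :
    J2.J0 (Algebra.adjoin T (R : Set Ω)) := by
  classical
  suffices H : ∀ R : Finset Ω, (∀ z ∈ R, z ^ p ^ e ∈ Set.range (algebraMap T Ω)) →
      IsNoetherianRing (Algebra.adjoin T (R : Set Ω)) ∧
        Good (Algebra.adjoin T (R : Set Ω)) (FractionRing (Algebra.adjoin T (R : Set Ω))) p from (H R hR).2.1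
  have step : ∀ (j : ℕ) (S : Subalgebra T Ω), IsNoetherianRing S → Good S (FractionRing S) p → ∀ z : Ω, z ^ p ^ j ∈ S →
      IsNoetherianRing ↥(S ⊔ Algebra.adjoin T {z}) ∧ Good ↥(S ⊔ Algebra.adjoin T {z}) (FractionRing ↥(S ⊔ Algebra.adjoin T {z})) p := by
    intro j
    induction j with
    | zero =>
      intro S hS hg z hz
      rw [pow_zero, pow_one] at hz
      rw [sup_eq_left.mpr (Algebra.adjoin_le (by rintro _ rfl; exact hz))]
      exact ⟨hS, hg⟩
    | succ j ih =>
      intro S hS hg z hz
      obtain ⟨hS', hg'⟩ := ih S hS hg (z ^ p) (by rwa [← pow_mul, ← pow_succ'])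
      haveI := hS'
      have := grow p _ hg' z ((le_sup_right : Algebra.adjoin T {z ^ p} ≤ S ⊔ Algebra.adjoin T {z ^ p}) (Algebra.self_mem_adjoin_singleton T (z ^ p)))
      rwa [sup_assoc, sup_eq_right.mpr (Algebra.adjoin_le (by
        rintro _ rfl; exact pow_mem (Algebra.self_mem_adjoin_singleton T z) p))] at this
  intro R
  induction R using Finset.induction with
  | empty =>
    intro _
    rw [Finset.coe_empty, Algebra.adjoin_empty]
    have e : T ≃+* (⊥ : Subalgebra T Ω) := (Algebra.botEquivOfInjective (FaithfulSMul.algebraMap_injective T Ω)).symm.toRingEquiv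
    exact ⟨isNoetherianRing_of_ringEquiv T e, h.of_equiv e⟩
  | insert z R hz ih =>
    intro hR
    obtain ⟨hS, hg⟩ := ih fun w hw => hR w (Finset.mem_insert_of_mem hw)
    rw [Finset.coe_insert, Set.insert_eq, Set.union_comm, Algebra.adjoin_union]
    obtain ⟨c, hc⟩ := hR z (Finset.mem_insert_self z R)
    exact step e _ hS hg z (hc ▸ Subalgebra.algebraMap_mem _ c)

end Grow

end Groth.L06.InsepJ0
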