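import Groth.Agent.L06.NormalAscent
import Groth.Agent.L06.GRingTransport
import Groth.Agent.L20.LocalCriterion
import Groth.Agent.L04.CMLoc
import Groth.Agent.L03.RegularNormal
import Groth.Agent.S0543
import Mathlib.RingTheory.AdicCompletion.LocalRing
import Mathlib.RingTheory.Finiteness.Basic

/-! Formal fibres and flat local homomorphisms. -/

set_option autoImplicit false
set_option linter.style.haveILetI false
universe u

namespace Groth.L06.FormalFibres

open IsLocalRing TensorProduct

section Regular

theorem regular_of_flat (A B : Type u) [CommRing A] [IsRegularLocalRing A] [CommRing B] [IsLocalRing B]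
    [IsNoetherianRing B] [Algebra A B] [IsLocalHom (algebraMap A B)] [Module.Flat A B]
    [IsRegularLocalRing (EGA4.FibRing A B)] : IsRegularLocalRing B := by
  classical
  refine IsRegularLocalRing.of_spanFinrank_maximalIdeal_le B ?_
  rw [Groth.L06.FlatFibre.ringKrullDim_eq A B, ← IsRegularLocalRing.spanFinrank_maximalIdeal (R := A),
    ← IsRegularLocalRing.spanFinrank_maximalIdeal (R := EGA4.FibRing A B), ← Nat.cast_add, Nat.cast_le]
  have fgA : (maximalIdeal A).FG := IsNoetherian.noetherian _
  have fgF : (maximalIdeal (EGA4.FibRing A B)).FG := IsNoetherian.noetherian _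
  let sA : Set B := algebraMap A B '' (maximalIdeal A).generators
  have hπ : Function.Surjective (Ideal.Quotient.mk (EGA4.mB A B)) := Ideal.Quotient.mk_surjective
  let sF : Set B := Function.surjInv hπ '' (maximalIdeal (EGA4.FibRing A B)).generators
  have hfinA := (Submodule.FG.finite_generators fgA).image (algebraMap A B)
  have hfinF := (Submodule.FG.finite_generators fgF).image (Function.surjInv hπ)
  have hspan : maximalIdeal B ≤ Submodule.span B (sA ∪ sF) := by
    intro x hx
    have hmB : EGA4.mB A B ≤ Submodule.span B (sA ∪ sF) := by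
      rw [EGA4.mB]
      conv_lhs => rw [← Submodule.span_generators (maximalIdeal A), Ideal.submodule_span_eq, Ideal.map_span]
      exact Submodule.span_mono Set.subset_union_left
    have h1 : Ideal.Quotient.mk (EGA4.mB A B) x ∈ (Ideal.span sF).map (Ideal.Quotient.mk (EGA4.mB A B)) := by
      rw [Ideal.map_span, ← Set.image_comp,
        show Ideal.Quotient.mk (EGA4.mB A B) ∘ Function.surjInv hπ = id from funext (Function.surjInv_eq hπ),
        Set.image_id, ← Ideal.submodule_span_eq, Submodule.span_generators,
        ← Groth.L06.FlatFibre.map_maximalIdeal_fibRing A B]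
      exact Ideal.mem_map_of_mem _ hx
    obtain ⟨y, hy, hyx⟩ := (Ideal.mem_map_iff_of_surjective _ hπ).mp h1
    have h2 : x - y ∈ EGA4.mB A B := Ideal.Quotient.eq.mp hyx.symm
    have := Submodule.add_mem _ (hmB h2) (Submodule.span_mono Set.subset_union_right hy)
    simpa using this
  have hle : Submodule.span B (sA ∪ sF) ≤ maximalIdeal B := Submodule.span_le.mpr (Set.union_subset
    (by
      rintro _ ⟨a, ha, rfl⟩
      exact IsLocalRing.map_maximalIdeal_le (algebraMap A B) (Ideal.mem_map_of_mem _ ((Submodule.span_generators (maximalIdeal A)).le (Submodule.subset_span ha))))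
    (by
      rintro _ ⟨a, ha, rfl⟩
      intro hu
      have := hu.map (Ideal.Quotient.mk (EGA4.mB A B))
      rw [Function.surjInv_eq hπ] at this
      exact ((Submodule.span_generators (maximalIdeal (EGA4.FibRing A B))).le (Submodule.subset_span ha)) this))
  rw [← le_antisymm hle hspan]
  refine (Submodule.spanFinrank_span_le_ncard_of_finite (hfinA.union hfinF)).trans ((Set.ncard_union_le _ _).trans ?_)
  exact add_le_add ((Set.ncard_image_le (Submodule.FG.finite_generators fgA)).trans_eq (Submodule.FG.generators_ncard fgA))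
    ((Set.ncard_image_le (Submodule.FG.finite_generators fgF)).trans_eq (Submodule.FG.generators_ncard fgF))

theorem isRegularRing_of_flat {R S : Type u} [CommRing R] [CommRing S] [Algebra R S] [IsRegularRing R]
    [IsNoetherianRing S] [Module.Flat R S] (hfib : ∀ (p : Ideal R) [p.IsPrime], IsRegularRing (p.Fiber S)) :
    IsRegularRing S := by
  refine ⟨fun P _ => ?_⟩
  obtain ⟨i, hl, hf, q, hq, ⟨e⟩⟩ := Groth.L06.FlatFibre.exists_local_fibre (P.comap (algebraMap R S)) P (S := S)
  letI := i
  haveI := hl
  haveI := hf
  haveI := hfib (P.comap (algebraMap R S))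
  haveI : IsRegularLocalRing (Localization.AtPrime (P.comap (algebraMap R S))) := IsRegularRing.isRegularLocalRing_localization _
  haveI : IsRegularLocalRing (Localization.AtPrime q) := IsRegularRing.isRegularLocalRing_localization q
  haveI : IsRegularLocalRing (EGA4.FibRing (Localization.AtPrime (P.comap (algebraMap R S))) (Localization.AtPrime P)) :=
    IsRegularLocalRing.of_ringEquiv (R := Localization.AtPrime q) e
  exact regular_of_flat (Localization.AtPrime (P.comap (algebraMap R S))) (Localization.AtPrime P)

theorem isNormalRing_of_isRegularRing (R : Type u) [CommRing R] [IsRegularRing R] : EGA4.IsNormalRing R :=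
  fun p _ => ⟨Groth.L01.isDomain_of_regular _, Groth.L03.RegularNormal.isIntegrallyClosed _⟩

theorem isNormalHom_of_isRegularHom {A B : Type u} [CommRing A] [CommRing B] [Algebra A B]
    (h : CAlg.IsRegularHom A B) : EGA4.IsNormalHom A B :=
  ⟨h.1, fun p _ K _ _ hK => by
    haveI := (h.2 p).2 K hK
    exact isNormalRing_of_isRegularRing _⟩

theorem isReduced_fibre_baseChange_of_isRegularHom {A B : Type u} [CommRing A] [CommRing B] [Algebra A B]
    (h : CAlg.IsRegularHom A B) (p : Ideal A) [p.IsPrime] (K : Type u) [Field K] [Algebra p.ResidueField K]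
    [Module.Finite p.ResidueField K] : IsReduced (K ⊗[p.ResidueField] p.Fiber B) := by
  haveI := (h.2 p).2 K inferInstance
  exact Groth.L06.NormalAscent.isReduced_of_isNormalRing
    (isNormalRing_of_isRegularRing (K ⊗[p.ResidueField] p.Fiber B))

end Regular

section Completion

variable (A A' : Type u) [CommRing A] [CommRing A'] [IsNoetherianRing A] [IsNoetherianRing A']
  [IsLocalRing A] [IsLocalRing A'] [Algebra A A'] [IsLocalHom (algebraMap A A')]

/-- The completion of `A'` is faithfully flat over the completion of `A`. -/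
theorem exists_cpl_algebra [Module.Flat A A'] :
    ∃ (_ : Algebra (EGA4.Cpl A) (EGA4.Cpl A')),
      IsScalarTower A (EGA4.Cpl A) (EGA4.Cpl A') ∧ Module.FaithfullyFlat (EGA4.Cpl A) (EGA4.Cpl A') := by
  haveI : IsScalarTower A A' (EGA4.Cpl A') := IsScalarTower.of_algebraMap_eq fun a => rfl
  haveI := Groth.L06.NormalAscent.faithfullyFlat_cpl A'
  haveI : Module.Flat A (EGA4.Cpl A') := Module.Flat.trans A A' (EGA4.Cpl A')
  haveI hnA : IsNoetherianRing (EGA4.Cpl A) := Groth.Agent.S0543.result A _
  haveI hnA' : IsNoetherianRing (EGA4.Cpl A') := Groth.Agent.S0543.result A' _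
  let φ := Groth.L06.GRingTransport.mapCompletion (algebraMap A A') (maximalIdeal A) (maximalIdeal A')
    (IsLocalRing.map_maximalIdeal_le _)
  letI := φ.toAlgebra
  have htower : ∀ a, algebraMap A (EGA4.Cpl A') a = φ (algebraMap A (EGA4.Cpl A) a) := fun a =>
    (Groth.L06.GRingTransport.mapCompletion_algebraMap (algebraMap A A') _ _ _ a).symm
  haveI : IsScalarTower A (EGA4.Cpl A) (EGA4.Cpl A') := IsScalarTower.of_algebraMap_eq htower
  have hmC : maximalIdeal (EGA4.Cpl A) = (maximalIdeal A).map (algebraMap A (EGA4.Cpl A)) :=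
    AdicCompletion.maximalIdeal_eq_map
  haveI : IsLocalHom (algebraMap (EGA4.Cpl A) (EGA4.Cpl A')) := by
    refine ((IsLocalRing.local_hom_TFAE (algebraMap (EGA4.Cpl A) (EGA4.Cpl A'))).out 0 2 rfl rfl).mpr ?_
    rw [hmC, Ideal.map_map, ← IsScalarTower.algebraMap_eq, IsScalarTower.algebraMap_eq A A' (EGA4.Cpl A'),
      ← Ideal.map_map, AdicCompletion.maximalIdeal_eq_map]
    exact Ideal.map_mono (IsLocalRing.map_maximalIdeal_le _)
  refine ⟨inferInstance, inferInstance, ?_⟩
  haveI : Module.Flat (EGA4.Cpl A) (EGA4.Cpl A') := by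
    refine Groth.L20.flat_of_lTensor_maximalIdeal_injective (EGA4.Cpl A') ?_
    let ι : maximalIdeal A →ₗ[A] maximalIdeal (EGA4.Cpl A) :=
      { toFun := fun a => ⟨algebraMap A (EGA4.Cpl A) a, hmC ▸ Ideal.mem_map_of_mem _ a.2⟩
        map_add' := fun a b => Subtype.ext (map_add _ _ _)
        map_smul' := fun r a => Subtype.ext (by
          simp only [SetLike.val_smul, smul_eq_mul, map_mul, RingHom.id_apply]
          exact (Algebra.smul_def r _).symm) }
    let g : EGA4.Cpl A' ⊗[A] maximalIdeal A →+ EGA4.Cpl A' ⊗[EGA4.Cpl A] maximalIdeal (EGA4.Cpl A) :=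
      TensorProduct.liftAddHom
        { toFun := fun c => ((TensorProduct.mk (EGA4.Cpl A) (EGA4.Cpl A') (maximalIdeal (EGA4.Cpl A)) c).toAddMonoidHom).comp ι.toAddMonoidHom
          map_zero' := by ext a; simp
          map_add' := fun c d => by ext a; simp }
        (fun r c a => by
          show (r • c) ⊗ₜ[EGA4.Cpl A] ι a = c ⊗ₜ[EGA4.Cpl A] ι (r • a)
          rw [map_smul, ← algebraMap_smul (EGA4.Cpl A) r c, ← algebraMap_smul (EGA4.Cpl A) r (ι a), TensorProduct.smul_tmul])
    have hgs : Function.Surjective g := by
      intro z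
      induction z using TensorProduct.induction_on with
      | zero => exact ⟨0, map_zero _⟩
      | tmul c y =>
        have hy : y ∈ Submodule.span (EGA4.Cpl A) (Set.range ι) := by
          obtain ⟨y, hy⟩ := y
          have hy' : y ∈ Submodule.span (EGA4.Cpl A) (algebraMap A (EGA4.Cpl A) '' (maximalIdeal A : Set A)) := hmC.le hy
          have : (⟨y, hy⟩ : maximalIdeal (EGA4.Cpl A)).1 ∈ (Submodule.span (EGA4.Cpl A) (Set.range ι)).map (maximalIdeal (EGA4.Cpl A)).subtype := by
            rw [Submodule.map_span, ← Set.range_comp]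
            refine Submodule.span_mono ?_ hy'
            rintro _ ⟨a, ha, rfl⟩
            exact ⟨⟨a, ha⟩, rfl⟩
          obtain ⟨w, hw, hwy⟩ := this
          exact (Subtype.ext hwy : w = ⟨y, hy⟩) ▸ hw
        induction hy using Submodule.span_induction generalizing c with
        | mem y hy => obtain ⟨a, rfl⟩ := hy; exact ⟨c ⊗ₜ a, rfl⟩
        | zero => exact ⟨0, by rw [map_zero, TensorProduct.tmul_zero]⟩
        | add y y' _ _ h h' =>
          obtain ⟨w, hw⟩ := h c; obtain ⟨w', hw'⟩ := h' c
          exact ⟨w + w', by rw [map_add, hw, hw', TensorProduct.tmul_add]⟩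
        | smul r y _ h =>
          obtain ⟨w, hw⟩ := h (r • c)
          exact ⟨w, by rw [hw, TensorProduct.smul_tmul]⟩
      | add z z' h h' =>
        obtain ⟨w, rfl⟩ := h; obtain ⟨w', rfl⟩ := h'
        exact ⟨w + w', map_add _ _ _⟩
    have hcomp : ∀ w, TensorProduct.rid (EGA4.Cpl A) (EGA4.Cpl A') ((maximalIdeal (EGA4.Cpl A)).subtype.lTensor (EGA4.Cpl A') (g w)) =
        TensorProduct.rid A (EGA4.Cpl A') ((maximalIdeal A).subtype.lTensor (EGA4.Cpl A') w) := by
      intro w
      induction w using TensorProduct.induction_on with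
      | zero => simp
      | tmul c a =>
        show algebraMap A (EGA4.Cpl A) (a : A) • c = (a : A) • c
        exact algebraMap_smul _ _ c
      | add w w' h h' => simp only [map_add, h, h']
    refine (injective_iff_map_eq_zero _).mpr fun z hz => ?_
    obtain ⟨w, rfl⟩ := hgs z
    have hw : TensorProduct.rid A (EGA4.Cpl A') ((maximalIdeal A).subtype.lTensor (EGA4.Cpl A') w) = 0 := by
      rw [← hcomp, hz, map_zero]
    have := Module.Flat.lTensor_preserves_injective_linearMap (M := EGA4.Cpl A') (maximalIdeal A).subtype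
      Subtype.val_injective (((LinearEquiv.map_eq_zero_iff _).mp hw).trans (map_zero _).symm)
    rw [this, map_zero]
  exact Module.FaithfullyFlat.of_flat_of_isLocalHom

end Completion

section CM

theorem cm_iff_forall_hasSk {R : Type u} [CommRing R] [IsNoetherianRing R] :
    LocCoh.IsCohenMacaulayRing R ↔ ∀ n, LocCoh.HasSk n R R := by
  constructor
  · intro h n
    rw [Groth.L06.FlatFibre.hasSk_self_iff]
    intro p _
    haveI := h.isCohenMacaulayLocalRing_localization p
    rw [← LocCoh.IsCohenMacaulayLocalRing.supportDim_eq_depth (R := Localization.AtPrime p),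
      Module.supportDim_self_eq_ringKrullDim]
    exact min_le_right _ _
  · intro h
    refine { isCohenMacaulayLocalRing_localization := fun p _ => ?_ }
    refine { supportDim_eq_depth := le_antisymm ?_ (Groth.L04.depth_le_supportDim) }
    rw [Module.supportDim_self_eq_ringKrullDim]
    obtain ⟨n, hn⟩ : ∃ n : ℕ, ringKrullDim (Localization.AtPrime p) ≤ n := by
      have hlt := ringKrullDim_lt_top (R := Localization.AtPrime p)
      generalize ringKrullDim (Localization.AtPrime p) = d at hlt
      induction d using WithBot.recBotCoe with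
      | bot => exact ⟨0, bot_le⟩
      | coe d =>
        induction d using ENat.recTopCoe with
        | top => exact absurd hlt (lt_irrefl _)
        | coe n => exact ⟨n, le_rfl⟩
    have := (Groth.L06.FlatFibre.hasSk_self_iff n).mp (h n) p
    rwa [min_eq_right hn] at this

end CM

end Groth.L06.FormalFibres
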