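import Groth.Prelude.Def_EGA4b
import Mathlib.Algebra.DualNumber
import Mathlib.RingTheory.Derivation.Basic
import Mathlib.RingTheory.Localization.Basic
import Mathlib.RingTheory.AdicCompletion.Algebra

/-! Derivations extend to localizations and completions. -/

set_option autoImplicit false
set_option linter.style.haveILetI false
universe u

namespace Groth.L06.CplDer

open TrivSqZeroExt

theorem exists_localization_der {T : Type u} [CommRing T] (M : Submonoid T) (S : Type u) [CommRing S] [Algebra T S]
    [IsLocalization M S] (δ : Derivation ℤ T T) :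
    ∃ δ' : Derivation ℤ S S, ∀ t, δ' (algebraMap T S t) = algebraMap T S (δ t) := by
  let h0 : T →+* DualNumber S :=
    { toFun := fun r => inl (algebraMap T S r) + inr (algebraMap T S (δ r))
      map_one' := by ext <;> simp [δ.map_one_eq_zero]
      map_mul' := fun x y => by
        ext
        · simp
        · simp only [snd_mul, fst_add, fst_inl, fst_inr, snd_add, snd_inl, snd_inr, δ.leibniz, map_add, map_mul, smul_eq_mul, op_smul_eq_smul, add_zero, zero_add]
      map_zero' := by ext <;> simp
      map_add' := fun x y => by ext <;> simp only [fst_add, snd_add, fst_inl, fst_inr, snd_inl, snd_inr, map_add, add_zero, zero_add] }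
  have hu : ∀ y : M, IsUnit (h0 y) := fun y => by
    rw [TrivSqZeroExt.isUnit_iff_isUnit_fst]
    simp only [h0, RingHom.coe_mk, MonoidHom.coe_mk, OneHom.coe_mk, fst_add, fst_inl, fst_inr, add_zero]
    exact IsLocalization.map_units S y
  let H : S →+* DualNumber S := IsLocalization.lift hu
  have hH : ∀ r, H (algebraMap T S r) = h0 r := fun r => IsLocalization.lift_eq hu r
  have hfst : ∀ z, fst (H z) = z := fun z => by
    have : (TrivSqZeroExt.fstHom S S S).toRingHom.comp H = RingHom.id S :=
      IsLocalization.ringHom_ext M (RingHom.ext fun r => by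
        show fst (H (algebraMap T S r)) = algebraMap T S r
        rw [hH]
        simp only [h0, RingHom.coe_mk, MonoidHom.coe_mk, OneHom.coe_mk, fst_add, fst_inl, fst_inr, add_zero])
    exact RingHom.congr_fun this z
  refine ⟨Derivation.mk' (((TrivSqZeroExt.sndHom S S).toAddMonoidHom.comp H.toAddMonoidHom)).toIntLinearMap (fun a b => ?_),
    fun r => ?_⟩
  · show snd (H (a * b)) = a • snd (H b) + b • snd (H a)
    rw [map_mul, snd_mul, hfst, hfst, op_smul_eq_smul]
  · show snd (H (algebraMap T S r)) = _
    rw [hH]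
    simp only [h0, RingHom.coe_mk, MonoidHom.coe_mk, OneHom.coe_mk, snd_add, snd_inl, snd_inr, zero_add]

theorem der_pow_le {T : Type u} [CommRing T] (I : Ideal T) (δ : Derivation ℤ T T) :
    ∀ (n : ℕ), ∀ x ∈ I ^ (n + 1), δ x ∈ I ^ n := by
  intro n
  induction n with
  | zero => intro x _; simp
  | succ n ih =>
    intro x hx
    rw [pow_succ] at hx
    refine Submodule.mul_induction_on hx (fun a ha b hb => ?_) fun a b ha hb => by rw [map_add]; exact add_mem ha hb
    rw [δ.leibniz, smul_eq_mul, smul_eq_mul]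
    refine add_mem (Ideal.mul_mem_right _ _ ha) ?_
    rw [pow_succ, mul_comm b]
    exact Ideal.mul_mem_mul (ih a ha) hb

theorem exists_cpl_der {T : Type u} [CommRing T] (I : Ideal T) (δ : Derivation ℤ T T) :
    ∃ δ' : Derivation ℤ (AdicCompletion I T) (AdicCompletion I T),
      ∀ t, δ' (algebraMap T (AdicCompletion I T) t) = algebraMap T (AdicCompletion I T) (δ t) := by
  let bar : ∀ n, T ⧸ I ^ (n + 1) →+ T ⧸ I ^ n := fun n =>
    QuotientAddGroup.lift (Submodule.toAddSubgroup (I ^ (n + 1)))
      ((Ideal.Quotient.mk (I ^ n)).toAddMonoidHom.comp δ.toLinearMap.toAddMonoidHom)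
      (fun x hx => Ideal.Quotient.eq_zero_iff_mem.mpr (der_pow_le I δ n x hx))
  have hbar : ∀ n x, bar n (Ideal.Quotient.mk _ x) = Ideal.Quotient.mk _ (δ x) := fun n x => rfl
  have hex : ∀ x : AdicCompletion I T, ∃ y : AdicCompletion I T, ∀ n,
      AdicCompletion.evalₐ I n y = bar n (AdicCompletion.evalₐ I (n + 1) x) := by
    intro x
    obtain ⟨c, rfl⟩ := AdicCompletion.mk_surjective I T x
    refine ⟨AdicCompletion.mk I T ⟨fun n => δ (c (n + 1)), fun {m n} hmn => ?_⟩, fun n => ?_⟩
    · have h := c.2 (show m + 1 ≤ n + 1 by omega)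
      rw [SModEq.sub_mem, smul_eq_mul, Ideal.mul_top] at h ⊢
      rw [← map_sub]
      exact der_pow_le I δ m _ h
    · refine (AdicCompletion.evalₐ_mk ..).trans ?_
      rw [AdicCompletion.evalₐ_mk, hbar]
  choose D hD using hex
  have hev : ∀ x n a, AdicCompletion.evalₐ I (n + 1) x = Ideal.Quotient.mk _ a →
      AdicCompletion.evalₐ I n (D x) = Ideal.Quotient.mk _ (δ a) := fun x n a ha => by rw [hD, ha, hbar]
  have hlow : ∀ x n a, AdicCompletion.evalₐ I (n + 1) x = Ideal.Quotient.mk _ a →
      AdicCompletion.evalₐ I n x = Ideal.Quotient.mk _ a := by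
    intro x n a ha
    obtain ⟨c, rfl⟩ := AdicCompletion.mk_surjective I T x
    rw [AdicCompletion.evalₐ_mk, Ideal.Quotient.eq] at ha
    rw [AdicCompletion.evalₐ_mk, Ideal.Quotient.eq]
    have h := c.2 (Nat.le_succ n)
    rw [SModEq.sub_mem, smul_eq_mul, Ideal.mul_top] at h
    simpa using add_mem h (Ideal.pow_le_pow_right (Nat.le_succ n) ha)
  have hadd : ∀ x y, D (x + y) = D x + D y := fun x y => AdicCompletion.ext_evalₐ fun n => by
    simp only [map_add, hD]
  have hmul : ∀ x y, D (x * y) = x * D y + y * D x := fun x y => AdicCompletion.ext_evalₐ fun n => by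
    obtain ⟨a, ha⟩ := Ideal.Quotient.mk_surjective (AdicCompletion.evalₐ I (n + 1) x)
    obtain ⟨b, hb⟩ := Ideal.Quotient.mk_surjective (AdicCompletion.evalₐ I (n + 1) y)
    rw [hev (x * y) n (a * b) (by rw [map_mul, map_mul, ha, hb]), δ.leibniz, smul_eq_mul, smul_eq_mul, map_add, map_add,
      map_mul, map_mul, map_mul, map_mul, hev x n a ha.symm, hev y n b hb.symm, hlow x n a ha.symm, hlow y n b hb.symm]
  refine ⟨Derivation.mk' (AddMonoidHom.mk' D hadd).toIntLinearMap (fun x y => hmul x y), fun t => ?_⟩
  show D (algebraMap T (AdicCompletion I T) t) = _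
  exact AdicCompletion.ext_evalₐ fun n => by
    rw [hev _ n t (by rw [AlgHom.commutes]; rfl), AlgHom.commutes]
    rfl

end Groth.L06.CplDer
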