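import Groth.Agent.L06.PowSerDer
import Groth.Agent.L06.InsepJ0
import Groth.Agent.L01.NagataComplete
import Groth.Agent.S0581

/-! Complete Noetherian local rings are J-2. -/

set_option autoImplicit false
set_option linter.style.haveILetI false
universe u

namespace Groth.L06.J0Complete

open Groth.L06

theorem j0_of_finiteType_over_regular {T B : Type u} [CommRing T] [IsDomain T] [IsRegularRing T]
    (hT : ∀ (p : ℕ) [Fact p.Prime] [CharP T p], InsepJ0.Good T (FractionRing T) p)
    [CommRing B] [IsDomain B] [Algebra T B] [FaithfulSMul T B] [Algebra.FiniteType T B] : J2.J0 B := by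
  refine J2.j0_of_finiteType_of_insep (A := T) fun Ω _ _ hinj p hp R e hR => ?_
  haveI : FaithfulSMul T Ω := (faithfulSMul_iff_algebraMap_injective T Ω).mpr hinj
  cases hp with
  | zero =>
    have hbot : Algebra.adjoin T (R : Set Ω) = ⊥ := eq_bot_iff.mpr (Algebra.adjoin_le fun z hz => by
      obtain ⟨a, ha⟩ := hR z hz
      rw [one_pow, pow_one] at ha
      exact ha ▸ Subalgebra.algebraMap_mem _ a)
    rw [hbot]
    haveI : IsRegularRing (⊥ : Subalgebra T Ω) := IsRegularRing.of_ringEquiv (R := T) (Algebra.botEquivOfInjective hinj).symm.toRingEquiv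
    exact ⟨1, one_ne_zero, fun q _ => IsRegularRing.isRegularLocalRing_localization q.asIdeal⟩
  | prime hprime =>
    haveI := Fact.mk hprime
    haveI : CharP T p := (RingHom.charP_iff (algebraMap T Ω) hinj p).mpr ‹_›
    exact InsepJ0.good_of_forall_pow p (hT p) R e hR

/-- a complete local domain is finite over a regular domain with enough derivations -/
theorem exists_base (R : Type u) [CommRing R] [IsDomain R] [IsLocalRing R] [IsNoetherianRing R]
    [IsAdicComplete (IsLocalRing.maximalIdeal R) R] :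
    ∃ (T : Type u) (_ : CommRing T) (_ : IsDomain T) (_ : IsRegularRing T) (f : T →+* R),
      Function.Injective f ∧ f.Finite ∧ ∀ (p : ℕ) [Fact p.Prime] [CharP T p], InsepJ0.Good T (FractionRing T) p := by
  obtain ⟨Λ, _, n, f, hΛ, hinj, hfin, -⟩ := Groth.Agent.S0581.result R
  rcases hΛ with hk | hC
  · letI := hk.toField
    haveI : IsDomain (MvPowerSeries (Fin n) Λ) := NoZeroDivisors.to_isDomain _
    refine ⟨_, inferInstance, inferInstance, Groth.Agent.S5784.result Λ n, f, hinj, hfin, fun p _ _ => ?_⟩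
    haveI : CharP Λ p := (RingHom.charP_iff (algebraMap Λ (MvPowerSeries (Fin n) Λ)) (algebraMap Λ _).injective p).mpr ‹_›
    exact PowSerDer.good Λ p n
  · obtain ⟨hd, hdvr, hc, p₀, hp₀, hm⟩ := hC
    haveI : IsDomain (MvPowerSeries (Fin n) Λ) := NoZeroDivisors.to_isDomain _
    refine ⟨_, inferInstance, inferInstance, Groth.Agent.S5784.result Λ n, f, hinj, hfin, fun p _ _ => ?_⟩
    exfalso
    haveI : CharP Λ p := (RingHom.charP_iff (MvPowerSeries.C (σ := Fin n) (R := Λ)) MvPowerSeries.C_injective p).mpr ‹_›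
    have hne : (p₀ : Λ) ≠ 0 := fun h => IsDiscreteValuationRing.not_a_field Λ (by rw [hm, h, Ideal.span_singleton_eq_bot])
    have hmem : (p₀ : Λ) ∈ IsLocalRing.maximalIdeal Λ := hm ▸ Ideal.mem_span_singleton_self _
    have hcop : Nat.Coprime p₀ p := (Nat.coprime_primes hp₀ Fact.out).mpr fun h => hne (h ▸ CharP.cast_eq_zero Λ p)
    obtain ⟨a, b, hab⟩ := (Nat.isCoprime_iff_coprime.mpr hcop : IsCoprime (p₀ : ℤ) p)
    have := congrArg (Int.cast : ℤ → Λ) hab
    push_cast at this
    rw [CharP.cast_eq_zero Λ p, mul_zero, add_zero] at this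
    exact (IsLocalRing.maximalIdeal.isMaximal Λ).ne_top ((Ideal.eq_top_iff_one _).mpr (this ▸ Ideal.mul_mem_left _ _ hmem))

theorem j0_of_finiteType {A B : Type u} [CommRing A] [IsNoetherianRing A] [IsLocalRing A]
    [IsAdicComplete (IsLocalRing.maximalIdeal A) A] [CommRing B] [IsDomain B] [Algebra A B] [Algebra.FiniteType A B] :
    J2.J0 B := by
  let P : Ideal A := RingHom.ker (algebraMap A B)
  haveI : P.IsPrime := RingHom.ker_isPrime _
  haveI : IsLocalRing (A ⧸ P) := IsLocalRing.of_surjective' _ Ideal.Quotient.mk_surjective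
  haveI := Groth.L01.NagataComplete.isAdicComplete_quotient P
  letI : Algebra (A ⧸ P) B := (RingHom.kerLift (algebraMap A B)).toAlgebra
  haveI : IsScalarTower A (A ⧸ P) B := IsScalarTower.of_algebraMap_eq fun a => rfl
  haveI : Algebra.FiniteType (A ⧸ P) B := Algebra.FiniteType.of_restrictScalars_finiteType A _ _
  obtain ⟨T, _, _, _, f, hinj, hfin, hT⟩ := exists_base (A ⧸ P)
  letI : Algebra T (A ⧸ P) := f.toAlgebra
  haveI : Module.Finite T (A ⧸ P) := hfin
  letI : Algebra T B := ((algebraMap (A ⧸ P) B).comp f).toAlgebra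
  haveI : IsScalarTower T (A ⧸ P) B := IsScalarTower.of_algebraMap_eq' rfl
  haveI : Algebra.FiniteType T B := Algebra.FiniteType.trans (S := A ⧸ P) inferInstance ‹_›
  haveI : FaithfulSMul T B := (faithfulSMul_iff_algebraMap_injective T B).mpr ((RingHom.kerLift_injective _).comp hinj)
  exact j0_of_finiteType_over_regular (T := T) hT

theorem isJ2 (A : Type u) [CommRing A] [IsNoetherianRing A] [IsLocalRing A]
    [IsAdicComplete (IsLocalRing.maximalIdeal A) A] : EGA4.IsJ2 A :=
  J2.isJ2_of_finite_domains fun A' _ _ _ _ => j0_of_finiteType (A := A)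

end Groth.L06.J0Complete
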