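import Groth.Agent.S0564
import Groth.Agent.L01.Regular
import Mathlib.RingTheory.Localization.LocalizationLocalization
import Mathlib.RingTheory.PowerSeries.Basic
import Mathlib.RingTheory.MvPowerSeries.Equiv

/-! Regular rings: maximal ideals suffice; power series over a regular ring (EGA 0_IV 17.3.8). -/

set_option linter.style.haveILetI false

universe u

namespace Groth.L06.RegularRing

open IsLocalRing

/-- Regularity of a ring can be checked at the maximal ideals. -/
theorem isRegularRing_of_maximal {B : Type u} [CommRing B] [IsNoetherianRing B]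
    (h : ∀ (M : Ideal B) [M.IsMaximal], IsRegularLocalRing (Localization.AtPrime M)) : IsRegularRing B := by
  refine (isRegularRing_iff (R := B)).mpr fun p hp => ?_
  obtain ⟨M, hM, hle⟩ := p.exists_le_maximal hp.ne_top
  haveI := h M
  let q := p.map (algebraMap B (Localization.AtPrime M))
  have hd : Disjoint (M.primeCompl : Set B) (p : Set B) := Set.disjoint_left.mpr fun x hx hxp => hx (hle hxp)
  haveI hq : q.IsPrime := IsLocalization.isPrime_of_isPrime_disjoint M.primeCompl _ p hp hd
  have hc : q.comap (algebraMap B (Localization.AtPrime M)) = p :=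
    IsLocalization.comap_map_of_isPrime_disjoint M.primeCompl _ hp hd
  haveI : IsRegularLocalRing (Localization.AtPrime q) := Groth.Agent.S0564.result _ q
  haveI h1 : IsLocalization.AtPrime (Localization.AtPrime q) (q.comap (algebraMap B (Localization.AtPrime M))) :=
    IsLocalization.isLocalization_isLocalization_atPrime_isLocalization M.primeCompl _ q
  haveI h2 : IsLocalization.AtPrime (Localization.AtPrime q) p := by
    convert h1 using 2
    exact hc.symm
  exact IsRegularLocalRing.of_ringEquiv
    (IsLocalization.algEquiv p.primeCompl (Localization.AtPrime q) (Localization.AtPrime p)).toRingEquiv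

open PowerSeries in
/-- Power series in one variable over a regular ring. -/
theorem isRegularRing_powerSeries (A : Type u) [CommRing A] [IsRegularRing A] :
    IsRegularRing (PowerSeries A) := by
  refine isRegularRing_of_maximal fun M hM => ?_
  have hXj : ∀ g : PowerSeries A, IsUnit (1 + X * g) := fun g => by
    rw [isUnit_iff_constantCoeff]; simp
  have hXM : (X : PowerSeries A) ∈ M := by
    by_contra h
    obtain ⟨y, i, hi, hy⟩ := hM.exists_inv h
    refine hM.ne_top (M.eq_top_of_isUnit_mem hi ?_)
    have : i = 1 + X * (-y) := by linear_combination hy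
    rw [this]
    exact hXj _
  have hC : ∀ b : PowerSeries A, b - C (constantCoeff b) ∈ Ideal.span {(X : PowerSeries A)} := fun b =>
    Ideal.mem_span_singleton.mpr (X_dvd_iff.mpr (by simp))
  let m := M.comap (C : A →+* PowerSeries A)
  haveI : m.IsPrime := Ideal.IsPrime.comap _
  have hM' : M = m.comap (constantCoeff (R := A)) := by
    ext b
    have h := (Ideal.span_singleton_le_iff_mem _).mpr hXM (hC b)
    simp only [m, Ideal.mem_comap]
    exact ⟨fun hb => by simpa using sub_mem hb h, fun hb => by simpa using add_mem hb h⟩
  let θ := Localization.localRingHom M m (constantCoeff (R := A)) hM'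
  have hθs : Function.Surjective θ := by
    intro a
    obtain ⟨a, ⟨s, hs⟩, rfl⟩ := IsLocalization.exists_mk'_eq m.primeCompl a
    have hCs : (C s : PowerSeries A) ∈ M.primeCompl := hs
    refine ⟨IsLocalization.mk' _ (C a : PowerSeries A) ⟨C s, hCs⟩, ?_⟩
    simp only [θ, Localization.localRingHom_mk']
    exact IsLocalization.mk'_eq_of_eq (by simp [mul_comm])
  let x : Localization.AtPrime M := algebraMap _ _ (X : PowerSeries A)
  have hθk : RingHom.ker θ = Ideal.span {x} := by
    refine le_antisymm (fun z hz => ?_) ((Ideal.span_singleton_le_iff_mem _).mpr ?_)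
    · obtain ⟨b, ⟨t, ht⟩, rfl⟩ := IsLocalization.exists_mk'_eq M.primeCompl z
      rw [RingHom.mem_ker] at hz
      simp only [θ, Localization.localRingHom_mk', IsLocalization.mk'_eq_zero_iff] at hz
      obtain ⟨⟨c, hc⟩, hcb⟩ := hz
      have hCc : (C c : PowerSeries A) ∈ M.primeCompl := hc
      obtain ⟨g, hg⟩ : (X : PowerSeries A) ∣ C c * b := X_dvd_iff.mpr (by simpa using hcb)
      have : IsLocalization.mk' (Localization.AtPrime M) b ⟨t, ht⟩ =
          x * IsLocalization.mk' (Localization.AtPrime M) g (⟨t, ht⟩ * ⟨C c, hCc⟩) := by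
        rw [IsLocalization.mul_mk'_eq_mk'_of_mul, IsLocalization.mk'_eq_iff_eq, ← hg]
        congr 1
        simp [mul_comm, mul_left_comm]
      rw [this]
      exact Ideal.mul_mem_right _ _ (Ideal.mem_span_singleton_self x)
    · simp [θ, x, Localization.localRingHom_to_map]
  haveI : IsRegularLocalRing (Localization.AtPrime M ⧸ Ideal.span {x}) :=
    IsRegularLocalRing.of_ringEquiv
      ((RingHom.quotientKerEquivOfSurjective hθs).symm.trans (Ideal.quotEquivOfEq hθk))
  refine Groth.L01.exists_regular_of_quotient (x := x) ?_ (mem_nonZeroDivisors_iff_right.mpr fun z hz => ?_)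
  · exact (IsLocalization.AtPrime.to_map_mem_maximal_iff _ M _).mpr hXM
  · obtain ⟨b, t, rfl⟩ := IsLocalization.exists_mk'_eq M.primeCompl z
    rw [mul_comm, IsLocalization.mul_mk'_eq_mk'_of_mul, IsLocalization.mk'_eq_zero_iff] at hz
    obtain ⟨c, hc⟩ := hz
    rw [IsLocalization.mk'_eq_zero_iff]
    refine ⟨c, ?_⟩
    rw [mul_left_comm] at hc
    exact ext fun n => by
      have := congrArg (coeff (n + 1)) hc
      simpa [coeff_succ_X_mul] using this

end Groth.L06.RegularRing
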