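import Groth.Agent.L06.InsepJ0
import Groth.Agent.S5784
import Mathlib.RingTheory.MvPowerSeries.Derivative
import Mathlib.RingTheory.MvPowerSeries.Expand
import Mathlib.RingTheory.MvPowerSeries.NoZeroDivisors
import Mathlib.Order.Zorn

/-! Power series rings in characteristic `p` have enough bounded derivations. -/

set_option autoImplicit false
set_option linter.style.haveILetI false
universe u

namespace Groth.L06.PowSerDer

open Groth.L06.BddDer Groth.L06.InsepJ0 TrivSqZeroExt

theorem exists_maximal_subfield {k : Type u} [Field k] (F₀ : Subfield k) (c : k) (hc : c ∉ F₀) :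
    ∃ F : Subfield k, F₀ ≤ F ∧ Maximal (fun G : Subfield k => F₀ ≤ G ∧ c ∉ G) F := by
  refine zorn_le_nonempty₀ {G : Subfield k | F₀ ≤ G ∧ c ∉ G} (fun C hC hchain y hy => ?_) F₀ ⟨le_rfl, hc⟩
  refine ⟨sSup C, ⟨(hC hy).1.trans (le_sSup hy), fun hm => ?_⟩, fun G hG => le_sSup hG⟩
  obtain ⟨G, hG, hcG⟩ := (Subfield.mem_sSup_of_directedOn ⟨y, hy⟩ hchain.directedOn).mp hm
  exact (hC hG).2 hcG

/-- derivations of a field of characteristic `p` detect non-`p`-th powers -/
theorem exists_der {k : Type u} [Field k] (p : ℕ) [Fact p.Prime] [CharP k p] {c : k} (hc : ∀ b : k, b ^ p ≠ c) :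
    ∃ D : Derivation ℤ k k, D c = 1 := by
  have hp : p.Prime := Fact.out
  obtain ⟨F, -, hmax⟩ := exists_maximal_subfield (frobenius k p).fieldRange c (fun ⟨b, hb⟩ => hc b hb)
  have hF : ∀ x : k, x ^ p ∈ F := fun x => hmax.1.1 ⟨x, rfl⟩
  have hirr : ∀ b : F, b ^ p ≠ (⟨c ^ p, hF c⟩ : F) := fun b hb => by
    have h1 : (b : k) ^ p = c ^ p := congrArg Subtype.val hb
    exact hmax.1.2 ((frobenius_inj k p h1 : (b : k) = c) ▸ b.2)
  have hintF : ∀ x : k, IsIntegral F x := fun x => IsIntegral.of_pow hp.pos
    (isIntegral_algebraMap (R := F) (A := k) (x := ⟨x ^ p, hF x⟩))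
  have hdeg : Module.finrank F (IntermediateField.adjoin F {c}) = p := by
    rw [IntermediateField.adjoin.finrank (hintF c), ← minpoly.eq_of_irreducible_of_monic
      (X_pow_sub_C_irreducible_of_prime hp hirr) (by rw [map_sub, map_pow, Polynomial.aeval_X, Polynomial.aeval_C]; exact sub_self _)
      (Polynomial.monic_X_pow_sub_C _ hp.ne_zero)]
    exact Polynomial.natDegree_X_pow_sub_C
  have htop : IntermediateField.adjoin F {c} = ⊤ := by
    refine eq_top_iff.mpr fun x _ => ?_
    by_contra hx
    have hxF : x ∉ F := fun h => hx (IntermediateField.algebraMap_mem _ (⟨x, h⟩ : F))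
    have hcx : c ∈ IntermediateField.adjoin F {x} := by
      by_contra hcx
      have hle : F ≤ (IntermediateField.adjoin F {x}).toSubfield := fun y hy => IntermediateField.algebraMap_mem _ (⟨y, hy⟩ : F)
      exact hxF (hmax.2 ⟨hmax.1.1.trans hle, hcx⟩ hle (IntermediateField.mem_adjoin_simple_self F x))
    have hle : IntermediateField.adjoin F {c} ≤ IntermediateField.adjoin F {x} :=
      IntermediateField.adjoin_simple_le_iff.mpr hcx
    haveI := IntermediateField.adjoin.finiteDimensional (hintF x)
    have hdx : Module.finrank F (IntermediateField.adjoin F {x}) ≤ p := by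
      rw [IntermediateField.adjoin.finrank (hintF x)]
      refine (Polynomial.natDegree_le_of_dvd (minpoly.dvd F x ?_) (Polynomial.monic_X_pow_sub_C (⟨x ^ p, hF x⟩ : F) hp.ne_zero).ne_zero).trans
        Polynomial.natDegree_X_pow_sub_C.le
      rw [map_sub, map_pow, Polynomial.aeval_X, Polynomial.aeval_C]
      exact sub_self _
    exact hx (IntermediateField.eq_of_le_of_finrank_le hle (hdx.trans hdeg.ge) ▸ IntermediateField.mem_adjoin_simple_self F x)
  have halg : Algebra.adjoin F {c} = ⊤ := by
    rw [← IntermediateField.adjoin_simple_toSubalgebra_of_isAlgebraic (hintF c).isAlgebraic, htop, IntermediateField.top_toSubalgebra]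
  obtain ⟨D, -, hD⟩ := InsepJ0.exists_extension (A := F) (K := F) (L := k) p c ⟨c ^ p, hF c⟩ rfl hirr halg 0
    (Derivation.zero_apply _) 1
  exact ⟨D, hD⟩

variable {σ : Type} (k : Type u) [Field k]

/-- applying a derivation to the coefficients -/
noncomputable def coeffDer (d : Derivation ℤ k k) : MvPowerSeries σ k → MvPowerSeries σ k :=
  fun f n => d (MvPowerSeries.coeff n f)

theorem coeff_coeffDer (d : Derivation ℤ k k) (f : MvPowerSeries σ k) (n : σ →₀ ℕ) :
    MvPowerSeries.coeff n (coeffDer k d f) = d (MvPowerSeries.coeff n f) := rfl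

/-- the coefficientwise derivation -/
noncomputable def coeffDerivation (d : Derivation ℤ k k) : Derivation ℤ (MvPowerSeries σ k) (MvPowerSeries σ k) :=
  Derivation.mk' (AddMonoidHom.toIntLinearMap
    { toFun := coeffDer k d
      map_zero' := by ext n; simp [coeff_coeffDer]
      map_add' := fun f g => by ext n; simp [coeff_coeffDer] }) fun f g => by
    classical
    show coeffDer k d (f * g) = f • coeffDer k d g + g • coeffDer k d f
    rw [smul_eq_mul, smul_eq_mul, mul_comm g (coeffDer k d f)]
    ext n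
    simp only [coeff_coeffDer, MvPowerSeries.coeff_mul, map_add, map_sum, d.leibniz, smul_eq_mul, ← Finset.sum_add_distrib]
    exact Finset.sum_congr rfl fun x _ => by ring

theorem exists_bdd {T K : Type u} [CommRing T] [IsDomain T] [Field K] [Algebra T K] [IsFractionRing T K]
    {R : Type} [CommRing R] [Algebra R T] (δ : Derivation R T T) :
    ∃ D : Derivation ℤ K K, Bdd T D ∧ ∀ r, D (algebraMap T K r) = algebraMap T K (δ r) := by
  let h0 : T →+* DualNumber K :=
    { toFun := fun r => inl (algebraMap T K r) + inr (algebraMap T K (δ r))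
      map_one' := by ext <;> simp [δ.map_one_eq_zero]
      map_mul' := fun x y => by
        ext
        · simp
        · simp only [snd_mul, fst_add, fst_inl, fst_inr, snd_add, snd_inl, snd_inr, δ.leibniz, map_add, map_mul, smul_eq_mul, op_smul_eq_smul, add_zero, zero_add]
      map_zero' := by ext <;> simp
      map_add' := fun x y => by ext <;> simp only [fst_add, snd_add, fst_inl, fst_inr, snd_inl, snd_inr, map_add, add_zero, zero_add] }
  have hu : ∀ y : nonZeroDivisors T, IsUnit (h0 y) := fun y => by
    rw [TrivSqZeroExt.isUnit_iff_isUnit_fst]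
    refine IsUnit.mk0 _ ?_
    simp only [h0, RingHom.coe_mk, MonoidHom.coe_mk, OneHom.coe_mk, fst_add, fst_inl, fst_inr, add_zero]
    exact (map_ne_zero_iff _ (IsFractionRing.injective T K)).mpr (nonZeroDivisors.ne_zero y.2)
  let H : K →+* DualNumber K := IsLocalization.lift hu
  have hH : ∀ r, H (algebraMap T K r) = h0 r := fun r => IsLocalization.lift_eq hu r
  have hfst : ∀ z, fst (H z) = z := fun z => by
    have : (TrivSqZeroExt.fstHom K K K).toRingHom.comp H = RingHom.id K :=
      IsLocalization.ringHom_ext (nonZeroDivisors T) (RingHom.ext fun r => by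
        show fst (H (algebraMap T K r)) = algebraMap T K r
        rw [hH]
        simp only [h0, RingHom.coe_mk, MonoidHom.coe_mk, OneHom.coe_mk, fst_add, fst_inl, fst_inr, add_zero])
    exact RingHom.congr_fun this z
  have hD : ∀ r, derOfHom H hfst (algebraMap T K r) = algebraMap T K (δ r) := fun r => by
    rw [derOfHom_apply, hH]
    simp only [h0, RingHom.coe_mk, MonoidHom.coe_mk, OneHom.coe_mk, snd_add, snd_inl, snd_inr, zero_add]
  exact ⟨derOfHom H hfst, ⟨1, one_ne_zero, fun r => by rw [hD]; exact Subalgebra.algebraMap_mem _ _⟩, hD⟩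

/-- derivations of a power series ring separate non `p`-th powers -/
theorem exists_der_ne (p : ℕ) [Fact p.Prime] [CharP k p] (n : ℕ) (b : MvPowerSeries (Fin n) k)
    (hb : ∀ r : MvPowerSeries (Fin n) k, r ^ p ≠ b) :
    ∃ δ : Derivation ℤ (MvPowerSeries (Fin n) k) (MvPowerSeries (Fin n) k), δ b ≠ 0 := by
  have hp : p.Prime := Fact.out
  let T := MvPowerSeries (Fin n) k
  haveI : CharP T p := charP_of_injective_algebraMap (algebraMap k T).injective p
  by_contra hcon
  push Not at hcon
  have hdvd : ∀ m : Fin n →₀ ℕ, MvPowerSeries.coeff m b ≠ 0 → ∀ i, p ∣ m i := by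
    intro m hm i
    by_contra hpi
    have hmi : m i ≠ 0 := fun h => hpi (h ▸ dvd_zero p)
    have hle : Finsupp.single i 1 ≤ m := Finsupp.single_le_iff.mpr (Nat.one_le_iff_ne_zero.mpr hmi)
    have h0 := congrArg (MvPowerSeries.coeff (m - Finsupp.single i 1)) (hcon ((MvPowerSeries.pderiv k i).restrictScalars ℤ))
    rw [show ((MvPowerSeries.pderiv k i).restrictScalars ℤ) b = MvPowerSeries.pderiv k i b from rfl,
      MvPowerSeries.coeff_pderiv, tsub_add_cancel_of_le hle, map_zero] at h0
    refine hm ((mul_eq_zero.mp h0).resolve_right fun h => hpi ?_)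
    rw [Finsupp.tsub_apply, Finsupp.single_eq_same, ← Nat.cast_add_one, CharP.cast_eq_zero_iff k p,
      Nat.sub_add_cancel (Nat.one_le_iff_ne_zero.mpr hmi)] at h
    exact h
  have hpow : ∀ m : Fin n →₀ ℕ, ∃ r : k, r ^ p = MvPowerSeries.coeff m b := by
    intro m
    by_contra hm
    push Not at hm
    obtain ⟨d, hd⟩ := exists_der p hm
    have := congrArg (MvPowerSeries.coeff m) (hcon (coeffDerivation k d))
    rw [show coeffDerivation k d b = coeffDer k d b from rfl, coeff_coeffDer, hd, map_zero] at this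
    exact one_ne_zero this
  choose r hr using hpow
  let g : T := fun m => r (p • m)
  refine hb g ?_
  rw [← MvPowerSeries.map_frobenius_expand p hp.ne_zero]
  ext m
  rw [MvPowerSeries.coeff_map]
  by_cases hd : ∀ i, p ∣ m i
  · obtain ⟨m, rfl⟩ : ∃ m', m = p • m' := ⟨m.mapRange (· / p) (Nat.zero_div p), Finsupp.ext fun i => by
      simp [Nat.mul_div_cancel' (hd i)]⟩
    rw [MvPowerSeries.coeff_expand_smul, frobenius_def]
    exact hr (p • m)
  · push Not at hd
    obtain ⟨i, hi⟩ := hd
    rw [MvPowerSeries.coeff_expand_of_not_dvd p hp.ne_zero g hi, map_zero]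
    by_contra h
    exact hi (hdvd m (fun h' => h h'.symm) i)

theorem sep (p : ℕ) [Fact p.Prime] [CharP k p] (n : ℕ) (K : Type u) [Field K]
    [Algebra (MvPowerSeries (Fin n) k) K] [IsFractionRing (MvPowerSeries (Fin n) k) K] :
    Sep (MvPowerSeries (Fin n) k) K p := by
  haveI : IsDomain (MvPowerSeries (Fin n) k) := NoZeroDivisors.to_isDomain _
  have hp : p.Prime := Fact.out
  intro a ha
  let T := MvPowerSeries (Fin n) k
  haveI : CharP T p := charP_of_injective_algebraMap (algebraMap k T).injective p
  haveI : CharP K p := charP_of_injective_algebraMap (IsFractionRing.injective T K) p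
  obtain ⟨x, y, hy, rfl⟩ := IsFractionRing.div_surjective (A := T) a
  have hy0 : algebraMap T K y ≠ 0 := (map_ne_zero_iff _ (IsFractionRing.injective T K)).mpr (nonZeroDivisors.ne_zero hy)
  let b : T := x * y ^ (p - 1)
  have hab : algebraMap T K b = (algebraMap T K x / algebraMap T K y) * algebraMap T K y ^ p := by
    rw [map_mul, map_pow, div_mul_eq_mul_div, eq_div_iff hy0, mul_assoc, ← pow_succ, Nat.sub_add_cancel hp.pos]
  have hb : ∀ r : T, r ^ p ≠ b := fun r hr => ha (algebraMap T K r / algebraMap T K y) (by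
    rw [div_pow, ← map_pow, hr, hab, mul_div_cancel_right₀ _ (pow_ne_zero _ hy0)])
  suffices hδ : ∃ δ : Derivation ℤ T T, δ b ≠ 0 by
    obtain ⟨δ, hδ⟩ := hδ
    obtain ⟨D, hD, hDr⟩ := exists_bdd (K := K) δ
    refine ⟨D, hD, fun h0 => hδ (IsFractionRing.injective T K ?_)⟩
    refine (hDr b).symm.trans ?_
    rw [hab, D.leibniz, h0, D.leibniz_pow, nsmul_eq_mul, CharP.cast_eq_zero, zero_mul, map_zero]
    simp
  exact exists_der_ne k p n b hb

theorem good (p : ℕ) [Fact p.Prime] [CharP k p] (n : ℕ) :
    haveI : IsDomain (MvPowerSeries (Fin n) k) := NoZeroDivisors.to_isDomain _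
    Good (MvPowerSeries (Fin n) k) (FractionRing (MvPowerSeries (Fin n) k)) p := by
  haveI : IsDomain (MvPowerSeries (Fin n) k) := NoZeroDivisors.to_isDomain _
  haveI := Groth.Agent.S5784.result k n
  exact ⟨⟨1, one_ne_zero, fun q _ => IsRegularRing.isRegularLocalRing_localization q.asIdeal⟩, sep k p n _⟩

end Groth.L06.PowSerDer
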