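import Groth.Agent.L06.GeomRegField
import Groth.Agent.L06.CplDer
import Groth.Agent.L06.PowSerDer
import Groth.Agent.L06.J0Complete
import Groth.Agent.S0548

/-! Generic formal fibres of regular domains with enough derivations. -/

set_option autoImplicit false
set_option maxSynthPendingDepth 3
set_option linter.style.haveILetI false
universe u

namespace Groth.L06.GenericFibre

open scoped TensorProduct
open PropLoc DerLift

/-- derivations separate non `p`-th powers -/
def DerSep (T : Type u) [CommRing T] (p : ℕ) : Prop :=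
  ∀ b : T, (∀ r : T, r ^ p ≠ b) → ∃ δ : Derivation ℤ T T, δ b ≠ 0

theorem liftSep_tensor {T K E : Type u} [CommRing T] [IsDomain T] [Field K] [Algebra T K] [IsFractionRing T K]
    [CommRing E] [Algebra T E] (p : ℕ) [Fact p.Prime] [CharP K p]
    (hE : ∀ δ : Derivation ℤ T T, ∃ δ' : Derivation ℤ E E, ∀ t, δ' (algebraMap T E t) = algebraMap T E (δ t))
    (h : DerSep T p) : LiftSep K (K ⊗[T] E) p := by
  have hp : p.Prime := Fact.out
  intro a ha
  obtain ⟨x, y, hy, rfl⟩ := IsFractionRing.div_surjective (A := T) a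
  have hy0 : algebraMap T K y ≠ 0 := (map_ne_zero_iff _ (IsFractionRing.injective T K)).mpr (nonZeroDivisors.ne_zero hy)
  let b : T := x * y ^ (p - 1)
  have hab : algebraMap T K b = (algebraMap T K x / algebraMap T K y) * algebraMap T K y ^ p := by
    rw [map_mul, map_pow, div_mul_eq_mul_div, eq_div_iff hy0, mul_assoc, ← pow_succ, Nat.sub_add_cancel hp.pos]
  have hb : ∀ r : T, r ^ p ≠ b := fun r hr => ha (algebraMap T K r / algebraMap T K y) (by
    rw [div_pow, ← map_pow, hr, hab, mul_div_cancel_right₀ _ (pow_ne_zero _ hy0)])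
  obtain ⟨δ, hδ⟩ := h b hb
  obtain ⟨D, hD⟩ := CplDer.exists_localization_der (nonZeroDivisors T) K δ
  obtain ⟨DE, hDE⟩ := hE δ
  obtain ⟨DR, hDR⟩ := exists_tensor_der (M := K) (N := E) δ D hD DE hDE
  refine ⟨D, ⟨DR, fun z => ?_⟩, fun h0 => hδ (IsFractionRing.injective T K ?_)⟩
  · show DR (z ⊗ₜ 1) = (D z) ⊗ₜ[T] (1 : E)
    rw [hDR, Derivation.map_one_eq_zero, TensorProduct.tmul_zero, add_zero]
  · refine (hD b).symm.trans ?_
    rw [hab, D.leibniz, h0, D.leibniz_pow, nsmul_eq_mul, CharP.cast_eq_zero, zero_mul, map_zero]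
    simp

theorem isRegularRing_fraction_tensor {T : Type u} [CommRing T] [IsDomain T] [IsRegularRing T] (P : Ideal T) [P.IsPrime]
    (K : Type u) [Field K] [Algebra T K] [IsFractionRing T K] :
    IsRegularRing (K ⊗[T] EGA4.Cpl (Localization.AtPrime P)) := by
  let E := EGA4.Cpl (Localization.AtPrime P)
  haveI : IsRegularLocalRing (Localization.AtPrime P) := IsRegularRing.isRegularLocalRing_localization P
  haveI : IsRegularLocalRing E := (Groth.Agent.S0548.result (Localization.AtPrime P)).mp inferInstance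
  have hE : Loc QReg E := good_reg.loc (show QReg E from ‹IsRegularLocalRing E›)
  letI : Algebra E (K ⊗[T] E) := Algebra.TensorProduct.rightAlgebra
  haveI : IsLocalization (Algebra.algebraMapSubmonoid E (nonZeroDivisors T)) (K ⊗[T] E) :=
    IsLocalization.tensorRight (R := T) (S := E) K (nonZeroDivisors T)
  haveI : IsNoetherianRing (K ⊗[T] E) :=
    IsLocalization.isNoetherianRing (Algebra.algebraMapSubmonoid E (nonZeroDivisors T)) (K ⊗[T] E) inferInstance
  exact loc_reg_iff.mp (loc_localization good_reg (Algebra.algebraMapSubmonoid E (nonZeroDivisors T)) (K ⊗[T] E) hE)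

/-- the generic formal fibres of a regular domain with enough derivations are geometrically regular -/
theorem geometricallyRegular {T : Type u} [CommRing T] [IsDomain T] [IsRegularRing T] (P : Ideal T) [P.IsPrime]
    (K : Type u) [Field K] [Algebra T K] [IsFractionRing T K]
    (hT : ∀ (p : ℕ) [Fact p.Prime] [CharP T p], DerSep T p) :
    CAlg.IsGeometricallyRegular K (K ⊗[T] EGA4.Cpl (Localization.AtPrime P)) := by
  haveI := isRegularRing_fraction_tensor P K
  obtain ⟨p, hp⟩ := ExpChar.exists K
  cases hp with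
  | zero => exact GeomRegField.isGeometricallyRegular_of_charZero
  | prime hprime =>
    haveI := Fact.mk hprime
    haveI : CharP T p := (RingHom.charP_iff (algebraMap T K) (IsFractionRing.injective T K) p).mpr ‹_›
    refine GeomRegField.isGeometricallyRegular_of_liftSep p (liftSep_tensor p (fun δ => ?_) (hT p))
    obtain ⟨δ1, h1⟩ := CplDer.exists_localization_der P.primeCompl (Localization.AtPrime P) δ
    obtain ⟨δ2, h2⟩ := CplDer.exists_cpl_der (IsLocalRing.maximalIdeal (Localization.AtPrime P)) δ1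
    refine ⟨δ2, fun t => ?_⟩
    have h3 := h2 (algebraMap T (Localization.AtPrime P) t)
    rw [h1, ← IsScalarTower.algebraMap_apply, ← IsScalarTower.algebraMap_apply] at h3
    exact h3

/-- a complete local domain is finite over a regular domain with enough derivations -/
theorem exists_base (R : Type u) [CommRing R] [IsDomain R] [IsLocalRing R] [IsNoetherianRing R]
    [IsAdicComplete (IsLocalRing.maximalIdeal R) R] :
    ∃ (T : Type u) (_ : CommRing T) (_ : IsDomain T) (_ : IsRegularRing T) (f : T →+* R),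
      Function.Injective f ∧ f.Finite ∧ ∀ (p : ℕ) [Fact p.Prime] [CharP T p], DerSep T p := by
  obtain ⟨Λ, _, n, f, hΛ, hinj, hfin, -⟩ := Groth.Agent.S0581.result R
  rcases hΛ with hk | hC
  · letI := hk.toField
    haveI : IsDomain (MvPowerSeries (Fin n) Λ) := NoZeroDivisors.to_isDomain _
    refine ⟨_, inferInstance, inferInstance, Groth.Agent.S5784.result Λ n, f, hinj, hfin, fun p _ _ => ?_⟩
    haveI : CharP Λ p := (RingHom.charP_iff (algebraMap Λ (MvPowerSeries (Fin n) Λ)) (algebraMap Λ _).injective p).mpr ‹_›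
    intro b hb
    have h := PowSerDer.exists_der_ne Λ p n b hb
    rwa [Subsingleton.elim (MvPowerSeries.instAlgebra (R := ℤ) (A := Λ) (σ := Fin n)) (Ring.toIntAlgebra _)] at h
  · obtain ⟨hd, hdvr, hc, p₀, hp₀, hm⟩ := hC
    haveI : IsDomain (MvPowerSeries (Fin n) Λ) := NoZeroDivisors.to_isDomain _
    refine ⟨_, inferInstance, inferInstance, Groth.Agent.S5784.result Λ n, f, hinj, hfin, fun p _ _ => ?_⟩
    exfalso
    haveI : CharP Λ p := (RingHom.charP_iff (MvPowerSeries.C (σ := Fin n) (R := Λ)) MvPowerSeries.C_injective p).mpr ‹_›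
    have hne : (p₀ : Λ) ≠ 0 := fun h => IsDiscreteValuationRing.not_a_field Λ (by rw [hm, h, Ideal.span_singleton_eq_bot])
    have hmem : (p₀ : Λ) ∈ IsLocalRing.maximalIdeal Λ := hm ▸ Ideal.mem_span_singleton_self _
    have hcop : Nat.Coprime p₀ p := (Nat.coprime_primes hp₀ Fact.out).mpr fun h => hne (h ▸ CharP.cast_eq_zero Λ p)
    obtain ⟨a, b, hab⟩ := (Nat.isCoprime_iff_coprime.mpr hcop : IsCoprime (p₀ : ℤ) p)
    have := congrArg (Int.cast : ℤ → Λ) hab
    push_cast at this
    rw [CharP.cast_eq_zero Λ p, mul_zero, add_zero] at this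
    exact (IsLocalRing.maximalIdeal.isMaximal Λ).ne_top ((Ideal.eq_top_iff_one _).mpr (this ▸ Ideal.mul_mem_left _ _ hmem))

end Groth.L06.GenericFibre
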