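import Groth.Agent.L06.CplFinite
import Groth.Agent.L06.GenericFibre
import Groth.Agent.L01.NagataComplete

/-! Complete Noetherian local rings are G-rings. -/

set_option autoImplicit false
set_option maxSynthPendingDepth 3
set_option linter.style.haveILetI false
universe u

namespace Groth.L06.CompleteGRing

open IsLocalRing PropLoc
open scoped TensorProduct

variable {Q : ∀ (R : Type u) [CommRing R], Prop} (hQ : Good Q)

include hQ in
theorem at_equiv {R R' : Type u} [CommRing R] [CommRing R'] [IsNoetherianRing R] (e : R ≃+* R') (q : Ideal R') [q.IsPrime]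
    (h : Q (Localization.AtPrime (q.comap e.toRingHom))) : Q (Localization.AtPrime q) :=
  hQ.of_equiv (IsLocalization.ringEquivOfRingEquiv (M := (q.comap e.toRingHom).primeCompl) (T := q.primeCompl) _ _ e (by
    ext z
    rw [Submonoid.mem_map]
    constructor
    · rintro ⟨a, ha, rfl⟩; exact ha
    · intro hz
      refine ⟨e.symm z, ?_, e.apply_symm_apply z⟩
      show e (e.symm z) ∉ q
      rwa [e.apply_symm_apply])) h

include hQ in
theorem loc_fraction_iff {D T : Type u} [CommRing D] [IsDomain D] [CommRing T] [Algebra D T] [IsNoetherianRing T]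
    (K : Type u) [Field K] [Algebra D K] [IsFractionRing D K] :
    Loc Q (K ⊗[D] T) ↔ ∀ (q : Ideal T) [q.IsPrime], q.comap (algebraMap D T) = ⊥ → Q (Localization.AtPrime q) := by
  letI : Algebra T (K ⊗[D] T) := Algebra.TensorProduct.rightAlgebra
  let M := Algebra.algebraMapSubmonoid T (nonZeroDivisors D)
  haveI : IsLocalization M (K ⊗[D] T) := IsLocalization.tensorRight (R := D) (S := T) K (nonZeroDivisors D)
  haveI : IsNoetherianRing (K ⊗[D] T) := IsLocalization.isNoetherianRing M (K ⊗[D] T) inferInstance
  constructor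
  · intro h q _ hq
    have hd : Disjoint (M : Set T) (q : Set T) := Set.disjoint_left.mpr fun x hx hxq => by
      obtain ⟨d, hd, rfl⟩ := hx
      have : d ∈ q.comap (algebraMap D T) := hxq
      rw [hq, Ideal.mem_bot] at this
      exact nonZeroDivisors.ne_zero hd this
    let P := q.map (algebraMap T (K ⊗[D] T))
    haveI : P.IsPrime := IsLocalization.isPrime_of_isPrime_disjoint M _ q ‹_› hd
    haveI : IsLocalization.AtPrime (Localization.AtPrime P) q := by
      convert IsLocalization.isLocalization_isLocalization_atPrime_isLocalization M (Localization.AtPrime P) P using 2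
      exact (IsLocalization.under_map_of_isPrime_disjoint M _ ‹_› hd).symm
    haveI : IsNoetherianRing (Localization.AtPrime P) := IsLocalization.isNoetherianRing P.primeCompl _ inferInstance
    exact hQ.of_equiv (IsLocalization.algEquiv q.primeCompl (Localization.AtPrime P) (Localization.AtPrime q)).toRingEquiv (h P)
  · intro h P _
    let q := P.comap (algebraMap T (K ⊗[D] T))
    haveI : IsLocalization.AtPrime (Localization.AtPrime P) q :=
      IsLocalization.isLocalization_isLocalization_atPrime_isLocalization M (Localization.AtPrime P) P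
    refine hQ.of_equiv (IsLocalization.algEquiv q.primeCompl (Localization.AtPrime q) (Localization.AtPrime P)).toRingEquiv
      (h q ((Submodule.eq_bot_iff _).mpr fun x hx => ?_))
    by_contra hx0
    have hu : IsUnit (algebraMap T (K ⊗[D] T) (algebraMap D T x)) := IsLocalization.map_units (K ⊗[D] T)
      (⟨_, Algebra.mem_algebraMapSubmonoid_of_mem (⟨x, mem_nonZeroDivisors_of_ne_zero hx0⟩ : nonZeroDivisors D)⟩ : M)
    exact Ideal.IsPrime.ne_top ‹P.IsPrime› (Ideal.eq_top_of_isUnit_mem _ hx hu)

include hQ in
/-- generic formal fibres along a finite extension -/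
theorem transfer {A D : Type u} [CommRing A] [IsNoetherianRing A] [CommRing D] [IsDomain D] [Algebra A D] [Module.Finite A D]
    (L : Type u) [Field L] [Algebra A L] [Algebra D L] [IsScalarTower A D L] [IsFractionRing D L]
    (p : Ideal A) [p.IsPrime] :
    Loc Q (L ⊗[A] EGA4.Cpl (Localization.AtPrime p)) ↔
      ∀ (P : Ideal D) [P.IsPrime], P.comap (algebraMap A D) = p →
        Loc Q (L ⊗[D] EGA4.Cpl (Localization.AtPrime P)) := by
  haveI : IsNoetherianRing D := IsNoetherianRing.of_finite A D
  haveI : IsNoetherianRing (EGA4.Cpl (Localization.AtPrime p)) := Groth.Agent.S0543.result _ _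
  let Γ := D ⊗[A] EGA4.Cpl (Localization.AtPrime p)
  haveI : IsNoetherianRing Γ := GeomLocal.isNoetherianRing_right
  haveI : IsNoetherianRing (L ⊗[D] Γ) := by
    letI : Algebra Γ (L ⊗[D] Γ) := Algebra.TensorProduct.rightAlgebra
    haveI : IsLocalization (Algebra.algebraMapSubmonoid Γ (nonZeroDivisors D)) (L ⊗[D] Γ) :=
      IsLocalization.tensorRight (R := D) (S := Γ) L (nonZeroDivisors D)
    exact IsLocalization.isNoetherianRing (Algebra.algebraMapSubmonoid Γ (nonZeroDivisors D)) (L ⊗[D] Γ) inferInstance
  let e : L ⊗[D] Γ ≃+* L ⊗[A] EGA4.Cpl (Localization.AtPrime p) :=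
    (Algebra.TensorProduct.cancelBaseChange A D D L (EGA4.Cpl (Localization.AtPrime p))).toRingEquiv
  haveI : IsNoetherianRing (L ⊗[A] EGA4.Cpl (Localization.AtPrime p)) := isNoetherianRing_of_ringEquiv (L ⊗[D] Γ) e
  constructor
  · intro h P _ hP
    haveI : IsNoetherianRing (EGA4.Cpl (Localization.AtPrime P)) := Groth.Agent.S0543.result _ _
    have hΓ := (loc_fraction_iff hQ (D := D) (T := Γ) L).mp (loc_of_ringEquiv hQ e.symm h)
    obtain ⟨n, hn, hnP, ε, hε⟩ := CplFinite.exists_equiv p P hP
    haveI := hn
    haveI : IsNoetherianRing (Localization.AtPrime n) := IsLocalization.isNoetherianRing n.primeCompl _ inferInstance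
    refine (loc_fraction_iff hQ (D := D) (T := EGA4.Cpl (Localization.AtPrime P)) L).mpr fun q' _ hq' => at_equiv hQ ε q' ?_
    let q'' := q'.comap ε.toRingHom
    let q := q''.comap (algebraMap Γ (Localization.AtPrime n))
    haveI : q''.IsPrime := Ideal.IsPrime.comap _
    haveI : IsLocalization.AtPrime (Localization.AtPrime q'') q :=
      IsLocalization.isLocalization_isLocalization_atPrime_isLocalization n.primeCompl (Localization.AtPrime q'') q''
    haveI : IsNoetherianRing (Localization.AtPrime q) := IsLocalization.isNoetherianRing q.primeCompl _ inferInstance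
    refine hQ.of_equiv (IsLocalization.algEquiv q.primeCompl (Localization.AtPrime q) (Localization.AtPrime q'')).toRingEquiv
      (hΓ q ?_)
    rw [← hq']
    ext d
    show ε (algebraMap Γ (Localization.AtPrime n) (d ⊗ₜ 1)) ∈ q' ↔ _
    rw [hε]
    rfl
  · intro h
    refine loc_of_ringEquiv hQ e ((loc_fraction_iff hQ (D := D) (T := Γ) L).mpr fun q _ hq => ?_)
    obtain ⟨n, hn, hqn⟩ := q.exists_le_maximal (Ideal.IsPrime.ne_top ‹_›)
    haveI := hn
    let P := n.comap (algebraMap D Γ)
    haveI : P.IsPrime := Ideal.IsPrime.comap _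
    have hP : P.comap (algebraMap A D) = p := (CplFinite.maximal_spec p n).2
    obtain ⟨n0, hn0, hn0P, ε, hε⟩ := CplFinite.exists_equiv p P hP
    haveI := hn0
    obtain rfl : n = n0 := CplFinite.maximal_ext p n n0 hn0P.symm
    haveI : IsNoetherianRing (EGA4.Cpl (Localization.AtPrime P)) := Groth.Agent.S0543.result _ _
    haveI : IsNoetherianRing (Localization.AtPrime n) := IsLocalization.isNoetherianRing n.primeCompl _ inferInstance
    have hcpl := (loc_fraction_iff hQ (D := D) (T := EGA4.Cpl (Localization.AtPrime P)) L).mp (h P hP)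
    let q'' := q.map (algebraMap Γ (Localization.AtPrime n))
    haveI : q''.IsPrime := Ideal.isPrime_map_of_isLocalizationAtPrime n hqn
    have hq'' : q''.comap (algebraMap Γ (Localization.AtPrime n)) = q := Ideal.under_map_of_isLocalizationAtPrime n hqn
    let q' := q''.comap ε.symm.toRingHom
    haveI : q'.IsPrime := Ideal.IsPrime.comap _
    have h1 : Q (Localization.AtPrime q'') := at_equiv hQ ε.symm q'' (hcpl q' (by
      rw [← hq]
      ext d
      show ε.symm (algebraMap D (EGA4.Cpl (Localization.AtPrime P)) d) ∈ q'' ↔ _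
      rw [← hε, RingEquiv.symm_apply_apply]
      show (d ⊗ₜ 1 : Γ) ∈ q''.comap (algebraMap Γ (Localization.AtPrime n)) ↔ _
      rw [hq'']
      rfl))
    haveI : IsLocalization.AtPrime (Localization.AtPrime q'') q := by
      convert IsLocalization.isLocalization_isLocalization_atPrime_isLocalization n.primeCompl (Localization.AtPrime q'') q'' using 2
      exact hq''.symm
    haveI : IsNoetherianRing (Localization.AtPrime q'') := IsLocalization.isNoetherianRing q''.primeCompl _ inferInstance
    exact hQ.of_equiv (IsLocalization.algEquiv q.primeCompl (Localization.AtPrime q'') (Localization.AtPrime q)).toRingEquiv h1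

theorem finite_fractionRing {T D : Type u} [CommRing T] [IsDomain T] [CommRing D] [IsDomain D] [Algebra T D] [Module.Finite T D]
    (K L : Type u) [Field K] [Field L] [Algebra T K] [Algebra D L] [IsFractionRing D L] [Algebra T L] [Algebra K L]
    [IsScalarTower T D L] [IsScalarTower T K L] : Module.Finite K L := by
  classical
  obtain ⟨t, ht⟩ := (inferInstance : Module.Finite T D).fg_top
  let S := IntermediateField.adjoin K ((algebraMap D L) '' (t : Set D) : Set L)
  haveI : Algebra.IsIntegral T D := Algebra.IsIntegral.of_finite T D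
  haveI : FiniteDimensional K S := by
    haveI : Finite ((algebraMap D L) '' (t : Set D) : Set L) := (t.finite_toSet.image _).to_subtype
    refine IntermediateField.finiteDimensional_adjoin fun x hx => ?_
    obtain ⟨d, -, rfl⟩ := hx
    exact ((Algebra.IsIntegral.isIntegral (R := T) d).map (IsScalarTower.toAlgHom T D L)).tower_top
  have hS : S = ⊤ := eq_top_iff.mpr fun z _ => by
    have hD : ∀ d : D, algebraMap D L d ∈ S := fun d => by
      have hd : d ∈ Submodule.span T (t : Set D) := ht ▸ Submodule.mem_top
      induction hd using Submodule.span_induction with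
      | mem x hx => exact IntermediateField.subset_adjoin _ _ ⟨x, hx, rfl⟩
      | zero => rw [map_zero]; exact zero_mem _
      | add x y _ _ hx hy => rw [map_add]; exact add_mem hx hy
      | smul a x _ hx =>
        rw [Algebra.smul_def, map_mul, ← IsScalarTower.algebraMap_apply, IsScalarTower.algebraMap_apply T K L]
        exact mul_mem (IntermediateField.algebraMap_mem S _) hx
    obtain ⟨a, b, -, rfl⟩ := IsFractionRing.div_surjective (A := D) z
    exact div_mem (hD a) (hD b)
  exact Module.Finite.equiv (((IntermediateField.equivOfEq hS).trans IntermediateField.topEquiv).toLinearEquiv)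

theorem loc_reg_generic {A D : Type u} [CommRing A] [IsLocalRing A] [IsNoetherianRing A]
    [IsAdicComplete (maximalIdeal A) A] [CommRing D] [IsDomain D] [Algebra A D] [Module.Finite A D]
    (L : Type u) [Field L] [Algebra D L] [IsFractionRing D L] (P : Ideal D) [P.IsPrime] :
    Loc QReg (L ⊗[D] EGA4.Cpl (Localization.AtPrime P)) := by
  let P₀ : Ideal A := RingHom.ker (algebraMap A D)
  haveI : P₀.IsPrime := RingHom.ker_isPrime _
  haveI : IsLocalRing (A ⧸ P₀) := IsLocalRing.of_surjective' _ Ideal.Quotient.mk_surjective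
  haveI := Groth.L01.NagataComplete.isAdicComplete_quotient P₀
  letI : Algebra (A ⧸ P₀) D := (RingHom.kerLift (algebraMap A D)).toAlgebra
  haveI : IsScalarTower A (A ⧸ P₀) D := IsScalarTower.of_algebraMap_eq fun a => rfl
  haveI : Module.Finite (A ⧸ P₀) D := Module.Finite.of_restrictScalars_finite A _ _
  obtain ⟨T, _, _, _, f, hinj, hfin, hT⟩ := GenericFibre.exists_base (A ⧸ P₀)
  letI : Algebra T (A ⧸ P₀) := f.toAlgebra
  haveI : Module.Finite T (A ⧸ P₀) := hfin
  letI : Algebra T D := ((algebraMap (A ⧸ P₀) D).comp f).toAlgebra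
  haveI : IsScalarTower T (A ⧸ P₀) D := IsScalarTower.of_algebraMap_eq' rfl
  haveI : Module.Finite T D := Module.Finite.trans (A ⧸ P₀) D
  letI : Algebra T L := ((algebraMap D L).comp (algebraMap T D)).toAlgebra
  haveI : IsScalarTower T D L := IsScalarTower.of_algebraMap_eq' rfl
  have hTL : Function.Injective (algebraMap T L) :=
    (IsFractionRing.injective D L).comp ((RingHom.kerLift_injective _).comp hinj)
  haveI : FaithfulSMul T L := (faithfulSMul_iff_algebraMap_injective T L).mpr hTL
  let K := FractionRing T
  letI : Algebra K L := FractionRing.liftAlgebra T L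
  haveI := FractionRing.isScalarTower_liftAlgebra T L
  haveI : Module.Finite K L := finite_fractionRing (T := T) (D := D) K L
  haveI : IsRegularRing (L ⊗[K] (K ⊗[T] EGA4.Cpl (Localization.AtPrime (P.comap (algebraMap T D))))) :=
    GenericFibre.geometricallyRegular (P.comap (algebraMap T D)) K hT L inferInstance
  haveI : IsRegularRing (L ⊗[T] EGA4.Cpl (Localization.AtPrime (P.comap (algebraMap T D)))) :=
    IsRegularRing.of_ringEquiv (R := L ⊗[K] (K ⊗[T] EGA4.Cpl (Localization.AtPrime (P.comap (algebraMap T D)))))
      (Algebra.TensorProduct.cancelBaseChange T K K L _).toRingEquiv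
  exact (transfer good_reg L (P.comap (algebraMap T D))).mp (loc_reg_iff.mpr inferInstance) P rfl

theorem isGRing (A : Type u) [CommRing A] [IsLocalRing A] [IsNoetherianRing A] [IsAdicComplete (maximalIdeal A) A] :
    CAlg.IsGRing A := by
  refine ⟨inferInstance, fun p _ => ?_⟩
  haveI : IsNoetherianRing (EGA4.Cpl (Localization.AtPrime p)) := Groth.Agent.S0543.result _ _
  haveI := NormalAscent.faithfullyFlat_cpl (Localization.AtPrime p)
  refine ⟨inferInstance, fun q' _ => ⟨GeomLocal.isNoetherianRing_fiber q', fun L _ _ hL => ?_⟩⟩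
  haveI := hL
  haveI := GeomLocal.isNoetherianRing_fibre (B := EGA4.Cpl (Localization.AtPrime p)) q' L
  refine loc_reg_iff.mp ?_
  let Ap := Localization.AtPrime p
  let q := q'.comap (algebraMap A Ap)
  let j : q.ResidueField →+* q'.ResidueField := Ideal.ResidueField.map q q' (algebraMap A Ap) rfl
  have hj : ∀ x, j (algebraMap A q.ResidueField x) = algebraMap Ap q'.ResidueField (algebraMap A Ap x) := fun x =>
    Ideal.ResidueField.map_algebraMap q q' (algebraMap A Ap) rfl x
  have hjs : Function.Surjective j := by
    intro z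
    have hmem : ∀ x : Ap, algebraMap Ap q'.ResidueField x ∈ j.fieldRange := by
      intro x
      obtain ⟨a, s, rfl⟩ := IsLocalization.exists_mk'_eq p.primeCompl x
      have hu : algebraMap Ap q'.ResidueField (algebraMap A Ap (s : A)) ≠ 0 :=
        ((IsLocalization.map_units Ap s).map _).ne_zero
      rw [show algebraMap Ap q'.ResidueField (IsLocalization.mk' Ap a s) =
          algebraMap Ap q'.ResidueField (algebraMap A Ap a) / algebraMap Ap q'.ResidueField (algebraMap A Ap s) by
        rw [eq_div_iff hu, ← map_mul, IsLocalization.mk'_spec]]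
      exact div_mem ⟨_, hj a⟩ ⟨_, hj s⟩
    obtain ⟨x, y, -, rfl⟩ := IsFractionRing.div_surjective (A := Ap ⧸ q') z
    obtain ⟨x, rfl⟩ := Ideal.Quotient.mk_surjective x
    obtain ⟨y, rfl⟩ := Ideal.Quotient.mk_surjective y
    exact div_mem (hmem x) (hmem y)
  letI : Algebra q.ResidueField q'.ResidueField := j.toAlgebra
  haveI : Module.Finite q.ResidueField q'.ResidueField := Module.Finite.of_surjective (Algebra.linearMap _ _) hjs
  letI : Algebra q.ResidueField L := ((algebraMap q'.ResidueField L).comp j).toAlgebra
  haveI : IsScalarTower q.ResidueField q'.ResidueField L := IsScalarTower.of_algebraMap_eq' rfl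
  haveI : Module.Finite q.ResidueField L := Module.Finite.trans q'.ResidueField L
  letI : Algebra Ap L := ((algebraMap q'.ResidueField L).comp (algebraMap Ap q'.ResidueField)).toAlgebra
  haveI : IsScalarTower Ap q'.ResidueField L := IsScalarTower.of_algebraMap_eq' rfl
  letI : Algebra A L := ((algebraMap Ap L).comp (algebraMap A Ap)).toAlgebra
  haveI : IsScalarTower A Ap L := IsScalarTower.of_algebraMap_eq' rfl
  haveI : IsScalarTower A q.ResidueField L := IsScalarTower.of_algebraMap_eq fun a => by
    show algebraMap q'.ResidueField L (algebraMap Ap q'.ResidueField (algebraMap A Ap a)) = algebraMap q'.ResidueField L (j _)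
    rw [hj]
  obtain ⟨D, hDfin, hDfr⟩ := FiniteDomains.exists_finite_domain q L
  letI : CommRing D := D.toCommRing
  haveI := hDfin
  haveI := hDfr
  have h := (transfer good_reg (D := D) L p).mpr fun P _ _ => loc_reg_generic (A := A) (D := D) L P
  haveI := IsLocalization.tensorProduct_compatibleSMul p.primeCompl Ap L (EGA4.Cpl Ap)
  haveI := GeomLocal.isNoetherianRing_right (A := A) (B := EGA4.Cpl Ap) (C := D)
  let e2 : L ⊗[A] EGA4.Cpl Ap ≃+* L ⊗[q'.ResidueField] q'.Fiber (EGA4.Cpl Ap) :=
    (Algebra.TensorProduct.equivOfCompatibleSMul A Ap A L (EGA4.Cpl Ap)).toRingEquiv.symm.trans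
      (Algebra.TensorProduct.cancelBaseChange Ap q'.ResidueField q'.ResidueField L (EGA4.Cpl Ap)).toRingEquiv.symm
  haveI : IsNoetherianRing (L ⊗[A] EGA4.Cpl Ap) :=
    isNoetherianRing_of_ringEquiv (L ⊗[q'.ResidueField] q'.Fiber (EGA4.Cpl Ap)) e2.symm
  exact loc_of_ringEquiv good_reg e2 h

end Groth.L06.CompleteGRing
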