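import Groth.Agent.L06.GeomLocal

/-! Glue for applying `GeomLocal.general`. -/

set_option autoImplicit false
set_option maxSynthPendingDepth 3
set_option linter.style.haveILetI false
universe u

namespace Groth.L06.GeomLocal

open scoped TensorProduct
open PropLoc

theorem isNoetherianRing_fibre {A B : Type u} [CommRing A] [CommRing B] [IsNoetherianRing B] [Algebra A B]
    (p : Ideal A) [p.IsPrime] (K : Type u) [Field K] [Algebra p.ResidueField K] [Module.Finite p.ResidueField K] :
    IsNoetherianRing (K ⊗[p.ResidueField] p.Fiber B) := by
  letI : Algebra A K := ((algebraMap p.ResidueField K).comp (algebraMap A p.ResidueField)).toAlgebra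
  haveI : IsScalarTower A p.ResidueField K := IsScalarTower.of_algebraMap_eq' rfl
  haveI := Groth.L06.FibreComp.isNoetherianRing_baseChange (B := B) p K
  exact isNoetherianRing_of_ringEquiv (B ⊗[A] K) (Groth.L06.FibreComp.fibreEquivBase (B := B) p K).symm

theorem isNoetherianRing_fiber {A B : Type u} [CommRing A] [CommRing B] [IsNoetherianRing B] [Algebra A B]
    (p : Ideal A) [p.IsPrime] : IsNoetherianRing (p.Fiber B) := by
  haveI := Groth.L06.FibreComp.isNoetherianRing_baseChange (B := B) p p.ResidueField
  exact isNoetherianRing_of_ringEquiv (B ⊗[A] p.ResidueField)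
    (Algebra.TensorProduct.comm A p.ResidueField B).toRingEquiv.symm

/-- a ring with only zero dimensional local rings is Cohen–Macaulay -/
theorem loc_cm_of_isArtinianRing (R : Type u) [CommRing R] [IsArtinianRing R] : Loc QCM R := by
  intro q _ _
  haveI : IsArtinianRing (Localization.AtPrime q) := IsArtinianRing.localization_artinian q.primeCompl _
  have h : ringKrullDim (Localization.AtPrime q) ≤ ((0 : ℕ) : WithBot ℕ∞) :=
    Ring.krullDimLE_iff.mp inferInstance
  refine h.trans ?_
  exact WithBot.coe_le_coe.mpr zero_le

/-- Cohen–Macaulay survives finite field extensions -/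
theorem cm_baseChange_field {k : Type u} [Field k] (R : Type u) [CommRing R] [Algebra k R] [IsNoetherianRing R]
    (K : Type u) [Field K] [Algebra k K] [Module.Finite k K] (h : Loc QCM R) : Loc QCM (K ⊗[k] R) := by
  haveI : IsNoetherianRing (R ⊗[k] K) := IsNoetherianRing.of_finite R _
  refine loc_of_ringEquiv good_cm (Algebra.TensorProduct.comm k R K).toRingEquiv (good_cm.ascend h fun q _ => ?_)
  haveI : IsArtinianRing (q.Fiber (R ⊗[k] K)) := IsArtinianRing.of_finite q.ResidueField _
  exact loc_cm_of_isArtinianRing _

/-- geometrically reduced from all finite extensions -/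
theorem isGeometricallyReduced_of_finite {k : Type u} [Field k] (R : Type u) [CommRing R] [Algebra k R]
    (h : ∀ (K : Type u) [Field K] [Algebra k K], Module.Finite k K → IsReduced (K ⊗[k] R)) :
    Algebra.IsGeometricallyReduced k R := by
  rw [Algebra.isGeometricallyReduced_field_iff]
  haveI : IsReduced (R ⊗[k] AlgebraicClosure k) := IsReduced.tensorProduct_of_flat_of_forall_fg fun S hS => by
    obtain ⟨s, rfl⟩ := hS
    let F := IntermediateField.adjoin k (s : Set (AlgebraicClosure k))
    haveI : FiniteDimensional k F :=
      IntermediateField.finiteDimensional_adjoin fun x _ => (Algebra.IsAlgebraic.isAlgebraic x).isIntegral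
    haveI := h F inferInstance
    haveI : IsReduced (R ⊗[k] F) := isReduced_of_injective _ (Algebra.TensorProduct.comm k R F).injective
    let i : Algebra.adjoin k (s : Set (AlgebraicClosure k)) →ₐ[k] F :=
      Subalgebra.inclusion (IntermediateField.algebra_adjoin_le_adjoin k _)
    exact isReduced_of_injective (Algebra.TensorProduct.map (AlgHom.id k R) i)
      (Module.Flat.lTensor_preserves_injective_linearMap i.toLinearMap (Subalgebra.inclusion_injective (IntermediateField.algebra_adjoin_le_adjoin k (s : Set (AlgebraicClosure k)))))
  exact isReduced_of_injective _ (Algebra.TensorProduct.comm k (AlgebraicClosure k) R).injective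

end Groth.L06.GeomLocal
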