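import Groth.Agent.L06.GeomLocalApp
import Mathlib.RingTheory.Spectrum.Prime.RingHom
import Mathlib.RingTheory.Ideal.GoingDown
import Mathlib.RingTheory.Flat.FaithfullyFlat.Algebra

/-! Open loci descend along faithfully flat maps with good fibres. -/

set_option autoImplicit false
set_option maxSynthPendingDepth 3
set_option linter.style.haveILetI false
universe u

namespace Groth.L06.OpenLoci

open IsLocalRing PropLoc
open scoped TensorProduct

theorem residue_surjective {A S : Type u} [CommRing A] [CommRing S] [Algebra A S] (M : Submonoid A) [IsLocalization M S]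
    (q' : Ideal S) [q'.IsPrime] [Algebra (q'.comap (algebraMap A S)).ResidueField q'.ResidueField]
    [IsScalarTower A (q'.comap (algebraMap A S)).ResidueField q'.ResidueField] :
    Function.Surjective (algebraMap (q'.comap (algebraMap A S)).ResidueField q'.ResidueField) := by
  intro z
  let j := algebraMap (q'.comap (algebraMap A S)).ResidueField q'.ResidueField
  have hj : ∀ x, j (algebraMap A _ x) = algebraMap S q'.ResidueField (algebraMap A S x) := fun x => by
    rw [← IsScalarTower.algebraMap_apply, ← IsScalarTower.algebraMap_apply]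
  have hmem : ∀ x : S, algebraMap S q'.ResidueField x ∈ j.fieldRange := by
    intro x
    obtain ⟨a, s, rfl⟩ := IsLocalization.exists_mk'_eq M x
    have hu : algebraMap S q'.ResidueField (algebraMap A S (s : A)) ≠ 0 := ((IsLocalization.map_units S s).map _).ne_zero
    rw [show algebraMap S q'.ResidueField (IsLocalization.mk' S a s) =
        algebraMap S q'.ResidueField (algebraMap A S a) / algebraMap S q'.ResidueField (algebraMap A S s) by
      rw [eq_div_iff hu, ← map_mul, IsLocalization.mk'_spec]]
    exact div_mem ⟨_, hj a⟩ ⟨_, hj s⟩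
  obtain ⟨x, y, -, rfl⟩ := IsFractionRing.div_surjective (A := S ⧸ q') z
  obtain ⟨x, rfl⟩ := Ideal.Quotient.mk_surjective x
  obtain ⟨y, rfl⟩ := Ideal.Quotient.mk_surjective y
  exact div_mem (hmem x) (hmem y)

variable {Q : ∀ (R : Type u) [CommRing R], Prop} (hQ : Good Q)
include hQ

/-- the locus of `Q` pulls back to the locus of `Q` -/
theorem locus_preimage {A B : Type u} [CommRing A] [IsNoetherianRing A] [CommRing B] [IsNoetherianRing B]
    [Algebra A B] [Module.Flat A B]
    (hfib : ∀ (q : Ideal A) [q.IsPrime] (K : Type u) [Field K] [Algebra q.ResidueField K],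
      Module.Finite q.ResidueField K → Loc Q (K ⊗[q.ResidueField] q.Fiber B))
    (P : Ideal B) [P.IsPrime] :
    Q (Localization.AtPrime P) ↔ Q (Localization.AtPrime (P.comap (algebraMap A B))) := by
  obtain ⟨i, hl, hfl, qf, hqf, -⟩ := Groth.L06.FlatFibre.exists_local_fibre (P.comap (algebraMap A B)) P (S := B)
  letI := i
  haveI := hl
  haveI := hfl
  haveI : Module.FaithfullyFlat (Localization.AtPrime (P.comap (algebraMap A B))) (Localization.AtPrime P) :=
    Module.FaithfullyFlat.of_flat_of_isLocalHom
  let p := P.comap (algebraMap A B)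
  let Ap := Localization.AtPrime p
  refine ⟨fun h => of_loc hQ (hQ.descend (R := Ap) (S := Localization.AtPrime P) (hQ.loc h)), fun h => ?_⟩
  let S := Ap ⊗[A] B
  letI : Algebra B S := Algebra.TensorProduct.rightAlgebra
  haveI : IsLocalization (Algebra.algebraMapSubmonoid B p.primeCompl) S :=
    IsLocalization.tensorRight (R := A) (S := B) Ap p.primeCompl
  haveI : IsNoetherianRing S := IsLocalization.isNoetherianRing (Algebra.algebraMapSubmonoid B p.primeCompl) S inferInstance
  have hS : Loc Q S := hQ.ascend (hQ.loc h) fun q' _ => by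
    obtain ⟨j, hj, ⟨e⟩⟩ := Groth.L06.FibreComp.exists_fibre_baseChange (B := A) (C := B) (R' := Ap) q'
    letI := j
    haveI := hj
    haveI : Module.Finite (q'.comap (algebraMap A Ap)).ResidueField q'.ResidueField :=
      Module.Finite.of_surjective (Algebra.linearMap _ _) (residue_surjective p.primeCompl q')
    haveI := GeomLocal.isNoetherianRing_fibre (B := B) (q'.comap (algebraMap A Ap)) q'.ResidueField
    exact loc_of_ringEquiv hQ e.symm (hfib _ q'.ResidueField inferInstance)
  have hd : Disjoint (Algebra.algebraMapSubmonoid B p.primeCompl : Set B) (P : Set B) :=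
    Set.disjoint_left.mpr fun x hx hxP => by
      obtain ⟨a, ha, rfl⟩ := hx
      exact ha hxP
  let P' := P.map (algebraMap B S)
  haveI : P'.IsPrime := IsLocalization.isPrime_of_isPrime_disjoint (Algebra.algebraMapSubmonoid B p.primeCompl) _ P ‹_› hd
  haveI : IsLocalization.AtPrime (Localization.AtPrime P') P := by
    convert IsLocalization.isLocalization_isLocalization_atPrime_isLocalization
      (Algebra.algebraMapSubmonoid B p.primeCompl) (Localization.AtPrime P') P' using 2
    exact (IsLocalization.under_map_of_isPrime_disjoint (Algebra.algebraMapSubmonoid B p.primeCompl) _ ‹_› hd).symm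
  haveI : IsNoetherianRing (Localization.AtPrime P') := IsLocalization.isNoetherianRing P'.primeCompl _ inferInstance
  exact hQ.of_equiv (IsLocalization.algEquiv P.primeCompl (Localization.AtPrime P') (Localization.AtPrime P)).toRingEquiv (hS P')

theorem isOpen_locus {A B : Type u} [CommRing A] [IsNoetherianRing A] [CommRing B] [IsNoetherianRing B]
    [Algebra A B] [Module.FaithfullyFlat A B]
    (hfib : ∀ (q : Ideal A) [q.IsPrime] (K : Type u) [Field K] [Algebra q.ResidueField K],
      Module.Finite q.ResidueField K → Loc Q (K ⊗[q.ResidueField] q.Fiber B))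
    (hB : IsOpen {P : PrimeSpectrum B | Q (Localization.AtPrime P.asIdeal)}) :
    IsOpen {p : PrimeSpectrum A | Q (Localization.AtPrime p.asIdeal)} := by
  have hq : Topology.IsQuotientMap (PrimeSpectrum.comap (algebraMap A B)) :=
    PrimeSpectrum.isQuotientMap_of_generalizingMap PrimeSpectrum.comap_surjective_of_faithfullyFlat
      (Algebra.HasGoingDown.iff_generalizingMap_primeSpectrumComap.mp inferInstance)
  rw [← hq.isOpen_preimage]
  convert hB using 1
  ext P
  exact (locus_preimage hQ hfib P.asIdeal).symm

end Groth.L06.OpenLoci
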