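import Groth.Agent.L06.GeomFG2
import Groth.Agent.L06.GeomLocalApp
import Groth.Agent.L06.OpenLoci
import Groth.Agent.L06.CompleteGRing

/-! Homomorphisms with geometrically `Q` fibres. -/

set_option autoImplicit false
set_option maxSynthPendingDepth 3
set_option linter.style.haveILetI false
universe u

namespace Groth.L06.GeomHom

open IsLocalRing PropLoc GeomFG
open scoped TensorProduct

/-- geometrically `Q` fibres -/
def GeomHom (Q : ∀ (R : Type u) [CommRing R], Prop) (A B : Type u) [CommRing A] [CommRing B] [Algebra A B] : Prop :=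
  ∀ (p : Ideal A) [p.IsPrime], Geom Q p.ResidueField (p.Fiber B)

/-- geometrically `Q` formal fibres -/
def FF (Q : ∀ (R : Type u) [CommRing R], Prop) (A : Type u) [CommRing A] [IsLocalRing A] : Prop :=
  GeomHom Q A (EGA4.Cpl A)

theorem geomHom_reg_of_isRegularHom {A B : Type u} [CommRing A] [CommRing B] [IsNoetherianRing B] [Algebra A B]
    (h : CAlg.IsRegularHom A B) : GeomHom QReg A B := fun p _ K _ _ hK => by
  haveI := hK
  haveI := GeomLocal.isNoetherianRing_fibre (B := B) p K
  exact loc_reg_iff.mpr ((h.2 p).2 K hK)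

theorem isRegularHom_of_geomHom {A B : Type u} [CommRing A] [CommRing B] [IsNoetherianRing B] [Algebra A B]
    [Module.Flat A B] (h : GeomHom QReg A B) : CAlg.IsRegularHom A B :=
  ⟨inferInstance, fun p _ => ⟨GeomLocal.isNoetherianRing_fiber p, fun K _ _ hK => by
    haveI := hK
    haveI := GeomLocal.isNoetherianRing_fibre (B := B) p K
    exact loc_reg_iff.mp (h p K hK)⟩⟩

variable {Q : ∀ (R : Type u) [CommRing R], Prop} (hQ : Good Q) (hr : RegImp Q)
include hQ

omit hQ in
include hr in
theorem geomHom_of_reg {A B : Type u} [CommRing A] [CommRing B] [Algebra A B] (h : GeomHom QReg A B) : GeomHom Q A B :=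
  fun p _ K _ _ hK q _ => hr _ (h p K hK q)

theorem comp {A B C : Type u} [CommRing A] [CommRing B] [CommRing C] [IsNoetherianRing B] [IsNoetherianRing C]
    [Algebra A B] [Algebra B C] [Algebra A C] [IsScalarTower A B C] [Module.Flat B C]
    (hAB : GeomHom Q A B) (hBC : GeomHom Q B C) : GeomHom Q A C := by
  intro p _ K _ _ hK
  haveI := hK
  letI : Algebra A K := ((algebraMap p.ResidueField K).comp (algebraMap A p.ResidueField)).toAlgebra
  haveI : IsScalarTower A p.ResidueField K := IsScalarTower.of_algebraMap_eq' rfl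
  haveI : IsNoetherianRing (B ⊗[A] K) := Groth.L06.FibreComp.isNoetherianRing_baseChange p K
  haveI := GeomLocal.isNoetherianRing_fibre (B := B) p K
  haveI := GeomLocal.isNoetherianRing_fibre (B := C) p K
  haveI : IsNoetherianRing ((B ⊗[A] K) ⊗[B] C) :=
    isNoetherianRing_of_ringEquiv (K ⊗[p.ResidueField] p.Fiber C) (Groth.L06.FibreComp.fibreEquiv (B := B) p K)
  refine loc_of_ringEquiv hQ (Groth.L06.FibreComp.fibreEquiv (B := B) p K).symm (hQ.ascend
    (loc_of_ringEquiv hQ (Groth.L06.FibreComp.fibreEquivBase (B := B) p K) (hAB p K hK)) fun q _ => ?_)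
  obtain ⟨i, hi, ⟨e⟩⟩ := Groth.L06.FibreComp.exists_fibre_baseChange (B := B) (C := C) q
  letI := i
  haveI := hi
  haveI : Module.Finite (q.comap (algebraMap B (B ⊗[A] K))).ResidueField q.ResidueField :=
    Groth.Agent.S4696.finite_residueField p K q
  haveI := GeomLocal.isNoetherianRing_fibre (B := C) (q.comap (algebraMap B (B ⊗[A] K))) q.ResidueField
  exact loc_of_ringEquiv hQ e.symm (hBC _ q.ResidueField inferInstance)

theorem descend {A B C : Type u} [CommRing A] [CommRing B] [CommRing C] [IsNoetherianRing B] [IsNoetherianRing C]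
    [Algebra A B] [Algebra B C] [Algebra A C] [IsScalarTower A B C] [Module.FaithfullyFlat B C]
    (h : GeomHom Q A C) : GeomHom Q A B := by
  intro p _ K _ _ hK
  haveI := hK
  letI : Algebra A K := ((algebraMap p.ResidueField K).comp (algebraMap A p.ResidueField)).toAlgebra
  haveI : IsScalarTower A p.ResidueField K := IsScalarTower.of_algebraMap_eq' rfl
  haveI : IsNoetherianRing (B ⊗[A] K) := Groth.L06.FibreComp.isNoetherianRing_baseChange p K
  haveI := GeomLocal.isNoetherianRing_fibre (B := C) p K
  haveI : IsNoetherianRing ((B ⊗[A] K) ⊗[B] C) :=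
    isNoetherianRing_of_ringEquiv (K ⊗[p.ResidueField] p.Fiber C) (Groth.L06.FibreComp.fibreEquiv (B := B) p K)
  exact loc_of_ringEquiv hQ (Groth.L06.FibreComp.fibreEquivBase (B := B) p K).symm
    (hQ.descend (S := (B ⊗[A] K) ⊗[B] C) (loc_of_ringEquiv hQ (Groth.L06.FibreComp.fibreEquiv (B := B) p K) (h p K hK)))

omit hQ in
theorem geomHom_localization {B : Type u} [CommRing B] [IsNoetherianRing B] (M : Submonoid B) (T : Type u) [CommRing T]
    [Algebra B T] [IsLocalization M T] : GeomHom QReg B T := by
  intro q _ K _ _ hK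
  haveI := hK
  haveI : IsNoetherianRing T := IsLocalization.isNoetherianRing M T inferInstance
  haveI := GeomLocal.isNoetherianRing_fibre (B := T) q K
  letI : Algebra B K := ((algebraMap q.ResidueField K).comp (algebraMap B q.ResidueField)).toAlgebra
  haveI : IsScalarTower B q.ResidueField K := IsScalarTower.of_algebraMap_eq' rfl
  haveI : IsLocalization (Algebra.algebraMapSubmonoid K M) (K ⊗[B] T) := IsLocalization.tensor (R := B) (S := K) T M
  haveI : IsNoetherianRing (K ⊗[B] T) := IsLocalization.isNoetherianRing (Algebra.algebraMapSubmonoid K M) _ inferInstance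
  exact loc_of_ringEquiv good_reg (Algebra.TensorProduct.cancelBaseChange B q.ResidueField q.ResidueField K T).toRingEquiv.symm
    (loc_localization good_reg (Algebra.algebraMapSubmonoid K M) (K ⊗[B] T) (loc_reg_iff.mpr inferInstance))

theorem of_algEquiv {A B B' : Type u} [CommRing A] [CommRing B] [CommRing B'] [IsNoetherianRing B] [Algebra A B]
    [Algebra A B'] (e : B ≃ₐ[A] B') (h : GeomHom Q A B) : GeomHom Q A B' := fun p _ K _ _ hK => by
  haveI := hK
  haveI := GeomLocal.isNoetherianRing_fibre (B := B) p K
  exact loc_of_ringEquiv hQ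
    (Algebra.TensorProduct.congr (AlgEquiv.refl : K ≃ₐ[p.ResidueField] K)
      (Algebra.TensorProduct.congr (AlgEquiv.refl : p.ResidueField ≃ₐ[p.ResidueField] p.ResidueField) e)).toRingEquiv
    (h p K hK)

include hr

theorem baseChange {A A' B : Type u} [CommRing A] [CommRing A'] [CommRing B] [IsNoetherianRing B] [Algebra A A']
    [Algebra.EssFiniteType A A'] [Algebra A B] (h : GeomHom Q A B) : GeomHom Q A' (A' ⊗[A] B) := by
  intro q _ L _ _ hL
  haveI := hL
  let p := q.comap (algebraMap A A')
  letI : Algebra p.ResidueField q.ResidueField := (Ideal.ResidueField.map p q (algebraMap A A') rfl).toAlgebra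
  haveI : IsScalarTower A p.ResidueField q.ResidueField := IsScalarTower.of_algebraMap_eq fun a => by
    rw [IsScalarTower.algebraMap_apply A A' q.ResidueField]
    exact (Ideal.ResidueField.map_algebraMap p q (algebraMap A A') rfl a).symm
  haveI : Algebra.EssFiniteType A q.ResidueField := Algebra.EssFiniteType.comp A A' q.ResidueField
  haveI : Algebra.EssFiniteType p.ResidueField q.ResidueField := Algebra.EssFiniteType.of_comp A p.ResidueField q.ResidueField
  letI : Algebra p.ResidueField L := ((algebraMap q.ResidueField L).comp (algebraMap p.ResidueField q.ResidueField)).toAlgebra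
  haveI : IsScalarTower p.ResidueField q.ResidueField L := IsScalarTower.of_algebraMap_eq' rfl
  haveI : Algebra.EssFiniteType p.ResidueField L := Algebra.EssFiniteType.comp p.ResidueField q.ResidueField L
  letI : Algebra A' L := ((algebraMap q.ResidueField L).comp (algebraMap A' q.ResidueField)).toAlgebra
  haveI : IsScalarTower A' q.ResidueField L := IsScalarTower.of_algebraMap_eq' rfl
  letI : Algebra A L := ((algebraMap A' L).comp (algebraMap A A')).toAlgebra
  haveI : IsScalarTower A A' L := IsScalarTower.of_algebraMap_eq' rfl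
  haveI : IsScalarTower A p.ResidueField L := IsScalarTower.of_algebraMap_eq fun a => by
    show algebraMap q.ResidueField L (algebraMap A' q.ResidueField (algebraMap A A' a)) =
      algebraMap q.ResidueField L (algebraMap p.ResidueField q.ResidueField (algebraMap A p.ResidueField a))
    rw [← IsScalarTower.algebraMap_apply A A' q.ResidueField, ← IsScalarTower.algebraMap_apply A p.ResidueField q.ResidueField]
  haveI := GeomLocal.isNoetherianRing_fiber (B := B) p
  haveI := isNoetherianRing_tensor p.ResidueField L (p.Fiber B)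
  exact loc_of_ringEquiv hQ
    ((Algebra.TensorProduct.cancelBaseChange A p.ResidueField p.ResidueField L B).toRingEquiv.trans
      ((Algebra.TensorProduct.cancelBaseChange A A' A' L B).toRingEquiv.symm.trans
        (Algebra.TensorProduct.cancelBaseChange A' q.ResidueField q.ResidueField L (A' ⊗[A] B)).toRingEquiv.symm))
    (loc_of_geom hQ hr (h p) L)

/-- formal fibres from a cover by a ring whose own formal fibres are geometrically regular -/
theorem ff_of_cover {A B : Type u} [CommRing A] [IsNoetherianRing A] [CommRing B] [IsNoetherianRing B] [Algebra A B]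
    [Module.Flat A B] (h : GeomHom Q A B) (hB : CAlg.IsGRing B) (P : Ideal B) [P.IsPrime] :
    FF Q (Localization.AtPrime (P.comap (algebraMap A B))) := by
  letI := Localization.AtPrime.algebraOfLiesOver (P.comap (algebraMap A B)) P
  haveI : IsLocalHom (algebraMap (Localization.AtPrime (P.comap (algebraMap A B))) (Localization.AtPrime P)) :=
    Localization.isLocalHom_localRingHom _ _ _ _
  haveI : Module.Flat (Localization.AtPrime (P.comap (algebraMap A B))) (Localization.AtPrime P) :=
    RingHom.Flat.localRingHom (RingHom.flat_algebraMap_iff.mpr inferInstance) _ _ rfl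
  let Ap := Localization.AtPrime (P.comap (algebraMap A B))
  let BP := Localization.AtPrime P
  -- `A → B → B_P`
  have h1 : GeomHom Q A BP := comp hQ h (geomHom_of_reg hr (geomHom_localization P.primeCompl BP))
  obtain ⟨hBn, hB'⟩ := hB
  haveI : IsNoetherianRing (EGA4.Cpl BP) := Groth.Agent.S0543.result _ _
  haveI : IsNoetherianRing (EGA4.Cpl Ap) := Groth.Agent.S0543.result _ _
  haveI := NormalAscent.faithfullyFlat_cpl BP
  have h2 : GeomHom Q BP (EGA4.Cpl BP) := geomHom_of_reg hr (geomHom_reg_of_isRegularHom (hB' P))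
  obtain ⟨j, hj, hff⟩ := Groth.L06.FormalFibres.exists_cpl_algebra Ap BP
  letI := j
  haveI := hj
  haveI := hff
  haveI : IsScalarTower A BP (EGA4.Cpl BP) := IsScalarTower.of_algebraMap_eq fun a => rfl
  have h3 : GeomHom Q A (EGA4.Cpl BP) := comp hQ h1 h2
  have h4 : GeomHom Q Ap (EGA4.Cpl BP) := by
    haveI := IsLocalization.tensorProduct_compatibleSMul (P.comap (algebraMap A B)).primeCompl Ap Ap (EGA4.Cpl BP)
    haveI : IsScalarTower A Ap (EGA4.Cpl BP) := IsScalarTower.of_algebraMap_eq fun a => by
      rw [IsScalarTower.algebraMap_apply A BP (EGA4.Cpl BP), IsScalarTower.algebraMap_apply Ap BP (EGA4.Cpl BP)]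
      exact congrArg _ (IsScalarTower.algebraMap_apply A Ap BP a)
    haveI : Algebra.EssFiniteType A Ap := Algebra.EssFiniteType.of_isLocalization _ (P.comap (algebraMap A B)).primeCompl
    haveI : IsNoetherianRing (Ap ⊗[A] EGA4.Cpl BP) := by
      haveI := Algebra.EssFiniteType.isNoetherianRing (EGA4.Cpl BP) (EGA4.Cpl BP ⊗[A] Ap)
      exact isNoetherianRing_of_ringEquiv (EGA4.Cpl BP ⊗[A] Ap) (Algebra.TensorProduct.comm A (EGA4.Cpl BP) Ap).toRingEquiv
    exact of_algEquiv hQ
      ((Algebra.TensorProduct.equivOfCompatibleSMul A Ap Ap Ap (EGA4.Cpl BP)).symm.trans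
        (Algebra.TensorProduct.lid Ap (EGA4.Cpl BP)))
      (baseChange hQ hr (A' := Ap) h3)
  haveI : IsScalarTower Ap (EGA4.Cpl Ap) (EGA4.Cpl BP) := hj
  exact descend hQ h4

end Groth.L06.GeomHom
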