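import Groth.Agent.L06.GRingPoly
import Groth.Agent.L06.GeomHom
import Mathlib.RingTheory.PolynomialAlgebra
import Mathlib.RingTheory.FiniteType
import Mathlib.RingTheory.EssentialFiniteness

/-! G-rings and formal fibres are stable under (essentially) finite type extensions (EGA IV 7.4.4). -/

set_option autoImplicit false
set_option maxSynthPendingDepth 3
set_option linter.style.haveILetI false
universe u

namespace Groth.L06.GRingFT

open IsLocalRing PropLoc GeomFG GeomHom
open scoped TensorProduct

theorem isNoetherianRing_tensor_ess {A B C : Type u} [CommRing A] [CommRing B] [CommRing C] [Algebra A B] [Algebra A C]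
    [Algebra.EssFiniteType A B] [IsNoetherianRing C] : IsNoetherianRing (B ⊗[A] C) := by
  haveI := Algebra.EssFiniteType.isNoetherianRing C (C ⊗[A] B)
  exact isNoetherianRing_of_ringEquiv (C ⊗[A] B) (Algebra.TensorProduct.comm A C B).toRingEquiv

theorem exists_prime_over {A A' B : Type u} [CommRing A] [CommRing A'] [CommRing B] [Algebra A A'] [Algebra A B]
    (P : Ideal A') [P.IsPrime] (P₀ : Ideal B) [P₀.IsPrime] (h : P.comap (algebraMap A A') = P₀.comap (algebraMap A B)) :
    ∃ Q : Ideal (A' ⊗[A] B), Q.IsPrime ∧ Q.comap (algebraMap A' (A' ⊗[A] B)) = P := by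
  let p := P.comap (algebraMap A A')
  haveI : p.IsPrime := Ideal.IsPrime.comap _
  let i : p.ResidueField →+* P.ResidueField := Ideal.ResidueField.map p P (algebraMap A A') rfl
  let j : p.ResidueField →+* P₀.ResidueField := Ideal.ResidueField.map p P₀ (algebraMap A B) h
  letI := i.toAlgebra
  letI := j.toAlgebra
  haveI : Nontrivial (P.ResidueField ⊗[p.ResidueField] P₀.ResidueField) :=
    Algebra.TensorProduct.nontrivial_of_algebraMap_injective_of_flat_left p.ResidueField P.ResidueField P₀.ResidueField j.injective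
  obtain ⟨m, hm⟩ := Ideal.exists_maximal (P.ResidueField ⊗[p.ResidueField] P₀.ResidueField)
  let L := (P.ResidueField ⊗[p.ResidueField] P₀.ResidueField) ⧸ m
  let gP : P.ResidueField →+* L := (Ideal.Quotient.mk m).comp (algebraMap P.ResidueField _)
  let g0 : P₀.ResidueField →+* L := (Ideal.Quotient.mk m).comp
    (Algebra.TensorProduct.includeRight (R := p.ResidueField) (A := P.ResidueField) (B := P₀.ResidueField)).toRingHom
  have hg : (g0.comp (algebraMap B P₀.ResidueField)).comp (algebraMap A B) =
      (gP.comp (algebraMap A' P.ResidueField)).comp (algebraMap A A') := by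
    ext a
    show Ideal.Quotient.mk m ((1 : P.ResidueField) ⊗ₜ algebraMap B P₀.ResidueField (algebraMap A B a)) =
      Ideal.Quotient.mk m ((algebraMap A' P.ResidueField (algebraMap A A' a)) ⊗ₜ (1 : P₀.ResidueField))
    rw [← Ideal.ResidueField.map_algebraMap p P₀ (algebraMap A B) h a,
      ← Ideal.ResidueField.map_algebraMap p P (algebraMap A A') rfl a]
    show Ideal.Quotient.mk m ((1 : P.ResidueField) ⊗ₜ algebraMap p.ResidueField P₀.ResidueField (algebraMap A p.ResidueField a)) =
      Ideal.Quotient.mk m ((algebraMap p.ResidueField P.ResidueField (algebraMap A p.ResidueField a)) ⊗ₜ (1 : P₀.ResidueField))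
    generalize algebraMap A p.ResidueField a = c
    rw [Algebra.algebraMap_eq_smul_one, Algebra.algebraMap_eq_smul_one, TensorProduct.smul_tmul]
  obtain ⟨ψ, hψ⟩ := GRingPoly.exists_tensor_lift (gP.comp (algebraMap A' P.ResidueField)) (g0.comp (algebraMap B P₀.ResidueField)) hg
  letI : Field L := Ideal.Quotient.field m
  refine ⟨RingHom.ker ψ, RingHom.ker_isPrime _, ?_⟩
  ext x
  show ψ (x ⊗ₜ 1) = 0 ↔ x ∈ P
  rw [hψ, map_one, mul_one, RingHom.comp_apply]
  constructor
  · intro h0
    have := gP.injective (h0.trans (map_zero gP).symm)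
    exact Ideal.algebraMap_residueField_eq_zero.mp this
  · intro hx
    rw [Ideal.algebraMap_residueField_eq_zero.mpr hx, map_zero]

theorem isGRing_of_ringEquiv {R R' : Type u} [CommRing R] [CommRing R'] (e : R ≃+* R') (h : CAlg.IsGRing R) :
    CAlg.IsGRing R' := by
  obtain ⟨hn, hR⟩ := h
  refine ⟨isNoetherianRing_of_ringEquiv R e, fun p _ => ?_⟩
  haveI : (p.comap e.toRingHom).IsPrime := Ideal.IsPrime.comap _
  exact GRingTransport.isRegularHom_completion_of_ringEquiv
    (IsLocalization.ringEquivOfRingEquiv (M := (p.comap e.toRingHom).primeCompl) (T := p.primeCompl)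
      (Localization.AtPrime (p.comap e.toRingHom)) (Localization.AtPrime p) e (by
      ext z
      rw [Submonoid.mem_map]
      constructor
      · rintro ⟨a, ha, rfl⟩; exact ha
      · intro hz
        refine ⟨e.symm z, ?_, e.apply_symm_apply z⟩
        show e (e.symm z) ∉ p
        rwa [e.apply_symm_apply])) (hR _)

theorem regularHom_congr {R : Type u} [CommRing R] {P P' : Ideal R} [P.IsPrime] [P'.IsPrime] (h : P' = P)
    (H : CAlg.IsRegularHom (Localization.AtPrime P') (EGA4.Cpl (Localization.AtPrime P'))) :
    CAlg.IsRegularHom (Localization.AtPrime P) (EGA4.Cpl (Localization.AtPrime P)) := by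
  subst h
  exact H

theorem isGRing_localization {R : Type u} [CommRing R] (M : Submonoid R) (T : Type u) [CommRing T] [Algebra R T]
    [IsLocalization M T] (h : CAlg.IsGRing R) : CAlg.IsGRing T := by
  obtain ⟨hn, hR⟩ := h
  refine ⟨IsLocalization.isNoetherianRing M T inferInstance, fun p _ => ?_⟩
  haveI : (p.comap (algebraMap R T)).IsPrime := Ideal.IsPrime.comap _
  haveI : IsLocalization.AtPrime (Localization.AtPrime p) (p.comap (algebraMap R T)) :=
    IsLocalization.isLocalization_isLocalization_atPrime_isLocalization M (Localization.AtPrime p) p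
  exact GRingTransport.isRegularHom_completion_of_ringEquiv
    (IsLocalization.algEquiv (p.comap (algebraMap R T)).primeCompl
      (Localization.AtPrime (p.comap (algebraMap R T))) (Localization.AtPrime p)).toRingEquiv (hR _)

theorem genFib_of_isGRing {R : Type u} [CommRing R] (h : CAlg.IsGRing R) : GRingPoly.GenFib R := by
  obtain ⟨hn, hR⟩ := h
  intro D _ _ _ _ L _ _ _ P _
  letI : Algebra R L := ((algebraMap D L).comp (algebraMap R D)).toAlgebra
  haveI : IsScalarTower R D L := IsScalarTower.of_algebraMap_eq' rfl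
  let p := P.comap (algebraMap R D)
  let Rp := Localization.AtPrime p
  refine (CompleteGRing.transfer good_reg L p).mp ?_ P rfl
  have hu : ∀ s : p.primeCompl, IsUnit (algebraMap R L s) := fun s => isUnit_iff_ne_zero.mpr fun h0 => s.2 (by
    have : algebraMap R D s = 0 := IsFractionRing.injective D L (by rw [map_zero]; exact h0)
    show algebraMap R D s ∈ P
    rw [this]
    exact P.zero_mem)
  letI : Algebra Rp L := (IsLocalization.lift hu).toAlgebra
  haveI : IsScalarTower R Rp L := IsScalarTower.of_algebraMap_eq fun a => (IsLocalization.lift_eq hu a).symm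
  let q := RingHom.ker (algebraMap Rp L)
  haveI : q.IsPrime := RingHom.ker_isPrime _
  letI : Algebra q.ResidueField L := (Ideal.ResidueField.lift q (algebraMap Rp L) (fun a ha => ha)
    (fun a ha => isUnit_iff_ne_zero.mpr fun h0 => ha h0)).toAlgebra
  haveI : IsScalarTower Rp q.ResidueField L := IsScalarTower.of_algebraMap_eq fun a =>
    (Ideal.ResidueField.lift_algebraMap q _ _ _ a).symm
  haveI : IsScalarTower R q.ResidueField L := IsScalarTower.of_algebraMap_eq fun a => by
    rw [IsScalarTower.algebraMap_apply R Rp L, IsScalarTower.algebraMap_apply Rp q.ResidueField L,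
      ← IsScalarTower.algebraMap_apply R Rp q.ResidueField]
  haveI : Module.Finite q.ResidueField L := GRingPoly.finite_over (A := R) (D := D) (L := L) q.ResidueField
  haveI : IsNoetherianRing (EGA4.Cpl Rp) := Groth.Agent.S0543.result _ _
  haveI := GeomLocal.isNoetherianRing_fibre (B := EGA4.Cpl Rp) q L
  have h0 : Loc QReg (L ⊗[q.ResidueField] q.Fiber (EGA4.Cpl Rp)) := loc_reg_iff.mpr (((hR p).2 q).2 L inferInstance)
  haveI := IsLocalization.tensorProduct_compatibleSMul p.primeCompl Rp L (EGA4.Cpl Rp)
  exact loc_of_ringEquiv good_reg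
    ((Algebra.TensorProduct.cancelBaseChange Rp q.ResidueField q.ResidueField L (EGA4.Cpl Rp)).toRingEquiv.trans
      (Algebra.TensorProduct.equivOfCompatibleSMul R Rp R L (EGA4.Cpl Rp)).toRingEquiv) h0

theorem isGRing_of_surjective {R S : Type u} [CommRing R] [CommRing S] (f : R →+* S) (hf : Function.Surjective f)
    (h : CAlg.IsGRing R) : CAlg.IsGRing S := by
  haveI := h.1
  haveI : IsNoetherianRing S := isNoetherianRing_of_surjective R S f hf
  refine GRingPoly.isGRing_of_genFib S fun D _ _ _ _ L _ _ _ P _ => ?_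
  letI : Algebra R S := f.toAlgebra
  letI : Algebra R D := ((algebraMap S D).comp f).toAlgebra
  haveI : IsScalarTower R S D := IsScalarTower.of_algebraMap_eq' rfl
  haveI : Module.Finite R S := Module.Finite.of_surjective (Algebra.linearMap R S) hf
  haveI : Module.Finite R D := Module.Finite.trans S D
  exact genFib_of_isGRing h D L P

theorem isGRing_polynomial {A : Type u} [CommRing A] (h : CAlg.IsGRing A) : CAlg.IsGRing (Polynomial A) := by
  obtain ⟨hn, hA⟩ := h
  refine ⟨inferInstance, fun P _ => ?_⟩
  let p := P.comap (algebraMap A (Polynomial A))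
  let Ap := Localization.AtPrime p
  let C := EGA4.Cpl Ap
  haveI : IsNoetherianRing C := Groth.Agent.S0543.result _ _
  haveI : IsAdicComplete (maximalIdeal C) C := inferInstance
  haveI := NormalAscent.faithfullyFlat_cpl Ap
  have h1 : GeomHom QReg A C := comp good_reg (geomHom_localization p.primeCompl Ap)
    (geomHom_reg_of_isRegularHom (hA p))
  haveI : Module.Flat A C := Module.Flat.trans A Ap C
  haveI : IsNoetherianRing (Polynomial A ⊗[A] C) := isNoetherianRing_tensor_ess
  have h2 : GeomHom QReg (Polynomial A) (Polynomial A ⊗[A] C) := GeomHom.baseChange good_reg regImp_reg h1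
  obtain ⟨P₀, hP₀, hP₀p⟩ : ∃ P₀ : Ideal C, P₀.IsPrime ∧ p = P₀.comap (algebraMap A C) := by
    obtain ⟨z, hz⟩ := PrimeSpectrum.comap_surjective_of_faithfullyFlat (A := Ap) (B := C) ⟨maximalIdeal Ap, inferInstance⟩
    refine ⟨z.asIdeal, z.2, ?_⟩
    rw [IsScalarTower.algebraMap_eq A Ap C, ← Ideal.comap_comap,
      show z.asIdeal.comap (algebraMap Ap C) = maximalIdeal Ap from congrArg PrimeSpectrum.asIdeal hz]
    exact Localization.AtPrime.under_maximalIdeal.symm
  obtain ⟨P', hP', hP'P⟩ := exists_prime_over P P₀ hP₀p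
  have hB : CAlg.IsGRing (Polynomial A ⊗[A] C) := isGRing_of_ringEquiv
    ((polyEquivTensor A C).trans (Algebra.TensorProduct.comm A C (Polynomial A))).toRingEquiv
    (GRingPoly.isGRing_polynomial C)
  haveI : IsNoetherianRing (EGA4.Cpl (Localization.AtPrime (P'.comap (algebraMap (Polynomial A) (Polynomial A ⊗[A] C))))) :=
    Groth.Agent.S0543.result _ _
  haveI := NormalAscent.faithfullyFlat_cpl (Localization.AtPrime (P'.comap (algebraMap (Polynomial A) (Polynomial A ⊗[A] C))))
  exact regularHom_congr hP'P (isRegularHom_of_geomHom (ff_of_cover good_reg regImp_reg h2 hB P'))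

theorem isGRing_mvPolynomial {A : Type u} [CommRing A] (h : CAlg.IsGRing A) :
    ∀ n : ℕ, CAlg.IsGRing (MvPolynomial (Fin n) A) := by
  intro n
  induction n with
  | zero => exact isGRing_of_ringEquiv (MvPolynomial.isEmptyAlgEquiv A (Fin 0)).symm.toRingEquiv h
  | succ n ih => exact isGRing_of_ringEquiv (MvPolynomial.finSuccEquiv A n).symm.toRingEquiv (isGRing_polynomial ih)

theorem isGRing_finiteType {A B : Type u} [CommRing A] [CommRing B] [Algebra A B] [Algebra.FiniteType A B]
    (h : CAlg.IsGRing A) : CAlg.IsGRing B := by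
  obtain ⟨n, f, hf⟩ := Algebra.FiniteType.iff_quotient_mvPolynomial''.mp (inferInstance : Algebra.FiniteType A B)
  exact isGRing_of_surjective f.toRingHom hf (isGRing_mvPolynomial h n)

theorem isGRing_essFiniteType {A B : Type u} [CommRing A] [CommRing B] [Algebra A B] [Algebra.EssFiniteType A B]
    (h : CAlg.IsGRing A) : CAlg.IsGRing B :=
  isGRing_localization (Algebra.EssFiniteType.submonoid A B) B
    (isGRing_finiteType (A := A) (B := Algebra.EssFiniteType.subalgebra A B) h)

/-- formal fibres of essentially finite type extensions -/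
theorem ff_essFiniteType {Q : ∀ (R : Type u) [CommRing R], Prop} (hQ : Good Q) (hr : RegImp Q)
    {A B : Type u} [CommRing A] [IsNoetherianRing A] [IsLocalRing A] [CommRing B] [IsNoetherianRing B] [IsLocalRing B]
    [Algebra A B] [Algebra.EssFiniteType A B] (h : FF Q A) : FF Q B := by
  let C := EGA4.Cpl A
  haveI : IsNoetherianRing C := Groth.Agent.S0543.result _ _
  haveI := NormalAscent.faithfullyFlat_cpl A
  haveI : IsAdicComplete (maximalIdeal C) C := inferInstance
  haveI : IsNoetherianRing (B ⊗[A] C) := isNoetherianRing_tensor_ess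
  have h2 : GeomHom Q B (B ⊗[A] C) := GeomHom.baseChange hQ hr h
  have hB : CAlg.IsGRing (B ⊗[A] C) := isGRing_of_ringEquiv (Algebra.TensorProduct.comm A C B).toRingEquiv
    (isGRing_essFiniteType (A := C) (B := C ⊗[A] B) (CompleteGRing.isGRing C))
  obtain ⟨z, hz⟩ := PrimeSpectrum.comap_surjective_of_faithfullyFlat (A := A) (B := C)
    ⟨(maximalIdeal B).comap (algebraMap A B), inferInstance⟩
  obtain ⟨P', hP', hP'B⟩ := exists_prime_over (maximalIdeal B) z.asIdeal (congrArg PrimeSpectrum.asIdeal hz).symm
  have h3 := ff_of_cover hQ hr h2 hB P'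
  let m := P'.comap (algebraMap B (B ⊗[A] C))
  let Bm := Localization.AtPrime m
  haveI : IsNoetherianRing (EGA4.Cpl Bm) := Groth.Agent.S0543.result _ _
  haveI := NormalAscent.faithfullyFlat_cpl Bm
  have h4 : GeomHom Q B (EGA4.Cpl Bm) := comp hQ (geomHom_of_reg hr (geomHom_localization m.primeCompl Bm)) h3
  have hsub : m.primeCompl ≤ IsUnit.submonoid B := fun x hx => by
    by_contra hu
    refine hx ?_
    show x ∈ m
    rw [show m = maximalIdeal B from hP'B]
    exact hu
  let e : B ≃ₐ[B] Bm := IsLocalization.atUnits B m.primeCompl hsub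
  let c : EGA4.Cpl B ≃+* EGA4.Cpl Bm := GRingTransport.completionEquiv e.toRingEquiv (maximalIdeal B) (maximalIdeal Bm)
    (IsLocalRing.map_maximalIdeal_le (e.toRingEquiv : B →+* Bm)) (IsLocalRing.map_maximalIdeal_le (e.toRingEquiv.symm : Bm →+* B))
  have hc : ∀ b, c (algebraMap B (EGA4.Cpl B) b) = algebraMap B (EGA4.Cpl Bm) b := fun b => by
    refine (GRingTransport.completionEquiv_algebraMap e.toRingEquiv _ _ _ _ b).trans ?_
    show algebraMap Bm (EGA4.Cpl Bm) (e b) = _
    rw [show e b = algebraMap B Bm b from e.commutes b, ← IsScalarTower.algebraMap_apply]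
  exact of_algEquiv hQ (AlgEquiv.ofRingEquiv (f := c) hc).symm h4

end Groth.L06.GRingFT
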