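import Mathlib.Topology.Constructible
import Mathlib.Topology.NoetherianSpace
import Mathlib.Topology.LocallyClosed
import Mathlib.Topology.Sober
import Mathlib.Topology.Spectral.Prespectral
import Mathlib.Topology.GDelta.Basic

set_option autoImplicit false

/-!
Constructible sets, mostly in Noetherian spaces.
-/

namespace Groth.L06.Constr

open Topology TopologicalSpace Set

variable {X : Type*} [TopologicalSpace X]

/-- Constructible sets are finite unions of differences of retrocompact opens. -/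
theorem exists_finite_sdiff {s : Set X} (hs : IsConstructible s) :
    ∃ T : Set (Set X × Set X), T.Finite ∧
      (∀ p ∈ T, (IsOpen p.1 ∧ IsRetrocompact p.1) ∧ (IsOpen p.2 ∧ IsRetrocompact p.2)) ∧
      s = ⋃ p ∈ T, p.1 \ p.2 := by
  induction s, hs using BooleanSubalgebra.closure_sdiff_sup_induction with
  | isSublattice =>
    exact ⟨fun s hs t ht ↦ ⟨hs.1.union ht.1, hs.2.union ht.2⟩,
      fun s hs t ht ↦ ⟨hs.1.inter ht.1, hs.2.inter_isOpen ht.2 ht.1⟩⟩
  | bot_mem => exact ⟨isOpen_empty, .empty⟩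
  | top_mem => exact ⟨isOpen_univ, .univ⟩
  | sdiff U hU V hV => exact ⟨{(U, V)}, finite_singleton _, by simpa using ⟨hU, hV⟩, by simp⟩
  | sup s _ t _ hs ht =>
    obtain ⟨S, hS, hS', rfl⟩ := hs
    obtain ⟨T, hT, hT', rfl⟩ := ht
    exact ⟨S ∪ T, hS.union hT, fun p hp => hp.elim (hS' p) (hT' p), by rw [biUnion_union]; rfl⟩

theorem exists_finite_isLocallyClosed {s : Set X} (hs : IsConstructible s) :
    ∃ (n : ℕ) (Z : Fin n → Set X), (∀ i, IsLocallyClosed (Z i)) ∧ s = ⋃ i, Z i := by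
  obtain ⟨T, hT, hT', rfl⟩ := exists_finite_sdiff hs
  obtain ⟨n, f, -, rfl⟩ := hT.fin_param
  exact ⟨n, fun i => (f i).1 \ (f i).2, fun i => ⟨(f i).1, (f i).2ᶜ, (hT' _ ⟨i, rfl⟩).1.1,
    (hT' _ ⟨i, rfl⟩).2.1.isClosed_compl, rfl⟩, by simp [biUnion_range]⟩

theorem isRetrocompact {s : Set X} (hs : IsConstructible s) : IsRetrocompact s := by
  obtain ⟨T, hT, hT', rfl⟩ := exists_finite_sdiff hs
  refine IsRetrocompact.biUnion hT fun p hp U hUc hUo => ?_
  rw [sdiff_inter_right_comm]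
  exact ((hT' p hp).1.2 hUc hUo).diff (hT' p hp).2.1

/-- A finite union of locally closed sets whose trace on an irreducible `Z` is dense contains a
nonempty open subset of `Z`. -/
theorem exists_open_inter_subset {n : ℕ} {L : Fin n → Set X} (hL : ∀ i, IsLocallyClosed (L i))
    {Z : Set X} (hZ : IsIrreducible Z) (h : Z ⊆ closure ((⋃ i, L i) ∩ Z)) :
    ∃ U, IsOpen U ∧ (Z ∩ U).Nonempty ∧ U ∩ Z ⊆ ⋃ i, L i := by
  classical
  rw [iUnion_inter, closure_iUnion_of_finite] at h
  obtain ⟨z, hz, hzZ⟩ := isIrreducible_iff_sUnion_isClosed.mp hZ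
    (Finset.univ.image fun i => closure (L i ∩ Z))
    (by simp) (by simpa using h)
  simp only [Finset.mem_image, Finset.mem_univ, true_and] at hz
  obtain ⟨i, rfl⟩ := hz
  obtain ⟨U, C, hU, hC, hLi⟩ := hL i
  refine ⟨U, hU, ?_, fun x hx => mem_iUnion.mpr ⟨i, ?_⟩⟩
  · obtain ⟨z, hz⟩ := hZ.nonempty
    obtain ⟨w, hw, hw'⟩ := closure_nonempty_iff.mp ⟨z, hzZ hz⟩
    exact ⟨w, hw', (hLi ▸ hw).1⟩
  · rw [hLi]
    exact ⟨hx.1, (closure_minimal (inter_subset_left.trans (hLi.subset.trans inter_subset_right)) hC)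
      (hzZ hx.2)⟩

theorem exists_open_inter_subset' {E : Set X} (hE : IsConstructible E) {Z : Set X}
    (hZ : IsIrreducible Z) (h : Z ⊆ closure (E ∩ Z)) :
    ∃ U, IsOpen U ∧ (U ∩ Z).Nonempty ∧ U ∩ Z ⊆ E := by
  obtain ⟨n, L, hL, rfl⟩ := exists_finite_isLocallyClosed hE
  obtain ⟨U, h1, h2, h3⟩ := exists_open_inter_subset hL hZ h
  exact ⟨U, h1, by rwa [inter_comm], h3⟩

theorem subset_closure_inter {U Z : Set X} (hZ : IsIrreducible Z) (hU : IsOpen U)
    (h : (U ∩ Z).Nonempty) : Z ⊆ closure (U ∩ Z) := fun z hz => by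
  rw [mem_closure_iff]
  intro V hV hzV
  obtain ⟨w, hw1, hw2, hw3⟩ := hZ.isPreirreducible U V hU hV (by rwa [inter_comm]) ⟨z, hz, hzV⟩
  exact ⟨w, hw3, hw2, hw1⟩

theorem dense_subtype_iff {E Y : Set X} :
    Dense (Subtype.val ⁻¹' E : Set Y) ↔ Y ⊆ closure (E ∩ Y) := by
  rw [Subtype.dense_iff, Subtype.image_preimage_coe, inter_comm]

theorem subset_closure_of_generic {E Y : Set X} {η : X} (hY : Y ⊆ closure {η}) (h1 : η ∈ E)
    (h2 : η ∈ Y) : Y ⊆ closure (E ∩ Y) :=
  hY.trans (closure_mono (singleton_subset_iff.mpr ⟨h1, h2⟩))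

section Noetherian

variable [NoetherianSpace X]

/-- Noetherian induction over closed subsets. -/
theorem closed_induction {P : Set X → Prop} (h0 : P ∅)
    (hirr : ∀ C, IsClosed C → IsIrreducible C →
      (∀ D, IsClosed D → D ⊂ C → P D) → P C)
    (hunion : ∀ A B, IsClosed A → IsClosed B → P A → P B → P (A ∪ B))
    {C : Set X} (hC : IsClosed C) : P C := by
  suffices ∀ C : Closeds X, P C from this ⟨C, hC⟩
  intro C
  refine wellFounded_lt.induction (C := fun C : Closeds X => P C) C fun C ih => ?_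
  rcases (C : Set X).eq_empty_or_nonempty with h | hne
  · rw [h]; exact h0
  have ih' : ∀ D, IsClosed D → D ⊂ (C : Set X) → P D := fun D hD hlt => ih ⟨D, hD⟩ (SetLike.coe_ssubset_coe.mp hlt)
  by_cases hp : IsPreirreducible (C : Set X)
  · exact hirr C C.isClosed ⟨hne, hp⟩ ih'
  · rw [isPreirreducible_iff_isClosed_union_isClosed] at hp
    push Not at hp
    obtain ⟨A, B, hA, hB, hAB, hCA, hCB⟩ := hp
    rw [show (C : Set X) = (C : Set X) ∩ A ∪ (C : Set X) ∩ B by
      rw [← inter_union_distrib_left, inter_eq_left.mpr hAB]]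
    refine hunion _ _ (C.isClosed.inter hA) (C.isClosed.inter hB)
      (ih' _ (C.isClosed.inter hA) ?_) (ih' _ (C.isClosed.inter hB) ?_)
    · exact inter_subset_left.ssubset_of_ne fun e => hCA (inter_eq_left.mp e)
    · exact inter_subset_left.ssubset_of_ne fun e => hCB (inter_eq_left.mp e)

theorem sdiff_ssubset_of_nonempty {C U : Set X} (h : (U ∩ C).Nonempty) : C \ U ⊂ C :=
  sdiff_subset.ssubset_of_ne fun e => by
    obtain ⟨x, hx1, hx2⟩ := h
    exact (e.symm ▸ hx2 : x ∈ C \ U).2 hx1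

theorem isConstructible_of_isOpen {U : Set X} (hU : IsOpen U) : IsConstructible U :=
  IsRetrocompact.isConstructible hU fun _ _ _ => NoetherianSpace.isCompact _

theorem isConstructible_of_isClosed {C : Set X} (hC : IsClosed C) : IsConstructible C :=
  IsConstructible.of_compl (isConstructible_of_isOpen hC.isOpen_compl)

theorem isConstructible_of_isLocallyClosed {s : Set X} (hs : IsLocallyClosed s) :
    IsConstructible s := by
  obtain ⟨U, C, hU, hC, rfl⟩ := hs
  exact (isConstructible_of_isOpen hU).inter (isConstructible_of_isClosed hC)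

theorem isConstructible_of_forall_irreducible {E : Set X}
    (h : ∀ Y : Set X, IsClosed Y → IsIrreducible Y →
      ∃ U, IsOpen U ∧ (U ∩ Y).Nonempty ∧ (U ∩ Y ⊆ E ∨ U ∩ Y ⊆ Eᶜ)) :
    IsConstructible E := by
  rw [← inter_univ E]
  refine closed_induction (P := fun C => IsConstructible (E ∩ C)) ?_ ?_ ?_ isClosed_univ
  · simp
  · intro C hC hCi ih
    obtain ⟨U, hU, hne, hsub⟩ := h C hC hCi
    rw [← inter_union_sdiff C U, inter_union_distrib_left]
    refine IsConstructible.union ?_ (ih _ (hC.sdiff hU) (sdiff_ssubset_of_nonempty hne))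
    rcases hsub with hsub | hsub
    · rw [inter_eq_right.mpr (inter_comm C U ▸ hsub)]
      exact (isConstructible_of_isClosed hC).inter (isConstructible_of_isOpen hU)
    · rw [show E ∩ (C ∩ U) = ∅ from
        eq_empty_of_forall_notMem fun x hx => hsub ⟨hx.2.2, hx.2.1⟩ hx.1]
      exact IsConstructible.empty
  · intro A B _ _ hA hB
    rw [inter_union_distrib_left]
    exact hA.union hB

theorem mem_nhds_of_forall_irreducible {E : Set X} {x : X}
    (h : ∀ Y : Set X, IsClosed Y → IsIrreducible Y → x ∈ Y →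
      ∃ U, IsOpen U ∧ (U ∩ Y).Nonempty ∧ U ∩ Y ⊆ E) : E ∈ nhds x := by
  suffices ∃ W, IsOpen W ∧ x ∈ W ∧ W ∩ univ ⊆ E by
    obtain ⟨W, hW, hx, hsub⟩ := this
    exact mem_nhds_iff.mpr ⟨W, by simpa using hsub, hW, hx⟩
  refine closed_induction (P := fun C => ∃ W, IsOpen W ∧ x ∈ W ∧ W ∩ C ⊆ E) ?_ ?_ ?_ isClosed_univ
  · exact ⟨univ, isOpen_univ, trivial, by simp⟩
  · intro C hC hCi ih
    by_cases hx : x ∈ C
    · obtain ⟨U, hU, hne, hsub⟩ := h C hC hCi hx
      obtain ⟨W, hW, hxW, hWs⟩ := ih _ (hC.sdiff hU) (sdiff_ssubset_of_nonempty hne)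
      refine ⟨W, hW, hxW, fun y hy => ?_⟩
      by_cases hyU : y ∈ U
      · exact hsub ⟨hyU, hy.2⟩
      · exact hWs ⟨hy.1, hy.2, hyU⟩
    · exact ⟨Cᶜ, hC.isOpen_compl, hx, by simp⟩
  · rintro A B _ _ ⟨W, h1, h2, h3⟩ ⟨W', h1', h2', h3'⟩
    exact ⟨W ∩ W', h1.inter h1', ⟨h2, h2'⟩, fun y hy => hy.2.elim (fun hA => h3 ⟨hy.1.1, hA⟩)
      (fun hB => h3' ⟨hy.1.2, hB⟩)⟩

theorem isOpen_of_stableUnderGeneralization [QuasiSober X] {E : Set X} (hE : IsConstructible E)
    (hs : StableUnderGeneralization E) : IsOpen E := by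
  refine isOpen_iff_mem_nhds.mpr fun x hx => mem_nhds_of_forall_irreducible fun Y hY hYi hxY => ?_
  have hg := hYi.isGenericPoint_genericPoint hY
  exact exists_open_inter_subset' hE hYi
    (subset_closure_of_generic hg.def.ge (hs (hg.specializes hxY) hx) hg.mem)

theorem exists_eq_univ {ι : Type*} [Preorder ι] [IsDirected ι (· ≤ ·)] [Nonempty ι]
    (E : ι → Set X) (hmono : Monotone E) (hE : ∀ a, IsConstructible (E a))
    (hcov : ⋃ a, E a = univ)
    (hirr : ∀ Y : Set X, IsClosed Y → IsIrreducible Y → ∃ a, Y ⊆ closure (E a ∩ Y)) :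
    ∃ a, E a = univ := by
  suffices ∃ a, univ ⊆ E a from this.imp fun a ha => univ_subset_iff.mp ha
  refine closed_induction (P := fun C => ∃ a, C ⊆ E a) ⟨Classical.arbitrary ι, by simp⟩ ?_ ?_
    isClosed_univ
  · intro C hC hCi ih
    obtain ⟨a, ha⟩ := hirr C hC hCi
    obtain ⟨U, hU, hne, hsub⟩ := exists_open_inter_subset' (hE a) hCi ha
    obtain ⟨b, hb⟩ := ih _ (hC.sdiff hU) (sdiff_ssubset_of_nonempty hne)
    obtain ⟨c, hac, hbc⟩ := exists_ge_ge a b
    refine ⟨c, fun x hx => ?_⟩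
    by_cases hxU : x ∈ U
    · exact hmono hac (hsub ⟨hxU, hx⟩)
    · exact hmono hbc (hb ⟨hx, hxU⟩)
  · rintro A B _ _ ⟨a, ha⟩ ⟨b, hb⟩
    obtain ⟨c, hac, hbc⟩ := exists_ge_ge a b
    exact ⟨c, union_subset (ha.trans (hmono hac)) (hb.trans (hmono hbc))⟩

theorem finite_range_of_forall_irreducible {T : Type*} (h : X → T)
    (hirr : ∀ Y : Set X, IsClosed Y → IsIrreducible Y →
        ∃ U : Set X, IsOpen U ∧ (U ∩ Y).Nonempty ∧ ∀ a ∈ U ∩ Y, ∀ b ∈ U ∩ Y, h a = h b) :
    (range h).Finite := by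
  rw [← image_univ]
  refine closed_induction (P := fun C => (h '' C).Finite) (by simp) ?_ ?_ isClosed_univ
  · intro C hC hCi ih
    obtain ⟨U, hU, ⟨a, ha⟩, hc⟩ := hirr C hC hCi
    refine ((finite_singleton (h a)).union (ih _ (hC.sdiff hU) (sdiff_ssubset_of_nonempty ⟨a, ha⟩))).subset ?_
    rintro _ ⟨x, hx, rfl⟩
    by_cases hxU : x ∈ U
    · exact Or.inl (hc x ⟨hxU, hx⟩ a ha)
    · exact Or.inr ⟨x, ⟨hx, hxU⟩, rfl⟩
  · intro A B _ _ hA hB
    rw [image_union]
    exact hA.union hB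

theorem exists_const_of_generic [QuasiSober X] {T : Type*} (h : X → T)
    (hfib : ∀ t, IsConstructible (h ⁻¹' {t})) {Y : Set X} (hY : IsClosed Y) (hYi : IsIrreducible Y) :
    ∃ U : Set X, IsOpen U ∧ (U ∩ Y).Nonempty ∧ ∀ a ∈ U ∩ Y, ∀ b ∈ U ∩ Y, h a = h b := by
  have hg := hYi.isGenericPoint_genericPoint hY
  obtain ⟨U, h1, h2, h3⟩ := exists_open_inter_subset' (hfib (h hYi.genericPoint)) hYi
    (subset_closure_of_generic hg.def.ge rfl hg.mem)
  exact ⟨U, h1, h2, fun a ha b hb => (h3 ha).trans (h3 hb).symm⟩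

end Noetherian

section Subspace

theorem isCompact_open_subtype [PrespectralSpace X] {T : Set X} {W : Set T} (hW : IsOpen W)
    (hWc : IsCompact W) : ∃ U, IsOpen U ∧ IsCompact U ∧ Subtype.val ⁻¹' U = W := by
  obtain ⟨V, hV, rfl⟩ := isOpen_induced_iff.mp hW
  obtain ⟨U, hUc, hUo, hKU, hUV⟩ := PrespectralSpace.exists_isCompact_and_isOpen_between
    (hWc.image continuous_subtype_val) hV (image_preimage_subset _ _)
  exact ⟨U, hUo, hUc, subset_antisymm (preimage_mono hUV) fun x hx => hKU ⟨x, hx, rfl⟩⟩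

theorem isConstructible_preimage_val [PrespectralSpace X] {T : Set X} (hT : IsRetrocompact T)
    {E : Set X} (hE : IsConstructible E) : IsConstructible ((Subtype.val : T → X) ⁻¹' E) := by
  refine hE.preimage continuous_subtype_val fun V hV hVr W hWc hWo => ?_
  obtain ⟨U, hUo, hUc, rfl⟩ := isCompact_open_subtype hWo hWc
  rw [Subtype.isCompact_iff, ← preimage_inter, Subtype.image_preimage_coe]
  exact hT (hVr hUc hUo) (hV.inter hUo)

theorem isConstructible_image_val {E : Set X} (hE : IsConstructible E) {F : Set E}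
    (hF : IsConstructible F) : IsConstructible ((Subtype.val : E → X) '' F) := by
  induction hF using IsConstructible.empty_union_induction with
  | open_retrocompact F hFo hFr =>
    have key : ∀ U V : Set X, IsOpen U → IsRetrocompact U → IsOpen V → IsRetrocompact V →
        U \ V ⊆ E → IsConstructible (Subtype.val '' F ∩ (U \ V)) := by
      intro U V hU hUr hV hVr hsub
      obtain ⟨W, hW, rfl⟩ := isOpen_induced_iff.mp hFo
      have hW' : IsRetrocompact (W ∩ U ∪ V) := by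
        intro K hKc hKo
        have h1 : IsCompact (W ∩ U ∩ K ∩ Vᶜ) := by
          have h2 : IsCompact ((Subtype.val : E → X) ⁻¹' (U ∩ K)) := by
            rw [Subtype.isCompact_iff, Subtype.image_preimage_coe]
            exact isRetrocompact hE (hUr hKc hKo) (hU.inter hKo)
          have h3 := hFr h2 ((hU.inter hKo).preimage continuous_subtype_val)
          rw [← preimage_inter, Subtype.isCompact_iff, Subtype.image_preimage_coe] at h3
          have h4 : W ∩ U ∩ K ∩ Vᶜ = E ∩ (W ∩ (U ∩ K)) ∩ Vᶜ := by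
            ext x
            refine ⟨fun hx => ⟨⟨hsub ⟨hx.1.1.2, hx.2⟩, hx.1.1.1, hx.1.1.2, hx.1.2⟩, hx.2⟩,
              fun hx => ⟨⟨⟨hx.1.2.1, hx.1.2.2.1⟩, hx.1.2.2.2⟩, hx.2⟩⟩
          rw [h4]
          exact h3.inter_right hV.isClosed_compl
        have h5 : (W ∩ U ∪ V) ∩ K = (W ∩ U ∩ K ∩ Vᶜ) ∪ (V ∩ K) := by
          ext x
          simp only [mem_inter_iff, mem_union, mem_compl_iff]
          tauto
        rw [h5]
        exact h1.union (hVr hKc hKo)
      have h6 : Subtype.val '' (Subtype.val ⁻¹' W : Set E) ∩ (U \ V) = ((W ∩ U ∪ V) ∩ U) \ V := by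
        rw [Subtype.image_preimage_coe]
        ext x
        refine ⟨fun hx => ⟨⟨Or.inl ⟨hx.1.2, hx.2.1⟩, hx.2.1⟩, hx.2.2⟩, fun hx => ?_⟩
        exact ⟨⟨hsub ⟨hx.1.2, hx.2⟩, (hx.1.1.resolve_right hx.2).1⟩, hx.1.2, hx.2⟩
      rw [h6]
      exact ((hW'.isConstructible ((hW.inter hU).union hV)).inter (hUr.isConstructible hU)).sdiff
        (hVr.isConstructible hV)
    obtain ⟨T, hT, hT', hEeq⟩ := exists_finite_sdiff hE
    have hsub : ∀ p ∈ T, p.1 \ p.2 ⊆ E := fun p hp => by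
      intro x hx; rw [hEeq]; exact mem_biUnion hp hx
    rw [show Subtype.val '' F = ⋃ p ∈ T, Subtype.val '' F ∩ (p.1 \ p.2) by
      rw [← inter_iUnion₂, ← hEeq, inter_eq_left.mpr (Subtype.coe_image_subset E F)]]
    exact IsConstructible.biUnion hT fun p hp =>
      key _ _ (hT' p hp).1.1 (hT' p hp).1.2 (hT' p hp).2.1 (hT' p hp).2.2 (hsub p hp)
  | union s hs t ht h1 h2 => rw [image_union]; exact h1.union h2
  | compl s hs h =>
    rw [compl_eq_univ_sdiff, image_sdiff Subtype.val_injective, image_univ, Subtype.range_val]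
    exact hE.sdiff h

end Subspace

end Groth.L06.Constr
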