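import Groth.Agent.L07.FibreDimSemi
import Groth.Agent.L07.OpenFibreDim
import Groth.Agent.L07.UnivOpenFibre
import Groth.Agent.L07.OpenEquiv
import Groth.Agent.L07.Count.Proper
import Groth.Agent.L07.EquidimQF
import Groth.Agent.L06.Dim
import Mathlib.AlgebraicGeometry.Morphisms.FinitePresentation
import Mathlib.AlgebraicGeometry.Noetherian

/-! The fibre dimension near a point over which a morphism is open. -/

set_option autoImplicit false
set_option maxSynthPendingDepth 3
set_option backward.isDefEq.respectTransparency.types false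
set_option backward.isDefEq.respectTransparency false
set_option linter.style.haveILetI false
universe u

open CategoryTheory AlgebraicGeometry TopologicalSpace Topology

namespace Groth.L06.FibreDimLocConst

open Groth.L22

variable {X Y : Scheme.{u}}

theorem dim_fiber (f : X ⟶ Y) (y : Y) :
    topologicalKrullDim ↥(f.fiber y) = topologicalKrullDim ↥(f.base ⁻¹' {y}) :=
  (SchemeDim.topologicalKrullDim_eq_of_isEmbedding (f.fiberι y).isEmbedding (f.range_fiberι y)).symm

theorem exists_bound (f : X ⟶ Y) [LocallyOfFiniteType f] [QuasiCompact f] (y : Y) :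
    ∃ n : ℕ, topologicalKrullDim ↥(f.fiber y) ≤ n := by
  choose d hd using fun p => Groth.L07.OpenEquiv.exists_nat_fibreDimAt f p
  have hc : IsCompact (f.base ⁻¹' {y}) := by
    rw [← f.range_fiberι y]
    haveI : CompactSpace ↥(f.fiber y) := QuasiCompact.compactSpace_of_compactSpace (f.fiberToSpecResidueField y)
    exact isCompact_range (f.fiberι y).continuous
  obtain ⟨t, ht⟩ := hc.elim_finite_subcover
    (fun n : ℕ => {p : X | FlatMor.fibreDimAt f p ≤ (n : WithBot ℕ∞)})
    (fun n => Groth.L07.FibreDim.isOpen_fibreDimAt_le f n) (fun p _ => Set.mem_iUnion.mpr ⟨d p, (hd p).le⟩)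
  refine ⟨t.sup id, (Groth.L07.FibreDim.fiber_dim_le_iff f y _).mpr fun p hp => ?_⟩
  obtain ⟨n, hn, hpn⟩ := Set.mem_iUnion₂.mp (ht hp)
  exact le_trans hpn (by exact_mod_cast (Finset.le_sup (f := id) hn : n ≤ t.sup id))

theorem nat_le_fiber_iff (f : X ⟶ Y) [LocallyOfFiniteType f] (y : Y) (d : ℕ) :
    (d : WithBot ℕ∞) ≤ topologicalKrullDim ↥(f.fiber y) ↔
      ∃ x, f x = y ∧ (d : WithBot ℕ∞) ≤ FlatMor.fibreDimAt f x := by
  constructor
  · intro hd
    rcases d with _ | d
    · have hne : Nonempty ↥(f.fiber y) := by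
        by_contra h
        rw [not_nonempty_iff] at h
        rw [Groth.L06.Dim.eq_bot, le_bot_iff] at hd
        exact WithBot.natCast_ne_bot 0 hd
      obtain ⟨c⟩ := hne
      obtain ⟨n, hn⟩ := Groth.L07.OpenEquiv.exists_nat_fibreDimAt f (f.fiberι y c)
      exact ⟨f.fiberι y c, Groth.L07.Equidim.apply_fiberι f y c, by rw [hn]; exact_mod_cast Nat.zero_le n⟩
    · by_contra hcon
      push Not at hcon
      have h1 : topologicalKrullDim ↥(f.fiber y) ≤ (d : WithBot ℕ∞) :=
        (Groth.L07.FibreDim.fiber_dim_le_iff f y _).mpr fun x hx => by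
          obtain ⟨n, hn⟩ := Groth.L07.OpenEquiv.exists_nat_fibreDimAt f x
          have h2 := hcon x hx
          rw [hn] at h2 ⊢
          have h3 : n < d + 1 := by exact_mod_cast h2
          exact_mod_cast (show n ≤ d by omega)
      have : d + 1 ≤ d := by exact_mod_cast hd.trans h1
      omega
  · rintro ⟨x, rfl, hx⟩
    exact hx.trans ((Groth.L07.FibreDim.fiber_dim_le_iff f (f x) _).mp le_rfl x rfl)

theorem isLocallyConstructible_closed [IsLocallyNoetherian X] {C : Set X} (hC : IsClosed C) :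
    IsLocallyConstructible C := by
  intro x
  obtain ⟨_, ⟨U, hU, rfl⟩, hxU, -⟩ := X.isBasis_affineOpens.exists_subset_of_mem_open (Set.mem_univ x) isOpen_univ
  haveI : IsNoetherianRing Γ(X, U) := IsLocallyNoetherian.component_noetherian ⟨U, hU⟩
  haveI : NoetherianSpace (U : Set X) := noetherianSpace_of_isAffineOpen U hU
  refine ⟨U, U.2.mem_nhds hxU, U.2, ?_⟩
  have h := (IsRetrocompact.isConstructible (hC.isOpen_compl.preimage (continuous_subtype_val (p := (· ∈ (U : Set X)))))
      (fun W _ _ => NoetherianSpace.isCompact _)).compl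
  simpa using h

theorem nhds_le [IsLocallyNoetherian Y] (f : X ⟶ Y) [LocallyOfFiniteType f] [QuasiCompact f] (y : Y) (d : ℕ)
    (h : ∀ z, z ⤳ y → (d : WithBot ℕ∞) ≤ topologicalKrullDim ↥(f.fiber z)) :
    {z | (d : WithBot ℕ∞) ≤ topologicalKrullDim ↥(f.fiber z)} ∈ 𝓝 y := by
  haveI : IsLocallyNoetherian X := LocallyOfFiniteType.isLocallyNoetherian f
  haveI : LocallyOfFinitePresentation f := LocallyOfFinitePresentation.iff_locallyOfFiniteType.mpr inferInstance
  have hclosed : IsClosed {x : X | (d : WithBot ℕ∞) ≤ FlatMor.fibreDimAt f x} := by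
    rcases d with _ | d
    · convert isClosed_univ
      ext x
      obtain ⟨n, hn⟩ := Groth.L07.OpenEquiv.exists_nat_fibreDimAt f x
      simp [hn]
    · have : {x : X | ((d + 1 : ℕ) : WithBot ℕ∞) ≤ FlatMor.fibreDimAt f x} =
          {x : X | FlatMor.fibreDimAt f x ≤ (d : WithBot ℕ∞)}ᶜ := by
        ext x
        obtain ⟨n, hn⟩ := Groth.L07.OpenEquiv.exists_nat_fibreDimAt f x
        simp only [Set.mem_ofPred_eq, Set.mem_compl_iff, hn]
        norm_cast
        omega
      rw [this]
      exact (Groth.L07.FibreDim.isOpen_fibreDimAt_le f d).isClosed_compl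
  have heq : {z | (d : WithBot ℕ∞) ≤ topologicalKrullDim ↥(f.fiber z)} =
      f.base '' {x : X | (d : WithBot ℕ∞) ≤ FlatMor.fibreDimAt f x} := by
    ext z
    rw [Set.mem_ofPred_eq, nat_le_fiber_iff]
    exact ⟨fun ⟨x, hx, hxd⟩ => ⟨x, hxd, hx⟩, fun ⟨x, hxd, hx⟩ => ⟨x, hx, hxd⟩⟩
  refine Groth.L07.Count.mem_nhds_of_isLocallyConstructible ?_ h
  rw [heq]
  exact f.isLocallyConstructible_image (isLocallyConstructible_closed hclosed)

theorem le_of_isOpenAt [IsLocallyNoetherian Y] (f : X ⟶ Y) [LocallyOfFiniteType f] {z y : Y} (hz : z ⤳ y)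
    (h : ∀ x, f x = y → EGA43.IsOpenAt f.base x) :
    topologicalKrullDim ↥(f.fiber y) ≤ topologicalKrullDim ↥(f.fiber z) := by
  rw [Groth.L07.FibreDim.fiber_dim_le_iff]
  rintro x rfl
  obtain ⟨w, -, hfw, hmax, hd⟩ := Groth.L07.OpenEquiv.exists_maximal_fdim_eq f x
  rw [← hd, Groth.L07.OpenFibreDim.fdim_eq_fibreDimAt f w hmax]
  refine (Groth.L07.OpenFibreDim.le_dim_fibre_of_isOpenAt f w hmax (h w hfw) ⊤ trivial (hfw ▸ hz)).trans ?_
  rw [dim_fiber]
  exact SchemeDim.topologicalKrullDim_mono Set.inter_subset_right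

/-- the lower half of local constancy -/
theorem nhds_dim_ge [IsLocallyNoetherian Y] (f : X ⟶ Y) [LocallyOfFiniteType f] [QuasiCompact f] (y : Y)
    (h : ∀ x, f x = y → EGA43.IsOpenAt f.base x) :
    {z | topologicalKrullDim ↥(f.fiber y) ≤ topologicalKrullDim ↥(f.fiber z)} ∈ 𝓝 y := by
  obtain ⟨n, hn⟩ := exists_bound f y
  rcases eq_or_ne (topologicalKrullDim ↥(f.fiber y)) ⊥ with hb | hb
  · simp [hb]
  · obtain ⟨e, he⟩ := WithBot.ne_bot_iff_exists.mp hb
    rw [← he] at hn ⊢
    obtain ⟨d, rfl⟩ : ∃ d : ℕ, (d : ℕ∞) = e := by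
      have hn' : e ≤ (n : ℕ∞) := WithBot.coe_le_coe.mp hn
      exact ⟨e.toNat, ENat.natCast_toNat (ne_top_of_le_ne_top (ENat.natCast_ne_top n) hn')⟩
    exact nhds_le f y d fun z hz => he.le.trans (le_of_isOpenAt f hz h)

end Groth.L06.FibreDimLocConst
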