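import Mathlib.RingTheory.Regular.RegularSequence
import Mathlib.RingTheory.Regular.IsSMulRegular

set_option autoImplicit false

/-!
Powers of regular sequences.
-/

namespace Groth.L06.RegularPow

open RingTheory.Sequence Pointwise

universe u

variable {R : Type u} [CommRing R]

theorem isWeaklyRegular_of_exact : ∀ (rs : List R) {A B C : Type u} [AddCommGroup A] [Module R A]
    [AddCommGroup B] [Module R B] [AddCommGroup C] [Module R C] (f : A →ₗ[R] B) (g : B →ₗ[R] C),
    Function.Injective f → Function.Exact f g → Function.Surjective g →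
    IsWeaklyRegular A rs → IsWeaklyRegular C rs → IsWeaklyRegular B rs
  | [], A, B, C, _, _, _, _, _, _, f, g, _, _, _, _, _ => IsWeaklyRegular.nil R B
  | r :: rs, A, B, C, _, _, _, _, _, _, f, g, hf, hfg, hg, hA, hC => by
    rw [isWeaklyRegular_cons_iff] at hA hC ⊢
    have hrB : IsSMulRegular B r := fun x y h => by
      have hgz : g (x - y) = 0 := by
        refine hC.1.right_eq_zero_of_smul ?_
        rw [← map_smul, smul_sub]; simp only at h; rw [h, sub_self, map_zero]
      obtain ⟨a, ha⟩ := (hfg _).mp hgz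
      have : a = 0 := hA.1.right_eq_zero_of_smul (hf (by
        rw [map_smul, ha, smul_sub, map_zero]; simp only at h; rw [h, sub_self]))
      rw [this, map_zero] at ha
      exact sub_eq_zero.mp ha.symm
    refine ⟨hrB, isWeaklyRegular_of_exact rs (QuotSMulTop.map r f) (QuotSMulTop.map r g) ?_
      (QuotSMulTop.map_exact r hfg hg) (QuotSMulTop.map_surjective r hg) hA.2 hC.2⟩
    rw [injective_iff_map_eq_zero]
    intro a ha
    obtain ⟨a, rfl⟩ := Submodule.mkQ_surjective _ a
    obtain ⟨b, -, hb⟩ := (Submodule.mem_smul_pointwise_iff_exists _ _ _).mp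
      ((Submodule.Quotient.mk_eq_zero _).mp ha)
    have hgb : g b = 0 := hC.1.right_eq_zero_of_smul (by
      rw [← map_smul, hb]; exact (hfg _).mpr ⟨a, rfl⟩)
    obtain ⟨a', rfl⟩ := (hfg _).mp hgb
    rw [← map_smul] at hb
    exact (Submodule.Quotient.mk_eq_zero _).mpr
      ((Submodule.mem_smul_pointwise_iff_exists _ _ _).mpr ⟨a', trivial, hf hb⟩)

theorem isWeaklyRegular_quot_pow {M : Type u} [AddCommGroup M] [Module R M] {r : R}
    (hr : IsSMulRegular M r) {rs : List R} (h : IsWeaklyRegular (QuotSMulTop r M) rs) :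
    ∀ v : ℕ, IsWeaklyRegular (QuotSMulTop (r ^ (v + 1)) M) rs
  | 0 => by rwa [pow_one]
  | v + 1 => by
    let f : QuotSMulTop r M →ₗ[R] QuotSMulTop (r ^ (v + 1 + 1)) M :=
      Submodule.mapQ _ _ (LinearMap.lsmul R M (r ^ (v + 1))) fun x hx => by
        obtain ⟨y, -, rfl⟩ := (Submodule.mem_smul_pointwise_iff_exists _ _ _).mp hx
        exact (Submodule.mem_smul_pointwise_iff_exists _ _ _).mpr
          ⟨y, trivial, by simp [smul_smul, pow_succ, mul_comm, mul_left_comm]⟩
    let g : QuotSMulTop (r ^ (v + 1 + 1)) M →ₗ[R] QuotSMulTop (r ^ (v + 1)) M :=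
      Submodule.mapQ _ _ LinearMap.id fun x hx => by
        obtain ⟨y, -, rfl⟩ := (Submodule.mem_smul_pointwise_iff_exists _ _ _).mp hx
        exact (Submodule.mem_smul_pointwise_iff_exists _ _ _).mpr
          ⟨r • y, trivial, by simp [smul_smul, pow_succ]⟩
    refine isWeaklyRegular_of_exact rs f g ?_ ?_ ?_ h (isWeaklyRegular_quot_pow hr h v)
    · rw [injective_iff_map_eq_zero]
      intro a ha
      obtain ⟨a, rfl⟩ := Submodule.mkQ_surjective _ a
      obtain ⟨y, -, hy⟩ := (Submodule.mem_smul_pointwise_iff_exists _ _ _).mp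
        ((Submodule.Quotient.mk_eq_zero _).mp ha)
      refine (Submodule.Quotient.mk_eq_zero _).mpr
        ((Submodule.mem_smul_pointwise_iff_exists _ _ _).mpr ⟨y, trivial, (hr.pow (v + 1)) ?_⟩)
      simpa [smul_smul, pow_succ] using hy
    · intro b
      obtain ⟨b, rfl⟩ := Submodule.mkQ_surjective _ b
      constructor
      · intro hb
        obtain ⟨y, -, hy⟩ := (Submodule.mem_smul_pointwise_iff_exists _ _ _).mp
          ((Submodule.Quotient.mk_eq_zero _).mp hb)
        exact ⟨Submodule.mkQ _ y, congrArg (Submodule.mkQ _) hy⟩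
      · rintro ⟨a, ha⟩
        obtain ⟨a, rfl⟩ := Submodule.mkQ_surjective _ a
        rw [← ha]
        exact (Submodule.Quotient.mk_eq_zero _).mpr
          ((Submodule.mem_smul_pointwise_iff_exists _ _ _).mpr ⟨a, trivial, rfl⟩)
    · intro b
      obtain ⟨b, rfl⟩ := Submodule.mkQ_surjective _ b
      exact ⟨Submodule.mkQ _ b, rfl⟩

theorem isWeaklyRegular_pow : ∀ (n : ℕ) {M : Type u} [AddCommGroup M] [Module R M]
    (f : Fin n → R) (v : Fin n → ℕ), (∀ i, 1 ≤ v i) → IsWeaklyRegular M (List.ofFn f) →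
    IsWeaklyRegular M (List.ofFn fun i => f i ^ v i)
  | 0, M, _, _, f, v, _, _ => by simp
  | n + 1, M, _, _, f, v, hv, h => by
    rw [List.ofFn_succ, isWeaklyRegular_cons_iff] at h ⊢
    refine ⟨h.1.pow _, ?_⟩
    obtain ⟨k, hk⟩ := Nat.exists_eq_add_of_le (hv 0)
    rw [hk, add_comm 1 k]
    exact isWeaklyRegular_quot_pow h.1 (isWeaklyRegular_pow n _ _ (fun i => hv i.succ) h.2) k

end Groth.L06.RegularPow
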