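import Groth.Agent.L06.FormSmoothPS
import Groth.Agent.L03.FieldFS
import Groth.Agent.L03.SepField
import Groth.Agent.L01.NagataCriteria
import Mathlib.RingTheory.Localization.LocalizationLocalization
import Mathlib.RingTheory.Localization.BaseChange

/-! Consequences of adic formal smoothness over a field. -/

set_option autoImplicit false
set_option maxSynthPendingDepth 3
set_option linter.style.haveILetI false
universe u

namespace Groth.L06.FormSmooth

open IsLocalRing
open scoped TensorProduct

theorem isRegularRing_of_isLocalization {R : Type u} [CommRing R] [IsRegularRing R] (M : Submonoid R) (S : Type u)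
    [CommRing S] [Algebra R S] [IsLocalization M S] : IsRegularRing S := by
  haveI : IsNoetherianRing S := IsLocalization.isNoetherianRing M S inferInstance
  refine isRegularRing_iff.2 fun p hp => ?_
  let q := p.comap (algebraMap R S)
  haveI : IsRegularLocalRing (Localization.AtPrime q) := IsRegularRing.isRegularLocalRing_localization q
  haveI : IsLocalization.AtPrime (Localization.AtPrime p) q :=
    IsLocalization.isLocalization_isLocalization_atPrime_isLocalization M (Localization.AtPrime p) p
  exact IsRegularLocalRing.of_ringEquiv
    (IsLocalization.algEquiv q.primeCompl (Localization.AtPrime q) (Localization.AtPrime p)).toRingEquiv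

theorem isGeometricallyRegular_of_isLocalization {k A : Type u} [Field k] [CommRing A] [Algebra k A]
    (h : CAlg.IsGeometricallyRegular k A) (M : Submonoid A) (S : Type u) [CommRing S] [Algebra A S] [Algebra k S]
    [IsScalarTower k A S] [IsLocalization M S] : CAlg.IsGeometricallyRegular k S := by
  intro k' _ _ hk'
  haveI := h k' hk'
  haveI : IsRegularRing (A ⊗[k] k') := IsRegularRing.of_ringEquiv (Algebra.TensorProduct.comm k k' A).toRingEquiv
  haveI : IsLocalization (Algebra.algebraMapSubmonoid (A ⊗[k] k') M) ((A ⊗[k] k') ⊗[A] S) :=
    IsLocalization.tensor (R := A) (S := A ⊗[k] k') S M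
  haveI := isRegularRing_of_isLocalization (Algebra.algebraMapSubmonoid (A ⊗[k] k') M) ((A ⊗[k] k') ⊗[A] S)
  exact IsRegularRing.of_ringEquiv (((Algebra.TensorProduct.comm A (A ⊗[k] k') S).toRingEquiv.trans
    (Algebra.TensorProduct.cancelBaseChange k A A S k').toRingEquiv).trans (Algebra.TensorProduct.comm k S k').toRingEquiv)

theorem formallySmooth_of_geometricallyReduced (k L : Type u) [Field k] [Field L] [Algebra k L]
    [Algebra.IsGeometricallyReduced k L] : Algebra.FormallySmooth k L :=
  Groth.L03.FieldFS.formallySmooth_of_forall_fg k L fun L₀ h => by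
    haveI : Algebra.EssFiniteType k L₀ := IntermediateField.essFiniteType_iff.2 h
    haveI : Algebra.IsGeometricallyReduced k L₀ :=
      Algebra.IsGeometricallyReduced.of_injective L₀.val L₀.val.injective
    exact Groth.L03.SepField.formallySmooth_of_essFiniteType k L₀

theorem injective_diffMap_zero (k A : Type u) [Field k] [CharZero k] [CommRing A] [IsLocalRing A] [IsNoetherianRing A]
    [Algebra k A] [IsRegularLocalRing A] : Function.Injective (diffMap k A) := by
  haveI : Algebra.FormallySmooth k (ResidueField A) := Groth.L03.FieldFS.formallySmooth_of_perfectField k _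
  exact injective_diffMap_of_adicSmooth adicSmooth_of_regular

theorem adicSmooth_iff_regular_injective (k A : Type u) [Field k] [CommRing A] [IsLocalRing A] [IsNoetherianRing A]
    [Algebra k A] : CAlgX.IsAdicFormallySmooth k A (maximalIdeal A) ↔
      (IsRegularLocalRing A ∧ Function.Injective (diffMap k A)) := by
  refine ⟨fun h => ⟨regular_of_adicSmooth_field h, injective_diffMap_of_adicSmooth h⟩, fun ⟨h1, h2⟩ => ?_⟩
  haveI := formallySmooth_bot_field k (ResidueField A)
  exact adicSmooth_of_injective_diffMap adicSmooth_of_regular h2

end Groth.L06.FormSmooth
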