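import Groth.Agent.L04.FibreDepth
import Groth.Agent.L04.Depth2
import Groth.Agent.L04.CMLoc
import Groth.Prelude.Def_EGA4b
import Mathlib.RingTheory.LocalRing.ResidueField.Fiber
import Mathlib.RingTheory.TensorProduct.Quotient
import Mathlib.RingTheory.Flat.Stability
import Mathlib.RingTheory.Flat.FaithfullyFlat.Algebra
import Mathlib.RingTheory.RingHom.Flat
import Mathlib.RingTheory.Ideal.KrullsHeightTheorem

/-! Dimension and depth along flat local homomorphisms; ascent and descent of `(S_k)`. -/

set_option autoImplicit false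
set_option linter.style.haveILetI false
universe u

namespace Groth.L06.FlatFibre

open IsLocalRing TensorProduct RingTheory.Sequence

theorem depth_eq_of_ringEquiv {R R' : Type u} [CommRing R] [IsLocalRing R] [IsNoetherianRing R]
    [CommRing R'] [IsLocalRing R'] (e : R ≃+* R') : LocCoh.depth R' R' = LocCoh.depth R R := by
  letI : Algebra R R' := (e : R →+* R').toAlgebra
  haveI : Module.Finite R R' := Module.Finite.of_surjective (Algebra.linearMap R R') e.surjective
  let el : R ≃ₗ[R] R' := LinearEquiv.ofBijective (Algebra.linearMap R R') e.bijective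
  have h := Groth.L04.idealDepth_eq_idealDepth_map_of_finite (B := R') (maximalIdeal R) R'
  rw [LocCoh.depth, LocCoh.depth, Groth.L04.idealDepth_congr el, h]
  congr 1
  exact (Ideal.map_eq_top_or_isMaximal_of_surjective (algebraMap R R') e.surjective
    (maximalIdeal.isMaximal R)).elim (fun h => absurd h (by
      intro h1
      have : maximalIdeal R = ⊤ := by
        rw [← Ideal.comap_map_of_bijective (e : R →+* R') e.bijective (I := maximalIdeal R),
          show (maximalIdeal R).map (e : R →+* R') = ⊤ from h1, Ideal.comap_top]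
      exact (maximalIdeal.isMaximal R).ne_top this))
    (fun h => (IsLocalRing.eq_maximalIdeal h).symm)

section Local

variable (A B : Type u) [CommRing A] [IsLocalRing A] [IsNoetherianRing A] [CommRing B]
  [IsLocalRing B] [IsNoetherianRing B] [Algebra A B] [IsLocalHom (algebraMap A B)]

omit [IsNoetherianRing A] [IsNoetherianRing B] in
theorem map_maximalIdeal_fibRing :
    (maximalIdeal B).map (Ideal.Quotient.mk (EGA4.mB A B)) = maximalIdeal (EGA4.FibRing A B) := by
  refine (Ideal.map_eq_top_or_isMaximal_of_surjective _ Ideal.Quotient.mk_surjective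
    (maximalIdeal.isMaximal B)).elim (fun h => ?_) (fun h => IsLocalRing.eq_maximalIdeal h)
  have := congrArg (Ideal.comap (Ideal.Quotient.mk (EGA4.mB A B))) h
  rw [Ideal.comap_map_of_surjective _ Ideal.Quotient.mk_surjective, ← RingHom.ker_eq_comap_bot,
    Ideal.mk_ker, Ideal.comap_top] at this
  exact absurd (top_le_iff.mp (this.ge.trans (sup_le le_rfl (IsLocalRing.map_maximalIdeal_le _))))
    (maximalIdeal.isMaximal B).ne_top

theorem depth_fibRing_eq : LocCoh.idealDepth (maximalIdeal B) (EGA4.FibRing A B) =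
    LocCoh.depth (EGA4.FibRing A B) (EGA4.FibRing A B) := by
  rw [Groth.L04.idealDepth_eq_idealDepth_map_of_finite (B := EGA4.FibRing A B) (maximalIdeal B),
    LocCoh.depth, ← map_maximalIdeal_fibRing A B]
  rfl

variable [Module.Flat A B]

theorem ringKrullDim_eq :
    ringKrullDim B = ringKrullDim A + ringKrullDim (EGA4.FibRing A B) := by
  haveI : (maximalIdeal B).LiesOver (maximalIdeal A) := ⟨(IsLocalRing.maximalIdeal_comap (algebraMap A B)).symm⟩
  have h := Ideal.height_eq_height_add_of_liesOver_of_hasGoingDown (maximalIdeal A) (maximalIdeal B)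
  rw [map_maximalIdeal_fibRing A B] at h
  rw [← maximalIdeal_height_eq_ringKrullDim, ← maximalIdeal_height_eq_ringKrullDim,
    ← maximalIdeal_height_eq_ringKrullDim, h, WithBot.coe_add]

theorem depth_add_le :
    LocCoh.depth A A + LocCoh.depth (EGA4.FibRing A B) (EGA4.FibRing A B) ≤ LocCoh.depth B B := by
  have hne : maximalIdeal A • (⊤ : Submodule A A) ≠ ⊤ :=
    Groth.L04.smul_top_ne_top_of_nontrivial (maximalIdeal.isMaximal A).ne_top
  obtain ⟨n, hn⟩ := ENat.ne_top_iff_exists.mp (Groth.L04.idealDepth_ne_top hne)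
  obtain ⟨rs, hlen, hrs, hI⟩ := Groth.L04.exists_of_le_idealDepth hne hn.le
  let a := Ideal.ofList rs
  have ha : a ≤ maximalIdeal A := Ideal.span_le.mpr fun r hr => hI r hr
  let A' := A ⧸ a
  let J := a.map (algebraMap A B)
  have hJ : J ≤ maximalIdeal B :=
    (Ideal.map_mono ha).trans (IsLocalRing.map_maximalIdeal_le _)
  let B' := B ⧸ J
  haveI : Nontrivial A' := Ideal.Quotient.nontrivial_iff.mpr (ne_top_of_le_ne_top (maximalIdeal.isMaximal A).ne_top ha)
  haveI : Nontrivial B' := Ideal.Quotient.nontrivial_iff.mpr (ne_top_of_le_ne_top (maximalIdeal.isMaximal B).ne_top hJ)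
  haveI : IsLocalRing A' := IsLocalRing.of_surjective' _ Ideal.Quotient.mk_surjective
  haveI : IsLocalRing B' := IsLocalRing.of_surjective' _ Ideal.Quotient.mk_surjective
  haveI : IsLocalHom (Ideal.Quotient.mk J) := IsLocalHom.of_surjective _ Ideal.Quotient.mk_surjective
  letI : Algebra A' B' := (Ideal.quotientMap J (algebraMap A B) Ideal.le_comap_map).toAlgebra
  haveI : IsScalarTower A A' B' := IsScalarTower.of_algebraMap_eq fun x => rfl
  haveI : IsLocalHom (algebraMap A' B') := ⟨fun x hx => by
    obtain ⟨x, rfl⟩ := Ideal.Quotient.mk_surjective x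
    exact (IsUnit.of_map (algebraMap A B) _ (IsUnit.of_map (Ideal.Quotient.mk J) _ hx)).map _⟩
  haveI : Module.Flat A' B' := by
    let e1 : B' ≃ₗ[A] (A' ⊗[A] B) :=
      ((Algebra.TensorProduct.quotIdealMapEquivTensorQuot B a).toLinearEquiv.restrictScalars A).trans
        (TensorProduct.comm A B A')
    let e2 : B' ≃ₗ[A'] (A' ⊗[A] B) :=
      { __ := e1
        map_smul' := fun c x => by
          obtain ⟨c, rfl⟩ := Ideal.Quotient.mk_surjective c
          have h1 : ∀ y : B', (Ideal.Quotient.mk a c : A') • y = c • y := fun y => algebraMap_smul A' c y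
          have h2 : ∀ y : A' ⊗[A] B, (Ideal.Quotient.mk a c : A') • y = c • y := fun y => algebraMap_smul A' c y
          show e1 _ = _
          rw [h1, RingHom.id_apply, h2]
          exact e1.map_smul c x }
    exact Module.Flat.of_linearEquiv e2
  -- regular sequence in `B`
  have hrsB : IsWeaklyRegular B (rs.map (algebraMap A B)) := hrs.of_flat
  have hrsI : ∀ r ∈ rs.map (algebraMap A B), r ∈ maximalIdeal B := fun r hr => by
    obtain ⟨x, hx, rfl⟩ := List.mem_map.mp hr
    exact IsLocalRing.map_maximalIdeal_le (algebraMap A B) (Ideal.mem_map_of_mem _ (hI x hx))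
  refine ENat.forall_natCast_le_iff_le.1 fun t ht => ?_
  rw [LocCoh.depth, ← hn] at ht
  rcases le_or_gt t n with h | h
  · have := Groth.L04.length_le_idealDepth hrsB hrsI
    rw [List.length_map, hlen] at this
    exact le_trans (by exact_mod_cast h) this
  obtain ⟨s, rfl⟩ : ∃ s, t = s + n := ⟨t - n, by omega⟩
  have hs : (s : ℕ∞) ≤ LocCoh.depth (EGA4.FibRing A B) (EGA4.FibRing A B) := by
    rw [add_comm (n : ℕ∞), Nat.cast_add] at ht
    exact (WithTop.add_le_add_iff_right (ENat.natCast_ne_top n)).mp ht
  have hs' : (s : ℕ∞) ≤ LocCoh.idealDepth (maximalIdeal B) B' := by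
    let K' := (maximalIdeal A').map (algebraMap A' B')
    have hK : K'.comap (Ideal.Quotient.mk J) = EGA4.mB A B := by
      have hm : maximalIdeal A' = (maximalIdeal A).map (Ideal.Quotient.mk a) :=
        ((Ideal.map_eq_top_or_isMaximal_of_surjective _ Ideal.Quotient.mk_surjective
          (maximalIdeal.isMaximal A)).elim (fun h => by
            have := congrArg (Ideal.comap (Ideal.Quotient.mk a)) h
            rw [Ideal.comap_map_of_surjective _ Ideal.Quotient.mk_surjective, ← RingHom.ker_eq_comap_bot,
              Ideal.mk_ker, Ideal.comap_top, sup_eq_left.mpr ha] at this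
            exact absurd this (maximalIdeal.isMaximal A).ne_top) (fun h => (IsLocalRing.eq_maximalIdeal h).symm))
      have : K' = ((maximalIdeal A).map (algebraMap A B)).map (Ideal.Quotient.mk J) := by
        show (maximalIdeal A').map (algebraMap A' B') = _
        rw [hm, Ideal.map_map, Ideal.map_map]; rfl
      rw [this, Ideal.comap_map_of_surjective _ Ideal.Quotient.mk_surjective, ← RingHom.ker_eq_comap_bot,
        Ideal.mk_ker, sup_eq_left]
      exact Ideal.map_mono ha
    have hnt : K' ≠ ⊤ := fun h0 => by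
      rw [h0, Ideal.comap_top] at hK
      exact (maximalIdeal.isMaximal B).ne_top (top_le_iff.mp (hK.le.trans (IsLocalRing.map_maximalIdeal_le _)))
    let e : (B' ⧸ K') ≃ₗ[B] EGA4.FibRing A B :=
      ((LinearEquiv.ofBijective
        (Submodule.mapQ (EGA4.mB A B) (K'.restrictScalars B) (Algebra.linearMap B B') (le_of_eq hK.symm))
        ⟨by
          rw [← LinearMap.ker_eq_bot, Submodule.ker_mapQ, ← Submodule.mkQ_map_self (EGA4.mB A B)]
          congr 1, fun z => by
          obtain ⟨z, rfl⟩ := Submodule.Quotient.mk_surjective _ z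
          obtain ⟨z, rfl⟩ := Ideal.Quotient.mk_surjective z
          exact ⟨Submodule.Quotient.mk z, rfl⟩⟩).symm)
    have h1 := Groth.L04.idealDepth_fibre_le (R := A') (S := B') (I := maximalIdeal B')
      (maximalIdeal.isMaximal B').ne_top
    have hmap : (maximalIdeal B).map (algebraMap B B') = maximalIdeal B' := by
      refine ((Ideal.map_eq_top_or_isMaximal_of_surjective _ Ideal.Quotient.mk_surjective
        (maximalIdeal.isMaximal B)).elim (fun h => ?_) (fun h => IsLocalRing.eq_maximalIdeal h))
      have := congrArg (Ideal.comap (Ideal.Quotient.mk J)) h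
      rw [Ideal.comap_map_of_surjective _ Ideal.Quotient.mk_surjective, ← RingHom.ker_eq_comap_bot,
        Ideal.mk_ker, Ideal.comap_top, sup_eq_left.mpr hJ] at this
      exact absurd this (maximalIdeal.isMaximal B).ne_top
    rw [← hmap, ← Groth.L04.idealDepth_eq_idealDepth_map_of_finite (B := B') (maximalIdeal B),
      ← Groth.L04.idealDepth_eq_idealDepth_map_of_finite (B := B') (maximalIdeal B),
      Groth.L04.idealDepth_congr e, depth_fibRing_eq] at h1
    exact hs.trans h1
  have hJ' : Ideal.ofList (rs.map (algebraMap A B)) • (⊤ : Submodule B B) = J := by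
    rw [← Ideal.map_ofList, smul_eq_mul, Ideal.mul_top]
  rw [← Groth.L04.idealDepth_congr (Submodule.quotEquivOfEq _ _ hJ'),
    Groth.L04.le_idealDepth_quotient_iff hrsB hrsI, List.length_map, hlen] at hs'
  exact hs'

theorem depth_eq_of_fibre_depth_zero (h : LocCoh.depth (EGA4.FibRing A B) (EGA4.FibRing A B) = 0) :
    LocCoh.depth B B = LocCoh.depth A A := by
  haveI : Module.FaithfullyFlat A B := Module.FaithfullyFlat.of_flat_of_isLocalHom
  have hne : maximalIdeal A • (⊤ : Submodule A A) ≠ ⊤ :=
    Groth.L04.smul_top_ne_top_of_nontrivial (maximalIdeal.isMaximal A).ne_top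
  obtain ⟨rs, -, hrs, hI, z, hz0, hz⟩ := Groth.L04.exists_maximal_regular hne (IsWeaklyRegular.nil A A) (by simp)
  have hdA : LocCoh.depth A A = rs.length := Groth.L04.idealDepth_eq_length hrs hI hz0 hz
  obtain ⟨m, rfl⟩ := Submodule.mkQ_surjective _ z
  -- an element of the fibre killed by the maximal ideal
  obtain ⟨w, hw0, hw⟩ : ∃ w : EGA4.FibRing A B, w ≠ 0 ∧ ∀ b ∈ maximalIdeal B, b • w = 0 := by
    rcases Groth.L04.exists_regular_or_killed (maximalIdeal B) (EGA4.FibRing A B) with ⟨r, hr, hreg⟩ | hk
    · exfalso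
      have := Groth.L04.one_le_idealDepth_of_regular hr hreg
      rw [depth_fibRing_eq, h] at this
      exact absurd this (by simp)
    · exact hk
  obtain ⟨w, rfl⟩ := Ideal.Quotient.mk_surjective w
  let J := (Ideal.ofList rs).map (algebraMap A B)
  have hm0 : m ∉ Ideal.ofList rs := fun hm => hz0 ((Submodule.Quotient.mk_eq_zero _).mpr (by
    rw [smul_eq_mul, Ideal.mul_top]; exact hm))
  have hrsI : ∀ r ∈ rs.map (algebraMap A B), r ∈ maximalIdeal B := fun r hr => by
    obtain ⟨x, hx, rfl⟩ := List.mem_map.mp hr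
    exact IsLocalRing.map_maximalIdeal_le (algebraMap A B) (Ideal.mem_map_of_mem _ (hI x hx))
  have hJ' : Ideal.ofList (rs.map (algebraMap A B)) • (⊤ : Submodule B B) = J := by
    rw [← Ideal.map_ofList, smul_eq_mul, Ideal.mul_top]
  have hcolon : ∀ a : A, a * m ∈ Ideal.ofList rs → a ∈ maximalIdeal A := fun a ha => by
    intro hu
    exact hm0 (by simpa [← mul_assoc, hu.val_inv_mul] using Ideal.mul_mem_left _ (↑hu.unit⁻¹ : A) ha)
  have hkill : ∀ a ∈ maximalIdeal A, a * m ∈ Ideal.ofList rs := fun a ha => by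
    have := hz a ha
    rwa [← map_smul, Submodule.mkQ_apply, Submodule.Quotient.mk_eq_zero, smul_eq_mul, smul_eq_mul,
      Ideal.mul_top] at this
  -- `z := m ⊗ w`
  have hz1 : algebraMap A B m * w ∉ J := by
    intro hmem
    refine hw0 (Ideal.Quotient.eq_zero_iff_mem.mpr ?_)
    let g : A →ₗ[A] A ⧸ Ideal.ofList rs := (Submodule.mkQ (Ideal.ofList rs)).comp (LinearMap.mulRight A m)
    have hg : LinearMap.ker g = maximalIdeal A := le_antisymm
      (fun a ha => hcolon a (Ideal.Quotient.eq_zero_iff_mem.mp (LinearMap.mem_ker.mp ha)))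
      (fun a ha => LinearMap.mem_ker.mpr (Ideal.Quotient.eq_zero_iff_mem.mpr (hkill a ha)))
    let g' : (A ⧸ maximalIdeal A) →ₗ[A] A ⧸ Ideal.ofList rs := Submodule.liftQ _ g hg.ge
    have hg' : Function.Injective g' := by
      rw [← LinearMap.ker_eq_bot, Submodule.ker_liftQ, hg, Submodule.mkQ_map_self]
    have hinj := Module.Flat.lTensor_preserves_injective_linearMap (M := B) g' hg'
    let e := Algebra.TensorProduct.quotIdealMapEquivTensorQuot B (maximalIdeal A)
    let e' := Algebra.TensorProduct.quotIdealMapEquivTensorQuot B (Ideal.ofList rs)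
    have he : ∀ (I : Ideal A) (b : B), Algebra.TensorProduct.quotIdealMapEquivTensorQuot B I (Ideal.Quotient.mk _ b) =
        b ⊗ₜ[A] (1 : A ⧸ I) := fun I b => by
      rw [← Ideal.Quotient.algebraMap_eq, AlgEquiv.commutes, Algebra.TensorProduct.algebraMap_apply,
        Algebra.algebraMap_self, RingHom.id_apply]
    have h1 : g'.lTensor B (w ⊗ₜ[A] (1 : A ⧸ maximalIdeal A)) = 0 := by
      rw [LinearMap.lTensor_tmul]
      show w ⊗ₜ[A] (Submodule.Quotient.mk (1 * m) : A ⧸ Ideal.ofList rs) = 0
      rw [one_mul, show (Submodule.Quotient.mk m : A ⧸ Ideal.ofList rs) = m • (1 : A ⧸ Ideal.ofList rs) by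
        rw [Algebra.smul_def, mul_one]; rfl, ← TensorProduct.smul_tmul, Algebra.smul_def, ← he,
        Ideal.Quotient.eq_zero_iff_mem.mpr hmem, map_zero]
    have h2 := hinj (h1.trans (map_zero _).symm)
    rw [← he] at h2
    exact Ideal.Quotient.eq_zero_iff_mem.mp ((map_eq_zero_iff _ e.injective).mp h2)
  rw [hdA, LocCoh.depth, ← List.length_map (f := algebraMap A B)]
  refine Groth.L04.idealDepth_eq_length hrs.of_flat hrsI
    (z := Submodule.Quotient.mk (algebraMap A B m * w)) ?_ ?_
  · rw [Ne, Submodule.Quotient.mk_eq_zero, hJ']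
    exact hz1
  · intro b hb
    rw [← Submodule.Quotient.mk_smul, Submodule.Quotient.mk_eq_zero, hJ', smul_eq_mul]
    have hbw : b * w ∈ EGA4.mB A B := Ideal.Quotient.eq_zero_iff_mem.mp (hw b hb)
    have : EGA4.mB A B ≤ Submodule.comap (LinearMap.mulLeft B (algebraMap A B m)) J := by
      rw [Ideal.map_le_iff_le_comap]
      intro a ha
      show algebraMap A B m * algebraMap A B a ∈ J
      rw [← map_mul, mul_comm]
      exact Ideal.mem_map_of_mem _ (hkill a ha)
    have h3 : algebraMap A B m * (b * w) ∈ J := this hbw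
    rwa [mul_left_comm]

end Local

section Global

theorem hasSk_self_iff {R : Type u} [CommRing R] (k : ℕ) : LocCoh.HasSk k R R ↔
    ∀ (p : Ideal R) [p.IsPrime], min (k : WithBot ℕ∞) (ringKrullDim (Localization.AtPrime p)) ≤
      ((LocCoh.depth (Localization.AtPrime p) (Localization.AtPrime p) : ℕ∞) : WithBot ℕ∞) := by
  refine forall_congr' fun p => forall_congr' fun _ => ?_
  rw [Groth.L04.depth_localizedModule_self, Module.supportDim_eq_of_equiv (Groth.L04.localizedModuleSelfEquiv p),
    Module.supportDim_self_eq_ringKrullDim]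

variable {R S : Type u} [CommRing R] [CommRing S] [Algebra R S]

/-- the local homomorphism `R_p → S_P` with its fibre -/
theorem exists_local_fibre [Module.Flat R S] (p : Ideal R) [p.IsPrime] (P : Ideal S) [P.IsPrime] [P.LiesOver p] :
    ∃ (_ : Algebra (Localization.AtPrime p) (Localization.AtPrime P))
      (_ : IsLocalHom (algebraMap (Localization.AtPrime p) (Localization.AtPrime P))),
      Module.Flat (Localization.AtPrime p) (Localization.AtPrime P) ∧
      ∃ (q : Ideal (p.Fiber S)) (_ : q.IsPrime),
        Nonempty (Localization.AtPrime q ≃+*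
          EGA4.FibRing (Localization.AtPrime p) (Localization.AtPrime P)) := by
  obtain ⟨q, hq⟩ : ∃ q : PrimeSpectrum (p.Fiber S),
      q.asIdeal.comap Algebra.TensorProduct.includeRight = P := by
    refine ⟨PrimeSpectrum.preimageEquivFiber R S ⟨p, inferInstance⟩
      ⟨⟨P, inferInstance⟩, PrimeSpectrum.ext (P.over_def p).symm⟩, ?_⟩
    have := (PrimeSpectrum.preimageEquivFiber R S ⟨p, inferInstance⟩).symm_apply_apply
      ⟨⟨P, inferInstance⟩, PrimeSpectrum.ext (P.over_def p).symm⟩
    exact congrArg (fun z => z.1.asIdeal) this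
  subst hq
  let g := Localization.localRingHom p (q.asIdeal.comap Algebra.TensorProduct.includeRight)
    (algebraMap R S) (Ideal.over_def _ p)
  letI := g.toAlgebra
  haveI : IsLocalHom (algebraMap (Localization.AtPrime p)
      (Localization.AtPrime (q.asIdeal.comap (Algebra.TensorProduct.includeRight (R := R) (A := p.ResidueField) (B := S))))) :=
    Localization.isLocalHom_localRingHom _ _ _ _
  haveI : Localization.AtPrime.IsLiesOverAlgebra p
      (q.asIdeal.comap (Algebra.TensorProduct.includeRight (R := R) (A := p.ResidueField) (B := S))) := ⟨rfl⟩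
  refine ⟨g.toAlgebra, inferInstance,
    RingHom.Flat.localRingHom (RingHom.flat_algebraMap_iff.mpr inferInstance) _ p (Ideal.over_def _ p),
    q.asIdeal, q.isPrime, ⟨((Ideal.Fiber.localizationAlgEquivQuotient p q.asIdeal).toRingEquiv).trans
      (Ideal.quotEquivOfEq ?_)⟩⟩
  show _ = (maximalIdeal (Localization.AtPrime p)).map _
  rw [← Localization.AtPrime.map_eq_maximalIdeal, Ideal.map_map]
  congr 1
  exact RingHom.ext fun r => (Localization.localRingHom_to_map p _ (algebraMap R S) (Ideal.over_def _ p) r).symm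

variable [IsNoetherianRing R] [IsNoetherianRing S]

theorem hasSk_of_flat [Module.Flat R S] (k : ℕ) (hR : LocCoh.HasSk k R R)
    (hfib : ∀ (p : Ideal R) [p.IsPrime], LocCoh.HasSk k (p.Fiber S) (p.Fiber S)) :
    LocCoh.HasSk k S S := by
  rw [hasSk_self_iff] at hR ⊢
  intro P _
  obtain ⟨i, hl, hf, q, hq, ⟨e⟩⟩ := exists_local_fibre (P.comap (algebraMap R S)) P (S := S)
  letI := i
  haveI := hl
  haveI := hf
  have h1 := (hasSk_self_iff k).mp (hfib _) q
  haveI : IsNoetherianRing (Localization.AtPrime q) := isNoetherianRing_of_ringEquiv _ e.symm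
  rw [ringKrullDim_eq_of_ringEquiv e, ← depth_eq_of_ringEquiv e] at h1
  have h2 := hR (P.comap (algebraMap R S))
  rw [ringKrullDim_eq (Localization.AtPrime (P.comap (algebraMap R S))) (Localization.AtPrime P)]
  refine le_trans ?_ (WithBot.coe_le_coe.mpr
    (depth_add_le (Localization.AtPrime (P.comap (algebraMap R S))) (Localization.AtPrime P)))
  rw [WithBot.coe_add]
  refine le_trans ?_ (add_le_add h2 h1)
  have hd1 : (0 : WithBot ℕ∞) ≤ ringKrullDim (Localization.AtPrime (P.comap (algebraMap R S))) :=
    ringKrullDim_nonneg_of_nontrivial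
  have hd2 : (0 : WithBot ℕ∞) ≤ ringKrullDim (EGA4.FibRing (Localization.AtPrime (P.comap (algebraMap R S))) (Localization.AtPrime P)) :=
    ringKrullDim_nonneg_of_nontrivial
  have hk : (0 : WithBot ℕ∞) ≤ (k : WithBot ℕ∞) := Nat.cast_nonneg k
  rcases le_total (k : WithBot ℕ∞) (ringKrullDim (Localization.AtPrime (P.comap (algebraMap R S)))) with ha | ha
  · rw [min_eq_left ha]
    exact (min_le_left _ _).trans (le_add_of_nonneg_right (le_min hk hd2))
  · rw [min_eq_right ha]
    rcases le_total (k : WithBot ℕ∞) (ringKrullDim (EGA4.FibRing (Localization.AtPrime (P.comap (algebraMap R S))) (Localization.AtPrime P))) with hb | hb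
    · rw [min_eq_left hb]
      exact (min_le_left _ _).trans (le_add_of_nonneg_left hd1)
    · rw [min_eq_right hb]
      exact min_le_right _ _

theorem hasSk_base_of_faithfullyFlat [Module.FaithfullyFlat R S] (k : ℕ) (hS : LocCoh.HasSk k S S) :
    LocCoh.HasSk k R R := by
  rw [hasSk_self_iff] at hS ⊢
  intro p _
  obtain ⟨⟨Q, hQ⟩, hQp⟩ := PrimeSpectrum.comap_surjective_of_faithfullyFlat (A := R) (B := S) ⟨p, ‹_›⟩
  have hQp' : Q.comap (algebraMap R S) = p := congrArg PrimeSpectrum.asIdeal hQp
  haveI : Q.IsPrime := hQ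
  obtain ⟨P, hP, hPQ⟩ := Ideal.exists_minimalPrimes_le (I := p.map (algebraMap R S)) (J := Q)
    (Ideal.map_le_iff_le_comap.mpr hQp'.ge)
  haveI : P.IsPrime := hP.1.1
  haveI : P.LiesOver p := ⟨le_antisymm (Ideal.map_le_iff_le_comap.mp hP.1.2) ((Ideal.comap_mono hPQ).trans hQp'.le)⟩
  have hmin : ∀ P' : Ideal S, P'.IsPrime → P' ≤ P → P'.LiesOver p → P' = P := fun P' h1 h2 h3 =>
    le_antisymm h2 (hP.2 ⟨h1, Ideal.map_le_iff_le_comap.mpr (P'.over_def p).le⟩ h2)
  obtain ⟨i, hl, hf, q, hq, ⟨e⟩⟩ := exists_local_fibre p P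
  letI := i
  haveI := hl
  haveI := hf
  have hd : ringKrullDim (EGA4.FibRing (Localization.AtPrime p) (Localization.AtPrime P)) ≤ 0 := by
    haveI : (maximalIdeal (Localization.AtPrime P)).LiesOver (maximalIdeal (Localization.AtPrime p)) :=
      ⟨(IsLocalRing.maximalIdeal_comap (algebraMap (Localization.AtPrime p) (Localization.AtPrime P))).symm⟩
    have h1 := ringKrullDim_eq (Localization.AtPrime p) (Localization.AtPrime P)
    have h2 : P.height = p.height := by
      haveI : (P.map (Ideal.Quotient.mk (p.map (algebraMap R S)))).IsPrime :=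
        Ideal.map_isPrime_of_surjective Ideal.Quotient.mk_surjective (by rw [Ideal.mk_ker]; exact hP.1.2)
      rw [Ideal.height_eq_height_add_of_liesOver_of_hasGoingDown p P,
        (Ideal.height_eq_zero_iff (I := P.map (Ideal.Quotient.mk (p.map (algebraMap R S))))).mpr,
        add_zero]
      show _ ∈ (⊥ : Ideal _).minimalPrimes
      rw [← Ideal.map_bot (f := Ideal.Quotient.mk (p.map (algebraMap R S))),
        Ideal.minimalPrimes_map_of_surjective Ideal.Quotient.mk_surjective]
      exact ⟨P, by simpa [Ideal.mk_ker] using hP, rfl⟩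
    rw [IsLocalization.AtPrime.ringKrullDim_eq_height P, IsLocalization.AtPrime.ringKrullDim_eq_height p, h2] at h1
    obtain ⟨d, hd⟩ := WithBot.ne_bot_iff_exists.mp (ne_of_gt (lt_of_lt_of_le (WithBot.bot_lt_coe 0)
      (ringKrullDim_nonneg_of_nontrivial (R := EGA4.FibRing (Localization.AtPrime p) (Localization.AtPrime P)))))
    rw [← hd, ← WithBot.coe_add, WithBot.coe_inj] at h1
    rw [← hd]
    have hfin : p.height ≠ ⊤ := Ideal.height_ne_top (Ideal.IsPrime.ne_top inferInstance)
    exact WithBot.coe_le_coe.mpr ((ENat.add_le_add_iff_left hfin).mp (h1.ge.trans_eq (add_zero _).symm))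
  have h0 : LocCoh.depth (EGA4.FibRing (Localization.AtPrime p) (Localization.AtPrime P))
      (EGA4.FibRing (Localization.AtPrime p) (Localization.AtPrime P)) = 0 := by
    have := Groth.L04.depth_le_supportDim
      (R := EGA4.FibRing (Localization.AtPrime p) (Localization.AtPrime P))
      (M := EGA4.FibRing (Localization.AtPrime p) (Localization.AtPrime P))
    rw [Module.supportDim_self_eq_ringKrullDim] at this
    exact le_antisymm (WithBot.coe_le_coe.mp (this.trans hd)) zero_le
  have h1 := hS P
  rw [depth_eq_of_fibre_depth_zero (Localization.AtPrime p) (Localization.AtPrime P) h0,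
    ringKrullDim_eq (Localization.AtPrime p) (Localization.AtPrime P),
    le_antisymm hd ringKrullDim_nonneg_of_nontrivial, add_zero] at h1
  exact h1

end Global

end Groth.L06.FlatFibre
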