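import Groth.Agent.L06.FibreDimLocConst
import Groth.Agent.L03.FibreLocalDim
import Groth.Agent.L23.LocalDimEtale
import Mathlib.AlgebraicGeometry.Morphisms.FinitePresentation

/-! Constructibility of the level sets of the fibre dimension. -/

set_option autoImplicit false
set_option maxSynthPendingDepth 3
set_option linter.style.haveILetI false
set_option backward.isDefEq.respectTransparency.types false
set_option backward.isDefEq.respectTransparency false

universe u

open CategoryTheory AlgebraicGeometry TopologicalSpace Topology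

namespace Groth.L06.FibreDimCons

variable {X Y : Scheme.{u}} (f : X ⟶ Y)

theorem lc_compl {Z : Type u} [TopologicalSpace Z] {s : Set Z} (hs : IsLocallyConstructible s) :
    IsLocallyConstructible sᶜ := fun x => by
  obtain ⟨U, hU, hUo, h⟩ := hs x
  exact ⟨U, hU, hUo, by simpa using h.compl⟩

theorem isLocallyConstructible_le [LocallyOfFinitePresentation f] (n : ℕ) :
    IsLocallyConstructible {x : X | FlatMor.fibreDimAt f x ≤ (n : WithBot ℕ∞)} := by
  intro x
  obtain ⟨V, hV, hxV, -⟩ := exists_isAffineOpen_mem_and_subset (U := ⊤) (x := f x) trivial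
  obtain ⟨U, hU, hxU, hUV⟩ := exists_isAffineOpen_mem_and_subset (U := f ⁻¹ᵁ V) (x := x) hxV
  have e : U ≤ f ⁻¹ᵁ V := hUV
  refine ⟨U, U.2.mem_nhds hxU, U.2, ?_⟩
  let A : Set X := {x : X | FlatMor.fibreDimAt f x ≤ (n : WithBot ℕ∞)}
  have hA : IsOpen A := Groth.L07.FibreDim.isOpen_fibreDimAt_le f n
  have hfp : (f.appLE V U e).hom.FinitePresentation :=
    HasRingHomProperty.appLE @LocallyOfFinitePresentation f ‹_› ⟨V, hV⟩ ⟨U, hU⟩ e
  algebraize [(f.appLE V U e).hom]
  have hcpt := Groth.L03.FibreLocalDim.isCompact_setOf (R := Γ(Y, V)) (S := Γ(X, U)) n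
  have key : ∀ q, FlatMor.fibreDimAt (Groth.L03.FibreLocalDim.f Γ(Y, V) Γ(X, U)) q =
      FlatMor.fibreDimAt f (hU.fromSpec q) := fun q => by
    rw [← Groth.L23.fibreDimAt_etale_comp hU.fromSpec f q,
      ← Groth.L23.fibreDimAt_comp_etale (Groth.L03.FibreLocalDim.f Γ(Y, V) Γ(X, U)) hV.fromSpec q]
    congr 1
    exact hV.SpecMap_appLE_fromSpec f hU e
  have himg : hU.fromSpec '' {q | FlatMor.fibreDimAt (Groth.L03.FibreLocalDim.f Γ(Y, V) Γ(X, U)) q ≤ n} =
      (U : Set X) ∩ A := by
    ext y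
    constructor
    · rintro ⟨q, hq, rfl⟩
      refine ⟨hU.range_fromSpec ▸ Set.mem_range_self q, ?_⟩
      simp only [A, Set.mem_setOf_eq] at hq ⊢
      rw [← key]
      exact hq
    · rintro ⟨hyU, hy⟩
      obtain ⟨q, rfl⟩ : y ∈ Set.range hU.fromSpec := by rw [hU.range_fromSpec]; exact hyU
      refine ⟨q, ?_, rfl⟩
      simp only [A, Set.mem_setOf_eq] at hy ⊢
      rw [key]
      exact hy
  have hc : IsCompact ((U : Set X) ∩ A) := himg ▸ hcpt.image hU.fromSpec.continuous
  haveI : CompactSpace (U : Set X) := isCompact_iff_compactSpace.mp hU.isCompact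
  haveI : QuasiSeparatedSpace (U : Set X) := (isQuasiSeparated_iff_quasiSeparatedSpace _ U.2).mp hU.isQuasiSeparated
  have hc' : IsCompact ((Subtype.val ⁻¹' A) : Set (U : Set X)) := by
    rw [Subtype.isCompact_iff, Subtype.image_preimage_coe]
    exact hc
  exact (IsCompact.isRetrocompact hc' (hA.preimage continuous_subtype_val)).isConstructible
    (hA.preimage continuous_subtype_val)

theorem isLocallyConstructible_ge [LocallyOfFinitePresentation f] (n : ℕ) :
    IsLocallyConstructible {x : X | (n : WithBot ℕ∞) ≤ FlatMor.fibreDimAt f x} := by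
  rcases n with _ | n
  · convert IsLocallyConstructible.univ (X := X) using 1
    ext x
    obtain ⟨d, hd⟩ := Groth.L07.OpenEquiv.exists_nat_fibreDimAt f x
    simp [hd]
  · convert lc_compl (isLocallyConstructible_le f n) using 1
    ext x
    obtain ⟨d, hd⟩ := Groth.L07.OpenEquiv.exists_nat_fibreDimAt f x
    simp only [Set.mem_setOf_eq, Set.mem_compl_iff, hd, Nat.cast_le, not_le]
    exact Iff.rfl

theorem isLocallyConstructible_fibre_ge [LocallyOfFinitePresentation f] [QuasiCompact f] (n : ℕ) :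
    IsLocallyConstructible {y : Y | (n : WithBot ℕ∞) ≤ topologicalKrullDim ↥(f.fiber y)} := by
  convert f.isLocallyConstructible_image (isLocallyConstructible_ge f n) using 1
  ext y
  show _ ↔ y ∈ f '' _
  rw [Set.mem_setOf_eq, Groth.L06.FibreDimLocConst.nat_le_fiber_iff]
  exact ⟨fun ⟨x, h1, h2⟩ => ⟨x, h2, h1⟩, fun ⟨x, h1, h2⟩ => ⟨x, h2, h1⟩⟩

theorem isLocallyConstructible_fibre_eq [LocallyOfFinitePresentation f] [QuasiCompact f] (n : WithBot ℕ∞) :
    IsLocallyConstructible {y : Y | topologicalKrullDim ↥(f.fiber y) = n} := by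
  rcases eq_or_ne n ⊥ with rfl | hn
  · convert lc_compl (isLocallyConstructible_fibre_ge f 0) using 1
    ext y
    simp only [Set.mem_setOf_eq, Set.mem_compl_iff, Nat.cast_zero]
    refine ⟨fun h => by rw [h]; simp, fun h => ?_⟩
    by_contra hne
    obtain ⟨a, ha⟩ := WithBot.ne_bot_iff_exists.mp hne
    exact h (ha ▸ WithBot.coe_le_coe.mpr bot_le)
  obtain ⟨a, rfl⟩ := WithBot.ne_bot_iff_exists.mp hn
  rcases eq_or_ne a ⊤ with rfl | ha
  · convert IsLocallyConstructible.empty (X := Y) using 1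
    refine Set.eq_empty_of_forall_notMem fun y hy => ?_
    obtain ⟨m, hm⟩ := Groth.L06.FibreDimLocConst.exists_bound f y
    rw [hy] at hm
    exact absurd (WithBot.coe_le_coe.mp hm) (by simp)
  obtain ⟨d, rfl⟩ := ENat.ne_top_iff_exists.mp ha
  convert (isLocallyConstructible_fibre_ge f d).inter (lc_compl (isLocallyConstructible_fibre_ge f (d + 1))) using 1
  ext y
  simp only [Set.mem_inter_iff, Set.mem_compl_iff, Set.mem_setOf_eq]
  obtain ⟨m, hm⟩ := Groth.L06.FibreDimLocConst.exists_bound f y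
  refine ⟨fun h => ?_, fun ⟨h1, h2⟩ => ?_⟩
  · rw [h]
    refine ⟨le_refl _, fun h' => ?_⟩
    have : ((d + 1 : ℕ) : ℕ∞) ≤ (d : ℕ∞) := WithBot.coe_le_coe.mp h'
    exact absurd (by exact_mod_cast this : d + 1 ≤ d) (by omega)
  · obtain ⟨b, hb⟩ := WithBot.ne_bot_iff_exists.mp (fun hbot => by rw [hbot] at h1; exact absurd (le_bot_iff.mp h1) (by simp) :
      topologicalKrullDim ↥(f.fiber y) ≠ ⊥)
    rw [← hb] at hm h1 h2 ⊢
    have hb' : b ≠ ⊤ := fun h => by subst h; exact absurd (WithBot.coe_le_coe.mp hm) (by simp)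
    obtain ⟨c, rfl⟩ := ENat.ne_top_iff_exists.mp hb'
    have e1 : d ≤ c := by exact_mod_cast (WithBot.coe_le_coe.mp h1)
    have e2 : ¬ d + 1 ≤ c := fun h => h2 (WithBot.coe_le_coe.mpr (by exact_mod_cast h))
    have : c = d := by omega
    rw [this]

end Groth.L06.FibreDimCons
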