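import Groth.Agent.L19.Limit.CC
import Groth.Agent.L06.Constr
import Mathlib.AlgebraicGeometry.Morphisms.QuasiCompact
import Mathlib.AlgebraicGeometry.Morphisms.FinitePresentation

set_option autoImplicit false
set_option linter.style.haveILetI false

/-!
Pro- and ind-constructible subsets of schemes: characterisation by the constructible topology on
affine opens, and images.
-/

universe u

open CategoryTheory AlgebraicGeometry Topology TopologicalSpace Set
open Groth.L19.Limit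

namespace Groth.L06.ProCons

local notation "cons" => constructibleTopology

/-- In a spectral space a constructibly open set is a union of constructible sets. -/
theorem exists_isConstructible_subset {S : Type*} [TopologicalSpace S] [SpectralSpace S] {s : Set S}
    (hs : IsOpen[cons S] s) {x : S} (hx : x ∈ s) :
    ∃ T : Set S, IsConstructible T ∧ x ∈ T ∧ T ⊆ s := by
  have hb := @isTopologicalBasis_of_subbasis S (cons S) (constructibleTopologySubbasis S) rfl
  obtain ⟨T, ⟨G, ⟨hGf, hG⟩, rfl⟩, hxT, hTs⟩ :=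
    @IsTopologicalBasis.exists_subset_of_mem_open S (cons S) _ hb _ _ hx hs
  refine ⟨⋂₀ G, IsConstructible.sInter hGf fun t ht => ?_, hxT, hTs⟩
  rcases hG ht with ⟨h1, h2⟩ | ⟨h1, h2⟩
  · exact h2.isConstructible h1
  · simpa using (h2.isConstructible h1.isOpen_compl).compl

theorem eq_sUnion_of_isOpen_cons {S : Type*} [TopologicalSpace S] [SpectralSpace S] {s : Set S}
    (hs : IsOpen[cons S] s) : s = ⋃₀ {T | IsConstructible T ∧ T ⊆ s} := by
  refine subset_antisymm (fun x hx => ?_) (sUnion_subset fun T hT => hT.2)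
  obtain ⟨T, h1, h2, h3⟩ := exists_isConstructible_subset hs hx
  exact ⟨T, ⟨h1, h3⟩, h2⟩

variable {X Y : Scheme.{u}}

theorem isIndConstructible_iff_cc_compl {E : Set X} : ProCons.IsIndConstructible E ↔ CC Eᶜ := by
  refine ⟨cc_compl_of_isIndConstructible, fun h x => ?_⟩
  obtain ⟨_, ⟨(U : X.Opens), hU, rfl⟩, hxU, -⟩ :=
    X.isBasis_affineOpens.exists_subset_of_mem_open (mem_univ x) isOpen_univ
  haveI := spectralSpace_opens hU
  have ho : IsOpen[cons (U : Scheme.{u})] (U.ι ⁻¹' E) :=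
    (@isClosed_compl_iff _ (cons (U : Scheme.{u})) _).mp (h U hU)
  exact ⟨(U : Set X), U.2, hxU, {T : Set (U : Scheme.{u}) | IsConstructible T ∧ T ⊆ U.ι ⁻¹' E},
    fun T hT => hT.1.isLocallyConstructible, eq_sUnion_of_isOpen_cons (S := (U : Scheme.{u})) ho⟩

theorem isProConstructible_iff_cc {E : Set X} : ProCons.IsProConstructible E ↔ CC E := by
  refine ⟨cc_of_isProConstructible, fun h x => ?_⟩
  obtain ⟨_, ⟨(U : X.Opens), hU, rfl⟩, hxU, -⟩ :=
    X.isBasis_affineOpens.exists_subset_of_mem_open (mem_univ x) isOpen_univ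
  haveI := spectralSpace_opens hU
  have ho : IsOpen[cons (U : Scheme.{u})] (U.ι ⁻¹' E)ᶜ :=
    @IsClosed.isOpen_compl _ (cons (U : Scheme.{u})) _ (h U hU)
  refine ⟨(U : Set X), U.2, hxU,
    compl '' {T : Set (U : Scheme.{u}) | IsConstructible T ∧ T ⊆ (U.ι ⁻¹' E)ᶜ},
    fun T hT => ?_, ?_⟩
  · obtain ⟨T, hT, rfl⟩ := hT
    exact hT.1.compl.isLocallyConstructible
  · have := congrArg compl (eq_sUnion_of_isOpen_cons (S := (U : Scheme.{u})) ho)
    rw [compl_compl, compl_sUnion] at this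
    exact this

theorem isLocallyConstructible_iff_cc {E : Set X} :
    IsLocallyConstructible E ↔ CC E ∧ CC Eᶜ := by
  refine ⟨fun h => ⟨cc_of_isLocallyConstructible h, cc_compl_of_isLocallyConstructible h⟩,
    fun ⟨h1, h2⟩ x => ?_⟩
  obtain ⟨_, ⟨(U : X.Opens), hU, rfl⟩, hxU, -⟩ :=
    X.isBasis_affineOpens.exists_subset_of_mem_open (mem_univ x) isOpen_univ
  haveI := spectralSpace_opens hU
  exact ⟨(U : Set X), U.2.mem_nhds hxU, U.2, Groth.L06.Spectral.isConstructible_of_isClopen_cons (X := (U : Scheme.{u}))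
    ⟨h1 U hU, (@isClosed_compl_iff _ (cons (U : Scheme.{u})) _).mp (h2 U hU)⟩⟩

theorem isIndConstructible_iff_compl {E : Set X} :
    ProCons.IsIndConstructible E ↔ ProCons.IsProConstructible Eᶜ := by
  rw [isIndConstructible_iff_cc_compl, isProConstructible_iff_cc]

/-- The image of a constructibly closed set under a quasi-compact morphism. -/
theorem cc_image (f : X ⟶ Y) [QuasiCompact f] {C : Set X} (hC : CC C) : CC (f '' C) := by
  intro V hV
  have hW : ∀ x : (f ⁻¹ᵁ V : X.Opens),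
      ∃ W : X.Opens, IsAffineOpen W ∧ x.1 ∈ W ∧ W ≤ f ⁻¹ᵁ V := fun x => by
    obtain ⟨_, ⟨(W : X.Opens), hW, rfl⟩, hxW, hWV⟩ :=
      X.isBasis_affineOpens.exists_subset_of_mem_open x.2 (f ⁻¹ᵁ V).2
    exact ⟨W, hW, hxW, hWV⟩
  choose W hW hxW hWV using hW
  obtain ⟨t, ht⟩ := (f.isCompact_preimage hV.isCompact).elim_finite_subcover
    (fun x : (f ⁻¹ᵁ V : X.Opens) => (W x : Set X)) (fun x => (W x).2)
    fun x hx => mem_iUnion.mpr ⟨⟨x, hx⟩, hxW ⟨x, hx⟩⟩
  have he : ∀ (x : (f ⁻¹ᵁ V : X.Opens)) (w : (W x : Scheme.{u})),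
      V.ι (f.resLE V (W x) (hWV x) w) = f ((W x).ι w) := fun x w => by
    simp only [← Scheme.Hom.comp_apply, Scheme.Hom.resLE_comp_ι]
  have e : (V.ι ⁻¹' (f '' C) : Set (V : Scheme.{u})) =
      ⋃ x ∈ t, f.resLE V (W x) (hWV x) '' ((W x).ι ⁻¹' C) := by
    ext z
    simp only [mem_iUnion, mem_image, mem_preimage]
    refine ⟨fun ⟨c, hc, hcz⟩ => ?_, ?_⟩
    · have hcV : c ∈ f ⁻¹ᵁ V := show f c ∈ V by rw [hcz]; exact z.2
      obtain ⟨x, hxt, hcx⟩ := mem_iUnion₂.mp (ht hcV)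
      exact ⟨x, hxt, ⟨c, hcx⟩, hc, V.ι.isOpenEmbedding.injective ((he x ⟨c, hcx⟩).trans hcz)⟩
    · rintro ⟨x, _, w, hw, rfl⟩
      exact ⟨_, hw, (he x w).symm⟩
  rw [e]
  refine @Set.Finite.isClosed_biUnion _ _ (cons (V : Scheme.{u})) _ _ t.finite_toSet fun x _ => ?_
  haveI : IsAffine (V : Scheme.{u}) := hV
  haveI : IsAffine (W x : Scheme.{u}) := hW x
  haveI := spectralSpace_opens hV
  haveI := spectralSpace_opens (hW x)
  exact Groth.L06.Spectral.isClosed_cons_image (f.resLE V (W x) (hWV x)).isSpectralMap (hC _ (hW x))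

instance resLE_locallyOfFinitePresentation (f : X ⟶ Y) [LocallyOfFinitePresentation f]
    (V : Y.Opens) (W : X.Opens) (h : W ≤ f ⁻¹ᵁ V) :
    LocallyOfFinitePresentation (f.resLE V W h) := by
  haveI : LocallyOfFinitePresentation (f ∣_ V) :=
    MorphismProperty.of_isPullback (P := @LocallyOfFinitePresentation)
      (isPullback_morphismRestrict f V).flip inferInstance
  rw [Scheme.Hom.resLE]
  infer_instance

/-- The image of a constructibly open set under a morphism locally of finite presentation. -/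
theorem cc_compl_image (f : X ⟶ Y) [LocallyOfFinitePresentation f] {C : Set X} (hC : CC Cᶜ) :
    CC (f '' C)ᶜ := by
  intro V hV
  rw [preimage_compl]
  haveI : IsAffine (V : Scheme.{u}) := hV
  haveI := spectralSpace_opens hV
  refine @IsOpen.isClosed_compl _ (cons (V : Scheme.{u})) _ ?_
  refine (@isOpen_iff_forall_mem_open _ (cons (V : Scheme.{u})) _).mpr fun z hz => ?_
  obtain ⟨c, hc, hcz⟩ := hz
  have hcV : c ∈ f ⁻¹ᵁ V := show f c ∈ V by rw [hcz]; exact z.2
  obtain ⟨_, ⟨(W : X.Opens), hW, rfl⟩, hcW, hWV'⟩ :=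
    X.isBasis_affineOpens.exists_subset_of_mem_open hcV (f ⁻¹ᵁ V).2
  have hWV : W ≤ f ⁻¹ᵁ V := hWV'
  haveI : IsAffine (W : Scheme.{u}) := hW
  haveI := spectralSpace_opens hW
  obtain ⟨T, hT, hcT, hTC⟩ := exists_isConstructible_subset
    (s := (W.ι ⁻¹' C : Set (W : Scheme.{u})))
    ((@isClosed_compl_iff _ (cons (W : Scheme.{u})) _).mp (hC W hW)) (x := (⟨c, hcW⟩ : W))
    hc
  have he : ∀ w : (W : Scheme.{u}), V.ι (f.resLE V W hWV w) = f (W.ι w) := fun w => by
    simp only [← Scheme.Hom.comp_apply, Scheme.Hom.resLE_comp_ι]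
  refine ⟨f.resLE V W hWV '' T, ?_, (Groth.L06.Spectral.isClopen_cons_of_isConstructible
    ((f.resLE V W hWV).isConstructible_image hT)).2, ⟨_, hcT, ?_⟩⟩
  · rintro _ ⟨w, hw, rfl⟩
    exact ⟨W.ι w, hTC hw, (he w).symm⟩
  · exact V.ι.isOpenEmbedding.injective ((he ⟨c, hcW⟩).trans hcz)

/-- A point is interior to an ind-constructible set iff all its generizations are in it. -/
theorem mem_interior_iff {E : Set X} (hE : CC Eᶜ) (x : X) :
    x ∈ interior E ↔ ∀ x' : X, x' ⤳ x → x' ∈ E := by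
  refine ⟨fun h x' hx' => interior_subset (hx'.mem_open isOpen_interior h), fun h => ?_⟩
  by_contra hx
  rw [← mem_compl_iff, ← closure_compl] at hx
  obtain ⟨e, he, hex⟩ := hE.exists_specializes_of_mem_closure hx
  exact he (h e hex)

/-- Finite intersection property. -/
theorem exists_finset_iInter_subset [CompactSpace X] {E : Set X} (hE : CC Eᶜ) {ι : Type*}
    (F : ι → Set X) (hF : ∀ i, CC (F i)) (h : ⋂ i, F i ⊆ E) :
    ∃ J : Finset ι, ⋂ i ∈ J, F i ⊆ E := by
  classical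
  have hloc : ∀ x : X, ∃ (U : X.Opens) (J : Finset ι), x ∈ U ∧ (⋂ i ∈ J, F i) ∩ U ⊆ E := fun x => by
    obtain ⟨_, ⟨(U : X.Opens), hU, rfl⟩, hxU, -⟩ :=
      X.isBasis_affineOpens.exists_subset_of_mem_open (mem_univ x) isOpen_univ
    haveI := spectralSpace_opens hU
    haveI := Groth.L06.Spectral.compactSpace_cons (X := (U : Scheme.{u}))
    obtain ⟨J, hJ⟩ := @IsCompact.elim_finite_subfamily_closed _ (cons (U : Scheme.{u})) _ _
      (@IsClosed.isCompact _ (cons (U : Scheme.{u})) _ _ (hE U hU)) (fun i => U.ι ⁻¹' F i)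
      (fun i => hF i U hU) (by
        rw [← preimage_iInter, ← preimage_inter, eq_empty_iff_forall_notMem]
        exact fun z hz => hz.1 (h hz.2))
    refine ⟨U, J, hxU, fun z hz => by_contra fun hzE => ?_⟩
    have : (⟨z, hz.2⟩ : U) ∈ (U.ι ⁻¹' Eᶜ : Set (U : Scheme.{u})) ∩ ⋂ i ∈ J, U.ι ⁻¹' F i :=
      ⟨hzE, mem_iInter₂.mpr fun i hi => mem_iInter₂.mp hz.1 i hi⟩
    rw [hJ] at this
    exact this
  choose U J hxU hJ using hloc
  obtain ⟨t, ht⟩ := isCompact_univ.elim_finite_subcover (fun x => (U x : Set X)) (fun x => (U x).2)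
    fun x _ => mem_iUnion.mpr ⟨x, hxU x⟩
  refine ⟨t.biUnion J, fun z hz => ?_⟩
  obtain ⟨x, hxt, hzx⟩ := mem_iUnion₂.mp (ht (mem_univ z))
  refine hJ x ⟨mem_iInter₂.mpr fun i hi => mem_iInter₂.mp hz i (Finset.mem_biUnion.mpr ⟨x, hxt, hi⟩), hzx⟩

end Groth.L06.ProCons
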