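import Groth.Agent.L06.Spectral
import Mathlib.Topology.Category.TopCat.Limits.Basic
import Mathlib.CategoryTheory.Filtered.Basic
import Mathlib.CategoryTheory.Limits.Types.Limits

set_option autoImplicit false

/-!
Limits of spectral spaces along spectral maps.
-/

universe u

namespace Groth.L06.Spectral

open Topology TopologicalSpace Set CategoryTheory CategoryTheory.Limits

variable {J : Type u} [SmallCategory J] (F : J ⥤ TopCat.{u})
  (hF : ∀ j, SpectralSpace (F.obj j))
  (hFm : ∀ {i j : J} (a : i ⟶ j), IsSpectralMap (F.map a : F.obj i → F.obj j))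

local notation "cons" => constructibleTopology

/-- Compatible families. -/
def sectionSet : Set (∀ j, F.obj j) := {x | ∀ ⦃i j : J⦄ (a : i ⟶ j), F.map a (x i) = x j}

/-- The product of the constructible topologies. -/
@[reducible] def piCons : TopologicalSpace (∀ j, F.obj j) :=
  @Pi.topologicalSpace J (fun j => F.obj j) (fun j => constructibleTopology (F.obj j))

include hF in
theorem continuous_apply_piCons (j : J) :
    @Continuous _ _ (piCons F) (cons (F.obj j)) (fun x => x j) :=
  @continuous_apply J (fun j => F.obj j) (fun j => cons (F.obj j)) j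

include hF in
theorem compactSpace_piCons : @CompactSpace _ (piCons F) :=
  @Pi.compactSpace J (fun j => F.obj j) (fun j => cons (F.obj j))
    (fun j => have := hF j; compactSpace_cons)

include hF hFm in
theorem isClosed_arrow {i j : J} (a : i ⟶ j) :
    @IsClosed _ (piCons F) {x | F.map a (x i) = x j} := by
  have := hF i; have := hF j
  exact @isClosed_eq (F.obj j) (∀ j, F.obj j) (cons (F.obj j)) (piCons F) t2Space_cons _ _
    (@Continuous.comp _ _ _ (piCons F) (cons (F.obj i)) (cons (F.obj j)) _ _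
      (continuous_cons (hFm a)) (continuous_apply_piCons F hF i))
    (continuous_apply_piCons F hF j)

include hF hFm in
theorem isClosed_sectionSet : @IsClosed _ (piCons F) (sectionSet F) := by
  simp only [sectionSet, setOf_forall]
  exact @isClosed_iInter _ _ (piCons F) _ fun i => @isClosed_iInter _ _ (piCons F) _ fun j =>
    @isClosed_iInter _ _ (piCons F) _ fun a => isClosed_arrow F hF hFm a

include hF hFm in
/-- A compatible family through prescribed constructibly closed sets. -/
theorem exists_section [IsCofiltered J] (Z : ∀ j, Set (F.obj j))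
    (hZ : ∀ j, IsClosed[cons (F.obj j)] (Z j))
    (h : ∀ (O : Finset J) (k : J) (T : ∀ j ∈ O, k ⟶ j),
      ∃ z : F.obj k, ∀ j (hj : j ∈ O), F.map (T j hj) z ∈ Z j) :
    ∃ x ∈ sectionSet F, ∀ j, x j ∈ Z j := by
  classical
  let C : Option (Σ i j : J, i ⟶ j) ⊕ J → Set (∀ j, F.obj j) :=
    Sum.elim (fun o => o.elim univ fun a => {x | F.map a.2.2 (x a.1) = x a.2.1})
      (fun j => {x | x j ∈ Z j})
  have hcl : ∀ o, @IsClosed _ (piCons F) (C o) := by
    rintro ((_ | a) | j)
    · exact @isClosed_univ _ (piCons F)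
    · exact isClosed_arrow F hF hFm a.2.2
    · exact @IsClosed.preimage _ _ (piCons F) (cons (F.obj j)) _ (continuous_apply_piCons F hF j) _ (hZ j)
  have hne : ∀ j, (Z j).Nonempty := fun j => by
    obtain ⟨z, hz⟩ := h {j} j (fun i hi => eqToHom (Finset.mem_singleton.mp hi).symm)
    exact ⟨_, hz j (Finset.mem_singleton_self j)⟩
  have : (⋂ o, C o).Nonempty := by
    by_contra hc
    rw [not_nonempty_iff_eq_empty] at hc
    obtain ⟨G, hG⟩ := @IsCompact.elim_finite_subfamily_closed _ (piCons F) univ _
      (@isCompact_univ _ (piCons F) (compactSpace_piCons F hF)) C hcl (by rw [univ_inter, hc])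
    rw [univ_inter] at hG
    let arr : Finset (Σ i j : J, i ⟶ j) := G.toLeft.eraseNone
    let O : Finset J := G.toRight ∪ arr.image (fun a => a.1) ∪ arr.image (fun a => a.2.1)
    have hs : ∀ a ∈ arr, a.1 ∈ O := fun a ha =>
      Finset.mem_union_left _ (Finset.mem_union_right _ (Finset.mem_image_of_mem _ ha))
    have ht : ∀ a ∈ arr, a.2.1 ∈ O := fun a ha =>
      Finset.mem_union_right _ (Finset.mem_image_of_mem _ ha)
    let H : Finset (Σ' (X Y : J) (_ : X ∈ O) (_ : Y ∈ O), X ⟶ Y) :=
      arr.attach.image fun a => ⟨a.1.1, a.1.2.1, hs _ a.2, ht _ a.2, a.1.2.2⟩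
    obtain ⟨k, T, hT⟩ := IsCofiltered.inf_exists O H
    obtain ⟨z, hz⟩ := h O k (fun j hj => T hj)
    refine Nonempty.ne_empty ⟨fun j => if hj : j ∈ O then F.map (T hj) z else (hne j).some, ?_⟩ hG
    simp only [mem_iInter]
    rintro ((_ | a) | j) ho
    · exact mem_univ _
    · have ha : a ∈ arr := Finset.mem_eraseNone.mpr (Finset.mem_toLeft.mpr ho)
      show F.map a.2.2 _ = _
      dsimp only
      rw [dif_pos (hs a ha), dif_pos (ht a ha), ← hT (hs a ha) (ht a ha) (f := a.2.2)
        (Finset.mem_image.mpr ⟨⟨a, ha⟩, Finset.mem_attach _ _, rfl⟩), F.map_comp]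
      rfl
    · have hj : j ∈ O :=
        Finset.mem_union_left _ (Finset.mem_union_left _ (Finset.mem_toRight.mpr ho))
      show _ ∈ Z j
      dsimp only
      rw [dif_pos hj]
      exact hz j hj
  obtain ⟨x, hx⟩ := this
  rw [mem_iInter] at hx
  exact ⟨x, fun i j a => hx (Sum.inl (some ⟨i, j, a⟩)), fun j => hx (Sum.inr j)⟩

variable (c : Cone F) (hc : IsLimit c)

/-- The canonical map to the product. -/
def toPi (x : c.pt) : ∀ j, F.obj j := fun j => c.π.app j x

include hc in
theorem exists_of_mem_sectionSet {s : ∀ j, F.obj j} (hs : s ∈ sectionSet F) :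
    ∃ x : c.pt, toPi F c x = s := by
  let hc' := isLimitOfPreserves (forget TopCat) hc
  refine ⟨(Types.isLimitEquivSections hc').symm ⟨s, fun {i j} a => hs a⟩, funext fun j => ?_⟩
  exact Types.isLimitEquivSections_symm_apply hc' _ j

theorem toPi_mem (x : c.pt) : toPi F c x ∈ sectionSet F := fun i j a => by
  show F.map a (c.π.app i x) = c.π.app j x
  rw [← c.w a]; rfl

include hc in
theorem toPi_injective : Function.Injective (toPi F c) := fun x y h => by
  let hc' := isLimitOfPreserves (forget TopCat) hc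
  exact (Types.isLimitEquivSections hc').injective (Subtype.ext (funext fun j => congrFun h j))

include hc in
theorem range_toPi : range (toPi F c) = sectionSet F :=
  subset_antisymm (by rintro _ ⟨x, rfl⟩; exact toPi_mem F c x)
    (fun _ hs => exists_of_mem_sectionSet F c hc hs)

/-- The topology induced by the constructible topologies. -/
@[reducible] def consLim : TopologicalSpace c.pt :=
  TopologicalSpace.induced (toPi F c) (piCons F)

include hF hFm hc in
theorem compactSpace_consLim : @CompactSpace c.pt (consLim F c) := by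
  refine @CompactSpace.mk _ (consLim F c) ?_
  rw [@IsInducing.isCompact_iff _ _ (consLim F c) (piCons F) _ _ (@IsInducing.mk _ _ (consLim F c) (piCons F) _ rfl)]
  rw [image_univ, range_toPi F c hc]
  exact @IsClosed.isCompact _ (piCons F) _ (compactSpace_piCons F hF) (isClosed_sectionSet F hF hFm)

include hF in
theorem continuous_proj_consLim (j : J) :
    @Continuous c.pt _ (consLim F c) (cons (F.obj j)) (c.π.app j) :=
  @Continuous.comp _ _ _ (consLim F c) (piCons F) (cons (F.obj j)) _ _
    (continuous_apply_piCons F hF j) continuous_induced_dom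

/-- Preimages of compact opens generate the topology of the limit. -/
def limSubbasis : Set (Set c.pt) :=
  ⋃ j, Set.preimage (c.π.app j) '' {U : Set (F.obj j) | IsOpen U ∧ IsCompact U}

include hF hc in
theorem eq_generateFrom_limSubbasis : c.pt.str = generateFrom (limSubbasis F c) := by
  rw [TopCat.induced_of_isLimit c hc, limSubbasis, generateFrom_iUnion]
  refine iInf_congr fun j => ?_
  have := hF j
  rw [← induced_generateFrom_eq, ← PrespectralSpace.isTopologicalBasis.eq_generateFrom]

include hF hFm hc in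
theorem t0Space_limit : T0Space c.pt := ⟨fun x y h => toPi_injective F c hc (funext fun j =>
  have := hF j; (h.map (c.π.app j).hom.continuous).eq)⟩

include hF hFm hc in
theorem spectralSpace_limit : SpectralSpace c.pt :=
  @spectralSpace_of_finer_compact c.pt c.pt.str (t0Space_limit F hF hFm c hc) (consLim F c)
    (compactSpace_consLim F hF hFm c hc) (limSubbasis F c) (eq_generateFrom_limSubbasis F hF c hc)
    (by
      rintro s hs
      simp only [limSubbasis, mem_iUnion] at hs
      obtain ⟨j, U, ⟨h1, h2⟩, rfl⟩ := hs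
      have := hF j
      exact @IsClopen.preimage c.pt _ (consLim F c) (cons (F.obj j)) _ (isClopen_cons h1 h2) _
        (continuous_proj_consLim F hF c j))

include hF hc in
theorem consLim_le : consLim F c ≤ c.pt.str := by
  rw [TopCat.induced_of_isLimit c hc, le_iInf_iff]
  intro j
  have := hF j
  exact (continuous_iff_le_induced.mp (continuous_proj_consLim F hF c j)).trans (induced_mono cons_le)

include hF hFm hc in
theorem consLim_eq : consLim F c = cons c.pt := by
  have := spectralSpace_limit F hF hFm c hc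
  refine @eq_cons_of_finer_compact c.pt c.pt.str this (consLim F c)
    (compactSpace_consLim F hF hFm c hc) fun U hU hUc => ?_
  have hb := @isTopologicalBasis_of_subbasis c.pt c.pt.str _ (eq_generateFrom_limSubbasis F hF c hc)
  refine ⟨?_, consLim_le F hF c hc U hU⟩
  obtain ⟨S, hS, rfl⟩ := @IsTopologicalBasis.open_eq_sUnion c.pt c.pt.str _ hb _ hU
  rw [sUnion_eq_iUnion] at hUc ⊢
  obtain ⟨G, hG⟩ := @IsCompact.elim_finite_subcover c.pt c.pt.str _ _ hUc (fun i : S => (i : Set c.pt))
    (fun i => @IsTopologicalBasis.isOpen c.pt c.pt.str _ _ hb (hS i.2)) (subset_refl _)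
  rw [show (⋃ i : S, (i : Set c.pt)) = ⋃ i ∈ (G : Set S), (i : Set c.pt) from
    subset_antisymm hG (iUnion₂_subset fun i _ => subset_iUnion (fun i : S => (i : Set c.pt)) i)]
  refine @Set.Finite.isClosed_biUnion _ _ (consLim F c) _ _ G.finite_toSet fun i _ => ?_
  obtain ⟨g, ⟨hgf, hg⟩, hgi⟩ := hS i.2
  rw [← hgi]
  refine @isClosed_sInter _ (consLim F c) _ fun s hs => ?_
  have hs' := hg hs
  simp only [limSubbasis, mem_iUnion] at hs'
  obtain ⟨j, V, ⟨h1, h2⟩, rfl⟩ := hs'
  have := hF j
  exact @IsClosed.preimage _ _ (consLim F c) (cons (F.obj j)) _ (continuous_proj_consLim F hF c j)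
    _ (isClopen_cons h1 h2).1

include hF hFm hc in
theorem isSpectralMap_proj (j : J) : IsSpectralMap (c.π.app j : c.pt → F.obj j) := by
  have h0 := spectralSpace_limit F hF hFm c hc
  have := hF j
  exact @isSpectralMap_of_continuous_cons c.pt (F.obj j) _ _ h0 this _
    (c.π.app j).hom.continuous
    (consLim_eq F hF hFm c hc ▸ continuous_proj_consLim F hF c j)

include hF hFm hc in
theorem exists_preimage_eq_empty [IsCofiltered J] {i : J} {C : Set (F.obj i)}
    (hC : IsClosed[cons (F.obj i)] C) (h : c.π.app i ⁻¹' C = ∅) :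
    ∃ (j : J) (a : j ⟶ i), F.map a ⁻¹' C = ∅ := by
  classical
  by_contra! hne
  let Z : ∀ j, Set (F.obj j) := fun j => if hj : j = i then (hj ▸ C) else univ
  obtain ⟨x, hx, hxZ⟩ := exists_section F hF hFm Z
    (fun j => by
      by_cases hj : j = i
      · subst hj; simpa [Z] using hC
      · simp only [Z, dif_neg hj]; exact @isClosed_univ _ (cons (F.obj j)))
    (fun O k T => by
      by_cases hi : i ∈ O
      · obtain ⟨z, hz⟩ := hne k (T i hi)
        refine ⟨z, fun j hj => ?_⟩
        by_cases hji : j = i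
        · subst hji; simpa [Z] using hz
        · simp [Z, hji]
      · obtain ⟨k', f, -⟩ : ∃ (k' : J) (f : k' ⟶ k) (_ : k' ⟶ i), True :=
          ⟨_, IsCofiltered.minToLeft k i, IsCofiltered.minToRight k i, trivial⟩
        obtain ⟨z, -⟩ := hne _ (IsCofiltered.minToRight k i)
        refine ⟨F.map (IsCofiltered.minToLeft k i) z, fun j hj => ?_⟩
        have hji : j ≠ i := fun e => hi (e ▸ hj)
        simp [Z, hji])
  obtain ⟨y, rfl⟩ := exists_of_mem_sectionSet F c hc hx
  have := hxZ i
  rw [← mem_empty_iff_false y, ← h]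
  simpa [Z, toPi] using this

include hF hFm hc in
theorem exists_preimage_eq [IsCofiltered J] {i : J} {A B : Set (F.obj i)}
    (hA : @IsClopen _ (cons (F.obj i)) A) (hB : @IsClopen _ (cons (F.obj i)) B)
    (h : c.π.app i ⁻¹' A = c.π.app i ⁻¹' B) :
    ∃ (j : J) (a : j ⟶ i), F.map a ⁻¹' A = F.map a ⁻¹' B := by
  obtain ⟨j, a, ha⟩ := exists_preimage_eq_empty F hF hFm c hc
    (C := A \ B ∪ B \ A)
    (@IsClopen.union _ (cons (F.obj i)) _ _ (@IsClopen.diff _ (cons (F.obj i)) _ _ hA hB)
      (@IsClopen.diff _ (cons (F.obj i)) _ _ hB hA)).1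
    (by rw [preimage_union, preimage_sdiff, preimage_sdiff, h]; simp)
  refine ⟨j, a, ?_⟩
  rw [preimage_union, preimage_sdiff, preimage_sdiff, union_empty_iff] at ha
  exact subset_antisymm (sdiff_eq_empty.mp ha.1) (sdiff_eq_empty.mp ha.2)

/-- Predicate: a set of the limit is the preimage of a set at a finite stage with property `Q`. -/
def Desc (Q : ∀ j, Set (F.obj j) → Prop) (s : Set c.pt) : Prop :=
  ∃ (i : J) (K : Set (F.obj i)), Q i K ∧ c.π.app i ⁻¹' K = s

theorem preimage_proj_comp {i j : J} (a : i ⟶ j) (K : Set (F.obj j)) :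
    c.π.app i ⁻¹' (F.map a ⁻¹' K) = c.π.app j ⁻¹' K := by
  rw [← c.w a]; rfl

theorem desc_of_compact_open [IsCofiltered J] {t : TopologicalSpace c.pt} {S : Set (Set c.pt)}
    (hS : t = generateFrom S) (Q : ∀ j, Set (F.obj j) → Prop)
    (hQmap : ∀ {i j : J} (a : i ⟶ j) K, Q j K → Q i (F.map a ⁻¹' K))
    (hQi : ∀ j A B, Q j A → Q j B → Q j (A ∩ B)) (hQu : ∀ j A B, Q j A → Q j B → Q j (A ∪ B))
    (hQ0 : ∀ j, Q j ∅) (hQ1 : ∀ j, Q j univ) (hSQ : ∀ s ∈ S, Desc F c Q s)
    {U : Set c.pt} (hU : IsOpen[t] U) (hUc : @IsCompact _ t U) : Desc F c Q U := by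
  have hinter : ∀ {s s' : Set c.pt}, Desc F c Q s → Desc F c Q s' → Desc F c Q (s ∩ s') := by
    rintro s s' ⟨i, A, hA, rfl⟩ ⟨j, B, hB, rfl⟩
    exact ⟨_, _, hQi _ _ _ (hQmap (IsCofiltered.minToLeft i j) A hA)
      (hQmap (IsCofiltered.minToRight i j) B hB), by
        rw [preimage_inter, preimage_proj_comp, preimage_proj_comp]⟩
  have hunion : ∀ {s s' : Set c.pt}, Desc F c Q s → Desc F c Q s' → Desc F c Q (s ∪ s') := by
    rintro s s' ⟨i, A, hA, rfl⟩ ⟨j, B, hB, rfl⟩
    exact ⟨_, _, hQu _ _ _ (hQmap (IsCofiltered.minToLeft i j) A hA)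
      (hQmap (IsCofiltered.minToRight i j) B hB), by
        rw [preimage_union, preimage_proj_comp, preimage_proj_comp]⟩
  have hb := @isTopologicalBasis_of_subbasis c.pt t S hS
  obtain ⟨T, hT, rfl⟩ := @IsTopologicalBasis.open_eq_sUnion c.pt t _ hb _ hU
  rw [sUnion_eq_iUnion] at hUc ⊢
  obtain ⟨G, hG⟩ := @IsCompact.elim_finite_subcover c.pt t _ _ hUc (fun i : T => (i : Set c.pt))
    (fun i => @IsTopologicalBasis.isOpen c.pt t _ _ hb (hT i.2)) (subset_refl _)
  rw [show (⋃ i : T, (i : Set c.pt)) = G.sup (fun i : T => (i : Set c.pt)) from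
    (subset_antisymm hG (iUnion₂_subset fun i _ => subset_iUnion (fun i : T => (i : Set c.pt)) i)).trans
      (Finset.sup_eq_iSup G (fun i : T => (i : Set c.pt))).symm]
  have hne : Nonempty J := IsCofiltered.nonempty
  refine Finset.sup_induction ⟨hne.some, ∅, hQ0 _, preimage_empty⟩ (fun _ ha _ hb => hunion ha hb)
    fun i _ => ?_
  obtain ⟨g, ⟨hgf, hg⟩, hgi⟩ := hT i.2
  show Desc F c Q (i : Set c.pt)
  rw [← hgi]
  clear hgi
  induction g, hgf using Set.Finite.induction_on with
  | empty => exact ⟨hne.some, univ, hQ1 _, by simp⟩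
  | @insert a s _ _ ih =>
    show Desc F c Q (⋂₀ insert a s)
    rw [sInter_insert]
    exact hinter (hSQ a (hg (mem_insert _ _))) (ih ((subset_insert _ _).trans hg))

end Groth.L06.Spectral
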