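import Mathlib.RingTheory.KrullDimension.Regular
import Mathlib.RingTheory.KrullDimension.Module
import Mathlib.RingTheory.KrullDimension.NonZeroDivisors
import Mathlib.RingTheory.Ideal.KrullsHeightTheorem
import Mathlib.RingTheory.Ideal.HasGoingUp
import Mathlib.RingTheory.Length
import Mathlib.RingTheory.Spectrum.Maximal.Basic
import Mathlib.RingTheory.HopkinsLevitzki
import Groth.Agent.L22.FiniteLength

set_option autoImplicit false

/-!
Dimension of modules over semilocal Noetherian rings, and integral extensions.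
-/

namespace Groth.L06.SupportDim

open PrimeSpectrum Module

variable {A : Type*} [CommRing A]

theorem supportDim_eq_of_support_eq {M N : Type*} [AddCommGroup M] [Module A M] [AddCommGroup N]
    [Module A N] (h : support A M = support A N) : supportDim A M = supportDim A N := by
  rw [supportDim, supportDim, h]

theorem supportDim_eq_quotient {M : Type*} [AddCommGroup M] [Module A M] [Module.Finite A M] :
    supportDim A M = ringKrullDim (A ⧸ annihilator A M) :=
  supportDim_eq_ringKrullDim_quotient_annihilator A M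

theorem supportDim_quotient_smul {M : Type*} [AddCommGroup M] [Module A M] [Module.Finite A M]
    (J : Ideal A) :
    supportDim A (M ⧸ (J • (⊤ : Submodule A M))) = ringKrullDim (A ⧸ (annihilator A M ⊔ J)) := by
  have h : support A (M ⧸ (J • (⊤ : Submodule A M))) = zeroLocus ((annihilator A M ⊔ J : Ideal A) : Set A) := by
    rw [Module.support_quotient, Module.support_eq_zeroLocus, zeroLocus_sup]
  rw [ringKrullDim_quotient, supportDim, h]

theorem supportDim_quotSMulTop {M : Type*} [AddCommGroup M] [Module A M] [Module.Finite A M] (x : A) :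
    supportDim A (QuotSMulTop x M) = ringKrullDim (A ⧸ (annihilator A M ⊔ Ideal.span {x})) := by
  have h : support A (QuotSMulTop x M) =
      zeroLocus ((annihilator A M ⊔ Ideal.span {x} : Ideal A) : Set A) := by
    rw [Module.support_quotSMulTop, Module.support_eq_zeroLocus, zeroLocus_sup, zeroLocus_span]
  rw [ringKrullDim_quotient, supportDim, h]

theorem ringKrullDim_quotient_anti {I J : Ideal A} (h : I ≤ J) :
    ringKrullDim (A ⧸ J) ≤ ringKrullDim (A ⧸ I) :=
  ringKrullDim_le_of_surjective (Ideal.Quotient.factor h) (Ideal.Quotient.factor_surjective h)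

variable [IsNoetherianRing A]

/-- One more equation lowers the dimension by at most one. -/
theorem le_sup_span_add_one (I : Ideal A) {x : A} (hx : x ∈ Ring.jacobson A) :
    ringKrullDim (A ⧸ I) ≤ ringKrullDim (A ⧸ (I ⊔ Ideal.span {x})) + 1 := by
  have h := supportDim_le_supportDim_quotSMulTop_succ_of_mem_jacobson
    (M := A ⧸ I) (x := x) ((annihilator A (A ⧸ I)).ringJacobson_le_jacobson hx)
  rwa [supportDim_eq_quotient, supportDim_quotSMulTop, Ideal.annihilator_quotient] at h

theorem le_sup_ofList_add : ∀ (l : List A) (I : Ideal A), (∀ x ∈ l, x ∈ Ring.jacobson A) →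
    ringKrullDim (A ⧸ I) ≤ ringKrullDim (A ⧸ (I ⊔ Ideal.ofList l)) + l.length
  | [], I, _ => by rw [Ideal.ofList_nil, sup_bot_eq]; simp
  | x :: l, I, h => by
    have ih := le_sup_ofList_add l (I ⊔ Ideal.span {x}) fun y hy => h y (List.mem_cons_of_mem _ hy)
    rw [Ideal.ofList_cons, ← sup_assoc, List.length_cons, Nat.cast_add, Nat.cast_one, ← add_assoc]
    refine (le_sup_span_add_one I (h x List.mem_cons_self)).trans ?_
    exact add_le_add_left ih 1

omit [IsNoetherianRing A] in
theorem le_zero_iff_forall_isMaximal (I : Ideal A) :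
    ringKrullDim (A ⧸ I) ≤ 0 ↔ ∀ p : Ideal A, p.IsPrime → I ≤ p → p.IsMaximal := by
  rw [ringKrullDim_quotient, Order.krullDim_nonpos_iff_forall_isMax]
  refine ⟨fun h p hp hIp => ?_, fun h x y hxy => ?_⟩
  · obtain ⟨m, hm, hpm⟩ := Ideal.exists_le_maximal p hp.ne_top
    have := h ⟨⟨p, hp⟩, hIp⟩ (b := ⟨⟨m, hm.isPrime⟩, hIp.trans hpm⟩) hpm
    exact (le_antisymm hpm this : p = m) ▸ hm
  · exact ((h x.1.asIdeal x.1.isPrime x.2).eq_of_le y.1.isPrime.ne_top hxy).ge

theorem isFiniteLength_iff {M : Type*} [AddCommGroup M] [Module A M] [Module.Finite A M] :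
    IsFiniteLength A M ↔ supportDim A M ≤ 0 := by
  rw [supportDim_eq_quotient]
  refine ⟨fun h => ?_, fun h => ?_⟩
  · obtain ⟨hN, hA⟩ := isFiniteLength_iff_isNoetherian_isArtinian.mp h
    obtain ⟨s, hs⟩ := (Module.Finite.fg_top (R := A) (M := M))
    let f : A →ₗ[A] (s → M) := LinearMap.pi fun m => LinearMap.toSpanSingleton A M m
    have hker : LinearMap.ker f = annihilator A M := by
      ext a
      simp only [LinearMap.mem_ker, Module.mem_annihilator, funext_iff, f, LinearMap.pi_apply,
        LinearMap.toSpanSingleton_apply, Pi.zero_apply, Subtype.forall]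
      refine ⟨fun h m => ?_, fun h m _ => h m⟩
      have hm : m ∈ Submodule.span A (s : Set M) := hs ▸ Submodule.mem_top
      induction hm using Submodule.span_induction with
      | mem x hx => exact h x hx
      | zero => simp
      | add x y _ _ hx hy => simp [hx, hy]
      | smul b x _ hx => rw [smul_comm, hx, smul_zero]
    have : IsArtinian A (A ⧸ annihilator A M) := by
      rw [← hker]
      exact isArtinian_of_linearEquiv f.quotKerEquivRange.symm
    have : IsArtinianRing (A ⧸ annihilator A M) := isArtinian_of_tower A this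
    refine (le_zero_iff_forall_isMaximal _).mpr fun p hp hle => ?_
    have : (p.map (Ideal.Quotient.mk (annihilator A M))).IsPrime :=
      Ideal.map_isPrime_of_surjective Ideal.Quotient.mk_surjective (by rwa [Ideal.mk_ker])
    have := Ideal.comap_isMaximal_of_surjective (Ideal.Quotient.mk (annihilator A M))
      Ideal.Quotient.mk_surjective (H := IsArtinianRing.isMaximal_of_isPrime
        (p.map (Ideal.Quotient.mk (annihilator A M))))
    rwa [Ideal.comap_map_of_surjective _ Ideal.Quotient.mk_surjective, ← RingHom.ker_eq_comap_bot,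
      Ideal.mk_ker, sup_eq_left.mpr hle] at this
  · rw [← Module.length_ne_top_iff, ← lt_top_iff_ne_top]
    refine Groth.L22.length_lt_top_of_support_isMaximal fun p hp => ?_
    exact (le_zero_iff_forall_isMaximal _).mp h _ p.isPrime (mem_support_iff_of_finite.mp hp)

section Semilocal

variable [Finite (MaximalSpectrum A)]

omit [IsNoetherianRing A] in
theorem exists_le_of_jacobson_le {p : Ideal A} [hp : p.IsPrime] (h : Ring.jacobson A ≤ p) :
    p.IsMaximal := by
  classical
  cases nonempty_fintype (MaximalSpectrum A)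
  have h2 : (Finset.univ.inf fun m : MaximalSpectrum A => m.asIdeal) ≤ Ring.jacobson A := by
    rw [Ring.jacobson_eq_sInf_isMaximal]
    exact le_sInf fun m hm => Finset.inf_le (f := fun m : MaximalSpectrum A => m.asIdeal) (b := ⟨m, hm⟩) (Finset.mem_univ _)
  obtain ⟨m, -, hm⟩ := (hp.inf_le').mp (h2.trans h)
  exact (m.isMaximal.eq_of_le hp.ne_top hm) ▸ m.isMaximal

theorem le_zero_of_jacobson_le {I : Ideal A} (h : Ring.jacobson A ≤ I) :
    ringKrullDim (A ⧸ I) ≤ 0 :=
  (le_zero_iff_forall_isMaximal I).mpr fun p _ hp => exists_le_of_jacobson_le (h.trans hp)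

theorem ringKrullDim_ne_top' (I : Ideal A) : ringKrullDim (A ⧸ I) ≠ ⊤ := by
  obtain ⟨s, hs⟩ := (IsNoetherian.noetherian (Ring.jacobson A) : (Ring.jacobson A).FG)
  have hmem : ∀ x ∈ s.toList, x ∈ Ring.jacobson A := fun x hx => by
    rw [← hs]; exact Submodule.subset_span (Finset.mem_toList.mp hx)
  have hspan : Ideal.ofList s.toList = Ring.jacobson A := by
    rw [← hs, Ideal.ofList]; congr 1; ext; simp
  intro htop
  have h := le_sup_ofList_add s.toList I hmem
  rw [htop, hspan] at h
  have h2 := h.trans (add_le_add_left (le_zero_of_jacobson_le (I := I ⊔ Ring.jacobson A) le_sup_right) _)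
  rw [zero_add, top_le_iff] at h2
  exact absurd h2 (ne_of_lt (WithBot.coe_lt_coe.mpr (ENat.natCast_lt_top _)))

theorem exists_dim_eq_natCast {I : Ideal A} (hI : I ≠ ⊤) :
    ∃ n : ℕ, ringKrullDim (A ⧸ I) = n := by
  have := Ideal.Quotient.nontrivial_iff.mpr hI
  obtain ⟨a, ha⟩ := WithBot.ne_bot_iff_exists.mp
    (ne_of_gt (lt_of_lt_of_le (WithBot.bot_lt_coe 0) (ringKrullDim_nonneg_of_nontrivial (R := A ⧸ I))))
  obtain ⟨n, rfl⟩ := ENat.ne_top_iff_exists.mp (show a ≠ ⊤ by
    rintro rfl; exact ringKrullDim_ne_top' I ha.symm)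
  exact ⟨n, ha.symm⟩

omit [Finite (MaximalSpectrum A)] in
theorem sup_ne_top {I J : Ideal A} (hI : I ≠ ⊤) (hJ : J ≤ Ring.jacobson A) : I ⊔ J ≠ ⊤ := by
  obtain ⟨m, hm, hIm⟩ := Ideal.exists_le_maximal I hI
  exact ne_top_of_le_ne_top hm.ne_top (sup_le hIm (hJ.trans ((Ring.jacobson_eq_sInf_isMaximal A).trans_le (sInf_le hm))))

omit [IsNoetherianRing A] [Finite (MaximalSpectrum A)] in
theorem chain_head_le {I : Ideal A} (l : LTSeries (zeroLocus (R := A) I)) :
    (l.length : WithBot ℕ∞) ≤ ringKrullDim (A ⧸ l.head.1.asIdeal) := by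
  rw [ringKrullDim_quotient]
  refine Order.LTSeries.length_le_krullDim (LTSeries.mk l.length
    (fun i => (⟨(l i).1, l.monotone (Fin.zero_le i)⟩ : zeroLocus (R := A) l.head.1.asIdeal)) ?_)
  exact fun i j hij => l.strictMono hij

/-- Criterion for a hypersurface section to lower the dimension. -/
theorem sup_span_add_one_eq_iff (I : Ideal A) {x : A} (hx : x ∈ Ring.jacobson A) :
    ringKrullDim (A ⧸ (I ⊔ Ideal.span {x})) + 1 = ringKrullDim (A ⧸ I) ↔
      ∀ p : PrimeSpectrum A, I ≤ p.asIdeal →
        ringKrullDim (A ⧸ p.asIdeal) = ringKrullDim (A ⧸ I) → x ∉ p.asIdeal := by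
  rcases eq_or_ne I ⊤ with rfl | hI
  · rw [show (⊤ : Ideal A) ⊔ Ideal.span {x} = ⊤ from sup_eq_left.mpr le_top]
    rw [ringKrullDim_eq_bot_of_subsingleton, WithBot.bot_add]
    exact ⟨fun _ p hp => absurd (top_le_iff.mp hp) p.isPrime.ne_top, fun _ => rfl⟩
  have hJ : I ⊔ Ideal.span {x} ≠ ⊤ := sup_ne_top hI (by simpa [Ideal.span_le] using hx)
  obtain ⟨d, hd⟩ := exists_dim_eq_natCast hI
  obtain ⟨e, he⟩ := exists_dim_eq_natCast hJ
  have h1 := le_sup_span_add_one I hx
  rw [hd, he] at h1
  rw [hd, he]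
  refine ⟨fun h p hp hpd hxp => ?_, fun h => ?_⟩
  · have h2 := ringKrullDim_quotient_anti (I := I ⊔ Ideal.span {x}) (J := p.asIdeal)
      (sup_le hp (by simpa [Ideal.span_le] using hxp))
    rw [hpd, he] at h2
    norm_cast at h h2
    omega
  · norm_cast at h1 ⊢
    have hle : e ≤ d := by
      have := ringKrullDim_quotient_anti (le_sup_left : I ≤ I ⊔ Ideal.span {x})
      rw [hd, he] at this
      exact_mod_cast this
    suffices e ≠ d by omega
    rintro rfl
    obtain ⟨l, hl⟩ := Order.le_krullDim_iff.mp (ringKrullDim_quotient (I ⊔ Ideal.span {x}) ▸ he.ge)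
    have hlI : I ⊔ Ideal.span {x} ≤ l.head.1.asIdeal := l.head.2
    refine h l.head.1 (le_sup_left.trans hlI) (le_antisymm ?_ ?_)
      (hlI (Ideal.mem_sup_right (Ideal.mem_span_singleton_self x)))
    · rw [← hd]; exact ringKrullDim_quotient_anti (le_sup_left.trans hlI)
    · rw [← hl]; exact chain_head_le l

/-- Existence of systems of parameters. -/
theorem exists_parameters : ∀ (d : ℕ) (I : Ideal A), ringKrullDim (A ⧸ I) = d →
    ∃ l : List A, l.length = d ∧ (∀ x ∈ l, x ∈ Ring.jacobson A) ∧
      ringKrullDim (A ⧸ (I ⊔ Ideal.ofList l)) ≤ 0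
  | 0, I, h => ⟨[], rfl, by simp, by rw [Ideal.ofList_nil, sup_bot_eq, h]; exact le_refl _⟩
  | d + 1, I, h => by
    classical
    let S := {p ∈ I.minimalPrimes | ¬ p.IsMaximal}
    have hfin : S.Finite := (I.finite_minimalPrimes_of_isNoetherianRing).subset fun p hp => hp.1
    obtain ⟨x, hx, hxS⟩ : ∃ x ∈ Ring.jacobson A, ∀ p ∈ S, x ∉ p := by
      by_contra! hc
      obtain ⟨p, hp, hle⟩ := (Ideal.subset_union_prime (s := hfin.toFinset) (f := id) ⊥ ⊥
        (fun p hp _ _ => (hfin.mem_toFinset.mp hp).1.1.1)).mp (fun x hx => by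
          obtain ⟨p, hp, hxp⟩ := hc x hx
          exact Set.mem_biUnion (hfin.mem_toFinset.mpr hp) hxp)
      have := (hfin.mem_toFinset.mp hp).1.1.1
      exact (hfin.mem_toFinset.mp hp).2 (exists_le_of_jacobson_le hle)
    have key : ringKrullDim (A ⧸ (I ⊔ Ideal.span {x})) + 1 = ringKrullDim (A ⧸ I) := by
      refine (sup_span_add_one_eq_iff I hx).mpr fun p hp hpd hxp => ?_
      obtain ⟨q, hq, hqp⟩ := Ideal.exists_minimalPrimes_le hp
      have := hq.1.1
      by_cases hqm : q.IsMaximal
      · have hpq : q = p.asIdeal := hqm.eq_of_le p.isPrime.ne_top hqp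
        have h0 := (le_zero_iff_forall_isMaximal p.asIdeal).mpr fun r hr hle =>
          ((hpq ▸ hqm).eq_of_le hr.ne_top hle) ▸ (hpq ▸ hqm)
        rw [hpd, h] at h0
        norm_cast at h0
      · have hne : p.asIdeal ≠ q := fun e => hxS q ⟨hq, hqm⟩ (e ▸ hxp)
        obtain ⟨n, hn⟩ := exists_dim_eq_natCast (I := p.asIdeal) p.isPrime.ne_top
        have hlt : ringKrullDim (A ⧸ p.asIdeal) + 1 ≤ ringKrullDim (A ⧸ I) := by
          rw [hn]
          obtain ⟨l, hl⟩ := Order.le_krullDim_iff.mp (ringKrullDim_quotient p.asIdeal ▸ hn.ge)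
          rw [ringKrullDim_quotient]
          refine le_of_eq_of_le ?_ (Order.LTSeries.length_le_krullDim
            ((l.map (fun a => (⟨a.1, le_trans hp a.2⟩ : zeroLocus (R := A) I)) (fun _ _ hab => hab)).cons
              ⟨⟨q, hq.1.1⟩, hq.1.2⟩ ?_))
          · subst hl; rw [RelSeries.cons_length]; push_cast; rfl
          · exact lt_of_le_of_lt (le_refl q) (lt_of_lt_of_le (lt_of_le_of_ne hqp hne.symm) l.head.2)
        rw [hpd, h] at hlt
        norm_cast at hlt
        omega
    obtain ⟨e, he⟩ := exists_dim_eq_natCast (sup_ne_top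
      (show I ≠ ⊤ by
        rintro rfl
        rw [ringKrullDim_eq_bot_of_subsingleton] at h
        exact WithBot.bot_ne_coe h)
      (by simpa [Ideal.span_le] using hx : Ideal.span {x} ≤ Ring.jacobson A))
    rw [h, he] at key
    norm_cast at key
    obtain ⟨l, hl1, hl2, hl3⟩ := exists_parameters d (I ⊔ Ideal.span {x})
      (by rw [he]; norm_cast; omega)
    exact ⟨x :: l, by simp [hl1], by simpa using ⟨hx, hl2⟩, by rw [Ideal.ofList_cons, ← sup_assoc]; exact hl3⟩

end Semilocal

end Groth.L06.SupportDim
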