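import Groth.Agent.L16.CohSupport
import Groth.Agent.L20.ModStalk
import Groth.Agent.L22.SchemeDim
import Groth.Agent.L07.EquidimPoint
import Mathlib.RingTheory.KrullDimension.Module
import Mathlib.AlgebraicGeometry.Noetherian

/-! The support of a stalk of a coherent module and the generizations in the support. -/

set_option autoImplicit false
set_option maxSynthPendingDepth 3
set_option backward.isDefEq.respectTransparency.types false
set_option backward.isDefEq.respectTransparency false
set_option linter.style.haveILetI false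
universe u

open CategoryTheory AlgebraicGeometry TopologicalSpace Topology

namespace Groth.L06.SupportStalk

variable {X : Scheme.{u}} (M : X.Modules)

theorem finite_stalk (hM : Coh.IsCoh M) (x : X) :
    Module.Finite (X.presheaf.stalk x) (M.presheaf.stalk x) := by
  haveI : Coh.IsQCoh M := hM.1
  obtain ⟨V, hV, hxV, -⟩ := exists_isAffineOpen_mem_and_subset (TopologicalSpace.Opens.mem_top x)
  haveI : Module.Finite Γ(X, V) Γ(M, V) := Groth.L20.ModStalk.finite_sections M hM hV
  letI := Groth.L20.ModStalk.stalkModule M hxV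
  letI := X.presheaf.algebra_section_stalk ⟨x, hxV⟩
  haveI := hV.isLocalization_stalk ⟨x, hxV⟩
  haveI : IsScalarTower Γ(X, V) (X.presheaf.stalk x) (M.presheaf.stalk x) :=
    IsScalarTower.of_algebraMap_smul fun _ _ => rfl
  haveI := Groth.L20.ModStalk.isLocalizedModule_germ M hV hxV
  exact Module.Finite.of_isLocalizedModule (Rₚ := X.presheaf.stalk x)
    (hV.primeIdealOf ⟨x, hxV⟩).asIdeal.primeCompl (Groth.L20.ModStalk.germₗ M hxV)

/-- A prime of the local ring lies in the support of the stalk iff its point lies in the support. -/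
theorem mem_support_iff (hM : Coh.IsCoh M) (x : X) (Q : PrimeSpectrum (X.presheaf.stalk x)) :
    Q ∈ Module.support (X.presheaf.stalk x) (M.presheaf.stalk x) ↔ X.fromSpecStalk x Q ∈ CohB1.support M := by
  haveI : Coh.IsQCoh M := hM.1
  obtain ⟨V, hV, hxV, -⟩ := exists_isAffineOpen_mem_and_subset (TopologicalSpace.Opens.mem_top x)
  letI := Groth.L20.ModStalk.stalkModule M hxV
  letI := X.presheaf.algebra_section_stalk ⟨x, hxV⟩
  haveI := hV.isLocalization_stalk ⟨x, hxV⟩
  haveI : IsScalarTower Γ(X, V) (X.presheaf.stalk x) (M.presheaf.stalk x) :=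
    IsScalarTower.of_algebraMap_smul fun _ _ => rfl
  haveI := Groth.L20.ModStalk.isLocalizedModule_germ M hV hxV
  let S := (hV.primeIdealOf ⟨x, hxV⟩).asIdeal.primeCompl
  let q : PrimeSpectrum Γ(X, V) := PrimeSpectrum.comap (algebraMap Γ(X, V) (X.presheaf.stalk x)) Q
  have hpt : X.fromSpecStalk x Q = hV.fromSpec q := by
    rw [← hV.fromSpecStalk_eq_fromSpecStalk hxV]
    rfl
  have hle : q.asIdeal ≤ (hV.primeIdealOf ⟨x, hxV⟩).asIdeal := by
    intro r hr
    by_contra hr'
    exact Q.2.ne_top (Ideal.eq_top_of_isUnit_mem _ hr (IsLocalization.map_units (X.presheaf.stalk x) (⟨r, hr'⟩ : S)))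
  have hzV : hV.fromSpec q ∈ V := hV.opensRange_fromSpec.le ⟨q, rfl⟩
  have hqz : hV.primeIdealOf ⟨hV.fromSpec q, hzV⟩ = q :=
    hV.fromSpec.isOpenEmbedding.injective (hV.fromSpec_primeIdealOf _)
  have key : (¬ Subsingleton (M.presheaf.stalk (hV.fromSpec q))) ↔
      ∃ n : Γ(M, V), ∀ r ∉ q.asIdeal, r • n ≠ 0 := by
    letI := Groth.L20.ModStalk.stalkModule M hzV
    haveI := Groth.L20.ModStalk.isLocalizedModule_germ M hV hzV
    constructor
    · intro h
      by_contra! hn
      refine h ⟨fun a b => ?_⟩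
      have hz : ∀ c : M.presheaf.stalk (hV.fromSpec q), c = 0 := fun c => by
        obtain ⟨⟨n, s⟩, hs⟩ := IsLocalizedModule.surj (hV.primeIdealOf ⟨hV.fromSpec q, hzV⟩).asIdeal.primeCompl
          (Groth.L20.ModStalk.germₗ M hzV) c
        obtain ⟨r, hr, hrn⟩ := hn n
        have h0 : Groth.L20.ModStalk.germₗ M hzV n = 0 :=
          (IsLocalizedModule.eq_zero_iff (hV.primeIdealOf ⟨hV.fromSpec q, hzV⟩).asIdeal.primeCompl _).mpr
            ⟨⟨r, by rw [hqz]; exact hr⟩, hrn⟩
        rw [h0] at hs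
        exact IsLocalizedModule.smul_injective (Groth.L20.ModStalk.germₗ M hzV) s (hs.trans (smul_zero s).symm)
      rw [hz a, hz b]
    · rintro ⟨n, hn⟩ hsub
      obtain ⟨⟨r, hr⟩, hrn⟩ := (IsLocalizedModule.eq_zero_iff
        (hV.primeIdealOf ⟨hV.fromSpec q, hzV⟩).asIdeal.primeCompl
        (Groth.L20.ModStalk.germₗ M hzV) (m := n)).1 (Subsingleton.elim _ _)
      exact hn r (by rw [← hqz]; exact hr) hrn
  rw [hpt, Module.mem_support_iff']
  refine Iff.trans ?_ key.symm
  constructor
  · rintro ⟨m, hm⟩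
    obtain ⟨⟨n, s⟩, hs⟩ := IsLocalizedModule.surj S (Groth.L20.ModStalk.germₗ M hxV) m
    refine ⟨n, fun r hr hrn => ?_⟩
    have hrs : r * (s : Γ(X, V)) ∉ q.asIdeal := fun h => (q.2.mem_or_mem h).elim hr (fun h' => s.2 (hle h'))
    refine hm (algebraMap Γ(X, V) _ (r * s)) hrs ?_
    rw [algebraMap_smul, mul_smul]
    change r • ((s : S) • m) = 0
    rw [hs, ← LinearMap.map_smul, hrn, map_zero]
  · rintro ⟨n, hn⟩
    refine ⟨Groth.L20.ModStalk.germₗ M hxV n, fun a ha h => ?_⟩
    obtain ⟨⟨r, s⟩, hrs⟩ := IsLocalization.surj S a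
    have hr : r ∉ q.asIdeal := fun hr => by
      have h1 : algebraMap Γ(X, V) (X.presheaf.stalk x) r ∈ Q.asIdeal := hr
      rw [← hrs] at h1
      exact (Q.2.mem_or_mem h1).elim ha fun h2 => s.2 (hle h2)
    have h0 : Groth.L20.ModStalk.germₗ M hxV (r • n) = 0 := by
      rw [map_smul, ← algebraMap_smul (X.presheaf.stalk x) r, ← hrs, mul_comm, mul_smul, h, smul_zero]
    obtain ⟨⟨t, ht⟩, htn⟩ := (IsLocalizedModule.eq_zero_iff S (Groth.L20.ModStalk.germₗ M hxV)).1 h0
    refine hn (t * r) (fun hm => (q.2.mem_or_mem hm).elim (fun h' => ht (hle h')) hr) ?_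
    rw [mul_smul]
    exact htn

/-- The dimension of the stalk is the dimension of the generizations in the support. -/
theorem supportDim_stalk (hM : Coh.IsCoh M) (x : X) :
    Module.supportDim (X.presheaf.stalk x) (M.presheaf.stalk x) =
      topologicalKrullDim ↥{t : X | t ∈ CohB1.support M ∧ t ⤳ x} := by
  haveI := finite_stalk M hM x
  rw [Module.supportDim_eq_ringKrullDim_quotient_annihilator, ← PrimeSpectrum.topologicalKrullDim_eq_ringKrullDim]
  refine (Groth.L22.SchemeDim.topologicalKrullDim_eq_of_isEmbedding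
    ((X.fromSpecStalk x).isEmbedding.comp
      (PrimeSpectrum.isClosedEmbedding_comap_of_surjective _ _ Ideal.Quotient.mk_surjective).isEmbedding) ?_).symm
  rw [Set.range_comp, range_comap_of_surjective _ _ Ideal.Quotient.mk_surjective, Ideal.mk_ker]
  refine Set.ext fun t => ⟨?_, ?_⟩
  · rintro ⟨Q, hQ, rfl⟩
    exact ⟨(mem_support_iff M hM x Q).mp (by rw [Module.support_eq_zeroLocus]; exact hQ),
      Groth.L07.EquidimPoint.specializes_point x Q⟩
  · rintro ⟨ht, htx⟩
    obtain ⟨Q, rfl⟩ : t ∈ Set.range (X.fromSpecStalk x) := by rw [Scheme.range_fromSpecStalk]; exact htx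
    have h := (mem_support_iff M hM x Q).mpr ht
    rw [Module.support_eq_zeroLocus] at h
    exact ⟨Q, h, rfl⟩

end Groth.L06.SupportStalk
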