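import Groth.Agent.L20.GenSmooth.Scheme
import Groth.Agent.L06.FibreDimLocConst
import Groth.Agent.L07.DimToolkit
import Groth.Agent.L22.AffineDim
import Groth.Agent.L22.LocalDim
import Groth.Agent.L22.Cyc.RelDim
import Mathlib.RingTheory.NoetherNormalization
import Mathlib.AlgebraicGeometry.AffineSpace
import Mathlib.AlgebraicGeometry.Morphisms.Finite
import Mathlib.RingTheory.KrullDimension.Field
import Mathlib.RingTheory.Spectrum.Prime.Topology
import Mathlib.Algebra.MvPolynomial.Rename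

/-! Finite and surjective maps from dense opens to affine space over a field. -/

set_option autoImplicit false
set_option maxSynthPendingDepth 3
set_option backward.isDefEq.respectTransparency.types false
set_option backward.isDefEq.respectTransparency false
set_option linter.style.haveILetI false
universe u

open CategoryTheory AlgebraicGeometry TopologicalSpace Topology

namespace Groth.L06.NoetherDense

open Groth.L07.Equidim Groth.L07.DimToolkit Groth.L22

variable {k : Type u} [Field k]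

local notation "S" => Spec (CommRingCat.of k)

theorem fdim_eq_dim_closure {Z : Scheme.{u}} (f : Z ⟶ S) (z : Z) :
    fdim f z = topologicalKrullDim ↥(closure ({z} : Set Z)) := by
  show topologicalKrullDim ↥(closure ({z} : Set Z) ∩ f.base ⁻¹' {f z}) = _
  have hset : closure ({z} : Set Z) ∩ f.base ⁻¹' {f z} = closure {z} :=
    Set.inter_eq_left.mpr fun w _ => Subsingleton.elim _ _
  rw [hset]

theorem dim_affineSpace (n : ℕ) :
    topologicalKrullDim ↥(𝔸(ULift.{u} (Fin n); S)) = (n : WithBot ℕ∞) := by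
  have y : ↥(S) := IsLocalRing.closedPoint k
  have h := dim_fiber_affineSpace (n := ULift.{u} (Fin n)) (S) y
  rw [Groth.L06.FibreDimLocConst.dim_fiber] at h
  rw [show ((𝔸(ULift.{u} (Fin n); S) ↘ S).base ⁻¹' {y}) = Set.univ from
    Set.eq_univ_of_forall fun w => Subsingleton.elim _ _] at h
  rw [← (Homeomorph.Set.univ ↥(𝔸(ULift.{u} (Fin n); S))).isHomeomorph.topologicalKrullDim_eq, h]
  simp

theorem dim_dense {X : Scheme.{u}} (f : X ⟶ S) [LocallyOfFiniteType f] (U : X.Opens) (hU : Dense (U : Set X)) :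
    topologicalKrullDim X = topologicalKrullDim ↥(U : Scheme.{u}) := by
  haveI : IsLocallyNoetherian X := LocallyOfFiniteType.isLocallyNoetherian f
  refine le_antisymm ?_ U.ι.isEmbedding.isInducing.topologicalKrullDim_le
  refine Groth.L07.EquidimQF.dim_le_of_dim_closure_le fun a => ?_
  obtain ⟨ξ, hξa, hξmax⟩ := exists_maximal_generization a
  have hξU : ξ ∈ U := by
    obtain ⟨O, hO, hOξ⟩ := Groth.L22.LocalDim.exists_open_of_maximal hξmax
    obtain ⟨t, htO, htU⟩ := hU.inter_open_nonempty O O.2 ⟨_, hO⟩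
    exact (hOξ t htO).mem_open U.2 htU
  refine (SchemeDim.topologicalKrullDim_mono (closure_minimal
    (Set.singleton_subset_iff.mpr (specializes_iff_mem_closure.mp hξa)) isClosed_closure)).trans ?_
  have e1 : fdim (U.ι ≫ f) ⟨ξ, hξU⟩ = fdim f ξ := fdim_comp U.ι f (U.ι ≫ f) rfl ⟨ξ, hξU⟩
  rw [← fdim_eq_dim_closure f, ← e1, fdim_eq_dim_closure]
  exact topologicalKrullDim_subspace_le _ _

theorem exists_of_algHom {U : Scheme.{u}} [IsAffine U] (f : U ⟶ S) (n : ℕ)
    [Algebra k Γ(U, ⊤)] (hk : f = U.isoSpec.hom ≫ Spec.map (CommRingCat.ofHom (algebraMap k Γ(U, ⊤))))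
    (ψ : MvPolynomial (ULift.{u} (Fin n)) k →ₐ[k] Γ(U, ⊤)) :
    ∃ g : U ⟶ 𝔸(ULift.{u} (Fin n); S), g ≫ (𝔸(ULift.{u} (Fin n); S) ↘ S) = f ∧
      (ψ.toRingHom.Finite → IsFinite g) ∧
      (Function.Surjective (PrimeSpectrum.comap ψ.toRingHom) → Function.Surjective g.base) := by
  let ψ' : CommRingCat.of (MvPolynomial (ULift.{u} (Fin n)) k) ⟶ Γ(U, ⊤) := CommRingCat.ofHom ψ.toRingHom
  refine ⟨U.isoSpec.hom ≫ Spec.map ψ' ≫ (AffineSpace.SpecIso (ULift.{u} (Fin n)) (CommRingCat.of k)).inv, ?_, fun h => ?_,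
    fun h => ?_⟩
  · rw [Category.assoc, Category.assoc, AffineSpace.SpecIso_inv_over, ← Spec.map_comp, hk]
    congr 2
    ext a
    exact ψ.commutes a
  · haveI : IsFinite (Spec.map ψ') := (IsFinite.SpecMap_iff ψ').mpr h
    infer_instance
  · intro q
    obtain ⟨p, hp⟩ := h ((AffineSpace.SpecIso (ULift.{u} (Fin n)) (CommRingCat.of k)).hom q)
    refine ⟨U.isoSpec.inv p, ?_⟩
    simp only [Scheme.Hom.comp_apply, ← Scheme.Hom.comp_apply U.isoSpec.inv U.isoSpec.hom, Iso.inv_hom_id]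
    show (AffineSpace.SpecIso (ULift.{u} (Fin n)) (CommRingCat.of k)).inv (PrimeSpectrum.comap ψ.toRingHom p) = q
    rw [hp, ← Scheme.Hom.comp_apply, Iso.hom_inv_id]
    rfl

theorem exists_maps {X : Scheme.{u}} (f : X ⟶ S) [LocallyOfFiniteType f] [QuasiCompact f] :
    ∃ U : X.Opens, Dense (U : Set X) ∧ ∀ n : ℕ,
      ((n : WithBot ℕ∞) ≤ topologicalKrullDim X → ∃ g : (U : Scheme.{u}) ⟶ 𝔸(ULift.{u} (Fin n); S),
        g ≫ (𝔸(ULift.{u} (Fin n); S) ↘ S) = U.ι ≫ f ∧ Function.Surjective g.base) ∧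
      (topologicalKrullDim X ≤ n → ∃ g : (U : Scheme.{u}) ⟶ 𝔸(ULift.{u} (Fin n); S),
        g ≫ (𝔸(ULift.{u} (Fin n); S) ↘ S) = U.ι ≫ f ∧ IsFinite g) ∧
      (topologicalKrullDim X = n → ∃ g : (U : Scheme.{u}) ⟶ 𝔸(ULift.{u} (Fin n); S),
        g ≫ (𝔸(ULift.{u} (Fin n); S) ↘ S) = U.ι ≫ f ∧ IsFinite g ∧ Function.Surjective g.base) := by
  haveI : IsLocallyNoetherian X := LocallyOfFiniteType.isLocallyNoetherian f
  haveI : CompactSpace X := QuasiCompact.compactSpace_of_compactSpace f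
  haveI : IsNoetherian X := {}
  obtain ⟨U, hU, hUd⟩ := Groth.L20.GenSmooth.exists_dense_isAffineOpen X
  haveI : IsAffine (U : Scheme.{u}) := hU
  let R := Γ((U : Scheme.{u}), ⊤)
  let f' := U.ι ≫ f
  obtain ⟨φ, hφ⟩ : ∃ φ : CommRingCat.of k ⟶ R, Spec.map φ = (U : Scheme.{u}).isoSpec.inv ≫ f' :=
    ⟨Spec.preimage _, Spec.map_preimage _⟩
  letI : Algebra k R := φ.hom.toAlgebra
  have hk : f' = (U : Scheme.{u}).isoSpec.hom ≫ Spec.map (CommRingCat.ofHom (algebraMap k R)) := by
    show f' = _ ≫ Spec.map φ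
    rw [hφ, Iso.hom_inv_id_assoc]
  haveI : Algebra.FiniteType k R := by
    rw [← RingHom.finiteType_algebraMap]
    have : LocallyOfFiniteType (Spec.map φ) := hφ ▸ inferInstance
    exact (HasRingHomProperty.Spec_iff (P := @LocallyOfFiniteType)).mp this
  have hdim : topologicalKrullDim X = ringKrullDim R := by
    rw [dim_dense f U hUd, ← PrimeSpectrum.topologicalKrullDim_eq_ringKrullDim]
    exact (U : Scheme.{u}).isoSpec.hom.homeomorph.isHomeomorph.topologicalKrullDim_eq
  refine ⟨U, hUd, fun n => ?_⟩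
  rcases subsingleton_or_nontrivial R with hR | hR
  · rw [ringKrullDim_eq_bot_of_subsingleton] at hdim
    refine ⟨fun h => absurd (h.trans hdim.le) (by simp), fun _ => ?_, fun h => ?_⟩
    · obtain ⟨g, hg, hfin, -⟩ := exists_of_algHom f' n hk (MvPolynomial.aeval fun _ => 0)
      exact ⟨g, hg, hfin (RingHom.Finite.of_surjective _ fun r => ⟨0, Subsingleton.elim _ _⟩)⟩
    · exact absurd (h.symm.trans hdim) (by simp)
  obtain ⟨d, gN, hinj, hfin⟩ := exists_finite_inj_algHom_of_fg k R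
  have hd : topologicalKrullDim X = (d : WithBot ℕ∞) := by
    letI := gN.toRingHom.toAlgebra
    haveI : Algebra.IsIntegral (MvPolynomial (Fin d) k) R :=
      ⟨RingHom.Finite.to_isIntegral (f := gN.toRingHom) hfin⟩
    rw [hdim, Groth.L22.AffineDim.ringKrullDim_eq_of_isIntegral (R := MvPolynomial (Fin d) k) hinj,
      MvPolynomial.ringKrullDim_of_isNoetherianRing, ringKrullDim_eq_zero_of_field, zero_add,
      Nat.card_eq_fintype_card, Fintype.card_fin]
  have hsurjN : Function.Surjective (PrimeSpectrum.comap gN.toRingHom) :=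
    (RingHom.Finite.to_isIntegral (f := gN.toRingHom) hfin).comap_surjective hinj
  let e : MvPolynomial (ULift.{u} (Fin d)) k ≃ₐ[k] MvPolynomial (Fin d) k := MvPolynomial.renameEquiv k Equiv.ulift
  have hle : ∀ n ≤ d, ∃ ψ : MvPolynomial (ULift.{u} (Fin n)) k →ₐ[k] R, Function.Surjective (PrimeSpectrum.comap ψ.toRingHom) :=
    fun n hn => by
      let j : ULift.{u} (Fin n) → Fin d := fun i => Fin.castLE hn i.down
      refine ⟨gN.comp (MvPolynomial.rename j), ?_⟩
      have hj : Function.Injective j := fun a b h => ULift.ext _ _ (Fin.castLE_injective hn h)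
      intro q
      have hr : (MvPolynomial.killCompl (R := k) hj).toRingHom.comp (MvPolynomial.rename (R := k) j).toRingHom
          = RingHom.id _ := RingHom.ext fun p => MvPolynomial.killCompl_rename_app hj p
      obtain ⟨p, hp⟩ := hsurjN (PrimeSpectrum.comap (MvPolynomial.killCompl (R := k) hj).toRingHom q)
      refine ⟨p, ?_⟩
      show PrimeSpectrum.comap (gN.toRingHom.comp (MvPolynomial.rename (R := k) j).toRingHom) p = q
      rw [PrimeSpectrum.comap_comp_apply, hp, ← PrimeSpectrum.comap_comp_apply, hr]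
      rfl
  have hge : ∀ n, d ≤ n → ∃ ψ : MvPolynomial (ULift.{u} (Fin n)) k →ₐ[k] R, ψ.toRingHom.Finite := fun n hn => by
    let j : Fin d → (ULift.{u} (Fin n)) := fun i => ⟨Fin.castLE hn i⟩
    have hj : Function.Injective j := fun a b h => Fin.castLE_injective hn (congrArg ULift.down h)
    exact ⟨gN.comp (MvPolynomial.killCompl (R := k) hj), hfin.comp (RingHom.Finite.of_surjective _ fun p =>
      ⟨MvPolynomial.rename j p, MvPolynomial.killCompl_rename_app hj p⟩)⟩
  refine ⟨fun h => ?_, fun h => ?_, fun h => ?_⟩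
  · obtain ⟨ψ, hψ⟩ := hle n (by rw [hd] at h; exact_mod_cast h)
    obtain ⟨g, hg, -, hs⟩ := exists_of_algHom f' n hk ψ
    exact ⟨g, hg, hs hψ⟩
  · obtain ⟨ψ, hψ⟩ := hge n (by rw [hd] at h; exact_mod_cast h)
    obtain ⟨g, hg, hf, -⟩ := exists_of_algHom f' n hk ψ
    exact ⟨g, hg, hf hψ⟩
  · obtain rfl : d = n := by rw [hd] at h; exact_mod_cast h
    obtain ⟨g, hg, hf, hs⟩ := exists_of_algHom f' d hk (gN.comp e.toAlgHom)
    refine ⟨g, hg, hf (hfin.comp (RingHom.Finite.of_surjective _ e.surjective)), hs ?_⟩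
    intro q
    obtain ⟨p, hp⟩ := hsurjN (PrimeSpectrum.comap e.symm.toAlgHom.toRingHom q)
    refine ⟨p, ?_⟩
    show PrimeSpectrum.comap (gN.toRingHom.comp e.toAlgHom.toRingHom) p = q
    rw [PrimeSpectrum.comap_comp_apply, hp, ← PrimeSpectrum.comap_comp_apply,
      show e.symm.toAlgHom.toRingHom.comp e.toAlgHom.toRingHom = RingHom.id _ from
        RingHom.ext fun a => e.symm_apply_apply a]
    rfl

theorem le_of_surjective {X : Scheme.{u}} (f : X ⟶ S) [LocallyOfFiniteType f] (U : X.Opens) (n : ℕ)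
    (g : (U : Scheme.{u}) ⟶ 𝔸(ULift.{u} (Fin n); S)) (hg : g ≫ (𝔸(ULift.{u} (Fin n); S) ↘ S) = U.ι ≫ f)
    (hs : Function.Surjective g.base) : (n : WithBot ℕ∞) ≤ topologicalKrullDim X := by
  let pr := 𝔸(ULift.{u} (Fin n); S) ↘ S
  haveI : LocallyOfFiniteType (g ≫ pr) := hg ▸ inferInstance
  haveI : LocallyOfFiniteType g := locallyOfFiniteType_of_comp g pr
  obtain ⟨a, ha⟩ : ∃ a : ↥(𝔸(ULift.{u} (Fin n); S)), fdim pr a = (n : WithBot ℕ∞) := by
    haveI : IrreducibleSpace ↥(𝔸(ULift.{u} (Fin n); S)) := by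
      let e := AffineSpace.SpecIso (ULift.{u} (Fin n)) (CommRingCat.of k)
      haveI : IrreducibleSpace ↥(Spec (CommRingCat.of (MvPolynomial (ULift.{u} (Fin n)) k))) :=
        inferInstanceAs (IrreducibleSpace (PrimeSpectrum (MvPolynomial (ULift.{u} (Fin n)) k)))
      exact e.hom.homeomorph.symm.surjective.irreducibleSpace e.hom.homeomorph.symm.continuous
    refine ⟨genericPoint _, ?_⟩
    rw [fdim_eq_dim_closure, genericPoint_closure,
      (Homeomorph.Set.univ _).isHomeomorph.topologicalKrullDim_eq, dim_affineSpace]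
  obtain ⟨u, rfl⟩ := hs a
  obtain ⟨m, hm, hm'⟩ := exists_fdim_rtrdeg pr (g u)
  obtain ⟨r, -, hr'⟩ := exists_fdim_rtrdeg g u
  obtain ⟨N, hN, hN'⟩ := exists_fdim_rtrdeg (g ≫ pr) u
  rw [Cyc.rtrdeg_comp, hm', hr'] at hN'
  have hN'' : m + r = N := by exact_mod_cast hN'
  obtain rfl : m = n := by exact_mod_cast hm.symm.trans ha
  calc (m : WithBot ℕ∞) ≤ (N : WithBot ℕ∞) := by exact_mod_cast (show m ≤ N by omega)
    _ = fdim (g ≫ pr) u := hN.symm
    _ ≤ topologicalKrullDim ↥(U : Scheme.{u}) := by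
      rw [fdim_eq_dim_closure]; exact topologicalKrullDim_subspace_le _ _
    _ ≤ topologicalKrullDim X := U.ι.isEmbedding.isInducing.topologicalKrullDim_le

theorem le_of_finite {X : Scheme.{u}} (f : X ⟶ S) [LocallyOfFiniteType f] (U : X.Opens) (hU : Dense (U : Set X))
    (n : ℕ) (g : (U : Scheme.{u}) ⟶ 𝔸(ULift.{u} (Fin n); S)) (hg : g ≫ (𝔸(ULift.{u} (Fin n); S) ↘ S) = U.ι ≫ f) [IsFinite g] :
    topologicalKrullDim X ≤ n := by
  rw [dim_dense f U hU]
  refine Groth.L07.EquidimQF.dim_le_of_dim_closure_le fun u => ?_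
  let pr := 𝔸(ULift.{u} (Fin n); S) ↘ S
  rw [← fdim_eq_dim_closure (g ≫ pr), fdim_comp g pr (g ≫ pr) rfl u, fdim_eq_dim_closure, ← dim_affineSpace (k := k) n]
  exact topologicalKrullDim_subspace_le _ _

end Groth.L06.NoetherDense
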