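import Groth.Agent.L02.CMMor.FibreDim
import Groth.Agent.L02.CMMor.BaseChange
import Groth.Agent.L02.Grpd.SliceMax
import Groth.Agent.L07.OpenFibreDim
import Groth.Agent.L07.UnivOpenFibre
import Groth.Agent.L23.LocalDimEtale
import Mathlib.AlgebraicGeometry.Morphisms.UniversallyOpen

/-! The fibre dimension on the Cohen–Macaulay locus of a flat morphism. -/

set_option autoImplicit false
set_option maxSynthPendingDepth 3
set_option linter.style.haveILetI false
set_option backward.isDefEq.respectTransparency.types false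
set_option backward.isDefEq.respectTransparency false

universe u

open CategoryTheory CategoryTheory.Limits AlgebraicGeometry TopologicalSpace Groth.L07.Equidim

namespace Groth.L06.CMFibreDim

variable {X S : Scheme.{u}} (f : X ⟶ S)

/-- A maximal point of its fibre is a Cohen–Macaulay point of a flat morphism. -/
theorem isCMAt_of_maximal [Flat f] [LocallyOfFinitePresentation f] (x : X)
    (hmax : ∀ x' : X, f x' = f x → x' ⤳ x → x' = x) : MoreMor.IsCMAt f x := by
  haveI : LocallyOfFiniteType (f.fiberToSpecResidueField (f x)) :=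
    MorphismProperty.pullback_snd _ _ inferInstance
  haveI : IsLocallyNoetherian (f.fiber (f x)) :=
    LocallyOfFiniteType.isLocallyNoetherian (f.fiberToSpecResidueField (f x))
  let ι := f.fiberι (f x)
  have key : ∀ P : Spec ((f.fiber (f x)).presheaf.stalk (f.asFiber x)),
      ι ((f.fiber (f x)).fromSpecStalk (f.asFiber x) P) = x := fun P => by
    refine hmax _ ?_ ?_
    · have h : ι ((f.fiber (f x)).fromSpecStalk (f.asFiber x) P) ∈ Set.range (f.fiberι (f x)) := ⟨_, rfl⟩
      rw [f.range_fiberι] at h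
      exact h
    · have h : (f.fiber (f x)).fromSpecStalk (f.asFiber x) P ∈
          Set.range ((f.fiber (f x)).fromSpecStalk (f.asFiber x)) := ⟨_, rfl⟩
      rw [Scheme.range_fromSpecStalk] at h
      have h' := (show (f.fiber (f x)).fromSpecStalk (f.asFiber x) P ⤳ f.asFiber x from h).map ι.continuous
      rwa [f.fiberι_asFiber] at h'
  haveI : Subsingleton (PrimeSpectrum ((f.fiber (f x)).presheaf.stalk (f.asFiber x))) := ⟨fun P Q =>
    ((f.fiber (f x)).fromSpecStalk (f.asFiber x)).isEmbedding.injective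
      (ι.isEmbedding.injective ((key P).trans (key Q).symm))⟩
  have := L02.CMMor.isCMAt_of_fiber f (f x) (f.asFiber x)
    (L02.CMMor.cm_of_dim_le_zero (Order.krullDim_nonpos_of_subsingleton))
  rwa [f.fiberι_asFiber] at this

/-- The Cohen–Macaulay locus. -/
noncomputable def cmOpen [LocallyOfFinitePresentation f] : X.Opens :=
  ⟨{x | MoreMor.IsCMAt f x}, L02.Grpd.isOpen_cm f⟩

theorem isLocallyConstant [LocallyOfFinitePresentation f] :
    IsLocallyConstant fun v : ↥(cmOpen f).toScheme => FlatMor.fibreDimAt f v.1 := by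
  have h := L02.CMMor.isLocallyConstant_fibreDimAt ((cmOpen f).ι ≫ f) fun v =>
    (L02.CMMor.isCMAt_openImmersion_comp (cmOpen f).ι f v).2 v.2
  convert h using 2 with v
  exact (Groth.L23.fibreDimAt_etale_comp (cmOpen f).ι f v).symm

theorem eq_of_locallyConstant {g : X → WithBot ℕ∞} (V : X.Opens)
    (hg : IsLocallyConstant fun v : ↥V.toScheme => g v.1) {x x' : X} (hsp : x' ⤳ x) (hx : x ∈ V) : g x' = g x := by
  have hx' : x' ∈ V := hsp.mem_open V.2 hx
  obtain ⟨O, hO, hxO, h⟩ := hg.exists_open (⟨x, hx⟩ : ↥V.toScheme)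
  have hs : (⟨x', hx'⟩ : ↥V.toScheme) ⤳ ⟨x, hx⟩ :=
    V.ι.isOpenEmbedding.isInducing.specializes_iff.1 hsp
  exact h _ (hs.mem_open hO hxO)

theorem eq_of_specializes [Flat f] [LocallyOfFinitePresentation f] {x x' : X} (hsp : x' ⤳ x)
    (hmax : ∀ z : X, f z = f x → z ⤳ x → z = x) : FlatMor.fibreDimAt f x' = FlatMor.fibreDimAt f x :=
  eq_of_locallyConstant (g := FlatMor.fibreDimAt f) (cmOpen f) (isLocallyConstant f) hsp
    (show x ∈ cmOpen f from isCMAt_of_maximal f x hmax)

theorem isOpen_lt [Flat f] [LocallyOfFinitePresentation f] (c : WithBot ℕ∞) :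
    IsOpen {s : S | c < topologicalKrullDim (f.fiber s)} := by
  let D : Set ↥(cmOpen f).toScheme := {v | c < FlatMor.fibreDimAt f v.1}
  have hD : IsOpen D := isLocallyConstant f (Set.Ioi c)
  have e : {s : S | c < topologicalKrullDim (f.fiber s)} = f '' ((cmOpen f).ι '' D) := by
    ext s
    rw [Set.mem_setOf_eq, ← not_le, Groth.L07.FibreDim.fiber_dim_le_iff]
    push Not
    constructor
    · rintro ⟨x, rfl, hx⟩
      obtain ⟨z, -, hfz, hmax, hz⟩ := Groth.L07.OpenEquiv.exists_maximal_fdim_eq f x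
      refine ⟨z, ⟨⟨z, isCMAt_of_maximal f z hmax⟩, ?_, rfl⟩, hfz⟩
      show c < FlatMor.fibreDimAt f z
      rwa [← Groth.L07.OpenFibreDim.fdim_eq_fibreDimAt f z hmax, hz]
    · rintro ⟨_, ⟨v, hv, rfl⟩, rfl⟩
      exact ⟨v.1, rfl, hv⟩
  rw [e]
  exact f.isOpenMap _ ((cmOpen f).ι.isOpenEmbedding.isOpenMap _ hD)

theorem exists_pieces [Flat f] [LocallyOfFinitePresentation f] :
    ∃ U : ℕ → X.Opens, (∀ s : S, Dense ((f.fiberι s) ⁻¹' ((⨆ d, U d : X.Opens) : Set ↑X))) ∧
      ∀ (d : ℕ) (x : ↑X), x ∈ U d → FlatMor.fibreDimAt f x = d := by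
  let U : ℕ → X.Opens := fun d => ⟨(cmOpen f).ι '' {v | FlatMor.fibreDimAt f v.1 = (d : WithBot ℕ∞)},
    (cmOpen f).ι.isOpenEmbedding.isOpenMap _ ((isLocallyConstant f).isOpen_fiber _)⟩
  refine ⟨U, fun s => ?_, ?_⟩
  · refine (L02.CMMor.dense_cmLocus f s).mono fun z hz => ?_
    obtain ⟨d, hd⟩ := Groth.L07.OpenEquiv.exists_nat_fibreDimAt f (f.fiberι s z)
    exact TopologicalSpace.Opens.mem_iSup.mpr ⟨d, ⟨f.fiberι s z, hz⟩, hd, rfl⟩
  · rintro d _ ⟨v, hv, rfl⟩
    exact hv

end Groth.L06.CMFibreDim
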