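import Groth.Agent.L06.CompleteGRing
import Mathlib.RingTheory.RegularLocalRing.Polynomial

/-! Polynomial rings over complete Noetherian local rings are G-rings (EGA IV 7.4.4, Stacks 07PV). -/

set_option autoImplicit false
set_option maxSynthPendingDepth 3
set_option linter.style.haveILetI false
universe u

namespace Groth.L06.GRingPoly

open IsLocalRing PropLoc DerLift CompleteGRing
open scoped TensorProduct
open Polynomial (X C)

/-- generic formal fibres of the finite algebras are regular -/
def GenFib (A : Type u) [CommRing A] : Prop :=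
  ∀ (D : Type u) [CommRing D] [IsDomain D] [Algebra A D] [Module.Finite A D] (L : Type u) [Field L] [Algebra D L]
    [IsFractionRing D L] (P : Ideal D) [P.IsPrime], Loc QReg (L ⊗[D] EGA4.Cpl (Localization.AtPrime P))

theorem isGRing_of_genFib (A : Type u) [CommRing A] [IsNoetherianRing A] (hA : GenFib A) :
    CAlg.IsGRing A := by
  refine ⟨inferInstance, fun p _ => ?_⟩
  haveI : IsNoetherianRing (EGA4.Cpl (Localization.AtPrime p)) := Groth.Agent.S0543.result _ _
  haveI := NormalAscent.faithfullyFlat_cpl (Localization.AtPrime p)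
  refine ⟨inferInstance, fun q' _ => ⟨GeomLocal.isNoetherianRing_fiber q', fun L _ _ hL => ?_⟩⟩
  haveI := hL
  haveI := GeomLocal.isNoetherianRing_fibre (B := EGA4.Cpl (Localization.AtPrime p)) q' L
  refine loc_reg_iff.mp ?_
  let Ap := Localization.AtPrime p
  let q := q'.comap (algebraMap A Ap)
  let j : q.ResidueField →+* q'.ResidueField := Ideal.ResidueField.map q q' (algebraMap A Ap) rfl
  have hj : ∀ x, j (algebraMap A q.ResidueField x) = algebraMap Ap q'.ResidueField (algebraMap A Ap x) := fun x =>
    Ideal.ResidueField.map_algebraMap q q' (algebraMap A Ap) rfl x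
  have hjs : Function.Surjective j := by
    intro z
    have hmem : ∀ x : Ap, algebraMap Ap q'.ResidueField x ∈ j.fieldRange := by
      intro x
      obtain ⟨a, s, rfl⟩ := IsLocalization.exists_mk'_eq p.primeCompl x
      have hu : algebraMap Ap q'.ResidueField (algebraMap A Ap (s : A)) ≠ 0 :=
        ((IsLocalization.map_units Ap s).map _).ne_zero
      rw [show algebraMap Ap q'.ResidueField (IsLocalization.mk' Ap a s) =
          algebraMap Ap q'.ResidueField (algebraMap A Ap a) / algebraMap Ap q'.ResidueField (algebraMap A Ap s) by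
        rw [eq_div_iff hu, ← map_mul, IsLocalization.mk'_spec]]
      exact div_mem ⟨_, hj a⟩ ⟨_, hj s⟩
    obtain ⟨x, y, -, rfl⟩ := IsFractionRing.div_surjective (A := Ap ⧸ q') z
    obtain ⟨x, rfl⟩ := Ideal.Quotient.mk_surjective x
    obtain ⟨y, rfl⟩ := Ideal.Quotient.mk_surjective y
    exact div_mem (hmem x) (hmem y)
  letI : Algebra q.ResidueField q'.ResidueField := j.toAlgebra
  haveI : Module.Finite q.ResidueField q'.ResidueField := Module.Finite.of_surjective (Algebra.linearMap _ _) hjs
  letI : Algebra q.ResidueField L := ((algebraMap q'.ResidueField L).comp j).toAlgebra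
  haveI : IsScalarTower q.ResidueField q'.ResidueField L := IsScalarTower.of_algebraMap_eq' rfl
  haveI : Module.Finite q.ResidueField L := Module.Finite.trans q'.ResidueField L
  letI : Algebra Ap L := ((algebraMap q'.ResidueField L).comp (algebraMap Ap q'.ResidueField)).toAlgebra
  haveI : IsScalarTower Ap q'.ResidueField L := IsScalarTower.of_algebraMap_eq' rfl
  letI : Algebra A L := ((algebraMap Ap L).comp (algebraMap A Ap)).toAlgebra
  haveI : IsScalarTower A Ap L := IsScalarTower.of_algebraMap_eq' rfl
  haveI : IsScalarTower A q.ResidueField L := IsScalarTower.of_algebraMap_eq fun a => by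
    show algebraMap q'.ResidueField L (algebraMap Ap q'.ResidueField (algebraMap A Ap a)) = algebraMap q'.ResidueField L (j _)
    rw [hj]
  obtain ⟨D, hDfin, hDfr⟩ := FiniteDomains.exists_finite_domain q L
  letI : CommRing D := D.toCommRing
  haveI := hDfin
  haveI := hDfr
  have h := (transfer good_reg (D := D) L p).mpr fun P _ _ => hA D L P
  haveI := IsLocalization.tensorProduct_compatibleSMul p.primeCompl Ap L (EGA4.Cpl Ap)
  haveI := GeomLocal.isNoetherianRing_right (A := A) (B := EGA4.Cpl Ap) (C := D)
  let e2 : L ⊗[A] EGA4.Cpl Ap ≃+* L ⊗[q'.ResidueField] q'.Fiber (EGA4.Cpl Ap) :=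
    (Algebra.TensorProduct.equivOfCompatibleSMul A Ap A L (EGA4.Cpl Ap)).toRingEquiv.symm.trans
      (Algebra.TensorProduct.cancelBaseChange Ap q'.ResidueField q'.ResidueField L (EGA4.Cpl Ap)).toRingEquiv.symm
  haveI : IsNoetherianRing (L ⊗[A] EGA4.Cpl Ap) :=
    isNoetherianRing_of_ringEquiv (L ⊗[q'.ResidueField] q'.Fiber (EGA4.Cpl Ap)) e2.symm
  exact loc_of_ringEquiv good_reg e2 h

/-- geometric regularity of the generic fibre of an algebra to which derivations lift -/
theorem geometricallyRegular_of_lifts {T : Type u} [CommRing T] [IsDomain T] (K : Type u) [Field K] [Algebra T K]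
    [IsFractionRing T K] (E : Type u) [CommRing E] [Algebra T E] [IsRegularRing E]
    (hE : ∀ δ : Derivation ℤ T T, ∃ δ' : E →+ E, (∀ a b, δ' (a * b) = a * δ' b + b * δ' a) ∧
      ∀ t, δ' (algebraMap T E t) = algebraMap T E (δ t))
    (hT : ∀ (p : ℕ) [Fact p.Prime] [CharP T p], GenericFibre.DerSep T p) :
    CAlg.IsGeometricallyRegular K (K ⊗[T] E) := by
  letI : Algebra E (K ⊗[T] E) := Algebra.TensorProduct.rightAlgebra
  haveI : IsLocalization (Algebra.algebraMapSubmonoid E (nonZeroDivisors T)) (K ⊗[T] E) :=
    IsLocalization.tensorRight (R := T) (S := E) K (nonZeroDivisors T)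
  haveI : IsNoetherianRing (K ⊗[T] E) :=
    IsLocalization.isNoetherianRing (Algebra.algebraMapSubmonoid E (nonZeroDivisors T)) (K ⊗[T] E) inferInstance
  haveI : IsRegularRing (K ⊗[T] E) := loc_reg_iff.mp
    (loc_localization good_reg (Algebra.algebraMapSubmonoid E (nonZeroDivisors T)) (K ⊗[T] E) (loc_reg_iff.mpr inferInstance))
  obtain ⟨p, hp⟩ := ExpChar.exists K
  cases hp with
  | zero => exact GeomRegField.isGeometricallyRegular_of_charZero
  | prime hprime =>
    haveI := Fact.mk hprime
    haveI : CharP T p := (RingHom.charP_iff (algebraMap T K) (IsFractionRing.injective T K) p).mpr ‹_›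
    exact GeomRegField.isGeometricallyRegular_of_liftSep p (GenericFibre.liftSep_tensor p (fun δ => by
      obtain ⟨f, hf, hc⟩ := hE δ
      exact ⟨Derivation.mk' f.toIntLinearMap (fun a b => hf a b), hc⟩) (hT p))

theorem addHom_of_der {R : Type u} [CommRing R] {i : Algebra ℤ R} (δ : @Derivation ℤ R R _ _ _ i _ (AddCommGroup.toIntModule R)) :
    ∃ f : R →+ R, (∀ a b, f (a * b) = a * f b + b * f a) ∧ ∀ x, f x = δ x :=
  ⟨AddMonoidHom.mk' (fun x => δ x) fun a b => map_add δ a b, fun a b => δ.leibniz a b, fun _ => rfl⟩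

theorem exists_cplLocal_der {R : Type u} [CommRing R] (P : Ideal R) [P.IsPrime] (δ : Derivation ℤ R R) :
    ∃ δ' : EGA4.Cpl (Localization.AtPrime P) →+ EGA4.Cpl (Localization.AtPrime P),
      (∀ a b, δ' (a * b) = a * δ' b + b * δ' a) ∧
      ∀ r, δ' (algebraMap R _ r) = algebraMap R _ (δ r) := by
  obtain ⟨δ1, h1⟩ := CplDer.exists_localization_der P.primeCompl (Localization.AtPrime P) δ
  obtain ⟨δ2, h2⟩ := CplDer.exists_cpl_der (IsLocalRing.maximalIdeal (Localization.AtPrime P)) δ1
  obtain ⟨f, hf, hfd⟩ := addHom_of_der δ2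
  refine ⟨f, hf, fun t => ?_⟩
  rw [hfd]
  have h3 := h2 (algebraMap R (Localization.AtPrime P) t)
  rw [h1, ← IsScalarTower.algebraMap_apply, ← IsScalarTower.algebraMap_apply] at h3
  exact h3

theorem derSep_polynomial {T : Type u} [CommRing T] (p : ℕ) [Fact p.Prime] [CharP T p] (hT : GenericFibre.DerSep T p) :
    GenericFibre.DerSep (Polynomial T) p := by
  have hp : p.Prime := Fact.out
  intro b hb
  by_cases hd : Polynomial.derivative b = 0
  · obtain ⟨i, hi⟩ : ∃ i, ∀ r : T, r ^ p ≠ b.coeff i := by
      by_contra hc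
      push Not at hc
      choose r hr using hc
      refine hb (∑ i ∈ Finset.range (b.natDegree + 1), C (r i) * X ^ (i / p)) ?_
      rw [sum_pow_char p]
      conv_rhs => rw [Polynomial.as_sum_range_C_mul_X_pow b]
      refine Finset.sum_congr rfl fun i _ => ?_
      rw [mul_pow, ← map_pow, hr, ← pow_mul]
      by_cases hi : p ∣ i
      · rw [Nat.div_mul_cancel hi]
      · rw [show b.coeff i = 0 from ?_, map_zero, zero_mul, zero_mul]
        obtain ⟨k, rfl⟩ : ∃ k, i = k + 1 := ⟨i - 1, by
          have : i ≠ 0 := fun h => hi (h ▸ dvd_zero p)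
          omega⟩
        have h0 := congrArg (fun P => Polynomial.coeff P k) hd
        simp only [Polynomial.coeff_derivative, Polynomial.coeff_zero] at h0
        have hu : IsUnit ((k : T) + 1) := by
          have hco : Nat.Coprime p (k + 1) := (Nat.Prime.coprime_iff_not_dvd hp).mpr hi
          obtain ⟨u, v, huv⟩ := (Nat.isCoprime_iff_coprime.mpr hco : IsCoprime (p : ℤ) (k + 1 : ℕ))
          have := congrArg (Int.cast : ℤ → T) huv
          push_cast at this
          rw [CharP.cast_eq_zero T p, mul_zero, zero_add] at this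
          exact IsUnit.of_mul_eq_one_right (v : T) this
        exact (hu.mul_left_eq_zero).mp h0
    obtain ⟨δ, hδ⟩ := hT _ hi
    obtain ⟨D', hX, hC⟩ := DerLift.exists_polynomial_der T (D := δ)
    refine ⟨D', fun h0 => hδ ?_⟩
    have hco : ∀ (P : Polynomial T) n, (D' P).coeff n = δ (P.coeff n) := by
      intro P
      induction P using Polynomial.induction_on' with
      | add P Q hP hQ => intro n; rw [map_add, Polynomial.coeff_add, hP, hQ, Polynomial.coeff_add, map_add]
      | monomial m a =>
        intro n
        rw [← Polynomial.C_mul_X_pow_eq_monomial, D'.leibniz, D'.leibniz_pow, hX, hC, smul_zero, smul_zero, smul_zero,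
          zero_add, smul_eq_mul, Polynomial.coeff_X_pow_mul', Polynomial.coeff_C_mul_X_pow]
        split_ifs with h1 h2 h2
        · rw [h2, Nat.sub_self, Polynomial.coeff_C_zero]
        · rw [Polynomial.coeff_C_of_ne_zero (by omega), map_zero]
        · omega
        · rw [map_zero]
    exact (hco b i).symm.trans ((congrArg (fun P => Polynomial.coeff P i) h0).trans (Polynomial.coeff_zero i))
  · exact ⟨(Polynomial.derivative' (R := T)).restrictScalars ℤ, hd⟩

theorem regularRing_quotient_span {V : Type u} [CommRing V] [IsRegularRing V] (dV : Derivation ℤ V V) (h : V) (h1 : dV h = 1) :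
    IsRegularRing (V ⧸ Ideal.span {h}) := by
  refine loc_reg_iff.mp fun M' _ => ?_
  have hm : h ∈ M'.comap (Ideal.Quotient.mk (Ideal.span {h})) := by
    show Ideal.Quotient.mk _ h ∈ M'
    rw [Ideal.Quotient.eq_zero_iff_mem.mpr (Ideal.mem_span_singleton_self h)]
    exact M'.zero_mem
  haveI : (M'.comap (Ideal.Quotient.mk (Ideal.span {h}))).IsPrime := Ideal.IsPrime.comap _
  haveI : IsRegularLocalRing (Localization.AtPrime (M'.comap (Ideal.Quotient.mk (Ideal.span {h})))) :=
    IsRegularRing.isRegularLocalRing_localization _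
  exact regularLocal_quotient_span h M' (Groth.L01.regular_quotient_of_notMem_sq
    (by
      rw [← Localization.AtPrime.map_eq_maximalIdeal]
      exact Ideal.mem_map_of_mem _ hm)
    (notMem_sq_of_der _ dV hm (h1 ▸ fun h' => Ideal.IsPrime.ne_top inferInstance ((Ideal.eq_top_iff_one _).mpr h')))).1

theorem regularRing_tensor_quotient {T L E : Type u} [CommRing T] [CommRing L] [CommRing E] [Algebra T L] [Algebra T E]
    [IsRegularRing (L ⊗[T] E)] (dE : E →+ E) (hd : ∀ a b, dE (a * b) = a * dE b + b * dE a)
    (h0 : ∀ t, dE (algebraMap T E t) = 0) (θ : L) (x : E) (hx : dE x = 1) :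
    IsRegularRing ((L ⊗[T] E) ⧸ Ideal.span {(1 : L) ⊗ₜ[T] x - θ ⊗ₜ[T] (1 : E)}) := by
  obtain ⟨D, hD⟩ := exists_tensor_der (M := L) (N := E) (0 : Derivation ℤ T T) 0 (fun c => by simp)
    (Derivation.mk' dE.toIntLinearMap fun a b => hd a b) (fun c => by
      show dE _ = _
      rw [h0, Derivation.zero_apply, map_zero])
  obtain ⟨f, hf, hfd⟩ := addHom_of_der D
  refine regularRing_quotient_span (Derivation.mk' f.toIntLinearMap fun a b => hf a b) _ ?_
  show f _ = 1
  rw [map_sub, hfd, hfd, hD, hD, Derivation.zero_apply, Derivation.zero_apply, Derivation.map_one_eq_zero,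
    TensorProduct.zero_tmul, TensorProduct.zero_tmul, TensorProduct.tmul_zero, zero_add, zero_add, sub_zero]
  show (1 : L) ⊗ₜ[T] dE x = 1
  rw [hx]
  rfl

theorem exists_tensor_lift {A L E Z : Type u} [CommRing A] [CommRing L] [CommRing E] [CommRing Z] [Algebra A L] [Algebra A E]
    (gL : L →+* Z) (gE : E →+* Z) (hg : gE.comp (algebraMap A E) = gL.comp (algebraMap A L)) :
    ∃ ψ : L ⊗[A] E →+* Z, ∀ a b, ψ (a ⊗ₜ b) = gL a * gE b := by
  letI : Algebra A Z := (gL.comp (algebraMap A L)).toAlgebra
  let ψ : L ⊗[A] E →ₐ[A] Z := Algebra.TensorProduct.lift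
    { gL with commutes' := fun r => rfl } { gE with commutes' := fun r => RingHom.congr_fun hg r } fun _ _ => Commute.all _ _
  exact ⟨ψ.toRingHom, fun a b => Algebra.TensorProduct.lift_tmul ..⟩

theorem tensor_quotient_equiv {T L E : Type u} [CommRing T] [CommRing L] [CommRing E] [Algebra T L]
    [Algebra T E] [Algebra (Polynomial T) L] [Algebra (Polynomial T) E] [IsScalarTower T (Polynomial T) L]
    [IsScalarTower T (Polynomial T) E] :
    Nonempty ((L ⊗[T] E) ⧸ Ideal.span {(1 : L) ⊗ₜ[T] (algebraMap (Polynomial T) E X) - (algebraMap (Polynomial T) L X) ⊗ₜ[T] (1 : E)}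
      ≃+* L ⊗[Polynomial T] E) := by
  let h : L ⊗[T] E := (1 : L) ⊗ₜ[T] (algebraMap (Polynomial T) E X) - (algebraMap (Polynomial T) L X) ⊗ₜ[T] (1 : E)
  let π : L ⊗[T] E →ₐ[T] L ⊗[Polynomial T] E := Algebra.TensorProduct.lift
    ((Algebra.TensorProduct.includeLeft (R := Polynomial T) (S := Polynomial T) (A := L) (B := E)).restrictScalars T)
    ((Algebra.TensorProduct.includeRight (R := Polynomial T) (A := L) (B := E)).restrictScalars T) fun _ _ => Commute.all _ _
  have hπ : ∀ a b, π (a ⊗ₜ b) = a ⊗ₜ b := fun a b => by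
    refine (Algebra.TensorProduct.lift_tmul ..).trans ?_
    show (a ⊗ₜ[Polynomial T] (1 : E)) * ((1 : L) ⊗ₜ[Polynomial T] b) = _
    rw [Algebra.TensorProduct.tmul_mul_tmul, mul_one, one_mul]
  have hh : π h = 0 := by
    rw [map_sub, hπ, hπ, sub_eq_zero, Algebra.algebraMap_eq_smul_one, Algebra.algebraMap_eq_smul_one,
      TensorProduct.smul_tmul]
  let Z := (L ⊗[T] E) ⧸ Ideal.span {h}
  let gL : L →+* Z := (Ideal.Quotient.mk _).comp (Algebra.TensorProduct.includeLeft (R := T) (S := T) (A := L) (B := E)).toRingHom
  let gE : E →+* Z := (Ideal.Quotient.mk _).comp (Algebra.TensorProduct.includeRight (R := T) (A := L) (B := E)).toRingHom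
  have hg : gE.comp (algebraMap (Polynomial T) E) = gL.comp (algebraMap (Polynomial T) L) := by
    refine Polynomial.ringHom_ext (fun t => ?_) ?_
    · show Ideal.Quotient.mk _ ((1 : L) ⊗ₜ[T] algebraMap (Polynomial T) E (C t)) =
        Ideal.Quotient.mk _ (algebraMap (Polynomial T) L (C t) ⊗ₜ[T] (1 : E))
      rw [← Polynomial.algebraMap_eq, ← IsScalarTower.algebraMap_apply, ← IsScalarTower.algebraMap_apply,
        Algebra.algebraMap_eq_smul_one, Algebra.algebraMap_eq_smul_one, TensorProduct.smul_tmul]
    · exact Ideal.Quotient.eq.mpr (Ideal.mem_span_singleton_self h)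
  obtain ⟨ψ, hψ0⟩ := exists_tensor_lift gL gE hg
  have hψ : ∀ z, ψ (π z) = Ideal.Quotient.mk _ z := by
    intro z
    induction z using TensorProduct.induction_on with
    | zero => simp
    | add a b ha hb => rw [map_add, map_add, ha, hb, map_add]
    | tmul a b =>
      rw [hπ]
      rw [hψ0]
      show Ideal.Quotient.mk _ (a ⊗ₜ[T] (1 : E)) * Ideal.Quotient.mk _ ((1 : L) ⊗ₜ[T] b) = _
      rw [← map_mul, Algebra.TensorProduct.tmul_mul_tmul, mul_one, one_mul]
  have hker : Ideal.span {h} = RingHom.ker π.toRingHom := by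
    refine le_antisymm ((Ideal.span_singleton_le_iff_mem _).mpr hh) fun z hz => ?_
    rw [← Ideal.Quotient.eq_zero_iff_mem, ← hψ, show π z = 0 from hz, map_zero]
  refine ⟨(Ideal.quotEquivOfEq hker).trans (RingHom.quotientKerEquivOfSurjective (f := π.toRingHom) fun y => ?_)⟩
  induction y using TensorProduct.induction_on with
  | zero => exact ⟨0, map_zero _⟩
  | add a b ha hb =>
    obtain ⟨a', ha⟩ := ha
    obtain ⟨b', hb⟩ := hb
    exact ⟨a' + b', by rw [map_add, ha, hb]⟩
  | tmul a b => exact ⟨_, hπ a b⟩

theorem finite_over {A D L : Type u} [CommRing A] [CommRing D] [IsDomain D] [Algebra A D] [Module.Finite A D] [Field L]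
    [Algebra D L] [IsFractionRing D L] [Algebra A L] [IsScalarTower A D L] (S0 : Type u) [Field S0] [Algebra S0 L]
    [Algebra A S0] [IsScalarTower A S0 L] : Module.Finite S0 L := by
  classical
  obtain ⟨t, ht⟩ := (inferInstance : Module.Finite A D).fg_top
  let S := IntermediateField.adjoin S0 ((algebraMap D L) '' (t : Set D) : Set L)
  haveI : Algebra.IsIntegral A D := Algebra.IsIntegral.of_finite A D
  haveI : FiniteDimensional S0 S := by
    haveI : Finite ((algebraMap D L) '' (t : Set D) : Set L) := (t.finite_toSet.image _).to_subtype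
    refine IntermediateField.finiteDimensional_adjoin fun x hx => ?_
    obtain ⟨d, -, rfl⟩ := hx
    exact ((Algebra.IsIntegral.isIntegral (R := A) d).map (IsScalarTower.toAlgHom A D L)).tower_top
  have hS : S = ⊤ := eq_top_iff.mpr fun z _ => by
    have hD : ∀ d : D, algebraMap D L d ∈ S := fun d => by
      have hd : d ∈ Submodule.span A (t : Set D) := ht ▸ Submodule.mem_top
      induction hd using Submodule.span_induction with
      | mem x hx => exact IntermediateField.subset_adjoin _ _ ⟨x, hx, rfl⟩
      | zero => rw [map_zero]; exact zero_mem _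
      | add x y _ _ hx hy => rw [map_add]; exact add_mem hx hy
      | smul a x _ hx =>
        rw [Algebra.smul_def, map_mul, ← IsScalarTower.algebraMap_apply, IsScalarTower.algebraMap_apply A S0 L]
        exact mul_mem (IntermediateField.algebraMap_mem S _) hx
    obtain ⟨a, b, -, rfl⟩ := IsFractionRing.div_surjective (A := D) z
    exact div_mem (hD a) (hD b)
  exact Module.Finite.equiv (((IntermediateField.equivOfEq hS).trans IntermediateField.topEquiv).toLinearEquiv)

set_option maxHeartbeats 800000 in
theorem genFib_polynomial_base {T : Type u} [CommRing T] [IsDomain T] [IsRegularRing T]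
    (hT : ∀ (p : ℕ) [Fact p.Prime] [CharP T p], GenericFibre.DerSep T p)
    {D : Type u} [CommRing D] [IsDomain D] [Algebra (Polynomial T) D] [Module.Finite (Polynomial T) D]
    (hinj : Function.Injective ((algebraMap (Polynomial T) D).comp C))
    (L : Type u) [Field L] [Algebra D L] [IsFractionRing D L] (P : Ideal D) [P.IsPrime] :
    Loc QReg (L ⊗[D] EGA4.Cpl (Localization.AtPrime P)) := by
  haveI : IsNoetherianRing T := inferInstance
  let A := Polynomial T
  letI : Algebra A L := ((algebraMap D L).comp (algebraMap A D)).toAlgebra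
  haveI : IsScalarTower A D L := IsScalarTower.of_algebraMap_eq' rfl
  letI : Algebra T L := ((algebraMap A L).comp C).toAlgebra
  haveI : IsScalarTower T A L := IsScalarTower.of_algebraMap_eq' rfl
  have hTL : Function.Injective (algebraMap T L) := (IsFractionRing.injective D L).comp hinj
  haveI : FaithfulSMul T L := (faithfulSMul_iff_algebraMap_injective T L).mpr hTL
  let p := P.comap (algebraMap A D)
  let E := EGA4.Cpl (Localization.AtPrime p)
  suffices hreg : IsRegularRing (L ⊗[A] E) from
    (transfer good_reg L p).mp (loc_reg_iff.mpr hreg) P rfl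
  by_cases hA : Function.Injective (algebraMap A D)
  · haveI : FaithfulSMul A L := (faithfulSMul_iff_algebraMap_injective A L).mpr ((IsFractionRing.injective D L).comp hA)
    let K := FractionRing A
    letI : Algebra K L := FractionRing.liftAlgebra A L
    haveI := FractionRing.isScalarTower_liftAlgebra A L
    haveI : Module.Finite K L := finite_fractionRing (T := A) (D := D) K L
    have hTA : ∀ (q : ℕ) [Fact q.Prime] [CharP A q], GenericFibre.DerSep A q := fun q _ _ => by
      haveI : CharP T q := (RingHom.charP_iff (C : T →+* A) Polynomial.C_injective q).mpr ‹_›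
      exact derSep_polynomial q (hT q)
    haveI : IsRegularRing (L ⊗[K] (K ⊗[A] E)) := GenericFibre.geometricallyRegular p K hTA L inferInstance
    exact IsRegularRing.of_ringEquiv (R := L ⊗[K] (K ⊗[A] E)) (Algebra.TensorProduct.cancelBaseChange A K K L E).toRingEquiv
  · let K := FractionRing T
    letI : Algebra K L := FractionRing.liftAlgebra T L
    haveI := FractionRing.isScalarTower_liftAlgebra T L
    obtain ⟨g, hg0, hg⟩ : ∃ g : A, g ≠ 0 ∧ algebraMap A D g = 0 := by
      rw [injective_iff_map_eq_zero] at hA
      push Not at hA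
      obtain ⟨g, h1, h2⟩ := hA
      exact ⟨g, h2, h1⟩
    let θ : L := algebraMap A L X
    haveI : IsScalarTower T A L := IsScalarTower.of_algebraMap_eq' rfl
    have hAθ : ∀ a : A, algebraMap A L a = Polynomial.aeval θ a := fun a => by
      refine RingHom.congr_fun (Polynomial.ringHom_ext (g := (Polynomial.aeval θ).toRingHom) (fun t => ?_) ?_) a
      · show algebraMap A L (C t) = Polynomial.aeval θ (C t)
        rw [Polynomial.aeval_C]
        rfl
      · show algebraMap A L X = Polynomial.aeval θ X
        rw [Polynomial.aeval_X]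
    have hθ : IsIntegral K θ := isAlgebraic_iff_isIntegral.mp ⟨g.map (algebraMap T K),
      (Polynomial.map_ne_zero_iff (IsFractionRing.injective T K)).mpr hg0, by
        rw [Polynomial.aeval_map_algebraMap, ← hAθ, IsScalarTower.algebraMap_apply A D L, hg, map_zero]⟩
    haveI : Module.Finite K L := by
      classical
      let S0 := IntermediateField.adjoin K ({θ} : Set L)
      haveI : FiniteDimensional K S0 := IntermediateField.adjoin.finiteDimensional hθ
      have hA0 : ∀ a : A, algebraMap A L a ∈ S0 := fun a => by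
        rw [hAθ, ← Polynomial.aeval_map_algebraMap K]
        exact IntermediateField.algebra_adjoin_le_adjoin K _ (Polynomial.aeval_mem_adjoin_singleton K θ)
      letI : Algebra A S0 := ((algebraMap A L).codRestrict S0.toSubalgebra.toSubring hA0).toAlgebra
      haveI : IsScalarTower A S0 L := IsScalarTower.of_algebraMap_eq fun a => rfl
      haveI : Module.Finite S0 L := finite_over (A := A) (D := D) (L := L) S0
      exact Module.Finite.trans S0 L
    obtain ⟨δE, hδ, hδc⟩ := exists_cplLocal_der p ((Polynomial.derivative' (R := T)).restrictScalars ℤ)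
    have hWreg : CAlg.IsGeometricallyRegular K (K ⊗[T] E) := by
      haveI : IsRegularLocalRing (Localization.AtPrime p) := IsRegularRing.isRegularLocalRing_localization p
      haveI : IsRegularLocalRing E := (Groth.Agent.S0548.result (Localization.AtPrime p)).mp inferInstance
      haveI : IsRegularRing E := loc_reg_iff.mp (good_reg.loc (show QReg E from ‹IsRegularLocalRing E›))
      refine geometricallyRegular_of_lifts K E (fun δ => ?_) hT
      obtain ⟨D', -, hC⟩ := DerLift.exists_polynomial_der T (D := δ)
      obtain ⟨f, hf, hfc⟩ := exists_cplLocal_der p D'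
      refine ⟨f, hf, fun t => ?_⟩
      rw [IsScalarTower.algebraMap_apply T A E t, IsScalarTower.algebraMap_apply T A E (δ t), hfc]
      exact congrArg _ (hC t)
    haveI : IsRegularRing (L ⊗[K] (K ⊗[T] E)) := hWreg L inferInstance
    haveI : IsRegularRing (L ⊗[T] E) :=
      IsRegularRing.of_ringEquiv (R := L ⊗[K] (K ⊗[T] E)) (Algebra.TensorProduct.cancelBaseChange T K K L E).toRingEquiv
    obtain ⟨e⟩ := tensor_quotient_equiv (T := T) (L := L) (E := E)
    haveI := regularRing_tensor_quotient δE hδ (fun t => by
        rw [IsScalarTower.algebraMap_apply T A E t, hδc]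
        show algebraMap A E (Polynomial.derivative (C t)) = 0
        rw [Polynomial.derivative_C, map_zero]) θ (algebraMap A E X) (by
        rw [hδc]
        show algebraMap A E (Polynomial.derivative X) = 1
        rw [Polynomial.derivative_X, map_one]) (L := L)
    exact IsRegularRing.of_ringEquiv e

theorem genFib_polynomial (C' : Type u) [CommRing C'] [IsLocalRing C'] [IsNoetherianRing C']
    [IsAdicComplete (maximalIdeal C') C'] : GenFib (Polynomial C') := by
  intro D _ _ _ _ L _ _ _ P _
  let P₀ : Ideal C' := RingHom.ker ((algebraMap (Polynomial C') D).comp C)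
  haveI : P₀.IsPrime := RingHom.ker_isPrime _
  haveI : IsLocalRing (C' ⧸ P₀) := IsLocalRing.of_surjective' _ Ideal.Quotient.mk_surjective
  haveI := Groth.L01.NagataComplete.isAdicComplete_quotient P₀
  obtain ⟨T, _, _, _, f, hinj, hfin, hT⟩ := GenericFibre.exists_base (C' ⧸ P₀)
  let F : Polynomial T →+* D := Polynomial.eval₂RingHom ((RingHom.kerLift ((algebraMap (Polynomial C') D).comp C)).comp f)
    (algebraMap (Polynomial C') D X)
  letI : Algebra (Polynomial T) D := F.toAlgebra
  haveI : Module.Finite (Polynomial T) D := by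
    classical
    letI : Algebra T (C' ⧸ P₀) := f.toAlgebra
    haveI : Module.Finite T (C' ⧸ P₀) := hfin
    obtain ⟨s, hs⟩ := (inferInstance : Module.Finite T (C' ⧸ P₀)).fg_top
    obtain ⟨t, ht⟩ := (inferInstance : Module.Finite (Polynomial C') D).fg_top
    let κ := RingHom.kerLift ((algebraMap (Polynomial C') D).comp C)
    refine ⟨⟨(s ×ˢ t).image (fun z => κ z.1 * z.2), eq_top_iff.mpr fun d _ => ?_⟩⟩
    let M := Submodule.span (Polynomial T) (((s ×ˢ t).image (fun z => κ z.1 * z.2) : Finset D) : Set D)
    have h1 : ∀ (c : C' ⧸ P₀), ∀ v ∈ t, κ c * v ∈ M := fun c => by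
      intro v hv
      have hc : c ∈ Submodule.span T (s : Set (C' ⧸ P₀)) := hs ▸ Submodule.mem_top
      induction hc using Submodule.span_induction with
      | mem x hx => exact Submodule.subset_span (Finset.mem_image.mpr ⟨(x, v), Finset.mem_product.mpr ⟨hx, hv⟩, rfl⟩)
      | zero => rw [map_zero, zero_mul]; exact zero_mem _
      | add a b _ _ ha hb => rw [map_add, add_mul]; exact add_mem ha hb
      | smul a x _ hx =>
        rw [show κ (a • x) * v = (C a : Polynomial T) • (κ x * v) by
          show κ (f a * x) * v = F (C a) * (κ x * v)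
          rw [map_mul, mul_assoc]
          simp [F, κ]]
        exact M.smul_mem _ hx
    have h2 : ∀ (c : C') (n : ℕ), ∀ v ∈ t, algebraMap (Polynomial C') D (C c * X ^ n) * v ∈ M := fun c n v hv => by
      have : algebraMap (Polynomial C') D (C c * X ^ n) * v = (X ^ n : Polynomial T) • (κ (Ideal.Quotient.mk P₀ c) * v) := by
        show _ = F (X ^ n) * (κ (Ideal.Quotient.mk P₀ c) * v)
        rw [map_mul, map_pow, map_pow, ← mul_assoc, show κ (Ideal.Quotient.mk P₀ c) = algebraMap (Polynomial C') D (C c) from rfl,
          show F X = algebraMap (Polynomial C') D X from Polynomial.eval₂_X _ _]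
        ring
      rw [this]
      exact M.smul_mem _ (h1 _ v hv)
    have h3 : ∀ (a : Polynomial C'), ∀ v ∈ t, a • v ∈ M := fun a v hv => by
      rw [Algebra.smul_def]
      induction a using Polynomial.induction_on' with
      | add P Q hP hQ => rw [map_add, add_mul]; exact add_mem hP hQ
      | monomial n c => rw [← Polynomial.C_mul_X_pow_eq_monomial]; exact h2 c n v hv
    show d ∈ M
    have hd : d ∈ Submodule.span (Polynomial C') (t : Set D) := ht ▸ Submodule.mem_top
    obtain ⟨w, -, rfl⟩ := Submodule.mem_span_finset.mp hd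
    exact sum_mem fun v hv => h3 (w v) v hv
  refine genFib_polynomial_base hT ?_ L P
  have : (algebraMap (Polynomial T) D).comp C = (RingHom.kerLift ((algebraMap (Polynomial C') D).comp C)).comp f :=
    RingHom.ext fun t => Polynomial.eval₂_C _ _
  rw [this]
  exact (RingHom.kerLift_injective _).comp hinj

theorem isGRing_polynomial (C' : Type u) [CommRing C'] [IsLocalRing C'] [IsNoetherianRing C']
    [IsAdicComplete (maximalIdeal C') C'] : CAlg.IsGRing (Polynomial C') :=
  isGRing_of_genFib _ (genFib_polynomial C')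

end Groth.L06.GRingPoly
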