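import Groth.Agent.L06.FormSmoothHom
import Groth.Agent.L06.CompleteGRing
import Groth.Agent.L06.GenericFibre
import Groth.Agent.L06.GRingPoly
import Mathlib.RingTheory.Etale.Basic

/-! Adic formal smoothness of formal fibres. -/

set_option autoImplicit false
set_option maxSynthPendingDepth 3
set_option linter.style.haveILetI false
universe u

namespace Groth.L06.FormSmooth

open IsLocalRing PropLoc
open scoped TensorProduct

theorem adicSmooth_base_localization {A K S : Type u} [CommRing A] [CommRing K] [CommRing S] [Algebra A K]
    (M : Submonoid A) [IsLocalization M K] [Algebra A S] [Algebra K S] [IsScalarTower A K S] (𝔫 : Ideal S)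
    (h : CAlgX.IsAdicFormallySmooth A S 𝔫) : CAlgX.IsAdicFormallySmooth K S 𝔫 := by
  intro C _ _ J hJ ψ hψ
  letI : Algebra A C := ((algebraMap K C).comp (algebraMap A K)).toAlgebra
  haveI : IsScalarTower A K C := IsScalarTower.of_algebraMap_eq' rfl
  obtain ⟨χ, hχ⟩ := h C J hJ (ψ.restrictScalars A) hψ
  have h1 : χ.toRingHom.comp (algebraMap K S) = algebraMap K C := IsLocalization.ringHom_ext M (RingHom.ext fun a => by
    show χ (algebraMap K S (algebraMap A K a)) = algebraMap K C (algebraMap A K a)
    rw [← IsScalarTower.algebraMap_apply, ← IsScalarTower.algebraMap_apply, AlgHom.commutes])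
  exact ⟨AlgHom.mk χ.toRingHom (fun c => RingHom.congr_fun h1 c), AlgHom.ext fun s => DFunLike.congr_fun hχ s⟩

theorem regular_of_regular_fraction_tensor {D T L : Type u} [CommRing D] [IsDomain D] [CommRing T] [Algebra D T] [Field L]
    [Algebra D L] [IsFractionRing D L] [IsRegularRing (L ⊗[D] T)] (q : Ideal T) [q.IsPrime]
    (hq : q.comap (algebraMap D T) = ⊥) : IsRegularLocalRing (Localization.AtPrime q) := by
  letI : Algebra T (L ⊗[D] T) := Algebra.TensorProduct.rightAlgebra
  let M := Algebra.algebraMapSubmonoid T (nonZeroDivisors D)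
  haveI : IsLocalization M (L ⊗[D] T) := IsLocalization.tensorRight (R := D) (S := T) L (nonZeroDivisors D)
  have hdisj : Disjoint (M : Set T) q := by
    rw [Set.disjoint_left]
    rintro _ ⟨b, hb, rfl⟩ hbq
    have : b ∈ q.comap (algebraMap D T) := hbq
    rw [hq, Ideal.mem_bot] at this
    exact nonZeroDivisors.ne_zero hb this
  let P' := q.map (algebraMap T (L ⊗[D] T))
  haveI : P'.IsPrime := IsLocalization.isPrime_of_isPrime_disjoint M _ q inferInstance hdisj
  have hcomap : P'.comap (algebraMap T (L ⊗[D] T)) = q := IsLocalization.under_map_of_isPrime_disjoint M _ inferInstance hdisj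
  haveI : IsLocalization.AtPrime (Localization.AtPrime P') q := by
    have h1 := IsLocalization.isLocalization_isLocalization_atPrime_isLocalization M (Localization.AtPrime P') P'
    simp only [IsLocalization.AtPrime, Ideal.primeCompl, hcomap] at h1 ⊢
    exact h1
  haveI : IsRegularLocalRing (Localization.AtPrime P') := IsRegularRing.isRegularLocalRing_localization P'
  exact IsRegularLocalRing.of_ringEquiv
    (IsLocalization.algEquiv q.primeCompl (Localization.AtPrime P') (Localization.AtPrime q)).toRingEquiv

theorem formalFibre_local (A : Type u) [CommRing A] [IsLocalRing A] [IsNoetherianRing A] [IsAdicComplete (maximalIdeal A) A]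
    (p : Ideal A) [p.IsPrime]
    (q : Ideal (AdicCompletion (maximalIdeal (Localization.AtPrime p)) (Localization.AtPrime p))) [q.IsPrime] :
    letI := (Localization.localRingHom (q.comap (algebraMap (Localization.AtPrime p)
      (AdicCompletion (maximalIdeal (Localization.AtPrime p)) (Localization.AtPrime p)))) q (algebraMap _ _) rfl).toAlgebra
    CAlgX.IsAdicFormallySmooth (Localization.AtPrime (q.comap (algebraMap (Localization.AtPrime p)
      (AdicCompletion (maximalIdeal (Localization.AtPrime p)) (Localization.AtPrime p)))))
      (Localization.AtPrime q) (maximalIdeal (Localization.AtPrime q)) := by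
  haveI : IsNoetherianRing (Localization.AtPrime p) := IsLocalization.isNoetherianRing p.primeCompl _ inferInstance
  haveI := Groth.L01.AnalUnram.isNoetherianRing_completion (Localization.AtPrime p)
  exact (isRegularHom_iff_adicSmooth _ _).mp ((CompleteGRing.isGRing A).2 p) q

theorem genericFibre_charZero {A B : Type u} [CommRing A] [IsRegularLocalRing A] [CharZero A] [CommRing B] [IsDomain B]
    [Algebra A B] [Module.Finite A B] (hinj : Function.Injective (algebraMap A B)) (L : Type u) [Field L] [Algebra B L]
    [IsFractionRing B L] (P : Ideal B) [P.IsPrime] :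
    IsRegularRing (L ⊗[B] EGA4.Cpl (Localization.AtPrime P)) := by
  haveI := Groth.L01.isDomain_of_regular A
  haveI : IsRegularRing A := loc_reg_iff.mp (good_reg.loc (show QReg A from ‹IsRegularLocalRing A›))
  haveI : IsNoetherianRing B := IsNoetherianRing.of_finite A B
  letI : Algebra A L := ((algebraMap B L).comp (algebraMap A B)).toAlgebra
  haveI : IsScalarTower A B L := IsScalarTower.of_algebraMap_eq' rfl
  haveI : FaithfulSMul A L := (faithfulSMul_iff_algebraMap_injective A L).mpr ((IsFractionRing.injective B L).comp hinj)
  let K := FractionRing A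
  letI : Algebra K L := FractionRing.liftAlgebra A L
  haveI : IsScalarTower A K L := FractionRing.isScalarTower_liftAlgebra A L
  haveI : Module.Finite K L := GRingPoly.finite_over (A := A) (D := B) (L := L) K
  let p := P.comap (algebraMap A B)
  haveI : IsNoetherianRing (EGA4.Cpl (Localization.AtPrime p)) := Groth.Agent.S0543.result _ _
  haveI : IsNoetherianRing (EGA4.Cpl (Localization.AtPrime P)) := Groth.Agent.S0543.result _ _
  haveI : IsRegularRing (L ⊗[K] (K ⊗[A] EGA4.Cpl (Localization.AtPrime p))) :=
    GenericFibre.geometricallyRegular (T := A) p K (fun l hl hc => by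
      exfalso
      haveI := hc
      exact (hl.out : l.Prime).ne_zero (CharP.eq A (inferInstance : CharP A l) (CharP.ofCharZero A))) L inferInstance
  haveI : IsRegularRing (L ⊗[A] EGA4.Cpl (Localization.AtPrime p)) :=
    IsRegularRing.of_ringEquiv (Algebra.TensorProduct.cancelBaseChange A K K L (EGA4.Cpl (Localization.AtPrime p))).toRingEquiv
  haveI : IsNoetherianRing (L ⊗[B] EGA4.Cpl (Localization.AtPrime P)) := by
    letI : Algebra (EGA4.Cpl (Localization.AtPrime P)) (L ⊗[B] EGA4.Cpl (Localization.AtPrime P)) := Algebra.TensorProduct.rightAlgebra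
    haveI := IsLocalization.tensorRight (R := B) (S := EGA4.Cpl (Localization.AtPrime P)) L (nonZeroDivisors B)
    exact IsLocalization.isNoetherianRing (Algebra.algebraMapSubmonoid (EGA4.Cpl (Localization.AtPrime P)) (nonZeroDivisors B))
      _ inferInstance
  exact loc_reg_iff.mp ((CompleteGRing.transfer good_reg (A := A) (D := B) L p).mp (loc_reg_iff.mpr inferInstance) P rfl)

end Groth.L06.FormSmooth
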