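import Groth.Agent.L06.FormSmoothCrit
import Mathlib.FieldTheory.IsAlgClosed.AlgebraicClosure
import Mathlib.RingTheory.IsTensorProduct
import Mathlib.RingTheory.TensorProduct.Quotient

/-! Geometric regularity is adic formal smoothness over a field (EGA 0_IV 22.5.8). -/

set_option autoImplicit false
set_option maxSynthPendingDepth 3
set_option linter.style.haveILetI false
universe u

namespace Groth.L06.FormSmooth

open IsLocalRing
open scoped TensorProduct
open Polynomial (X C)

theorem exists_lift_tensor {A L E Z : Type u} [CommRing A] [CommRing L] [CommRing E] [CommRing Z] [Algebra A L] [Algebra A E]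
    (gL : L →+* Z) (gE : E →+* Z) (hg : gE.comp (algebraMap A E) = gL.comp (algebraMap A L)) :
    ∃ ψ : L ⊗[A] E →+* Z, ∀ a b, ψ (a ⊗ₜ b) = gL a * gE b := by
  letI : Algebra A Z := (gL.comp (algebraMap A L)).toAlgebra
  let ψ : L ⊗[A] E →ₐ[A] Z := Algebra.TensorProduct.lift
    { gL with commutes' := fun r => rfl } { gE with commutes' := fun r => RingHom.congr_fun hg r } fun _ _ => Commute.all _ _
  exact ⟨ψ.toRingHom, fun a b => Algebra.TensorProduct.lift_tmul ..⟩

/-- adjoining a `p`-th root gives a field -/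
theorem exists_root_quotient {B k' : Type u} [CommRing B] [Field k'] [Algebra k' B] (p : ℕ) [Fact p.Prime] (a : k')
    (h : IsRegularRing (AdjoinRoot ((X : Polynomial k') ^ p - C a) ⊗[k'] B)) (ha : ∀ y : k', y ^ p ≠ a) :
    IsRegularRing (Polynomial B ⧸ Ideal.span {(X : Polynomial B) ^ p - C (algebraMap k' B a)}) := by
  have hp : p.Prime := Fact.out
  let g : Polynomial k' := X ^ p - C a
  haveI : Fact (Irreducible g) := ⟨X_pow_sub_C_irreducible_of_prime hp ha⟩
  let k3 := AdjoinRoot g
  haveI : Module.Finite k' k3 := (Polynomial.monic_X_pow_sub_C a hp.ne_zero).finite_adjoinRoot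
  haveI : IsRegularRing (k3 ⊗[k'] B) := h
  let F : Polynomial B := X ^ p - C (algebraMap k' B a)
  let ev : Polynomial B →+* k3 ⊗[k'] B := Polynomial.eval₂RingHom
    (Algebra.TensorProduct.includeRight (R := k') (A := k3) (B := B)).toRingHom (AdjoinRoot.root g ⊗ₜ 1)
  have hevC : ∀ b, ev (C b) = (1 : k3) ⊗ₜ b := fun b => Polynomial.eval₂_C _ _
  have hevX : ev X = AdjoinRoot.root g ⊗ₜ 1 := Polynomial.eval₂_X _ _
  have hF : ev F = 0 := by
    show ev (X ^ p - C (algebraMap k' B a)) = 0
    rw [map_sub, map_pow, hevX, hevC, Algebra.TensorProduct.tmul_pow, one_pow, Algebra.algebraMap_eq_smul_one,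
      TensorProduct.tmul_smul, TensorProduct.smul_tmul', ← Algebra.algebraMap_eq_smul_one, ← TensorProduct.sub_tmul]
    have hr := AdjoinRoot.eval₂_root g
    simp only [g, Polynomial.eval₂_sub, Polynomial.eval₂_pow, Polynomial.eval₂_X, Polynomial.eval₂_C] at hr
    rw [show algebraMap k' k3 a = AdjoinRoot.of g a from rfl, hr, TensorProduct.zero_tmul]
  let Q := Polynomial B ⧸ Ideal.span {F}
  let π : Q →+* k3 ⊗[k'] B := Ideal.Quotient.lift _ ev fun z hz => by
    obtain ⟨w, rfl⟩ := Ideal.mem_span_singleton.mp hz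
    rw [map_mul, hF, zero_mul]
  let inclB : B →+* Q := (Ideal.Quotient.mk _).comp C
  let iR : k3 →+* Q := AdjoinRoot.lift (inclB.comp (algebraMap k' B)) (Ideal.Quotient.mk _ X) (by
    rw [Polynomial.eval₂_sub, Polynomial.eval₂_pow, Polynomial.eval₂_X, Polynomial.eval₂_C, ← map_pow]
    show Ideal.Quotient.mk _ (X ^ p) - Ideal.Quotient.mk _ (C (algebraMap k' B a)) = 0
    rw [← map_sub]
    exact Ideal.Quotient.eq_zero_iff_mem.mpr (Ideal.mem_span_singleton_self F))
  obtain ⟨ρ, hρ⟩ := exists_lift_tensor iR inclB (RingHom.ext fun x => by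
    show (inclB.comp (algebraMap k' B)) x = iR (AdjoinRoot.of g x)
    exact (AdjoinRoot.lift_of (f := g) _).symm)
  have h1 : ρ.comp π = RingHom.id Q := by
    refine Ideal.Quotient.ringHom_ext (Polynomial.ringHom_ext (fun b => ?_) ?_)
    · show ρ (ev (C b)) = Ideal.Quotient.mk _ (C b)
      rw [hevC, hρ, map_one, one_mul]
      rfl
    · show ρ (ev X) = Ideal.Quotient.mk _ X
      rw [hevX, hρ, map_one, mul_one]
      exact AdjoinRoot.lift_root _
  have hπs : Function.Surjective π := by
    intro z
    induction z using TensorProduct.induction_on with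
    | zero => exact ⟨0, map_zero _⟩
    | add a b ha hb =>
      obtain ⟨a', rfl⟩ := ha
      obtain ⟨b', rfl⟩ := hb
      exact ⟨a' + b', map_add _ _ _⟩
    | tmul c b =>
      obtain ⟨P, rfl⟩ := AdjoinRoot.mk_surjective (g := g) c
      refine ⟨Ideal.Quotient.mk _ (P.map (algebraMap k' B) * C b), ?_⟩
      show ev (P.map (algebraMap k' B) * C b) = _
      rw [map_mul, hevC]
      have : ev (P.map (algebraMap k' B)) = (AdjoinRoot.mk g P) ⊗ₜ 1 := by
        induction P using Polynomial.induction_on' with
        | add u v hu hv => rw [Polynomial.map_add, map_add, hu, hv, map_add, TensorProduct.add_tmul]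
        | monomial n c =>
          rw [Polynomial.map_monomial, ← Polynomial.C_mul_X_pow_eq_monomial, ← Polynomial.C_mul_X_pow_eq_monomial,
            map_mul, map_pow, hevX, hevC, map_mul, map_pow, AdjoinRoot.mk_X, AdjoinRoot.mk_C,
            Algebra.TensorProduct.tmul_pow, one_pow, Algebra.TensorProduct.tmul_mul_tmul, mul_one, one_mul,
            Algebra.algebraMap_eq_smul_one, TensorProduct.tmul_smul, TensorProduct.smul_tmul', Algebra.smul_def]
          rfl
      rw [this, Algebra.TensorProduct.tmul_mul_tmul, mul_one, one_mul]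
  exact IsRegularRing.of_ringEquiv (RingEquiv.ofBijective π
    ⟨Function.LeftInverse.injective (g := ρ) (fun z => RingHom.congr_fun h1 z), hπs⟩).symm

theorem addHom_of_der {S : Type u} [CommRing S] {J : Ideal S} {i : Algebra ℤ S} {M : Module ℤ (S ⧸ J)}
    (δ : @Derivation ℤ S (S ⧸ J) _ _ _ i _ M) :
    ∃ f : S →+ S ⧸ J, (∀ a b, f (a * b) = Ideal.Quotient.mk J a * f b + Ideal.Quotient.mk J b * f a) ∧ ∀ x, f x = δ x :=
  ⟨AddMonoidHom.mk' (fun x => δ x) fun a b => map_add δ a b,
    fun a b => (δ.leibniz a b).trans (by rw [Algebra.smul_def, Algebra.smul_def]; rfl), fun _ => rfl⟩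

theorem pow_eq_zero_of_leibniz {S : Type u} [CommRing S] {J : Ideal S} (δ : S →+ S ⧸ J)
    (hleib : ∀ x y, δ (x * y) = Ideal.Quotient.mk _ x * δ y + Ideal.Quotient.mk _ y * δ x) {p : ℕ} (hp : (p : S) = 0) (x : S) :
    δ (x ^ p) = 0 := by
  let D : Derivation ℤ S (S ⧸ J) := Derivation.mk' δ.toIntLinearMap fun a b => by
    rw [Algebra.smul_def, Algebra.smul_def]
    exact hleib a b
  show D (x ^ p) = 0
  rw [D.leibniz_pow, ← Nat.cast_smul_eq_nsmul S, hp, zero_smul]

theorem exists_point_derivation {A B k' : Type u} [CommRing A] [IsLocalRing A] [CommRing B] [Field k'] [Algebra A B]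
    [Module.Finite A B] [FaithfulSMul A B] [IsRegularRing B] [Algebra k' B] (p : ℕ) [Fact p.Prime] [CharP k' p] (a : k')
    (hQ : IsRegularRing (Polynomial B ⧸ Ideal.span {(X : Polynomial B) ^ p - C (algebraMap k' B a)})) :
    ∃ (S : Type u) (_ : CommRing S) (_ : IsLocalRing S) (g : B →+* S) (δ : S →+ S ⧸ maximalIdeal S ^ 2),
      (∀ x y, δ (x * y) = Ideal.Quotient.mk _ x * δ y + Ideal.Quotient.mk _ y * δ x) ∧ (∀ c, residue A c = 0 → g (algebraMap A B c) ∈ maximalIdeal S) ∧
      (∀ s, δ s ∈ (maximalIdeal S).map (Ideal.Quotient.mk (maximalIdeal S ^ 2))) ∧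
      (p : S) = 0 ∧ δ (g (algebraMap k' B a)) ≠ 0 := by
  have hp : p.Prime := Fact.out
  haveI : IsNoetherianRing B := inferInstance
  let F : Polynomial B := X ^ p - C (algebraMap k' B a)
  let Q := Polynomial B ⧸ Ideal.span {F}
  haveI : Nontrivial B := (FaithfulSMul.algebraMap_injective A B).nontrivial
  have hFm : F.Monic := Polynomial.monic_X_pow_sub_C _ hp.ne_zero
  have hdeg : F.natDegree = p := Polynomial.natDegree_X_pow_sub_C
  haveI : Nontrivial Q := by
    refine Ideal.Quotient.nontrivial_iff.mpr fun htop => ?_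
    rw [Ideal.span_singleton_eq_top] at htop
    have := hFm.eq_one_of_isUnit htop
    rw [this, Polynomial.natDegree_one] at hdeg
    exact hp.ne_zero hdeg.symm
  obtain ⟨M', hM'⟩ := Ideal.exists_maximal Q
  let M := M'.comap (Ideal.Quotient.mk (Ideal.span {F}))
  haveI : M.IsMaximal := Ideal.comap_isMaximal_of_surjective _ Ideal.Quotient.mk_surjective
  have hFM : F ∈ M := by
    show Ideal.Quotient.mk (Ideal.span {F}) F ∈ M'
    rw [Ideal.Quotient.eq_zero_iff_mem.mpr (Ideal.mem_span_singleton_self F)]
    exact zero_mem _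
  haveI : IsRegularRing (Polynomial B) := inferInstance
  let S := Localization.AtPrime M
  haveI : IsRegularLocalRing S := IsRegularRing.isRegularLocalRing_localization M
  let gP := algebraMap (Polynomial B) S
  have hSF : IsRegularLocalRing (S ⧸ Ideal.span {gP F}) := by
    have hsub : Algebra.algebraMapSubmonoid Q M.primeCompl = M'.primeCompl := by
      refine SetLike.ext fun z => ⟨?_, fun hz => ?_⟩
      · rintro ⟨b, hb, rfl⟩; exact hb
      · obtain ⟨b, rfl⟩ := Ideal.Quotient.mk_surjective z
        exact ⟨b, hz, rfl⟩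
    haveI : IsLocalization.AtPrime (S ⧸ (Ideal.span {F}).map gP) M' := by
      show IsLocalization M'.primeCompl _
      rw [← hsub]
      infer_instance
    haveI : IsRegularLocalRing (Localization.AtPrime M') := IsRegularRing.isRegularLocalRing_localization M'
    haveI : IsRegularLocalRing (S ⧸ (Ideal.span {F}).map gP) := IsRegularLocalRing.of_ringEquiv
      (IsLocalization.algEquiv M'.primeCompl (Localization.AtPrime M') (S ⧸ (Ideal.span {F}).map gP)).toRingEquiv
    exact IsRegularLocalRing.of_ringEquiv (Ideal.quotEquivOfEq (show (Ideal.span {F}).map gP = Ideal.span {gP F} by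
      rw [Ideal.map_span, Set.image_singleton]))
  haveI := Groth.L01.isDomain_of_regular S
  have hF0 : gP F ≠ 0 := by
    rw [Ne, IsLocalization.map_eq_zero_iff M.primeCompl]
    rintro ⟨⟨c, hc⟩, hcF⟩
    refine hc ?_
    rw [show c = 0 from (hFm.mul_left_eq_zero_iff).mp hcF]
    exact zero_mem _
  have hmemM : gP F ∈ maximalIdeal S := by
    rw [← Localization.AtPrime.map_eq_maximalIdeal]
    exact Ideal.mem_map_of_mem _ hFM
  letI : Algebra k' S := (gP.comp (C.comp (algebraMap k' B))).toAlgebra
  obtain ⟨δ0, hδ, hδF, hδne⟩ := exists_der_of_notMem_sq (k := k') (notMem_sq_of_regular_quotient hF0 hSF) hmemM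
  obtain ⟨δ, hleib, hδ0⟩ := addHom_of_der δ0
  simp only [← hδ0] at hδ hδne
  have hpS : (p : S) = 0 := by rw [← map_natCast (algebraMap k' S), CharP.cast_eq_zero, map_zero]
  refine ⟨S, inferInstance, inferInstance, gP.comp C, δ, hleib, fun c hc => ?_, hδ, hpS, fun h0 => hδne ?_⟩
  · haveI : Algebra.IsIntegral A B := Algebra.IsIntegral.of_finite A B
    haveI : Module.Finite B Q := hFm.finite_quotient
    haveI : Algebra.IsIntegral B Q := Algebra.IsIntegral.of_finite B Q
    have h2 : ((M'.comap (algebraMap B Q)).comap (algebraMap A B)).IsMaximal := by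
      haveI : (M'.comap (algebraMap B Q)).IsMaximal := Ideal.isMaximal_comap_of_isIntegral_of_isMaximal _
      exact Ideal.isMaximal_comap_of_isIntegral_of_isMaximal _
    have h3 : C (algebraMap A B c) ∈ M := by
      show c ∈ (M'.comap (algebraMap B Q)).comap (algebraMap A B)
      rw [IsLocalRing.eq_maximalIdeal h2]
      exact (residue_eq_zero_iff c).mp hc
    rw [← Localization.AtPrime.map_eq_maximalIdeal]
    exact Ideal.mem_map_of_mem _ h3
  · show δ (gP F) = 0
    show δ (gP (X ^ p - C (algebraMap k' B a))) = 0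
    rw [map_sub, map_pow, map_sub, pow_eq_zero_of_leibniz δ hleib hpS, zero_sub, neg_eq_zero]
    exact h0

theorem der_root_mem_span {k E : Type u} [Field k] [Field E] [Algebra k E] (p : ℕ) [Fact p.Prime] [CharP k p]
    {ι : Type u} (s : Finset ι) (a : ι → k) (α : ι → E) (hα : ∀ j ∈ s, α j ^ p = algebraMap k E (a j))
    (y : E) (hy : y ∈ Algebra.adjoin k (α '' (s : Set ι))) :
    ∃ t : k, y ^ p = algebraMap k E t ∧
      KaehlerDifferential.D ℤ k t ∈ Submodule.span k ((fun j => KaehlerDifferential.D ℤ k (a j)) '' (s : Set ι)) := by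
  haveI : CharP E p := charP_of_injective_algebraMap (algebraMap k E).injective p
  induction hy using Algebra.adjoin_induction with
  | mem x hx =>
    obtain ⟨j, hj, rfl⟩ := hx
    exact ⟨a j, hα j hj, Submodule.subset_span ⟨j, hj, rfl⟩⟩
  | algebraMap c =>
    refine ⟨c ^ p, (map_pow _ c p).symm, ?_⟩
    rw [Derivation.leibniz_pow, ← Nat.cast_smul_eq_nsmul k, CharP.cast_eq_zero, zero_smul]
    exact zero_mem _
  | add x y _ _ hx hy =>
    obtain ⟨u, hu, hu'⟩ := hx
    obtain ⟨v, hv, hv'⟩ := hy
    refine ⟨u + v, by rw [add_pow_char (p := p), hu, hv, map_add], ?_⟩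
    rw [map_add]
    exact add_mem hu' hv'
  | mul x y _ _ hx hy =>
    obtain ⟨u, hu, hu'⟩ := hx
    obtain ⟨v, hv, hv'⟩ := hy
    refine ⟨u * v, by rw [mul_pow, hu, hv, map_mul], ?_⟩
    rw [Derivation.leibniz]
    exact add_mem (Submodule.smul_mem _ _ hv') (Submodule.smul_mem _ _ hu')

set_option maxHeartbeats 1000000 in
theorem injective_diffMap_of_pRootRegular {k A : Type u} [Field k] [CommRing A] [IsLocalRing A] [Algebra k A]
    (p : ℕ) [Fact p.Prime] [CharP k p]
    (h : ∀ (k' : Type u) [Field k'] [Algebra k k'], Module.Finite k k' → (∀ x : k', x ^ p ∈ (algebraMap k k').range) →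
      IsRegularRing (k' ⊗[k] A)) : Function.Injective (diffMap k A) := by
  classical
  have hp : p.Prime := Fact.out
  obtain ⟨s, hsr, hspan, hli⟩ := exists_linearIndependent k (Set.range (KaehlerDifferential.D ℤ k))
  rw [KaehlerDifferential.span_range_derivation] at hspan
  let b : Module.Basis s k (Ω[k⁄ℤ]) := Module.Basis.mk hli (by rw [Subtype.range_coe_subtype]; exact hspan.ge)
  choose a ha using fun i : s => hsr i.2
  have hb : ∀ i, b i = KaehlerDifferential.D ℤ k (a i) := fun i => by rw [Module.Basis.mk_apply, ha]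
  let bK := Algebra.TensorProduct.basis (ResidueField A) b
  refine (injective_iff_map_eq_zero _).mpr fun z hz => ?_
  let c := bK.repr z
  have hsum : ∑ i ∈ c.support, c i ⊗ₜ[A] KaehlerDifferential.D ℤ A (algebraMap k A (a i)) = (0 : ResidueField A ⊗[A] Ω[A⁄ℤ]) := by
    have h1 := congrArg (diffMap k A) (bK.linearCombination_repr z)
    rw [Finsupp.linearCombination_apply, Finsupp.sum, map_sum, hz] at h1
    rw [← h1]
    refine Finset.sum_congr rfl fun i _ => ?_
    rw [map_smul, Algebra.TensorProduct.basis_apply, hb, diffMap_tmul, TensorProduct.smul_tmul', smul_eq_mul, mul_one]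
  suffices hc : ∀ i ∈ c.support, c i = 0 by
    have : c = 0 := Finsupp.ext fun i => by
      by_contra hi
      exact hi (hc i (Finsupp.mem_support_iff.mpr hi))
    exact bK.repr.injective (by rw [map_zero]; exact this)
  intro i0 hi0
  let Ω' := AlgebraicClosure k
  haveI : CharP Ω' p := charP_of_injective_algebraMap (algebraMap k Ω').injective p
  let α : s → Ω' := fun j => (IsAlgClosed.exists_pow_nat_eq (algebraMap k Ω' (a j)) hp.pos).choose
  have hα : ∀ j, α j ^ p = algebraMap k Ω' (a j) := fun j =>
    (IsAlgClosed.exists_pow_nat_eq (algebraMap k Ω' (a j)) hp.pos).choose_spec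
  let k2 := IntermediateField.adjoin k (α '' ((c.support.erase i0 : Finset s) : Set s))
  haveI : FiniteDimensional k k2 := by
    haveI : Finite (α '' ((c.support.erase i0 : Finset s) : Set s)) := ((Finset.finite_toSet _).image _).to_subtype
    exact IntermediateField.finiteDimensional_adjoin fun x _ => Algebra.IsIntegral.isIntegral x
  haveI : CharP k2 p := charP_of_injective_algebraMap (algebraMap k k2).injective p
  have hmem : ∀ y : k2, (y : Ω') ∈ Algebra.adjoin k (α '' ((c.support.erase i0 : Finset s) : Set s)) := fun y => by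
    have := y.2
    rw [← IntermediateField.mem_toSubalgebra, IntermediateField.adjoin_toSubalgebra_of_isAlgebraic
      (fun x _ => (Algebra.IsIntegral.isIntegral x).isAlgebraic)] at this
    exact this
  have hpow : ∀ y : k2, ∃ t : k, y ^ p = algebraMap k k2 t := fun y => by
    obtain ⟨t, ht, -⟩ := der_root_mem_span p _ a α (fun j _ => hα j) (y : Ω') (hmem y)
    exact ⟨t, Subtype.ext (by push_cast; exact ht)⟩
  have hnot : ∀ y : k2, y ^ p ≠ algebraMap k k2 (a i0) := by
    intro y hy
    have hy' := hmem y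
    obtain ⟨t, ht, hts⟩ := der_root_mem_span p _ a α (fun j _ => hα j) (y : Ω') hy'
    have hta : t = a i0 := (algebraMap k Ω').injective (ht.symm.trans (congrArg Subtype.val hy))
    rw [hta, ← hb, show (fun j => KaehlerDifferential.D ℤ k (a j)) = b from funext fun j => (hb j).symm] at hts
    exact (b.linearIndependent.notMem_span_image (Finset.notMem_erase i0 c.support)) hts
  let A2 := A ⊗[k] k2
  let e := Algebra.TensorProduct.comm k k2 A
  haveI : IsRegularRing (k2 ⊗[k] A) := h k2 inferInstance fun y => (hpow y).imp fun t ht => ht.symm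
  haveI : IsRegularRing A2 := IsRegularRing.of_ringEquiv e.toRingEquiv
  letI : Algebra k2 A2 := (Algebra.TensorProduct.includeRight (R := k) (A := A) (B := k2)).toRingHom.toAlgebra
  have hreg : IsRegularRing (AdjoinRoot ((X : Polynomial k2) ^ p - C (algebraMap k k2 (a i0))) ⊗[k2] A2) := by
    let g : Polynomial k2 := X ^ p - C (algebraMap k k2 (a i0))
    haveI : Fact (Irreducible g) := ⟨X_pow_sub_C_irreducible_of_prime hp hnot⟩
    let L := AdjoinRoot g
    haveI : Module.Finite k2 L := (Polynomial.monic_X_pow_sub_C _ hp.ne_zero).finite_adjoinRoot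
    haveI : Module.Finite k L := Module.Finite.trans k2 L
    haveI : CharP L p := charP_of_injective_algebraMap (algebraMap k2 L).injective p
    have hL : ∀ z : L, z ^ p ∈ (algebraMap k L).range := by
      intro z
      obtain ⟨P, rfl⟩ := AdjoinRoot.mk_surjective (g := g) z
      induction P using Polynomial.induction_on' with
      | add u v hu hv => rw [map_add, add_pow_char (p := p)]; exact add_mem hu hv
      | monomial n c =>
        obtain ⟨t, ht⟩ := hpow c
        have hr : AdjoinRoot.root g ^ p = algebraMap k L (a i0) := by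
          have hr := AdjoinRoot.eval₂_root g
          simp only [g, Polynomial.eval₂_sub, Polynomial.eval₂_pow, Polynomial.eval₂_X, Polynomial.eval₂_C, sub_eq_zero] at hr
          exact hr
        rw [← Polynomial.C_mul_X_pow_eq_monomial, map_mul, map_pow, AdjoinRoot.mk_X, AdjoinRoot.mk_C, mul_pow, ← map_pow,
          ← pow_mul, mul_comm n p, pow_mul, hr, ← map_pow, ht]
        exact mul_mem ⟨t, rfl⟩ ⟨a i0 ^ n, rfl⟩
    haveI := h L inferInstance hL
    let e' : k2 ⊗[k] A ≃ₐ[k2] A2 :=
      { e.toRingEquiv with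
        commutes' := fun x => by
          show e (x ⊗ₜ 1) = _
          rfl }
    exact IsRegularRing.of_ringEquiv (R := L ⊗[k] A)
      ((Algebra.TensorProduct.cancelBaseChange k k2 k2 L A).symm.toRingEquiv.trans
        (Algebra.TensorProduct.congr (AlgEquiv.refl : L ≃ₐ[k2] L) e').toRingEquiv)
  haveI : Module.Finite A A2 := inferInstance
  haveI : FaithfulSMul A A2 := (faithfulSMul_iff_algebraMap_injective A A2).mpr
    (Algebra.TensorProduct.includeLeft_injective (S := k) (A := A) (B := k2) (algebraMap k k2).injective)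
  obtain ⟨S, i1, i2, g, δ, hleib, hgm, hδm, hpS, hδa⟩ :=
    exists_point_derivation (A := A) p (algebraMap k k2 (a i0))
      (exists_root_quotient p _ hreg hnot)
  let h' : A →+* S := g.comp (algebraMap A A2)
  have hak : ∀ x : k, algebraMap k2 A2 (algebraMap k k2 x) = algebraMap A A2 (algebraMap k A x) := fun x => by
    show (1 : A) ⊗ₜ[k] algebraMap k k2 x = algebraMap k A x ⊗ₜ[k] (1 : k2)
    rw [Algebra.algebraMap_eq_smul_one, Algebra.algebraMap_eq_smul_one, TensorProduct.smul_tmul]
  let M1 := (maximalIdeal S).map (Ideal.Quotient.mk (maximalIdeal S ^ 2))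
  have hM1 : ∀ u ∈ M1, ∀ v ∈ M1, u * v = 0 := fun u hu v hv => by
    have := Ideal.mul_mem_mul hu hv
    rwa [← pow_two, ← Ideal.map_pow, Ideal.map_quotient_self, Ideal.mem_bot] at this
  letI : Module A M1 := Module.compHom M1 ((Ideal.Quotient.mk (maximalIdeal S ^ 2)).comp h')
  have hsm : ∀ (x : A) (v : M1), ((x • v : M1) : S ⧸ maximalIdeal S ^ 2) = Ideal.Quotient.mk (maximalIdeal S ^ 2) (h' x) * (v : S ⧸ maximalIdeal S ^ 2) := fun _ _ => rfl
  have htors : Module.IsTorsionBySet A M1 (maximalIdeal A : Ideal A) := fun v ⟨x, hx⟩ => Subtype.ext (by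
    rw [hsm]
    exact hM1 _ (Ideal.mem_map_of_mem _ (hgm x ((residue_eq_zero_iff x).mpr hx))) _ v.2)
  letI : Module (ResidueField A) M1 := htors.module
  haveI : IsScalarTower A (ResidueField A) M1 := htors.isScalarTower
  let D' : Derivation ℤ A M1 := Derivation.mk'
    (AddMonoidHom.mk' (fun x => (⟨δ (h' x), hδm _⟩ : M1)) (fun x y => Subtype.ext (by simp))).toIntLinearMap
    (fun x y => Subtype.ext (by
      show δ (h' (x * y)) = ((x • (⟨δ (h' y), hδm _⟩ : M1) + y • (⟨δ (h' x), hδm _⟩ : M1) : M1) : S ⧸ maximalIdeal S ^ 2)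
      rw [Submodule.coe_add, hsm, hsm, map_mul, hleib]))
  let G := LinearMap.liftBaseChange (ResidueField A) D'.liftKaehlerDifferential
  have h1 := congrArg G hsum
  rw [map_sum, map_zero] at h1
  have hD0 : ∀ j ∈ c.support, j ≠ i0 → D' (algebraMap k A (a j)) = 0 := fun j hj hne => Subtype.ext (by
    show δ (g (algebraMap A A2 (algebraMap k A (a j)))) = 0
    let β : k2 := ⟨α j, IntermediateField.subset_adjoin _ _ ⟨j, Finset.mem_erase.mpr ⟨hne, hj⟩, rfl⟩⟩
    have hβ : algebraMap k k2 (a j) = β ^ p := Subtype.ext (hα j).symm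
    rw [← hak, hβ, map_pow, map_pow]
    exact pow_eq_zero_of_leibniz δ hleib hpS _)
  rw [Finset.sum_eq_single i0 (fun j hj hne => by
    show LinearMap.liftBaseChange _ _ _ = 0
    rw [LinearMap.liftBaseChange_tmul, Derivation.liftKaehlerDifferential_comp_D, hD0 j hj hne, smul_zero])
    (fun hn => absurd hi0 hn)] at h1
  change LinearMap.liftBaseChange _ _ _ = _ at h1
  rw [LinearMap.liftBaseChange_tmul, Derivation.liftKaehlerDifferential_comp_D] at h1
  refine (smul_eq_zero.mp h1).resolve_right fun h0 => hδa ?_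
  have := congrArg Subtype.val h0
  rw [hak]
  exact this

theorem injective_diffMap_of_geometricallyRegular {k A : Type u} [Field k] [CommRing A] [IsLocalRing A] [Algebra k A]
    (p : ℕ) [Fact p.Prime] [CharP k p] (h : CAlg.IsGeometricallyRegular k A) : Function.Injective (diffMap k A) :=
  injective_diffMap_of_pRootRegular p fun k' _ _ hf _ => h k' hf

theorem adicSmooth_iff_geometricallyRegular (k A : Type u) [Field k] [CommRing A] [IsLocalRing A] [IsNoetherianRing A]
    [Algebra k A] : CAlgX.IsAdicFormallySmooth k A (maximalIdeal A) ↔ CAlg.IsGeometricallyRegular k A := by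
  refine ⟨isGeometricallyRegular_of_adicSmooth, fun h => ?_⟩
  haveI : IsRegularRing (k ⊗[k] A) := h k inferInstance
  haveI : IsRegularRing A := IsRegularRing.of_ringEquiv (Algebra.TensorProduct.lid k A).toRingEquiv
  haveI : IsRegularLocalRing A := IsRegularLocalRing.of_isRegularRing_of_isLocalRing A
  obtain ⟨q, hq⟩ := ExpChar.exists k
  cases hq with
  | zero =>
    haveI : Algebra.FormallySmooth k (ResidueField A) := Groth.L03.FieldFS.formallySmooth_of_perfectField k _
    exact adicSmooth_of_regular
  | prime hprime =>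
    haveI := Fact.mk hprime
    haveI := formallySmooth_bot_field k (ResidueField A)
    exact adicSmooth_of_injective_diffMap adicSmooth_of_regular (injective_diffMap_of_geometricallyRegular q h)

end Groth.L06.FormSmooth
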