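import Groth.Agent.L06.FormSmoothAdic
import Mathlib.RingTheory.Kaehler.Basic
import Mathlib.Algebra.TrivSqZeroExt.Basic
import Mathlib.Algebra.Module.Projective
import Mathlib.LinearAlgebra.FreeModule.Basic

/-! Derivations and formal smoothness for adic topologies. -/

set_option autoImplicit false
set_option maxSynthPendingDepth 3
set_option linter.style.haveILetI false
universe u

namespace Groth.L06.FormSmoothAdic

open scoped TensorProduct

theorem der_kills {A B W : Type u} [CommRing A] [CommRing B] [Algebra A B] [AddCommGroup W] [Module A W] [Module B W]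
    (D : Derivation A B W) {I : Ideal B} (hI : ∀ x ∈ I, ∀ w : W, x • w = 0) : ∀ x ∈ I * I, D x = 0 := fun x hx => by
  refine Submodule.mul_induction_on hx (fun a ha b hb => ?_) (fun a b ha hb => by rw [map_add, ha, hb, add_zero])
  rw [D.leibniz, hI a ha, hI b hb, add_zero]

/-- derivations lift along surjections of modules killed by an open ideal -/
theorem exists_der_lift {A B R V W : Type u} [CommRing A] [CommRing B] [Algebra A B] [CommRing R] [Algebra B R]
    [Algebra A R] [IsScalarTower A B R] [AddCommGroup V] [AddCommGroup W] [Module R V] [Module R W] [Module B V]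
    [Module B W] [Module A V] [Module A W] [IsScalarTower B R V] [IsScalarTower B R W] [IsScalarTower A R V]
    [IsScalarTower A R W] {𝔞 : Ideal A} {𝔟 : Ideal B} (hAB : ∃ k : ℕ, (𝔞 ^ k).map (algebraMap A B) ≤ 𝔟)
    (h : EGA41.IsFormallySmoothAdic A 𝔞 B 𝔟) {n : ℕ} (hn : ∀ x ∈ 𝔟 ^ n, algebraMap B R x = 0)
    (g : V →ₗ[R] W) (hg : Function.Surjective g) (D : Derivation A B W) :
    ∃ D' : Derivation A B V, ∀ b, g (D' b) = D b := by
  letI : Module Rᵐᵒᵖ V := Module.compHom V ((RingHom.id R).fromOpposite mul_comm)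
  haveI : IsCentralScalar R V := ⟨fun _ _ => rfl⟩
  letI : Module Rᵐᵒᵖ W := Module.compHom W ((RingHom.id R).fromOpposite mul_comm)
  haveI : IsCentralScalar R W := ⟨fun _ _ => rfl⟩
  letI : Algebra A (TrivSqZeroExt R V) := ((TrivSqZeroExt.inlHom R V).comp (algebraMap A R)).toAlgebra
  letI : Algebra A (TrivSqZeroExt R W) := ((TrivSqZeroExt.inlHom R W).comp (algebraMap A R)).toAlgebra
  let q : (TrivSqZeroExt R V) →ₐ[A] (TrivSqZeroExt R W) :=
    { toFun := fun z => TrivSqZeroExt.inl z.fst + TrivSqZeroExt.inr (g z.snd)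
      map_one' := by ext <;> simp
      map_mul' := fun x y => by ext <;> simp [op_smul_eq_smul]
      map_zero' := by ext <;> simp
      map_add' := fun x y => by ext <;> simp
      commutes' := fun a => by
        show TrivSqZeroExt.inl (algebraMap A R a) + TrivSqZeroExt.inr (g 0) = TrivSqZeroExt.inl (algebraMap A R a)
        simp }
  have hq : Function.Surjective q := fun z => by
    obtain ⟨v, hv⟩ := hg z.snd
    exact ⟨TrivSqZeroExt.inl z.fst + TrivSqZeroExt.inr v, TrivSqZeroExt.ext (by simp [q]) (by simp [q, hv])⟩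
  let J : Ideal (TrivSqZeroExt R V) := RingHom.ker q.toRingHom
  have hJ : IsNilpotent J := ⟨2, by
    rw [Submodule.zero_eq_bot, pow_two, eq_bot_iff, Ideal.mul_le]
    intro x hx y hy
    have hx1 : x.fst = 0 := by simpa [q] using congrArg TrivSqZeroExt.fst (show q x = 0 from hx)
    have hy1 : y.fst = 0 := by simpa [q] using congrArg TrivSqZeroExt.fst (show q y = 0 from hy)
    rw [Ideal.mem_bot]
    ext <;> simp [hx1, hy1, op_smul_eq_smul]⟩
  let w : B →ₐ[A] (TrivSqZeroExt R W) :=
    { toFun := fun b => TrivSqZeroExt.inl (algebraMap B R b) + TrivSqZeroExt.inr (D b)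
      map_one' := by ext <;> simp [D.map_one_eq_zero]
      map_mul' := fun x y => by
        ext
        · simp
        · simp [D.leibniz, op_smul_eq_smul, algebraMap_smul]
      map_zero' := by ext <;> simp
      map_add' := fun x y => by ext <;> simp
      commutes' := fun a => by
        show TrivSqZeroExt.inl (algebraMap B R (algebraMap A B a)) + TrivSqZeroExt.inr (D (algebraMap A B a)) =
          TrivSqZeroExt.inl (algebraMap A R a)
        rw [D.map_algebraMap, ← IsScalarTower.algebraMap_apply]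
        simp }
  obtain ⟨k, hk⟩ := hAB
  let e := Ideal.quotientKerAlgEquivOfSurjective (f := q) hq
  obtain ⟨χ, hχ⟩ := h (TrivSqZeroExt R V) J hJ ⟨k * n, le_bot_iff.mp (Ideal.map_le_iff_le_comap.mpr fun a ha => by
      show algebraMap A (TrivSqZeroExt R V) a ∈ (⊥ : Ideal (TrivSqZeroExt R V))
      have h1 : algebraMap A B a ∈ 𝔟 ^ n := Ideal.pow_right_mono hk n (by
        rw [← Ideal.map_pow, ← pow_mul]
        exact Ideal.mem_map_of_mem _ ha)
      rw [Ideal.mem_bot]
      show TrivSqZeroExt.inl (algebraMap A R a) = (0 : (TrivSqZeroExt R V))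
      rw [IsScalarTower.algebraMap_apply A B R, hn _ h1]
      rfl)⟩ (e.symm.toAlgHom.comp w) ⟨n + n, fun x hx => by
    show e.symm (w x) = 0
    rw [show w x = 0 from ?_, map_zero]
    show TrivSqZeroExt.inl (algebraMap B R x) + TrivSqZeroExt.inr (D x) = (0 : (TrivSqZeroExt R W))
    rw [hn x (Ideal.pow_le_pow_right (Nat.le_add_right n n) hx),
      der_kills D (I := 𝔟 ^ n) (fun y hy w => by rw [← algebraMap_smul R y w, hn y hy, zero_smul]) x (pow_add 𝔟 n n ▸ hx)]
    simp⟩
  have hqχ : ∀ b, q (χ b) = w b := fun b => by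
    have h1 : Ideal.Quotient.mk J (χ b) = e.symm (w b) := DFunLike.congr_fun hχ b
    have h2 := congrArg e h1
    rw [AlgEquiv.apply_symm_apply] at h2
    exact h2
  have hfst : ∀ b, (χ b).fst = algebraMap B R b := fun b => by simpa [q, w] using congrArg TrivSqZeroExt.fst (hqχ b)
  refine ⟨Derivation.mk'
    { toFun := fun b => (χ b).snd
      map_add' := fun x y => by simp
      map_smul' := fun a b => by
        show (χ (a • b)).snd = a • (χ b).snd
        rw [Algebra.smul_def, map_mul, AlgHom.commutes]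
        show ((TrivSqZeroExt.inl (algebraMap A R a) : TrivSqZeroExt R V) * χ b).snd = _
        simp [algebraMap_smul] } fun x y => ?_, fun b => ?_⟩
  · show (χ (x * y)).snd = x • (χ y).snd + y • (χ x).snd
    rw [map_mul, TrivSqZeroExt.snd_mul, hfst, hfst, op_smul_eq_smul, algebraMap_smul, algebraMap_smul]
  · show g (χ b).snd = D b
    simpa [q, w] using congrArg TrivSqZeroExt.snd (hqχ b)

theorem projective_kaehler {A B : Type u} [CommRing A] [CommRing B] [Algebra A B] {𝔞 : Ideal A} {𝔟 : Ideal B}
    (hAB : ∃ k : ℕ, (𝔞 ^ k).map (algebraMap A B) ≤ 𝔟) (h : EGA41.IsFormallySmoothAdic A 𝔞 B 𝔟) (𝔄 : Ideal B)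
    (h𝔄 : ∃ n : ℕ, 𝔟 ^ n ≤ 𝔄) : Module.Projective (B ⧸ 𝔄) ((B ⧸ 𝔄) ⊗[B] Ω[B⁄A]) := by
  let R := B ⧸ 𝔄
  let P := R ⊗[B] Ω[B⁄A]
  obtain ⟨n, hn⟩ := h𝔄
  let g : (P →₀ R) →ₗ[R] P := Finsupp.linearCombination R id
  have hg : Function.Surjective g := fun p => ⟨Finsupp.single p 1, by simp [g]⟩
  let D : Derivation A B P := ((TensorProduct.mk B R (Ω[B⁄A])) 1).compDer (KaehlerDifferential.D A B)
  obtain ⟨D', hD'⟩ := exists_der_lift (R := R) hAB h (n := n)
    (fun x hx => Ideal.Quotient.eq_zero_iff_mem.mpr (hn hx)) g hg D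
  refine Module.Projective.of_split (LinearMap.liftBaseChange R D'.liftKaehlerDifferential) g ?_
  refine TensorProduct.AlgebraTensorModule.curry_injective (LinearMap.ext_ring (LinearMap.ext fun ω => ?_))
  show g (LinearMap.liftBaseChange R D'.liftKaehlerDifferential (1 ⊗ₜ ω)) = 1 ⊗ₜ ω
  rw [LinearMap.liftBaseChange_tmul, one_smul]
  have hω : ω ∈ Submodule.span B (Set.range (KaehlerDifferential.D A B)) := by
    rw [KaehlerDifferential.span_range_derivation]; trivial
  induction hω using Submodule.span_induction with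
  | mem x hx => obtain ⟨b, rfl⟩ := hx; rw [Derivation.liftKaehlerDifferential_comp_D]; exact hD' b
  | zero => simp
  | add x y _ _ hx hy => rw [map_add, map_add, hx, hy, TensorProduct.tmul_add]
  | smul c x _ hx =>
    rw [map_smul, ← algebraMap_smul R c, map_smul, hx, algebraMap_smul, TensorProduct.tmul_smul]

end Groth.L06.FormSmoothAdic
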