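import Groth.Agent.L06.FormSmoothAdic
import Groth.Agent.L06.FormSmoothDer
import Mathlib.RingTheory.Kaehler.Basic
import Mathlib.RingTheory.Smooth.Basic
import Mathlib.LinearAlgebra.TensorProduct.RightExactness
import Mathlib.Algebra.TrivSqZeroExt.Basic

/-! The differential criterion for adic formal smoothness relative to a base `A` over `Λ`. -/

set_option autoImplicit false
set_option maxSynthPendingDepth 3
set_option linter.style.haveILetI false
universe u

namespace Groth.L06.FormSmoothAdic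

open scoped TensorProduct
open KaehlerDifferential (mapBaseChange)

variable {Λ A B : Type u} [CommRing Λ] [CommRing A] [CommRing B] [Algebra Λ A] [Algebra A B] [Algebra Λ B]
  [IsScalarTower Λ A B]

theorem isFormallySmoothAdic_of_formallySmooth [Algebra.FormallySmooth Λ A] :
    EGA41.IsFormallySmoothAdic Λ ⊥ A ⊥ := fun _ _ _ J hJ _ u _ =>
  ⟨Algebra.FormallySmooth.lift J hJ u, Algebra.FormallySmooth.comp_lift J hJ u⟩

theorem restrictScalars_adicSmooth [Algebra.FormallySmooth Λ A] (J : Ideal B) (h : CAlgX.IsAdicFormallySmooth A B J) :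
    CAlgX.IsAdicFormallySmooth Λ B J :=
  (calgx_iff J).mpr (trans (𝔟 := (⊥ : Ideal A)) ⟨1, by rw [pow_one, Ideal.map_bot]; exact bot_le⟩
    isFormallySmoothAdic_of_formallySmooth ((calgx_iff J).mp h))

set_option maxHeartbeats 800000 in
/-- derivations of the base extend along adically formally smooth maps -/
theorem injective_of_adicSmooth (J : Ideal B) (h : CAlgX.IsAdicFormallySmooth A B J) :
    Function.Injective ((mapBaseChange Λ A B).lTensor (B ⧸ J)) := by
  haveI : IsCentralScalar (B ⧸ J) ((B ⧸ J) ⊗[B] (B ⊗[A] Ω[A⁄Λ])) := ⟨fun c z => by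
    induction z using TensorProduct.induction_on with
    | zero => rw [smul_zero, smul_zero]
    | add x y hx hy => rw [smul_add, smul_add, hx, hy]
    | tmul r w => rw [TensorProduct.smul_tmul', TensorProduct.smul_tmul', op_smul_eq_smul]⟩
  let D0 : A → ((B ⧸ J) ⊗[B] (B ⊗[A] Ω[A⁄Λ])) := fun a => 1 ⊗ₜ (1 ⊗ₜ KaehlerDifferential.D Λ A a)
  have hsmul : ∀ (a : A) (w : Ω[A⁄Λ]),
      (1 : (B ⧸ J)) ⊗ₜ[B] ((1 : B) ⊗ₜ[A] (a • w)) = algebraMap A (B ⧸ J) a • ((1 : (B ⧸ J)) ⊗ₜ[B] ((1 : B) ⊗ₜ[A] w)) := fun a w => by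
    rw [TensorProduct.tmul_smul, ← algebraMap_smul B a ((1 : B) ⊗ₜ[A] w), TensorProduct.tmul_smul,
      IsScalarTower.algebraMap_apply A B (B ⧸ J), algebraMap_smul]
    exact (algebraMap_smul B a _).symm
  have hD0 : ∀ a a', D0 (a * a') = algebraMap A (B ⧸ J) a • D0 a' + algebraMap A (B ⧸ J) a' • D0 a := fun a a' => by
    simp only [D0, Derivation.leibniz, TensorProduct.tmul_add, hsmul]
  let f : A →+* TrivSqZeroExt (B ⧸ J) ((B ⧸ J) ⊗[B] (B ⊗[A] Ω[A⁄Λ])) :=
    { toFun := fun a => TrivSqZeroExt.inl (algebraMap A (B ⧸ J) a) + TrivSqZeroExt.inr (D0 a)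
      map_one' := by ext <;> simp [D0]
      map_mul' := fun x y => by ext <;> simp [hD0, op_smul_eq_smul]
      map_zero' := by ext <;> simp [D0]
      map_add' := fun x y => by ext <;> simp [D0, TensorProduct.tmul_add] }
  letI : Algebra A (TrivSqZeroExt (B ⧸ J) ((B ⧸ J) ⊗[B] (B ⊗[A] Ω[A⁄Λ]))) := f.toAlgebra
  let q : TrivSqZeroExt (B ⧸ J) ((B ⧸ J) ⊗[B] (B ⊗[A] Ω[A⁄Λ])) →ₐ[A] (B ⧸ J) :=
    AlgHom.mk (TrivSqZeroExt.fstHom (B ⧸ J) (B ⧸ J) ((B ⧸ J) ⊗[B] (B ⊗[A] Ω[A⁄Λ]))).toRingHom fun a => by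
      show (TrivSqZeroExt.inl (algebraMap A (B ⧸ J) a) + TrivSqZeroExt.inr (D0 a) : TrivSqZeroExt (B ⧸ J) ((B ⧸ J) ⊗[B] (B ⊗[A] Ω[A⁄Λ]))).fst = _
      simp
  have hq : Function.Surjective q := fun r => ⟨TrivSqZeroExt.inl r, rfl⟩
  let K : Ideal (TrivSqZeroExt (B ⧸ J) ((B ⧸ J) ⊗[B] (B ⊗[A] Ω[A⁄Λ]))) := RingHom.ker q.toRingHom
  have hK : K ^ 2 = ⊥ := by
    rw [pow_two, eq_bot_iff, Ideal.mul_le]
    intro x hx y hy
    have hx1 : x.fst = 0 := hx
    have hy1 : y.fst = 0 := hy
    rw [Ideal.mem_bot]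
    ext <;> simp [hx1, hy1, op_smul_eq_smul]
  let e := Ideal.quotientKerAlgEquivOfSurjective (f := q) hq
  obtain ⟨χ, hχ⟩ := h (TrivSqZeroExt (B ⧸ J) ((B ⧸ J) ⊗[B] (B ⊗[A] Ω[A⁄Λ]))) K hK (e.symm.toAlgHom.comp (Ideal.Quotient.mkₐ A J)) ⟨1, fun x hx => by
    rw [pow_one] at hx
    show e.symm (Ideal.Quotient.mk J x) = 0
    rw [Ideal.Quotient.eq_zero_iff_mem.mpr hx, map_zero]⟩
  have hfst : ∀ b, (χ b).fst = Ideal.Quotient.mk J b := fun b => by
    have h1 : Ideal.Quotient.mk K (χ b) = e.symm (Ideal.Quotient.mk J b) := DFunLike.congr_fun hχ b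
    have h2 := congrArg e h1
    rw [AlgEquiv.apply_symm_apply] at h2
    exact h2
  have hχA : ∀ a, (χ (algebraMap A B a)).snd = D0 a := fun a => by
    rw [AlgHom.commutes]
    show (TrivSqZeroExt.inl (algebraMap A (B ⧸ J) a) + TrivSqZeroExt.inr (D0 a) : TrivSqZeroExt (B ⧸ J) ((B ⧸ J) ⊗[B] (B ⊗[A] Ω[A⁄Λ]))).snd = _
    simp
  have hmul : ∀ x y, (χ (x * y)).snd = x • (χ y).snd + y • (χ x).snd := fun x y => by
    rw [map_mul, TrivSqZeroExt.snd_mul, hfst, hfst, op_smul_eq_smul]
    exact congrArg₂ (· + ·) (algebraMap_smul (B ⧸ J) x _) (algebraMap_smul (B ⧸ J) y _)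
  let δ : B →+ ((B ⧸ J) ⊗[B] (B ⊗[A] Ω[A⁄Λ])) :=
    { toFun := fun b => (χ b).snd
      map_zero' := by simp
      map_add' := fun x y => by simp }
  have hΛ : ∀ l : Λ, δ (algebraMap Λ B l) = 0 := fun l => by
    show (χ _).snd = 0
    rw [IsScalarTower.algebraMap_apply Λ A B, hχA]
    simp [D0]
  let D : Derivation Λ B ((B ⧸ J) ⊗[B] (B ⊗[A] Ω[A⁄Λ])) := Derivation.mk'
    { toFun := δ
      map_add' := map_add δ
      map_smul' := fun l b => by
        show δ (l • b) = l • δ b
        rw [Algebra.smul_def]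
        show (χ _).snd = _
        rw [hmul]
        show algebraMap Λ B l • δ b + b • δ (algebraMap Λ B l) = _
        rw [hΛ, smul_zero, add_zero, algebraMap_smul] } hmul
  let G : (B ⧸ J) ⊗[B] Ω[B⁄Λ] →ₗ[(B ⧸ J)] ((B ⧸ J) ⊗[B] (B ⊗[A] Ω[A⁄Λ])) := LinearMap.liftBaseChange (B ⧸ J) D.liftKaehlerDifferential
  have hG : ∀ z, G ((mapBaseChange Λ A B).lTensor (B ⧸ J) z) = z := by
    intro z
    induction z using TensorProduct.induction_on with
    | zero => simp
    | add x y hx hy => rw [map_add, map_add, hx, hy]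
    | tmul r w =>
      rw [LinearMap.lTensor_tmul, LinearMap.liftBaseChange_tmul]
      induction w using TensorProduct.induction_on with
      | zero => simp
      | add x y hx hy => rw [map_add, map_add, smul_add, hx, hy, TensorProduct.tmul_add]
      | tmul b w =>
        have hw : w ∈ Submodule.span A (Set.range (KaehlerDifferential.D Λ A)) := by
          rw [KaehlerDifferential.span_range_derivation]; trivial
        rw [KaehlerDifferential.mapBaseChange_tmul, map_smul, show b ⊗ₜ[A] w = b • ((1 : B) ⊗ₜ[A] w) by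
          rw [TensorProduct.smul_tmul', smul_eq_mul, mul_one]]
        have h1 : D.liftKaehlerDifferential (KaehlerDifferential.map Λ Λ A B w) = (1 : (B ⧸ J)) ⊗ₜ[B] ((1 : B) ⊗ₜ[A] w) := by
          induction hw using Submodule.span_induction with
          | mem x hx =>
            obtain ⟨a, rfl⟩ := hx
            rw [KaehlerDifferential.map_D, Derivation.liftKaehlerDifferential_comp_D]
            exact hχA a
          | zero => simp
          | add x y _ _ hx hy => rw [map_add, map_add, hx, hy, TensorProduct.tmul_add, TensorProduct.tmul_add]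
          | smul a x _ hx =>
            rw [map_smul, hsmul, ← algebraMap_smul B a, map_smul, hx, IsScalarTower.algebraMap_apply A B (B ⧸ J),
              algebraMap_smul]
            exact (algebraMap_smul B a _).symm
        rw [h1, TensorProduct.tmul_smul, smul_comm]
        congr 1
        rw [TensorProduct.smul_tmul', smul_eq_mul, mul_one]
  exact fun x y hxy => (hG x).symm.trans ((congrArg G hxy).trans (hG y))

set_option maxHeartbeats 1600000 in
/-- correcting a lift over `Λ` to a lift over `A` -/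
theorem adicSmooth_of_injective (J : Ideal B) (h : CAlgX.IsAdicFormallySmooth Λ B J)
    (hinj : Function.Injective ((mapBaseChange Λ A B).lTensor (B ⧸ J)))
    [Module.Projective (B ⧸ J) ((B ⧸ J) ⊗[B] (Ω[B⁄A]))] : CAlgX.IsAdicFormallySmooth A B J := by
  let C := B ⧸ J
  -- a retraction of `C ⊗ (B ⊗ Ω_A) → C ⊗ Ω_B`
  let f1 := (mapBaseChange Λ A B).baseChange C
  let f2 := (KaehlerDifferential.map Λ A B B).baseChange C
  have hf2 : Function.Surjective f2 := LinearMap.lTensor_surjective C (KaehlerDifferential.map_surjective Λ A B)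
  have hex : Function.Exact f1 f2 :=
    lTensor_exact C (KaehlerDifferential.exact_mapBaseChange_map Λ A B) (KaehlerDifferential.map_surjective Λ A B)
  obtain ⟨σ, hσ⟩ := Module.projective_lifting_property f2 LinearMap.id hf2
  let e1 := LinearEquiv.ofInjective f1 hinj
  have hrange : ∀ z : C ⊗[B] Ω[B⁄Λ], z - σ (f2 z) ∈ LinearMap.range f1 := fun z => (hex (z - σ (f2 z))).mp (by
    show f2 (z - σ (f2 z)) = 0
    rw [map_sub, show f2 (σ (f2 z)) = f2 z from LinearMap.congr_fun hσ _, sub_self])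
  let ret := e1.symm.toLinearMap.comp (LinearMap.codRestrict (LinearMap.range f1) (LinearMap.id - σ.comp f2) hrange)
  have hret : ∀ x, ret (f1 x) = x := fun x => by
    refine e1.injective ((LinearEquiv.apply_symm_apply _ _).trans (Subtype.ext ?_))
    show f1 x - σ (f2 (f1 x)) = f1 x
    rw [hex.apply_apply_eq_zero, map_zero, sub_zero]
  intro R _ _ H hH ψ ⟨k, hk⟩
  letI : Algebra Λ R := ((algebraMap A R).comp (algebraMap Λ A)).toAlgebra
  haveI : IsScalarTower Λ A R := IsScalarTower.of_algebraMap_eq' rfl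
  have hHH : ∀ a ∈ H, ∀ b ∈ H, a * b = 0 := fun a ha b hb => by
    have := Ideal.mul_mem_mul ha hb
    rwa [← pow_two, hH, Ideal.mem_bot] at this
  let ψΛ : B →ₐ[Λ] R ⧸ H := ψ.restrictScalars Λ
  obtain ⟨χ₀, hχ₀⟩ := h R H hH ψΛ ⟨k, hk⟩
  let L : ℕ → Ideal R := fun i => (J.map χ₀) ^ i * H
  have hLH : ∀ i, L i ≤ H := fun i => Ideal.mul_le_right
  have hzero : L k = ⊥ := by
    show (J.map χ₀) ^ k * H = ⊥
    rw [eq_bot_iff, ← Ideal.map_pow]
    refine (Ideal.mul_mono_left (Ideal.map_le_iff_le_comap.mpr fun x hx => ?_)).trans_eq (by rw [← pow_two]; exact hH)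
    show χ₀ x ∈ H
    rw [← Ideal.Quotient.eq_zero_iff_mem]
    exact (DFunLike.congr_fun hχ₀ x).trans (hk x hx)
  have hcongr : ∀ χ : B →ₐ[Λ] R, (Ideal.Quotient.mkₐ Λ H).comp χ = ψΛ → ∀ x, χ x - χ₀ x ∈ H := fun χ hχ x =>
    Ideal.Quotient.eq.mp ((DFunLike.congr_fun hχ x).trans (DFunLike.congr_fun hχ₀ x).symm)
  have hstep : ∀ i, ∃ χ : B →ₐ[Λ] R, (Ideal.Quotient.mkₐ Λ H).comp χ = ψΛ ∧
      ∀ a : A, algebraMap A R a - χ (algebraMap A B a) ∈ L i := by
    intro i
    induction i with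
    | zero =>
      refine ⟨χ₀, hχ₀, fun a => ?_⟩
      show _ ∈ (J.map χ₀) ^ 0 * H
      rw [pow_zero, one_mul, ← Ideal.Quotient.eq_zero_iff_mem, map_sub, sub_eq_zero]
      exact (ψ.commutes a).symm.trans (DFunLike.congr_fun hχ₀ (algebraMap A B a)).symm
    | succ i ih =>
      obtain ⟨χ, hχ, hA⟩ := ih
      let H₁ := L (i + 1)
      let χ₁ : B →ₐ[Λ] R ⧸ H₁ := (Ideal.Quotient.mkₐ Λ H₁).comp χ
      letI : Algebra B (R ⧸ H₁) := χ₁.toRingHom.toAlgebra
      haveI : IsScalarTower Λ B (R ⧸ H₁) := IsScalarTower.of_algebraMap_eq fun l => (χ₁.commutes l).symm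
      let V : Submodule B (R ⧸ H₁) := ((L i).map (Ideal.Quotient.mk H₁)).restrictScalars B
      have hV : ∀ a ∈ V, ∀ b ∈ V, a * b = 0 := by
        intro a ha b hb
        obtain ⟨a, ha', rfl⟩ := (Ideal.mem_map_iff_of_surjective _ Ideal.Quotient.mk_surjective).mp ha
        obtain ⟨b, hb', rfl⟩ := (Ideal.mem_map_iff_of_surjective _ Ideal.Quotient.mk_surjective).mp hb
        rw [← map_mul, hHH a (hLH i ha') b (hLH i hb'), map_zero]
      have hJV : Module.IsTorsionBySet B V (J : Ideal B) := by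
        rintro v ⟨x, hx⟩
        obtain ⟨l, hl, hlv⟩ := (Ideal.mem_map_iff_of_surjective _ Ideal.Quotient.mk_surjective).mp v.2
        refine Subtype.ext ?_
        show χ₁ x * (v : R ⧸ H₁) = 0
        rw [← hlv]
        show Ideal.Quotient.mk H₁ (χ x) * Ideal.Quotient.mk H₁ l = 0
        rw [← map_mul, Ideal.Quotient.eq_zero_iff_mem, show χ x * l = χ₀ x * l by
          have := hHH _ (hcongr χ hχ x) l (hLH i hl)
          rw [sub_mul] at this
          exact sub_eq_zero.mp this]
        show χ₀ x * l ∈ (J.map χ₀) ^ (i + 1) * H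
        rw [pow_succ', mul_assoc]
        exact Ideal.mul_mem_mul (Ideal.mem_map_of_mem _ hx) hl
      letI : Module C V := hJV.module
      haveI : IsScalarTower B C V := IsScalarTower.of_algebraMap_smul fun _ _ => rfl
      letI : Module A V := Module.compHom V (algebraMap A B)
      haveI : IsScalarTower A B V := IsScalarTower.of_algebraMap_smul fun _ _ => rfl
      haveI : IsScalarTower Λ A V := IsScalarTower.of_algebraMap_smul fun l v => by
        show algebraMap A B (algebraMap Λ A l) • v = l • v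
        rw [← IsScalarTower.algebraMap_apply Λ A B, algebraMap_smul]
      let θ : A → V := fun a => ⟨algebraMap A (R ⧸ H₁) a - χ₁ (algebraMap A B a), by
        show algebraMap A (R ⧸ H₁) a - χ₁ (algebraMap A B a) ∈ (L i).map (Ideal.Quotient.mk H₁)
        rw [show algebraMap A (R ⧸ H₁) a - χ₁ (algebraMap A B a) = Ideal.Quotient.mk H₁ (algebraMap A R a - χ (algebraMap A B a))
          from (map_sub (Ideal.Quotient.mk H₁) _ _).symm]
        exact Ideal.mem_map_of_mem _ (hA a)⟩
      let Dθ : Derivation Λ A V := Derivation.mk'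
        { toFun := θ
          map_add' := fun a b => Subtype.ext (by
            show algebraMap A (R ⧸ H₁) (a + b) - χ₁ (algebraMap A B (a + b)) = _
            rw [map_add, map_add, map_add]
            show _ = (algebraMap A (R ⧸ H₁) a - χ₁ (algebraMap A B a)) + (algebraMap A (R ⧸ H₁) b - χ₁ (algebraMap A B b))
            ring)
          map_smul' := fun l a => Subtype.ext (by
            show algebraMap A (R ⧸ H₁) (l • a) - χ₁ (algebraMap A B (l • a)) =
              l • (algebraMap A (R ⧸ H₁) a - χ₁ (algebraMap A B a))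
            rw [Algebra.smul_def l a, map_mul, map_mul, map_mul, ← IsScalarTower.algebraMap_apply Λ A B, χ₁.commutes,
              ← IsScalarTower.algebraMap_apply Λ A (R ⧸ H₁), Algebra.smul_def, mul_sub]) }
        fun a b => Subtype.ext (by
          show algebraMap A (R ⧸ H₁) (a * b) - χ₁ (algebraMap A B (a * b)) =
            χ₁ (algebraMap A B a) * (algebraMap A (R ⧸ H₁) b - χ₁ (algebraMap A B b)) +
              χ₁ (algebraMap A B b) * (algebraMap A (R ⧸ H₁) a - χ₁ (algebraMap A B a))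
          have h1 := hV _ (θ a).2 _ (θ b).2
          rw [map_mul, map_mul, map_mul]
          linear_combination h1)
      let G : Ω[B⁄Λ] →ₗ[B] V :=
        (((LinearMap.liftBaseChange C (LinearMap.liftBaseChange B Dθ.liftKaehlerDifferential)).comp ret).restrictScalars B).comp
          (TensorProduct.mk B C _ 1)
      let D : Derivation Λ B V := G.compDer (KaehlerDifferential.D Λ B)
      have hD : ∀ a, D (algebraMap A B a) = θ a := fun a => by
        show LinearMap.liftBaseChange C (LinearMap.liftBaseChange B Dθ.liftKaehlerDifferential)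
          (ret ((1 : C) ⊗ₜ[B] KaehlerDifferential.D Λ B (algebraMap A B a))) = θ a
        rw [show (1 : C) ⊗ₜ[B] KaehlerDifferential.D Λ B (algebraMap A B a) =
          f1 ((1 : C) ⊗ₜ[B] ((1 : B) ⊗ₜ[A] KaehlerDifferential.D Λ A a)) by
            rw [LinearMap.baseChange_tmul, KaehlerDifferential.mapBaseChange_tmul, one_smul, KaehlerDifferential.map_D],
          hret, LinearMap.liftBaseChange_tmul, one_smul, LinearMap.liftBaseChange_tmul, one_smul,
          Derivation.liftKaehlerDifferential_comp_D]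
        rfl
      let χ₂ : B →ₐ[Λ] R ⧸ H₁ := AlgHom.ofLinearMap (χ₁.toLinearMap + (V.subtype.restrictScalars Λ).comp D.toLinearMap)
        (by
          show χ₁ 1 + (D 1 : R ⧸ H₁) = 1
          rw [map_one, D.map_one_eq_zero, ZeroMemClass.coe_zero, add_zero])
        fun x y => by
          show χ₁ (x * y) + (D (x * y) : R ⧸ H₁) = (χ₁ x + D x) * (χ₁ y + D y)
          rw [map_mul, D.leibniz]
          show _ + (χ₁ x * (D y : R ⧸ H₁) + χ₁ y * (D x : R ⧸ H₁)) = _
          linear_combination (-1 : R ⧸ H₁) * hV _ (D x).2 _ (D y).2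
      have hχ₂ : ∀ x, χ₂ x = χ₁ x + (D x : R ⧸ H₁) := fun x => rfl
      have hsmall : ∀ x, ∀ r, Ideal.Quotient.mk H₁ r = χ₂ x → r - χ x ∈ H := fun x r hr => by
        obtain ⟨l, hl, hlv⟩ := (Ideal.mem_map_iff_of_surjective _ Ideal.Quotient.mk_surjective).mp (D x).2
        have : r - χ x - l ∈ H₁ := by
          rw [← Ideal.Quotient.eq_zero_iff_mem, map_sub, map_sub, hr, hlv, hχ₂]
          show χ₁ x + (D x : R ⧸ H₁) - χ₁ x - (D x : R ⧸ H₁) = 0
          ring
        exact (Submodule.sub_mem_iff_left _ (hLH i hl)).mp (hLH (i + 1) this)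
      have hH₁ : H₁ ^ 2 = ⊥ := eq_bot_iff.mpr (hH ▸ Ideal.pow_right_mono (hLH (i + 1)) 2)
      obtain ⟨χ₃, hχ₃⟩ := h R H₁ hH₁ χ₂ ⟨k + k, fun x hx => by
        rw [pow_add] at hx
        refine Submodule.mul_induction_on hx (fun a ha b hb => ?_) (fun a b ha hb => by rw [map_add, ha, hb, add_zero])
        obtain ⟨ra, hra⟩ := Ideal.Quotient.mk_surjective (χ₂ a)
        obtain ⟨rb, hrb⟩ := Ideal.Quotient.mk_surjective (χ₂ b)
        have h1 : ∀ c ∈ J ^ k, χ c ∈ H := fun c hc => by
          rw [← Ideal.Quotient.eq_zero_iff_mem]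
          exact (DFunLike.congr_fun hχ c).trans (hk c hc)
        rw [map_mul, ← hra, ← hrb, ← map_mul, hHH ra (by simpa using add_mem (hsmall a ra hra) (h1 a ha)) rb
          (by simpa using add_mem (hsmall b rb hrb) (h1 b hb)), map_zero]⟩
      refine ⟨χ₃, AlgHom.ext fun x => ?_, fun a => ?_⟩
      · rw [← hχ]
        exact Ideal.Quotient.eq.mpr (hsmall x _ (DFunLike.congr_fun hχ₃ x))
      · rw [← Ideal.Quotient.eq_zero_iff_mem, map_sub, sub_eq_zero]
        refine (Eq.trans ?_ (DFunLike.congr_fun hχ₃ (algebraMap A B a)).symm)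
        rw [hχ₂, hD]
        show Ideal.Quotient.mk H₁ (algebraMap A R a) = χ₁ (algebraMap A B a) + (algebraMap A (R ⧸ H₁) a - χ₁ (algebraMap A B a))
        rw [add_sub_cancel]
        rfl
  obtain ⟨χ, hχ, hA⟩ := hstep k
  exact ⟨AlgHom.mk χ.toRingHom fun a => (sub_eq_zero.mp (Ideal.mem_bot.mp (hzero ▸ hA a))).symm,
    AlgHom.ext fun x => DFunLike.congr_fun hχ x⟩

end Groth.L06.FormSmoothAdic
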