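import Groth.Agent.L06.FormSmoothLocJacobi
import Groth.Agent.L06.FormSmoothField2
import Groth.Agent.L06.FormSmoothFormal
import Groth.Agent.L06.FormSmoothRelJacobi
import Groth.Agent.L06.FormSmoothGeom
import Mathlib.RingTheory.Smooth.Kaehler
import Mathlib.RingTheory.FiniteType
import Mathlib.RingTheory.FinitePresentation
import Mathlib.RingTheory.Smooth.StandardSmoothOfFree

/-! Formal smoothness of finite type algebras over a separable extension, locally and globally. -/

set_option autoImplicit false
set_option maxSynthPendingDepth 3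
set_option linter.style.haveILetI false
universe u

namespace Groth.L06.LocJacobi

open IsLocalRing
open scoped TensorProduct
open KaehlerDifferential (kerCotangentToTensor)

theorem adicSmooth_of_formallySmooth {A S : Type u} [CommRing A] [CommRing S] [Algebra A S] [Algebra.FormallySmooth A S]
    (𝔫 : Ideal S) : CAlgX.IsAdicFormallySmooth A S 𝔫 := fun _ _ _ J hJ ψ _ =>
  ⟨Algebra.FormallySmooth.lift J ⟨2, hJ⟩ ψ, Algebra.FormallySmooth.comp_lift J ⟨2, hJ⟩ ψ⟩

theorem adicSmooth_localization_iff_injective {A B C : Type u} [CommRing A]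
    [CommRing B] [CommRing C] [Algebra A B] [Algebra B C] [Algebra A C] [IsScalarTower A B C] [IsNoetherianRing B]
    [Algebra.FormallySmooth A B] (hsurj : Function.Surjective (algebraMap B C)) (p : Ideal C) [p.IsPrime]
    [Algebra (Localization.AtPrime (p.comap (algebraMap A C))) (Localization.AtPrime p)]
    [IsScalarTower A (Localization.AtPrime (p.comap (algebraMap A C))) (Localization.AtPrime p)] :
    CAlgX.IsAdicFormallySmooth (Localization.AtPrime (p.comap (algebraMap A C))) (Localization.AtPrime p)
        (maximalIdeal (Localization.AtPrime p)) ↔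
      Function.Injective ((kerCotangentToTensor A B C).lTensor p.ResidueField) := by
  let Aq := Localization.AtPrime (p.comap (algebraMap A C))
  haveI : Algebra.FormallySmooth A Aq :=
    Algebra.FormallySmooth.of_isLocalization (p.comap (algebraMap A C)).primeCompl
  constructor
  · intro h
    exact injective_of_adicSmooth p hsurj (Groth.L06.FormSmoothAdic.restrictScalars_adicSmooth (A := Aq) _ h)
  · intro h
    haveI : Module.Finite B (RingHom.ker (algebraMap B C)).Cotangent :=
      Module.Finite.of_surjective (RingHom.ker (algebraMap B C)).toCotangent (Ideal.toCotangent_surjective _)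
    haveI : Algebra.FormallySmooth A (Localization.AtPrime p) := ((tfae_localization hsurj p).out 0 1).mpr h
    exact Groth.L06.FormSmooth.adicSmooth_base_localization (p.comap (algebraMap A C)).primeCompl _
      (adicSmooth_of_formallySmooth _)

section

variable {k₀ C : Type u} [Field k₀] [CommRing C] [Algebra k₀ C]

theorem tfae_finiteType {k : Type u} [Field k] [Algebra k₀ k] [Algebra.FormallySmooth k₀ k] [Algebra k C]
    [IsScalarTower k₀ k C] [Algebra.FiniteType k C] (p : Ideal C) [p.IsPrime] :
    [Algebra.FormallySmooth k₀ (Localization.AtPrime p),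
     CAlgX.IsAdicFormallySmooth k₀ (Localization.AtPrime p) (maximalIdeal (Localization.AtPrime p)),
     ∃ f : C, f ∉ p ∧ Algebra.FormallySmooth k₀ (Localization.Away f),
     CAlg.IsGeometricallyRegular k₀ (Localization.AtPrime p)].TFAE := by
  obtain ⟨n, φ, hφ⟩ := Algebra.FiniteType.iff_quotient_mvPolynomial''.mp (inferInstance : Algebra.FiniteType k C)
  letI : Algebra (MvPolynomial (Fin n) k) C := φ.toRingHom.toAlgebra
  haveI : IsScalarTower k₀ (MvPolynomial (Fin n) k) C := IsScalarTower.of_algebraMap_eq fun a => by
    rw [IsScalarTower.algebraMap_apply k₀ k C, IsScalarTower.algebraMap_apply k₀ k (MvPolynomial (Fin n) k)]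
    exact (φ.commutes _).symm
  haveI : Algebra.FormallySmooth k₀ (MvPolynomial (Fin n) k) := Algebra.FormallySmooth.comp k₀ k _
  haveI : IsNoetherianRing C := Algebra.FiniteType.isNoetherianRing k C
  haveI : IsNoetherianRing (Localization.AtPrime p) := IsLocalization.isNoetherianRing p.primeCompl _ inferInstance
  haveI : Module.Finite (MvPolynomial (Fin n) k) (RingHom.ker (algebraMap (MvPolynomial (Fin n) k) C)).Cotangent :=
    Module.Finite.of_surjective _ (Ideal.toCotangent_surjective _)
  have T := tfae_localization (A := k₀) (B := MvPolynomial (Fin n) k) hφ p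
  tfae_have 1 ↔ 3 := T.out 0 2
  tfae_have 1 → 2 := fun h => by
    haveI := h
    exact adicSmooth_of_formallySmooth _
  tfae_have 2 → 1 := fun h => (T.out 0 1).mpr (injective_of_adicSmooth p hφ h)
  tfae_have 2 ↔ 4 := Groth.L06.FormSmooth.adicSmooth_iff_geometricallyRegular k₀ (Localization.AtPrime p)
  tfae_finish

theorem geomRegular_of_localizations [IsNoetherianRing C]
    (h : ∀ (p : Ideal C) [p.IsPrime], CAlg.IsGeometricallyRegular k₀ (Localization.AtPrime p)) :
    CAlg.IsGeometricallyRegular k₀ C := by
  intro k' _ _ hk'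
  haveI := hk'
  haveI : IsNoetherianRing (C ⊗[k₀] k') := IsNoetherianRing.of_finite C _
  haveI : IsRegularRing (C ⊗[k₀] k') := by
    refine isRegularRing_iff.2 fun P hP => ?_
    let p := P.comap (algebraMap C (C ⊗[k₀] k'))
    let S := Localization.AtPrime p
    let e : ((C ⊗[k₀] k') ⊗[C] S) ≃+* k' ⊗[k₀] S := ((Algebra.TensorProduct.comm C (C ⊗[k₀] k') S).toRingEquiv.trans
      (Algebra.TensorProduct.cancelBaseChange k₀ C C S k').toRingEquiv).trans (Algebra.TensorProduct.comm k₀ S k').toRingEquiv
    haveI := h p k' hk'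
    haveI : IsRegularRing ((C ⊗[k₀] k') ⊗[C] S) := IsRegularRing.of_ringEquiv e.symm
    let M := Algebra.algebraMapSubmonoid (C ⊗[k₀] k') p.primeCompl
    let T := (C ⊗[k₀] k') ⊗[C] S
    haveI : IsLocalization M T :=
      IsLocalization.tensor (R := C) (S := C ⊗[k₀] k') S p.primeCompl
    have hdisj : Disjoint (M : Set (C ⊗[k₀] k')) (P : Set (C ⊗[k₀] k')) := Set.disjoint_left.mpr fun x hx hxP => by
      obtain ⟨c, hc, rfl⟩ := hx
      exact hc hxP
    let P' := P.map (algebraMap (C ⊗[k₀] k') T)
    haveI : P'.IsPrime := IsLocalization.isPrime_of_isPrime_disjoint M T P hP hdisj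
    have hcomap : P'.comap (algebraMap (C ⊗[k₀] k') T) = P := IsLocalization.comap_map_of_isPrime_disjoint M T hP hdisj
    haveI h1 : IsLocalization.AtPrime (Localization.AtPrime P') (P'.comap (algebraMap (C ⊗[k₀] k') T)) :=
      IsLocalization.isLocalization_isLocalization_atPrime_isLocalization M (Localization.AtPrime P') P'
    haveI : IsLocalization P.primeCompl (Localization.AtPrime P') := by
      have h2 : (P'.comap (algebraMap (C ⊗[k₀] k') T)).primeCompl = P.primeCompl := by
        ext x
        show x ∉ P'.comap _ ↔ x ∉ P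
        rw [hcomap]
      exact h2 ▸ h1
    haveI : IsRegularLocalRing (Localization.AtPrime P') := IsRegularRing.isRegularLocalRing_localization P'
    exact IsRegularLocalRing.of_ringEquiv
      (IsLocalization.algEquiv P.primeCompl (Localization.AtPrime P') (Localization.AtPrime P)).toRingEquiv
  exact IsRegularRing.of_ringEquiv (Algebra.TensorProduct.comm k₀ C k').toRingEquiv

theorem tfae_finiteType_global (k : Type u) [Field k] [Algebra k₀ k] [Algebra.FormallySmooth k₀ k] [Algebra k C]
    [IsScalarTower k₀ k C] [Algebra.FiniteType k C] :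
    [Algebra.FormallySmooth k₀ C,
     ∀ (p : Ideal C) [p.IsPrime], Algebra.FormallySmooth k₀ (Localization.AtPrime p),
     ∀ (m : Ideal C) [m.IsMaximal], Algebra.FormallySmooth k₀ (Localization.AtPrime m),
     CAlg.IsGeometricallyRegular k₀ C].TFAE := by
  haveI : IsNoetherianRing C := Algebra.FiniteType.isNoetherianRing k C
  tfae_have 1 → 2 := fun h p _ => by
    haveI := h
    haveI : Algebra.FormallySmooth C (Localization.AtPrime p) := Algebra.FormallySmooth.of_isLocalization p.primeCompl
    exact Algebra.FormallySmooth.comp k₀ C _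
  tfae_have 2 → 3 := fun h m _ => h m
  tfae_have 3 → 1 := fun h => by
    obtain ⟨n, φ, hφ⟩ := Algebra.FiniteType.iff_quotient_mvPolynomial''.mp (inferInstance : Algebra.FiniteType k C)
    let B := MvPolynomial (Fin n) k
    letI : Algebra B C := φ.toRingHom.toAlgebra
    haveI : IsScalarTower k₀ B C := IsScalarTower.of_algebraMap_eq fun a => by
      rw [IsScalarTower.algebraMap_apply k₀ k C, IsScalarTower.algebraMap_apply k₀ k B]
      exact (φ.commutes _).symm
    haveI : Algebra.FormallySmooth k₀ B := Algebra.FormallySmooth.comp k₀ k _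
    haveI : Module.Finite B (RingHom.ker (algebraMap B C)).Cotangent :=
      Module.Finite.of_surjective _ (Ideal.toCotangent_surjective _)
    let I0 : Ideal B :=
      { carrier := {f | ∃ l : C ⊗[B] Ω[B⁄k₀] →ₗ[B] (RingHom.ker (algebraMap B C)).Cotangent,
          ∀ x, l (kerCotangentToTensor k₀ B C x) = f • x}
        zero_mem' := ⟨0, fun x => by rw [LinearMap.zero_apply, zero_smul]⟩
        add_mem' := fun {f g} ⟨l, hl⟩ ⟨l', hl'⟩ => ⟨l + l', fun x => by rw [LinearMap.add_apply, hl, hl', add_smul]⟩
        smul_mem' := fun c f ⟨l, hl⟩ => ⟨c • l, fun x => by rw [LinearMap.smul_apply, hl, smul_smul, smul_eq_mul]⟩ }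
    have htop : I0.map (algebraMap B C) = ⊤ := by
      by_contra hne
      obtain ⟨m, hm, hle⟩ := Ideal.exists_le_maximal _ hne
      haveI := h m
      obtain ⟨f, hf, hl⟩ := exists_mul_leftInverse hφ m (injective_of_formallySmooth (A := k₀) m hφ)
      exact hf (hle (Ideal.mem_map_of_mem _ (show f ∈ I0 from hl)))
    obtain ⟨f, hf, hf1⟩ := (Ideal.mem_map_iff_of_surjective _ hφ).mp (htop ▸ Submodule.mem_top : (1 : C) ∈ I0.map (algebraMap B C))
    obtain ⟨l, hl⟩ := hf
    haveI : IsLocalization (⊥ : Submonoid C) C := IsLocalization.self fun x hx => by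
      rw [Submonoid.mem_bot.mp hx]
      exact isUnit_one
    exact formallySmooth_localization_of_leftInverse hφ ⊥ (by show φ f ∈ (⊥ : Submonoid C); rw [hf1]; exact one_mem _) l hl C
  tfae_have 4 → 2 := fun h p _ => by
    haveI : IsNoetherianRing (Localization.AtPrime p) := IsLocalization.isNoetherianRing p.primeCompl _ inferInstance
    exact ((tfae_finiteType (k₀ := k₀) (k := k) p).out 0 3).mpr
      (Groth.L06.FormSmooth.isGeometricallyRegular_of_isLocalization h p.primeCompl _)
  tfae_have 2 → 4 := fun h =>
    geomRegular_of_localizations fun p _ => ((tfae_finiteType (k₀ := k₀) (k := k) p).out 0 3).mp (h p)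
  tfae_finish

end

end Groth.L06.LocJacobi
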