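import Groth.Prelude.Def_EGA41
import Groth.Agent.L03.CartierEq
import Groth.Agent.L01.Regular
import Groth.Agent.L06.FormSmoothField2
import Groth.Agent.L06.FormSmoothFTLocal
import Mathlib.RingTheory.LocalProperties.Reduced
import Mathlib.FieldTheory.IntermediateField.Adjoin.Basic
import Mathlib.LinearAlgebra.Dual.Lemmas

/-! Separability, imperfection modules and differentials. -/

set_option autoImplicit false
set_option maxSynthPendingDepth 3
set_option linter.style.haveILetI false
universe u

namespace Groth.L06.SepKaehler

open scoped TensorProduct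
open IsLocalRing

theorem isReduced_of_regularRing (R : Type u) [CommRing R] [IsRegularRing R] : IsReduced R :=
  isReduced_ofLocalizationMaximal R fun J _ => by
    haveI : IsRegularLocalRing (Localization.AtPrime J) := IsRegularRing.isRegularLocalRing_localization J
    haveI := Groth.L01.isDomain_of_regular (Localization.AtPrime J)
    infer_instance

theorem geometricallyReduced_of_formallySmooth (K L : Type u) [Field K] [Field L] [Algebra K L]
    [Algebra.FormallySmooth K L] : Algebra.IsGeometricallyReduced K L := by
  have hgr : CAlg.IsGeometricallyRegular K L :=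
    Groth.L06.FormSmooth.isGeometricallyRegular_of_adicSmooth (Groth.L06.LocJacobi.adicSmooth_of_formallySmooth _)
  rw [Algebra.isGeometricallyReduced_field_iff]
  haveI : IsReduced (L ⊗[K] AlgebraicClosure K) := IsReduced.tensorProduct_of_flat_of_forall_fg fun B hB => by
    haveI : Algebra.IsIntegral K B := Algebra.IsIntegral.of_injective B.val Subtype.val_injective
    haveI : Algebra.FiniteType K B := (Subalgebra.fg_iff_finiteType B).mp hB
    haveI : Module.Finite K B := Algebra.IsIntegral.finite
    letI : Field B := (isField_of_isIntegral_of_isField' (R := K) (S := B) (Field.toIsField K)).toField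
    haveI := hgr B inferInstance
    haveI := isReduced_of_regularRing (B ⊗[K] L)
    exact isReduced_of_injective (Algebra.TensorProduct.comm K L B) (Algebra.TensorProduct.comm K L B).injective
  exact isReduced_of_injective (Algebra.TensorProduct.comm K (AlgebraicClosure K) L)
    (Algebra.TensorProduct.comm K (AlgebraicClosure K) L).injective

variable {K E F : Type u} [Field E] [Field F] [Algebra E F]

theorem formallySmooth_of_subsingleton [Subsingleton (Algebra.H1Cotangent E F)] : Algebra.FormallySmooth E F :=
  (Algebra.formallySmooth_iff E F).mpr ⟨inferInstance, inferInstance⟩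

theorem injective_mapBaseChange (R : Type u) [CommRing R] [Algebra R E] [Algebra R F] [IsScalarTower R E F]
    [Algebra.FormallySmooth E F] : Function.Injective (KaehlerDifferential.mapBaseChange R E F) := by
  refine (injective_iff_map_eq_zero _).mpr fun z hz => ?_
  obtain ⟨y, rfl⟩ := (Algebra.H1Cotangent.exact_δ_mapBaseChange R E F z).mp hz
  rw [Subsingleton.elim y 0, map_zero]

theorem formallySmooth_of_injective (R : Type u) [CommRing R] [Algebra R E] [Algebra R F] [IsScalarTower R E F]
    [Algebra.FormallySmooth R F] (h : Function.Injective (KaehlerDifferential.mapBaseChange R E F)) :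
    Algebra.FormallySmooth E F := by
  haveI : Subsingleton (Algebra.H1Cotangent E F) := ⟨fun a b => by
    have key : ∀ y : Algebra.H1Cotangent E F, y = 0 := fun y => by
      have h1 : Algebra.H1Cotangent.δ R E F y = 0 :=
        h (((Algebra.H1Cotangent.exact_δ_mapBaseChange R E F).apply_apply_eq_zero y).trans (map_zero _).symm)
      obtain ⟨x, rfl⟩ := (Algebra.H1Cotangent.exact_map_δ R E F y).mp h1
      rw [Subsingleton.elim x 0, map_zero]
    rw [key a, key b]⟩
  exact formallySmooth_of_subsingleton

theorem tower_iff [Field K] [Algebra K E] [Algebra K F] [IsScalarTower K E F] :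
    (Algebra.IsGeometricallyReduced E F → Function.Injective (KaehlerDifferential.mapBaseChange K E F)) ∧
    (Algebra.IsGeometricallyReduced K F → Function.Injective (KaehlerDifferential.mapBaseChange K E F) →
      Algebra.IsGeometricallyReduced E F) := by
  refine ⟨fun h => ?_, fun h hinj => ?_⟩
  · haveI := h
    haveI := Groth.L06.FormSmooth.formallySmooth_of_geometricallyReduced E F
    exact injective_mapBaseChange K
  · haveI := h
    haveI := Groth.L06.FormSmooth.formallySmooth_of_geometricallyReduced K F
    haveI := formallySmooth_of_injective K hinj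
    exact geometricallyReduced_of_formallySmooth E F

/-- the prime subfield kills -/
theorem der_bot_eq_zero {k M : Type u} [Field k] [AddCommGroup M] [Module k M] (D : Derivation ℤ k M)
    (c : (⊥ : Subfield k)) : D (c : k) = 0 := by
  let T : Subfield k :=
    { carrier := {x | D x = 0}
      zero_mem' := map_zero D
      one_mem' := D.map_one_eq_zero
      add_mem' := fun {a b} ha hb => by show D (a + b) = 0; rw [map_add, ha, hb, add_zero]
      mul_mem' := fun {a b} (ha : D a = 0) (hb : D b = 0) => by
        show D (a * b) = 0; rw [D.leibniz, ha, hb, smul_zero, smul_zero, add_zero]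
      neg_mem' := fun {a} ha => by show D (-a) = 0; rw [map_neg, ha, neg_zero]
      inv_mem' := fun a (ha : D a = 0) => by show D a⁻¹ = 0; rw [D.leibniz_inv, ha, smul_zero] }
  exact (bot_le : (⊥ : Subfield k) ≤ T) c.2

variable (E F)

/-- absolute differentials are differentials over the prime subfield -/
noncomputable def equivBot : Ω[E⁄ℤ] ≃ₗ[E] Ω[E⁄(⊥ : Subfield E)] :=
  let D' : Derivation (⊥ : Subfield E) E (Ω[E⁄ℤ]) := Derivation.mk'
    { toFun := fun a => KaehlerDifferential.D ℤ E a
      map_add' := fun a b => map_add _ a b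
      map_smul' := fun c a => by
        show KaehlerDifferential.D ℤ E (c • a) = c • KaehlerDifferential.D ℤ E a
        rw [Algebra.smul_def, Derivation.leibniz,
          show KaehlerDifferential.D ℤ E (algebraMap (⊥ : Subfield E) E c) = 0 from der_bot_eq_zero _ c,
          smul_zero, add_zero, algebraMap_smul] }
    fun a b => (KaehlerDifferential.D ℤ E).leibniz a b
  LinearEquiv.ofLinear (KaehlerDifferential.map ℤ (⊥ : Subfield E) E E) D'.liftKaehlerDifferential
    (by
      refine Derivation.liftKaehlerDifferential_unique _ _ (Derivation.ext fun a => ?_)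
      show KaehlerDifferential.map ℤ _ E E (D'.liftKaehlerDifferential (KaehlerDifferential.D _ E a)) = KaehlerDifferential.D _ E a
      rw [Derivation.liftKaehlerDifferential_comp_D]
      exact KaehlerDifferential.map_D _ _ _ _ a)
    (by
      refine Derivation.liftKaehlerDifferential_unique _ _ (Derivation.ext fun a => ?_)
      show D'.liftKaehlerDifferential (KaehlerDifferential.map ℤ _ E E (KaehlerDifferential.D ℤ E a)) = KaehlerDifferential.D ℤ E a
      rw [KaehlerDifferential.map_D, Derivation.liftKaehlerDifferential_comp_D]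
      rfl)

theorem equivBot_D (a : E) : equivBot E (KaehlerDifferential.D ℤ E a) = KaehlerDifferential.D (⊥ : Subfield E) E a :=
  KaehlerDifferential.map_D _ _ _ _ a

theorem mapBaseChange_equiv (z : F ⊗[E] Ω[E⁄ℤ]) :
    KaehlerDifferential.mapBaseChange (⊥ : Subfield E) E F ((equivBot E).toLinearMap.baseChange F z) =
      KaehlerDifferential.map ℤ (⊥ : Subfield E) F F (KaehlerDifferential.mapBaseChange ℤ E F z) := by
  induction z using TensorProduct.induction_on with
  | zero => simp
  | add a b ha hb => simp only [map_add, ha, hb]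
  | tmul c w =>
    induction (KaehlerDifferential.span_range_derivation ℤ E ▸ Submodule.mem_top :
        w ∈ Submodule.span E (Set.range (KaehlerDifferential.D ℤ E))) using Submodule.span_induction generalizing c with
    | mem y hy =>
      obtain ⟨a, rfl⟩ := hy
      rw [LinearMap.baseChange_tmul, LinearEquiv.coe_coe, equivBot_D, KaehlerDifferential.mapBaseChange_tmul,
        KaehlerDifferential.mapBaseChange_tmul, KaehlerDifferential.map_D, map_smul, KaehlerDifferential.map_D,
        KaehlerDifferential.map_D]
      rfl
    | zero => simp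
    | add a b _ _ ha hb => simp only [TensorProduct.tmul_add, map_add, ha, hb]
    | smul r a _ ha => rw [← TensorProduct.smul_tmul]; exact ha _

theorem bot_ker_bijective :
    ∃ e : (EGA41.imperfection ℤ E F) ≃ₗ[F] (EGA41.imperfection (⊥ : Subfield E) E F), ∀ z, (e z : F ⊗[E] Ω[E⁄(⊥ : Subfield E)]) = (equivBot E).toLinearMap.baseChange F z := by
  let ψ : Ω[F⁄ℤ] →ₗ[F] Ω[F⁄(⊥ : Subfield E)] := KaehlerDifferential.map ℤ (⊥ : Subfield E) F F
  have hψ : Function.Injective ψ := by
    let D' : Derivation (⊥ : Subfield E) F (Ω[F⁄ℤ]) := Derivation.mk'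
      { toFun := fun a => KaehlerDifferential.D ℤ F a
        map_add' := fun a b => map_add _ a b
        map_smul' := fun c a => by
          show KaehlerDifferential.D ℤ F (c • a) = c • KaehlerDifferential.D ℤ F a
          have h0 : KaehlerDifferential.D ℤ F (algebraMap (⊥ : Subfield E) F c) = 0 := by
            have h1 := congrArg (KaehlerDifferential.mapBaseChange ℤ E F)
              (congrArg ((1 : F) ⊗ₜ[E] ·) (der_bot_eq_zero (KaehlerDifferential.D ℤ E) c))
            simp only [KaehlerDifferential.mapBaseChange_tmul, one_smul, KaehlerDifferential.map_D, map_zero] at h1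
            exact h1
          rw [Algebra.smul_def, Derivation.leibniz, h0, smul_zero, add_zero, algebraMap_smul] }
      fun a b => (KaehlerDifferential.D ℤ F).leibniz a b
    have h1 : D'.liftKaehlerDifferential ∘ₗ ψ = LinearMap.id := by
      refine Derivation.liftKaehlerDifferential_unique _ _ (Derivation.ext fun a => ?_)
      show D'.liftKaehlerDifferential (KaehlerDifferential.map ℤ _ F F (KaehlerDifferential.D ℤ F a)) = KaehlerDifferential.D ℤ F a
      rw [KaehlerDifferential.map_D, Derivation.liftKaehlerDifferential_comp_D]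
      rfl
    exact fun a b hab => by
      have h2 := congrArg D'.liftKaehlerDifferential hab
      rwa [← LinearMap.comp_apply, ← LinearMap.comp_apply, h1] at h2
  let eE := LinearEquiv.baseChange E F _ _ (equivBot E)
  have hiff : ∀ z, z ∈ EGA41.imperfection ℤ E F ↔ eE z ∈ EGA41.imperfection (⊥ : Subfield E) E F := fun z => by
    show KaehlerDifferential.mapBaseChange ℤ E F z = 0 ↔ KaehlerDifferential.mapBaseChange _ E F (eE z) = 0
    rw [show eE z = (equivBot E).toLinearMap.baseChange F z from rfl, mapBaseChange_equiv]
    exact (map_eq_zero_iff ψ hψ).symm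
  exact ⟨eE.ofSubmodules _ _ (Submodule.ext fun w => ⟨by rintro ⟨z, hz, rfl⟩; exact (hiff z).mp hz,
    fun hw => ⟨eE.symm w, (hiff _).mpr (by rwa [eE.apply_symm_apply]), eE.apply_symm_apply w⟩⟩), fun z => rfl⟩

theorem separable_iff_imperfection :
    Algebra.IsGeometricallyReduced E F ↔ EGA41.imperfection ℤ E F = ⊥ := by
  constructor
  · intro h
    haveI := h
    haveI := Groth.L06.FormSmooth.formallySmooth_of_geometricallyReduced E F
    refine (Submodule.eq_bot_iff _).mpr fun z (hz : KaehlerDifferential.mapBaseChange ℤ E F z = 0) => ?_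
    obtain ⟨y, rfl⟩ := (Algebra.H1Cotangent.exact_δ_mapBaseChange ℤ E F z).mp hz
    rw [Subsingleton.elim y 0, map_zero]
  · intro h
    obtain ⟨e, -⟩ := bot_ker_bijective E F
    haveI : Algebra.FormallySmooth (⊥ : Subfield E) F := Groth.L06.FormSmooth.formallySmooth_bot_field E F
    haveI : Algebra.FormallySmooth E F := by
      refine formallySmooth_of_injective (⊥ : Subfield E) (LinearMap.ker_eq_bot.mp ?_)
      show EGA41.imperfection (⊥ : Subfield E) E F = ⊥
      haveI : Subsingleton (EGA41.imperfection ℤ E F) := by rw [h]; infer_instance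
      haveI := e.symm.toEquiv.subsingleton
      exact Submodule.eq_bot_of_subsingleton
    exact geometricallyReduced_of_formallySmooth E F

theorem imperfection_eq_bot_iff_extends :
    EGA41.imperfection ℤ E F = ⊥ ↔
      ∀ D : Derivation ℤ E F, ∃ D' : Derivation ℤ F F, ∀ a : E, D' (algebraMap E F a) = D a := by
  constructor
  · intro h D
    obtain ⟨l, hl⟩ := LinearMap.exists_leftInverse_of_injective (KaehlerDifferential.mapBaseChange ℤ E F) h
    refine ⟨((LinearMap.liftBaseChange F D.liftKaehlerDifferential).comp l).compDer (KaehlerDifferential.D ℤ F), fun a => ?_⟩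
    show LinearMap.liftBaseChange F D.liftKaehlerDifferential (l (KaehlerDifferential.D ℤ F (algebraMap E F a))) = D a
    have h1 : l (KaehlerDifferential.mapBaseChange ℤ E F ((1 : F) ⊗ₜ[E] KaehlerDifferential.D ℤ E a)) =
        (1 : F) ⊗ₜ[E] KaehlerDifferential.D ℤ E a := LinearMap.congr_fun hl _
    rw [KaehlerDifferential.mapBaseChange_tmul, one_smul, KaehlerDifferential.map_D] at h1
    rw [h1, LinearMap.liftBaseChange_tmul, one_smul, Derivation.liftKaehlerDifferential_comp_D]
  · intro h
    refine (Submodule.eq_bot_iff _).mpr fun z hz => (Module.forall_dual_apply_eq_zero_iff F z).mp fun φ => ?_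
    let D : Derivation ℤ E F := ((φ.restrictScalars E).comp (TensorProduct.mk E F (Ω[E⁄ℤ]) 1)).compDer (KaehlerDifferential.D ℤ E)
    obtain ⟨D', hD'⟩ := h D
    suffices h' : φ = D'.liftKaehlerDifferential.comp (KaehlerDifferential.mapBaseChange ℤ E F) by
      rw [h', LinearMap.comp_apply, show KaehlerDifferential.mapBaseChange ℤ E F z = 0 from hz, map_zero]
    refine (LinearMap.liftBaseChangeEquiv F).symm.injective ?_
    refine Derivation.liftKaehlerDifferential_unique _ _ (Derivation.ext fun a => ?_)
    show φ ((1 : F) ⊗ₜ[E] KaehlerDifferential.D ℤ E a) =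
      D'.liftKaehlerDifferential (KaehlerDifferential.mapBaseChange ℤ E F ((1 : F) ⊗ₜ[E] KaehlerDifferential.D ℤ E a))
    rw [KaehlerDifferential.mapBaseChange_tmul, one_smul, KaehlerDifferential.map_D, Derivation.liftKaehlerDifferential_comp_D,
      hD']
    rfl

theorem finite_imperfection (R : Type*) [CommRing R] [Algebra R E] [Algebra R F] [IsScalarTower R E F]
    [Algebra.EssFiniteType E F] :
    Module.Finite F (EGA41.imperfection R E F) ∧
      Module.finrank F (EGA41.imperfection R E F) ≤ Module.finrank F (Algebra.H1Cotangent E F) := by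
  haveI : Module.Finite F (Algebra.H1Cotangent E F) := (Groth.L03.CartierEq.cartier E F).2.1
  have h : EGA41.imperfection R E F = LinearMap.range (Algebra.H1Cotangent.δ R E F) :=
    (Algebra.H1Cotangent.exact_δ_mapBaseChange R E F).linearMap_ker_eq
  rw [h]
  exact ⟨inferInstance, LinearMap.finrank_range_le _⟩

theorem finrank_kaehler_ge (R : Type*) [CommRing R] [Algebra R E] [Algebra R F] [IsScalarTower R E F]
    [Algebra.EssFiniteType E F] :
    Module.Finite F (Ω[F⁄E]) ∧ Module.Finite F (EGA41.imperfection R E F) ∧
      (Cardinal.toNat (Algebra.trdeg E F) : ℤ) ≤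
        (Module.finrank F (Ω[F⁄E]) : ℤ) - Module.finrank F (EGA41.imperfection R E F) := by
  obtain ⟨h1, h2, -, h4⟩ := Groth.L03.CartierEq.cartier E F
  obtain ⟨h5, h6⟩ := finite_imperfection E F R
  exact ⟨h1, h5, by omega⟩

theorem finrank_kaehler_eq [Algebra.EssFiniteType E F] :
    Module.Finite F (Ω[F⁄E]) ∧ Module.Finite F (EGA41.imperfection ℤ E F) ∧
      (Module.finrank F (Ω[F⁄E]) : ℤ) - Module.finrank F (EGA41.imperfection ℤ E F) =
        Cardinal.toNat (Algebra.trdeg E F) := by
  obtain ⟨h1, h2, -, h4⟩ := Groth.L03.CartierEq.cartier E F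
  refine ⟨h1, (finite_imperfection E F ℤ).1, ?_⟩
  obtain ⟨e, -⟩ := bot_ker_bijective E F
  haveI : Algebra.FormallySmooth (⊥ : Subfield E) F := Groth.L06.FormSmooth.formallySmooth_bot_field E F
  have h : EGA41.imperfection (⊥ : Subfield E) E F = LinearMap.range (Algebra.H1Cotangent.δ (⊥ : Subfield E) E F) :=
    (Algebra.H1Cotangent.exact_δ_mapBaseChange _ E F).linearMap_ker_eq
  have hδ : Function.Injective (Algebra.H1Cotangent.δ (⊥ : Subfield E) E F) := by
    refine (injective_iff_map_eq_zero _).mpr fun y hy => ?_
    obtain ⟨x, rfl⟩ := (Algebra.H1Cotangent.exact_map_δ (⊥ : Subfield E) E F y).mp hy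
    rw [Subsingleton.elim x 0, map_zero]
  rw [e.finrank_eq, h, LinearMap.finrank_range_of_inj hδ]
  exact h4

theorem finrank_kaehler_sub_ge {k : Type u} [Field k] [Algebra k E] [Algebra k F] [IsScalarTower k E F]
    [Algebra.EssFiniteType k F] :
    Module.Finite F (Ω[F⁄k]) ∧ Module.Finite E (Ω[E⁄k]) ∧
      (Cardinal.toNat (Algebra.trdeg E F) : ℤ) ≤ (Module.finrank F (Ω[F⁄k]) : ℤ) - Module.finrank E (Ω[E⁄k]) := by
  haveI : Algebra.EssFiniteType E F := Algebra.EssFiniteType.of_comp k E F
  obtain ⟨hF, -, -, -⟩ := Groth.L03.CartierEq.cartier k F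
  obtain ⟨h1, h2, h3⟩ := finrank_kaehler_ge E F k
  haveI := hF
  haveI : Module.Finite F (LinearMap.ker (KaehlerDifferential.mapBaseChange k E F)) := h2
  haveI : Module.Finite F ((F ⊗[E] Ω[E⁄k]) ⧸ LinearMap.ker (KaehlerDifferential.mapBaseChange k E F)) :=
    Module.Finite.equiv (KaehlerDifferential.mapBaseChange k E F).quotKerEquivRange.symm
  haveI : Module.Finite F (F ⊗[E] Ω[E⁄k]) :=
    Module.Finite.of_submodule_quotient (LinearMap.ker (KaehlerDifferential.mapBaseChange k E F))
  haveI hE : Module.Finite E (Ω[E⁄k]) := Module.Finite.of_finite_tensorProduct_of_faithfullyFlat F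
  refine ⟨hF, hE, ?_⟩
  let f := KaehlerDifferential.mapBaseChange k E F
  let g := KaehlerDifferential.map k E F F
  have e1 := LinearMap.finrank_range_add_finrank_ker f
  have e2 := LinearMap.finrank_range_add_finrank_ker g
  have e3 : LinearMap.ker g = LinearMap.range f := (KaehlerDifferential.exact_mapBaseChange_map k E F).linearMap_ker_eq
  have e4 : LinearMap.range g = ⊤ := LinearMap.range_eq_top.mpr (KaehlerDifferential.map_surjective k E F)
  rw [e4, finrank_top, e3] at e2
  rw [Module.finrank_baseChange] at e1
  have h4 : Module.finrank F (LinearMap.ker f) = Module.finrank F (EGA41.imperfection k E F) := rfl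
  simp only [f] at e1 e2 h4
  omega

end Groth.L06.SepKaehler
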