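import Groth.Agent.L06.CplKaehlerUniv
import Groth.Agent.L06.SepKaehler
import Mathlib.RingTheory.Etale.Kaehler
import Mathlib.RingTheory.MvPowerSeries.Derivative
import Mathlib.RingTheory.Localization.FractionRing

/-! The rank of completed differentials at a generic point. -/

set_option autoImplicit false
set_option maxSynthPendingDepth 3
set_option linter.style.haveILetI false
set_option linter.unusedSectionVars false
universe u

namespace Groth.L06.CplKaehlerRank

open IsLocalRing Groth.L06.CplKaehlerUniv
open scoped TensorProduct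

section params

variable {k A : Type u} [Field k] [CommRing A] [IsLocalRing A] [IsNoetherianRing A] [Algebra k A]
  [Module.Finite k (ResidueField A)]

theorem finite_quotient_pow (N : ℕ) : Module.Finite k (A ⧸ maximalIdeal A ^ N) := by
  induction N with
  | zero =>
    haveI : Subsingleton (A ⧸ maximalIdeal A ^ 0) :=
      Ideal.Quotient.subsingleton_iff.mpr (by rw [pow_zero, Ideal.one_eq_top])
    infer_instance
  | succ N ih =>
    obtain ⟨s, e, he⟩ := Module.Finite.exists_fin (R := k) (M := ResidueField A)
    obtain ⟨G, hG⟩ := (maximalIdeal A ^ N).fg_of_isNoetherianRing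
    obtain ⟨t, b, hb⟩ := Module.Finite.exists_fin (R := k) (M := A ⧸ maximalIdeal A ^ N)
    choose e' he' using fun i => residue_surjective (e i)
    choose b' hb' using fun i => Ideal.Quotient.mk_surjective (b i)
    let S : Set A := Set.range b' ∪ Set.image2 (fun i g => e' i * g) Set.univ (G : Set A)
    have hS : S.Finite := (Set.finite_range _).union (Set.finite_univ.image2 _ G.finite_toSet)
    refine ⟨Submodule.fg_def.mpr ⟨(Ideal.Quotient.mkₐ k _).toLinearMap '' S, hS.image _, Submodule.eq_top_iff'.mpr fun z => ?_⟩⟩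
    rw [Submodule.span_image]
    obtain ⟨z, rfl⟩ := Ideal.Quotient.mk_surjective z
    obtain ⟨c, hc⟩ := (Submodule.mem_span_range_iff_exists_fun k).mp
      (show Ideal.Quotient.mk (maximalIdeal A ^ N) z ∈ Submodule.span k (Set.range b) by rw [hb]; trivial)
    have h1 : z - ∑ i, c i • b' i ∈ maximalIdeal A ^ N := by
      have hq : Ideal.Quotient.mkₐ k (maximalIdeal A ^ N) (∑ i, c i • b' i) = Ideal.Quotient.mk _ z := by
        rw [map_sum, ← hc]
        exact Finset.sum_congr rfl fun i _ => by rw [map_smul, ← hb' i]; rfl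
      exact Ideal.Quotient.eq.mp hq.symm
    have key : ∀ y ∈ maximalIdeal A ^ N, ∀ a : A, ∃ w ∈ Submodule.span k S, a * y - w ∈ maximalIdeal A ^ (N + 1) := by
      intro y hy
      rw [← hG] at hy
      induction hy using Submodule.span_induction with
      | mem g hg =>
        intro a
        obtain ⟨d, hd⟩ := (Submodule.mem_span_range_iff_exists_fun k).mp
          (show residue A a ∈ Submodule.span k (Set.range e) by rw [he]; trivial)
        refine ⟨∑ i, d i • (e' i * g), Submodule.sum_mem _ fun i _ => Submodule.smul_mem _ _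
          (Submodule.subset_span (Or.inr ⟨i, trivial, g, hg, rfl⟩)), ?_⟩
        have h2 : a - ∑ i, d i • e' i ∈ maximalIdeal A := by
          refine (residue_eq_zero_iff _).mp ?_
          rw [map_sub, map_sum, ← hd, sub_eq_zero]
          refine Finset.sum_congr rfl fun i _ => ?_
          rw [← he' i]
          rfl
        rw [show ∑ i, d i • (e' i * g) = (∑ i, d i • e' i) * g by
          rw [Finset.sum_mul]; exact Finset.sum_congr rfl fun i _ => (smul_mul_assoc _ _ _).symm, ← sub_mul, pow_succ']
        exact Ideal.mul_mem_mul h2 (hG.le (Submodule.subset_span hg))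
      | zero => exact fun a => ⟨0, zero_mem _, by simp⟩
      | add u v _ _ hu hv =>
        intro a
        obtain ⟨w, hw, hw'⟩ := hu a
        obtain ⟨w', hv', hv''⟩ := hv a
        exact ⟨w + w', add_mem hw hv', by rw [mul_add, add_sub_add_comm]; exact add_mem hw' hv''⟩
      | smul r u _ hu =>
        intro a
        obtain ⟨w, hw, hw'⟩ := hu (a * r)
        exact ⟨w, hw, by rwa [smul_eq_mul, ← mul_assoc]⟩
    obtain ⟨w, hw, hw'⟩ := key _ h1 1
    rw [one_mul] at hw'
    have h3 : Ideal.Quotient.mk (maximalIdeal A ^ (N + 1)) z =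
        (Ideal.Quotient.mkₐ k (maximalIdeal A ^ (N + 1))).toLinearMap ((∑ i, c i • b' i) + w) :=
      Ideal.Quotient.eq.mpr (by rwa [← sub_sub])
    rw [h3]
    exact Submodule.mem_map_of_mem (add_mem (Submodule.sum_mem _ fun i _ => Submodule.smul_mem _ _
      (Submodule.subset_span (Or.inl ⟨i, rfl⟩))) hw)

/-- `k[[T]] → A`, `T ↦ x` is finite when `x` generates an `𝔪`-primary ideal. -/
theorem exists_powerSeries_finite [IsAdicComplete (maximalIdeal A) A] {n : ℕ} (x : Fin n → A)
    (hx : ∀ i, x i ∈ maximalIdeal A) (N : ℕ) (hN : maximalIdeal A ^ N ≤ Ideal.span (Set.range x)) :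
    ∃ (_ : Algebra (MvPowerSeries (Fin n) k) A) (_ : IsScalarTower k (MvPowerSeries (Fin n) k) A),
      IsLocalHom (algebraMap (MvPowerSeries (Fin n) k) A) ∧ Module.Finite (MvPowerSeries (Fin n) k) A ∧
        ∀ i, algebraMap (MvPowerSeries (Fin n) k) A (MvPowerSeries.X i) = x i := by
  obtain ⟨φ, hφ⟩ := Groth.L12.exists_evalPS (R := k) (maximalIdeal A) x hx
  letI alg : Algebra (MvPowerSeries (Fin n) k) A := φ.toRingHom.toAlgebra
  haveI hT : IsScalarTower k (MvPowerSeries (Fin n) k) A := IsScalarTower.of_algebraMap_eq fun c => (φ.commutes c).symm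
  haveI : IsAdicComplete (maximalIdeal k) k := by rw [maximalIdeal_eq_bot]; infer_instance
  haveI : IsAdicComplete (maximalIdeal (MvPowerSeries (Fin n) k)) (MvPowerSeries (Fin n) k) := Groth.L12.isAdicComplete_mvPowerSeries
  have hI : (maximalIdeal (MvPowerSeries (Fin n) k)).map (algebraMap _ A) = Ideal.span (Set.range x) := by
    rw [show maximalIdeal (MvPowerSeries (Fin n) k) = Groth.L01.PowSerReg.varIdeal k n from Groth.L01.PowSerReg.maximalIdeal_eq k n,
      Groth.L01.PowSerReg.varIdeal, Ideal.map_span, ← Set.range_comp]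
    exact congrArg (fun s => Ideal.span (Set.range s)) (funext hφ)
  have hle : Ideal.span (Set.range x) ≤ maximalIdeal A := Ideal.span_le.mpr (by rintro _ ⟨i, rfl⟩; exact hx i)
  haveI hloc : IsLocalHom (algebraMap (MvPowerSeries (Fin n) k) A) :=
    ((IsLocalRing.local_hom_TFAE _).out 0 2).mpr (hI.le.trans hle)
  haveI : IsHausdorff (maximalIdeal (MvPowerSeries (Fin n) k)) A := ⟨fun z hz =>
    IsHausdorff.haus (I := maximalIdeal A) inferInstance z fun i => by
      have h1 := SModEq.zero.mp (hz i)
      rw [Ideal.smul_top_eq_map, Submodule.restrictScalars_mem, Ideal.map_pow, hI] at h1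
      rw [SModEq.zero, smul_eq_mul, Ideal.mul_top]
      exact Ideal.pow_right_mono hle i h1⟩
  refine ⟨alg, hT, hloc, Groth.Agent.S0544.result _ (maximalIdeal (MvPowerSeries (Fin n) k)) A ?_, hφ⟩
  haveI := finite_quotient_pow (k := k) (A := A) N
  let P : Submodule (MvPowerSeries (Fin n) k) A := maximalIdeal (MvPowerSeries (Fin n) k) • ⊤
  let g : (A ⧸ maximalIdeal A ^ N) →ₗ[k] A ⧸ P :=
    (((maximalIdeal A ^ N).restrictScalars k).liftQ ((P.mkQ).restrictScalars k) fun a ha => by
      refine (Submodule.Quotient.mk_eq_zero P).mpr ?_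
      rw [show P = ((maximalIdeal (MvPowerSeries (Fin n) k)).map (algebraMap _ A)).restrictScalars _ from Ideal.smul_top_eq_map _,
        Submodule.restrictScalars_mem, hI]
      exact hN ha).comp (Submodule.Quotient.restrictScalarsEquiv k (maximalIdeal A ^ N)).symm.toLinearMap
  haveI : Module.Finite k (A ⧸ P) := Module.Finite.of_surjective g fun y => by
    obtain ⟨a, rfl⟩ := Submodule.Quotient.mk_surjective P y
    exact ⟨Ideal.Quotient.mk _ a, rfl⟩
  exact Module.Finite.of_restrictScalars_finite k _ _

variable {n : ℕ} [Algebra (MvPowerSeries (Fin n) k) A] [Module.Finite (MvPowerSeries (Fin n) k) A]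

/-- quotient dimensions under a finite map from `k[[T]]` -/
theorem dim_quotient_le (q : Ideal A) [q.IsPrime] :
    ringKrullDim (A ⧸ q) ≤ n ∧
      (ringKrullDim (A ⧸ q) = n → q.comap (algebraMap (MvPowerSeries (Fin n) k) A) = ⊥) := by
  let p := q.comap (algebraMap (MvPowerSeries (Fin n) k) A)
  have h1 : ringKrullDim (A ⧸ q) = ringKrullDim (MvPowerSeries (Fin n) k ⧸ p) := by
    haveI : Module.Finite (MvPowerSeries (Fin n) k ⧸ p) (A ⧸ q) :=
      Module.Finite.of_restrictScalars_finite (MvPowerSeries (Fin n) k) _ _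
    exact Groth.L22.AffineDim.ringKrullDim_eq_of_isIntegral (Ideal.algebraMap_quotient_injective (I := q) (R := MvPowerSeries (Fin n) k))
  have h2 : ringKrullDim (MvPowerSeries (Fin n) k ⧸ p) ≤ n := by
    rw [← Groth.L01.PowSerReg.ringKrullDim_eq k n]
    exact ringKrullDim_le_of_surjective _ Ideal.Quotient.mk_surjective
  refine ⟨h1.le.trans h2, fun h => ?_⟩
  by_contra hne
  obtain ⟨t, ht, ht0⟩ := Submodule.exists_mem_ne_zero_of_ne_bot hne
  have h3 : ringKrullDim (MvPowerSeries (Fin n) k ⧸ p) + 1 ≤ ringKrullDim (MvPowerSeries (Fin n) k) := by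
    refine le_trans (add_le_add ?_ le_rfl) (ringKrullDim_quotient_succ_le_of_nonZeroDivisor (r := t)
      (mem_nonZeroDivisors_of_ne_zero ht0))
    exact ringKrullDim_le_of_surjective (Ideal.Quotient.factor ((Ideal.span_singleton_le_iff_mem _).mpr ht)) (Ideal.Quotient.factor_surjective _)
  rw [← h1, h, Groth.L01.PowSerReg.ringKrullDim_eq] at h3
  exact Nat.not_succ_le_self n (by exact_mod_cast h3)

end params

section rank

variable {k : Type u} [Field k] {n : ℕ} (L : Type u) [Field L] [Algebra k L] [Algebra (MvPowerSeries (Fin n) k) L]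
  [IsScalarTower k (MvPowerSeries (Fin n) k) L]

/-- the partial derivatives as coordinates -/
noncomputable def lam : L ⊗[MvPowerSeries (Fin n) k] Ω[MvPowerSeries (Fin n) k⁄k] →ₗ[L] (Fin n → L) :=
  LinearMap.liftBaseChange L (LinearMap.pi fun j =>
    (Algebra.linearMap (MvPowerSeries (Fin n) k) L).comp (MvPowerSeries.pderiv k j).liftKaehlerDifferential)

theorem lam_D (f : MvPowerSeries (Fin n) k) (j : Fin n) :
    lam (k := k) (n := n) L (1 ⊗ₜ KaehlerDifferential.D k (MvPowerSeries (Fin n) k) f) j = algebraMap (MvPowerSeries (Fin n) k) L (MvPowerSeries.pderiv k j f) := by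
  rw [lam, LinearMap.liftBaseChange_tmul, one_smul, LinearMap.pi_apply, LinearMap.comp_apply,
    Derivation.liftKaehlerDifferential_comp_D, Algebra.linearMap_apply]

/-- the pushout of `L^n` and `Ω_{L/k}` over `L ⊗ Ω_{k[[T]]/k}` -/
noncomputable def rel : Submodule L ((Fin n → L) × Ω[L⁄k]) :=
  LinearMap.range ((lam (k := k) (n := n) L).prod (-KaehlerDifferential.mapBaseChange k (MvPowerSeries (Fin n) k) L))

abbrev Push : Type u := ((Fin n → L) × Ω[L⁄k]) ⧸ rel (k := k) (n := n) L

/-- the coordinate map -/
noncomputable def inj : (Fin n → L) →ₗ[L] Push (k := k) (n := n) L := (rel L).mkQ.comp (LinearMap.inl L _ _)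

theorem ker_inj : LinearMap.ker (inj (k := k) (n := n) L) =
    Submodule.map (lam (k := k) (n := n) L) (LinearMap.ker (KaehlerDifferential.mapBaseChange k (MvPowerSeries (Fin n) k) L)) := by
  ext c
  constructor
  · intro h
    obtain ⟨w, hw⟩ := (Submodule.Quotient.mk_eq_zero _).mp (show Submodule.Quotient.mk (c, 0) = (0 : Push L) from h)
    exact ⟨w, neg_eq_zero.mp (congrArg Prod.snd hw), congrArg Prod.fst hw⟩
  · rintro ⟨w, hw, rfl⟩
    refine (Submodule.Quotient.mk_eq_zero _).mpr ⟨w, Prod.ext rfl ?_⟩
    show -(KaehlerDifferential.mapBaseChange k _ L w) = 0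
    rw [show KaehlerDifferential.mapBaseChange k (MvPowerSeries (Fin n) k) L w = 0 from hw, neg_zero]

theorem exists_toRel : ∃ e : (Push (k := k) (n := n) L ⧸ LinearMap.range (inj (k := k) (n := n) L)) →ₗ[L]
    Ω[L⁄MvPowerSeries (Fin n) k], Function.Bijective e := by
  let g := KaehlerDifferential.map k (MvPowerSeries (Fin n) k) L L
  let e1 : Push (k := k) (n := n) L →ₗ[L] Ω[L⁄MvPowerSeries (Fin n) k] :=
    (rel L).liftQ (g.comp (LinearMap.snd L _ _)) (by
      rintro _ ⟨w, rfl⟩
      show g (-(KaehlerDifferential.mapBaseChange k _ L w)) = 0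
      rw [map_neg, (KaehlerDifferential.exact_mapBaseChange_map k (MvPowerSeries (Fin n) k) L).apply_apply_eq_zero, neg_zero])
  have hker : LinearMap.range (inj (k := k) (n := n) L) = LinearMap.ker e1 := by
    refine le_antisymm ?_ fun z hz => ?_
    · rintro _ ⟨c, rfl⟩
      show g 0 = 0
      exact map_zero g
    · obtain ⟨⟨c, o⟩, rfl⟩ := Submodule.Quotient.mk_surjective _ z
      obtain ⟨w, rfl⟩ := (KaehlerDifferential.exact_mapBaseChange_map k (MvPowerSeries (Fin n) k) L o).mp hz
      refine ⟨c + lam (k := k) (n := n) L w, (Submodule.Quotient.eq _).mpr ?_⟩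
      exact ⟨w, Prod.ext (by simp) (by simp)⟩
  have hs : Function.Surjective e1 := fun y => by
    obtain ⟨o, rfl⟩ := KaehlerDifferential.map_surjective k (MvPowerSeries (Fin n) k) L y
    exact ⟨Submodule.Quotient.mk (0, o), rfl⟩
  exact ⟨((Submodule.quotEquivOfEq _ _ hker).trans (e1.quotKerEquivOfSurjective hs)).toLinearMap,
    LinearEquiv.bijective _⟩

variable (A : Type u) [CommRing A] [IsLocalRing A] [IsNoetherianRing A] [IsAdicComplete (maximalIdeal A) A]
  [Algebra k A] [Algebra.EssFiniteType k (ResidueField A)]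
  [Algebra (MvPowerSeries (Fin n) k) A] [IsScalarTower k (MvPowerSeries (Fin n) k) A] [Module.Finite (MvPowerSeries (Fin n) k) A]
  [Algebra A L] [IsScalarTower k A L] [IsScalarTower (MvPowerSeries (Fin n) k) A L]

theorem exists_toPush [IsDomain A] [IsFractionRing A L] :
    ∃ f : L ⊗[A] Om k A →ₗ[L] Push (k := k) (n := n) L, Function.Surjective f ∧
      ∀ j, f (1 ⊗ₜ dX A j) = inj L (Pi.single j 1) := by
  classical
  let D : Derivation k A (Push (k := k) (n := n) L) :=
    ((((rel L).mkQ.comp (LinearMap.inr L _ _)).restrictScalars A).comp (KaehlerDifferential.map k k A L)).compDer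
      (KaehlerDifferential.D k A)
  have hD : ∀ a, D a = Submodule.Quotient.mk (0, KaehlerDifferential.D k L (algebraMap A L a)) := fun a => by
    show Submodule.Quotient.mk ((0 : Fin n → L), KaehlerDifferential.map k k A L (KaehlerDifferential.D k A a)) = _
    rw [KaehlerDifferential.map_D]
  have hR : ∀ f, D (algebraMap (MvPowerSeries (Fin n) k) A f) = inj L (lam (k := k) (n := n) L (1 ⊗ₜ KaehlerDifferential.D k (MvPowerSeries (Fin n) k) f)) := by
    intro f
    rw [hD, ← IsScalarTower.algebraMap_apply]
    refine ((Submodule.Quotient.eq _).mpr ⟨-((1 : L) ⊗ₜ KaehlerDifferential.D k (MvPowerSeries (Fin n) k) f), Prod.ext ?_ ?_⟩)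
    · simp
    · simp [KaehlerDifferential.mapBaseChange_tmul, KaehlerDifferential.map_D]
  obtain ⟨l, hl⟩ := exists_lift_of_bounded k A (MvPowerSeries (Fin n) k) D
    (Submodule.span A (Set.range fun j : Fin n => inj (k := k) L (Pi.single j 1))) (Submodule.fg_span (Set.finite_range _))
    fun f => by
      rw [hR, pi_eq_sum_univ (lam (k := k) (n := n) L (1 ⊗ₜ KaehlerDifferential.D k (MvPowerSeries (Fin n) k) f)), map_sum]
      refine Submodule.sum_mem _ fun j _ => ?_
      rw [map_smul, lam_D, IsScalarTower.algebraMap_apply (MvPowerSeries (Fin n) k) A L, algebraMap_smul]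
      refine Submodule.smul_mem _ _ (Submodule.subset_span ⟨j, ?_⟩)
      show inj (k := k) L (Pi.single j 1) = _
      congr 1
      funext i
      simp [Pi.single_apply, eq_comm]
  refine ⟨l.liftBaseChange L, ?_, fun j => ?_⟩
  · have hX : ∀ j, inj L (Pi.single j 1) ∈ LinearMap.range (l.liftBaseChange L) := fun j =>
      ⟨1 ⊗ₜ dX A j, by
        rw [LinearMap.liftBaseChange_tmul, one_smul, dX, hl, hR]
        congr 1
        funext i
        rw [lam_D]
        by_cases h : j = i
        · subst h; simp
        · simp [MvPowerSeries.pderiv_X_of_ne h, Ne.symm h]⟩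
    rw [← LinearMap.range_eq_top]
    refine Submodule.eq_top_iff'.mpr fun z => ?_
    obtain ⟨⟨c, o⟩, rfl⟩ := Submodule.Quotient.mk_surjective _ z
    rw [show Submodule.Quotient.mk (c, o) = inj (k := k) L c + (rel L).mkQ (LinearMap.inr L _ _ o) by
      show (rel L).mkQ (c, o) = (rel L).mkQ (c, 0) + (rel L).mkQ (0, o)
      rw [← map_add]; simp]
    refine add_mem ?_ ?_
    · rw [pi_eq_sum_univ c, map_sum]
      refine Submodule.sum_mem _ fun j _ => ?_
      rw [map_smul]
      refine Submodule.smul_mem _ _ ?_
      convert hX j using 2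
      funext i
      simp [Pi.single_apply, eq_comm]
    · have ho := KaehlerDifferential.span_range_map_derivation_of_isLocalization k A L (nonZeroDivisors A)
      induction (show o ∈ _ from ho ▸ Submodule.mem_top) using Submodule.span_induction with
      | mem y hy =>
        obtain ⟨a, rfl⟩ := hy
        refine ⟨1 ⊗ₜ dhat k A a, ?_⟩
        rw [LinearMap.liftBaseChange_tmul, one_smul, hl]
        rfl
      | zero => rw [map_zero, map_zero]; exact zero_mem _
      | add a b _ _ ha hb => rw [map_add, map_add]; exact add_mem ha hb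
      | smul r a _ ha => rw [map_smul, map_smul]; exact Submodule.smul_mem _ _ ha
  · rw [LinearMap.liftBaseChange_tmul, one_smul, dX, hl, hR]
    congr 1
    funext i
    rw [lam_D]
    by_cases h : j = i
    · subst h; simp
    · simp [MvPowerSeries.pderiv_X_of_ne h, Ne.symm h]

variable (L0 : Type u) [Field L0] [Algebra (MvPowerSeries (Fin n) k) L0] [IsFractionRing (MvPowerSeries (Fin n) k) L0]
  [Algebra k L0] [IsScalarTower k (MvPowerSeries (Fin n) k) L0] [Algebra L0 L]
  [IsScalarTower (MvPowerSeries (Fin n) k) L0 L] [IsScalarTower k L0 L]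

/-- change to the fraction field -/
theorem exists_equiv_fraction :
    ∃ e : L ⊗[MvPowerSeries (Fin n) k] Ω[MvPowerSeries (Fin n) k⁄k] ≃ₗ[L] L ⊗[L0] Ω[L0⁄k],
      ∀ z, KaehlerDifferential.mapBaseChange k L0 L (e z) = KaehlerDifferential.mapBaseChange k (MvPowerSeries (Fin n) k) L z := by
  haveI : Algebra.FormallyEtale (MvPowerSeries (Fin n) k) L0 :=
    Algebra.FormallyEtale.of_isLocalization (nonZeroDivisors (MvPowerSeries (Fin n) k))
  let e0 := KaehlerDifferential.tensorKaehlerEquivOfFormallyEtale k (MvPowerSeries (Fin n) k) L0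
  let e : L ⊗[MvPowerSeries (Fin n) k] Ω[MvPowerSeries (Fin n) k⁄k] ≃ₗ[L] L ⊗[L0] Ω[L0⁄k] :=
    (TensorProduct.AlgebraTensorModule.cancelBaseChange (MvPowerSeries (Fin n) k) L0 L L (Ω[MvPowerSeries (Fin n) k⁄k])).symm.trans
      (TensorProduct.AlgebraTensorModule.congr (LinearEquiv.refl L L) e0)
  refine ⟨e, fun z => ?_⟩
  induction z using TensorProduct.induction_on with
  | zero => simp
  | add a b ha hb => simp only [map_add, ha, hb]
  | tmul c w =>
    induction (KaehlerDifferential.span_range_derivation k (MvPowerSeries (Fin n) k) ▸ Submodule.mem_top :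
        w ∈ Submodule.span _ (Set.range (KaehlerDifferential.D k (MvPowerSeries (Fin n) k)))) using Submodule.span_induction generalizing c with
    | mem y hy =>
      obtain ⟨f, rfl⟩ := hy
      simp only [e, LinearEquiv.trans_apply, TensorProduct.AlgebraTensorModule.cancelBaseChange_symm_tmul,
        TensorProduct.AlgebraTensorModule.congr_tmul, LinearEquiv.refl_apply, e0,
        KaehlerDifferential.tensorKaehlerEquivOfFormallyEtale_apply, KaehlerDifferential.mapBaseChange_tmul, one_smul,
        KaehlerDifferential.map_D]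
      rw [← IsScalarTower.algebraMap_apply]
    | zero => simp
    | add a b _ _ ha hb => simp only [TensorProduct.tmul_add, map_add, ha, hb]
    | smul r a _ ha => rw [← TensorProduct.smul_tmul]; exact ha _

theorem exists_equiv_relative : Nonempty (Ω[L⁄MvPowerSeries (Fin n) k] ≃ₗ[L] Ω[L⁄L0]) := by
  haveI : Algebra.FormallyEtale (MvPowerSeries (Fin n) k) L0 :=
    Algebra.FormallyEtale.of_isLocalization (nonZeroDivisors (MvPowerSeries (Fin n) k))
  haveI : Subsingleton (L ⊗[L0] Ω[L0⁄MvPowerSeries (Fin n) k]) := inferInstance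
  refine ⟨LinearEquiv.ofBijective (KaehlerDifferential.map (MvPowerSeries (Fin n) k) L0 L L)
    ⟨(injective_iff_map_eq_zero _).mpr fun z hz => ?_, KaehlerDifferential.map_surjective _ L0 L⟩⟩
  obtain ⟨w, rfl⟩ := (KaehlerDifferential.exact_mapBaseChange_map (MvPowerSeries (Fin n) k) L0 L z).mp hz
  rw [Subsingleton.elim w 0, map_zero]

include k n in
theorem finite_fraction [IsDomain A] [IsFractionRing A L] : Module.Finite L0 L := by
  obtain ⟨r, g, hg⟩ := Module.Finite.exists_fin (R := MvPowerSeries (Fin n) k) (M := A)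
  have hint : ∀ a : A, IsIntegral L0 (algebraMap A L a) := fun a =>
    ((Algebra.IsIntegral.isIntegral (R := MvPowerSeries (Fin n) k) a).algebraMap (B := L)).tower_top
  let K : IntermediateField L0 L := IntermediateField.adjoin L0 (Set.range fun i => algebraMap A L (g i))
  haveI : FiniteDimensional L0 K := IntermediateField.finiteDimensional_adjoin fun x hx => by
    obtain ⟨i, rfl⟩ := hx; exact hint _
  have hA : ∀ a : A, algebraMap A L a ∈ K := fun a => by
    obtain ⟨c, hc⟩ := (Submodule.mem_span_range_iff_exists_fun _).mp (show a ∈ Submodule.span (MvPowerSeries (Fin n) k) (Set.range g) by rw [hg]; trivial)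
    rw [← hc, map_sum]
    refine sum_mem fun i _ => ?_
    rw [Algebra.smul_def, map_mul, ← IsScalarTower.algebraMap_apply, IsScalarTower.algebraMap_apply (MvPowerSeries (Fin n) k) L0 L]
    exact mul_mem (IntermediateField.algebraMap_mem K _) (IntermediateField.subset_adjoin L0 _ ⟨i, rfl⟩)
  have htop : K = ⊤ := by
    refine eq_top_iff.mpr fun z _ => ?_
    obtain ⟨a, b, -, rfl⟩ := IsFractionRing.div_surjective (A := A) z
    exact div_mem (hA a) (hA b)
  exact Module.Finite.equiv ((IntermediateField.equivOfEq htop).trans IntermediateField.topEquiv).toLinearEquiv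

include L0 in
/-- the key inequality -/
theorem le_finrank [IsDomain A] [IsFractionRing A L] :
    Module.Finite L (L ⊗[A] Om k A) ∧ n ≤ Module.finrank L (L ⊗[A] Om k A) := by
  haveI := finite_om k A
  obtain ⟨f, hf, -⟩ := exists_toPush (k := k) (n := n) L A
  haveI : Module.Finite L (Push (k := k) (n := n) L) := Module.Finite.of_surjective f hf
  refine ⟨inferInstance, le_trans ?_ (LinearMap.finrank_le_finrank_of_surjective hf)⟩
  haveI := finite_fraction (k := k) (n := n) L A L0
  haveI : Algebra.EssFiniteType L0 L := inferInstance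
  obtain ⟨hfin, himp, hineq⟩ := Groth.L06.SepKaehler.finrank_kaehler_ge L0 L k
  obtain ⟨e, he⟩ := exists_equiv_fraction (k := k) (n := n) L L0
  obtain ⟨e'⟩ := exists_equiv_relative (k := k) (n := n) L L0
  obtain ⟨er, her⟩ := exists_toRel (k := k) (n := n) L
  have hk : Submodule.map e.toLinearMap (LinearMap.ker (KaehlerDifferential.mapBaseChange k (MvPowerSeries (Fin n) k) L)) =
      EGA41.imperfection k L0 L := by
    ext z
    constructor
    · rintro ⟨w, hw, rfl⟩
      exact (he w).trans hw
    · intro hz
      exact ⟨e.symm z, (by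
        show KaehlerDifferential.mapBaseChange k (MvPowerSeries (Fin n) k) L (e.symm z) = 0
        rw [← he, e.apply_symm_apply]; exact hz), e.apply_symm_apply z⟩
  let E := (e.submoduleMap _).trans (LinearEquiv.ofEq _ _ hk)
  haveI : Module.Finite L (LinearMap.ker (KaehlerDifferential.mapBaseChange k (MvPowerSeries (Fin n) k) L)) := Module.Finite.equiv E.symm
  have h1 := Submodule.finrank_map_le (lam (k := k) (n := n) L) (LinearMap.ker (KaehlerDifferential.mapBaseChange k (MvPowerSeries (Fin n) k) L))
  rw [← ker_inj, E.finrank_eq] at h1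
  have h2 := LinearMap.finrank_range_add_finrank_ker (inj (k := k) (n := n) L)
  rw [Module.finrank_fin_fun] at h2
  have h3 := Submodule.finrank_quotient_add_finrank (LinearMap.range (inj (k := k) (n := n) L))
  rw [((LinearEquiv.ofBijective er her).trans e').finrank_eq] at h3
  omega

include L0 in
theorem separable_kills [IsDomain A] [IsFractionRing A L] (a : A) (P : Polynomial (MvPowerSeries (Fin n) k))
    (hP : Polynomial.aeval a P = 0) (hs : (P.map (algebraMap (MvPowerSeries (Fin n) k) L0)).Separable) :
    ∃ b : A, b ≠ 0 ∧ b • KaehlerDifferential.D (MvPowerSeries (Fin n) k) A a = 0 := by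
  refine ⟨Polynomial.aeval a P.derivative, fun h0 => ?_, ?_⟩
  · obtain ⟨u, v, huv⟩ := hs
    have h1 := congrArg (Polynomial.aeval (algebraMap A L a)) huv
    rw [map_add, map_mul, map_mul, Polynomial.derivative_map, Polynomial.aeval_map_algebraMap, Polynomial.aeval_map_algebraMap,
      Polynomial.aeval_algebraMap_apply L a P, Polynomial.aeval_algebraMap_apply L a P.derivative, hP, h0, map_zero, mul_zero, mul_zero, add_zero, map_one] at h1
    exact zero_ne_one h1
  · rw [← Derivation.map_aeval, hP, map_zero]

include L0 in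
/-- the separable case -/
theorem finrank_le [IsDomain A] [IsFractionRing A L]
    (hsep : ∀ a : A, ∃ P : Polynomial (MvPowerSeries (Fin n) k), Polynomial.aeval a P = 0 ∧
      (P.map (algebraMap (MvPowerSeries (Fin n) k) L0)).Separable) :
    Module.finrank L (L ⊗[A] Om k A) ≤ n := by
  let s : (Fin n → L) →ₗ[L] L ⊗[A] Om k A := Fintype.linearCombination L fun j => 1 ⊗ₜ dX A j
  refine le_of_le_of_eq (LinearMap.finrank_le_finrank_of_surjective (f := s) ?_) (Module.finrank_fin_fun L)
  rw [← LinearMap.range_eq_top]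
  refine Submodule.eq_top_iff'.mpr fun z => ?_
  induction z using TensorProduct.induction_on with
  | zero => exact zero_mem _
  | add a b ha hb => exact add_mem ha hb
  | tmul c w =>
    induction (span_range_dhat k A ▸ Submodule.mem_top : w ∈ Submodule.span A (Set.range (dhat k A))) using Submodule.span_induction generalizing c with
    | mem y hy =>
      obtain ⟨a, rfl⟩ := hy
      obtain ⟨P, hP, hs⟩ := hsep a
      obtain ⟨b, hb0, hb⟩ := separable_kills (k := k) (n := n) L A L0 a P hP hs
      obtain ⟨e, he⟩ := exists_quotient_equiv (k := k) (r := n) A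
      have h1 : b • dhat k A a ∈ Submodule.span A (Set.range (dX A (k := k) (r := n))) := by
        refine (Submodule.Quotient.mk_eq_zero _).mp (e.injective ?_)
        rw [Submodule.Quotient.mk_smul, map_smul, he, map_zero, hb]
      have h2 : ∀ w ∈ Submodule.span A (Set.range (dX A (k := k) (r := n))), ∀ c : L, c ⊗ₜ[A] w ∈ LinearMap.range s := by
        intro w hw
        induction hw using Submodule.span_induction with
        | mem y hy =>
          obtain ⟨j, rfl⟩ := hy
          exact fun c => ⟨Pi.single j c, by simp [s, Fintype.linearCombination_apply_single, TensorProduct.smul_tmul', smul_eq_mul]⟩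
        | zero => intro c; rw [TensorProduct.tmul_zero]; exact zero_mem _
        | add u v _ _ hu hv => intro c; rw [TensorProduct.tmul_add]; exact add_mem (hu c) (hv c)
        | smul r u _ hu => intro c; rw [← TensorProduct.smul_tmul]; exact hu _
      have hbL : algebraMap A L b ≠ 0 := (map_ne_zero_iff _ (IsFractionRing.injective A L)).mpr hb0
      have h3 := h2 _ h1 (c * (algebraMap A L b)⁻¹)
      rwa [← TensorProduct.smul_tmul, Algebra.smul_def, mul_comm c, ← mul_assoc, mul_inv_cancel₀ hbL, one_mul] at h3
    | zero => rw [TensorProduct.tmul_zero]; exact zero_mem _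
    | add a b _ _ ha hb => rw [TensorProduct.tmul_add]; exact add_mem (ha c) (hb c)
    | smul r a _ ha => rw [← TensorProduct.smul_tmul]; exact ha _

end rank

end Groth.L06.CplKaehlerRank
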