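import Groth.Agent.L06.RelFPRing
import Groth.Agent.L29.RelPC.Module
import Groth.Agent.L20.ModStalk
import Groth.Agent.L05.Prufer.Sheaf
import Groth.Agent.L19.PullChart
import Groth.Agent.L16.QcqsPush
import Groth.Agent.L16.AffineBC.Pullback
import Groth.Prelude.Def_Flatn
import Mathlib.AlgebraicGeometry.Morphisms.Finite
import Mathlib.AlgebraicGeometry.Morphisms.FinitePresentation

/-!
# Quasi-coherent modules of finite presentation relative to a base
-/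

set_option autoImplicit false
set_option maxSynthPendingDepth 3
set_option linter.style.haveILetI false
set_option backward.isDefEq.respectTransparency.types false
set_option backward.isDefEq.respectTransparency false

universe u

open CategoryTheory CategoryTheory.Limits AlgebraicGeometry Opposite TopologicalSpace TensorProduct

attribute [local instance] HasDerivedCategory.standard

noncomputable section

namespace Groth.L06.RelFPModules

open Groth.L18.Frame (rs rs_rs)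

variable {X Y S : Scheme.{u}}

theorem relFPOn_all (f : X ⟶ S) [LocallyOfFiniteType f] (F : X.Modules) [Coh.IsQCoh F]
    (h : Flatn.IsRelFP f F) (U : X.affineOpens) (V : S.affineOpens)
    (hle : (U : X.Opens) ≤ f ⁻¹ᵁ (V : S.Opens)) : Flatn.RelFPOn f F U V hle :=
  (Groth.L29.RelPC.good_negOne_iff F U V hle).1
    (Groth.L29.RelPC.good_of_rel ((Groth.L29.RelPC.rel_negOne_iff F).2 ⟨inferInstance, h⟩) U.2 V.2 hle)

theorem isRelFP_of_local (f : X ⟶ S) [LocallyOfFiniteType f] (F : X.Modules) [Coh.IsQCoh F]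
    (h : ∀ x : X, ∃ (U : X.affineOpens) (V : S.affineOpens) (hle : (U : X.Opens) ≤ f ⁻¹ᵁ (V : S.Opens)),
      x ∈ (U : X.Opens) ∧ Flatn.RelFPOn f F U V hle) : Flatn.IsRelFP f F := by
  refine ((Groth.L29.RelPC.rel_negOne_iff F).1 (Groth.L29.RelPC.rel_of_local fun x => ?_)).2
  obtain ⟨U, V, hle, hx, h'⟩ := h x
  exact ⟨U, V, hx, U.2, V.2, hle, (Groth.L29.RelPC.good_negOne_iff F U V hle).2 h'⟩

theorem relFP_iff_forall (f : X ⟶ S) [LocallyOfFiniteType f] (F : X.Modules) [Coh.IsQCoh F] :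
    Flatn.IsRelFP f F ↔
      ∀ (U : X.affineOpens) (V : S.affineOpens) (h : (U : X.Opens) ≤ f ⁻¹ᵁ (V : S.Opens)),
        Flatn.RelFPOn f F U V h := by
  refine ⟨relFPOn_all f F, fun h => isRelFP_of_local f F fun x => ?_⟩
  obtain ⟨_, ⟨V, hV, rfl⟩, hxV, -⟩ :=
    S.isBasis_affineOpens.exists_subset_of_mem_open (Set.mem_univ (f x)) isOpen_univ
  obtain ⟨_, ⟨U, hU, rfl⟩, hxU, hUV⟩ :=
    X.isBasis_affineOpens.exists_subset_of_mem_open (show x ∈ f ⁻¹ᵁ V from hxV) (f ⁻¹ᵁ V).2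
  exact ⟨⟨U, hU⟩, ⟨V, hV⟩, hUV, hxU, h _ _ _⟩

/-- The test on a preimage of an affine open. -/
theorem relFPOn_preimage_iff (π : X ⟶ Y) (g : Y ⟶ S) [IsFinite π] [LocallyOfFiniteType g] (F : X.Modules)
    (U : Y.affineOpens) (V : S.affineOpens) (h : (U : Y.Opens) ≤ g ⁻¹ᵁ (V : S.Opens))
    (h' : π ⁻¹ᵁ (U : Y.Opens) ≤ (π ≫ g) ⁻¹ᵁ (V : S.Opens)) :
    Flatn.RelFPOn (π ≫ g) F ⟨π ⁻¹ᵁ (U : Y.Opens), U.2.preimage π⟩ V h' ↔
      Flatn.RelFPOn g ((Coh.push π).obj F) U V h := by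
  rw [Flatn.relFPOn_iff, Flatn.relFPOn_iff]
  letI := (g.appLE (V : S.Opens) (U : Y.Opens) h).hom.toAlgebra
  letI := ((π ≫ g).appLE (V : S.Opens) (π ⁻¹ᵁ (U : Y.Opens)) h').hom.toAlgebra
  letI := (π.app (U : Y.Opens)).hom.toAlgebra
  haveI : IsScalarTower Γ(S, (V : S.Opens)) Γ(Y, (U : Y.Opens)) Γ(X, π ⁻¹ᵁ (U : Y.Opens)) :=
    IsScalarTower.of_algebraMap_eq fun a => by
      have := Scheme.Hom.appLE_comp_appLE π g (V : S.Opens) (U : Y.Opens) (π ⁻¹ᵁ (U : Y.Opens)) h le_rfl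
      rw [← Scheme.Hom.app_eq_appLE] at this
      exact (congrArg (fun k => (CommRingCat.Hom.hom k) a) this).symm
  haveI : Algebra.FiniteType Γ(S, (V : S.Opens)) Γ(Y, (U : Y.Opens)) := g.finiteType_appLE V.2 U.2 h
  haveI : Module.Finite Γ(Y, (U : Y.Opens)) Γ(X, π ⁻¹ᵁ (U : Y.Opens)) := IsFinite.finite_app (f := π) _ U.2
  letI : Module Γ(Y, (U : Y.Opens)) (F.val.obj (op (π ⁻¹ᵁ (U : Y.Opens)))) :=
    Module.compHom _ (π.app (U : Y.Opens)).hom
  haveI : IsScalarTower Γ(Y, (U : Y.Opens)) Γ(X, π ⁻¹ᵁ (U : Y.Opens))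
      (F.val.obj (op (π ⁻¹ᵁ (U : Y.Opens)))) := IsScalarTower.of_algebraMap_smul fun _ _ => rfl
  exact RelFPRing.relFP_finite _

theorem isQCoh_push (π : X ⟶ Y) [IsFinite π] (F : X.Modules) [Coh.IsQCoh F] : Coh.IsQCoh ((Coh.push π).obj F) :=
  Groth.L16.QcqsPush.isQCoh_push F π

theorem relFP_iff_push (π : X ⟶ Y) (g : Y ⟶ S) [IsFinite π] [LocallyOfFiniteType g]
    (F : X.Modules) [Coh.IsQCoh F] : Flatn.IsRelFP (π ≫ g) F ↔ Flatn.IsRelFP g ((Coh.push π).obj F) := by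
  haveI := isQCoh_push π F
  constructor
  · intro h
    refine (relFP_iff_forall g _).2 fun U V hle => ?_
    exact (relFPOn_preimage_iff π g F U V hle (fun x hx => hle hx)).1 (relFPOn_all _ F h _ _ _)
  · intro h
    refine isRelFP_of_local _ F fun x => ?_
    obtain ⟨_, ⟨V, hV, rfl⟩, hxV, -⟩ :=
      S.isBasis_affineOpens.exists_subset_of_mem_open (Set.mem_univ (g (π x))) isOpen_univ
    obtain ⟨_, ⟨U, hU, rfl⟩, hxU, hUV⟩ :=
      Y.isBasis_affineOpens.exists_subset_of_mem_open (show π x ∈ g ⁻¹ᵁ V from hxV) (g ⁻¹ᵁ V).2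
    exact ⟨⟨π ⁻¹ᵁ U, hU.preimage π⟩, ⟨V, hV⟩, fun y hy => hUV hy, hxU,
      (relFPOn_preimage_iff π g F ⟨U, hU⟩ ⟨V, hV⟩ hUV _).2 (relFPOn_all g _ h _ _ _)⟩

/-- An affine chart at a point for a composite. -/
theorem exists_chart_comp (f : X ⟶ Y) (g : Y ⟶ S) (x : X) :
    ∃ (U : X.affineOpens) (W : Y.affineOpens) (V : S.affineOpens),
      x ∈ (U : X.Opens) ∧ (U : X.Opens) ≤ f ⁻¹ᵁ (W : Y.Opens) ∧ (W : Y.Opens) ≤ g ⁻¹ᵁ (V : S.Opens) := by
  obtain ⟨_, ⟨V, hV, rfl⟩, hxV, -⟩ :=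
    S.isBasis_affineOpens.exists_subset_of_mem_open (Set.mem_univ (g (f x))) isOpen_univ
  obtain ⟨_, ⟨W, hW, rfl⟩, hxW, hWV⟩ :=
    Y.isBasis_affineOpens.exists_subset_of_mem_open (show f x ∈ g ⁻¹ᵁ V from hxV) (g ⁻¹ᵁ V).2
  obtain ⟨_, ⟨U, hU, rfl⟩, hxU, hUW⟩ :=
    X.isBasis_affineOpens.exists_subset_of_mem_open (show x ∈ f ⁻¹ᵁ W from hxW) (f ⁻¹ᵁ W).2
  exact ⟨⟨U, hU⟩, ⟨W, hW⟩, ⟨V, hV⟩, hxU, hUW, hWV⟩

theorem relFP_comp (f : X ⟶ Y) (g : Y ⟶ S) [LocallyOfFiniteType f] [LocallyOfFinitePresentation g]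
    (F : X.Modules) [Coh.IsQCoh F] (hF : Flatn.IsRelFP f F) : Flatn.IsRelFP (f ≫ g) F := by
  refine isRelFP_of_local _ F fun x => ?_
  obtain ⟨U, W, V, hx, hUW, hWV⟩ := exists_chart_comp f g x
  refine ⟨U, V, fun y hy => hWV (hUW hy), hx, ?_⟩
  rw [Flatn.relFPOn_iff]
  letI := (g.appLE (V : S.Opens) (W : Y.Opens) hWV).hom.toAlgebra
  letI := (f.appLE (W : Y.Opens) (U : X.Opens) hUW).hom.toAlgebra
  letI := ((f ≫ g).appLE (V : S.Opens) (U : X.Opens) (fun y hy => hWV (hUW hy))).hom.toAlgebra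
  haveI : IsScalarTower Γ(S, (V : S.Opens)) Γ(Y, (W : Y.Opens)) Γ(X, (U : X.Opens)) :=
    IsScalarTower.of_algebraMap_eq fun a =>
      (congrArg (fun k => (CommRingCat.Hom.hom k) a)
        (Scheme.Hom.appLE_comp_appLE f g (V : S.Opens) (W : Y.Opens) (U : X.Opens) hWV hUW)).symm
  haveI : Algebra.FinitePresentation Γ(S, (V : S.Opens)) Γ(Y, (W : Y.Opens)) :=
    g.finitePresentation_appLE V.2 W.2 hWV
  exact RelFPRing.relFP_trans (B := Γ(Y, (W : Y.Opens))) _ (relFPOn_all f F hF U W hUW)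

/-- Sections of a module which is `tilde` of a module on an affine chart. -/
theorem sections_equiv (M : X.Modules) {V : X.Opens} (hV : IsAffineOpen V) (N : ModuleCat.{u} Γ(X, V))
    (i : M.restrict hV.fromSpec ≅ tilde N) : Nonempty (N ≃ₗ[Γ(X, V)] Γ(M, V)) := by
  have e2 : hV.fromSpec ''ᵁ ⊤ = V := by
    rw [Scheme.Hom.image_top_eq_opensRange, hV.opensRange_fromSpec]
  let e : (moduleSpecΓFunctor (R := Γ(X, V))).obj (M.restrict hV.fromSpec) ≃ₗ[Γ(X, V)] Γ(M, V) :=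
    { toFun := fun s => rs M e2.ge (show Γ(M, hV.fromSpec ''ᵁ ⊤) from s)
      invFun := fun t => (show Γ(M, hV.fromSpec ''ᵁ ⊤) from rs M e2.le t)
      left_inv := fun s => by
        show rs M e2.le (rs M e2.ge (show Γ(M, hV.fromSpec ''ᵁ ⊤) from s)) = _
        rw [rs_rs]
        exact Groth.L18.Frame.rs_self M _ _
      right_inv := fun t => by
        show rs M e2.ge (rs M e2.le t) = t
        rw [rs_rs]
        exact Groth.L18.Frame.rs_self M _ _
      map_add' := fun a b => map_add (M.presheaf.map (homOfLE e2.ge).op).hom a b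
      map_smul' := fun r s => Groth.L20.ModStalk.finitePresentation_sections_affine.appIso_smul M hV r
        (show Γ(M, hV.fromSpec ''ᵁ ⊤) from s) }
  exact ⟨(tilde.toTildeΓNatIso.app N ≪≫
    (moduleSpecΓFunctor (R := Γ(X, V))).mapIso i.symm).toLinearEquiv.trans e⟩

theorem exists_tilde_equiv (M : X.Modules) [Coh.IsQCoh M] {V : X.Opens} (hV : IsAffineOpen V) :
    ∃ N : ModuleCat.{u} Γ(X, V), Nonempty (M.restrict hV.fromSpec ≅ tilde N) ∧
      Nonempty (N ≃ₗ[Γ(X, V)] Γ(M, V)) := by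
  haveI : Coh.IsQCoh (M.restrict hV.fromSpec) := Scheme.Modules.isQuasicoherent_restrictFunctor _ M
  haveI : IsIso (M.restrict hV.fromSpec).fromTildeΓ := Scheme.Modules.isIso_fromTildeΓ_of_isQuasicoherent _
  exact ⟨_, ⟨(asIso (M.restrict hV.fromSpec).fromTildeΓ).symm⟩,
    sections_equiv M hV _ (asIso (M.restrict hV.fromSpec).fromTildeΓ).symm⟩

/-- Sections of a pullback on an affine open are the extension of scalars. -/
theorem sections_pullback (f : X ⟶ Y) (G : Y.Modules) [Coh.IsQCoh G] {U : X.Opens} (hU : IsAffineOpen U)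
    {W : Y.Opens} (hW : IsAffineOpen W) (hle : U ≤ f ⁻¹ᵁ W) :
    letI := (f.appLE W U hle).hom.toAlgebra
    Nonempty ((Γ(X, U) ⊗[Γ(Y, W)] Γ(G, W)) ≃ₗ[Γ(X, U)] Γ((Scheme.Modules.pullback f).obj G, U)) := by
  letI := (f.appLE W U hle).hom.toAlgebra
  obtain ⟨N, ⟨i⟩, ⟨eN⟩⟩ := exists_tilde_equiv G hW
  obtain ⟨i'⟩ := Groth.L19.PullChart.nonempty_chart_pullback f G (f.appLE W U hle) hW.fromSpec hU.fromSpec
    (IsAffineOpen.SpecMap_appLE_fromSpec f hW hU hle).symm N i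
  obtain ⟨e1⟩ := sections_equiv _ hU _ i'
  obtain ⟨e2⟩ := Groth.L18.TildeF.extendScalars_equiv (S := Γ(X, U)) N
  exact ⟨((TensorProduct.AlgebraTensorModule.congr (LinearEquiv.refl Γ(X, U) Γ(X, U)) eN.symm).trans e2.symm).trans e1⟩

theorem relFP_pullback (f : X ⟶ Y) (g : Y ⟶ S) [LocallyOfFinitePresentation f] [LocallyOfFiniteType g]
    (G : Y.Modules) [Coh.IsQCoh G] (hG : Flatn.IsRelFP g G) :
    Flatn.IsRelFP (f ≫ g) ((Scheme.Modules.pullback f).obj G) := by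
  haveI : Coh.IsQCoh ((Scheme.Modules.pullback f).obj G) := Groth.L16.AffineBC.isQCoh_pullback f G
  refine isRelFP_of_local _ _ fun x => ?_
  obtain ⟨U, W, V, hx, hUW, hWV⟩ := exists_chart_comp f g x
  refine ⟨U, V, fun y hy => hWV (hUW hy), hx, ?_⟩
  rw [Flatn.relFPOn_iff]
  letI := (g.appLE (V : S.Opens) (W : Y.Opens) hWV).hom.toAlgebra
  letI := (f.appLE (W : Y.Opens) (U : X.Opens) hUW).hom.toAlgebra
  letI := ((f ≫ g).appLE (V : S.Opens) (U : X.Opens) (fun y hy => hWV (hUW hy))).hom.toAlgebra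
  haveI : IsScalarTower Γ(S, (V : S.Opens)) Γ(Y, (W : Y.Opens)) Γ(X, (U : X.Opens)) :=
    IsScalarTower.of_algebraMap_eq fun a =>
      (congrArg (fun k => (CommRingCat.Hom.hom k) a)
        (Scheme.Hom.appLE_comp_appLE f g (V : S.Opens) (W : Y.Opens) (U : X.Opens) hWV hUW)).symm
  haveI : Algebra.FiniteType Γ(S, (V : S.Opens)) Γ(Y, (W : Y.Opens)) := g.finiteType_appLE V.2 W.2 hWV
  haveI : Algebra.FinitePresentation Γ(Y, (W : Y.Opens)) Γ(X, (U : X.Opens)) :=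
    f.finitePresentation_appLE W.2 U.2 hUW
  obtain ⟨e⟩ := sections_pullback f G U.2 W.2 hUW
  exact RelFPRing.relFP_of_equiv e
    (RelFPRing.relFP_baseChange (C := Γ(X, (U : X.Opens))) _ (relFPOn_all g G hG W V hWV))

/-- Finite presentation and finite finitely presented morphisms. -/
theorem isFP_iff_push (f : X ⟶ Y) [IsFinite f] [LocallyOfFinitePresentation f] (F : X.Modules) [Coh.IsQCoh F] :
    CohB1.IsFP F ↔ CohB1.IsFP ((Scheme.Modules.pushforward f).obj F) := by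
  haveI : Coh.IsQCoh ((Scheme.Modules.pushforward f).obj F) := Groth.L16.QcqsPush.isQCoh_push F f
  have key : ∀ {U : Y.Opens} (_ : IsAffineOpen U),
      Module.FinitePresentation Γ(X, f ⁻¹ᵁ U) Γ(F, f ⁻¹ᵁ U) ↔
        Module.FinitePresentation Γ(Y, U) Γ((Scheme.Modules.pushforward f).obj F, U) := by
    intro U hU
    refine (RelFPRing.fp_iff_of (f.app U).hom (IsFinite.finite_app (f := f) U hU) ?_ _).trans Iff.rfl
    rw [Scheme.Hom.app_eq_appLE]
    exact f.finitePresentation_appLE hU (hU.preimage f) le_rfl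
  constructor
  · intro h
    refine Groth.L05.Prufer.isFP_of_sections _ fun y => ?_
    obtain ⟨_, ⟨U, hU, rfl⟩, hyU, -⟩ :=
      Y.isBasis_affineOpens.exists_subset_of_mem_open (Set.mem_univ y) isOpen_univ
    exact ⟨U, hU, hyU, (key hU).1 (Groth.L20.ModStalk.finitePresentation_sections F h (hU.preimage f))⟩
  · intro h
    refine Groth.L05.Prufer.isFP_of_sections _ fun x => ?_
    obtain ⟨_, ⟨U, hU, rfl⟩, hyU, -⟩ :=
      Y.isBasis_affineOpens.exists_subset_of_mem_open (Set.mem_univ (f x)) isOpen_univ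
    exact ⟨f ⁻¹ᵁ U, hU.preimage f, hyU, (key hU).2 (Groth.L20.ModStalk.finitePresentation_sections _ h hU)⟩

end Groth.L06.RelFPModules
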