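import Mathlib.RingTheory.Ideal.KrullsHeightTheorem
import Mathlib.RingTheory.KrullDimension.Regular
import Mathlib.RingTheory.Regular.Flat
import Mathlib.RingTheory.Localization.AtPrime.Basic
import Mathlib.AlgebraicGeometry.Stalk
import Groth.Agent.L07.EquidimPoint

/-!
The codimension of a component of the zero locus of a regular sequence; the dimension of a local
ring at a generization in terms of the height of the corresponding prime.
-/

universe u

open CategoryTheory AlgebraicGeometry

set_option maxSynthPendingDepth 3
set_option linter.style.haveILetI false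

namespace Groth.L06.RegularSeqCodim

theorem height_of_minimalPrimes {A : Type u} [CommRing A] [IsNoetherianRing A] (rs : List A)
    (hreg : RingTheory.Sequence.IsWeaklyRegular A rs) (P : Ideal A) [P.IsPrime]
    (hP : P ∈ (Ideal.ofList rs).minimalPrimes) : P.height = (rs.length : ℕ∞) := by
  classical
  refine le_antisymm ?_ ?_
  · have hspan : Ideal.ofList rs = Ideal.span ((rs.toFinset : Finset A) : Set A) := by
      rw [List.coe_toFinset]
    rw [hspan] at hP
    exact (Ideal.height_le_card_of_mem_minimalPrimes_span_finset hP).trans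
      (by exact_mod_cast rs.toFinset_card_le)
  · have hmem : ∀ r ∈ rs, r ∈ P := fun r hr => hP.1.2 (Ideal.subset_span hr)
    have h1 := hreg.isRegular_of_isLocalization_of_mem (Localization.AtPrime P) P hmem
    have h2 := ringKrullDim_add_length_eq_ringKrullDim_of_isRegular _ h1
    rw [IsLocalization.AtPrime.ringKrullDim_eq_height P (Localization.AtPrime P), List.length_map] at h2
    haveI : Nontrivial (Localization.AtPrime P ⧸
        Ideal.ofList (rs.map (algebraMap A (Localization.AtPrime P)))) :=
      Ideal.Quotient.nontrivial_iff.mpr (ne_top_of_le_ne_top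
        (IsLocalRing.maximalIdeal.isMaximal _).ne_top (Ideal.span_le.mpr fun a ha => by
          obtain ⟨r, hr, rfl⟩ := List.mem_map.mp ha
          exact (IsLocalization.AtPrime.to_map_mem_maximal_iff _ P r).mpr (hmem r hr)))
    have h3 := add_le_add_right (ringKrullDim_nonneg_of_nontrivial (R := Localization.AtPrime P ⧸
        Ideal.ofList (rs.map (algebraMap A (Localization.AtPrime P))))) (rs.length : WithBot ℕ∞)
    have h4 : (rs.length : WithBot ℕ∞) ≤ (P.height : WithBot ℕ∞) := by
      rw [← h2]; simpa [add_comm] using h3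
    exact_mod_cast h4

theorem dim_stalk_fromSpecStalk {X : Scheme.{u}} (x : X) (P : PrimeSpectrum (X.presheaf.stalk x)) :
    ringKrullDim (X.presheaf.stalk (X.fromSpecStalk x P)) = (P.asIdeal.height : WithBot ℕ∞) := by
  set w := X.fromSpecStalk x P with hwdef
  have hw : w ⤳ x := Groth.L07.EquidimPoint.specializes_point x P
  have key : ∀ P' : PrimeSpectrum (X.presheaf.stalk w), ∃ Q : Set.Iic P,
      X.fromSpecStalk x Q.1 = X.fromSpecStalk w P' := fun P' => by
    have h := Groth.L07.EquidimPoint.specializes_point w P'
    obtain ⟨Q, hQ⟩ : X.fromSpecStalk w P' ∈ Set.range (X.fromSpecStalk x) := by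
      rw [Scheme.range_fromSpecStalk]; exact h.trans hw
    exact ⟨⟨Q, (Groth.L07.EquidimPoint.le_iff_specializes' x Q P).mpr (by rw [hQ, ← hwdef]; exact h)⟩, hQ⟩
  choose e he using key
  have hmono : ∀ a b, e a ≤ e b ↔ a ≤ b := fun a b => by
    rw [Groth.L07.EquidimPoint.le_iff_specializes' w a b, ← he, ← he,
      ← Groth.L07.EquidimPoint.le_iff_specializes' x]
    rfl
  have hsurj : Function.Surjective e := fun Q => by
    obtain ⟨P', hP'⟩ : X.fromSpecStalk x Q.1 ∈ Set.range (X.fromSpecStalk w) := by
      rw [Scheme.range_fromSpecStalk]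
      exact (Groth.L07.EquidimPoint.le_iff_specializes' x Q.1 P).mp Q.2
    exact ⟨P', Subtype.ext ((X.fromSpecStalk x).isEmbedding.injective ((he P').trans hP'))⟩
  let iso : PrimeSpectrum (X.presheaf.stalk w) ≃o Set.Iic P :=
    RelIso.ofSurjective ⟨⟨e, fun a b h => le_antisymm ((hmono a b).mp h.le) ((hmono b a).mp h.ge)⟩,
      fun {a b} => hmono a b⟩ hsurj
  rw [show ringKrullDim (X.presheaf.stalk w) = Order.krullDim (PrimeSpectrum (X.presheaf.stalk w)) from rfl,
    Order.krullDim_eq_of_orderIso iso, ← Order.height_eq_krullDim_Iic, PrimeSpectrum.height_eq_orderHeight]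

end Groth.L06.RegularSeqCodim
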