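import Groth.Agent.L19.QuasiFlat
import Mathlib.AlgebraicGeometry.Morphisms.UniversallyOpen
import Mathlib.RingTheory.Flat.Localization
import Mathlib.RingTheory.Support
import Mathlib.RingTheory.Spectrum.Prime.Chevalley

/-! A quasi-flat morphism locally of finite presentation is universally open. -/

set_option autoImplicit false
set_option maxSynthPendingDepth 3
set_option linter.style.haveILetI false
set_option backward.isDefEq.respectTransparency.types false
set_option backward.isDefEq.respectTransparency false

universe u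

open CategoryTheory CategoryTheory.Limits AlgebraicGeometry TopologicalSpace TensorProduct

noncomputable section

namespace Groth.L06.QuasiFlatOpen

theorem flat_localized {R S : Type u} [CommRing R] [CommRing S] [Algebra R S] (W : Submonoid S) (N Nq : Type u)
    [AddCommGroup N] [Module R N] [Module S N] [IsScalarTower R S N] [AddCommGroup Nq] [Module R Nq]
    [Module S Nq] [IsScalarTower R S Nq] (g : N →ₗ[S] Nq) [IsLocalizedModule W g] [Module.Flat R N] :
    Module.Flat R Nq := by
  rw [Module.Flat.iff_lTensor_injectiveₛ]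
  intro P _ _ I
  have h := IsLocalizedModule.map_injective W (AlgebraTensorModule.rTensor R I g)
    (AlgebraTensorModule.rTensor R P g) (AlgebraTensorModule.lTensor S N I.subtype)
    (Module.Flat.lTensor_preserves_injective_linearMap I.subtype I.injective_subtype)
  rw [IsLocalizedModule.map_lTensor] at h
  exact h

theorem nontrivial_baseChange_field (K L V : Type u) [Field K] [Field L] [Algebra K L] [AddCommGroup V]
    [Module K V] [Nontrivial V] : Nontrivial (L ⊗[K] V) :=
  Module.FaithfullyFlat.lTensor_nontrivial K L V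

theorem support_baseChange {S S' : Type u} [CommRing S] [CommRing S'] [Algebra S S'] (N : Type u) [AddCommGroup N]
    [Module S N] [Module.Finite S N] (h : Module.support S N = Set.univ) :
    Module.support S' (S' ⊗[S] N) = Set.univ := by
  refine Set.eq_univ_of_forall fun q' => ?_
  let q := PrimeSpectrum.comap (algebraMap S S') q'
  have hq := (Module.mem_support_iff_nontrivial_residueField_tensorProduct q).mp (h ▸ Set.mem_univ q)
  rw [Module.mem_support_iff_nontrivial_residueField_tensorProduct]
  letI : Algebra q.asIdeal.ResidueField q'.asIdeal.ResidueField :=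
    (Ideal.ResidueField.map q.asIdeal q'.asIdeal (algebraMap S S') rfl).toAlgebra
  haveI : IsScalarTower S q.asIdeal.ResidueField q'.asIdeal.ResidueField :=
    IsScalarTower.of_algebraMap_eq fun x => by
      rw [RingHom.algebraMap_toAlgebra, Ideal.ResidueField.map_algebraMap]; exact IsScalarTower.algebraMap_apply S S' _ x
  have e1 := (AlgebraTensorModule.cancelBaseChange S q.asIdeal.ResidueField q'.asIdeal.ResidueField
    q'.asIdeal.ResidueField N).toEquiv
  have e2 := (AlgebraTensorModule.cancelBaseChange S S' q'.asIdeal.ResidueField q'.asIdeal.ResidueField N).toEquiv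
  haveI : Nontrivial (q'.asIdeal.ResidueField ⊗[q.asIdeal.ResidueField] (q.asIdeal.ResidueField ⊗[S] N)) :=
    nontrivial_baseChange_field _ _ _
  exact (e2.trans e1.symm).nontrivial

/-- A finite module with full support that is flat over the base gives going down. -/
theorem hasGoingDown {R S : Type u} [CommRing R] [CommRing S] [Algebra R S] (N : Type u) [AddCommGroup N]
    [Module R N] [Module S N] [IsScalarTower R S N] [Module.Finite S N] [Module.Flat R N]
    (hsupp : Module.support S N = Set.univ) : Algebra.HasGoingDown R S := by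
  rw [Algebra.HasGoingDown.iff_generalizingMap_primeSpectrumComap]
  intro q p' hp'
  let p := PrimeSpectrum.comap (algebraMap R S) q
  let A := Localization.AtPrime p.asIdeal
  let B := Localization.AtPrime q.asIdeal
  let Nq := LocalizedModule q.asIdeal.primeCompl N
  letI algAB : Algebra A B := (Localization.localRingHom p.asIdeal q.asIdeal (algebraMap R S) rfl).toAlgebra
  haveI : IsScalarTower R A B := IsScalarTower.of_algebraMap_eq fun x => by
    rw [RingHom.algebraMap_toAlgebra]
    exact ((Localization.localRingHom_to_map p.asIdeal q.asIdeal (algebraMap R S) rfl x).trans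
      (IsScalarTower.algebraMap_apply R S B x).symm).symm
  haveI : IsLocalHom (algebraMap A B) := by
    rw [RingHom.algebraMap_toAlgebra]; exact Localization.isLocalHom_localRingHom _ _ _ _
  haveI : Nontrivial Nq :=
    Module.mem_support_iff.mp (hsupp ▸ Set.mem_univ q : q ∈ Module.support S N)
  haveI : Module.Finite B Nq :=
    Module.Finite.of_isLocalizedModule q.asIdeal.primeCompl (LocalizedModule.mkLinearMap q.asIdeal.primeCompl N)
  letI : Module A Nq := Module.compHom Nq (algebraMap A B)
  haveI : IsScalarTower A B Nq := IsScalarTower.of_algebraMap_smul fun _ _ => rfl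
  haveI : IsScalarTower R B Nq := IsScalarTower.of_algebraMap_smul fun r x => by
    rw [IsScalarTower.algebraMap_apply R S B, IsScalarTower.algebraMap_smul, IsScalarTower.algebraMap_smul]
  haveI : IsScalarTower R A Nq := IsScalarTower.of_algebraMap_smul fun r x => by
    show algebraMap A B (algebraMap R A r) • x = r • x
    rw [← IsScalarTower.algebraMap_apply R A B, IsScalarTower.algebraMap_smul]
  haveI : Module.Flat R Nq := by
    exact flat_localized q.asIdeal.primeCompl N Nq (LocalizedModule.mkLinearMap q.asIdeal.primeCompl N)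
  haveI : Module.Flat A Nq := (Module.flat_iff_of_isLocalization A p.asIdeal.primeCompl Nq).mpr inferInstance
  obtain ⟨p'', rfl⟩ : p' ∈ Set.range (PrimeSpectrum.comap (algebraMap R A)) := by
    rw [PrimeSpectrum.localization_comap_range A p.asIdeal.primeCompl]
    exact Set.disjoint_left.mpr fun a ha hb => ha ((PrimeSpectrum.le_iff_specializes _ _).mpr hp' hb)
  obtain ⟨Q, hQ⟩ := Groth.L19.QFlat.comap_surjective_of_flat (A := A) (B := B) (N := Nq) p''
  refine ⟨PrimeSpectrum.comap (algebraMap S B) Q, ?_, ?_⟩
  · show _ ⤳ _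
    rw [← PrimeSpectrum.le_iff_specializes]
    intro a ha
    by_contra hna
    exact Q.isPrime.ne_top (Ideal.eq_top_of_isUnit_mem _ ha (IsLocalization.map_units B (⟨a, hna⟩ : q.asIdeal.primeCompl)))
  · apply PrimeSpectrum.ext
    rw [← hQ]
    show (Q.asIdeal.comap (algebraMap S B)).comap (algebraMap R S) = (Q.asIdeal.comap (algebraMap A B)).comap (algebraMap R A)
    rw [Ideal.comap_comap, Ideal.comap_comap, ← IsScalarTower.algebraMap_eq, ← IsScalarTower.algebraMap_eq]

/-- The affine statement after base change. -/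
theorem isOpenMap_comap {R S R' : Type u} [CommRing R] [CommRing S] [CommRing R'] [Algebra R S] [Algebra R R']
    [Algebra.FinitePresentation R S] (N : Type u) [AddCommGroup N] [Module R N] [Module S N]
    [IsScalarTower R S N] [Module.Finite S N] [Module.Flat R N] (hsupp : Module.support S N = Set.univ) :
    IsOpenMap (PrimeSpectrum.comap (algebraMap R' (R' ⊗[R] S))) := by
  let S' := R' ⊗[R] S
  letI : Algebra S S' := Algebra.TensorProduct.rightAlgebra
  let N' := S' ⊗[S] N
  haveI : IsScalarTower R' S' N' := TensorProduct.isScalarTower_left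
  haveI : Module.Flat R' N' := by
    have hpo : Algebra.IsPushout R R' S S' := inferInstance
    haveI : Module.Flat R' (R' ⊗[R] N) := inferInstance
    exact Module.Flat.of_linearEquiv (Algebra.IsPushout.cancelBaseChange R R' S S' N)
  have hsupp' : Module.support S' N' = Set.univ := by
    exact support_baseChange N hsupp
  haveI : Algebra.HasGoingDown R' S' := hasGoingDown N' hsupp'
  exact PrimeSpectrum.isOpenMap_comap_of_hasGoingDown_of_finitePresentation

variable {X Y : Scheme.{u}}

theorem flat_sections (f : X ⟶ Y) (M : X.Modules) (hM : Coh.IsCoh M) (hflat : FlatMod.IsFlatOver f M)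
    {U : Y.Opens} (hU : IsAffineOpen U) {V : X.Opens} (hV : IsAffineOpen V) (e : V ≤ f ⁻¹ᵁ U) :
    letI := (f.appLE U V e).hom.toAlgebra
    letI : Module Γ(Y, U) Γ(M, V) := Module.compHom _ (f.appLE U V e).hom
    Module.Flat Γ(Y, U) Γ(M, V) := by
  letI := (f.appLE U V e).hom.toAlgebra
  letI : Module Γ(Y, U) Γ(M, V) := Module.compHom _ (f.appLE U V e).hom
  haveI : IsScalarTower Γ(Y, U) Γ(X, V) Γ(M, V) := IsScalarTower.of_algebraMap_smul fun _ _ => rfl
  haveI : Coh.IsQCoh M := hM.1
  have hx : ∀ P : Ideal Γ(X, V), P.IsMaximal → ∃ x : X, ∃ hx : x ∈ V, (hV.primeIdealOf ⟨x, hx⟩).asIdeal = P := by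
    intro P hP
    let q : PrimeSpectrum Γ(X, V) := ⟨P, hP.isPrime⟩
    have hmem : hV.fromSpec q ∈ V := by
      show _ ∈ (V : Set X)
      rw [← hV.range_fromSpec]; exact Set.mem_range_self q
    exact ⟨hV.fromSpec q, hmem, congrArg PrimeSpectrum.asIdeal
      (hV.fromSpec.isOpenEmbedding.injective (hV.fromSpec_primeIdealOf ⟨_, hmem⟩) : hV.primeIdealOf ⟨_, hmem⟩ = q)⟩
  apply Module.flat_of_isLocalized_maximal Γ(X, V) Γ(M, V) (fun P _ => LocalizedModule P.primeCompl Γ(M, V))
    (fun P _ => LocalizedModule.mkLinearMap P.primeCompl Γ(M, V))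
  intro P hP
  obtain ⟨x, hxV, rfl⟩ := hx P hP
  letI := Groth.L20.ModStalk.stalkModule M hxV
  haveI := Groth.L20.ModStalk.isLocalizedModule_germ M hV hxV
  letI : Module Γ(Y, U) (M.presheaf.stalk x) := Module.compHom _ (f.appLE U V e).hom
  haveI : IsScalarTower Γ(Y, U) Γ(X, V) (M.presheaf.stalk x) := IsScalarTower.of_algebraMap_smul fun _ _ => rfl
  have hfl : Module.Flat Γ(Y, U) (M.presheaf.stalk x) := by
    letI := Y.presheaf.algebra_section_stalk ⟨f x, e hxV⟩
    haveI := hU.isLocalization_stalk ⟨f x, e hxV⟩
    haveI : Module.Flat Γ(Y, U) (Y.presheaf.stalk (f x)) :=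
      IsLocalization.flat _ (hU.primeIdealOf ⟨f x, e hxV⟩).asIdeal.primeCompl
    letI := FlatMod.moduleStalkOver f M x
    haveI : IsScalarTower Γ(Y, U) (Y.presheaf.stalk (f x)) (M.presheaf.stalk x) :=
      IsScalarTower.of_algebraMap_smul fun r m => by
        show (f.stalkMap x).hom ((Y.presheaf.germ U (f x) (e hxV)).hom r) • m =
          (X.presheaf.germ V x hxV).hom ((f.appLE U V e).hom r) • m
        congr 1
        rw [← CommRingCat.comp_apply, ← CommRingCat.comp_apply, Scheme.Hom.germ_stalkMap]
        simp [Scheme.Hom.appLE, CommRingCat.comp_apply, X.presheaf.germ_res_apply]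
    haveI : Module.Flat (Y.presheaf.stalk (f x)) (M.presheaf.stalk x) := hflat x
    exact Module.Flat.trans Γ(Y, U) (Y.presheaf.stalk (f x)) (M.presheaf.stalk x)
  exact Module.Flat.of_linearEquiv ((IsLocalizedModule.iso (hV.primeIdealOf ⟨x, hxV⟩).asIdeal.primeCompl
    (Groth.L20.ModStalk.germₗ M hxV)).restrictScalars Γ(Y, U))

theorem support_sections (M : X.Modules) (hM : Coh.IsCoh M) (hne : ∀ x : X, Nontrivial (M.presheaf.stalk x))
    {V : X.Opens} (hV : IsAffineOpen V) : Module.support Γ(X, V) Γ(M, V) = Set.univ := by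
  haveI : Coh.IsQCoh M := hM.1
  refine Set.eq_univ_of_forall fun q => ?_
  have hmem : hV.fromSpec q ∈ V := by
      show _ ∈ (V : Set X)
      rw [← hV.range_fromSpec]; exact Set.mem_range_self q
  have hq : hV.primeIdealOf ⟨_, hmem⟩ = q :=
    hV.fromSpec.isOpenEmbedding.injective (hV.fromSpec_primeIdealOf ⟨_, hmem⟩)
  letI := Groth.L20.ModStalk.stalkModule M hmem
  haveI := Groth.L20.ModStalk.isLocalizedModule_germ M hV hmem
  haveI := hne (hV.fromSpec q)
  rw [← hq, Module.mem_support_iff]
  exact (IsLocalizedModule.iso (hV.primeIdealOf ⟨_, hmem⟩).asIdeal.primeCompl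
    (Groth.L20.ModStalk.germₗ M hmem)).toEquiv.nontrivial

theorem universallyOpen (f : X ⟶ Y) [LocallyOfFinitePresentation f] (hf : FDesc.IsQuasiFlat f) :
    UniversallyOpen f := by
  obtain ⟨M, hM, hflat, hne⟩ := hf
  have := HasRingHomProperty.of_isZariskiLocalAtSource_of_isZariskiLocalAtTarget.{u} @UniversallyOpen
  rw [HasRingHomProperty.iff_appLE (P := @UniversallyOpen)]
  intro U V e
  have hfp : (f.appLE U V e).hom.FinitePresentation :=
    HasRingHomProperty.appLE @LocallyOfFinitePresentation f ‹_› U V e
  letI : Module Γ(Y, U) Γ(M, V) := Module.compHom _ (f.appLE U V e).hom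
  algebraize [(f.appLE U V e).hom]
  haveI : IsScalarTower Γ(Y, U) Γ(X, V) Γ(M, V) := IsScalarTower.of_algebraMap_smul fun _ _ => rfl
  haveI : Module.Flat Γ(Y, U) Γ(M, V) := flat_sections f M hM hflat U.2 V.2 e
  haveI : Module.Finite Γ(X, V) Γ(M, V) := Groth.L20.ModStalk.finite_sections M hM V.2
  have hs := support_sections M hM hne V.2
  refine ⟨MorphismProperty.universally_mk' _ _ fun {T} g _ ↦ ?_⟩
  wlog hT : ∃ R, T = Spec R generalizing T
  · refine (IsZariskiLocalAtTarget.iff_of_openCover T.affineCover).mpr fun i ↦ ?_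
    refine (MorphismProperty.cancel_left_of_respectsIso _
      ((pullbackRightPullbackFstIso ..).inv ≫ (pullbackSymmetry ..).hom) _).mp ?_
    simpa [Scheme.Cover.pullbackHom] using! this _ inferInstance ⟨_, rfl⟩
  obtain ⟨R, rfl⟩ := hT
  obtain ⟨ψ, rfl⟩ := Spec.map_surjective g
  algebraize [ψ.hom]
  refine (MorphismProperty.cancel_left_of_respectsIso _ (pullbackSpecIso Γ(Y, U) R Γ(X, V)).inv _).mp ?_
  convert_to! topologically _ (Spec.map <| CommRingCat.ofHom (algebraMap R (TensorProduct Γ(Y, U) R Γ(X, V))))
  · exact pullbackSpecIso_inv_fst ..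
  exact isOpenMap_comap Γ(M, V) hs

end Groth.L06.QuasiFlatOpen
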