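import Groth.Agent.L07.DimToolkit
import Groth.Agent.L22.FibreIrr

/-!
Transcendence degrees along specialisations inside a fibre.
-/

set_option autoImplicit false
set_option linter.style.haveILetI false
universe u

open CategoryTheory AlgebraicGeometry Groth.L07.DimToolkit Groth.L07.Equidim Groth.L22

namespace Groth.L06.FibTrdeg

theorem rtrdeg_lt {X S : Scheme.{u}} (f : X ⟶ S) [LocallyOfFiniteType f] (x x' : X)
    (hsp : x ⤳ x') (hne : x ≠ x') (hfx : f.base x = f.base x') :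
    Cyc.rtrdeg f x' < Cyc.rtrdeg f x := by
  obtain ⟨a, ha, ha'⟩ := exists_fdim_rtrdeg f x
  obtain ⟨b, hb, hb'⟩ := exists_fdim_rtrdeg f x'
  obtain ⟨s, hs⟩ : ∃ s, s = f x := ⟨_, rfl⟩
  obtain ⟨c, rfl⟩ : x ∈ Set.range (f.fiberι s) := by rw [f.range_fiberι]; exact hs.symm
  obtain ⟨c', rfl⟩ : x' ∈ Set.range (f.fiberι s) := by rw [f.range_fiberι]; exact (hs.trans hfx).symm
  have he := (f.fiberι s).isEmbedding
  have hcc : c ⤳ c' := he.isInducing.specializes_iff.mp hsp
  have h1 := Groth.L22.FibreIrr.dim_lt_of_specializes hcc fun h => hne (congrArg _ (hcc.antisymm h).eq)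
  rw [← fdim_fiberι, ← fdim_fiberι, ha, hb] at h1
  rw [ha', hb', Nat.cast_lt]
  exact Nat.lt_of_succ_le (by exact_mod_cast h1)

end Groth.L06.FibTrdeg

namespace Groth.L06.FibTrdeg

theorem localDim_le {T : Type*} [TopologicalSpace T] {a b : T} (h : a ⤳ b) :
    FlatMor.localDim T a ≤ FlatMor.localDim T b := by
  show (⨅ U : {U : TopologicalSpace.Opens T // a ∈ U}, topologicalKrullDim (U.1 : Set T)) ≤
    ⨅ U : {U : TopologicalSpace.Opens T // b ∈ U}, topologicalKrullDim (U.1 : Set T)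
  exact le_iInf fun U => iInf_le_of_le ⟨U.1, h.mem_open U.1.2 U.2⟩ le_rfl

theorem ringKrullDim_stalk_lt {X : Scheme.{u}} [IsLocallyNoetherian X] {a b : X} (h : a ⤳ b) (hne : a ≠ b) :
    ringKrullDim (X.presheaf.stalk a) < ringKrullDim (X.presheaf.stalk b) := by
  obtain ⟨_, ⟨U, hU, rfl⟩, hbU, -⟩ :=
    X.isBasis_affineOpens.exists_subset_of_mem_open (Set.mem_univ b) isOpen_univ
  change X.Opens at U
  have haU : a ∈ U := h.mem_open U.2 hbU
  haveI : IsNoetherianRing Γ(X, U) := IsLocallyNoetherian.component_noetherian ⟨U, hU⟩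
  letI := X.presheaf.algebra_section_stalk ⟨a, haU⟩
  letI := X.presheaf.algebra_section_stalk ⟨b, hbU⟩
  haveI := hU.isLocalization_stalk ⟨a, haU⟩
  haveI := hU.isLocalization_stalk ⟨b, hbU⟩
  set p := hU.primeIdealOf ⟨a, haU⟩ with hp
  set q := hU.primeIdealOf ⟨b, hbU⟩ with hq
  rw [IsLocalization.AtPrime.ringKrullDim_eq_height p.asIdeal (X.presheaf.stalk a),
    IsLocalization.AtPrime.ringKrullDim_eq_height q.asIdeal (X.presheaf.stalk b)]
  have hlt : p.asIdeal < q.asIdeal := by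
    refine lt_of_le_of_ne ((PrimeSpectrum.le_iff_specializes p q).mpr
      (hU.fromSpec.isOpenEmbedding.isInducing.specializes_iff.mp ?_)) fun e => hne ?_
    · rw [hp, hq, hU.fromSpec_primeIdealOf, hU.fromSpec_primeIdealOf]; exact h
    · have h1 := congrArg hU.fromSpec (PrimeSpectrum.ext e : p = q)
      rwa [hp, hq, hU.fromSpec_primeIdealOf, hU.fromSpec_primeIdealOf] at h1
  haveI := p.isPrime
  haveI := q.isPrime
  exact WithBot.coe_lt_coe.mpr (Ideal.height_strict_mono_of_isPrime hlt)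

end Groth.L06.FibTrdeg
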