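import Groth.Agent.L07.DimToolkit
import Groth.Agent.L07.FibreDimSemi
import Groth.Agent.L07.DimFormulaApps
import Mathlib.RingTheory.Valuation.ValuationRing
import Mathlib.RingTheory.AlgebraicIndependent.TranscendenceBasis
import Mathlib.RingTheory.AlgebraicIndependent.Transcendental
import Mathlib.AlgebraicGeometry.Morphisms.FiniteType
import Mathlib.AlgebraicGeometry.Morphisms.QuasiCompact
import Mathlib.AlgebraicGeometry.ResidueField

/-! Dimensions of the fibres over a valuation ring. -/

set_option autoImplicit false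
set_option maxSynthPendingDepth 3
set_option backward.isDefEq.respectTransparency.types false
set_option backward.isDefEq.respectTransparency false
set_option linter.style.haveILetI false
universe u

open CategoryTheory AlgebraicGeometry TopologicalSpace Topology

namespace Groth.L06.ValuationFibreDim

open Groth.L22

theorem exists_mul_eq_evaluation {X : Scheme.{u}} {W : X.Opens} (hW : IsAffineOpen W) {x : X} (hx : x ∈ W)
    (c : X.residueField x) :
    ∃ a s : Γ(X, W), X.evaluation W x hx s ≠ 0 ∧ c * X.evaluation W x hx s = X.evaluation W x hx a := by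
  obtain ⟨t, rfl⟩ := X.residue_surjective x c
  letI : Algebra Γ(X, W) (X.presheaf.stalk x) := TopCat.Presheaf.algebra_section_stalk X.presheaf ⟨x, hx⟩
  haveI := hW.isLocalization_stalk ⟨x, hx⟩
  obtain ⟨⟨a, s⟩, hs⟩ := IsLocalization.surj (hW.primeIdealOf ⟨x, hx⟩).asIdeal.primeCompl t
  refine ⟨a, s, ?_, ?_⟩
  · exact ((IsLocalization.map_units (X.presheaf.stalk x) s).map (X.residue x).hom).ne_zero
  · show X.residue x t * (X.residue x).hom (algebraMap _ (X.presheaf.stalk x) (s : Γ(X, W))) = _
    rw [← map_mul, hs]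
    rfl

/-- the polynomials with a unit coefficient exhaust all relations over a valuation ring -/
theorem exists_primitive {A : Type u} [CommRing A] [IsDomain A] [ValuationRing A] {σ : Type} (P : MvPolynomial σ A)
    (hP : P ≠ 0) : ∃ (c : A) (P' : MvPolynomial σ A), c ≠ 0 ∧ P = MvPolynomial.C c * P' ∧
      ∃ d, P'.coeff d = 1 := by
  classical
  obtain ⟨d, hd, hmin⟩ : ∃ d ∈ P.support, ∀ e ∈ P.support, P.coeff d ∣ P.coeff e := by
    have hne : P.support.Nonempty := Finset.nonempty_iff_ne_empty.mpr fun h => hP (MvPolynomial.support_eq_empty.mp h)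
    suffices H : ∀ s : Finset (σ →₀ ℕ), s.Nonempty → ∃ d ∈ s, ∀ e ∈ s, P.coeff d ∣ P.coeff e from H _ hne
    intro s hs
    induction hs using Finset.Nonempty.cons_induction with
    | singleton a => exact ⟨a, Finset.mem_singleton_self a, fun e he => by rw [Finset.mem_singleton.mp he]⟩
    | cons a s ha hs ih =>
      obtain ⟨d, hd, hdm⟩ := ih
      rcases ValuationRing.dvd_total (P.coeff d) (P.coeff a) with h | h
      · refine ⟨d, Finset.mem_cons_of_mem hd, fun e he => ?_⟩
        rcases Finset.mem_cons.mp he with rfl | he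
        · exact h
        · exact hdm e he
      · refine ⟨a, Finset.mem_cons_self a s, fun e he => ?_⟩
        rcases Finset.mem_cons.mp he with rfl | he
        · exact dvd_rfl
        · exact h.trans (hdm e he)
  have hc : P.coeff d ≠ 0 := MvPolynomial.mem_support_iff.mp hd
  obtain ⟨P', hP'⟩ : MvPolynomial.C (P.coeff d) ∣ P := by
    rw [MvPolynomial.C_dvd_iff_dvd_coeff]
    intro e
    by_cases he : e ∈ P.support
    · exact hmin e he
    · rw [MvPolynomial.notMem_support_iff.mp he]; exact dvd_zero _
  refine ⟨P.coeff d, P', hc, hP', d, ?_⟩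
  have h := congrArg (MvPolynomial.coeff d) hP'
  rw [MvPolynomial.coeff_C_mul] at h
  exact mul_left_cancel₀ hc (h.symm.trans (mul_one _).symm)

theorem fdim_le_generic {A : Type u} [CommRing A] [IsDomain A] [ValuationRing A] {X : Scheme.{u}}
    [IrreducibleSpace X] (f : X ⟶ Spec (CommRingCat.of A)) [LocallyOfFiniteType f] [IsDominant f] (z : X) :
    Groth.L07.Equidim.fdim f z ≤ Groth.L07.Equidim.fdim f (genericPoint X) := by
  classical
  set ξ := genericPoint X
  obtain ⟨n, hn, hn'⟩ := Groth.L07.DimToolkit.exists_fdim_rtrdeg f z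
  obtain ⟨N, hN, hN'⟩ := Groth.L07.DimToolkit.exists_fdim_rtrdeg f ξ
  rw [hn, hN]
  suffices h : (n : Cardinal.{u}) ≤ (N : Cardinal.{u}) by exact_mod_cast h
  obtain ⟨W, hW, hzW, -⟩ := exists_isAffineOpen_mem_and_subset (TopologicalSpace.Opens.mem_top z)
  have hξW : ξ ∈ W := ((genericPoint_spec X).specializes trivial).mem_open W.2 hzW
  let Y := Spec (CommRingCat.of A)
  let α : A →+* Γ(Y, ⊤) := (Scheme.ΓSpecIso (CommRingCat.of A)).inv.hom
  have hα : Function.Surjective α := (ConcreteCategory.bijective_of_isIso (Scheme.ΓSpecIso (CommRingCat.of A)).inv).2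
  let φ : A →+* Γ(X, W) := (f.appLE ⊤ W fun _ _ => trivial).hom.comp α
  have key : ∀ (x : X) (hx : x ∈ W),
      (X.evaluation W x hx).hom.comp φ =
        (f.residueFieldMap x).hom.comp ((Y.evaluation ⊤ (f x) trivial).hom.comp α) := fun x hx => by
    refine RingHom.ext fun a => ?_
    show X.evaluation W x hx (f.appLE ⊤ W _ (α a)) = f.residueFieldMap x (Y.evaluation ⊤ (f x) trivial (α a))
    rw [Scheme.evaluation_naturality_apply f (V := (⊤ : Y.Opens)) x trivial]
    show X.residue x (X.presheaf.germ W x hx (f.appLE ⊤ W _ (α a))) = X.residue x (X.presheaf.germ (f ⁻¹ᵁ ⊤) x _ (f.app ⊤ (α a)))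
    rw [Scheme.Hom.appLE]
    exact congrArg _ (TopCat.Presheaf.germ_res_apply X.presheaf _ x hx _)
  let k := Y.residueField (f z)
  let κ := X.residueField z
  letI : Algebra k κ := (f.residueFieldMap z).hom.toAlgebra
  let ev := (X.evaluation W z hzW).hom
  haveI : Algebra.IsAlgebraic (Algebra.adjoin k (Set.range ev)) κ := ⟨fun c => by
    obtain ⟨a, s, hs, hcs⟩ := exists_mul_eq_evaluation hW hzW c
    refine ⟨Polynomial.C ⟨ev s, Algebra.subset_adjoin ⟨s, rfl⟩⟩ * Polynomial.X -
      Polynomial.C ⟨ev a, Algebra.subset_adjoin ⟨a, rfl⟩⟩, fun h => hs ?_, ?_⟩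
    · have := congrArg (fun p : Polynomial (Algebra.adjoin k (Set.range ev)) => ((Polynomial.coeff p 1 : Algebra.adjoin k (Set.range ev)) : κ)) h
      simp at this
      exact this
    · rw [map_sub, map_mul, Polynomial.aeval_C, Polynomial.aeval_C, Polynomial.aeval_X]
      show ev s * c - ev a = 0
      rw [mul_comm, sub_eq_zero]; exact hcs⟩
  obtain ⟨u, -, hut, hbasis⟩ := exists_isTranscendenceBasis_between (R := k) (A := κ) ∅ (Set.range ev)
    (Set.empty_subset _) ((algebraicIndependent_empty_iff ..).mpr (FaithfulSMul.algebraMap_injective k κ))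
  have hcard : Cardinal.mk u = (n : Cardinal.{u}) := hbasis.cardinalMk_eq_trdeg.trans hn'
  choose v hv using fun i : u => hut i.2
  let K := Y.residueField (f ξ)
  let L := X.residueField ξ
  letI : Algebra K L := (f.residueFieldMap ξ).hom.toAlgebra
  letI : Algebra A K := ((Y.evaluation ⊤ (f ξ) trivial).hom.comp α).toAlgebra
  letI : Algebra A L := ((f.residueFieldMap ξ).hom.comp ((Y.evaluation ⊤ (f ξ) trivial).hom.comp α)).toAlgebra
  haveI : IsScalarTower A K L := IsScalarTower.of_algebraMap_eq fun a => rfl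
  have hinjK : Function.Injective (algebraMap A K) := by
    refine (injective_iff_map_eq_zero _).mpr fun a ha => ?_
    by_contra ha0
    haveI : IrreducibleSpace Y := inferInstanceAs (IrreducibleSpace (PrimeSpectrum A))
    have hgen : f ξ = genericPoint Y := (Groth.L07.DimToolkit.generic_data f).1
    have hne : (Y.basicOpen (α a) : Set Y).Nonempty := by
      rw [Set.nonempty_iff_ne_empty]
      intro h
      have h2 : IsNilpotent (α a) :=
        (Scheme.isNilpotent_iff_basicOpen_eq_bot (α a)).mpr (TopologicalSpace.Opens.ext h)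
      have h3 : IsNilpotent a := (IsNilpotent.map_iff (f := α)
        (ConcreteCategory.bijective_of_isIso (Scheme.ΓSpecIso (CommRingCat.of A)).inv).1).mp h2
      exact ha0 h3.eq_zero
    have hmem : f ξ ∈ Y.basicOpen (α a) := by
      obtain ⟨w, hw⟩ := hne
      rw [hgen]
      exact ((genericPoint_spec Y).specializes trivial).mem_open (Y.basicOpen (α a)).2 hw
    rw [Scheme.mem_basicOpen Y (α a) (f ξ) trivial] at hmem
    exact (hmem.map (Y.residue (f ξ)).hom).ne_zero ha
  haveI : FaithfulSMul A K := (faithfulSMul_iff_algebraMap_injective A K).mpr hinjK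
  haveI : FaithfulSMul K L := (faithfulSMul_iff_algebraMap_injective K L).mpr (algebraMap K L).injective
  haveI : Algebra.IsAlgebraic A K := ⟨fun c => by
    obtain ⟨a, s, hs, hcs⟩ := exists_mul_eq_evaluation (isAffineOpen_top Y) (x := f ξ) trivial c
    obtain ⟨a, rfl⟩ := hα a
    obtain ⟨s, rfl⟩ := hα s
    refine ⟨Polynomial.C s * Polynomial.X - Polynomial.C a, fun h => hs ?_, ?_⟩
    · have := congrArg (fun p => Polynomial.coeff p 1) h
      simp only [Polynomial.coeff_sub, Polynomial.coeff_C_mul, Polynomial.coeff_X_one, mul_one,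
        Polynomial.coeff_C_succ, sub_zero, Polynomial.coeff_zero] at this
      rw [this, map_zero, map_zero]
    · rw [map_sub, map_mul, Polynomial.aeval_C, Polynomial.aeval_C, Polynomial.aeval_X, mul_comm, sub_eq_zero]
      exact hcs⟩
  have htr : Algebra.trdeg A L = (N : Cardinal.{u}) := by
    rw [← trdeg_add_eq A K (A := L), trdeg_eq_zero, zero_add]
    exact hN'
  have hind : AlgebraicIndependent A fun i : u => X.evaluation W ξ hξW (v i) := by
    rw [algebraicIndependent_iff]
    intro P hP
    by_contra hP0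
    obtain ⟨T, P₀, rfl⟩ := MvPolynomial.exists_finset_rename P
    obtain ⟨m, ⟨e⟩⟩ : ∃ m : ℕ, Nonempty (↥T ≃ Fin m) := ⟨_, ⟨T.equivFin⟩⟩
    let Q₀ : MvPolynomial (Fin m) A := MvPolynomial.rename e P₀
    have hQ0 : Q₀ ≠ 0 := fun h => hP0 (by
      rw [(MvPolynomial.rename_injective _ e.injective) (h.trans (map_zero _).symm), map_zero])
    obtain ⟨c, P', hc, hPP, d, hd⟩ := exists_primitive Q₀ hQ0
    let w : Fin m → Γ(X, W) := fun i => v (e.symm i).1
    letI : Algebra A Γ(X, W) := φ.toAlgebra
    let evξ : Γ(X, W) →ₐ[A] L := AlgHom.mk (X.evaluation W ξ hξW).hom fun a => RingHom.congr_fun (key ξ hξW) a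
    let b := MvPolynomial.aeval w P'
    have hb : evξ b = 0 := by
      have h1 : evξ (MvPolynomial.aeval w Q₀) = 0 := by
        rw [MvPolynomial.aeval_rename, MvPolynomial.comp_aeval_apply, ← hP, MvPolynomial.aeval_rename]
        congr 2
        funext i
        simp [w, evξ]
        rfl
      rw [hPP, map_mul, map_mul, MvPolynomial.aeval_C, AlgHom.commutes] at h1
      refine (mul_eq_zero.mp h1).resolve_left fun h => hc (hinjK ?_)
      rw [map_zero]
      exact (algebraMap K L).injective (by rw [map_zero]; exact h)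
    have hnil : IsNilpotent b := by
      refine (Scheme.isNilpotent_iff_basicOpen_eq_bot_of_isCompact hW.isCompact b).mpr ?_
      by_contra hne
      obtain ⟨w', hw'⟩ : (X.basicOpen b : Set X).Nonempty :=
        Set.nonempty_iff_ne_empty.mpr fun h => hne (TopologicalSpace.Opens.ext h)
      have hmem : ξ ∈ X.basicOpen b := ((genericPoint_spec X).specializes trivial).mem_open (X.basicOpen b).2 hw'
      rw [Scheme.mem_basicOpen _ _ _ hξW] at hmem
      exact (hmem.map (X.residue ξ).hom).ne_zero hb
    have hz0 : ev b = 0 := (hnil.map ev).eq_zero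
    let αz : A →+* k := (Y.evaluation ⊤ (f z) trivial).hom.comp α
    have hev : ev b = MvPolynomial.aeval (fun i : Fin m => ((e.symm i).1 : κ)) (MvPolynomial.map αz P') := by
      rw [MvPolynomial.aeval_def (R := k), MvPolynomial.eval₂_map]
      show ev (MvPolynomial.aeval w P') = _
      rw [MvPolynomial.aeval_def, MvPolynomial.eval₂_comp_left]
      congr 1
      · exact key z hzW
      · funext i; exact hv _
    have hindk : AlgebraicIndependent k (fun i : Fin m => ((e.symm i).1 : κ)) :=
      hbasis.1.comp (fun i : Fin m => (e.symm i).1) (Subtype.val_injective.comp e.symm.injective)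
    have h0 := congrArg (MvPolynomial.coeff d) (hindk.eq_zero_of_aeval_eq_zero _ (hev.symm.trans hz0))
    rw [MvPolynomial.coeff_map, hd, map_one, MvPolynomial.coeff_zero] at h0
    exact one_ne_zero h0
  calc (n : Cardinal.{u}) = Cardinal.mk u := hcard.symm
    _ ≤ Algebra.trdeg A L := hind.cardinalMk_le_trdeg
    _ = N := htr

theorem dim_closed_fibre_eq {A : Type u} [CommRing A] [IsDomain A] [ValuationRing A] {X : Scheme.{u}}
    [IrreducibleSpace X] (f : X ⟶ Spec (CommRingCat.of A)) [LocallyOfFiniteType f] [IsDominant f]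
    (y : ↥(Spec (CommRingCat.of A))) (h0 : Nonempty ↥(f.fiber y)) :
    topologicalKrullDim ↥(f.fiber y) =
      topologicalKrullDim ↥(f.fiber (genericPoint (Spec (CommRingCat.of A)))) := by
  haveI : IrreducibleSpace ↥(Spec (CommRingCat.of A)) := inferInstanceAs (IrreducibleSpace (PrimeSpectrum A))
  obtain ⟨-, hgen⟩ := Groth.L07.DimToolkit.generic_data f
  refine le_antisymm ?_ ?_
  · rw [Groth.L07.FibreDim.fiber_dim_le_iff]
    rintro x rfl
    obtain ⟨z, -, -, -, hz⟩ := Groth.L07.OpenEquiv.exists_maximal_fdim_eq f x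
    rw [← hz, ← hgen]
    exact fdim_le_generic f z
  · obtain ⟨c⟩ := h0
    rw [← hgen]
    refine (Groth.L07.DimToolkit.fdim_le_fibreDimAt_of_specializes f
      ((genericPoint_spec X).specializes (Set.mem_univ (f.fiberι y c)))).trans ?_
    exact ((Groth.L07.FibreDim.fiber_dim_le_iff f y _).mp le_rfl) _ (Groth.L07.Equidim.apply_fiberι f y c)

end Groth.L06.ValuationFibreDim
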