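import Groth.Agent.L06.FlatFibre
import Groth.Agent.L02.CMMor.FlatDepth
import Groth.Agent.L01.Regular
import Groth.Agent.S2614
import Mathlib.RingTheory.Localization.LocalizationLocalization

/-! Codepth along flat maps with Cohen–Macaulay fibres. -/

set_option autoImplicit false
set_option maxSynthPendingDepth 3
set_option linter.style.haveILetI false
noncomputable section
universe u
open TensorProduct IsLocalRing

namespace Groth.L06.FlatCodepth

theorem depth_eq_add (A B : Type u) [CommRing A] [IsLocalRing A] [IsNoetherianRing A] [CommRing B]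
    [IsLocalRing B] [IsNoetherianRing B] [Algebra A B] [IsLocalHom (algebraMap A B)] [Module.Flat A B] :
    LocCoh.depth B B = LocCoh.depth A A + LocCoh.depth (EGA4.FibRing A B) (EGA4.FibRing A B) := by
  have h := L02.CMMor.depth_tensor (A := A) (B := B) B A
  have hq : EGA4.mB A B • (⊤ : Submodule B B) = EGA4.mB A B := by rw [smul_eq_mul, Ideal.mul_top]
  have h1 : LocCoh.depth B (B ⊗[A] A) = LocCoh.depth B B :=
    Groth.L04.idealDepth_congr (TensorProduct.AlgebraTensorModule.rid A B B)
  have h2 : LocCoh.depth B (EGA4.FibMod A B B) = LocCoh.depth (EGA4.FibRing A B) (EGA4.FibRing A B) :=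
    (Groth.L04.idealDepth_congr (Submodule.quotEquivOfEq _ _ hq)).trans (Groth.L06.FlatFibre.depth_fibRing_eq A B)
  rw [h1, h2] at h
  exact h

theorem depth_le_dim (A : Type u) [CommRing A] [IsLocalRing A] [IsNoetherianRing A] :
    ((LocCoh.depth A A : ℕ∞) : WithBot ℕ∞) ≤ ringKrullDim A := by
  rw [← Module.supportDim_self_eq_ringKrullDim]
  exact Groth.L04.depth_le_supportDim

theorem min_cast_le (n d e : ℕ) :
    min (n : WithBot ℕ∞) d ≤ ((e : ℕ∞) : WithBot ℕ∞) ↔ min n d ≤ e := by
  rw [show ((e : ℕ∞) : WithBot ℕ∞) = (e : WithBot ℕ∞) from rfl,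
    show min (n : WithBot ℕ∞) d = ((min n d : ℕ) : WithBot ℕ∞) from (Nat.mono_cast.map_min).symm, Nat.cast_le]

/-- numbers attached to a point of a flat map with CM fibres -/
theorem exists_nums {R T : Type u} [CommRing R] [CommRing T] [Algebra R T] [IsNoetherianRing R]
    [IsNoetherianRing T] [Module.Flat R T]
    (hfib : ∀ (p : Ideal R) [p.IsPrime], LocCoh.IsCohenMacaulayRing (p.Fiber T)) (Q : Ideal T) [Q.IsPrime] :
    ∃ d e f : ℕ, ringKrullDim (Localization.AtPrime (Q.comap (algebraMap R T))) = d ∧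
      LocCoh.depth (Localization.AtPrime (Q.comap (algebraMap R T))) (Localization.AtPrime (Q.comap (algebraMap R T))) = e ∧
      ringKrullDim (Localization.AtPrime Q) = (d + f : ℕ) ∧
      LocCoh.depth (Localization.AtPrime Q) (Localization.AtPrime Q) = (e + f : ℕ) := by
  obtain ⟨i, hl, hf, q, hq, ⟨ψ⟩⟩ := Groth.L06.FlatFibre.exists_local_fibre (Q.comap (algebraMap R T)) Q (S := T)
  letI := i
  haveI := hl
  haveI := hf
  haveI := hfib (Q.comap (algebraMap R T))
  have hcm := (hfib (Q.comap (algebraMap R T))).isCohenMacaulayLocalRing_localization q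
  have hd := Groth.L06.FlatFibre.ringKrullDim_eq (Localization.AtPrime (Q.comap (algebraMap R T))) (Localization.AtPrime Q)
  have he := depth_eq_add (Localization.AtPrime (Q.comap (algebraMap R T))) (Localization.AtPrime Q)
  have hF : ringKrullDim (Localization.AtPrime q) =
      ((LocCoh.depth (Localization.AtPrime q) (Localization.AtPrime q) : ℕ∞) : WithBot ℕ∞) := by
    rw [← hcm.supportDim_eq_depth, Module.supportDim_self_eq_ringKrullDim]
  rw [ringKrullDim_eq_of_ringEquiv ψ, ← Groth.L06.FlatFibre.depth_eq_of_ringEquiv ψ] at hF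
  obtain ⟨d, hd0⟩ := Groth.L01.exists_dim_eq_nat (R := Localization.AtPrime (Q.comap (algebraMap R T)))
  obtain ⟨f, hf0⟩ := Groth.L01.exists_dim_eq_nat
    (R := EGA4.FibRing (Localization.AtPrime (Q.comap (algebraMap R T))) (Localization.AtPrime Q))
  have hle := depth_le_dim (Localization.AtPrime (Q.comap (algebraMap R T)))
  rw [hd0] at hle
  obtain ⟨e, he0⟩ := ENat.ne_top_iff_exists.mp (show LocCoh.depth (Localization.AtPrime (Q.comap (algebraMap R T)))
      (Localization.AtPrime (Q.comap (algebraMap R T))) ≠ ⊤ from fun h0 => by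
    rw [h0] at hle
    exact not_le.mpr (WithBot.coe_lt_coe.mpr (ENat.natCast_lt_top d)) hle)
  rw [hf0] at hF
  have hf1 : LocCoh.depth (EGA4.FibRing (Localization.AtPrime (Q.comap (algebraMap R T))) (Localization.AtPrime Q))
      (EGA4.FibRing (Localization.AtPrime (Q.comap (algebraMap R T))) (Localization.AtPrime Q)) = f :=
    (WithBot.coe_injective hF).symm
  refine ⟨d, e, f, hd0, he0.symm, ?_, ?_⟩
  · rw [hd, hd0, hf0, Nat.cast_add]
  · rw [he, ← he0, hf1, Nat.cast_add]

theorem hasSkAt_iff {R : Type u} [CommRing R] [IsNoetherianRing R] (n : ℕ) (q : Ideal R) [q.IsPrime] :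
    EGA4.HasSkAt n R R q ↔ ∀ (p : Ideal R) [p.IsPrime], p ≤ q →
      min (n : WithBot ℕ∞) (ringKrullDim (Localization.AtPrime p)) ≤
        ((LocCoh.depth (Localization.AtPrime p) (Localization.AtPrime p) : ℕ∞) : WithBot ℕ∞) := by
  have hcongr : EGA4.HasSkAt n R R q ↔ LocCoh.HasSk n (Localization.AtPrime q) (Localization.AtPrime q) := by
    have key : ∀ (P : Ideal (Localization.AtPrime q)) [P.IsPrime],
        Nonempty (LocalizedModule P.primeCompl (LocalizedModule q.primeCompl R) ≃ₗ[Localization.AtPrime P]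
          LocalizedModule P.primeCompl (Localization.AtPrime q)) := fun P _ =>
      ⟨(LocalizedModule.equivTensorProduct P.primeCompl _).trans
        ((TensorProduct.AlgebraTensorModule.congr (LinearEquiv.refl (Localization.AtPrime P) (Localization P.primeCompl))
          (Groth.L04.localizedModuleSelfEquiv q)).trans
          (LocalizedModule.equivTensorProduct P.primeCompl _).symm)⟩
    refine forall_congr' fun P => forall_congr' fun _ => ?_
    obtain ⟨ε⟩ := key P
    rw [Module.supportDim_eq_of_equiv ε]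
  rw [hcongr, Groth.L06.FlatFibre.hasSk_self_iff]
  refine ⟨fun h p _ hpq => ?_, fun h P _ => ?_⟩
  · let P := p.map (algebraMap R (Localization.AtPrime q))
    haveI : P.IsPrime := IsLocalization.isPrime_of_isPrime_disjoint q.primeCompl _ p inferInstance
      (Set.disjoint_left.mpr fun x hx hxp => hx (hpq hxp))
    have hP : P.comap (algebraMap R (Localization.AtPrime q)) = p :=
      IsLocalization.comap_map_of_isPrime_disjoint q.primeCompl _ inferInstance
        (Set.disjoint_left.mpr fun x hx hxp => hx (hpq hxp))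
    have h1 := h P
    let ε := (IsLocalization.localizationLocalizationAtPrimeIsoLocalization q.primeCompl P).toRingEquiv
    rw [← ringKrullDim_eq_of_ringEquiv ε, ← Groth.L06.FlatFibre.depth_eq_of_ringEquiv ε.symm] at h1
    have aux : ∀ (p' : Ideal R) [p'.IsPrime], p' = p →
        min (n : WithBot ℕ∞) (ringKrullDim (Localization.AtPrime p')) ≤
          ((LocCoh.depth (Localization.AtPrime p') (Localization.AtPrime p') : ℕ∞) : WithBot ℕ∞) →
        min (n : WithBot ℕ∞) (ringKrullDim (Localization.AtPrime p)) ≤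
          ((LocCoh.depth (Localization.AtPrime p) (Localization.AtPrime p) : ℕ∞) : WithBot ℕ∞) := by
      intro p' _ h' hh; subst h'; exact hh
    exact aux _ hP h1
  · let ε := (IsLocalization.localizationLocalizationAtPrimeIsoLocalization q.primeCompl P).toRingEquiv
    rw [← ringKrullDim_eq_of_ringEquiv ε, ← Groth.L06.FlatFibre.depth_eq_of_ringEquiv ε.symm]
    exact h _ fun x hx => by
      by_contra hxq
      exact ‹P.IsPrime›.ne_top (Ideal.eq_top_of_isUnit_mem _ hx (IsLocalization.map_units _ (⟨x, hxq⟩ : q.primeCompl)))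

theorem hasSkAt_iff_of_flat {R T : Type u} [CommRing R] [CommRing T] [Algebra R T] [IsNoetherianRing R]
    [IsNoetherianRing T] [Module.Flat R T]
    (hfib : ∀ (p : Ideal R) [p.IsPrime], LocCoh.IsCohenMacaulayRing (p.Fiber T)) (Q : Ideal T) [Q.IsPrime] (n : ℕ) :
    EGA4.HasSkAt n R R (Q.comap (algebraMap R T)) ↔ EGA4.HasSkAt n T T Q := by
  rw [hasSkAt_iff, hasSkAt_iff]
  refine ⟨fun h P _ hP => ?_, fun h p _ hp => ?_⟩
  · obtain ⟨d, e, f, h1, h2, h3, h4⟩ := exists_nums hfib P
    have h5 := h (P.comap (algebraMap R T)) (Ideal.comap_mono hP)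
    rw [h1, h2] at h5
    rw [h3, h4]
    rw [min_cast_le] at h5 ⊢
    omega
  · haveI : Q.LiesOver (Q.comap (algebraMap R T)) := ⟨rfl⟩
    obtain ⟨P, hPQ, hP', hPp⟩ := Ideal.exists_ideal_le_liesOver_of_le (S := T) (p := p) (q := Q.comap (algebraMap R T)) Q hp
    haveI := hP'
    obtain ⟨P₀, hP₀, hP₀P⟩ := Ideal.exists_minimalPrimes_le (I := p.map (algebraMap R T)) (J := P)
      (Ideal.map_le_iff_le_comap.mpr hPp.over.le)
    haveI : P₀.IsPrime := hP₀.1.1
    have hover : P₀.comap (algebraMap R T) = p :=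
      le_antisymm ((Ideal.comap_mono hP₀P).trans hPp.over.ge) (Ideal.map_le_iff_le_comap.mp hP₀.1.2)
    subst hover
    haveI : P₀.LiesOver (P₀.comap (algebraMap R T)) := ⟨rfl⟩
    obtain ⟨d, e, f, h1, h2, h3, h4⟩ := exists_nums hfib P₀
    have h5 := h P₀ (hP₀P.trans hPQ)
    rw [h3, h4] at h5
    rw [h1, h2]
    have hh : P₀.height = (P₀.comap (algebraMap R T)).height := by
      haveI : (P₀.map (Ideal.Quotient.mk ((P₀.comap (algebraMap R T)).map (algebraMap R T)))).IsPrime :=
        Ideal.map_isPrime_of_surjective Ideal.Quotient.mk_surjective (by rw [Ideal.mk_ker]; exact hP₀.1.2)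
      rw [Ideal.height_eq_height_add_of_liesOver_of_hasGoingDown (P₀.comap (algebraMap R T)) P₀,
        (Ideal.height_eq_zero_iff (I := P₀.map (Ideal.Quotient.mk ((P₀.comap (algebraMap R T)).map (algebraMap R T))))).mpr,
        add_zero]
      show _ ∈ (⊥ : Ideal _).minimalPrimes
      rw [← Ideal.map_bot (f := Ideal.Quotient.mk ((P₀.comap (algebraMap R T)).map (algebraMap R T))),
        Ideal.minimalPrimes_map_of_surjective Ideal.Quotient.mk_surjective]
      exact ⟨P₀, by simpa [Ideal.mk_ker] using hP₀, rfl⟩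
    rw [IsLocalization.AtPrime.ringKrullDim_eq_height P₀, hh,
      ← IsLocalization.AtPrime.ringKrullDim_eq_height (P₀.comap (algebraMap R T))
        (Localization.AtPrime (P₀.comap (algebraMap R T))), h1] at h3
    rw [min_cast_le] at h5 ⊢
    rw [Nat.cast_inj] at h3
    omega

theorem main {k S k' : Type u} [Field k] [CommRing S] [Algebra k S] [IsNoetherianRing S] [Field k'] [Algebra k k']
    (hft : Algebra.FiniteType k S ∨ Algebra.EssFiniteType k k') [IsNoetherianRing (S ⊗[k] k')]
    (q' : Ideal (S ⊗[k] k')) [q'.IsPrime] (n : ℕ) :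
    (ringKrullDim (Localization.AtPrime (q'.comap (algebraMap S (S ⊗[k] k')))) +
        ((LocCoh.depth (Localization.AtPrime q') (Localization.AtPrime q') : ℕ∞) : WithBot ℕ∞) =
      ringKrullDim (Localization.AtPrime q') +
        ((LocCoh.depth (Localization.AtPrime (q'.comap (algebraMap S (S ⊗[k] k'))))
          (Localization.AtPrime (q'.comap (algebraMap S (S ⊗[k] k')))) : ℕ∞) : WithBot ℕ∞)) ∧
    (EGA4.HasSkAt n S S (q'.comap (algebraMap S (S ⊗[k] k'))) ↔ EGA4.HasSkAt n (S ⊗[k] k') (S ⊗[k] k') q') := by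
  have hfib : ∀ (p : Ideal S) [p.IsPrime], LocCoh.IsCohenMacaulayRing (p.Fiber (S ⊗[k] k')) := by
    intro p _
    haveI : IsNoetherianRing ((S ⊗[k] k') ⊗[S] p.ResidueField) := Algebra.EssFiniteType.isNoetherianRing (S ⊗[k] k') _
    haveI : IsNoetherianRing (p.Fiber (S ⊗[k] k')) :=
      isNoetherianRing_of_ringEquiv _ (Algebra.TensorProduct.comm S (S ⊗[k] k') p.ResidueField).toRingEquiv
    let ε : p.Fiber (S ⊗[k] k') ≃+* p.ResidueField ⊗[k] k' :=
      (Algebra.TensorProduct.cancelBaseChange k S p.ResidueField p.ResidueField k').toRingEquiv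
    haveI : IsNoetherianRing (p.ResidueField ⊗[k] k') := isNoetherianRing_of_ringEquiv _ ε
    have hh : Algebra.EssFiniteType k p.ResidueField ∨ Algebra.EssFiniteType k k' := hft.imp_left fun h => by
      haveI := h
      exact Algebra.EssFiniteType.comp k S p.ResidueField
    haveI := Groth.Agent.S2614.result k p.ResidueField k' hh
    refine { isCohenMacaulayLocalRing_localization := fun P _ => ?_ }
    let P₀ := P.comap (ε.symm : p.ResidueField ⊗[k] k' →+* p.Fiber (S ⊗[k] k'))
    let eL : Localization.AtPrime P₀ ≃+* Localization.AtPrime P :=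
      IsLocalization.ringEquivOfRingEquiv (M := P₀.primeCompl) (T := P.primeCompl) _ _ ε.symm (by
        ext x
        rw [Submonoid.mem_map]
        constructor
        · rintro ⟨y, hy, rfl⟩; exact hy
        · intro hx
          refine ⟨ε x, ?_, ε.symm_apply_apply x⟩
          show ε.symm (ε x) ∉ P
          rwa [ε.symm_apply_apply])
    have h0 := LocCoh.IsCohenMacaulayRing.isCohenMacaulayLocalRing_localization P₀
    exact { supportDim_eq_depth := by
              rw [Module.supportDim_self_eq_ringKrullDim, ← ringKrullDim_eq_of_ringEquiv eL,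
                Groth.L06.FlatFibre.depth_eq_of_ringEquiv eL, ← h0.supportDim_eq_depth,
                Module.supportDim_self_eq_ringKrullDim] }
  obtain ⟨d, e, f, h1, h2, h3, h4⟩ := exists_nums hfib q'
  refine ⟨?_, hasSkAt_iff_of_flat hfib q' n⟩
  rw [h1, h2, h3, h4]
  norm_cast
  omega

end Groth.L06.FlatCodepth
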