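import Groth.Agent.L06.DiffCotRank
import Mathlib.RingTheory.MvPolynomial.Basic
import Mathlib.Algebra.MvPolynomial.Equiv
import Mathlib.RingTheory.KrullDimension.Polynomial
import Mathlib.RingTheory.Jacobson.Ring
import Mathlib.RingTheory.RegularLocalRing.Polynomial
import Mathlib.LinearAlgebra.Dimension.OrzechProperty

/-! `C ⊗_K (K ⊗ Ω_A) → C ⊗ Ω_{A[T]}` is split injective; heights of maximal ideals of `K[T]`. -/

set_option autoImplicit false
set_option maxSynthPendingDepth 3
noncomputable section
universe u
open TensorProduct KaehlerDifferential IsLocalRing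

namespace Groth.L06.DiffCot

theorem height_mvPolynomial (K : Type u) [Field K] : ∀ (r : ℕ) (M : Ideal (MvPolynomial (Fin r) K)) [M.IsMaximal],
    M.height = (r : ℕ∞) := by
  intro r
  induction r with
  | zero =>
    intro M hM
    let e := (MvPolynomial.isEmptyRingEquiv K (Fin 0))
    haveI : (M.map e).IsMaximal := Ideal.map_isMaximal_of_equiv e
    have : M.map e = ⊥ := (Ideal.eq_bot_or_top _).resolve_right (Ideal.IsMaximal.ne_top inferInstance)
    rw [← e.height_map M, this, Ideal.height_bot, Nat.cast_zero]
  | succ r ih =>
    intro M hM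
    let e := (MvPolynomial.finSuccEquiv K r).toRingEquiv
    let P := M.map e
    haveI : P.IsMaximal := Ideal.map_isMaximal_of_equiv e
    haveI : (P.comap (Polynomial.C : MvPolynomial (Fin r) K →+* _)).IsMaximal :=
      Polynomial.isMaximal_comap_C_of_isJacobsonRing P
    haveI : P.LiesOver (P.comap (Polynomial.C : MvPolynomial (Fin r) K →+* _)) := ⟨rfl⟩
    rw [← e.height_map M, Polynomial.height_eq_height_add_one (P.comap (Polynomial.C : MvPolynomial (Fin r) K →+* _)) P,
      ih, Nat.cast_succ]

section

variable {A : Type u} [CommRing A] [IsLocalRing A] {r : ℕ} {C : Type u} [Field C]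
  [Algebra (MvPolynomial (Fin r) A) C] [Algebra A C] [Algebra (ResidueField A) C]
  [IsScalarTower A (MvPolynomial (Fin r) A) C] [IsScalarTower A (ResidueField A) C]

instance smulComm : SMulCommClass (MvPolynomial (Fin r) A) (ResidueField A) C :=
  ⟨fun q k c => by simp only [Algebra.smul_def]; ring⟩

instance smulComm' : SMulCommClass (ResidueField A) (MvPolynomial (Fin r) A) C :=
  ⟨fun k q c => by simp only [Algebra.smul_def]; ring⟩

variable (A r C)

/-- the natural map `K ⊗ Ω_A → C ⊗ Ω_{A[T]}`. -/
def beta : ResidueField A ⊗[A] Ω[A⁄ℤ] →ₗ[ResidueField A]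
    C ⊗[MvPolynomial (Fin r) A] Ω[MvPolynomial (Fin r) A⁄ℤ] :=
  LinearMap.liftBaseChange (ResidueField A)
    (((TensorProduct.mk (MvPolynomial (Fin r) A) C Ω[MvPolynomial (Fin r) A⁄ℤ] 1).restrictScalars A).comp
      (KaehlerDifferential.map ℤ ℤ A (MvPolynomial (Fin r) A)))

theorem beta_delta (a : A) :
    beta A r C (delta A (ResidueField A) a) = delta (MvPolynomial (Fin r) A) C (MvPolynomial.C a) := by
  rw [beta, delta, LinearMap.liftBaseChange_tmul, one_smul]
  show (1 : C) ⊗ₜ[MvPolynomial (Fin r) A] KaehlerDifferential.map ℤ ℤ A (MvPolynomial (Fin r) A) (D ℤ A a) = _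
  rw [KaehlerDifferential.map_D]
  rfl

/-- coefficientwise derivative -/
def coeffD : MvPolynomial (Fin r) A →+ C ⊗[ResidueField A] (ResidueField A ⊗[A] Ω[A⁄ℤ]) :=
  (Finsupp.liftAddHom fun s => ((TensorProduct.mk (ResidueField A) C (ResidueField A ⊗[A] Ω[A⁄ℤ])
      (algebraMap (MvPolynomial (Fin r) A) C (MvPolynomial.monomial s 1))).toAddMonoidHom.comp
      (AddMonoidHom.mk' (delta A (ResidueField A)) (delta_add A (ResidueField A))))).comp
    (MvPolynomial.basisMonomials (Fin r) A).repr.toLinearMap.toAddMonoidHom

theorem coeffD_monomial (s : Fin r →₀ ℕ) (a : A) :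
    coeffD A r C (MvPolynomial.monomial s a) =
      algebraMap (MvPolynomial (Fin r) A) C (MvPolynomial.monomial s 1) ⊗ₜ[ResidueField A] delta A (ResidueField A) a := by
  have h : (MvPolynomial.basisMonomials (Fin r) A).repr (MvPolynomial.monomial s a) = Finsupp.single s a := by
    have h1 : MvPolynomial.monomial s a = a • (MvPolynomial.basisMonomials (Fin r) A s) := by
      rw [MvPolynomial.coe_basisMonomials, MvPolynomial.smul_monomial, smul_eq_mul, mul_one]
    rw [h1, map_smul, Module.Basis.repr_self, Finsupp.smul_single, smul_eq_mul, mul_one]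
  show (Finsupp.liftAddHom _) ((MvPolynomial.basisMonomials (Fin r) A).repr (MvPolynomial.monomial s a)) = _
  rw [h, Finsupp.liftAddHom_apply_single]
  rfl

theorem coeffD_mul (x y : MvPolynomial (Fin r) A) :
    coeffD A r C (x * y) = x • coeffD A r C y + y • coeffD A r C x := by
  induction x using MvPolynomial.induction_on' with
  | add x x' hx hx' =>
    rw [add_mul, map_add, hx, hx', map_add, add_smul, smul_add]
    abel
  | monomial s a =>
    induction y using MvPolynomial.induction_on' with
    | add y y' hy hy' =>
      rw [mul_add, map_add, hy, hy', map_add, add_smul, smul_add]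
      abel
    | monomial t b =>
      rw [MvPolynomial.monomial_mul, coeffD_monomial, coeffD_monomial, coeffD_monomial, delta_mul, tmul_add,
        tmul_smul, tmul_smul, smul_tmul', smul_tmul', smul_tmul', smul_tmul']
      have key : ∀ (u : Fin r →₀ ℕ) (c : A) (v : Fin r →₀ ℕ),
          (algebraMap A (ResidueField A) c) • algebraMap (MvPolynomial (Fin r) A) C (MvPolynomial.monomial (u + v) 1) =
            (MvPolynomial.monomial u c) • algebraMap (MvPolynomial (Fin r) A) C (MvPolynomial.monomial v 1) := by
        intro u c v
        rw [algebraMap_smul (ResidueField A), Algebra.smul_def, Algebra.smul_def,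
          IsScalarTower.algebraMap_apply A (MvPolynomial (Fin r) A) C, ← map_mul, ← map_mul,
          MvPolynomial.algebraMap_eq, MvPolynomial.C_mul_monomial, MvPolynomial.monomial_mul]
      rw [key s a t, show s + t = t + s from add_comm s t, key t b s]

/-- the same as a derivation -/
def derCoeff : Derivation ℤ (MvPolynomial (Fin r) A) (C ⊗[ResidueField A] (ResidueField A ⊗[A] Ω[A⁄ℤ])) :=
  Derivation.mk' (coeffD A r C).toIntLinearMap (coeffD_mul A r C)

/-- the retraction -/
def gamma : C ⊗[MvPolynomial (Fin r) A] Ω[MvPolynomial (Fin r) A⁄ℤ] →ₗ[C]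
    C ⊗[ResidueField A] (ResidueField A ⊗[A] Ω[A⁄ℤ]) :=
  LinearMap.liftBaseChange C (derCoeff A r C).liftKaehlerDifferential

theorem gamma_beta (v : ResidueField A ⊗[A] Ω[A⁄ℤ]) :
    gamma A r C (beta A r C v) = (1 : C) ⊗ₜ[ResidueField A] v := by
  induction v using TensorProduct.induction_on with
  | zero => rw [map_zero, map_zero, tmul_zero]
  | add x y hx hy => rw [map_add, map_add, hx, hy, tmul_add]
  | tmul k w =>
    have hw : w ∈ Submodule.span A (Set.range (D ℤ A)) := by rw [span_range_derivation]; trivial
    induction hw using Submodule.span_induction generalizing k with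
    | zero => rw [tmul_zero, map_zero, map_zero, tmul_zero]
    | add x y _ _ hx hy => rw [tmul_add, map_add, map_add, hx, hy, tmul_add]
    | smul a x _ hx => rw [← smul_tmul]; exact hx _
    | mem x hx =>
      obtain ⟨a, rfl⟩ := hx
      have hk : k ⊗ₜ[A] D ℤ A a = k • delta A (ResidueField A) a := by
        rw [delta, smul_tmul', smul_eq_mul, mul_one]
      rw [hk, map_smul, beta_delta, LinearMap.map_smul_of_tower, tmul_smul]
      congr 1
      rw [delta, gamma]
      refine (LinearMap.liftBaseChange_tmul _ _ _ _).trans ?_
      rw [one_smul]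
      refine (Derivation.liftKaehlerDifferential_comp_D _ _).trans ?_
      show coeffD A r C (MvPolynomial.C a) = _
      rw [← MvPolynomial.monomial_zero', coeffD_monomial, MvPolynomial.monomial_zero', map_one, map_one]

variable {A r C}

theorem beta_linearIndependent {ι : Type*} (v : ι → ResidueField A ⊗[A] Ω[A⁄ℤ]) :
    LinearIndependent C (fun i => beta A r C (v i)) ↔ LinearIndependent (ResidueField A) v := by
  constructor
  · intro h
    exact LinearIndependent.of_comp (beta A r C)
      (h.restrict_scalars' (ResidueField A))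
  · intro h
    refine LinearIndependent.of_comp (gamma A r C) ?_
    have : (fun i => gamma A r C (beta A r C (v i))) = fun i => (1 : C) ⊗ₜ[ResidueField A] v i :=
      funext fun i => gamma_beta A r C (v i)
    show LinearIndependent C (fun i => gamma A r C (beta A r C (v i)))
    rw [this]
    exact Module.Flat.linearIndependent_one_tmul h

theorem finrank_span_beta (X : Set (ResidueField A ⊗[A] Ω[A⁄ℤ]))
    [Module.Finite (ResidueField A) (Submodule.span (ResidueField A) X)] :
    Module.finrank C (Submodule.span C (beta A r C '' X)) =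
      Module.finrank (ResidueField A) (Submodule.span (ResidueField A) X) := by
  let b := Module.finBasis (ResidueField A) (Submodule.span (ResidueField A) X)
  have hli : LinearIndependent C (fun i => beta A r C (b i)) :=
    (beta_linearIndependent _).mpr (b.linearIndependent.map' _ (Submodule.ker_subtype _))
  have hspan : Submodule.span C (beta A r C '' X) = Submodule.span C (Set.range fun i => beta A r C (b i)) := by
    refine le_antisymm (Submodule.span_le.mpr ?_) (Submodule.span_le.mpr ?_)
    · rintro _ ⟨x, hx, rfl⟩
      have h1 := congrArg (fun z : Submodule.span (ResidueField A) X => beta A r C z.1) (b.sum_repr ⟨x, Submodule.subset_span hx⟩)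
      simp only [AddSubmonoidClass.coe_finset_sum, Submodule.coe_smul, map_sum, map_smul] at h1
      rw [← h1]
      refine Submodule.sum_mem _ fun i _ => ?_
      exact Submodule.smul_of_tower_mem _ _ (Submodule.subset_span ⟨i, rfl⟩)
    · rintro _ ⟨i, rfl⟩
      have h1 : (b i : ResidueField A ⊗[A] Ω[A⁄ℤ]) ∈ Submodule.span (ResidueField A) X := (b i).2
      refine Submodule.span_induction (p := fun z _ => beta A r C z ∈ Submodule.span C (beta A r C '' X))
        (fun z hz => Submodule.subset_span ⟨z, hz, rfl⟩) (by rw [map_zero]; exact zero_mem _)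
        (fun z z' _ _ hz hz' => by rw [map_add]; exact add_mem hz hz')
        (fun k z _ hz => by rw [map_smul]; exact Submodule.smul_of_tower_mem _ _ hz) h1
  rw [hspan, finrank_span_eq_card hli, Fintype.card_fin]

end

end Groth.L06.DiffCot
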