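import Groth.Agent.L06.FlatFibre
import Groth.Agent.L06.FibreComp
import Groth.Agent.L01.Serre
import Groth.Agent.L01.NormalDomain
import Groth.Agent.L01.DepthBasic
import Groth.Agent.L21.Smooth.EtaleRegular
import Groth.Agent.L03.RegularNormal
import Mathlib.RingTheory.LocalProperties.Reduced
import Mathlib.RingTheory.DedekindDomain.Dvr
import Mathlib.RingTheory.Localization.LocalizationLocalization
import Groth.Prelude.Def_EGA4b

/-! Serre's criterion for normal rings and ascent of normality along flat maps. -/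

set_option autoImplicit false
set_option linter.style.haveILetI false
universe u

namespace Groth.L06.NormalAscent

open IsLocalRing

theorem two_le_depth_of_normal {A : Type u} [CommRing A] [IsDomain A] [IsNoetherianRing A] [IsLocalRing A]
    [IsIntegrallyClosed A] (h : ¬ ringKrullDim A ≤ 1) : 2 ≤ LocCoh.depth A A := by
  have hne : maximalIdeal A ≠ ⊥ := fun h0 => h (by
    rw [← maximalIdeal_height_eq_ringKrullDim, h0, Ideal.height_bot]; exact zero_le_one)
  obtain ⟨b, hb, hb0⟩ := Submodule.exists_mem_ne_zero_of_ne_bot hne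
  rcases Groth.L04.exists_regular_or_killed (maximalIdeal A) (A ⧸ Ideal.span {b}) with ⟨y, hy, hreg⟩ | ⟨z, hz, hk⟩
  · refine Groth.L01.Serre.two_le_depth hb hy (fun c hc => (mul_eq_zero.mp hc).resolve_left hb0) fun c hc => ?_
    refine Ideal.Quotient.eq_zero_iff_mem.mp (hreg.right_eq_zero_of_smul ?_)
    rw [← Ideal.Quotient.mk_eq_mk, ← Submodule.Quotient.mk_smul, Submodule.Quotient.mk_eq_zero]
    exact hc
  · exfalso
    obtain ⟨c, rfl⟩ := Ideal.Quotient.mk_surjective z
    haveI := Groth.L01.isDVR_of_maximalIdeal_mul_le hb0 (c := c)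
      (fun hc => hz (Ideal.Quotient.eq_zero_iff_mem.mpr hc)) (fun t ht => Ideal.Quotient.eq_zero_iff_mem.mp (hk t ht))
    exact h (Ring.krullDimLE_iff.mp inferInstance)

theorem regular_of_normal_dim_le_one {A : Type u} [CommRing A] [IsDomain A] [IsNoetherianRing A] [IsLocalRing A]
    [IsIntegrallyClosed A] (h : ringKrullDim A ≤ 1) : IsRegularLocalRing A := by
  haveI : Ring.KrullDimLE 1 A := Ring.krullDimLE_iff.mpr (by exact_mod_cast h)
  have htfae : (IsIntegrallyClosed A ∧ ∀ P : Ideal A, P ≠ ⊥ → P.IsPrime → P = maximalIdeal A) ↔ IsPrincipalIdealRing A :=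
    (tfae_of_isNoetherianRing_of_isLocalRing_of_isDomain A).out 3 0
  haveI : IsPrincipalIdealRing A := htfae.mp
    ⟨inferInstance, fun P hP hP' => by
      haveI := hP'
      exact IsLocalRing.eq_maximalIdeal (Ring.krullDimLE_one_iff_of_noZeroDivisors.mp ‹Ring.KrullDimLE 1 A› P hP hP')⟩
  infer_instance

/-- Serre's criterion, global form -/
theorem isNormalRing_of_serre {S : Type u} [CommRing S] [IsNoetherianRing S]
    (H : ∀ (P : Ideal S) [P.IsPrime], (IsRegularLocalRing (Localization.AtPrime P) ∧
      ringKrullDim (Localization.AtPrime P) ≤ 1) ∨ 2 ≤ LocCoh.depth (Localization.AtPrime P) (Localization.AtPrime P)) :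
    EGA4.IsNormalRing S := by
  haveI : IsReduced S := by
    refine ⟨fun x hx => ?_⟩
    by_contra hx0
    obtain ⟨P, hP, hle⟩ := exists_le_isAssociatedPrime_of_isNoetherianRing S x hx0
    haveI := hP.isPrime
    have hloc : algebraMap S (Localization.AtPrime P) x ≠ 0 := fun h0 => by
      obtain ⟨⟨t, ht⟩, htx⟩ := (IsLocalization.map_eq_zero_iff P.primeCompl _ x).mp h0
      exact ht (hle (Submodule.mem_colon_singleton.mpr (by rw [Submodule.mem_bot]; exact htx)))
    rcases H P with ⟨hreg, -⟩ | hd
    · haveI := Groth.L01.isDomain_of_regular (Localization.AtPrime P)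
      exact hloc ((hx.map (algebraMap S (Localization.AtPrime P))).eq_zero)
    · obtain ⟨-, y, hy⟩ := isAssociatedPrime_iff.mp hP
      have hy0 : algebraMap S (Localization.AtPrime P) y ≠ 0 := fun h0 => by
        obtain ⟨⟨t, ht⟩, hty⟩ := (IsLocalization.map_eq_zero_iff P.primeCompl _ y).mp h0
        apply ht
        show t ∈ P
        rw [hy, Submodule.mem_colon_singleton, Submodule.mem_bot]
        exact hty
      have := Groth.L01.depth_eq_zero_of_smul_eq_zero (R := Localization.AtPrime P) hy0 fun z hz => by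
        obtain ⟨a, s, rfl⟩ := IsLocalization.exists_mk'_eq P.primeCompl z
        have ha : a ∈ P := (IsLocalization.AtPrime.mk'_mem_maximal_iff _ P a s).mp hz
        rw [hy, Submodule.mem_colon_singleton, Submodule.mem_bot, smul_eq_mul] at ha
        rw [smul_eq_mul, mul_comm, IsLocalization.mul_mk'_eq_mk'_of_mul, mul_comm, ha, IsLocalization.mk'_zero]
      rw [this] at hd
      exact absurd hd (by decide)
  intro Q _
  haveI : IsNoetherianRing (Localization.AtPrime Q) := IsLocalization.isNoetherianRing Q.primeCompl _ inferInstance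
  haveI : IsReduced (Localization.AtPrime Q) := isReduced_localizationPreserves Q.primeCompl (Localization.AtPrime Q) inferInstance
  refine Groth.L01.Serre.isDomain_and_isIntegrallyClosed fun P _ => ?_
  let e := (IsLocalization.localizationLocalizationAtPrimeIsoLocalization Q.primeCompl P).toRingEquiv
  rcases H (P.comap (algebraMap S (Localization.AtPrime Q))) with ⟨hreg, hdim⟩ | hd
  · exact Or.inl ⟨IsRegularLocalRing.of_ringEquiv e, by rwa [← ringKrullDim_eq_of_ringEquiv e]⟩
  · exact Or.inr fun hb => Groth.L01.Serre.not_bad_of_two_le_depth hd (Groth.L01.Serre.bad_of_ringEquiv e.symm hb)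

/-- local ascent of `(R_1)+(S_2)` -/
theorem regular_or_two_le_depth (A B : Type u) [CommRing A] [IsLocalRing A] [IsNoetherianRing A] [CommRing B]
    [IsLocalRing B] [IsNoetherianRing B] [Algebra A B] [IsLocalHom (algebraMap A B)] [Module.Flat A B]
    [IsDomain A] [IsIntegrallyClosed A] [IsDomain (EGA4.FibRing A B)] [IsIntegrallyClosed (EGA4.FibRing A B)] :
    (IsRegularLocalRing B ∧ ringKrullDim B ≤ 1) ∨ 2 ≤ LocCoh.depth B B := by
  have hadd := Groth.L06.FlatFibre.depth_add_le A B
  have hdim := Groth.L06.FlatFibre.ringKrullDim_eq A B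
  by_cases hA : ringKrullDim A ≤ 1
  swap
  · exact Or.inr ((two_le_depth_of_normal hA).trans (le_self_add.trans hadd))
  by_cases hF : ringKrullDim (EGA4.FibRing A B) ≤ 1
  swap
  · exact Or.inr ((two_le_depth_of_normal hF).trans (le_add_self.trans hadd))
  have h1 : ∀ (R : Type u) [CommRing R] [IsDomain R] [IsLocalRing R], maximalIdeal R ≠ ⊥ → 1 ≤ LocCoh.depth R R := by
    intro R _ _ _ h
    obtain ⟨b, hb, hb0⟩ := Submodule.exists_mem_ne_zero_of_ne_bot h
    exact Groth.L01.one_le_depth hb (isSMulRegular_iff_right_eq_zero_of_smul.mpr fun c hc =>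
      (mul_eq_zero.mp hc).resolve_left hb0)
  by_cases hA0 : maximalIdeal A = ⊥
  · have hmB : EGA4.mB A B = ⊥ := by rw [EGA4.mB, hA0, Ideal.map_bot]
    let e : EGA4.FibRing A B ≃+* B := (Ideal.quotEquivOfEq hmB).trans (RingEquiv.quotientBot B)
    haveI := regular_of_normal_dim_le_one hF
    exact Or.inl ⟨IsRegularLocalRing.of_ringEquiv e, by rwa [← ringKrullDim_eq_of_ringEquiv e]⟩
  by_cases hF0 : maximalIdeal (EGA4.FibRing A B) = ⊥
  · have hmB : EGA4.mB A B = maximalIdeal B := by
      refine le_antisymm (IsLocalRing.map_maximalIdeal_le _) fun x hx => ?_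
      have := Ideal.mem_map_of_mem (Ideal.Quotient.mk (EGA4.mB A B)) hx
      rw [Groth.L06.FlatFibre.map_maximalIdeal_fibRing, hF0, Submodule.mem_bot] at this
      exact Ideal.Quotient.eq_zero_iff_mem.mp this
    haveI := regular_of_normal_dim_le_one hA
    obtain ⟨hr, hd⟩ := Groth.L21.Smooth.regular_of_flat_of_map_maximalIdeal A B hmB
    exact Or.inl ⟨hr, hd.trans_le hA⟩
  exact Or.inr (le_trans (by simpa [one_add_one_eq_two] using add_le_add (h1 A hA0) (h1 _ hF0)) hadd)

theorem isReduced_of_isNormalRing {R : Type u} [CommRing R] (h : EGA4.IsNormalRing R) : IsReduced R :=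
  isReduced_ofLocalizationMaximal R fun m hm => by
    haveI := (h m).1
    infer_instance

theorem isNormalRing_of_ringEquiv {R R' : Type u} [CommRing R] [CommRing R'] (e : R ≃+* R')
    (h : EGA4.IsNormalRing R) : EGA4.IsNormalRing R' := by
  intro p _
  let p₀ := p.comap (e : R →+* R')
  let eL : Localization.AtPrime p₀ ≃+* Localization.AtPrime p :=
    IsLocalization.ringEquivOfRingEquiv (M := p₀.primeCompl) (T := p.primeCompl) _ _ e (by
      ext x
      rw [Submonoid.mem_map]
      refine ⟨fun ⟨y, hy, hyx⟩ => hyx ▸ hy, fun hx => ⟨e.symm x, ?_, e.apply_symm_apply x⟩⟩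
      show e (e.symm x) ∉ p
      rwa [e.apply_symm_apply])
  haveI := (h p₀).1
  haveI := (h p₀).2
  exact ⟨eL.symm.toMulEquiv.isDomain (Localization.AtPrime p₀), IsIntegrallyClosed.of_equiv eL⟩

/-- normality ascends along a flat map of Noetherian rings with normal fibres -/
theorem isNormalRing_of_flat {R S : Type u} [CommRing R] [CommRing S] [Algebra R S] [IsNoetherianRing R]
    [IsNoetherianRing S] [Module.Flat R S] (hR : EGA4.IsNormalRing R)
    (hfib : ∀ (p : Ideal R) [p.IsPrime], EGA4.IsNormalRing (p.Fiber S)) : EGA4.IsNormalRing S := by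
  refine isNormalRing_of_serre fun P _ => ?_
  obtain ⟨i, hl, hf, q, hq, ⟨e⟩⟩ := Groth.L06.FlatFibre.exists_local_fibre (P.comap (algebraMap R S)) P (S := S)
  letI := i
  haveI := hl
  haveI := hf
  haveI := (hR (P.comap (algebraMap R S))).1
  haveI := (hR (P.comap (algebraMap R S))).2
  haveI := (hfib _ q).1
  haveI := (hfib _ q).2
  haveI : IsDomain (EGA4.FibRing (Localization.AtPrime (P.comap (algebraMap R S))) (Localization.AtPrime P)) :=
    e.symm.toMulEquiv.isDomain (Localization.AtPrime q)
  haveI : IsIntegrallyClosed (EGA4.FibRing (Localization.AtPrime (P.comap (algebraMap R S))) (Localization.AtPrime P)) :=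
    IsIntegrallyClosed.of_equiv (R := Localization.AtPrime q) e
  exact regular_or_two_le_depth (Localization.AtPrime (P.comap (algebraMap R S))) (Localization.AtPrime P)

end Groth.L06.NormalAscent

namespace Groth.L06.NormalAscent

/-- normality of a domain descends along a faithfully flat extension -/
theorem isIntegrallyClosed_of_faithfullyFlat (A B : Type u) [CommRing A] [CommRing B] [Algebra A B]
    [Module.FaithfullyFlat A B] [IsDomain B] [IsIntegrallyClosed B] :
    IsDomain A ∧ IsIntegrallyClosed A := by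
  have hinj : Function.Injective (algebraMap A B) := FaithfulSMul.algebraMap_injective A B
  haveI : IsDomain A := hinj.isDomain
  refine ⟨inferInstance, (isIntegrallyClosed_iff (FractionRing A)).mpr fun {x} hx => ?_⟩
  obtain ⟨a, b, hb, rfl⟩ := IsFractionRing.div_surjective (A := A) x
  have hb0 : b ≠ 0 := nonZeroDivisors.ne_zero hb
  let g : FractionRing A →ₐ[A] FractionRing B := IsFractionRing.liftAlgHom (A := A) (g := Algebra.ofId A (FractionRing B))
    ((IsFractionRing.injective B (FractionRing B)).comp hinj)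
  have hy : IsIntegral B (g (algebraMap A _ a / algebraMap A _ b)) :=
    (hx.map g).tower_top
  obtain ⟨c, hc⟩ := IsIntegrallyClosed.isIntegral_iff.mp hy
  rw [map_div₀, AlgHom.commutes, AlgHom.commutes, eq_div_iff (by
    rw [IsScalarTower.algebraMap_apply A B (FractionRing B)]
    exact (map_ne_zero_iff _ (IsFractionRing.injective B (FractionRing B))).mpr ((map_ne_zero_iff _ hinj).mpr hb0)),
    IsScalarTower.algebraMap_apply A B (FractionRing B), IsScalarTower.algebraMap_apply A B (FractionRing B) a,
    ← map_mul] at hc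
  have hmem : algebraMap A B a ∈ (Ideal.span {b}).map (algebraMap A B) := by
    rw [Ideal.map_span, Set.image_singleton]
    exact Ideal.mem_span_singleton'.mpr ⟨c, IsFractionRing.injective B (FractionRing B) hc⟩
  rw [← Ideal.mem_comap, Ideal.comap_map_eq_self_of_faithfullyFlat] at hmem
  obtain ⟨d, rfl⟩ := Ideal.mem_span_singleton'.mp hmem
  exact ⟨d, by rw [map_mul, mul_div_cancel_right₀ _ ((map_ne_zero_iff _ (IsFractionRing.injective A (FractionRing A))).mpr hb0)]⟩

/-- normality descends along faithfully flat maps -/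
theorem isNormalRing_of_faithfullyFlat {R S : Type u} [CommRing R] [CommRing S] [Algebra R S]
    [Module.FaithfullyFlat R S] (hS : EGA4.IsNormalRing S) : EGA4.IsNormalRing R := by
  intro p _
  obtain ⟨⟨Q, hQ⟩, hQp⟩ := PrimeSpectrum.comap_surjective_of_faithfullyFlat (A := R) (B := S) ⟨p, ‹_›⟩
  have hp : p = Q.comap (algebraMap R S) := (congrArg PrimeSpectrum.asIdeal hQp).symm
  haveI : Q.IsPrime := hQ
  let g := Localization.localRingHom p Q (algebraMap R S) hp
  letI := g.toAlgebra
  haveI : Module.Flat (Localization.AtPrime p) (Localization.AtPrime Q) :=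
    RingHom.Flat.localRingHom (RingHom.flat_algebraMap_iff.mpr inferInstance) Q p hp
  haveI : IsLocalHom (algebraMap (Localization.AtPrime p) (Localization.AtPrime Q)) := Localization.isLocalHom_localRingHom _ _ _ _
  haveI : Module.FaithfullyFlat (Localization.AtPrime p) (Localization.AtPrime Q) := Module.FaithfullyFlat.of_flat_of_isLocalHom
  haveI := (hS Q).1
  haveI := (hS Q).2
  exact isIntegrallyClosed_of_faithfullyFlat (Localization.AtPrime p) (Localization.AtPrime Q)

theorem faithfullyFlat_cpl (A : Type u) [CommRing A] [IsNoetherianRing A] [IsLocalRing A] :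
    Module.FaithfullyFlat A (EGA4.Cpl A) := by
  haveI : Module.Flat A (EGA4.Cpl A) := AdicCompletion.flat_of_isNoetherian _
  refine (Module.FaithfullyFlat.iff_flat_and_proper_ideal A (EGA4.Cpl A)).mpr ⟨inferInstance, fun I hI htop => ?_⟩
  have h1 : I • (⊤ : Submodule A (EGA4.Cpl A)) ≤ LinearMap.ker (AdicCompletion.evalOneₐ (IsLocalRing.maximalIdeal A)).toLinearMap := by
    refine Submodule.smul_le.mpr fun a ha z _ => ?_
    rw [LinearMap.mem_ker, map_smul, Algebra.smul_def]
    refine mul_eq_zero_of_left ?_ _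
    exact Ideal.Quotient.eq_zero_iff_mem.mpr (IsLocalRing.le_maximalIdeal hI ha)
  have h2 : (1 : EGA4.Cpl A) ∈ LinearMap.ker (AdicCompletion.evalOneₐ (IsLocalRing.maximalIdeal A)).toLinearMap := h1 (htop.symm.le Submodule.mem_top)
  rw [LinearMap.mem_ker] at h2
  haveI : Nontrivial (A ⧸ IsLocalRing.maximalIdeal A) := Ideal.Quotient.nontrivial_iff.mpr (IsLocalRing.maximalIdeal.isMaximal A).ne_top
  exact one_ne_zero ((map_one (AdicCompletion.evalOneₐ (IsLocalRing.maximalIdeal A))).symm.trans h2)

end Groth.L06.NormalAscent
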