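import Groth.Agent.L19.H1Sheaf.Immersion
import Groth.Agent.L18.IdealModule
import Groth.Agent.L20.ModPullback
import Mathlib.RingTheory.LocalRing.Module
import Mathlib.RingTheory.LocalRing.ResidueField.Ideal
import Mathlib.AlgebraicGeometry.Morphisms.ClosedImmersion
import Mathlib.AlgebraicGeometry.Morphisms.FinitePresentation
import Mathlib.AlgebraicGeometry.Morphisms.IsIso

/-!
# Vanishing of stalks of conormal sheaves
-/

set_option autoImplicit false
set_option maxSynthPendingDepth 3
set_option linter.style.haveILetI false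
set_option backward.isDefEq.respectTransparency.types false
set_option backward.isDefEq.respectTransparency false

universe u

open CategoryTheory CategoryTheory.Limits AlgebraicGeometry Opposite TopologicalSpace TensorProduct

noncomputable section

namespace Groth.L06.ConormalStalk

/-- A finite module killed by a map to a field vanishes at the kernel of that map. -/
theorem exists_smul_eq_zero {T : Type u} [CommRing T] (M : Type u) [AddCommGroup M] [Module T M]
    [Module.Finite T M] {K : Type u} [Field K] [Algebra T K] (P : Ideal T) [P.IsPrime]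
    (hP : RingHom.ker (algebraMap T K) = P) [Subsingleton (K ⊗[T] M)] :
    ∃ r ∉ P, ∀ m : M, r • m = 0 := by
  by_contra hne
  have hsupp : (⟨P, inferInstance⟩ : PrimeSpectrum T) ∈ Module.support T M :=
    Module.mem_support_iff_of_finite.2 fun r hr => by
      by_contra hrP
      exact hne ⟨r, hrP, fun m => Module.mem_annihilator.1 hr m⟩
  haveI : Nontrivial (P.ResidueField ⊗[T] M) :=
    (Module.mem_support_iff_nontrivial_residueField_tensorProduct (M := M) ⟨P, inferInstance⟩).1 hsupp
  let j : P.ResidueField →+* K := Ideal.ResidueField.lift P (algebraMap T K) hP.ge fun x hx =>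
    IsUnit.mk0 _ fun h => hx (hP ▸ RingHom.mem_ker.2 h)
  let jl : P.ResidueField →ₗ[T] K :=
    { toFun := j
      map_add' := map_add j
      map_smul' := fun r x => by
        rw [Algebra.smul_def, map_mul, Ideal.ResidueField.lift_algebraMap, RingHom.id_apply, Algebra.smul_def] }
  -- a nonzero functional on the fibre
  let V := P.ResidueField ⊗[T] M
  obtain ⟨z, hz⟩ := exists_ne (0 : V)
  obtain ⟨φ, hφ⟩ : ∃ φ : V →ₗ[P.ResidueField] P.ResidueField, φ z ≠ 0 := by
    by_contra h
    exact hz ((Module.forall_dual_apply_eq_zero_iff P.ResidueField z).1 fun φ => by_contra fun h' => h ⟨φ, h'⟩)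
  let α : M →ₗ[T] K := jl ∘ₗ (φ.restrictScalars T) ∘ₗ (TensorProduct.mk T P.ResidueField M 1)
  have hα : ∀ m, α m = 0 := fun m => by
    let β : K ⊗[T] M →ₗ[T] K := TensorProduct.lift ((LinearMap.mul T K).compl₂ α)
    have h := congrArg β (Subsingleton.elim ((1 : K) ⊗ₜ[T] m) 0)
    simpa [β] using h
  refine hφ ?_
  have h1 : ∀ v : V, φ v = 0 := fun v => by
    induction v using TensorProduct.induction_on with
    | zero => exact map_zero _
    | tmul a m =>
      have : a ⊗ₜ[T] m = a • ((1 : P.ResidueField) ⊗ₜ[T] m) := by rw [smul_tmul', smul_eq_mul, mul_one]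
      have h0 : φ ((1 : P.ResidueField) ⊗ₜ[T] m) = 0 := j.injective ((hα m).trans (map_zero j).symm)
      rw [this, map_smul, h0, smul_zero]
    | add a b ha hb => rw [map_add, ha, hb, add_zero]
  exact h1 z

variable {Y X : Scheme.{u}}

/-- The stalk of the conormal sheaf vanishes iff the immersion is open near the point. -/
theorem isOpenImmersion_iff_subsingleton (j : Y ⟶ X) [IsImmersion j] [QuasiCompact j]
    [LocallyOfFinitePresentation j] (y : Y) :
    (∃ U : Y.Opens, y ∈ U ∧ IsOpenImmersion (U.ι ≫ j)) ↔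
      Subsingleton ((Omega.conormal j).presheaf.stalk y) := by
  obtain ⟨W, hyW, -, hU, hs⟩ := Groth.L19.OmegaSh.exists_affine_surjective (i := j) y ⊤ trivial
  letI : Algebra Γ(X, W.1) (Y.presheaf.stalk y) :=
    ((j.stalkMap y).hom.comp (X.presheaf.germ W.1 (j y) hyW).hom).toAlgebra
  letI : Module Γ(X, W.1) (((Omega.conormal j)).presheaf.stalk y) :=
    Module.compHom _ ((j.stalkMap y).hom.comp (X.presheaf.germ W.1 (j y) hyW).hom)
  haveI : IsScalarTower Γ(X, W.1) (Y.presheaf.stalk y) (((Omega.conormal j)).presheaf.stalk y) :=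
    IsScalarTower.of_algebraMap_smul fun _ _ => rfl
  obtain ⟨g, hg⟩ : ∃ g : Γ(ClSub.idealMod j.ker, W.1) →ₗ[Γ(X, W.1)] ((Omega.conormal j)).presheaf.stalk y,
      IsBaseChange (Y.presheaf.stalk y) g :=
    Groth.L20.ModStalk.exists_isBaseChange_pullback_stalk j (ClSub.idealMod j.ker) W.2 hyW
  let I : Ideal Γ(X, W.1) := RingHom.ker (j.app W.1).hom
  let e : Γ(ClSub.idealMod j.ker, W.1) ≃ₗ[Γ(X, W.1)] I :=
    LinearEquiv.ofBijective
      { toFun := fun s => ⟨_root_.OmegaSh.idealSect j.ker W.1 s, RingHom.mem_ker.2 (Groth.L19.OmegaSh.app_idealSect j W.1 s)⟩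
        map_add' := fun a b => Subtype.ext (map_add _ a b)
        map_smul' := fun r s => Subtype.ext (Groth.L19.OmegaSh.idealSect_smul j W.1 r s) }
      ⟨fun a b h => Groth.L19.OmegaSh.idealSect_injective j W.1 (congrArg Subtype.val h), fun a => by
        obtain ⟨s, hs⟩ := Groth.L19.OmegaSh.exists_idealSect j W.1 a.1 (RingHom.mem_ker.1 a.2)
        exact ⟨s, Subtype.ext hs⟩⟩
  let E : Y.presheaf.stalk y ⊗[Γ(X, W.1)] I ≃ₗ[Y.presheaf.stalk y] (Omega.conormal j).presheaf.stalk y :=
    (TensorProduct.AlgebraTensorModule.congr (LinearEquiv.refl _ _) e.symm).trans hg.equiv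
  let P : Ideal Γ(X, W.1) := RingHom.ker (X.evaluation W.1 (j y) hyW).hom
  haveI : P.IsPrime := RingHom.ker_isPrime _
  haveI hfin : Module.Finite Γ(X, W.1) I := by
    letI := (j.app W.1).hom.toAlgebra
    haveI : Algebra.FinitePresentation Γ(X, W.1) Γ(Y, j ⁻¹ᵁ W.1) := by
      have h := j.finitePresentation_appLE W.2 hU le_rfl
      rw [← Scheme.Hom.app_eq_appLE] at h
      exact h
    exact Module.Finite.iff_fg.2
      (Algebra.FinitePresentation.ker_fG_of_surjective (Algebra.ofId Γ(X, W.1) Γ(Y, j ⁻¹ᵁ W.1)) hs :)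
  constructor
  · rintro ⟨U, hyU, hopen⟩
    -- an element outside the point killing the ideal
    obtain ⟨r, hrP, hr⟩ : ∃ r ∉ P, ∀ a ∈ I, r * a = 0 := by
      let V : X.Opens := (U.ι ≫ j).opensRange ⊓ W.1
      have hyV : j y ∈ V := ⟨⟨⟨y, hyU⟩, rfl⟩, hyW⟩
      obtain ⟨r, hrV, hyr⟩ := W.2.exists_basicOpen_le ⟨j y, hyV⟩ hyW
      have hrle : X.basicOpen r ≤ W.1 := X.basicOpen_le r
      have key : ∀ a ∈ I, X.presheaf.map (homOfLE hrle).op a = 0 := fun a ha => by
        have h1 : X.basicOpen r ≤ (U.ι ≫ j).opensRange := hrV.trans inf_le_left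
        haveI : IsIso ((U.ι ≫ j).app (X.basicOpen r)) := (U.ι ≫ j).isIso_app (X.basicOpen r) h1
        refine (ConcreteCategory.bijective_of_isIso ((U.ι ≫ j).app (X.basicOpen r))).1 ?_
        rw [map_zero, Scheme.Hom.comp_app, CommRingCat.comp_apply]
        have h2 : j.app (X.basicOpen r) (X.presheaf.map (homOfLE hrle).op a) = 0 := by
          rw [show j.app (X.basicOpen r) (X.presheaf.map (homOfLE hrle).op a) =
            Y.presheaf.map _ (j.app W.1 a) from congr($(j.naturality (homOfLE hrle).op) a)]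
          rw [show j.app W.1 a = 0 from RingHom.mem_ker.1 ha]
          exact map_zero _
        rw [h2]
        exact map_zero _
      haveI := W.2.isLocalization_basicOpen r
      have hpow : ∀ a ∈ I, ∃ k : ℕ, r ^ k * a = 0 := fun a ha => by
        obtain ⟨⟨_, k, rfl⟩, hk⟩ := (IsLocalization.map_eq_zero_iff (Submonoid.powers r) Γ(X, X.basicOpen r) a).1 (key a ha)
        exact ⟨k, hk⟩
      obtain ⟨S, hS⟩ := (Module.Finite.iff_fg.1 hfin : I.FG)
      choose k hk using fun a : S => hpow a.1 (hS ▸ Submodule.subset_span a.2)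
      refine ⟨r ^ Finset.univ.sum k, fun h => ?_, fun a ha => ?_⟩
      · exact (Scheme.evaluation_ne_zero_iff_mem_basicOpen X (j y) hyW r).2 hyr
          (RingHom.mem_ker.1 (Ideal.IsPrime.mem_of_pow_mem ‹P.IsPrime› _ h))
      · rw [← hS] at ha
        induction ha using Submodule.span_induction with
        | mem x hx =>
          obtain ⟨c, hc⟩ := pow_dvd_pow r (Finset.single_le_sum (f := k) (fun i _ => Nat.zero_le _)
            (Finset.mem_univ (⟨x, hx⟩ : S)))
          rw [hc, mul_comm _ c, mul_assoc, hk ⟨x, hx⟩, mul_zero]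
        | zero => exact mul_zero _
        | add x z _ _ hx hz => rw [mul_add, hx, hz, add_zero]
        | smul c x _ hx => rw [smul_eq_mul, mul_left_comm, hx, mul_zero]
    haveI : Subsingleton (Y.presheaf.stalk y ⊗[Γ(X, W.1)] I) := by
      have hu : IsUnit (algebraMap Γ(X, W.1) (Y.presheaf.stalk y) r) := by
        refine IsUnit.map (j.stalkMap y).hom ?_
        by_contra h
        exact hrP (RingHom.mem_ker.2 ((IsLocalRing.residue_eq_zero_iff _).2 h))
      refine subsingleton_of_forall_eq 0 fun t => ?_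
      have h0 : algebraMap Γ(X, W.1) (Y.presheaf.stalk y) r • t = 0 := by
        induction t using TensorProduct.induction_on with
        | zero => exact smul_zero _
        | tmul a b =>
          rw [algebraMap_smul, ← TensorProduct.tmul_smul,
            show r • b = 0 from Subtype.ext (hr b.1 b.2), TensorProduct.tmul_zero]
        | add a b ha hb => rw [smul_add, ha, hb, add_zero]
      exact (hu.smul_eq_zero).1 h0
    exact E.symm.toEquiv.subsingleton
  · intro hsub
    haveI : Subsingleton (Y.presheaf.stalk y ⊗[Γ(X, W.1)] I) := E.toEquiv.subsingleton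
    letI : Algebra Γ(X, W.1) (Y.residueField y) :=
      ((Y.residue y).hom.comp (algebraMap Γ(X, W.1) (Y.presheaf.stalk y))).toAlgebra
    let ρ : Y.presheaf.stalk y →ₗ[Γ(X, W.1)] Y.residueField y :=
      { toFun := Y.residue y
        map_add' := map_add _
        map_smul' := fun a b => by
          rw [Algebra.smul_def, map_mul, RingHom.id_apply, Algebra.smul_def]
          rfl }
    haveI : Subsingleton (Y.residueField y ⊗[Γ(X, W.1)] I) :=
      (LinearMap.rTensor_surjective I (g := ρ) (Y.residue_surjective y)).subsingleton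
    have hP : RingHom.ker (algebraMap Γ(X, W.1) (Y.residueField y)) = P := by
      ext a
      rw [RingHom.mem_ker, RingHom.mem_ker]
      have h := Scheme.evaluation_naturality_apply j y hyW a
      have h' : algebraMap Γ(X, W.1) (Y.residueField y) a = j.residueFieldMap y (X.evaluation W.1 (j y) hyW a) := by
        rw [h]
        show Y.residue y (j.stalkMap y (X.presheaf.germ W.1 (j y) hyW a)) = _
        rw [Scheme.Hom.germ_stalkMap_apply]
        rfl
      rw [h']
      exact map_eq_zero_iff _ (j.residueFieldMap y).hom.injective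
    obtain ⟨r, hrP, hr⟩ := exists_smul_eq_zero (M := I) P hP
    let D : X.Opens := X.basicOpen r
    have hyD : y ∈ j ⁻¹ᵁ D := by
      show j y ∈ X.basicOpen r
      exact (Scheme.evaluation_ne_zero_iff_mem_basicOpen X (j y) hyW r).1 fun h => hrP (RingHom.mem_ker.2 h)
    have hle : D ≤ W.1 := X.basicOpen_le r
    haveI := W.2.isLocalization_basicOpen r
    letI algY := (Y.presheaf.map (homOfLE (Scheme.Hom.preimage_mono j hle)).op).hom.toAlgebra
    haveI : IsLocalization.Away (j.app W.1 r) Γ(Y, j ⁻¹ᵁ D) :=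
      hU.isLocalization_of_eq_basicOpen (j.app W.1 r) (homOfLE (Scheme.Hom.preimage_mono j hle))
        (j.preimage_basicOpen r)
    have hnat : ∀ a, j.app D (algebraMap Γ(X, W.1) Γ(X, D) a) =
        algebraMap Γ(Y, j ⁻¹ᵁ W.1) Γ(Y, j ⁻¹ᵁ D) (j.app W.1 a) := fun a =>
      congr($(j.naturality (homOfLE hle).op) a)
    have hbij : Function.Bijective (j.app D) := by
      refine ⟨(injective_iff_map_eq_zero (j.app D).hom).2 fun z hz => ?_, fun z => ?_⟩
      · obtain ⟨⟨a, s⟩, e⟩ := IsLocalization.surj (Submonoid.powers r) z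
        have h1 : algebraMap Γ(Y, j ⁻¹ᵁ W.1) Γ(Y, j ⁻¹ᵁ D) (j.app W.1 a) = 0 := by
          rw [← hnat, ← e, map_mul, show j.app D z = 0 from hz, zero_mul]
        obtain ⟨⟨_, m, rfl⟩, hm⟩ :=
          (IsLocalization.map_eq_zero_iff (Submonoid.powers (j.app W.1 r)) Γ(Y, j ⁻¹ᵁ D) _).1 h1
        have ha : r ^ m * a ∈ I := by
          refine RingHom.mem_ker.2 ?_
          rw [map_mul, map_pow]
          exact hm
        have h2 : r ^ (m + 1) * a = 0 := by
          have := congrArg Subtype.val (hr ⟨_, ha⟩)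
          rw [pow_succ', mul_assoc]
          exact this
        have h3 : algebraMap Γ(X, W.1) Γ(X, D) a = 0 :=
          (IsLocalization.map_eq_zero_iff (Submonoid.powers r) Γ(X, D) a).2 ⟨⟨_, m + 1, rfl⟩, h2⟩
        rw [h3] at e
        exact (IsLocalization.map_units Γ(X, D) s).mul_left_eq_zero.1 e
      · obtain ⟨⟨b, ⟨_, m, rfl⟩⟩, e⟩ := IsLocalization.surj (Submonoid.powers (j.app W.1 r)) z
        obtain ⟨a, rfl⟩ := hs b
        refine ⟨IsLocalization.mk' Γ(X, D) a (⟨r ^ m, m, rfl⟩ : Submonoid.powers r), ?_⟩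
        have e2 := congrArg (j.app D) (IsLocalization.mk'_spec Γ(X, D) a (⟨r ^ m, m, rfl⟩ : Submonoid.powers r))
        rw [map_mul, hnat, hnat, map_pow] at e2
        refine (IsLocalization.map_units Γ(Y, j ⁻¹ᵁ D) (⟨_, m, rfl⟩ : Submonoid.powers (j.app W.1 r))).mul_left_injective ?_
        exact e2.trans e.symm
    haveI : IsAffine (D : Scheme.{u}) := W.2.basicOpen r
    haveI : IsAffine ((j ⁻¹ᵁ D : Y.Opens) : Scheme.{u}) := by
      rw [show j ⁻¹ᵁ D = Y.basicOpen (j.app W.1 r) from j.preimage_basicOpen r]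
      exact hU.basicOpen _
    haveI : IsIso (j.app D) := (ConcreteCategory.isIso_iff_bijective _).2 hbij
    haveI : IsIso (j ∣_ D).appTop := by
      rw [morphismRestrict_appTop]
      haveI : IsIso (j.app (D.ι ''ᵁ ⊤)) := by
        rw [show D.ι ''ᵁ ⊤ = D from (Scheme.Hom.image_top_eq_opensRange D.ι).trans D.opensRange_ι]
        infer_instance
      infer_instance
    haveI : IsIso (j ∣_ D) :=
      (HasAffineProperty.iff_of_isAffine (P := MorphismProperty.isomorphisms Scheme.{u})).2 ⟨inferInstance, inferInstance⟩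
    refine ⟨j ⁻¹ᵁ D, hyD, ?_⟩
    rw [← morphismRestrict_ι]
    infer_instance

end Groth.L06.ConormalStalk
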