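import Groth.Agent.L07.DimFormulaApps
import Groth.Agent.L07.DimToolkit
import Groth.Agent.L07.OpenFibreDim
import Groth.Agent.L07.OpenEquiv
import Groth.Agent.L07.EquidimQF
import Groth.Agent.L06.Dim

/-! Components of special fibres against components of the generic fibre. -/

set_option autoImplicit false
set_option maxSynthPendingDepth 3
set_option backward.isDefEq.respectTransparency.types false
set_option backward.isDefEq.respectTransparency false
set_option linter.style.haveILetI false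
universe u

open CategoryTheory AlgebraicGeometry TopologicalSpace Topology

namespace Groth.L06.FibreComponentsGeneric

open Groth.L07.DimToolkit Groth.L07.Equidim Groth.L22

variable {X Y : Scheme.{u}}

/-- `E(y)`: dimensions of the components of the fibre -/
def dims (f : X ⟶ Y) (y : Y) : Set (WithBot ℕ∞) :=
  (fun Z : Set ↥(f.fiber y) => topologicalKrullDim ↥Z) '' irreducibleComponents ↥(f.fiber y)

theorem subset_of_forall [IrreducibleSpace Y] (f : X ⟶ Y) [LocallyOfFiniteType f] (y : Y)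
    (h : ∀ z : X, f z = y → (∀ z', f z' = f z → z' ⤳ z → z' = z) →
      ∃ ξ : X, (∀ q, q ⤳ ξ → q = ξ) ∧ f ξ = genericPoint Y ∧ fdim f ξ = fdim f z) :
    dims f y ⊆ dims f (genericPoint Y) ∧
      topologicalKrullDim ↥(f.fiber y) ≤ topologicalKrullDim ↥(f.fiber (genericPoint Y)) := by
  have hsub : dims f y ⊆ dims f (genericPoint Y) := by
    rintro _ ⟨C, hC, rfl⟩
    obtain ⟨c, rfl, hcmax⟩ := exists_generic_of_component f y hC
    obtain ⟨ξ, hξ, hfξ, hd⟩ := h (f.fiberι y c) (apply_fiberι f y c) fun z' hz' hsp => by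
      obtain ⟨d, rfl⟩ : z' ∈ Set.range (f.fiberι y) := by rw [f.range_fiberι]; exact hz'.trans (apply_fiberι f y c)
      rw [hcmax d ((f.fiberι y).isEmbedding.isInducing.specializes_iff.mp hsp)]
    obtain ⟨e, he⟩ : ξ ∈ Set.range (f.fiberι (genericPoint Y)) := by rw [f.range_fiberι]; exact hfξ
    refine ⟨closure {e}, (Groth.L07.EquidimQF.closure_singleton_mem_irreducibleComponents_iff e).mpr fun e' he' => ?_, ?_⟩
    · exact (f.fiberι _).isEmbedding.injective ((hξ _ (he ▸ he'.map (f.fiberι _).continuous)).trans he.symm)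
    · show topologicalKrullDim ↥(closure ({e} : Set _)) = topologicalKrullDim ↥(closure ({c} : Set _))
      rw [← fdim_fiberι, he, hd, fdim_fiberι]
  refine ⟨hsub, ?_⟩
  refine iSup_le fun p => ?_
  obtain ⟨C, hC, hle⟩ := exists_mem_irreducibleComponents_subset_of_isIrreducible (p.last : Set ↥(f.fiber y)) p.last.isIrreducible
  obtain ⟨C', hC', he⟩ := hsub ⟨C, hC, rfl⟩
  exact (Groth.L06.Dim.length_le_of_last_subset p hle).trans (he.symm.le.trans (topologicalKrullDim_subspace_le _ _))

theorem of_dim_eq [IrreducibleSpace Y] [IsLocallyNoetherian Y] (f : X ⟶ Y) [LocallyOfFiniteType f] (y : Y)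
    (hcat : CAlg.IsUniversallyCatenary (Y.presheaf.stalk y))
    (hb : ∀ z : X, f z = y → (∀ z', f z' = f z → z' ⤳ z → z' = z) →
      ringKrullDim (X.presheaf.stalk z) = ringKrullDim (Y.presheaf.stalk y))
    (z : X) (hz : f z = y) (hmax : ∀ z', f z' = f z → z' ⤳ z → z' = z) :
    ∃ ξ : X, (∀ q, q ⤳ ξ → q = ξ) ∧ f ξ = genericPoint Y ∧ fdim f ξ = fdim f z := by
  haveI : IsLocallyNoetherian X := LocallyOfFiniteType.isLocallyNoetherian f
  subst hz
  obtain ⟨ξ, hξz, d, hξmax, hd, hd'⟩ := exists_dim_locQuot_eq z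
  obtain ⟨A, B, n, N, hA, hB, hn, hN, -, heq⟩ := formula f hξz
  obtain rfl : A = d := by exact_mod_cast hA.symm.trans (hd.trans hd')
  have hY : ringKrullDim (Y.presheaf.stalk (f z)) = (A : WithBot ℕ∞) := (hb z rfl hmax).symm.trans hd'
  have hBA : B ≤ A := by exact_mod_cast hB.symm.le.trans ((dim_locQuot_le _ _ _).trans hY.le)
  have hNn : N ≤ n := by
    have h1 := fdim_le_fibreDimAt_of_specializes f hξz
    rw [← Groth.L07.OpenFibreDim.fdim_eq_fibreDimAt f z hmax, hn, hN] at h1
    exact_mod_cast h1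
  have := heq hcat
  obtain rfl : B = A := by omega
  obtain rfl : N = n := by omega
  refine ⟨ξ, hξmax, ?_, hN.trans hn.symm⟩
  exact (maximal_of_dim_locQuot (f z) (f ξ) (hξz.map f.continuous) (hB.trans hY.symm) (genericPoint Y)
    ((genericPoint_spec Y).specializes trivial)).symm

theorem of_isOpenAt [IrreducibleSpace Y] [IsLocallyNoetherian Y] (f : X ⟶ Y) [LocallyOfFiniteType f]
    (z : X) (hmax : ∀ z', f z' = f z → z' ⤳ z → z' = z) (hopen : EGA43.IsOpenAt f.base z) :
    ∃ ξ : X, (∀ q, q ⤳ ξ → q = ξ) ∧ f ξ = genericPoint Y ∧ fdim f ξ = fdim f z := by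
  obtain ⟨ξ, -, hξmax, hfξ, hd⟩ := Groth.L07.OpenEquiv.exists_component f z hmax (η := genericPoint Y)
    (fun U hU => Groth.L07.OpenFibreDim.le_dim_fibre_of_isOpenAt f z hmax hopen U hU
      ((genericPoint_spec Y).specializes trivial))
    (fun η' hη' => (hη'.antisymm ((genericPoint_spec Y).specializes trivial)).eq)
  exact ⟨ξ, hξmax, hfξ, hd.trans (Groth.L07.OpenFibreDim.fdim_eq_fibreDimAt f z hmax).symm⟩

end Groth.L06.FibreComponentsGeneric
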