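import Groth.Agent.L06.FibreDimLocConst
import Groth.Agent.L06.FibreComponentsGeneric

/-! The set of dimensions of the fibre components of an open morphism. -/

set_option autoImplicit false
set_option maxSynthPendingDepth 3
set_option backward.isDefEq.respectTransparency.types false
set_option backward.isDefEq.respectTransparency false
set_option linter.style.haveILetI false
universe u

open CategoryTheory AlgebraicGeometry TopologicalSpace Topology

namespace Groth.L06.FibreDimsOpen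

open Groth.L07.Equidim Groth.L07.OpenEquiv Groth.L07.EquidimQF Groth.L07.OpenFibreDim Groth.L06.FibreComponentsGeneric

variable {X Y : Scheme.{u}}

/-- The dimensions of the components of a fibre are the values of the fibre dimension on it. -/
theorem dims_eq (f : X ⟶ Y) [LocallyOfFiniteType f] (y : Y) :
    dims f y = FlatMor.fibreDimAt f '' (f.base ⁻¹' {y}) := by
  ext v
  constructor
  · rintro ⟨C, hC, rfl⟩
    obtain ⟨c, rfl, hcmax⟩ := exists_generic_of_component f y hC
    have hfy := apply_fiberι f y c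
    have hmax : ∀ z', f z' = f (f.fiberι y c) → z' ⤳ f.fiberι y c → z' = f.fiberι y c := fun z' hz' hsp => by
      obtain ⟨d, rfl⟩ : z' ∈ Set.range (f.fiberι y) := by rw [f.range_fiberι]; exact hz'.trans hfy
      rw [hcmax d ((f.fiberι y).isEmbedding.isInducing.specializes_iff.mp hsp)]
    refine ⟨f.fiberι y c, hfy, ?_⟩
    rw [← Groth.L07.OpenFibreDim.fdim_eq_fibreDimAt f _ hmax, fdim_fiberι]
  · rintro ⟨x, hx, rfl⟩
    obtain ⟨w, -, hfw, hmax, hd⟩ := exists_maximal_fdim_eq f x
    have hwy : f w = y := hfw.trans hx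
    obtain ⟨e, he⟩ : w ∈ Set.range (f.fiberι y) := by rw [f.range_fiberι]; exact hwy
    refine ⟨closure {e}, (Groth.L07.EquidimQF.closure_singleton_mem_irreducibleComponents_iff e).mpr
      fun e' he' => ?_, ?_⟩
    · refine (f.fiberι y).isEmbedding.injective ?_
      rw [he]
      refine hmax _ ((apply_fiberι f y e').trans hwy.symm) ?_
      rw [← he]
      exact he'.map (f.fiberι y).continuous
    · show topologicalKrullDim ↥(closure ({e} : Set _)) = _
      rw [← fdim_fiberι, he, hd]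

/-- An open morphism carries each dimension of a fibre component to the generizations. -/
theorem dims_subset [IsLocallyNoetherian Y] (f : X ⟶ Y) [LocallyOfFiniteType f] (hf : IsOpenMap f.base)
    {z y : Y} (h : z ⤳ y) : dims f y ⊆ dims f z := by
  rw [dims_eq, dims_eq]
  rintro _ ⟨x₀, hx₀, rfl⟩
  obtain ⟨x, -, hfx, hmax, hd⟩ := exists_maximal_fdim_eq f x₀
  rw [← hd, Groth.L07.OpenFibreDim.fdim_eq_fibreDimAt f x hmax]
  have hopen : EGA43.IsOpenAt f.base x := fun V hV => by
    obtain ⟨U, hUV, hU, hxU⟩ := mem_nhds_iff.mp hV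
    exact Filter.mem_of_superset ((hf U hU).mem_nhds ⟨x, hxU, rfl⟩) (Set.image_mono hUV)
  have hzx : z ⤳ f x := (hfx.trans hx₀).symm ▸ h
  obtain ⟨d, hd'⟩ := exists_nat_fdim f x
  rw [Groth.L07.OpenFibreDim.fdim_eq_fibreDimAt f x hmax] at hd'
  obtain ⟨U1, hxU1, hU1⟩ := (Groth.L07.FibreDim.fibreDimAt_le_iff f x _).mp hd'.le
  obtain ⟨D, g, hxD, hDU, hg, hqf⟩ := exists_qf_affineSpace f U1 x hxU1 d hU1
  haveI := hqf
  obtain ⟨a, haD, hfa, had⟩ := exists_fdim_le f D z d
    (hd'.symm.le.trans (Groth.L07.OpenFibreDim.le_dim_fibre_of_isOpenAt f x hmax hopen D hxD hzx))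
  refine ⟨a, hfa, le_antisymm ?_ (hd'.le.trans (had.trans (fdim_le_fibreDimAt f a)))⟩
  obtain ⟨w, hwa, -, hwmax, hw⟩ := exists_maximal_fdim_eq f a
  have hwD : w ∈ D := hwa.mem_open D.2 haD
  rw [← hw, hd']
  let pr := 𝔸(ULift.{u} (Fin d); Y) ↘ Y
  haveI : LocallyOfFiniteType (g ≫ pr) := hg ▸ inferInstance
  haveI : LocallyOfFiniteType g := locallyOfFiniteType_of_comp g pr
  have e1 := fdim_comp g pr (D.ι ≫ f) hg ⟨w, hwD⟩
  rw [fdim_comp D.ι f (D.ι ≫ f) rfl ⟨w, hwD⟩] at e1
  refine (le_of_eq e1).trans ((fdim_affineSpace_le _).trans (le_of_eq ?_))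
  simp

theorem isLocallyConstructible_le [IsLocallyNoetherian X] (f : X ⟶ Y) [LocallyOfFiniteType f] (d : ℕ) :
    IsLocallyConstructible {x : X | FlatMor.fibreDimAt f x ≤ (d : WithBot ℕ∞)} := by
  intro x
  obtain ⟨W, hW, hWo, h⟩ := Groth.L06.FibreDimLocConst.isLocallyConstructible_closed
    (Groth.L07.FibreDim.isOpen_fibreDimAt_le f d).isClosed_compl x
  exact ⟨W, hW, hWo, by simpa using h.compl⟩

theorem isLocallyConstructible_diff {s t : Set X} (hs : IsLocallyConstructible s) (ht : IsLocallyConstructible t) :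
    IsLocallyConstructible (s \ t) := by
  intro x
  obtain ⟨U, hU, hUo, h⟩ := (hs.inter (show IsLocallyConstructible tᶜ from fun x => by
    obtain ⟨U, hU, hUo, h⟩ := ht x
    exact ⟨U, hU, hUo, by simpa using h.compl⟩)) x
  exact ⟨U, hU, hUo, h⟩

theorem isLocallyConstructible_eq [IsLocallyNoetherian X] (f : X ⟶ Y) [LocallyOfFiniteType f] (d : ℕ) :
    IsLocallyConstructible {x : X | FlatMor.fibreDimAt f x = (d : WithBot ℕ∞)} := by
  rcases d with _ | d
  · convert isLocallyConstructible_le f 0 using 1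
    ext x
    obtain ⟨n, hn⟩ := exists_nat_fibreDimAt f x
    simp [hn]
  · convert isLocallyConstructible_diff (isLocallyConstructible_le f (d + 1)) (isLocallyConstructible_le f d) using 1
    ext x
    obtain ⟨n, hn⟩ := exists_nat_fibreDimAt f x
    simp only [Set.mem_ofPred_eq, Set.mem_sdiff, hn]
    norm_cast
    omega

theorem exists_nhd [IsLocallyNoetherian Y] (f : X ⟶ Y) [LocallyOfFiniteType f] [QuasiCompact f]
    (hf : IsOpenMap f.base) (y : Y)
    (h : ∀ η : Y, y ∈ closure {η} → closure {η} ∈ irreducibleComponents (Y : Type u) → dims f y = dims f η) :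
    ∃ V ∈ 𝓝 y, ∀ z ∈ V, dims f z = dims f y := by
  haveI : IsLocallyNoetherian X := LocallyOfFiniteType.isLocallyNoetherian f
  haveI : LocallyOfFinitePresentation f := LocallyOfFinitePresentation.iff_locallyOfFiniteType.mpr inferInstance
  obtain ⟨n, hn⟩ := Groth.L06.FibreDimLocConst.exists_bound f y
  have key : ∀ z, z ⤳ y → dims f z = dims f y := fun z hz => by
    refine Set.Subset.antisymm ?_ (dims_subset f hf hz)
    obtain ⟨C, hC, hzC⟩ : ∃ C ∈ irreducibleComponents (Y : Type u), z ∈ C :=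
      ⟨irreducibleComponent z, irreducibleComponent_mem_irreducibleComponents z, mem_irreducibleComponent⟩
    obtain ⟨η, hη⟩ := QuasiSober.sober hC.1 (isClosed_of_mem_irreducibleComponents C hC)
    have hηz : η ⤳ z := hη.specializes hzC
    rw [h η (hηz.trans hz).mem_closure (by rw [hη.def]; exact hC)]
    exact dims_subset f hf hηz
  have hnat : ∀ z v, v ∈ dims f z → ∃ d : ℕ, v = (d : WithBot ℕ∞) := fun z v hv => by
    rw [dims_eq] at hv
    obtain ⟨x, -, rfl⟩ := hv
    exact exists_nat_fibreDimAt f x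
  let T : Set ℕ := {d | (d : WithBot ℕ∞) ∈ dims f y}
  have hT : T.Finite := (Set.finite_Iic n).subset fun d hd => by
    have hd' : (d : WithBot ℕ∞) ∈ dims f y := hd
    rw [dims_eq] at hd'
    obtain ⟨x, hx, hxd⟩ := hd'
    have h1 := (Groth.L07.FibreDim.fiber_dim_le_iff f y _).mp hn x hx
    rw [hxd] at h1
    exact Set.mem_Iic.mpr (by exact_mod_cast h1)
  let A : ℕ → Set X := fun d => {x | FlatMor.fibreDimAt f x = (d : WithBot ℕ∞)}
  have hA : ∀ (d : ℕ) z, (d : WithBot ℕ∞) ∈ dims f z ↔ z ∈ f.base '' A d := fun d z => by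
    rw [dims_eq]
    exact ⟨fun ⟨x, hx, hd⟩ => ⟨x, hd, hx⟩, fun ⟨x, hd, hx⟩ => ⟨x, hx, hd⟩⟩
  have h1 : (⋂ d ∈ T, f.base '' A d) ∈ 𝓝 y := (Filter.biInter_mem hT).mpr fun d hd =>
    Groth.L07.Count.mem_nhds_of_isLocallyConstructible
      (f.isLocallyConstructible_image (isLocallyConstructible_eq f d))
      fun z hz => (hA d z).mp ((key z hz).symm ▸ hd)
  let B : Set Y := f.base '' (⋃ d ∈ T, A d)ᶜ
  have hB : IsLocallyConstructible Bᶜ := by
    intro z
    have hu : IsLocallyConstructible ((Set.univ : Set X) \ ⋃ d ∈ T, A d) :=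
      isLocallyConstructible_diff IsLocallyConstructible.univ
        (IsLocallyConstructible.biUnion hT fun d _ => isLocallyConstructible_eq f d)
    rw [← Set.compl_eq_univ_sdiff] at hu
    obtain ⟨U, hU, hUo, h⟩ := (f.isLocallyConstructible_image hu) z
    exact ⟨U, hU, hUo, h.compl⟩
  have hmem : ∀ z, dims f z ⊆ dims f y ↔ z ∉ B := fun z => by
    constructor
    · rintro hsub ⟨x, hx, rfl⟩
      obtain ⟨d, hd⟩ := exists_nat_fibreDimAt f x
      refine hx (Set.mem_iUnion₂.mpr ⟨d, hsub ?_, hd⟩)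
      rw [dims_eq]
      exact ⟨x, rfl, hd⟩
    · intro hz v hv
      obtain ⟨d, rfl⟩ := hnat z v hv
      rw [hA] at hv
      obtain ⟨x, hxd, rfl⟩ := hv
      by_contra hcon
      refine hz ⟨x, fun hx => ?_, rfl⟩
      obtain ⟨d', hd', hxd'⟩ := Set.mem_iUnion₂.mp hx
      have hxd1 : FlatMor.fibreDimAt f x = (d : WithBot ℕ∞) := hxd
      have : (d : WithBot ℕ∞) = (d' : WithBot ℕ∞) := hxd1.symm.trans hxd'
      exact hcon (this ▸ hd')
  have h2 : Bᶜ ∈ 𝓝 y := Groth.L07.Count.mem_nhds_of_isLocallyConstructible hB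
    fun z hz => (hmem z).mp (key z hz).le
  refine ⟨_, Filter.inter_mem h1 h2, fun z hz => Set.Subset.antisymm ((hmem z).mpr hz.2) fun v hv => ?_⟩
  obtain ⟨d, rfl⟩ := hnat y v hv
  exact (hA d z).mpr (Set.mem_iInter₂.mp hz.1 d hv)

end Groth.L06.FibreDimsOpen
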