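import Groth.Agent.L06.CMFibreSpec
import Groth.Agent.L06.FibreDimsOpen
import Groth.Agent.L02.CMMor.FibreDim
import Groth.Agent.L07.UnivOpenFibre
import Groth.Agent.L23.LocalDimEtale
import Mathlib.RingTheory.Idempotents
import Mathlib.RingTheory.Localization.Away.Lemmas
import Mathlib.AlgebraicGeometry.Morphisms.OpenImmersion

/-! Decomposition of a flat algebra with Cohen–Macaulay fibres by fibre dimension. -/

set_option autoImplicit false
set_option maxSynthPendingDepth 3
set_option linter.style.haveILetI false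
set_option backward.isDefEq.respectTransparency.types false
set_option backward.isDefEq.respectTransparency false

universe u

open CategoryTheory AlgebraicGeometry TensorProduct

namespace Groth.L06.FibreDimDecomp

open Groth.L03.FibreLocalDim (f)

theorem cm_away {A B : Type u} [CommRing A] [CommRing B] [Algebra A B] (e : A) [IsLocalization.Away e B]
    (h : LocCoh.IsCohenMacaulayRing A) : LocCoh.IsCohenMacaulayRing B := by
  haveI := h
  haveI : IsNoetherianRing B := IsLocalization.isNoetherianRing (Submonoid.powers e) B inferInstance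
  refine ⟨fun P hP => ?_⟩
  let Q := P.comap (algebraMap A B)
  haveI : IsLocalization.AtPrime (Localization.AtPrime P) Q :=
    IsLocalization.isLocalization_isLocalization_atPrime_isLocalization (.powers e) _ P
  exact L02.CMMor.cm_of_ringEquiv
    (IsLocalization.algEquiv Q.primeCompl (Localization.AtPrime Q) (Localization.AtPrime P)).toRingEquiv
    (h.isCohenMacaulayLocalRing_localization Q)

theorem cm_fibre_quot {R S : Type u} [CommRing R] [CommRing S] [Algebra R S] {e : S} (he : IsIdempotentElem e)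
    (p : PrimeSpectrum R) (h : LocCoh.IsCohenMacaulayRing (p.asIdeal.Fiber S)) :
    LocCoh.IsCohenMacaulayRing (p.asIdeal.Fiber (S ⧸ Ideal.span {1 - e})) := by
  let κ := p.asIdeal.ResidueField
  let π : S →ₐ[R] S ⧸ Ideal.span {1 - e} := Ideal.Quotient.mkₐ R _
  let Φ : κ ⊗[R] S →ₐ[R] κ ⊗[R] (S ⧸ Ideal.span {1 - e}) := Algebra.TensorProduct.map (AlgHom.id R κ) π
  letI : Algebra (κ ⊗[R] S) (κ ⊗[R] (S ⧸ Ideal.span {1 - e})) := Φ.toRingHom.toAlgebra
  let e' : κ ⊗[R] S := Algebra.TensorProduct.includeRight e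
  haveI : IsLocalization.Away e' (κ ⊗[R] (S ⧸ Ideal.span {1 - e})) := by
    refine IsLocalization.away_of_isIdempotentElem (he.map _) ?_ ?_
    · show RingHom.ker Φ = _
      rw [Algebra.TensorProduct.lTensor_ker _ Ideal.Quotient.mk_surjective]
      rw [show RingHom.ker π = Ideal.span {1 - e} from Ideal.mk_ker, Ideal.map_span, Set.image_singleton,
        map_sub, map_one]
    · exact LinearMap.lTensor_surjective κ (g := π.toLinearMap) Ideal.Quotient.mk_surjective
  exact cm_away e' h

theorem dim_component {R T : Type u} [CommRing R] [CommRing T] [Algebra R T] [Algebra.FinitePresentation R T]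
    (d : WithBot ℕ∞) (hd : ∀ x, FlatMor.fibreDimAt (f R T) x = d) (p : PrimeSpectrum R)
    (P : Ideal (p.asIdeal.Fiber T)) (hP : P ∈ minimalPrimes (p.asIdeal.Fiber T)) :
    ringKrullDim (p.asIdeal.Fiber T ⧸ P) = d := by
  haveI : LocallyOfFiniteType (f R T) :=
    (HasRingHomProperty.Spec_iff (P := @LocallyOfFiniteType)).2 (RingHom.finiteType_algebraMap.2 inferInstance)
  let φ : (f R T).fiber p ≃ₜ PrimeSpectrum (p.asIdeal.Fiber T) :=
    ((f R T).fiberHomeo p).trans (PrimeSpectrum.preimageHomeomorphFiber R T p)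
  have hZ : PrimeSpectrum.zeroLocus (P : Set (p.asIdeal.Fiber T)) ∈
      irreducibleComponents (PrimeSpectrum (p.asIdeal.Fiber T)) := by
    rw [← PrimeSpectrum.zeroLocus_minimalPrimes]
    exact ⟨P, hP, rfl⟩
  have hmem : topologicalKrullDim ↥(φ ⁻¹' PrimeSpectrum.zeroLocus (P : Set (p.asIdeal.Fiber T))) ∈
      FibreComponentsGeneric.dims (f R T) p :=
    ⟨_, preimage_mem_irreducibleComponents hZ φ.isOpenEmbedding (by
      rw [φ.surjective.range_eq, Set.inter_univ]
      exact hZ.1.nonempty), rfl⟩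
  rw [FibreDimsOpen.dims_eq] at hmem
  obtain ⟨x, -, hx⟩ := hmem
  rw [hd x] at hx
  rw [hx]
  have h1 : topologicalKrullDim ↥(φ ⁻¹' PrimeSpectrum.zeroLocus (P : Set (p.asIdeal.Fiber T))) =
      topologicalKrullDim ↥(PrimeSpectrum.zeroLocus (P : Set (p.asIdeal.Fiber T))) :=
    (φ.sets (s := φ ⁻¹' PrimeSpectrum.zeroLocus (P : Set (p.asIdeal.Fiber T))) rfl).isHomeomorph.topologicalKrullDim_eq
  rw [h1]
  have hc := PrimeSpectrum.isClosedEmbedding_comap_of_surjective _ (Ideal.Quotient.mk P) Ideal.Quotient.mk_surjective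
  rw [← PrimeSpectrum.topologicalKrullDim_eq_ringKrullDim]
  rw [Groth.L22.SchemeDim.topologicalKrullDim_eq_of_isEmbedding hc.isEmbedding
    (by rw [_root_.range_comap_of_surjective _ _ Ideal.Quotient.mk_surjective, Ideal.mk_ker])]

theorem main (R S : Type u) [CommRing R]
    [CommRing S] [Algebra R S] [Module.Flat R S] [Algebra.FinitePresentation R S]
    (hCM : ∀ p : PrimeSpectrum R, LocCoh.IsCohenMacaulayRing (p.asIdeal.Fiber S)) :
    ∃ (N : ℕ) (T : Fin (N + 1) → Type u) (_ : ∀ d, CommRing (T d)) (_ : ∀ d, Algebra R (T d)),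
      Nonempty (S ≃ₐ[R] ((d : Fin (N + 1)) → T d)) ∧
        ∀ d : Fin (N + 1), Module.Flat R (T d) ∧ Algebra.FinitePresentation R (T d) ∧
          (∀ p : PrimeSpectrum R, LocCoh.IsCohenMacaulayRing (p.asIdeal.Fiber (T d))) ∧
          ∀ (p : PrimeSpectrum R), ∀ P ∈ minimalPrimes (p.asIdeal.Fiber (T d)),
            ringKrullDim (p.asIdeal.Fiber (T d) ⧸ P) = ((d : ℕ) : WithBot ℕ∞) := by
  classical
  haveI : LocallyOfFinitePresentation (f R S) :=
    (HasRingHomProperty.Spec_iff (P := @LocallyOfFinitePresentation)).2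
      (RingHom.finitePresentation_algebraMap.2 inferInstance)
  have hcm := CMFibreSpec.isCMAt_spec hCM
  have hlc := L02.CMMor.isLocallyConstant_fibreDimAt (f R S) hcm
  let g : PrimeSpectrum S → WithBot ℕ∞ := fun q => FlatMor.fibreDimAt (f R S) q
  have hg : IsLocallyConstant g := hlc
  choose n hn using fun q : PrimeSpectrum S => Groth.L07.OpenEquiv.exists_nat_fibreDimAt (f R S) q
  replace hn : ∀ q, g q = (n q : WithBot ℕ∞) := hn
  have hnl : IsLocallyConstant n := IsLocallyConstant.iff_exists_open _ |>.mpr fun q => by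
    obtain ⟨U, hU, hqU, h⟩ := hg.exists_open q
    refine ⟨U, hU, hqU, fun q' hq' => ?_⟩
    have := h q' hq'
    rw [hn, hn] at this
    exact_mod_cast this
  obtain ⟨N, hN⟩ := hnl.range_finite.bddAbove
  replace hN : ∀ q, n q ≤ N := fun q => hN ⟨q, rfl⟩
  choose e he hbo using fun d : Fin (N + 1) => PrimeSpectrum.exists_idempotent_basicOpen_eq_of_isClopen
    (hnl.isClopen_fiber (d : ℕ))
  replace hbo : ∀ d q, e d ∉ q.asIdeal ↔ n q = d := fun d q => (Set.ext_iff.mp (hbo d) q).symm
  have horth : ∀ i j, i ≠ j → e i * e j = 0 := fun i j hij => by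
    refine PrimeSpectrum.basicOpen_injOn_isIdempotentElem ((he i).mul (he j)) IsIdempotentElem.zero ?_
    rw [PrimeSpectrum.basicOpen_zero]
    refine TopologicalSpace.Opens.ext (Set.eq_empty_of_forall_notMem fun q hq => ?_)
    rw [PrimeSpectrum.basicOpen_mul] at hq
    exact hij (Fin.ext (((hbo i q).mp hq.1).symm.trans ((hbo j q).mp hq.2)))
  have hoi : OrthogonalIdempotents e := ⟨he, horth⟩
  have hsum : ∑ d, e d = 1 := by
    refine (IsIdempotentElem.iff_eq_one_of_isUnit ?_).mp hoi.isIdempotentElem_sum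
    by_contra hu
    obtain ⟨m, hm, hmem⟩ := exists_max_ideal_of_mem_nonunits hu
    let q : PrimeSpectrum S := ⟨m, hm.isPrime⟩
    let d : Fin (N + 1) := ⟨n q, Nat.lt_succ_of_le (hN q)⟩
    have h1 : e d * ∑ i, e i ∈ m := m.mul_mem_left _ hmem
    rw [Finset.mul_sum, Finset.sum_eq_single d (fun i _ hi => horth d i (Ne.symm hi))
      (fun h => absurd (Finset.mem_univ d) h), (he d).eq] at h1
    exact (hbo d q).mpr rfl h1
  have hco : CompleteOrthogonalIdempotents e := { hoi with complete := hsum }
  let T : Fin (N + 1) → Type u := fun d => S ⧸ Ideal.span {1 - e d}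
  let Φ : S →ₐ[R] ((d : Fin (N + 1)) → T d) := AlgHom.pi fun d => Ideal.Quotient.mkₐ R _
  refine ⟨N, T, inferInstance, inferInstance, ⟨AlgEquiv.ofBijective Φ hco.bijective_pi⟩, fun d => ⟨?_, ?_, ?_, ?_⟩⟩
  · haveI : Module.Flat R ((d : Fin (N + 1)) → T d) :=
      Module.Flat.of_linearEquiv (AlgEquiv.ofBijective Φ hco.bijective_pi).toLinearEquiv.symm
    exact Module.Flat.of_retract (M := (d : Fin (N + 1)) → T d) (LinearMap.single R T d) (LinearMap.proj d)
      (LinearMap.ext fun x => Pi.single_eq_same d x)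
  · exact Algebra.FinitePresentation.quotient (Submodule.fg_span_singleton _)
  · exact fun p => cm_fibre_quot (he d) p (hCM p)
  · intro p P hP
    haveI : Algebra.FinitePresentation R (T d) := Algebra.FinitePresentation.quotient (Submodule.fg_span_singleton _)
    refine dim_component (R := R) (T := T d) _ (fun x => ?_) p P hP
    haveI : IsLocalization.Away (e d) (T d) :=
      IsLocalization.away_of_isIdempotentElem (he d) Ideal.mk_ker Ideal.Quotient.mk_surjective
    let ι : Spec (CommRingCat.of (T d)) ⟶ Spec (CommRingCat.of S) :=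
      Spec.map (CommRingCat.ofHom (algebraMap S (T d)))
    haveI : IsOpenImmersion ι := IsOpenImmersion.of_isLocalization (e d)
    have hc : ι ≫ f R S = f R (T d) := by
      rw [← Spec.map_comp, ← CommRingCat.ofHom_comp, ← IsScalarTower.algebraMap_eq]
    rw [← hc, Groth.L23.fibreDimAt_etale_comp]
    show g (PrimeSpectrum.comap (algebraMap S (T d)) x) = _
    rw [hn, (hbo d _).mp fun h => ?_]
    exact x.isPrime.ne_top (Ideal.eq_top_of_isUnit_mem _ h (IsLocalization.Away.algebraMap_isUnit (e d)))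

end Groth.L06.FibreDimDecomp
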