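import Groth.Agent.L06.GRingFT
import Mathlib.RingTheory.AdjoinRoot

/-! Criteria for G-rings and geometric properties of formal fibres (EGA IV 7.3, 7.4). -/

set_option autoImplicit false
set_option maxSynthPendingDepth 3
set_option linter.style.haveILetI false
universe u

namespace Groth.L06.GRingCrit

open IsLocalRing PropLoc GeomFG GeomHom
open scoped TensorProduct

theorem loc_generic_point {R D : Type u} [CommRing R] [IsNoetherianRing R] [CommRing D] [IsDomain D] [Algebra R D]
    [Module.Finite R D] (L : Type u) [Field L] [Algebra D L] [IsFractionRing D L] (P : Ideal D) [P.IsPrime]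
    (h : ∀ (q : Ideal (Localization.AtPrime (P.comap (algebraMap R D)))) [q.IsPrime]
      (L : Type u) [Field L] [Algebra q.ResidueField L], Module.Finite q.ResidueField L →
      q.comap (algebraMap R _) = RingHom.ker (algebraMap R D) →
      (Function.Surjective (algebraMap R D) → Function.Surjective (algebraMap q.ResidueField L)) →
      Loc QReg (L ⊗[q.ResidueField] q.Fiber (EGA4.Cpl (Localization.AtPrime (P.comap (algebraMap R D)))))) :
    Loc QReg (L ⊗[D] EGA4.Cpl (Localization.AtPrime P)) := by
  letI : Algebra R L := ((algebraMap D L).comp (algebraMap R D)).toAlgebra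
  haveI : IsScalarTower R D L := IsScalarTower.of_algebraMap_eq' rfl
  let p := P.comap (algebraMap R D)
  let Rp := Localization.AtPrime p
  refine (CompleteGRing.transfer good_reg L p).mp ?_ P rfl
  have hu : ∀ s : p.primeCompl, IsUnit (algebraMap R L s) := fun s => isUnit_iff_ne_zero.mpr fun h0 => s.2 (by
    have : algebraMap R D s = 0 := IsFractionRing.injective D L (by rw [map_zero]; exact h0)
    show algebraMap R D s ∈ P
    rw [this]
    exact P.zero_mem)
  letI : Algebra Rp L := (IsLocalization.lift hu).toAlgebra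
  haveI : IsScalarTower R Rp L := IsScalarTower.of_algebraMap_eq fun a => (IsLocalization.lift_eq hu a).symm
  let q := RingHom.ker (algebraMap Rp L)
  haveI : q.IsPrime := RingHom.ker_isPrime _
  letI : Algebra q.ResidueField L := (Ideal.ResidueField.lift q (algebraMap Rp L) (fun a ha => ha)
    (fun a ha => isUnit_iff_ne_zero.mpr fun h0 => ha h0)).toAlgebra
  haveI : IsScalarTower Rp q.ResidueField L := IsScalarTower.of_algebraMap_eq fun a =>
    (Ideal.ResidueField.lift_algebraMap q _ _ _ a).symm
  haveI : IsScalarTower R q.ResidueField L := IsScalarTower.of_algebraMap_eq fun a => by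
    rw [IsScalarTower.algebraMap_apply R Rp L, IsScalarTower.algebraMap_apply Rp q.ResidueField L,
      ← IsScalarTower.algebraMap_apply R Rp q.ResidueField]
  haveI : Module.Finite q.ResidueField L := GRingPoly.finite_over (A := R) (D := D) (L := L) q.ResidueField
  haveI : IsNoetherianRing (EGA4.Cpl Rp) := Groth.Agent.S0543.result _ _
  haveI := GeomLocal.isNoetherianRing_fibre (B := EGA4.Cpl Rp) q L
  have hq : q.comap (algebraMap R Rp) = RingHom.ker (algebraMap R D) := by
    ext a
    show algebraMap Rp L (algebraMap R Rp a) = 0 ↔ algebraMap R D a = 0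
    rw [← IsScalarTower.algebraMap_apply, IsScalarTower.algebraMap_apply R D L,
      map_eq_zero_iff _ (IsFractionRing.injective D L)]
  have hs : Function.Surjective (algebraMap R D) → Function.Surjective (algebraMap q.ResidueField L) := by
    intro hR z
    obtain ⟨a, b, -, rfl⟩ := IsFractionRing.div_surjective (A := D) z
    obtain ⟨a, rfl⟩ := hR a
    obtain ⟨b, rfl⟩ := hR b
    exact ⟨algebraMap R _ a / algebraMap R _ b, by
      rw [map_div₀, ← IsScalarTower.algebraMap_apply, ← IsScalarTower.algebraMap_apply,
        ← IsScalarTower.algebraMap_apply, ← IsScalarTower.algebraMap_apply]⟩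
  haveI := IsLocalization.tensorProduct_compatibleSMul p.primeCompl Rp L (EGA4.Cpl Rp)
  exact loc_of_ringEquiv good_reg
    ((Algebra.TensorProduct.cancelBaseChange Rp q.ResidueField q.ResidueField L (EGA4.Cpl Rp)).toRingEquiv.trans
      (Algebra.TensorProduct.equivOfCompatibleSMul R Rp R L (EGA4.Cpl Rp)).toRingEquiv) (h q L inferInstance hq hs)

theorem isGRing_of_maximal {R : Type u} [CommRing R] [IsNoetherianRing R]
    (h : ∀ (m : Ideal R) [m.IsMaximal],
      CAlg.IsRegularHom (Localization.AtPrime m) (EGA4.Cpl (Localization.AtPrime m))) : CAlg.IsGRing R := by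
  refine ⟨inferInstance, fun p _ => ?_⟩
  obtain ⟨m, hm, hpm⟩ := p.exists_le_maximal (Ideal.IsPrime.ne_top ‹_›)
  haveI := hm
  let Rm := Localization.AtPrime m
  let C := EGA4.Cpl Rm
  haveI : IsNoetherianRing C := Groth.Agent.S0543.result _ _
  haveI := NormalAscent.faithfullyFlat_cpl Rm
  haveI : Module.Flat R C := Module.Flat.trans R Rm C
  have h1 : GeomHom QReg R C := comp good_reg (geomHom_localization m.primeCompl Rm) (geomHom_reg_of_isRegularHom (h m))
  let p' := p.map (algebraMap R Rm)
  haveI : p'.IsPrime := Ideal.isPrime_map_of_isLocalizationAtPrime m hpm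
  have hp' : p'.comap (algebraMap R Rm) = p := Ideal.under_map_of_isLocalizationAtPrime m hpm
  obtain ⟨z, hz⟩ := PrimeSpectrum.comap_surjective_of_faithfullyFlat (A := Rm) (B := C) ⟨p', inferInstance⟩
  have hzp : z.asIdeal.comap (algebraMap R C) = p := by
    rw [IsScalarTower.algebraMap_eq R Rm C, ← Ideal.comap_comap,
      show z.asIdeal.comap (algebraMap Rm C) = p' from congrArg PrimeSpectrum.asIdeal hz, hp']
  haveI : IsNoetherianRing (EGA4.Cpl (Localization.AtPrime (z.asIdeal.comap (algebraMap R C)))) := Groth.Agent.S0543.result _ _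
  haveI := NormalAscent.faithfullyFlat_cpl (Localization.AtPrime (z.asIdeal.comap (algebraMap R C)))
  exact GRingFT.regularHom_congr hzp
    (isRegularHom_of_geomHom (ff_of_cover good_reg regImp_reg h1 (CompleteGRing.isGRing C) z.asIdeal))

theorem isGRing_iff_generic {R : Type u} [CommRing R] [IsNoetherianRing R] :
    CAlg.IsGRing R ↔ ∀ (q : Ideal R) [q.IsPrime] (P : Ideal (R ⧸ q)) [P.IsPrime],
        CAlg.IsGeometricallyRegular (⊥ : Ideal (Localization.AtPrime P)).ResidueField
          (EGA4.formalFibre (Localization.AtPrime P) (⊥ : Ideal (Localization.AtPrime P))) := by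
  constructor
  · intro h q _ P _
    exact (((GRingFT.isGRing_of_surjective (Ideal.Quotient.mk q) Ideal.Quotient.mk_surjective h).2 P).2 ⊥).2
  · intro h
    refine GRingPoly.isGRing_of_genFib R fun D _ _ _ _ L _ _ _ P _ => ?_
    let k := RingHom.ker (algebraMap R D)
    haveI : k.IsPrime := RingHom.ker_isPrime _
    letI : Algebra (R ⧸ k) D := (RingHom.kerLift (algebraMap R D)).toAlgebra
    haveI : IsScalarTower R (R ⧸ k) D := IsScalarTower.of_algebraMap_eq fun a => rfl
    haveI : Module.Finite (R ⧸ k) D := Module.Finite.of_restrictScalars_finite R _ _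
    refine loc_generic_point (R := R ⧸ k) L P fun q _ L' _ _ hL hq _ => ?_
    haveI := hL
    have hker : RingHom.ker (algebraMap (R ⧸ k) D) = ⊥ :=
      (RingHom.injective_iff_ker_eq_bot _).mp (RingHom.kerLift_injective _)
    rw [hker] at hq
    obtain rfl : q = ⊥ := by
      rw [← IsLocalization.map_under (P.comap (algebraMap (R ⧸ k) D)).primeCompl _ q,
        show q.under (R ⧸ k) = ⊥ from hq, Ideal.map_bot]
    haveI : IsNoetherianRing (EGA4.Cpl (Localization.AtPrime (P.comap (algebraMap (R ⧸ k) D)))) := Groth.Agent.S0543.result _ _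
    haveI := GeomLocal.isNoetherianRing_fibre (B := EGA4.Cpl (Localization.AtPrime (P.comap (algebraMap (R ⧸ k) D))))
      (⊥ : Ideal (Localization.AtPrime (P.comap (algebraMap (R ⧸ k) D)))) L'
    exact loc_reg_iff.mpr (h k (P.comap (algebraMap (R ⧸ k) D)) L' inferInstance)

/-- a finite algebra is a quotient of a finite free one -/
theorem exists_free_cover {R D : Type u} [CommRing R] [CommRing D] [Algebra R D] [Module.Finite R D] :
    ∃ (S : Type u) (_ : CommRing S) (_ : Algebra R S) (f : S →ₐ[R] D),
      Function.Surjective f ∧ Module.Finite R S ∧ Module.Free R S := by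
  classical
  obtain ⟨t, ht⟩ := (inferInstance : Module.Finite R D).fg_top
  suffices H : ∀ s : Finset D, ∃ (S : Type u) (_ : CommRing S) (_ : Algebra R S) (f : S →ₐ[R] D),
      (∀ d ∈ s, d ∈ f.range) ∧ Module.Finite R S ∧ Module.Free R S by
    obtain ⟨S, i1, i2, f, hf, h1, h2⟩ := H t
    refine ⟨S, i1, i2, f, fun d => ?_, h1, h2⟩
    have hd : d ∈ Submodule.span R (t : Set D) := ht ▸ Submodule.mem_top
    have hle : Submodule.span R (t : Set D) ≤ Subalgebra.toSubmodule f.range := Submodule.span_le.mpr hf
    exact hle hd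
  intro s
  induction s using Finset.induction with
  | empty => exact ⟨R, inferInstance, inferInstance, Algebra.ofId R D, by simp, inferInstance, inferInstance⟩
  | insert d s _ ih =>
    obtain ⟨S, i1, i2, f, hf, h1, h2⟩ := ih
    haveI := h1
    haveI := h2
    obtain ⟨g, hg, hgd⟩ := Algebra.IsIntegral.isIntegral (R := R) d
    have hm : (g.map (algebraMap R S)).Monic := hg.map _
    let S' := AdjoinRoot (g.map (algebraMap R S))
    let f' : S' →ₐ[R] D := AdjoinRoot.liftAlgHom _ f d (by
      rw [Polynomial.eval₂_map]
      rw [show (f : S →+* D).comp (algebraMap R S) = algebraMap R D from RingHom.ext fun r => f.commutes r]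
      exact hgd)
    haveI : Module.Free S S' := hm.free_adjoinRoot
    haveI : Module.Finite S S' := hm.finite_adjoinRoot
    refine ⟨S', inferInstance, inferInstance, f', fun x hx => ?_, Module.Finite.trans S S', Module.Free.trans (S := S)⟩
    rcases Finset.mem_insert.mp hx with rfl | hx
    · exact ⟨AdjoinRoot.root _, AdjoinRoot.liftAlgHom_root ..⟩
    · obtain ⟨y, rfl⟩ := hf x hx
      exact ⟨AdjoinRoot.of _ y, AdjoinRoot.liftAlgHom_of ..⟩

theorem isGRing_iff_free {R : Type u} [CommRing R] [IsNoetherianRing R] :
    CAlg.IsGRing R ↔ ∀ (S : Type u) [CommRing S] [Algebra R S] [Module.Finite R S] [Module.Free R S]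
        (q : Ideal S) [q.IsPrime] (p : Ideal (Localization.AtPrime q)) [p.IsPrime],
        IsRegularRing (EGA4.formalFibre (Localization.AtPrime q) p) := by
  constructor
  · intro h S _ _ _ _ q _ p _
    haveI : IsNoetherianRing S := IsNoetherianRing.of_finite R S
    haveI := ((GRingFT.isGRing_finiteType (A := R) (B := S) h).2 q).2 p |>.2 p.ResidueField inferInstance
    exact IsRegularRing.of_ringEquiv (R := p.ResidueField ⊗[p.ResidueField] p.Fiber (EGA4.Cpl (Localization.AtPrime q)))
      (Algebra.TensorProduct.lid p.ResidueField _).toRingEquiv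
  · intro h
    refine GRingPoly.isGRing_of_genFib R fun D _ _ _ _ L _ _ _ P _ => ?_
    obtain ⟨S, i1, i2, f, hf, h1, h2⟩ := exists_free_cover (R := R) (D := D)
    haveI := h1
    haveI := h2
    haveI : IsNoetherianRing S := IsNoetherianRing.of_finite R S
    letI : Algebra S D := f.toRingHom.toAlgebra
    haveI : Module.Finite S D := Module.Finite.of_surjective (Algebra.linearMap S D) hf
    refine loc_generic_point (R := S) L P fun q _ L' _ _ hL _ hs => ?_
    haveI := hL
    haveI := h S (P.comap (algebraMap S D)) q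
    haveI : IsNoetherianRing (EGA4.Cpl (Localization.AtPrime (P.comap (algebraMap S D)))) := Groth.Agent.S0543.result _ _
    haveI := GeomLocal.isNoetherianRing_fibre (B := EGA4.Cpl (Localization.AtPrime (P.comap (algebraMap S D)))) q L'
    let e : q.ResidueField ≃ₐ[q.ResidueField] L' :=
      AlgEquiv.ofBijective (Algebra.ofId q.ResidueField L') ⟨(algebraMap q.ResidueField L').injective, hs hf⟩
    refine loc_reg_iff.mpr ?_
    exact IsRegularRing.of_ringEquiv (R := EGA4.formalFibre (Localization.AtPrime (P.comap (algebraMap S D))) q)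
      ((Algebra.TensorProduct.lid q.ResidueField _).symm.trans
        (Algebra.TensorProduct.congr e AlgEquiv.refl)).toRingEquiv

theorem ff_cm_iff {A : Type u} [CommRing A] [IsLocalRing A] [IsNoetherianRing A] :
    EGA4.HasCMFormalFibres A ↔ FF QCM A := by
  haveI : IsNoetherianRing (EGA4.Cpl A) := Groth.Agent.S0543.result _ _
  refine forall_congr' fun p => forall_congr' fun _ => ⟨fun h K _ _ hK => ?_, fun h => ?_⟩
  · haveI := hK
    haveI := GeomLocal.isNoetherianRing_fiber (B := EGA4.Cpl A) p
    exact GeomLocal.cm_baseChange_field _ K (loc_cm_iff.mpr h)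
  · haveI : IsNoetherianRing (p.Fiber (EGA4.Cpl A)) := GeomLocal.isNoetherianRing_fiber p
    haveI := GeomLocal.isNoetherianRing_fibre (B := EGA4.Cpl A) p p.ResidueField
    exact loc_cm_iff.mp (loc_of_ringEquiv good_cm (Algebra.TensorProduct.lid p.ResidueField _).toRingEquiv
      (h p.ResidueField inferInstance))

theorem ff_red_iff {A : Type u} [CommRing A] [IsLocalRing A] :
    EGA4.HasGeomReducedFormalFibres A ↔ FF QRed A := by
  refine forall_congr' fun p => forall_congr' fun _ => ⟨fun h K _ _ hK => ?_, fun h => ?_⟩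
  · haveI := hK
    haveI := h
    exact loc_red_iff.mpr inferInstance
  · exact GeomLocal.isGeometricallyReduced_of_finite _ fun K _ _ hK => loc_red_iff.mp (h K hK)

theorem ff_nor_iff {A : Type u} [CommRing A] [IsLocalRing A] :
    EGA4.HasGeomNormalFormalFibres A ↔ FF QNor A := Iff.rfl

end Groth.L06.GRingCrit
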