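import Groth.Agent.L07.DimFormulaApps
import Groth.Agent.L07.DimToolkit
import Groth.Agent.L07.OpenFibreDim
import Groth.Agent.L19.DimTrdeg
import Groth.Agent.L15.CohFlat
import Groth.Agent.L22.SchemeDim
import Groth.Agent.L06.Dim
import Groth.Agent.L07.DimZeroLocus
import Mathlib.AlgebraicGeometry.Morphisms.FiniteType

/-! Dimension of a scheme dominant over an irreducible base, and nowhere dense closed subsets. -/

set_option autoImplicit false
set_option maxSynthPendingDepth 3
set_option backward.isDefEq.respectTransparency.types false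
set_option backward.isDefEq.respectTransparency false
set_option linter.style.haveILetI false
universe u

open CategoryTheory AlgebraicGeometry TopologicalSpace Topology

namespace Groth.L06.GenericFibreDim

open Groth.L07.DimToolkit Groth.L07.Equidim Groth.L22

variable {X Y : Scheme.{u}}

theorem exists_fdim_zero (f : X ⟶ Y) [LocallyOfFiniteType f] {y : Y} (hy : y ∈ Set.range f.base) :
    ∃ x, f x = y ∧ fdim f x = 0 := by
  obtain ⟨x₀, rfl⟩ := hy
  let y := f x₀
  haveI : LocallyOfFiniteType (f.fiberToSpecResidueField y) := MorphismProperty.pullback_snd _ _ inferInstance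
  haveI : JacobsonSpace (f.fiber y) := LocallyOfFiniteType.jacobsonSpace (f.fiberToSpecResidueField y)
  obtain ⟨c, -, hc⟩ := nonempty_inter_closedPoints (Z := (Set.univ : Set (f.fiber y)))
    ⟨f.asFiber x₀, trivial⟩ isOpen_univ.isLocallyClosed
  have hfc : f (f.fiberι y c) = y := apply_fiberι f y c
  refine ⟨f.fiberι y c, hfc, ?_⟩
  have hS : closure ({f.fiberι y c} : Set X) ∩ f.base ⁻¹' {f.base (f.fiberι y c)} = {f.fiberι y c} := by
    refine Set.eq_singleton_iff_unique_mem.mpr ⟨⟨subset_closure rfl, rfl⟩, fun z ⟨hz1, hz2⟩ => ?_⟩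
    obtain ⟨d, rfl⟩ : z ∈ Set.range (f.fiberι y) := by rw [f.range_fiberι]; exact (Set.mem_singleton_iff.mp hz2).trans hfc
    have h1 : c ⤳ d := (f.fiberι y).isEmbedding.isInducing.specializes_iff.mp (specializes_iff_mem_closure.mpr hz1)
    have h2 : d ∈ closure ({c} : Set (f.fiber y)) := specializes_iff_mem_closure.mp h1
    rw [(show IsClosed ({c} : Set (f.fiber y)) from hc).closure_eq, Set.mem_singleton_iff] at h2
    rw [h2]
  unfold fdim
  rw [hS]
  exact le_antisymm (topologicalKrullDim_zero_of_discreteTopology ({f.fiberι y c} : Set X))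
    (@Groth.L06.Dim.nonneg _ _ ⟨⟨_, Set.mem_singleton _⟩⟩)

/-- the dimension formula at a point, relative to the generic points -/
theorem formula_generic [IrreducibleSpace X] [IrreducibleSpace Y] [IsLocallyNoetherian Y] (f : X ⟶ Y)
    [LocallyOfFiniteType f] [IsDominant f] (x : X) :
    ∃ A B n e : ℕ, ringKrullDim (X.presheaf.stalk x) = (A : WithBot ℕ∞) ∧
      ringKrullDim (Y.presheaf.stalk (f x)) = (B : WithBot ℕ∞) ∧ fdim f x = (n : WithBot ℕ∞) ∧
      topologicalKrullDim ↥(f.fiber (genericPoint Y)) = (e : WithBot ℕ∞) ∧ A + n ≤ B + e ∧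
      (CAlg.IsUniversallyCatenary (Y.presheaf.stalk (f x)) → A + n = B + e) := by
  haveI : IsLocallyNoetherian X := LocallyOfFiniteType.isLocallyNoetherian f
  have hξ : genericPoint X ⤳ x := (genericPoint_spec X).specializes trivial
  obtain ⟨hη, hfib⟩ := generic_data f
  obtain ⟨A, B, n, N, hA, hB, hn, hN, hle, heq⟩ := formula f hξ
  refine ⟨A, B, n, N, ?_, ?_, hn, hfib.symm.trans hN, hle, heq⟩
  · rw [← dim_locQuot_genericPoint x hξ, hA]
  · rw [← hB, dim_locQuot_congr' hη (hξ.map f.continuous) ((genericPoint_spec Y).specializes trivial)]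
    exact (dim_locQuot_genericPoint (f x) _).symm

theorem exists_nat_generic [IrreducibleSpace X] [IrreducibleSpace Y] (f : X ⟶ Y) [LocallyOfFiniteType f] [IsDominant f] :
    ∃ e : ℕ, topologicalKrullDim ↥(f.fiber (genericPoint Y)) = (e : WithBot ℕ∞) := by
  obtain ⟨n, hn, -⟩ := exists_fdim_rtrdeg f (genericPoint X)
  exact ⟨n, (generic_data f).2.symm.trans hn⟩

theorem dim_le [IrreducibleSpace X] [IrreducibleSpace Y] [IsLocallyNoetherian Y] (f : X ⟶ Y)
    [LocallyOfFiniteType f] [IsDominant f] :
    topologicalKrullDim X ≤ topologicalKrullDim Y + topologicalKrullDim ↥(f.fiber (genericPoint Y)) := by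
  refine Groth.L19.DimTrdeg.dim_le_of_stalks fun x => ?_
  obtain ⟨A, B, n, e, hA, hB, -, he, hle, -⟩ := formula_generic f x
  rw [hA, he]
  calc (A : WithBot ℕ∞) ≤ ((B + e : ℕ) : WithBot ℕ∞) := by exact_mod_cast (show A ≤ B + e by omega)
    _ = (B : WithBot ℕ∞) + e := by push_cast; rfl
    _ ≤ _ := by gcongr; rw [← hB]; exact Groth.L15.CohFlat.ringKrullDim_stalk_le _

theorem dim_eq_sup [IrreducibleSpace X] [IrreducibleSpace Y] [IsLocallyNoetherian Y] (f : X ⟶ Y)
    [LocallyOfFiniteType f] [IsDominant f] (hY : ∀ y : Y, CAlg.IsUniversallyCatenary (Y.presheaf.stalk y)) :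
    topologicalKrullDim X = (⨆ y ∈ Set.range f.base, ringKrullDim (Y.presheaf.stalk y)) +
      topologicalKrullDim ↥(f.fiber (genericPoint Y)) := by
  obtain ⟨e, he⟩ := exists_nat_generic f
  rw [he]
  refine le_antisymm (Groth.L19.DimTrdeg.dim_le_of_stalks fun x => ?_) ?_
  · obtain ⟨A, B, n, e', hA, hB, -, he', hle, -⟩ := formula_generic f x
    obtain rfl : e' = e := by exact_mod_cast he'.symm.trans he
    rw [hA]
    calc (A : WithBot ℕ∞) ≤ ((B + e' : ℕ) : WithBot ℕ∞) := by exact_mod_cast (show A ≤ B + e' by omega)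
      _ = (B : WithBot ℕ∞) + e' := by push_cast; rfl
      _ ≤ _ := by
        gcongr
        rw [← hB]
        exact le_iSup₂_of_le (f x) ⟨x, rfl⟩ le_rfl
  · have key : ∀ y ∈ Set.range f.base, ∀ B : ℕ, ringKrullDim (Y.presheaf.stalk y) = (B : WithBot ℕ∞) →
        ((B + e : ℕ) : WithBot ℕ∞) ≤ topologicalKrullDim X := by
      intro y hy B hB
      obtain ⟨x, hx, hfd⟩ := exists_fdim_zero f hy
      obtain ⟨A, B', n, e', hA, hB', hn, he', -, heq⟩ := formula_generic f x
      subst hx
      obtain rfl : e' = e := by exact_mod_cast he'.symm.trans he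
      obtain rfl : B = B' := by exact_mod_cast hB.symm.trans hB'
      obtain rfl : n = 0 := by exact_mod_cast hn.symm.trans hfd
      rw [← heq (hY _), add_zero, ← hA]
      exact Groth.L15.CohFlat.ringKrullDim_stalk_le _
    have hx0 : f (genericPoint X) ∈ Set.range f.base := ⟨_, rfl⟩
    refine Groth.L19.DimTrdeg.add_le_of_forall e ?_ fun m hm => ?_
    · obtain ⟨B, hB⟩ := exists_nat_dim_stalk (f (genericPoint X))
      intro hbot
      have h := le_iSup₂ (f := fun y (_ : y ∈ Set.range f.base) => ringKrullDim (Y.presheaf.stalk y)) _ hx0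
      rw [hbot, le_bot_iff, hB] at h
      exact WithBot.natCast_ne_bot B h
    · rcases Nat.eq_zero_or_pos m with rfl | hm0
      · obtain ⟨B, hB⟩ := exists_nat_dim_stalk (f (genericPoint X))
        exact le_trans (by exact_mod_cast (show 0 + e ≤ B + e by omega)) (key _ hx0 B hB)
      · have hlt : ((m - 1 : ℕ) : WithBot ℕ∞) < ⨆ y ∈ Set.range f.base, ringKrullDim (Y.presheaf.stalk y) :=
          lt_of_lt_of_le (by exact_mod_cast Nat.sub_lt hm0 Nat.one_pos) hm
        obtain ⟨y, hlt⟩ := lt_iSup_iff.mp hlt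
        obtain ⟨hy, hlt⟩ := lt_iSup_iff.mp hlt
        obtain ⟨B, hB⟩ := exists_nat_dim_stalk y
        rw [hB] at hlt
        have hlt' : m - 1 < B := by exact_mod_cast hlt
        exact le_trans (by exact_mod_cast (show m + e ≤ B + e by omega)) (key y hy B hB)

theorem iSup_stalks : (⨆ y : Y, ringKrullDim (Y.presheaf.stalk y)) = topologicalKrullDim Y :=
  le_antisymm (iSup_le fun y => Groth.L15.CohFlat.ringKrullDim_stalk_le y)
    (Groth.L19.DimTrdeg.dim_le_of_stalks fun y => le_iSup (fun y => ringKrullDim (Y.presheaf.stalk y)) y)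

theorem add_natCast_inj {a b : WithBot ℕ∞} {e : ℕ} (h : a + (e : WithBot ℕ∞) = b + (e : WithBot ℕ∞)) : a = b := by
  induction a using WithBot.recBotCoe with
  | bot =>
    induction b using WithBot.recBotCoe with
    | bot => rfl
    | coe b => rw [WithBot.bot_add] at h; exact absurd h.symm WithBot.coe_ne_bot
  | coe a =>
    induction b using WithBot.recBotCoe with
    | bot => rw [WithBot.bot_add] at h; exact absurd h WithBot.coe_ne_bot
    | coe b =>
      rw [← WithBot.coe_natCast, ← WithBot.coe_add, ← WithBot.coe_add, WithBot.coe_inj] at h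
      rw [(ENat.add_left_injective_of_ne_top (ENat.natCast_ne_top e)) h]

theorem irreducibleSpace_of_surjective [IrreducibleSpace X] (f : X ⟶ Y) (hs : Function.Surjective f.base) :
    IrreducibleSpace Y := by
  have h := IsIrreducible.image (IrreducibleSpace.isIrreducible_univ X) f.base f.continuous.continuousOn
  rw [Set.image_univ, hs.range_eq] at h
  haveI : PreirreducibleSpace Y := ⟨h.2⟩
  haveI : Nonempty Y := ⟨f (genericPoint X)⟩
  exact ⟨inferInstance⟩

/-- over a one-dimensional base the components of the fibres have the generic dimension -/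
theorem component_dim [IrreducibleSpace X] [IrreducibleSpace Y] [IsLocallyNoetherian Y] (f : X ⟶ Y)
    [LocallyOfFiniteType f] [IsDominant f] (hY : topologicalKrullDim Y ≤ 1) (z : X)
    (hmax : ∀ z', f z' = f z → z' ⤳ z → z' = z) :
    fdim f z = topologicalKrullDim ↥(f.fiber (genericPoint Y)) := by
  haveI : IsLocallyNoetherian X := LocallyOfFiniteType.isLocallyNoetherian f
  by_cases hgen : z = genericPoint X
  · rw [hgen]; exact (generic_data f).2
  refine le_antisymm ?_ ?_
  · obtain ⟨A, B, n, e, hA, hB, hn, he, hle, -⟩ := formula_generic f z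
    rw [hn, he]
    have hA1 : 1 ≤ A := by
      have hlt : (0 : WithBot ℕ∞) < ringKrullDim (X.presheaf.stalk z) := by
        obtain ⟨P, hP⟩ := exists_prime z (genericPoint X) ((genericPoint_spec X).specializes trivial)
        refine Order.krullDim_pos_iff.mpr ⟨P, IsLocalRing.closedPoint _, lt_of_le_of_ne ?_ fun h => ?_⟩
        · exact IsLocalRing.le_maximalIdeal P.2.ne_top
        · apply hgen
          rw [← hP, h, Scheme.fromSpecStalk_closedPoint]
      rw [hA] at hlt
      exact_mod_cast hlt
    have hB1 : B ≤ 1 := by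
      exact_mod_cast hB ▸ (Groth.L15.CohFlat.ringKrullDim_stalk_le (f z)).trans hY
    exact_mod_cast (show n ≤ e by omega)
  · rw [Groth.L07.OpenFibreDim.fdim_eq_fibreDimAt f z hmax, ← (generic_data f).2]
    exact fdim_le_fibreDimAt_of_specializes f ((genericPoint_spec X).specializes trivial)

/-- a nowhere dense closed subset has smaller dimension -/
theorem dim_add_one_le {T : Type*} [TopologicalSpace T] [QuasiSober T] (hfin : ∀ x : T, ∃ U : Set T, IsOpen U ∧ x ∈ U ∧
      {C ∈ irreducibleComponents T | (C ∩ U).Nonempty}.Finite)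
    {S : Set T} (hS : IsClosed S) (hint : interior S = ∅) :
    topologicalKrullDim S + 1 ≤ topologicalKrullDim T := by
  rcases isEmpty_or_nonempty S with he | hne
  · rw [Groth.L06.Dim.eq_bot, WithBot.bot_add]; exact bot_le
  refine Groth.L19.DimTrdeg.add_le_of_forall 1 (fun h => ?_) fun m hm => ?_
  · have := Groth.L06.Dim.nonneg (X := S)
    rw [h] at this
    exact absurd (le_bot_iff.mp this) (by exact WithBot.natCast_ne_bot 0)
  obtain ⟨p, hp⟩ := Order.le_krullDim_iff.mp hm
  let g : IrreducibleCloseds S → IrreducibleCloseds T := IrreducibleCloseds.map Subtype.val continuous_subtype_val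
  have hg : StrictMono g := IrreducibleCloseds.map_strictMono_of_isInducing IsInducing.subtypeVal
  let q : LTSeries (IrreducibleCloseds T) := p.map g hg
  have hlast : (q.last : Set T) ⊆ S := by
    show closure (Subtype.val '' (p.last : Set S)) ⊆ S
    exact closure_minimal (Subtype.coe_image_subset S _) hS
  obtain ⟨C, hC, hle⟩ := exists_mem_irreducibleComponents_subset_of_isIrreducible (q.last : Set T) q.last.isIrreducible
  have hne' : (q.last : Set T) ≠ C := by
    intro heq
    obtain ⟨x, hx⟩ := hC.1.nonempty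
    obtain ⟨U, hU, hxU, hUfin⟩ := hfin x
    -- `U` minus the other components lies in `S`
    have hclosed : IsClosed (⋃ D ∈ {D ∈ irreducibleComponents T | (D ∩ U).Nonempty} \ {C}, D) :=
      (hUfin.sdiff).isClosed_biUnion fun D hD => isClosed_of_mem_irreducibleComponents D hD.1.1
    have hVne : (U \ ⋃ D ∈ {D ∈ irreducibleComponents T | (D ∩ U).Nonempty} \ {C}, D).Nonempty := by
      by_contra h
      rw [Set.not_nonempty_iff_eq_empty, Set.sdiff_eq_empty] at h
      have hg := hC.1.isGenericPoint_genericPoint_closure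
      rw [(isClosed_of_mem_irreducibleComponents C hC).closure_eq] at hg
      have hgU : hC.1.genericPoint ∈ U := (hg.specializes hx).mem_open hU hxU
      obtain ⟨D, hD, hgD⟩ := Set.mem_iUnion₂.mp (h hgU)
      refine hD.2 (Set.mem_singleton_iff.mpr (hC.eq_of_subset hD.1.1.1 ?_).symm)
      rw [← hg.def]
      exact closure_minimal (Set.singleton_subset_iff.mpr hgD) (isClosed_of_mem_irreducibleComponents D hD.1.1)
    have hsub : (U \ ⋃ D ∈ {D ∈ irreducibleComponents T | (D ∩ U).Nonempty} \ {C}, D) ⊆ S := by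
      rintro y ⟨hyU, hy⟩
      refine hlast (heq ▸ ?_)
      by_contra hyC
      exact hy (Set.mem_iUnion₂.mpr ⟨irreducibleComponent y,
        ⟨⟨irreducibleComponent_mem_irreducibleComponents y, y, mem_irreducibleComponent, hyU⟩,
          fun h => hyC (Set.mem_singleton_iff.mp h ▸ mem_irreducibleComponent)⟩, mem_irreducibleComponent⟩)
    obtain ⟨y, hy⟩ := hVne
    exact Set.notMem_empty y (hint ▸ interior_maximal hsub (hU.sdiff hclosed) hy)
  let Cc : IrreducibleCloseds T := ⟨C, hC.1, isClosed_of_mem_irreducibleComponents C hC⟩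
  have hlt : q.last < Cc := lt_of_le_of_ne hle fun h => hne' (congrArg IrreducibleCloseds.carrier h)
  have := Order.LTSeries.length_le_krullDim (q.snoc Cc hlt)
  rw [RelSeries.snoc_length] at this
  rw [show m = q.length from hp.symm]
  exact this

end Groth.L06.GenericFibreDim

namespace Groth.L06.GenericFibreDim

open Groth.L22

variable {X Y : Scheme.{u}}

theorem finite_components_nhd [IsLocallyNoetherian X] (x : X) :
    ∃ U : Set X, IsOpen U ∧ x ∈ U ∧ {C ∈ irreducibleComponents (X : Type u) | (C ∩ U).Nonempty}.Finite := by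
  obtain ⟨_, ⟨U, hU, rfl⟩, hxU, -⟩ := X.isBasis_affineOpens.exists_subset_of_mem_open (Set.mem_univ x) isOpen_univ
  haveI : IsNoetherianRing Γ(X, U) := IsLocallyNoetherian.component_noetherian ⟨U, hU⟩
  haveI : NoetherianSpace (U : Set X) := noetherianSpace_of_isAffineOpen U hU
  refine ⟨U, U.2, hxU, Set.Finite.subset
    ((NoetherianSpace.finite_irreducibleComponents (α := (U : Set X))).image fun K => closure (Subtype.val '' K)) ?_⟩
  rintro C ⟨hC, z, hzC, hzU⟩
  have hCc := isClosed_of_mem_irreducibleComponents C hC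
  have hg : IsGenericPoint hC.1.genericPoint C := hC.1.isGenericPoint_genericPoint hCc
  have hgU : hC.1.genericPoint ∈ (U : Set X) := (hg.specializes hzC).mem_open U.2 hzU
  let g : (U : Set X) := ⟨_, hgU⟩
  refine ⟨irreducibleComponent g, irreducibleComponent_mem_irreducibleComponents g, ?_⟩
  refine (hC.eq_of_subset ((isIrreducible_irreducibleComponent.image _ continuous_subtype_val.continuousOn).closure) ?_).symm
  rw [← hg.def]
  exact closure_mono (Set.singleton_subset_iff.mpr ⟨g, mem_irreducibleComponent, rfl⟩)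

/-- in a variety a non-empty zero locus has codimension at most one -/
theorem dim_le_zeroLocus_add_one (k : Type u) [Field k] (p : X ⟶ Spec (CommRingCat.of k)) [LocallyOfFiniteType p]
    [IrreducibleSpace X] (f : Γ(X, ⊤)) (hne : (X.zeroLocus (U := ⊤) {f}).Nonempty) :
    topologicalKrullDim X ≤ topologicalKrullDim (X.zeroLocus (U := ⊤) {f}) + 1 := by
  letI : X.Over (Spec (CommRingCat.of k)) := ⟨p⟩
  haveI : LocallyOfFiniteType (X ↘ Spec (CommRingCat.of k)) := ‹LocallyOfFiniteType p›
  haveI : IsLocallyNoetherian X := LocallyOfFiniteType.isLocallyNoetherian p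
  let Z := X.zeroLocus (U := ⊤) {f}
  have hZc : IsClosed Z := X.zeroLocus_isClosed _
  obtain ⟨x₀, hx₀⟩ := hne
  -- a maximal point of the zero locus
  let C : Set Z := irreducibleComponent (⟨x₀, hx₀⟩ : Z)
  have hCc : IsClosed (Subtype.val '' C) := hZc.isClosedMap_subtype_val _ isClosed_irreducibleComponent
  have hCi : IsIrreducible (Subtype.val '' C) := isIrreducible_irreducibleComponent.image _ continuous_subtype_val.continuousOn
  have hg := hCi.isGenericPoint_genericPoint hCc
  let w := hCi.genericPoint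
  have hwC : w ∈ Subtype.val '' C := hg.mem
  have hwZ : w ∈ Z := Subtype.coe_image_subset _ _ hwC
  have hmax : ∀ q, q ∈ Z → q ⤳ w → q = w := by
    intro q hq hqw
    have hsub : Subtype.val '' C ⊆ closure {q} := by
      rw [← hg.def]; exact hqw.closure_subset
    have hclq : closure ({q} : Set X) ⊆ Z := closure_minimal (Set.singleton_subset_iff.mpr hq) hZc
    have hirr : IsIrreducible ((Subtype.val : Z → X) ⁻¹' closure {q}) := by
      have : ((Subtype.val : Z → X) ⁻¹' closure {q}) = closure ({⟨q, hq⟩} : Set Z) := by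
        rw [IsInducing.subtypeVal.closure_eq_preimage_closure_image, Set.image_singleton]
      rw [this]; exact isIrreducible_singleton.closure
    have heq := (irreducibleComponent_mem_irreducibleComponents (⟨x₀, hx₀⟩ : Z)).eq_of_subset hirr
      fun c hc => hsub ⟨c, hc, rfl⟩
    refine (Specializes.antisymm hqw ?_).eq
    exact hg.specializes ⟨⟨q, hq⟩, heq.symm.subset (subset_closure rfl), rfl⟩
  have h1 := Groth.L07.DimToolkit.dim_le_one_of_maximal_zeroLocus f w hwZ hmax
  obtain ⟨a, b, ha, hb, hloc⟩ := SchemeDim.exists_localDim k X w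
  obtain ⟨n, hn, htr⟩ := SchemeDim.exists_dim_closure_eq_trdeg k X w
  obtain ⟨d, hd, -, hdU⟩ := SchemeDim.exists_dim_eq_trdeg k X
  obtain rfl : a = n := by exact_mod_cast ha.symm.trans htr
  have hd' : d = a + b := by
    have : FlatMor.localDim X w = (d : WithBot ℕ∞) := by
      haveI : Nonempty {U : TopologicalSpace.Opens X // w ∈ U} := ⟨⟨⊤, trivial⟩⟩
      unfold FlatMor.localDim
      exact (iInf_congr fun U : {U : TopologicalSpace.Opens X // w ∈ U} => hdU U.1 ⟨w, U.2⟩).trans iInf_const
    exact_mod_cast this.symm.trans hloc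
  rw [hd]
  have hb1 : b ≤ 1 := by exact_mod_cast hb.symm.le.trans h1
  calc (d : WithBot ℕ∞) ≤ ((a + 1 : ℕ) : WithBot ℕ∞) := by exact_mod_cast (show d ≤ a + 1 by omega)
    _ = (a : WithBot ℕ∞) + 1 := by push_cast; rfl
    _ ≤ _ := by
      gcongr
      rw [← hn]
      exact SchemeDim.topologicalKrullDim_mono (closure_minimal (Set.singleton_subset_iff.mpr hwZ) hZc)

end Groth.L06.GenericFibreDim
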