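import Groth.Agent.L06.NormalTensorField
import Groth.Agent.L03.GeomRegular
import Groth.Agent.L03.GeomReduced2

/-! Consequences of normal base change. -/

set_option autoImplicit false
set_option maxSynthPendingDepth 3
set_option linter.style.haveILetI false
set_option linter.unusedSectionVars false
noncomputable section
universe u
open TensorProduct

namespace Groth.L06.NormalTensor

theorem normalRing_of_domain {R : Type u} [CommRing R] [IsDomain R] [IsIntegrallyClosed R] : EGA4.IsNormalRing R := by
  intro p _
  have h1 : (p.primeCompl : Submonoid R) ≤ nonZeroDivisors R :=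
    le_nonZeroDivisors_of_noZeroDivisors (not_not_intro p.zero_mem)
  exact ⟨IsLocalization.isDomain_localization h1, isIntegrallyClosed_of_isLocalization (Localization.AtPrime p) p.primeCompl h1⟩

theorem isReduced_of_field_tensor {R : Type u} [CommRing R] [IsNoetherianRing R] (A' : Type u) [CommRing A'] [Algebra R A']
    [Module.Flat R A'] (hred : ∀ (κ : Type u) [Field κ] [Algebra R κ], IsReduced (A' ⊗[R] κ))
    (B : Type u) [CommRing B] [Algebra R B] [IsReduced B] : IsReduced (A' ⊗[R] B) := by
  classical
  refine ⟨fun x ⟨N, hN⟩ => ?_⟩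
  obtain ⟨M, hM, hs⟩ := TensorProduct.exists_finite_submodule_right_of_setFinite ({x} : Set (A' ⊗[R] B)) (Set.finite_singleton x)
  obtain ⟨t, ht⟩ := Module.Finite.iff_fg.mp hM
  let C : Subalgebra R B := Algebra.adjoin R (t : Set B)
  haveI : Algebra.FiniteType R C := ⟨(Subalgebra.fg_top C).mpr (Subalgebra.fg_adjoin_finset _)⟩
  haveI : IsNoetherianRing C := Algebra.FiniteType.isNoetherianRing R C
  haveI : IsReduced C := isReduced_of_injective C.val Subtype.val_injective
  let g := Algebra.TensorProduct.map (AlgHom.id R A') C.val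
  have hg : Function.Injective g :=
    Module.Flat.lTensor_preserves_injective_linearMap (M := A') C.val.toLinearMap Subtype.val_injective
  obtain ⟨w, hw⟩ := hs rfl
  have hMC : M ≤ Subalgebra.toSubmodule C := ht ▸ Submodule.span_le.mpr Algebra.subset_adjoin
  obtain ⟨z, rfl⟩ : ∃ z, g z = x := ⟨(Submodule.inclusion hMC).lTensor A' w, by
    rw [← hw]
    show C.val.toLinearMap.lTensor A' ((Submodule.inclusion hMC).lTensor A' w) = _
    rw [← LinearMap.comp_apply, ← LinearMap.lTensor_comp]; rfl⟩
  suffices z = 0 by rw [this, map_zero]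
  let ι := { q : Ideal C // q ∈ minimalPrimes C }
  haveI : Fintype ι := (minimalPrimes.finite_of_isNoetherianRing C).fintype
  haveI : ∀ q : ι, q.1.IsPrime := fun q => q.2.1.1
  haveI : ∀ q : ι, IsDomain (C ⧸ q.1) := fun q => Ideal.Quotient.isDomain q.1
  let K : ι → Type u := fun q => FractionRing (C ⧸ q.1)
  let π : ∀ q : ι, C →ₐ[R] K q := fun q =>
    (IsScalarTower.toAlgHom R (C ⧸ q.1) (K q)).comp (Ideal.Quotient.mkₐ R q.1)
  let Pm : C →ₗ[R] ((q : ι) → K q) := LinearMap.pi fun q => (π q).toLinearMap
  have hπ : Function.Injective Pm := by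
    rw [injective_iff_map_eq_zero]
    intro c hc
    refine IsNilpotent.eq_zero (mem_nilradical.mp ?_)
    rw [nilradical, ← Ideal.sInf_minimalPrimes, Submodule.mem_sInf]
    intro p hp
    haveI : Ideal.IsPrime p := hp.1.1
    exact Ideal.Quotient.eq_zero_iff_mem.mp (IsFractionRing.injective (C ⧸ p) (FractionRing (C ⧸ p))
      ((congrFun hc ⟨p, hp⟩).trans (map_zero _).symm))
  refine Module.Flat.lTensor_preserves_injective_linearMap (M := A') Pm hπ ?_
  rw [map_zero]
  refine (TensorProduct.piRight R R A' K).injective ?_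
  rw [map_zero]
  funext q
  let φ := Algebra.TensorProduct.map (AlgHom.id R A') (π q)
  have h1 : ∀ y : A' ⊗[R] C, TensorProduct.piRight R R A' K (Pm.lTensor A' y) q = φ y := fun y => by
    induction y using TensorProduct.induction_on with
    | zero => simp
    | add a b ha hb => rw [map_add, map_add, map_add, Pi.add_apply, ha, hb]
    | tmul a c => rw [LinearMap.lTensor_tmul, TensorProduct.piRight_apply, TensorProduct.piRightHom_tmul, Algebra.TensorProduct.map_tmul]; rfl
  rw [h1]
  haveI := hred (K q)
  refine IsNilpotent.eq_zero ⟨N, ?_⟩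
  rw [← map_pow, hg ((map_pow g z N).trans (hN.trans (map_zero g).symm)), map_zero]

variable {A A' : Type u} [CommRing A] [CommRing A'] [IsNoetherianRing A] [IsNoetherianRing A'] [Algebra A A']

theorem isNormalHom_baseChange (h : EGA4.IsNormalHom A A') (R : Type u) [CommRing R] [Algebra A R] :
    EGA4.IsNormalHom R (R ⊗[A] A') := by
  haveI := h.1
  refine ⟨inferInstance, fun p _ L _ _ _ => ?_⟩
  letI : Algebra R L := ((algebraMap p.ResidueField L).comp (algebraMap R p.ResidueField)).toAlgebra
  haveI : IsScalarTower R p.ResidueField L := IsScalarTower.of_algebraMap_eq fun _ => rfl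
  letI : Algebra A L := ((algebraMap R L).comp (algebraMap A R)).toAlgebra
  haveI : IsScalarTower A R L := IsScalarTower.of_algebraMap_eq fun _ => rfl
  exact Groth.L06.NormalAscent.isNormalRing_of_ringEquiv
    (((Algebra.TensorProduct.comm A A' L).toRingEquiv.trans
      (Algebra.TensorProduct.cancelBaseChange A R L L A').symm.toRingEquiv).trans
      (Algebra.TensorProduct.cancelBaseChange R p.ResidueField L L (R ⊗[A] A')).symm.toRingEquiv)
    (normal_fibre_tensor h L).1

theorem isNormalHom_descend (R : Type u) [CommRing R] [Algebra A R] [Module.FaithfullyFlat A R]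
    [IsNoetherianRing R] [IsNoetherianRing (R ⊗[A] A')]
    (h : EGA4.IsNormalHom R (R ⊗[A] A')) : EGA4.IsNormalHom A A' := by
  haveI := h.1
  refine ⟨Module.Flat.of_flat_tensorProduct A A' R, fun p _ L _ _ _ => ?_⟩
  letI : Algebra A L := ((algebraMap p.ResidueField L).comp (algebraMap A p.ResidueField)).toAlgebra
  haveI : IsScalarTower A p.ResidueField L := IsScalarTower.of_algebraMap_eq fun _ => rfl
  haveI : Nontrivial (L ⊗[A] R) := inferInstance
  obtain ⟨m, hm⟩ := Ideal.exists_maximal (L ⊗[A] R)
  let M := (L ⊗[A] R) ⧸ m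
  letI : Field M := Ideal.Quotient.field m
  letI : Algebra R M := ((Ideal.Quotient.mk m).comp (Algebra.TensorProduct.includeRight : R →ₐ[A] L ⊗[A] R).toRingHom).toAlgebra
  haveI : IsScalarTower A R M := IsScalarTower.of_algebraMap_eq fun a => by
    show algebraMap A M a = Ideal.Quotient.mk m ((Algebra.TensorProduct.includeRight : R →ₐ[A] L ⊗[A] R) (algebraMap A R a))
    rw [AlgHom.commutes]; rfl
  have h1 : EGA4.IsNormalRing ((R ⊗[A] A') ⊗[R] M) := (normal_fibre_tensor h M).1
  have h2 : EGA4.IsNormalRing (M ⊗[A] A') := Groth.L06.NormalAscent.isNormalRing_of_ringEquiv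
    ((Algebra.TensorProduct.comm R (R ⊗[A] A') M).toRingEquiv.trans
      (Algebra.TensorProduct.cancelBaseChange A R M M A').toRingEquiv) h1
  have h3 : EGA4.IsNormalRing ((L ⊗[A] A') ⊗[L] M) := Groth.L06.NormalAscent.isNormalRing_of_ringEquiv
    (((Algebra.TensorProduct.comm L (L ⊗[A] A') M).toRingEquiv.trans
      (Algebra.TensorProduct.cancelBaseChange A L M M A').toRingEquiv)).symm h2
  haveI : Module.FaithfullyFlat L M := inferInstance
  have h4 : EGA4.IsNormalRing (L ⊗[A] A') := Groth.L06.NormalAscent.isNormalRing_of_faithfullyFlat h3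
  exact Groth.L06.NormalAscent.isNormalRing_of_ringEquiv
    (Algebra.TensorProduct.cancelBaseChange A p.ResidueField L L A').symm.toRingEquiv h4

theorem isGeomNormal_of_separable {k k' A : Type u} [Field k] [Field k'] [Algebra k k'] [Algebra.IsSeparable k k']
    [CommRing A] [Algebra k' A] [Algebra k A] [IsScalarTower k k' A] (h : EGA4.IsGeomNormal k A) :
    EGA4.IsGeomNormal k' A := by
  intro F _ _ _
  letI : Algebra k F := ((algebraMap k' F).comp (algebraMap k k')).toAlgebra
  haveI : IsScalarTower k k' F := IsScalarTower.of_algebraMap_eq fun _ => rfl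
  have hn : EGA4.IsNormalRing (F ⊗[k] A) := Groth.L06.NormalAscent.isNormalRing_of_ringEquiv
    (Algebra.TensorProduct.comm k A F).toRingEquiv (isNormalRing_field_tensor h F normal_of_field.1)
  obtain ⟨π, hπ, hk⟩ := Groth.L03.GeomRegular.separable_kill (k := k) (L := k') (A := A) F
  intro P _
  obtain ⟨e⟩ := Groth.L03.GeomRegular.nonempty_localEquiv π hπ P fun z hz => by
    obtain ⟨s, hs, hsz⟩ := hk z hz
    exact ⟨s, fun hh => Ideal.IsPrime.ne_top inferInstance (P.eq_top_of_isUnit_mem hh hs), hsz⟩
  haveI := (hn (P.comap π)).1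
  haveI := (hn (P.comap π)).2
  exact ⟨e.symm.toMulEquiv.isDomain _, IsIntegrallyClosed.of_equiv e⟩

/-- a reduced Artinian ring is normal -/
theorem normalRing_of_artinian {R : Type u} [CommRing R] [IsArtinianRing R] [IsReduced R] : EGA4.IsNormalRing R := by
  intro p _
  have : IsField (Localization.AtPrime p) := IsArtinianRing.isField_of_isReduced_of_isLocalRing _
  letI := this.toField
  exact ⟨inferInstance, inferInstance⟩

theorem isGeomNormal_of_separable_bot {k k' A : Type u} [Field k] [Field k'] [Algebra k k'] [Algebra.IsSeparable k k']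
    [CommRing A] [Algebra k' A] [Algebra k A] [IsScalarTower k k' A] (h : EGA4.IsGeomNormal k' A) :
    EGA4.IsGeomNormal k A := by
  intro L _ _ hL
  haveI := hL
  haveI : Algebra.FormallyEtale k k' := Algebra.FormallyEtale.of_isSeparable k k'
  haveI : Algebra.IsGeometricallyReduced k k' := (Groth.L03.GeomReduced.formallySmooth_iff k k').1 inferInstance
  haveI : _root_.IsReduced (L ⊗[k] k') := Groth.L03.GeomReduced2.isReduced_of_isGeometricallyReduced L
  haveI : _root_.IsReduced (k' ⊗[k] L) :=
    isReduced_of_injective (Algebra.TensorProduct.comm k k' L).toAlgHom (Algebra.TensorProduct.comm k k' L).injective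
  haveI : IsArtinianRing (k' ⊗[k] L) := IsArtinianRing.of_finite k' _
  have hn := isNormalRing_field_tensor h (k' ⊗[k] L) normalRing_of_artinian
  exact Groth.L06.NormalAscent.isNormalRing_of_ringEquiv
    ((Algebra.TensorProduct.cancelBaseChange k k' A A L).toRingEquiv.trans (Algebra.TensorProduct.comm k A L).toRingEquiv) hn

theorem isGeomNormal_of_geometricallyReduced {k k' : Type u} [Field k] [Field k'] [Algebra k k']
    [Algebra.IsGeometricallyReduced k k'] : EGA4.IsGeomNormal k k' := by
  intro L _ _ hL
  haveI := hL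
  haveI : _root_.IsReduced (L ⊗[k] k') := Groth.L03.GeomReduced2.isReduced_of_isGeometricallyReduced L
  haveI : IsArtinianRing (k' ⊗[k] L) := IsArtinianRing.of_finite k' _
  haveI : _root_.IsReduced (k' ⊗[k] L) :=
    isReduced_of_injective (Algebra.TensorProduct.comm k k' L).toAlgHom (Algebra.TensorProduct.comm k k' L).injective
  exact Groth.L06.NormalAscent.isNormalRing_of_ringEquiv (Algebra.TensorProduct.comm k k' L).toRingEquiv normalRing_of_artinian

end Groth.L06.NormalTensor
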