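import Groth.Agent.L06.NormalUnion
import Mathlib.RingTheory.Localization.FractionRing
import Mathlib.RingTheory.Ideal.MinimalPrime.Localization
import Mathlib.Algebra.Algebra.Subalgebra.Lattice

/-! Normal rings inside their total quotient rings. -/

set_option autoImplicit false
noncomputable section
universe u v
open Polynomial
open scoped nonZeroDivisors

namespace Groth.L06.NormalTotalQuot

open Groth.L06.NormalTensor

theorem mem_range_of_normal {B : Type u} [CommRing B] {Q : Type v} [CommRing Q] (φ : B →+* Q)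
    (hφ : Function.Injective φ) (hB : EGA4.IsNormalRing B) {y : Q} (hy : φ.IsIntegralElem y)
    {a b : B} (hb : b ∈ nonZeroDivisors B) (hbu : IsUnit (φ b)) (hab : y * φ b = φ a) : y ∈ Set.range φ := by
  obtain ⟨p, hp, hev⟩ := hy
  have hroot : (p.scaleRoots b).eval a = 0 := hφ (by
    rw [← eval₂_at_apply, ← hab, mul_comm y, scaleRoots_eval₂_mul φ, hev, mul_zero, map_zero])
  have hdvd : a ∈ Ideal.span {b} := by
    let I : Ideal B := Submodule.comap (LinearMap.mulRight B a) (Ideal.span {b})
    by_contra hne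
    obtain ⟨P, hP, hle⟩ := Ideal.exists_le_maximal I fun h0 => hne (by
      have : (1 : B) ∈ I := h0 ▸ trivial
      simpa [I] using this)
    haveI := hP.isPrime
    haveI := (hB P).1
    haveI := (hB P).2
    have hbP : ∀ v ∉ P, v * b ≠ 0 := fun v hv h => hv (by
      rw [(mem_nonZeroDivisors_iff_right.mp hb) v h]; exact P.zero_mem)
    obtain ⟨v, hv, z, hvz⟩ := locCond_of_normal P a b p hp hroot hbP
    exact hv (hle (show v * a ∈ Ideal.span {b} from Ideal.mem_span_singleton'.mpr ⟨z, hvz.symm⟩))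
  obtain ⟨z, hz⟩ := Ideal.mem_span_singleton'.mp hdvd
  refine ⟨z, ?_⟩
  have h0 : φ b * (y - φ z) = 0 := by rw [mul_sub, mul_comm (φ b) y, hab, ← hz, map_mul]; ring
  exact (sub_eq_zero.mp (hbu.mul_right_eq_zero.mp h0)).symm

variable {A : Type u} [CommRing A]

theorem integrallyClosedIn_of_normal (hA : EGA4.IsNormalRing A) (y : FractionRing A) (hy : IsIntegral A y) :
    y ∈ Set.range (algebraMap A (FractionRing A)) := by
  obtain ⟨⟨a, b⟩, hab⟩ := IsLocalization.surj (nonZeroDivisors A) y
  exact mem_range_of_normal _ (IsFractionRing.injective A (FractionRing A)) hA hy b.2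
    (IsLocalization.map_units _ b) hab

variable [IsReduced A]

theorem exists_mul_eq_zero (hfin : (minimalPrimes A).Finite) {q : Ideal A} (hq : q ∈ minimalPrimes A) {x : A}
    (hx : x ∈ q) : ∃ t ∉ q, t * x = 0 := by
  classical
  haveI := Ideal.minimalPrimes_isPrime hq
  let s := hfin.toFinset.erase q
  have hnot : ¬ s.inf id ≤ q := by
    intro h
    obtain ⟨r, hr, hle⟩ := (Ideal.IsPrime.inf_le' (inferInstance : q.IsPrime)).mp h
    obtain ⟨hne, hrm⟩ := Finset.mem_erase.mp hr
    rw [Set.Finite.mem_toFinset] at hrm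
    exact hne (le_antisymm hle (hq.2 hrm.1 hle))
  obtain ⟨t, ht, htq⟩ := SetLike.not_le_iff_exists.mp hnot
  refine ⟨t, htq, IsNilpotent.eq_zero ?_⟩
  rw [← mem_nilradical, nilradical_eq_sInf]
  refine Submodule.mem_sInf.mpr fun J hJ => ?_
  haveI : Ideal.IsPrime J := hJ
  obtain ⟨r, hr, hrJ⟩ := Ideal.exists_minimalPrimes_le (bot_le : (⊥ : Ideal A) ≤ J)
  apply hrJ
  by_cases h : r = q
  · subst h; exact Ideal.mul_mem_left _ _ hx
  · exact Ideal.mul_mem_right _ _ ((Finset.inf_le (f := id) (Finset.mem_erase.mpr ⟨h, hfin.mem_toFinset.mpr hr⟩)) ht)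

theorem mem_nzd (hfin : (minimalPrimes A).Finite) {x : A} (h : ∀ q ∈ minimalPrimes A, x ∉ q) :
    x ∈ nonZeroDivisors A := by
  rw [mem_nonZeroDivisors_iff_right]
  intro y hy
  refine IsNilpotent.eq_zero ?_
  rw [← mem_nilradical, nilradical_eq_sInf]
  refine Submodule.mem_sInf.mpr fun J hJ => ?_
  haveI : Ideal.IsPrime J := hJ
  obtain ⟨r, hr, hrJ⟩ := Ideal.exists_minimalPrimes_le (bot_le : (⊥ : Ideal A) ≤ J)
  haveI := Ideal.minimalPrimes_isPrime hr
  exact hrJ (((inferInstance : r.IsPrime).mem_or_mem (show y * x ∈ r by rw [hy]; exact r.zero_mem)).resolve_right (h r hr))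

theorem exists_not_mem_mul_eq_zero (hfin : (minimalPrimes A).Finite) (P : Ideal (FractionRing A)) [P.IsPrime]
    {z : FractionRing A} (hz : z ∈ P) : ∃ s ∉ P, s * z = 0 := by
  classical
  let p := P.comap (algebraMap A (FractionRing A))
  have hsub : (p : Set A) ⊆ ⋃ q ∈ (hfin.toFinset : Set (Ideal A)), (q : Set A) := by
    intro x hx
    by_contra hne
    simp only [Set.mem_iUnion, not_exists, SetLike.mem_coe, Set.Finite.coe_toFinset] at hne
    exact (inferInstance : P.IsPrime).ne_top (P.eq_top_of_isUnit_mem hx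
      (IsLocalization.map_units (FractionRing A) ⟨x, mem_nzd hfin fun q hq => hne q hq⟩))
  obtain ⟨q, hq, hle⟩ := (Ideal.subset_union_prime (⊤ : Ideal A) (⊤ : Ideal A)
    fun i hi _ _ => Ideal.minimalPrimes_isPrime (hfin.mem_toFinset.mp hi)).mp hsub
  rw [Set.Finite.mem_toFinset] at hq
  obtain ⟨⟨c, d⟩, hcd⟩ := IsLocalization.surj (nonZeroDivisors A) z
  have hc : c ∈ p := by
    show algebraMap A (FractionRing A) c ∈ P
    rw [← hcd]; exact P.mul_mem_right _ hz
  obtain ⟨t, ht, htc⟩ := exists_mul_eq_zero hfin hq (hle hc)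
  refine ⟨algebraMap A (FractionRing A) t, fun h => ht (hle h), ?_⟩
  apply (IsLocalization.map_units (FractionRing A) d).mul_left_eq_zero.mp
  show algebraMap A (FractionRing A) t * z * algebraMap A (FractionRing A) d = 0
  rw [mul_assoc, hcd, ← map_mul, htc, map_zero]

theorem normal_total (hfin : (minimalPrimes A).Finite) :
    EGA4.IsNormalRing (FractionRing A) ∧ Idem (FractionRing A) := by
  constructor
  · intro P hP
    have hf : IsField (Localization.AtPrime P) := by
      rw [IsLocalRing.isField_iff_maximalIdeal_eq, eq_bot_iff]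
      intro x hx
      obtain ⟨a, s, rfl⟩ := IsLocalization.exists_mk'_eq P.primeCompl x
      obtain ⟨t, ht, htz⟩ := exists_not_mem_mul_eq_zero hfin P
        ((IsLocalization.AtPrime.mk'_mem_maximal_iff (Localization.AtPrime P) P a s).mp hx)
      rw [Submodule.mem_bot, IsLocalization.mk'_eq_zero_iff]
      exact ⟨⟨t, ht⟩, htz⟩
    letI := hf.toField
    exact ⟨inferInstance, inferInstance⟩
  · intro a b hab
    let I : Ideal (FractionRing A) := LinearMap.ker (LinearMap.mulRight (FractionRing A) a) ⊔ Ideal.span {a}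
    have hI : (1 : FractionRing A) ∈ I := by
      by_contra h1
      obtain ⟨P, hP, hle⟩ := Ideal.exists_le_maximal I ((Ideal.ne_top_iff_one _).mpr h1)
      haveI := hP.isPrime
      obtain ⟨s, hs, hsa⟩ := exists_not_mem_mul_eq_zero hfin P
        (hle (Submodule.mem_sup_right (Ideal.mem_span_singleton_self a)))
      exact hs (hle (Submodule.mem_sup_left (show s * a = 0 from hsa)))
    obtain ⟨u, hu, w, hw, huw⟩ := Submodule.mem_sup.mp hI
    obtain ⟨c, rfl⟩ := Ideal.mem_span_singleton'.mp hw
    have hu' : u * a = 0 := hu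
    refine ⟨c * a, ?_, ?_, by rw [mul_assoc, hab, mul_zero]⟩
    · linear_combination (c * a) * huw - c * hu'
    · linear_combination a * huw - hu'

end Groth.L06.NormalTotalQuot
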