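import Groth.Agent.L06.MulticrossComplete
import Groth.Agent.L06.CplFiniteJac
import Groth.Agent.L07.BrnchCompl.DimOne
import Groth.Agent.L00.EquidimFlat
import Groth.Agent.L07.DimToolkit
import Groth.Agent.L22.Sard.Main
import Groth.Agent.L22.SchemeDim
import Groth.Agent.L01.NagataFiniteType
import Groth.Agent.L01.NagataAdjoin
import Groth.Agent.L18.NormalizationField
import Groth.Agent.L01.CompletionExt
import Groth.Agent.S2643
import Groth.Agent.S7654

/-!
Multicross singularities: from the local ring to its completion.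
-/

set_option autoImplicit false
set_option linter.style.haveILetI false
set_option maxSynthPendingDepth 3
set_option synthInstance.maxHeartbeats 400000
noncomputable section
universe u

open IsLocalRing CategoryTheory AlgebraicGeometry

namespace Groth.L06.Multicross

section Ring

variable (A : Type u) [CommRing A] [IsLocalRing A]

local notation "Ah" => AdicCompletion (maximalIdeal A) A

theorem isReduced_completion [IsReduced A] (hN : CAlg.IsNagata A) : IsReduced Ah := by
  haveI : IsNoetherianRing A := hN.1
  exact (Groth.Agent.S2643.result A (Groth.L06.CplFiniteJac.geomReduced_of_nagata A hN)).mp ‹_›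

theorem finrank_cotangent_completion [IsNoetherianRing A] :
    Module.finrank (ResidueField Ah) (CotangentSpace Ah) = Module.finrank (ResidueField A) (CotangentSpace A) := by
  classical
  haveI : IsNoetherianRing Ah := Groth.Agent.S0543.result A _
  rw [← spanFinrank_maximalIdeal_eq_finrank_cotangentSpace, ← spanFinrank_maximalIdeal_eq_finrank_cotangentSpace]
  have hm : maximalIdeal Ah = (maximalIdeal A).map (algebraMap A Ah) :=
    AdicCompletion.maximalIdeal_eq_map_of_fg (IsNoetherian.noetherian _)
  haveI : Module.FaithfullyFlat A Ah := Groth.L01.CompletionExt.faithfullyFlat A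
  obtain ⟨s, hs, hsp⟩ := Submodule.FG.exists_span_finset_card_eq_spanFinrank
    (Ideal.fg_of_isNoetherianRing (maximalIdeal A))
  refine le_antisymm ?_ ?_
  · rw [hm, ← hs, show (maximalIdeal A).map (algebraMap A Ah) = Ideal.span ((s.image (algebraMap A Ah) : Finset Ah) : Set Ah) by
      rw [← hsp, Finset.coe_image]; exact Ideal.map_span _ _]
    refine (Submodule.spanFinrank_span_le_ncard_of_finite (Finset.finite_toSet _)).trans ?_
    rw [Set.ncard_coe_finset]
    exact Finset.card_image_le
  · obtain ⟨t, ht, htp⟩ := Submodule.FG.exists_span_finset_card_eq_spanFinrank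
      (Ideal.fg_of_isNoetherianRing (maximalIdeal Ah))
    have happ : ∀ g ∈ maximalIdeal Ah, ∃ a ∈ maximalIdeal A, g - algebraMap A Ah a ∈ maximalIdeal Ah ^ 2 := by
      intro g hg
      rw [hm] at hg ⊢
      rw [Ideal.map, ← Submodule.mem_toAddSubmonoid] at hg
      refine Submodule.span_induction (p := fun g _ => ∃ a ∈ maximalIdeal A,
        g - algebraMap A Ah a ∈ (maximalIdeal A).map (algebraMap A Ah) ^ 2) ?_ ⟨0, zero_mem _, by simp⟩ ?_ ?_ hg
      · rintro _ ⟨a, ha, rfl⟩
        exact ⟨a, ha, by simp⟩
      · rintro x y - - ⟨a, ha, hax⟩ ⟨b, hb, hby⟩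
        refine ⟨a + b, add_mem ha hb, ?_⟩
        have := add_mem hax hby
        rw [map_add]
        convert this using 1
        ring
      · rintro c x - ⟨a, ha, hax⟩
        obtain ⟨q, hq⟩ := (AdicCompletion.residueField_map_bijective A).2 (residue Ah c)
        obtain ⟨r, rfl⟩ := residue_surjective q
        refine ⟨r * a, Ideal.mul_mem_left _ _ ha, ?_⟩
        have h1 : c - algebraMap A Ah r ∈ (maximalIdeal A).map (algebraMap A Ah) := by
          rw [← hm]
          exact Ideal.Quotient.eq.mp hq.symm
        have h2 := add_mem (Ideal.mul_mem_left _ c hax) (pow_two ((maximalIdeal A).map (algebraMap A Ah)) ▸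
          Ideal.mul_mem_mul h1 (Ideal.mem_map_of_mem _ ha))
        rw [smul_eq_mul, map_mul]
        convert h2 using 1
        ring
    choose a ha hat using happ
    let s' : Finset A := t.attach.image fun g => a g.1 (htp ▸ Submodule.subset_span g.2)
    have hle : maximalIdeal A ≤ Ideal.span (s' : Set A) := by
      rw [← Ideal.comap_map_eq_self_of_faithfullyFlat (B := Ah) (maximalIdeal A),
        ← Ideal.comap_map_eq_self_of_faithfullyFlat (B := Ah) (Ideal.span (s' : Set A))]
      refine Ideal.comap_mono (hm.symm.le.trans ?_)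
      refine Submodule.le_of_le_smul_of_le_jacobson_bot (I := maximalIdeal Ah) (Ideal.fg_of_isNoetherianRing _)
        (maximalIdeal_le_jacobson _) ?_
      conv_lhs => rw [← htp]
      rw [Submodule.span_le]
      intro g hg
      rw [smul_eq_mul, ← pow_two, SetLike.mem_coe, ← sub_add_cancel g (algebraMap A Ah (a g (htp ▸ Submodule.subset_span hg)))]
      exact add_mem (Ideal.mem_sup_right (hat g _))
        (Ideal.mem_sup_left (Ideal.mem_map_of_mem _ (Ideal.subset_span
          (Finset.mem_image.mpr ⟨⟨g, hg⟩, Finset.mem_attach _ _, rfl⟩))))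
    have heq : maximalIdeal A = Ideal.span (s' : Set A) :=
      le_antisymm hle (Ideal.span_le.mpr fun x hx => by
        obtain ⟨g, -, rfl⟩ := Finset.mem_image.mp hx
        exact ha _ _)
    refine le_trans (le_of_eq (congrArg Submodule.spanFinrank heq)) ?_
    rw [← ht]
    refine (Submodule.spanFinrank_span_le_ncard_of_finite (Finset.finite_toSet _)).trans ?_
    rw [Set.ncard_coe_finset]
    exact Finset.card_image_le.trans t.card_attach.le

theorem exists_hom (k : Type u) [Field k] [Algebra k A] [IsReduced A] (hdim : ringKrullDim A = 1)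
    (hN : CAlg.IsNagata A) (hres : Function.Bijective (algebraMap k (ResidueField A)))
    (n : ℕ) (hn : Brnch.numBranches A = n) (hδ : Curv2.deltaInv A + 1 = n) :
    ∃ φ : Ah →+* N k n, Function.Injective φ ∧
      (∀ c : k, φ (algebraMap A Ah (algebraMap k A c)) = fun _ => algebraMap k (PowerSeries k) c) ∧
      Set.range φ = crossSet k n := by
  haveI : IsNoetherianRing A := hN.1
  haveI : IsNoetherianRing Ah := Groth.Agent.S0543.result A _
  haveI := isReduced_completion A hN
  have hm : maximalIdeal Ah = (maximalIdeal A).map (algebraMap A Ah) :=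
    AdicCompletion.maximalIdeal_eq_map_of_fg (IsNoetherian.noetherian _)
  haveI : IsAdicComplete (maximalIdeal Ah) Ah := by
    rw [hm]
    exact (IsAdicComplete.map_algebraMap_iff _ Ah).mpr (AdicCompletion.isAdicComplete (IsNoetherian.noetherian _))
  letI : Algebra k Ah := ((algebraMap A Ah).comp (algebraMap k A)).toAlgebra
  haveI : IsLocalHom (algebraMap A Ah) :=
    ((IsLocalRing.local_hom_TFAE (algebraMap A Ah)).out 0 2).mpr hm.ge
  have hres' : Function.Bijective (algebraMap k (ResidueField Ah)) := by
    refine ⟨RingHom.injective _, fun y => ?_⟩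
    obtain ⟨z, hz⟩ := (AdicCompletion.residueField_map_bijective A).2 y
    obtain ⟨c, hc⟩ := hres.2 z
    refine ⟨c, ?_⟩
    rw [← hz, ← hc]
    rfl
  refine exists_hom_of_complete k Ah hres' ((Groth.L01.CompletionReg.ringKrullDim_completion A).trans hdim) n
    ((Groth.L07.BrnchCompl.numBranches_eq A hdim).trans hn) ?_
  rw [show Curv2.deltaInv Ah = Curv2.deltaInv A from (Groth.Agent.S7654.result A hN hdim).2.2]
  exact hδ

theorem numBranches_and_deltaInv [IsReduced A] (hdim : ringKrullDim A = 1) (hN : CAlg.IsNagata A)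
    (k : Type u) [Field k] (n : ℕ) (e : Ah ≃+* MvPowerSeries (Fin n) k ⧸ J k n) :
    0 < n ∧ Brnch.numBranches A = n ∧ Curv2.deltaInv A + 1 = n ∧
      Module.finrank (ResidueField A) (CotangentSpace A) = n := by
  haveI : IsNoetherianRing A := hN.1
  have hn : 0 < n := by
    by_contra h
    obtain rfl : n = 0 := by omega
    have hJ : J k 0 = ⊥ := Ideal.span_eq_bot.mpr (by rintro _ ⟨i, -⟩; exact Fin.elim0 i)
    haveI : Subsingleton (MvPowerSeries (Fin 0) k) ∨ True := Or.inr trivial
    let e' : Ah ≃+* k := e.trans (((Ideal.quotEquivOfEq hJ).trans (RingEquiv.quotientBot _)).trans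
      (RingEquiv.ofBijective (MvPowerSeries.constantCoeff (σ := Fin 0) (R := k))
        ⟨fun a b h => MvPowerSeries.ext fun d => by
          obtain rfl : d = 0 := Subsingleton.elim _ _
          simpa using h, fun c => ⟨MvPowerSeries.C c, MvPowerSeries.constantCoeff_C c⟩⟩))
    have h0 : ringKrullDim Ah = 0 := (ringKrullDim_eq_of_ringEquiv e').trans (ringKrullDim_eq_zero_of_field k)
    rw [Groth.L01.CompletionReg.ringKrullDim_completion, hdim] at h0
    exact one_ne_zero h0
  obtain ⟨φ, hinj, hrange⟩ := exists_hom_of_equiv k n hn e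
  haveI : IsNoetherianRing Ah := Groth.Agent.S0543.result A _
  refine ⟨hn, ?_, ?_, ?_⟩
  · rw [← Groth.L07.BrnchCompl.numBranches_eq A hdim, Groth.L07.BrnchCompl.numBranches_completion]
    exact encard_minimalPrimes φ hinj hrange
  · rw [← (Groth.Agent.S7654.result A hN hdim).2.2]
    exact deltaInv_add_one φ hinj hrange hn
  · rw [← finrank_cotangent_completion A]
    exact finrank_cotangent φ hinj hrange hn

end Ring

section Scheme

variable (k : Type u) [Field k] {X : Scheme.{u}} [X.Over (Spec (CommRingCat.of k))]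
  [LocallyOfFiniteType (X ↘ Spec (CommRingCat.of k))]

include k in
theorem isNagata_stalk' (x : X) : CAlg.IsNagata (X.presheaf.stalk x) := by
  obtain ⟨U, hU, hxU, -⟩ := exists_isAffineOpen_mem_and_subset (TopologicalSpace.Opens.mem_top x)
  letI : Algebra k Γ(X, U) := (Groth.L22.SchemeDim.sectHom k X U).toAlgebra
  haveI : Algebra.FiniteType k Γ(X, U) :=
    RingHom.finiteType_algebraMap.1 (Groth.L22.SchemeDim.finiteType_sectHom k X hU)
  have hN : CAlg.IsNagata Γ(X, U) :=
    Groth.L01.Nagata.isNagata_of_finiteType (R := k) (S := Γ(X, U)) (Groth.L18.NormField.isNagata_field k)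
  letI := TopCat.Presheaf.algebra_section_stalk X.presheaf (⟨x, hxU⟩ : U)
  haveI := hU.isLocalization_stalk ⟨x, hxU⟩
  exact Groth.L01.NagataAdjoin.isNagata_localization hN (hU.primeIdealOf ⟨x, hxU⟩).asIdeal.primeCompl _

include k in
theorem ringKrullDim_stalk_eq_one (hdim : ∀ Z ∈ irreducibleComponents X, topologicalKrullDim ↥Z = 1)
    {x : X} (hx : IsClosed ({x} : Set X)) : ringKrullDim (X.presheaf.stalk x) = 1 := by
  obtain ⟨a, b, ha, hb, hab⟩ := Groth.L00.EquidimFlat.point_data' k (X ↘ Spec (CommRingCat.of k)) _ hdim x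
  obtain ⟨n, hn, hnt⟩ := Groth.L07.DimToolkit.exists_fdim_rtrdeg (X ↘ Spec (CommRingCat.of k)) x
  rw [Groth.L00.EquidimFlat.fdim_qX k, hx.closure_eq] at hn
  have h0 : topologicalKrullDim ({x} : Set X) = 0 := by
    refine le_antisymm (topologicalKrullDim_zero_of_discreteTopology _) ?_
    haveI : Nonempty (TopologicalSpace.IrreducibleCloseds ({x} : Set X)) :=
      ⟨⟨closure {⟨x, rfl⟩}, isIrreducible_singleton.closure, isClosed_closure⟩⟩
    exact Order.krullDim_nonneg
  rw [h0] at hn
  obtain rfl : n = 0 := by exact_mod_cast hn.symm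
  obtain rfl : a = 0 := by exact_mod_cast ha.symm.trans hnt
  rw [hb]
  rw [zero_add] at hab
  exact hab.symm

end Scheme

end Groth.L06.Multicross

end
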