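import Groth.Agent.L06.HilbertSystem
import Groth.Agent.L06.SupportDim
import Mathlib.RingTheory.Filtration
import Mathlib.RingTheory.Ideal.AssociatedPrime.Localization
import Mathlib.Analysis.Polynomial.Basic

/-! Hilbert–Samuel functions and dimension. -/

set_option autoImplicit false
set_option linter.style.haveILetI false
universe u

namespace Groth.L06.HilbertSamuel

open Submodule Polynomial

variable {A : Type u} [CommRing A] (q : Ideal A) (M : Type u) [AddCommGroup M] [Module A M]

/-- the Hilbert–Samuel function -/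
noncomputable def hs (n : ℕ) : ℕ := (Module.length A (M ⧸ (q ^ n • (⊤ : Submodule A M)))).toNat

/-- polynomial growth of order at most `k` -/
def Growth (k : ℕ) (f : ℕ → ℕ) : Prop := ∃ C N, ∀ n, N ≤ n → f n ≤ C * (n + 1) ^ k

variable {q M}

theorem growth_of_poly {f : ℕ → ℕ} {P : ℚ[X]} {k : ℕ} (hP : P.natDegree ≤ k)
    (h : ∃ N, ∀ n, N ≤ n → (f n : ℚ) ≤ P.eval (n : ℚ)) : Growth k f := by
  obtain ⟨N, hN⟩ := h
  obtain ⟨C, hC⟩ := exists_nat_ge (∑ i ∈ Finset.range (k + 1), |P.coeff i|)
  refine ⟨C, N, fun n hn => ?_⟩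
  have h2 : (f n : ℚ) ≤ (C : ℚ) * ((n : ℚ) + 1) ^ k := by
    refine (hN n hn).trans ?_
    rw [Polynomial.eval_eq_sum_range' (Nat.lt_succ_of_le hP)]
    refine le_trans ?_ (mul_le_mul_of_nonneg_right hC (by positivity))
    rw [Finset.sum_mul]
    refine Finset.sum_le_sum fun i hi => ?_
    refine mul_le_mul (le_abs_self _) ?_ (by positivity) (abs_nonneg _)
    exact (pow_le_pow_left₀ (by positivity) (by linarith) i).trans
      (pow_le_pow_right₀ (by linarith [n.cast_nonneg (α := ℚ)]) (Nat.lt_succ_iff.mp (Finset.mem_range.mp hi)))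
  exact_mod_cast h2

theorem natDegree_le_of_growth {f : ℕ → ℕ} {P : ℚ[X]} {k : ℕ} (hf : Growth k f)
    (h : ∃ N, ∀ n, N ≤ n → (f n : ℚ) = P.eval (n : ℚ)) : P.natDegree ≤ k := by
  by_contra hk
  push Not at hk
  obtain ⟨C, N, hC⟩ := hf
  obtain ⟨N', hN'⟩ := h
  let Q : ℚ[X] := Polynomial.C (C + 1 : ℚ) * (Polynomial.X + Polynomial.C 1) ^ k
  have hC0 : ((C : ℚ) + 1) ≠ 0 := by positivity
  have hQd : Q.natDegree = k := by
    rw [Polynomial.natDegree_C_mul hC0, Polynomial.natDegree_pow, Polynomial.natDegree_X_add_C, mul_one]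
  have hQ0 : Q ≠ 0 := mul_ne_zero (Polynomial.C_ne_zero.mpr hC0) (pow_ne_zero _ (Polynomial.X_add_C_ne_zero _))
  have hdeg : Q.degree < P.degree := by
    rw [Polynomial.degree_eq_natDegree hQ0, Polynomial.degree_eq_natDegree (fun h0 => by simp [h0] at hk), hQd]
    exact_mod_cast hk
  have ht := (Polynomial.abs_div_tendsto_atTop_atTop_of_degree_gt _ _ hdeg hQ0).comp
    (tendsto_natCast_atTop_atTop (R := ℚ))
  obtain ⟨n, hn1, hn2⟩ := ((ht.eventually_gt_atTop 1).and (Filter.eventually_ge_atTop (max N N'))).exists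
  have h2 : Q.eval (n : ℚ) = ((C : ℚ) + 1) * ((n : ℚ) + 1) ^ k := by simp [Q]
  simp only [Function.comp_apply, h2, ← hN' n (le_of_max_le_right hn2)] at hn1
  rw [abs_of_nonneg (by positivity), one_lt_div (by positivity)] at hn1
  have h3 : (f n : ℚ) ≤ (C : ℚ) * ((n : ℚ) + 1) ^ k := by exact_mod_cast hC n (le_of_max_le_left hn2)
  have : (0 : ℚ) < ((n : ℚ) + 1) ^ k := by positivity
  nlinarith

theorem Growth.mono {f g : ℕ → ℕ} {k : ℕ} (hg : Growth k g) (h : ∃ N, ∀ n, N ≤ n → f n ≤ g n) :
    Growth k f := by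
  obtain ⟨C, N, hC⟩ := hg
  obtain ⟨N', h'⟩ := h
  exact ⟨C, max N N', fun n hn => (h' n (le_of_max_le_right hn)).trans (hC n (le_of_max_le_left hn))⟩

theorem growth_succ {f g : ℕ → ℕ} {k : ℕ} (hg : Growth k g)
    (h : ∃ N, ∀ n, N ≤ n → f (n + 1) ≤ f n + g (n + 1)) : Growth (k + 1) f := by
  obtain ⟨C, N, hC⟩ := hg
  obtain ⟨N', h'⟩ := h
  let L := max N N'
  refine ⟨f L + C, L, fun n hn => ?_⟩
  induction n, hn using Nat.le_induction with
  | base => calc f L ≤ f L + C := Nat.le_add_right _ _
      _ ≤ (f L + C) * (L + 1) ^ (k + 1) := Nat.le_mul_of_pos_right _ (by positivity)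
  | succ n hn ih =>
    refine (h' n (le_of_max_le_right hn)).trans ((add_le_add ih (hC (n + 1) (by omega))).trans ?_)
    have h1 : (n + 1) ^ (k + 1) ≤ (n + 2) ^ k * (n + 1) := by
      rw [pow_succ]; gcongr; omega
    calc (f L + C) * (n + 1) ^ (k + 1) + C * (n + 1 + 1) ^ k
        ≤ (f L + C) * ((n + 2) ^ k * (n + 1)) + (f L + C) * (n + 2) ^ k :=
          add_le_add (Nat.mul_le_mul_left _ h1) (Nat.mul_le_mul_right _ (Nat.le_add_left _ _))
      _ = (f L + C) * (n + 1 + 1) ^ (k + 1) := by ring

variable [IsNoetherianRing A]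

section

variable (q M)
variable [Module.Finite A M] (hq0 : ringKrullDim (A ⧸ q) ≤ 0)
include hq0

theorem length_ne_top (n : ℕ) : Module.length A (M ⧸ (q ^ n • (⊤ : Submodule A M))) ≠ ⊤ := by
  rw [Module.length_ne_top_iff, SupportDim.isFiniteLength_iff, SupportDim.supportDim_quotient_smul,
    SupportDim.le_zero_iff_forall_isMaximal]
  intro p hp hle
  cases n with
  | zero =>
    rw [pow_zero, Ideal.one_eq_top, sup_top_eq, top_le_iff] at hle
    exact absurd hle hp.ne_top
  | succ n =>
    exact (SupportDim.le_zero_iff_forall_isMaximal q).mp hq0 p hp (hp.le_of_pow_le (le_sup_right.trans hle))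

theorem coe_hs (n : ℕ) : (hs q M n : ℕ∞) = Module.length A (M ⧸ (q ^ n • (⊤ : Submodule A M))) :=
  ENat.natCast_toNat (length_ne_top q M hq0 n)

theorem exists_polynomial : ∃ P : ℚ[X], ∃ N, ∀ n, N ≤ n → (hs q M n : ℚ) = P.eval (n : ℚ) := by
  obtain ⟨d, a, ha⟩ := Submodule.fg_iff_exists_fin_generating_family.mp (IsNoetherian.noetherian q)
  have haq : ∀ j, a j ∈ q := fun j => ha ▸ Submodule.subset_span ⟨j, rfl⟩
  let T : ℕ → Submodule A M := fun n => q ^ n • ⊤
  have hT : ∀ n, T (n + 1) ≤ T n := fun n => Submodule.smul_mono_left (Ideal.pow_le_pow_right n.le_succ)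
  have hqT : ∀ n, q • T n ≤ T (n + 1) := fun n => by
    show q • (q ^ n • (⊤ : Submodule A M)) ≤ q ^ (n + 1) • ⊤
    rw [pow_succ', mul_smul]
  have hmem : ∀ j n, ∀ z ∈ T n, a j • z ∈ T (n + 1) := fun j n z hz =>
    hqT n (Submodule.smul_mem_smul (haq j) hz)
  let G : ℕ → Type u := fun n => ↥(T n) ⧸ (T (n + 1)).comap (T n).subtype
  let L : Fin d → ∀ n, ↥(T n) →ₗ[A] ↥(T (n + 1)) := fun j n =>
    (LinearMap.lsmul A M (a j)).restrict (fun z hz => hmem j n z hz)
  let x : Fin d → ∀ n, G n →ₗ[A] G (n + 1) := fun j n =>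
    Submodule.mapQ _ _ (L j n) (fun z hz => hmem j (n + 1) z.1 hz)
  have hcomm : ∀ i j n, (x i (n + 1)).comp (x j n) = (x j (n + 1)).comp (x i n) := fun i j n =>
    Submodule.linearMap_qext _ (LinearMap.ext fun z =>
      congrArg (Submodule.Quotient.mk (p := (T (n + 1 + 1 + 1)).comap (T (n + 1 + 1)).subtype))
        (Subtype.ext (smul_comm (a i) (a j) (z : M))))
  let N' : HilbertSystem.Stab d G x → ℕ → Submodule A M := fun N n =>
    ((N.1 n).comap ((T (n + 1)).comap (T n).subtype).mkQ).map (T n).subtype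
  have hN1 : ∀ N n, N' N n ≤ T n := fun N n => Submodule.map_subtype_le _ _
  have hN2 : ∀ N n, T (n + 1) ≤ N' N n := fun N n z hz => ⟨⟨z, hT n hz⟩, by
    show ((T (n + 1)).comap (T n).subtype).mkQ _ ∈ N.1 n
    rw [Submodule.mkQ_apply, (Submodule.Quotient.mk_eq_zero _).mpr (show (⟨z, hT n hz⟩ : T n) ∈ (T (n + 1)).comap (T n).subtype from hz)]
    exact zero_mem _, rfl⟩
  let Fil : HilbertSystem.Stab d G x → q.Filtration M := fun N =>
    { N := N' N
      mono := fun n => (hN1 N (n + 1)).trans (hN2 N n)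
      smul_le := fun n => Submodule.smul_le.mpr fun c hc w hw => by
        rw [← ha] at hc
        induction hc using Submodule.span_induction with
        | mem c hc =>
          obtain ⟨j, rfl⟩ := hc
          obtain ⟨z, hz, rfl⟩ := hw
          exact ⟨L j n z, N.2 j n ⟨_, hz, rfl⟩, rfl⟩
        | zero => rw [zero_smul]; exact zero_mem _
        | add c c' _ _ h h' => rw [add_smul]; exact add_mem h h'
        | smul r c _ h => rw [smul_assoc]; exact Submodule.smul_mem _ r h }
  let S : Submodule (reesAlgebra q) (PolynomialModule A M) := (q.stableFiltration ⊤).submodule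
  haveI : IsNoetherian (reesAlgebra q) S := isNoetherian_of_fg_of_noetherian _
    (((q.stableFiltration ⊤).submodule_fg_iff_stable (fun i => IsNoetherian.noetherian _)).mpr (q.stableFiltration_stable ⊤))
  let emb : HilbertSystem.Stab d G x → Submodule (reesAlgebra q) S := fun N => (Fil N).submodule.comap S.subtype
  have hemb : StrictMono emb := by
    refine Monotone.strictMono_of_injective (fun N N₂ h => Submodule.comap_mono ?_) fun N N₂ h => ?_
    · intro f hf i
      exact Submodule.map_mono (Submodule.comap_mono (h i)) (hf i)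
    · have key : ∀ N N₂ : HilbertSystem.Stab d G x, emb N ≤ emb N₂ → ∀ n, N' N n ≤ N' N₂ n := by
        intro N N₂ h n z hz
        have hzS : PolynomialModule.single A n z ∈ (Fil N).submodule := fun i => by
          rw [PolynomialModule.coeff_single, Finsupp.single_apply]
          split_ifs with hi
          · subst hi; exact hz
          · exact zero_mem _
        have hzT : PolynomialModule.single A n z ∈ S := fun i => hN1 N i (hzS i)
        have := h (show (⟨_, hzT⟩ : S) ∈ emb N from hzS) n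
        simpa [PolynomialModule.coeff_single] using this
      refine Subtype.ext (funext fun n => ?_)
      exact Submodule.comap_injective_of_surjective (Submodule.mkQ_surjective _)
        (Submodule.map_injective_of_injective (Submodule.injective_subtype _)
          (le_antisymm (key N N₂ h.le n) (key N₂ N h.ge n)))
  haveI hwS : WellFoundedGT (Submodule (reesAlgebra q) S) := isNoetherian_iff'.mp inferInstance
  have hwf : WellFoundedGT (HilbertSystem.Stab d G x) :=
    ⟨Subrelation.wf (fun {a b} h => hemb h) (InvImage.wf emb wellFounded_gt)⟩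
  have hex : ∀ n, Module.length A (M ⧸ T (n + 1)) = Module.length A (G n) + Module.length A (M ⧸ T n) := fun n =>
    Module.length_eq_add_of_exact (Submodule.mapQ _ (T (n + 1)) (T n).subtype le_rfl)
      (Submodule.factor (hT n))
      (by
        rw [← LinearMap.ker_eq_bot, Submodule.ker_mapQ]; exact Submodule.mkQ_map_self _)
      (Submodule.factor_surjective (hT n))
      (fun z => by
        obtain ⟨z, rfl⟩ := Submodule.Quotient.mk_surjective _ z
        constructor
        · intro hz
          exact ⟨Submodule.Quotient.mk ⟨z, (Submodule.Quotient.mk_eq_zero _).mp hz⟩, rfl⟩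
        · rintro ⟨w, hw⟩
          obtain ⟨w, rfl⟩ := Submodule.Quotient.mk_surjective _ w
          rw [← hw]
          exact (Submodule.Quotient.mk_eq_zero _).mpr w.2)
  have hfin : ∀ n, Module.length A (G n) ≠ ⊤ := fun n =>
    ne_top_of_le_ne_top (length_ne_top q M hq0 (n + 1)) (by rw [show q ^ (n + 1) • (⊤ : Submodule A M) = T (n + 1) from rfl, hex n]; exact le_self_add)
  have hd : HilbertSystem.DiffZero (d + 1) fun n => (hs q M n : ℤ) := by
    show HilbertSystem.DiffZero d _
    refine HilbertSystem.DiffZero.congr (HilbertSystem.diffZero_length d G x hcomm hwf hfin) ⟨0, fun n _ => ?_⟩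
    have h1 := hex n
    rw [← coe_hs q M hq0, ← coe_hs q M hq0, ← ENat.natCast_toNat (hfin n)] at h1
    norm_cast at h1
    show _ = (hs q M (n + 1) : ℤ) - (hs q M n : ℤ)
    omega
  obtain ⟨P, -, N, hP⟩ := hd.exists_polynomial
  exact ⟨P, N, fun n hn => by simpa using hP n hn⟩

/-- multiplication by `x`: `H_M (n+1) ≤ H_M n + H_{M/xM} (n+1)` -/
theorem hs_succ_le {x : A} (hx : x ∈ q) (n : ℕ) :
    hs q M (n + 1) ≤ hs q M n + hs q (M ⧸ (Ideal.span {x} • (⊤ : Submodule A M))) (n + 1) := by
  let J : Submodule A M := Ideal.span {x} • ⊤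
  have hJ : ∀ z, z ∈ J ↔ ∃ y, x • y = z := fun z => by
    simp only [J, Submodule.ideal_span_singleton_smul, Submodule.mem_smul_pointwise_iff_exists, Submodule.mem_top, true_and]
  let f : (M ⧸ (q ^ n • (⊤ : Submodule A M))) →ₗ[A] M ⧸ (q ^ (n + 1) • (⊤ : Submodule A M)) :=
    Submodule.mapQ _ _ (LinearMap.lsmul A M x) fun z hz => by
      show x • z ∈ q ^ (n + 1) • (⊤ : Submodule A M)
      rw [pow_succ', mul_smul]
      exact Submodule.smul_mem_smul hx hz
  let g : (M ⧸ (q ^ (n + 1) • (⊤ : Submodule A M))) →ₗ[A] (M ⧸ J) ⧸ (q ^ (n + 1) • (⊤ : Submodule A (M ⧸ J))) :=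
    Submodule.mapQ _ _ J.mkQ (Submodule.map_le_iff_le_comap.mp (by
      rw [Submodule.map_smul'']; exact smul_mono_right _ le_top))
  have hg : Function.Surjective g := by
    intro z
    obtain ⟨z, rfl⟩ := Submodule.Quotient.mk_surjective _ z
    obtain ⟨z, rfl⟩ := Submodule.Quotient.mk_surjective _ z
    exact ⟨Submodule.Quotient.mk z, rfl⟩
  have hex : Function.Exact (LinearMap.range f).subtype g := by
    intro z
    obtain ⟨z, rfl⟩ := Submodule.Quotient.mk_surjective _ z
    constructor
    · intro hz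
      have hz' : J.mkQ z ∈ q ^ (n + 1) • (⊤ : Submodule A (M ⧸ J)) := (Submodule.Quotient.mk_eq_zero _).mp hz
      rw [← Submodule.range_mkQ J, ← Submodule.map_top, ← Submodule.map_smul''] at hz'
      obtain ⟨w, hw, hwz⟩ := hz'
      obtain ⟨y, hy⟩ := (hJ _).mp ((Submodule.Quotient.eq J).mp hwz.symm)
      refine ⟨⟨_, Submodule.Quotient.mk y, rfl⟩, ?_⟩
      show Submodule.Quotient.mk (x • y) = Submodule.Quotient.mk z
      rw [hy, Submodule.Quotient.eq]
      simpa using neg_mem hw
    · rintro ⟨⟨_, y, rfl⟩, hy⟩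
      obtain ⟨y, rfl⟩ := Submodule.Quotient.mk_surjective _ y
      rw [← hy]
      show Submodule.Quotient.mk (J.mkQ (x • y)) = 0
      rw [show J.mkQ (x • y) = 0 from (Submodule.Quotient.mk_eq_zero _).mpr ((hJ _).mpr ⟨y, rfl⟩)]
      rfl
  have := Module.length_eq_add_of_exact _ g (Submodule.injective_subtype _) hg hex
  have h2 := Module.length_le_of_surjective f.rangeRestrict f.surjective_rangeRestrict
  have h3 : Module.length A (M ⧸ (q ^ (n + 1) • (⊤ : Submodule A M))) ≤
      Module.length A (M ⧸ (q ^ n • (⊤ : Submodule A M))) +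
      Module.length A ((M ⧸ J) ⧸ (q ^ (n + 1) • (⊤ : Submodule A (M ⧸ J)))) :=
    this.trans_le (add_le_add h2 le_rfl)
  rw [← coe_hs q M hq0, ← coe_hs q M hq0, ← coe_hs q _ hq0] at h3
  exact_mod_cast h3

/-- a submodule: Artin–Rees comparison -/
theorem hs_submodule_le (N : Submodule A M) : ∃ c, ∀ n, hs q N n ≤ hs q M (n + c) := by
  obtain ⟨c, hc⟩ := Ideal.exists_pow_inf_eq_pow_smul q N
  refine ⟨c, fun n => ?_⟩
  let K := (q ^ (n + c) • (⊤ : Submodule A M)).comap N.subtype
  have hK : K ≤ q ^ n • (⊤ : Submodule A N) := by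
    intro z hz
    have h1 : (z : M) ∈ q ^ (n + c - c) • (q ^ c • ⊤ ⊓ N) := hc (n + c) (Nat.le_add_left _ _) ▸ ⟨hz, z.2⟩
    rw [Nat.add_sub_cancel] at h1
    have h2 := smul_mono_right (q ^ n) (inf_le_right : q ^ c • ⊤ ⊓ N ≤ N) h1
    rw [show q ^ n • N = (q ^ n • (⊤ : Submodule A N)).map N.subtype by
      rw [Submodule.map_smul'', Submodule.map_top, Submodule.range_subtype]] at h2
    obtain ⟨w, hw, hwz⟩ := h2
    rwa [Subtype.ext hwz] at hw
  have hinj : Function.Injective (Submodule.mapQ K (q ^ (n + c) • (⊤ : Submodule A M)) N.subtype le_rfl) := by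
    rw [← LinearMap.ker_eq_bot, Submodule.ker_mapQ]
    exact Submodule.mkQ_map_self _
  have h := (Module.length_le_of_surjective _ (Submodule.factor_surjective hK)).trans
    (Module.length_le_of_injective _ hinj)
  rw [← coe_hs q N hq0, ← coe_hs q M hq0] at h
  exact_mod_cast h

/-- a non-zero-divisor lowers the growth -/
theorem hs_drop {x : A} (hx : IsSMulRegular M x) :
    ∃ c, ∀ n, hs q (M ⧸ (Ideal.span {x} • (⊤ : Submodule A M))) n + hs q M n ≤ hs q M (n + c) := by
  let J : Submodule A M := Ideal.span {x} • ⊤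
  have hJ : ∀ z, z ∈ J ↔ ∃ y, x • y = z := fun z => by
    simp only [J, Submodule.ideal_span_singleton_smul, Submodule.mem_smul_pointwise_iff_exists, Submodule.mem_top, true_and]
  obtain ⟨c, hc⟩ := Ideal.exists_pow_inf_eq_pow_smul q J
  refine ⟨c, fun n => ?_⟩
  let T := q ^ (n + c) • (⊤ : Submodule A M)
  let f : (M ⧸ T.comap (LinearMap.lsmul A M x)) →ₗ[A] M ⧸ T := Submodule.mapQ _ T (LinearMap.lsmul A M x) le_rfl
  let g : (M ⧸ T) →ₗ[A] (M ⧸ J) ⧸ (q ^ (n + c) • (⊤ : Submodule A (M ⧸ J))) :=
    Submodule.mapQ _ _ J.mkQ (Submodule.map_le_iff_le_comap.mp (by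
      rw [Submodule.map_smul'']; exact smul_mono_right _ le_top))
  have hf : Function.Injective f := by
    rw [← LinearMap.ker_eq_bot, Submodule.ker_mapQ]
    exact Submodule.mkQ_map_self _
  have hg : Function.Surjective g := by
    intro z
    obtain ⟨z, rfl⟩ := Submodule.Quotient.mk_surjective _ z
    obtain ⟨z, rfl⟩ := Submodule.Quotient.mk_surjective _ z
    exact ⟨Submodule.Quotient.mk z, rfl⟩
  have hex : Function.Exact f g := by
    intro z
    obtain ⟨z, rfl⟩ := Submodule.Quotient.mk_surjective _ z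
    constructor
    · intro hz
      have hz' : J.mkQ z ∈ q ^ (n + c) • (⊤ : Submodule A (M ⧸ J)) := (Submodule.Quotient.mk_eq_zero _).mp hz
      rw [← Submodule.range_mkQ J, ← Submodule.map_top, ← Submodule.map_smul''] at hz'
      obtain ⟨w, hw, hwz⟩ := hz'
      obtain ⟨y, hy⟩ := (hJ _).mp ((Submodule.Quotient.eq J).mp hwz.symm)
      refine ⟨Submodule.Quotient.mk y, ?_⟩
      show Submodule.Quotient.mk (x • y) = Submodule.Quotient.mk z
      rw [hy, Submodule.Quotient.eq]
      simpa using neg_mem hw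
    · rintro ⟨y, hy⟩
      obtain ⟨y, rfl⟩ := Submodule.Quotient.mk_surjective _ y
      rw [← hy]
      show Submodule.Quotient.mk (J.mkQ (x • y)) = 0
      rw [show J.mkQ (x • y) = 0 from (Submodule.Quotient.mk_eq_zero _).mpr ((hJ _).mpr ⟨y, rfl⟩)]
      rfl
  have hle : T.comap (LinearMap.lsmul A M x) ≤ q ^ n • (⊤ : Submodule A M) := by
    intro y hy
    have h1 : x • y ∈ q ^ (n + c - c) • (q ^ c • ⊤ ⊓ J) :=
      hc (n + c) (Nat.le_add_left _ _) ▸ ⟨hy, (hJ _).mpr ⟨y, rfl⟩⟩
    rw [Nat.add_sub_cancel] at h1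
    have h2 := smul_mono_right (q ^ n) (inf_le_right : q ^ c • ⊤ ⊓ J ≤ J) h1
    rw [show q ^ n • J = (q ^ n • (⊤ : Submodule A M)).map (LinearMap.lsmul A M x) by
      rw [Submodule.map_smul'', Submodule.map_top]
      congr 1
      ext z
      rw [hJ, LinearMap.mem_range]
      rfl] at h2
    obtain ⟨w, hw, hwz⟩ := h2
    exact hx hwz ▸ hw
  have h1 := Module.length_eq_add_of_exact f g hf hg hex
  have h2 := Module.length_le_of_surjective _ (Submodule.factor_surjective hle)
  have h3 : Module.length A ((M ⧸ J) ⧸ (q ^ n • (⊤ : Submodule A (M ⧸ J)))) +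
      Module.length A (M ⧸ (q ^ n • (⊤ : Submodule A M))) ≤ Module.length A (M ⧸ T) := by
    rw [h1, add_comm (Module.length A (M ⧸ T.comap _))]
    exact add_le_add (Module.length_le_of_surjective _ (Submodule.factor_surjective
      (Submodule.smul_mono_left (Ideal.pow_le_pow_right (Nat.le_add_right n c))))) h2
  rw [← coe_hs q M hq0, ← coe_hs q _ hq0, ← coe_hs q M hq0] at h3
  exact_mod_cast h3

end

theorem growth_of_finiteLength (q : Ideal A) (M : Type u) [AddCommGroup M] [Module A M]
    (h : IsFiniteLength A M) : Growth 0 (hs q M) := by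
  refine ⟨(Module.length A M).toNat, 0, fun n _ => ?_⟩
  rw [pow_zero, mul_one]
  exact ENat.toNat_le_toNat (Module.length_le_of_surjective _ (Submodule.mkQ_surjective _))
    (Module.length_ne_top_iff.mpr h)

section

variable (q) (hq0 : ringKrullDim (A ⧸ q) ≤ 0)
include hq0

theorem growth_of_parameters : ∀ (l : List A), (∀ x ∈ l, x ∈ q) →
    ∀ (M : Type u) [AddCommGroup M] [Module A M] [Module.Finite A M],
      ringKrullDim (A ⧸ (Module.annihilator A M ⊔ Ideal.ofList l)) ≤ 0 → Growth l.length (hs q M)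
  | [], _, M, _, _, _, h => by
    rw [Ideal.ofList_nil, sup_bot_eq, ← SupportDim.supportDim_eq_quotient, ← SupportDim.isFiniteLength_iff] at h
    exact growth_of_finiteLength q M h
  | x :: l, hl, M, _, _, _, h => by
    refine growth_succ (growth_of_parameters l (fun y hy => hl y (List.mem_cons_of_mem _ hy))
      (M ⧸ (Ideal.span {x} • (⊤ : Submodule A M))) ?_) ⟨0, fun n _ => hs_succ_le q M hq0 (hl x List.mem_cons_self) n⟩
    refine le_trans (SupportDim.ringKrullDim_quotient_anti ?_) h
    rw [Ideal.ofList_cons, ← sup_assoc]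
    refine sup_le_sup_right (sup_le ?_ ?_) _
    · exact LinearMap.annihilator_le_of_surjective _ (Submodule.mkQ_surjective _)
    · rw [Ideal.span_singleton_le_iff_mem, Module.mem_annihilator]
      intro z
      obtain ⟨z, rfl⟩ := Submodule.Quotient.mk_surjective _ z
      rw [← Submodule.Quotient.mk_smul, Submodule.Quotient.mk_eq_zero]
      exact Submodule.smul_mem_smul (Ideal.mem_span_singleton_self x) Submodule.mem_top

variable (hqj : q ≤ Ring.jacobson A)
include hqj

theorem coheight_le_of_growth : ∀ (k : ℕ) (p : PrimeSpectrum A),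
    Growth k (hs q (A ⧸ p.asIdeal)) → Order.coheight p ≤ k := by
  intro k
  induction k with
  | zero =>
    intro p hg
    have hmax : p.asIdeal.IsMaximal := by
      refine (SupportDim.le_zero_iff_forall_isMaximal q).mp hq0 _ p.isPrime ?_
      obtain ⟨C, N, hC⟩ := hg
      simp only [pow_zero, mul_one] at hC
      obtain ⟨P, N', hP⟩ := exists_polynomial q (A ⧸ p.asIdeal) hq0
      have hdeg := natDegree_le_of_growth ⟨C, N, fun n hn => by simpa using hC n hn⟩ ⟨N', hP⟩ (k := 0)
      rw [Nat.le_zero] at hdeg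
      obtain ⟨e, he⟩ := Polynomial.natDegree_eq_zero.mp hdeg
      have h1 : hs q (A ⧸ p.asIdeal) (N' + 1) = hs q (A ⧸ p.asIdeal) N' := by
        have a1 := hP (N' + 1) (by omega)
        have a2 := hP N' le_rfl
        rw [← he, Polynomial.eval_C] at a1 a2
        exact_mod_cast a1.trans a2.symm
      have hle : q ^ (N' + 1) • (⊤ : Submodule A (A ⧸ p.asIdeal)) ≤ q ^ N' • ⊤ :=
        Submodule.smul_mono_left (Ideal.pow_le_pow_right (Nat.le_succ _))
      have h2 := Module.length_eq_add_of_exact (LinearMap.ker (Submodule.factor hle)).subtype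
        (Submodule.factor hle) (Submodule.injective_subtype _) (Submodule.factor_surjective hle)
        (LinearMap.exact_subtype_ker_map _)
      rw [← coe_hs q _ hq0, ← coe_hs q _ hq0, h1] at h2
      have h3 : Module.length A (LinearMap.ker (Submodule.factor hle)) = 0 := by
        have := (ENat.add_right_injective_of_ne_top (ENat.natCast_ne_top (hs q (A ⧸ p.asIdeal) N')))
          (a₁ := 0) (a₂ := Module.length A (LinearMap.ker (Submodule.factor hle))) (by simp only [add_zero]; rw [add_comm]; exact h2)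
        exact this.symm
      have h4 : q ^ N' • (⊤ : Submodule A (A ⧸ p.asIdeal)) ≤ q • (q ^ N' • ⊤) := by
        intro z hz
        haveI := Module.length_eq_zero_iff.mp h3
        have hz' : (Submodule.Quotient.mk z : _ ⧸ q ^ (N' + 1) • (⊤ : Submodule A (A ⧸ p.asIdeal))) ∈
            LinearMap.ker (Submodule.factor hle) := by
          exact LinearMap.mem_ker.mpr ((Submodule.Quotient.mk_eq_zero _).mpr hz)
        have := congrArg Subtype.val (Subsingleton.elim (⟨_, hz'⟩ : LinearMap.ker (Submodule.factor hle)) 0)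
        rw [Submodule.coe_zero, Submodule.Quotient.mk_eq_zero, pow_succ', mul_smul] at this
        exact this
      have h5 := Submodule.eq_bot_of_le_smul_of_le_jacobson_bot q _ (IsNoetherian.noetherian _) h4
        (hqj.trans_eq (Ideal.jacobson_bot).symm)
      intro a ha
      refine p.isPrime.mem_of_pow_mem N' (Ideal.Quotient.eq_zero_iff_mem.mp ?_)
      have : a ^ N' • (1 : A ⧸ p.asIdeal) ∈ q ^ N' • (⊤ : Submodule A (A ⧸ p.asIdeal)) :=
        Submodule.smul_mem_smul (Ideal.pow_mem_pow ha N') Submodule.mem_top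
      rw [h5, Submodule.mem_bot, Algebra.smul_def, mul_one] at this
      exact this
    have hm : IsMax p := fun r hr => (PrimeSpectrum.asIdeal_le_asIdeal r p).mp
      (hmax.eq_of_le r.isPrime.ne_top hr).ge
    rw [Order.coheight_eq_zero.mpr hm]
    rfl
  | succ k ih =>
    intro p hg
    refine Order.coheight_le_coe_iff.mpr fun r hr => ?_
    obtain ⟨x, hxr, hxp⟩ := SetLike.exists_of_lt ((PrimeSpectrum.asIdeal_lt_asIdeal p r).mpr hr)
    suffices h : Growth k (hs q (A ⧸ r.asIdeal)) from (ih r h).trans_lt (by exact_mod_cast Nat.lt_succ_self k)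
    let M := A ⧸ p.asIdeal
    have hreg : IsSMulRegular M x := fun y z hyz => by
      obtain ⟨y, rfl⟩ := Ideal.Quotient.mk_surjective y
      obtain ⟨z, rfl⟩ := Ideal.Quotient.mk_surjective z
      refine Ideal.Quotient.eq.mpr ((p.isPrime.mem_or_mem ?_).resolve_left hxp)
      have : Ideal.Quotient.mk p.asIdeal (x * y) = Ideal.Quotient.mk p.asIdeal (x * z) := hyz
      rw [mul_sub]; exact Ideal.Quotient.eq.mp this
    obtain ⟨P, N, hP⟩ := exists_polynomial q M hq0
    have hdeg := natDegree_le_of_growth hg ⟨N, hP⟩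
    obtain ⟨c, hc⟩ := hs_drop q M hq0 hreg
    let Q : ℚ[X] := P.comp (Polynomial.X + Polynomial.C (c : ℚ)) - P
    have hQ : Q.natDegree ≤ k := by
      by_cases hQ0 : Q = 0
      · simp [hQ0]
      have hnd : (P.comp (Polynomial.X + Polynomial.C (c : ℚ))).natDegree = P.natDegree := by
        rw [Polynomial.natDegree_comp, Polynomial.natDegree_X_add_C, mul_one]
      have hlc : (P.comp (Polynomial.X + Polynomial.C (c : ℚ))).leadingCoeff = P.leadingCoeff := by
        rw [Polynomial.leadingCoeff_comp (by rw [Polynomial.natDegree_X_add_C]; exact one_ne_zero),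
          Polynomial.leadingCoeff_X_add_C, one_pow, mul_one]
      have hP0 : P ≠ 0 := fun h0 => hQ0 (by simp [Q, h0])
      have hP0' : P.comp (Polynomial.X + Polynomial.C (c : ℚ)) ≠ 0 := fun h0 => hP0 (by
        rw [h0, Polynomial.leadingCoeff_zero] at hlc
        exact Polynomial.leadingCoeff_eq_zero.mp hlc.symm)
      have := Polynomial.degree_sub_lt_right (by
        rw [Polynomial.degree_eq_natDegree hP0', Polynomial.degree_eq_natDegree hP0, hnd]) hP0 hlc
      have := Polynomial.natDegree_lt_natDegree hQ0 this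
      omega
    have hg' : Growth k (hs q (M ⧸ (Ideal.span {x} • (⊤ : Submodule A M)))) :=
      growth_of_poly hQ ⟨N, fun n hn => by
        have h1 : ((hs q (M ⧸ (Ideal.span {x} • (⊤ : Submodule A M))) n : ℚ)) + hs q M n ≤ hs q M (n + c) := by
          exact_mod_cast hc n
        simp only [Q, Polynomial.eval_sub, Polynomial.eval_comp, Polynomial.eval_add, Polynomial.eval_X, Polynomial.eval_C]
        rw [← hP n hn, ← Nat.cast_add, ← hP (n + c) (by omega)]
        linarith⟩
    refine hg'.mono ⟨0, fun n _ => ENat.toNat_le_toNat ?_ (length_ne_top q _ hq0 n)⟩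
    let f : (M ⧸ (Ideal.span {x} • (⊤ : Submodule A M))) →ₗ[A] A ⧸ r.asIdeal :=
      Submodule.liftQ _ (Submodule.factor ((PrimeSpectrum.asIdeal_le_asIdeal p r).mpr hr.le))
        (Submodule.smul_le.mpr fun a ha z _ => by
          obtain ⟨z, rfl⟩ := Submodule.Quotient.mk_surjective _ z
          rw [← Submodule.Quotient.mk_smul]
          refine LinearMap.mem_ker.mpr ((Submodule.Quotient.mk_eq_zero _).mpr ?_)
          exact r.asIdeal.mul_mem_right _ ((Ideal.span_singleton_le_iff_mem _).mpr hxr ha))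
    refine Module.length_le_of_surjective (Submodule.mapQ _ _ f (Submodule.map_le_iff_le_comap.mp (by
      rw [Submodule.map_smul'']; exact smul_mono_right _ le_top))) ?_
    intro z
    obtain ⟨z, rfl⟩ := Submodule.Quotient.mk_surjective _ z
    obtain ⟨z, rfl⟩ := Submodule.Quotient.mk_surjective _ z
    exact ⟨Submodule.Quotient.mk (Submodule.Quotient.mk (Submodule.Quotient.mk z)), rfl⟩

variable (M : Type u) [AddCommGroup M] [Module A M] [Module.Finite A M]

theorem supportDim_le_of_growth {k : ℕ} (hg : Growth k (hs q M)) : Module.supportDim A M ≤ (k : ℕ) := by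
  rw [Module.supportDim, Order.krullDim_eq_iSup_coheight]
  refine iSup_le fun ⟨r, hr⟩ => ?_
  obtain ⟨p, hp, hpr⟩ := Ideal.exists_minimalPrimes_le (I := Module.annihilator A M) (J := r.asIdeal)
    (Module.mem_support_iff_of_finite.mp hr)
  have hass := Module.associatedPrimes.minimalPrimes_annihilator_subset_associatedPrimes A M hp
  obtain ⟨f, hf⟩ := (isAssociatedPrime_iff_exists_injective_linearMap p M).mp hass |>.2
  obtain ⟨c, hc⟩ := hs_submodule_le q M hq0 (LinearMap.range f)
  have h1 : Growth k (hs q (A ⧸ p)) := by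
    obtain ⟨C, N, hC⟩ := hg
    refine ⟨C * (c + 1) ^ k, N, fun n hn => ?_⟩
    have e := LinearEquiv.ofInjective f hf
    have h0 : hs q (A ⧸ p) n ≤ hs q (LinearMap.range f) n := ENat.toNat_le_toNat
      (Module.length_le_of_surjective (Submodule.mapQ _ _ e.symm.toLinearMap (Submodule.map_le_iff_le_comap.mp (by
        rw [Submodule.map_smul'']; exact smul_mono_right _ le_top))) (fun z => by
          obtain ⟨z, rfl⟩ := Submodule.Quotient.mk_surjective _ z
          exact ⟨Submodule.Quotient.mk (e z), by simp⟩))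
      (length_ne_top q _ hq0 n)
    refine (h0.trans (hc n)).trans ((hC (n + c) (by omega)).trans ?_)
    rw [mul_assoc, ← mul_pow]
    refine Nat.mul_le_mul_left _ (Nat.pow_le_pow_left ?_ k)
    calc n + c + 1 ≤ n + c + 1 + c * n := Nat.le_add_right _ _
      _ = (c + 1) * (n + 1) := by ring
  have h2 := coheight_le_of_growth q hq0 hqj k ⟨p, hp.1.1⟩ h1
  refine WithBot.coe_le_coe.mpr (le_trans ?_ h2)
  exact (Order.coheight_le_coheight_apply_of_strictMono (Subtype.val : Module.support A M → _)
    (fun _ _ h => h) ⟨r, hr⟩).trans (Order.coheight_anti (show (⟨p, hp.1.1⟩ : PrimeSpectrum A) ≤ r from hpr))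

end

end Groth.L06.HilbertSamuel
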