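import Mathlib.RingTheory.Length
import Mathlib.Order.OrderIsoNat
import Mathlib.RingTheory.Polynomial.Pochhammer
import Mathlib.Algebra.Polynomial.Degree.Lemmas
import Mathlib.Algebra.BigOperators.Intervals
import Mathlib.Algebra.Polynomial.BigOperators

/-! Eventual polynomiality of the lengths in a Noetherian system of modules with commuting operators
of degree one (Hilbert). -/

set_option autoImplicit false
set_option linter.style.haveILetI false
universe u v

namespace Groth.L06.HilbertSystem

/-- the `d`-th difference vanishes eventually -/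
def DiffZero : ℕ → (ℕ → ℤ) → Prop
  | 0, f => ∃ N, ∀ n, N ≤ n → f n = 0
  | d + 1, f => DiffZero d fun n => f (n + 1) - f n

theorem DiffZero.congr : ∀ {d : ℕ} {f g : ℕ → ℤ}, DiffZero d f → (∃ N, ∀ n, N ≤ n → f n = g n) → DiffZero d g
  | 0, _, _, ⟨N, hN⟩, ⟨N', h⟩ => ⟨max N N', fun n hn => by
      rw [← h n (le_of_max_le_right hn)]; exact hN n (le_of_max_le_left hn)⟩
  | d + 1, f, g, h, ⟨N, hfg⟩ => DiffZero.congr (d := d) (f := fun n => f (n + 1) - f n) (g := fun n => g (n + 1) - g n) h ⟨N, fun n hn => congrArg₂ (· - ·) (hfg (n + 1) (by omega)) (hfg n hn)⟩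

theorem DiffZero.sub : ∀ {d : ℕ} {f g : ℕ → ℤ}, DiffZero d f → DiffZero d g → DiffZero d (f - g)
  | 0, _, _, ⟨N, hN⟩, ⟨N', hN'⟩ => ⟨max N N', fun n hn => by
      simp [hN n (le_of_max_le_left hn), hN' n (le_of_max_le_right hn)]⟩
  | d + 1, f, g, hf, hg => by
      have := DiffZero.sub (d := d) hf hg
      show DiffZero d fun n => (f - g) (n + 1) - (f - g) n
      refine DiffZero.congr this ⟨0, fun n _ => ?_⟩
      simp only [Pi.sub_apply]; ring

theorem DiffZero.shift : ∀ {d : ℕ} {f : ℕ → ℤ}, DiffZero d f → DiffZero d fun n => f (n + 1)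
  | 0, _, ⟨N, hN⟩ => ⟨N, fun n hn => hN _ (by omega)⟩
  | d + 1, f, hf => DiffZero.shift (d := d) (f := fun n => f (n + 1) - f n) hf

theorem DiffZero.exists_binomial : ∀ {d : ℕ} {f : ℕ → ℤ}, DiffZero d f →
    ∃ c : ℕ → ℤ, ∃ N, ∀ n, N ≤ n → f n = ∑ k ∈ Finset.range d, c k * (n.choose k : ℤ)
  | 0, _, ⟨N, hN⟩ => ⟨0, N, fun n hn => by simp [hN n hn]⟩
  | d + 1, f, hf => by
    obtain ⟨c, N, hc⟩ := DiffZero.exists_binomial (d := d) (f := fun n => f (n + 1) - f n) hf
    refine ⟨fun k => if k = 0 then f N - ∑ j ∈ Finset.range d, c j * (N.choose (j + 1) : ℤ) else c (k - 1),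
      N, fun n hn => ?_⟩
    rw [Finset.sum_range_succ']
    simp only [Nat.succ_ne_zero, if_false, if_true, Nat.add_sub_cancel, Nat.choose_zero_right, Nat.cast_one, mul_one]
    induction n, hn using Nat.le_induction with
    | base => ring
    | succ n hn ih =>
      have := hc n hn
      simp only [Nat.choose_succ_succ, Nat.cast_add, mul_add, Finset.sum_add_distrib] at *
      linarith

theorem DiffZero.exists_polynomial {d : ℕ} {f : ℕ → ℤ} (hf : DiffZero (d + 1) f) :
    ∃ P : Polynomial ℚ, P.natDegree ≤ d ∧ ∃ N, ∀ n, N ≤ n → (f n : ℚ) = P.eval (n : ℚ) := by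
  obtain ⟨c, N, hc⟩ := hf.exists_binomial
  refine ⟨∑ k ∈ Finset.range (d + 1), Polynomial.C ((c k : ℚ) / k.factorial) * descPochhammer ℚ k, ?_, N, fun n hn => ?_⟩
  · refine Polynomial.natDegree_sum_le_of_forall_le _ _ fun k hk => ?_
    refine (Polynomial.natDegree_C_mul_le _ _).trans ?_
    rw [descPochhammer_natDegree]
    exact Nat.lt_succ_iff.mp (Finset.mem_range.mp hk)
  · rw [hc n hn, Polynomial.eval_finsetSum, Int.cast_sum]
    refine Finset.sum_congr rfl fun k _ => ?_
    rw [Polynomial.eval_mul, Polynomial.eval_C, Int.cast_mul, Int.cast_natCast,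
      Nat.cast_choose_eq_descPochhammer_div]
    ring

variable {A : Type v} [CommRing A]

/-- families of submodules stable under the operators -/
def Stab (d : ℕ) (G : ℕ → Type u) [∀ n, AddCommGroup (G n)] [∀ n, Module A (G n)]
    (x : Fin d → ∀ n, G n →ₗ[A] G (n + 1)) : Type u :=
  {N : ∀ n, Submodule A (G n) // ∀ j n, (N n).map (x j n) ≤ N (n + 1)}

instance (d : ℕ) (G : ℕ → Type u) [∀ n, AddCommGroup (G n)] [∀ n, Module A (G n)]
    (x : Fin d → ∀ n, G n →ₗ[A] G (n + 1)) : PartialOrder (Stab d G x) :=
  Subtype.partialOrder _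

theorem diffZero_length : ∀ (d : ℕ) (G : ℕ → Type u) [∀ n, AddCommGroup (G n)] [∀ n, Module A (G n)]
    (x : Fin d → ∀ n, G n →ₗ[A] G (n + 1)),
    (∀ i j n, (x i (n + 1)).comp (x j n) = (x j (n + 1)).comp (x i n)) →
    WellFoundedGT (Stab d G x) → (∀ n, Module.length A (G n) ≠ ⊤) →
    DiffZero d fun n => ((Module.length A (G n)).toNat : ℤ) := by
  intro d
  induction d with
  | zero =>
    intro G _ _ x _ hwf _
    let F : ℕ →o Stab 0 G x :=
      ⟨fun m => ⟨fun n => if n < m then ⊤ else ⊥, fun j => j.elim0⟩, fun a b hab n => by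
        dsimp only; split_ifs with h1 h2 <;> first | exact le_top | exact bot_le | omega⟩
    obtain ⟨m, hm⟩ := hwf.monotone_chain_condition F
    refine ⟨m, fun n hn => ?_⟩
    have h : (if n < m then (⊤ : Submodule A (G n)) else ⊥) = if n < n + 1 then ⊤ else ⊥ :=
      congrFun (congrArg Subtype.val (hm (n + 1) (by omega))) n
    rw [if_neg (by omega), if_pos (by omega)] at h
    haveI : Subsingleton (G n) := subsingleton_iff.mpr fun a b => by
      have : ∀ y : G n, y = 0 := fun y => by
        have : y ∈ (⊥ : Submodule A (G n)) := h ▸ Submodule.mem_top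
        simpa using this
      rw [this a, this b]
    simp [Module.length_eq_zero]
  | succ d ih =>
    intro G _ _ x hcomm hwf hfin
    let y := x (Fin.last d)
    let K : ℕ → Type u := fun n => LinearMap.ker (y n)
    let R : ∀ n, Submodule A (G n) := fun n =>
      match n with
      | 0 => ⊥
      | n + 1 => LinearMap.range (y n)
    have hR : ∀ i n, R n ≤ (R (n + 1)).comap (x i n) := by
      intro i n
      cases n with
      | zero => exact bot_le
      | succ n =>
        rintro _ ⟨z, rfl⟩
        exact ⟨x i n z, (LinearMap.congr_fun (hcomm i (Fin.last d) n) z).symm⟩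
    let Q : ℕ → Type u := fun n => G n ⧸ R n
    have hK : ∀ (i : Fin d) n, ∀ z ∈ LinearMap.ker (y n), x i.castSucc n z ∈ LinearMap.ker (y (n + 1)) := by
      intro i n z hz
      rw [LinearMap.mem_ker] at hz ⊢
      have := LinearMap.congr_fun (hcomm (Fin.last d) i.castSucc n) z
      simp only [LinearMap.comp_apply] at this
      rw [this, hz, map_zero]
    let xK : Fin d → ∀ n, K n →ₗ[A] K (n + 1) := fun i n => (x i.castSucc n).restrict (hK i n)
    let xQ : Fin d → ∀ n, Q n →ₗ[A] Q (n + 1) := fun i n => (R n).mapQ (R (n + 1)) (x i.castSucc n) (hR _ n)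
    have hcK : ∀ i j n, (xK i (n + 1)).comp (xK j n) = (xK j (n + 1)).comp (xK i n) := fun i j n =>
      LinearMap.ext fun z => Subtype.ext (LinearMap.congr_fun (hcomm i.castSucc j.castSucc n) z.1)
    have hcQ : ∀ i j n, (xQ i (n + 1)).comp (xQ j n) = (xQ j (n + 1)).comp (xQ i n) := fun i j n =>
      Submodule.linearMap_qext _ (LinearMap.ext fun z =>
        congrArg (Submodule.Quotient.mk (p := R (n + 1 + 1))) (LinearMap.congr_fun (hcomm i.castSucc j.castSucc n) z))
    let eK : Stab d K xK → Stab (d + 1) G x := fun N =>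
      ⟨fun n => (N.1 n).map (LinearMap.ker (y n)).subtype, fun i n => by
        rintro _ ⟨_, ⟨z, hz, rfl⟩, rfl⟩
        induction i using Fin.lastCases with
        | last =>
          have h0 : x (Fin.last d) n z.1 = 0 := LinearMap.mem_ker.mp z.2
          show x (Fin.last d) n z.1 ∈ _
          rw [h0]; exact zero_mem _
        | cast i => exact ⟨xK i n z, N.2 i n ⟨z, hz, rfl⟩, rfl⟩⟩
    have heK : StrictMono eK := Monotone.strictMono_of_injective
      (fun a b h n => Submodule.map_mono (h n)) (fun a b h => Subtype.ext (funext fun n =>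
        Submodule.map_injective_of_injective (Submodule.injective_subtype _) (congrFun (congrArg Subtype.val h) n)))
    let eQ : Stab d Q xQ → Stab (d + 1) G x := fun N =>
      ⟨fun n => (N.1 n).comap (R n).mkQ, fun i n => by
        rintro _ ⟨z, hz, rfl⟩
        induction i using Fin.lastCases with
        | last =>
          show (R (n + 1)).mkQ (y n z) ∈ N.1 (n + 1)
          rw [show (R (n + 1)).mkQ (y n z) = 0 from (Submodule.Quotient.mk_eq_zero _).mpr ⟨z, rfl⟩]
          exact zero_mem _
        | cast i => exact N.2 i n ⟨_, hz, rfl⟩⟩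
    have heQ : StrictMono eQ := Monotone.strictMono_of_injective
      (fun a b h n => Submodule.comap_mono (h n)) (fun a b h => Subtype.ext (funext fun n =>
        Submodule.comap_injective_of_surjective (Submodule.mkQ_surjective _) (congrFun (congrArg Subtype.val h) n)))
    haveI := hwf
    have wK : WellFoundedGT (Stab d K xK) := ⟨Subrelation.wf (fun {a b} h => heK h) (InvImage.wf eK wellFounded_gt)⟩
    have wQ : WellFoundedGT (Stab d Q xQ) := ⟨Subrelation.wf (fun {a b} h => heQ h) (InvImage.wf eQ wellFounded_gt)⟩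
    have fK : ∀ n, Module.length A (K n) ≠ ⊤ := fun n =>
      ne_top_of_le_ne_top (hfin n) (Module.length_le_of_injective _ (Submodule.injective_subtype _))
    have fQ : ∀ n, Module.length A (Q n) ≠ ⊤ := fun n =>
      ne_top_of_le_ne_top (hfin n) (Module.length_le_of_surjective _ (Submodule.mkQ_surjective _))
    show DiffZero d _
    refine DiffZero.congr ((ih Q xQ hcQ wQ fQ).shift.sub (ih K xK hcK wK fK)) ⟨0, fun n _ => ?_⟩
    have h1 : Module.length A (G n) = Module.length A (K n) + Module.length A (LinearMap.range (y n)) :=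
      Module.length_eq_add_of_exact (LinearMap.ker (y n)).subtype (y n).rangeRestrict
        (Submodule.injective_subtype _) (y n).surjective_rangeRestrict
        (fun z => by
          simp only [LinearMap.rangeRestrict, LinearMap.codRestrict_apply, Subtype.ext_iff]
          exact ⟨fun h => ⟨⟨z, h⟩, rfl⟩, by rintro ⟨w, rfl⟩; exact w.2⟩)
    have h2 : Module.length A (G (n + 1)) = Module.length A (LinearMap.range (y n)) + Module.length A (Q (n + 1)) :=
      Module.length_eq_add_of_exact (LinearMap.range (y n)).subtype (R (n + 1)).mkQ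
        (Submodule.injective_subtype _) (Submodule.mkQ_surjective _) (LinearMap.exact_subtype_mkQ _)
    have fr : Module.length A (LinearMap.range (y n)) ≠ ⊤ :=
      ne_top_of_le_ne_top (hfin (n + 1)) (Module.length_le_of_injective _ (Submodule.injective_subtype _))
    rw [← ENat.natCast_toNat (hfin n), ← ENat.natCast_toNat (fK n), ← ENat.natCast_toNat fr] at h1
    rw [← ENat.natCast_toNat (hfin (n + 1)), ← ENat.natCast_toNat (fQ (n + 1)), ← ENat.natCast_toNat fr] at h2
    norm_cast at h1 h2
    simp only [Pi.sub_apply]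
    omega

end Groth.L06.HilbertSystem
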