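import Groth.Agent.L06.CplKaehler
import Groth.Agent.L06.SepKaehler
import Groth.Agent.L06.FormSmoothField2
import Mathlib.RingTheory.RegularLocalRing.Defs
import Mathlib.LinearAlgebra.Matrix.NonsingularInverse

/-! Completed differentials of a formally smooth complete local algebra over a field. -/

set_option autoImplicit false
set_option maxSynthPendingDepth 3
set_option linter.style.haveILetI false
universe u

namespace Groth.L06.CplKaehlerSmooth

open IsLocalRing Groth.L06.FormSmooth
open scoped TensorProduct

variable {k A : Type u} [Field k] [CommRing A] [IsLocalRing A] [Algebra k A]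

theorem range_diffMap :
    ∀ z, (KaehlerDifferential.map ℤ k A A).baseChange (ResidueField A) z = 0 ↔ z ∈ LinearMap.range (diffMap k A) := by
  intro z
  have hex := lTensor_exact (ResidueField A) (KaehlerDifferential.exact_mapBaseChange_map ℤ k A) (KaehlerDifferential.map_surjective ℤ k A)
  have he : ∀ x, (KaehlerDifferential.mapBaseChange ℤ k A).lTensor (ResidueField A) x =
      diffMap k A (TensorProduct.AlgebraTensorModule.cancelBaseChange k A A (ResidueField A) (Ω[k⁄ℤ]) x) := by
    intro x
    induction x using TensorProduct.induction_on with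
    | zero => simp
    | add a b ha hb => simp only [map_add, ha, hb]
    | tmul c y =>
      induction y using TensorProduct.induction_on with
      | zero => simp
      | add a b ha hb => simp only [TensorProduct.tmul_add, map_add, ha, hb]
      | tmul a w =>
        rw [LinearMap.lTensor_tmul, KaehlerDifferential.mapBaseChange_tmul, TensorProduct.AlgebraTensorModule.cancelBaseChange_tmul]
        show _ = LinearMap.liftBaseChange (ResidueField A) _ _
        rw [LinearMap.liftBaseChange_tmul]
        show c ⊗ₜ[A] (a • KaehlerDifferential.map ℤ ℤ k A w) = (a • c) • ((1 : ResidueField A) ⊗ₜ[A] KaehlerDifferential.map ℤ ℤ k A w)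
        rw [TensorProduct.smul_tmul', smul_eq_mul, mul_one, ← TensorProduct.smul_tmul]
  rw [show (KaehlerDifferential.map ℤ k A A).baseChange (ResidueField A) z =
    (KaehlerDifferential.map ℤ k A A).lTensor (ResidueField A) z from rfl]
  refine (hex z).trans ⟨fun ⟨x, hx⟩ => ⟨_, (he x).symm.trans hx⟩, fun ⟨x, hx⟩ => ?_⟩
  obtain ⟨y, rfl⟩ := (TensorProduct.AlgebraTensorModule.cancelBaseChange k A A (ResidueField A) (Ω[k⁄ℤ])).surjective x
  exact ⟨y, (he y).trans hx⟩

include k in
theorem tmul_D_eq_zero {G : A} (hGm : G ∈ maximalIdeal A)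
    (h : (1 : A ⧸ maximalIdeal A) ⊗ₜ[A] KaehlerDifferential.D ℤ A G = 0) : G ∈ maximalIdeal A ^ 2 := by
  by_contra hG
  obtain ⟨δ, hδm, -, hne⟩ := exists_der_of_notMem_sq (k := k) hG hGm
  have hl : ∀ y, δ.liftKaehlerDifferential y ∈ (maximalIdeal A).map (Ideal.Quotient.mk (maximalIdeal A ^ 2)) := by
    intro y
    induction (KaehlerDifferential.span_range_derivation ℤ A ▸ Submodule.mem_top :
        y ∈ Submodule.span A (Set.range (KaehlerDifferential.D ℤ A))) using Submodule.span_induction with
    | mem x hx => obtain ⟨a, rfl⟩ := hx; rw [Derivation.liftKaehlerDifferential_comp_D]; exact hδm a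
    | zero => rw [map_zero]; exact zero_mem _
    | add a b _ _ ha hb => rw [map_add]; exact add_mem ha hb
    | smul r a _ ha => rw [map_smul, Algebra.smul_def]; exact Ideal.mul_mem_left _ _ ha
  have h1 := Groth.L06.CplKaehler.mem_smul_top_of_tmul_eq_zero (maximalIdeal A) h
  refine hne ?_
  rw [← Derivation.liftKaehlerDifferential_comp_D δ]
  refine Submodule.smul_induction_on h1 (fun a ha y _ => ?_) (fun x y hx hy => by rw [map_add, hx, hy, add_zero])
  rw [map_smul, Algebra.smul_def, Ideal.Quotient.algebraMap_eq]
  have h2 := Ideal.mul_mem_mul (Ideal.mem_map_of_mem (Ideal.Quotient.mk (maximalIdeal A ^ 2)) ha) (hl y)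
  rwa [← pow_two, ← Ideal.map_pow, Ideal.map_quotient_self, Ideal.mem_bot] at h2

include k in
theorem ker_mapBaseChange [IsNoetherianRing A] :
    Module.Finite (ResidueField A) (LinearMap.ker (KaehlerDifferential.mapBaseChange ℤ A (ResidueField A))) ∧
      Module.finrank (ResidueField A) (LinearMap.ker (KaehlerDifferential.mapBaseChange ℤ A (ResidueField A))) =
        Module.finrank (ResidueField A) (CotangentSpace A) := by
  let v := KaehlerDifferential.mapBaseChange ℤ A (ResidueField A)
  have hsurj : Function.Surjective (algebraMap A (ResidueField A)) := residue_surjective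
  let f0 : maximalIdeal A →ₗ[A] ResidueField A ⊗[A] Ω[A⁄ℤ] :=
    { toFun := fun x => 1 ⊗ₜ KaehlerDifferential.D ℤ A (x : A)
      map_add' := fun x y => by rw [Submodule.coe_add, map_add, TensorProduct.tmul_add]
      map_smul' := fun a x => by
        rw [SetLike.val_smul, smul_eq_mul, Derivation.leibniz, TensorProduct.tmul_add, RingHom.id_apply,
          TensorProduct.tmul_smul, TensorProduct.tmul_smul, ← algebraMap_smul (ResidueField A) (x : A),
          show algebraMap A (ResidueField A) (x : A) = 0 from (residue_eq_zero_iff _).mpr x.2, zero_smul, add_zero] }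
  have hker : LinearMap.ker f0 = maximalIdeal A • ⊤ := by
    refine le_antisymm (fun x hx => ?_) (Submodule.smul_le.mpr fun a ha y _ => ?_)
    · rw [Submodule.mem_smul_top_iff, smul_eq_mul, ← pow_two]
      exact tmul_D_eq_zero (k := k) x.2 hx
    · show f0 (a • y) = 0
      rw [map_smul, ← algebraMap_smul (ResidueField A) a,
        show algebraMap A (ResidueField A) a = 0 from (residue_eq_zero_iff _).mpr ha, zero_smul]
  let f1 : CotangentSpace A →ₗ[A] ResidueField A ⊗[A] Ω[A⁄ℤ] := Submodule.liftQ _ f0 hker.ge
  let f : CotangentSpace A →ₗ[ResidueField A] ResidueField A ⊗[A] Ω[A⁄ℤ] := f1.extendScalarsOfSurjective hsurj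
  have hf : ∀ x, f ((maximalIdeal A).toCotangent x) = f0 x := fun _ => rfl
  have hinj : Function.Injective f := by
    refine (injective_iff_map_eq_zero _).mpr fun c hc => ?_
    obtain ⟨x, rfl⟩ := (maximalIdeal A).toCotangent_surjective c
    rw [Ideal.toCotangent_eq_zero]
    exact tmul_D_eq_zero (k := k) x.2 ((hf x).symm.trans hc)
  have hrange : LinearMap.range f = LinearMap.ker v := by
    refine le_antisymm ?_ fun z hz => ?_
    · rintro _ ⟨c, rfl⟩
      obtain ⟨x, rfl⟩ := (maximalIdeal A).toCotangent_surjective c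
      show v (1 ⊗ₜ KaehlerDifferential.D ℤ A (x : A)) = 0
      rw [KaehlerDifferential.mapBaseChange_tmul, one_smul, KaehlerDifferential.map_D,
        show algebraMap A (ResidueField A) (x : A) = 0 from (residue_eq_zero_iff _).mpr x.2, map_zero]
    · obtain ⟨c, hc⟩ := (KaehlerDifferential.exact_kerCotangentToTensor_mapBaseChange ℤ A (ResidueField A) hsurj z).mp hz
      obtain ⟨⟨x, hx⟩, rfl⟩ := Ideal.toCotangent_surjective _ c
      rw [KaehlerDifferential.kerCotangentToTensor_toCotangent] at hc
      exact ⟨(maximalIdeal A).toCotangent ⟨x, (residue_eq_zero_iff x).mp hx⟩, hc⟩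
  rw [show KaehlerDifferential.mapBaseChange ℤ A (ResidueField A) = v from rfl, ← hrange]
  exact ⟨inferInstance, LinearMap.finrank_range_of_inj hinj⟩

open Groth.L03.CartierEq in
omit [Field k] [IsLocalRing A] [Algebra k A] in
/-- Cartier's equality as an index -/
theorem index_base (k K : Type u) [Field k] [Field K] [Algebra k K] [Algebra.EssFiniteType k K] :
    index (KaehlerDifferential.mapBaseChange ℤ k K) = -(Cardinal.toNat (Algebra.trdeg k K) : ℤ) := by
  obtain ⟨-, -, hc⟩ := Groth.L06.SepKaehler.finrank_kaehler_eq k K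
  rw [index, ((Submodule.quotEquivOfEq _ _ ((KaehlerDifferential.exact_mapBaseChange_map ℤ k
    K).linearMap_ker_eq).symm).trans (LinearMap.quotKerEquivOfSurjective _
    (KaehlerDifferential.map_surjective ℤ k K))).finrank_eq]
  unfold EGA41.imperfection at hc
  omega

open Groth.L03.CartierEq in
/-- `dim_K (K ⊗ Ω_{A/k}) = dim 𝔪/𝔪² + trdeg K` -/
theorem finrank_tensor_kaehler [IsNoetherianRing A] (h : Function.Injective (diffMap k A))
    [Algebra.EssFiniteType k (ResidueField A)]
    [Module.Finite (ResidueField A) (ResidueField A ⊗[A] Ω[A⁄k])] :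
    Module.finrank (ResidueField A) (ResidueField A ⊗[A] Ω[A⁄k]) =
      Module.finrank (ResidueField A) (CotangentSpace A) + Cardinal.toNat (Algebra.trdeg k (ResidueField A)) := by
  let u := diffMap k A
  let v := KaehlerDifferential.mapBaseChange ℤ A (ResidueField A)
  let w := (KaehlerDifferential.map ℤ k A A).baseChange (ResidueField A)
  obtain ⟨hkv, hkv'⟩ := ker_mapBaseChange (k := k) (A := A)
  have hv : Function.Surjective v := KaehlerDifferential.mapBaseChange_surjective ℤ A (ResidueField A) residue_surjective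
  have hw : Function.Surjective w := LinearMap.lTensor_surjective _ (KaehlerDifferential.map_surjective ℤ k A)
  have hru : LinearMap.ker w = LinearMap.range u := SetLike.ext fun z => range_diffMap z
  let eu := (Submodule.quotEquivOfEq _ _ hru.symm).trans (w.quotKerEquivOfSurjective hw)
  haveI : Module.Finite (ResidueField A) ((ResidueField A ⊗[A] Ω[A⁄ℤ]) ⧸ LinearMap.range u) := Module.Finite.equiv eu.symm
  haveI : Subsingleton ((Ω[ResidueField A⁄ℤ]) ⧸ LinearMap.range v) :=
    Submodule.Quotient.subsingleton_iff.mpr (LinearMap.range_eq_top.mpr hv)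
  have hku : LinearMap.ker u = ⊥ := LinearMap.ker_eq_bot.mpr h
  have hfu : Fred u := ⟨by rw [hku]; infer_instance, inferInstance⟩
  have hfv : Fred v := ⟨hkv, inferInstance⟩
  obtain ⟨-, hi⟩ := index_comp u v hfu hfv
  have hvu : v.comp u = KaehlerDifferential.mapBaseChange ℤ k (ResidueField A) := by
    refine LinearMap.ext fun z => ?_
    induction z using TensorProduct.induction_on with
    | zero => simp
    | add a b ha hb => simp only [map_add, ha, hb]
    | tmul c y =>
      induction (KaehlerDifferential.span_range_derivation ℤ k ▸ Submodule.mem_top :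
          y ∈ Submodule.span k (Set.range (KaehlerDifferential.D ℤ k))) using Submodule.span_induction generalizing c with
      | mem y hy =>
        obtain ⟨a, rfl⟩ := hy
        show v (u (c ⊗ₜ KaehlerDifferential.D ℤ k a)) = _
        rw [diffMap_tmul, KaehlerDifferential.mapBaseChange_tmul, KaehlerDifferential.mapBaseChange_tmul,
          KaehlerDifferential.map_D, KaehlerDifferential.map_D]
        rfl
      | zero => simp
      | add a b _ _ ha hb => simp only [TensorProduct.tmul_add, map_add, ha, hb]
      | smul r a _ ha => rw [← TensorProduct.smul_tmul]; exact ha _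
  have e1 : index u = -(Module.finrank (ResidueField A) (ResidueField A ⊗[A] Ω[A⁄k]) : ℤ) := by
    rw [index, hku, finrank_bot, eu.finrank_eq]; simp
  have e2 : index v = Module.finrank (ResidueField A) (CotangentSpace A) := by
    rw [index, hkv', Module.finrank_zero_of_subsingleton (M := (Ω[ResidueField A⁄ℤ]) ⧸ LinearMap.range v)]; simp
  have e3 : index (v.comp u) = -(Cardinal.toNat (Algebra.trdeg k (ResidueField A)) : ℤ) := by
    rw [hvu]; exact index_base k (ResidueField A)
  omega

/-- lift of a derivation to the residue field -/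
theorem exists_der_lift_pow (hfs : CAlgX.IsAdicFormallySmooth k A (maximalIdeal A)) (n : ℕ) (hn : n ≠ 0)
    (δ : Derivation k A (A ⧸ maximalIdeal A)) :
    ∃ D : Derivation k A (A ⧸ maximalIdeal A ^ n), ∀ a, Ideal.Quotient.factor (Ideal.pow_le_self hn) (D a) = δ a := by
  let R := A ⧸ maximalIdeal A ^ n
  let π : A ⧸ maximalIdeal A ^ n →+* A ⧸ maximalIdeal A := Ideal.Quotient.factor (Ideal.pow_le_self hn)
  let J : Ideal (TrivSqZeroExt (A ⧸ maximalIdeal A ^ n) (A ⧸ maximalIdeal A ^ n)) :=
    { carrier := {z | z.fst = 0 ∧ π z.snd = 0}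
      add_mem' := fun {a b} ha hb => ⟨by rw [TrivSqZeroExt.fst_add, ha.1, hb.1, add_zero],
        by rw [TrivSqZeroExt.snd_add, map_add, ha.2, hb.2, add_zero]⟩
      zero_mem' := ⟨rfl, map_zero π⟩
      smul_mem' := fun c z hz => ⟨by rw [smul_eq_mul, TrivSqZeroExt.fst_mul, hz.1, mul_zero],
        by rw [smul_eq_mul, TrivSqZeroExt.snd_mul, op_smul_eq_smul, map_add, smul_eq_mul, smul_eq_mul, map_mul, map_mul, hz.1, hz.2,
          map_zero, mul_zero, zero_mul, add_zero]⟩ }
  have hJ : J ^ 2 = ⊥ := by
    rw [eq_bot_iff, pow_two, Ideal.mul_le]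
    intro a ha b hb
    rw [Ideal.mem_bot]
    ext <;> simp [ha.1, hb.1]
  choose σ hσ using fun a => Ideal.Quotient.factor_surjective (Ideal.pow_le_self hn) (δ a)
  let g : A → TrivSqZeroExt (A ⧸ maximalIdeal A ^ n) (A ⧸ maximalIdeal A ^ n) := fun a =>
    TrivSqZeroExt.inl (Ideal.Quotient.mk _ a) + TrivSqZeroExt.inr (σ a)
  have hg : ∀ a z, z.fst = Ideal.Quotient.mk _ a → π z.snd = δ a → Ideal.Quotient.mk J (g a) = Ideal.Quotient.mk J z :=
    fun a z h1 h2 => Ideal.Quotient.eq.mpr ⟨by simp [g, h1], by
      rw [TrivSqZeroExt.snd_sub, map_sub, h2]; simp [g, π, hσ]⟩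
  let ψ : A →ₐ[k] _ ⧸ J :=
    { toFun := fun a => Ideal.Quotient.mk J (g a)
      map_one' := (hg 1 1 rfl (by simp)).trans (map_one _)
      map_mul' := fun a b => (hg (a * b) (g a * g b) (by simp [g]) (by
        simp only [g, TrivSqZeroExt.snd_mul, op_smul_eq_smul, smul_eq_mul, map_add, map_mul, TrivSqZeroExt.fst_add,
          TrivSqZeroExt.fst_inl, TrivSqZeroExt.fst_inr, TrivSqZeroExt.snd_add, TrivSqZeroExt.snd_inl,
          TrivSqZeroExt.snd_inr, add_zero, zero_add, π, hσ, Derivation.leibniz]
        rw [Algebra.smul_def, Algebra.smul_def]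
        rfl)).trans (map_mul _ _ _)
      map_zero' := (hg 0 0 (by simp) (by simp)).trans (map_zero _)
      map_add' := fun a b => (hg (a + b) (g a + g b) (by simp [g]) (by simp [g, π, hσ])).trans (map_add _ _ _)
      commutes' := fun r => (hg _ (algebraMap k _ r) rfl (by
        rw [δ.map_algebraMap]; exact map_zero π)) }
  obtain ⟨χ, hχ⟩ := hfs _ J hJ ψ ⟨n + 1, fun x hx => by
    refine (hg x 0 ?_ ?_).trans (map_zero _)
    · exact (Ideal.Quotient.eq_zero_iff_mem.mpr (Ideal.pow_le_pow_right (Nat.le_succ n) hx)).symm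
    · have h1 : δ x ∈ maximalIdeal A • (⊤ : Submodule A (A ⧸ maximalIdeal A)) := by
        have h2 : x ∈ maximalIdeal A ^ (1 + 1) := Ideal.pow_le_pow_right (by omega) hx
        simpa [pow_one] using Groth.L06.CplKaehler.der_pow_mem (maximalIdeal A) δ 1 x h2
      rw [TrivSqZeroExt.snd_zero, map_zero, eq_comm]
      refine Submodule.smul_induction_on h1 (fun a ha y _ => ?_) (fun x y hx hy => by rw [hx, hy, add_zero])
      rw [Algebra.smul_def, Ideal.Quotient.algebraMap_eq, Ideal.Quotient.eq_zero_iff_mem.mpr ha, zero_mul]⟩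
  have hd : ∀ a, χ a - g a ∈ J := fun a => Ideal.Quotient.eq.mp (DFunLike.congr_fun hχ a)
  have hfst : ∀ a, (χ a).fst = Ideal.Quotient.mk _ a := fun a => by
    have := (hd a).1
    simpa [g, sub_eq_zero] using this
  refine ⟨Derivation.mk'
    { toFun := fun a => (χ a).snd
      map_add' := fun a b => by rw [map_add, TrivSqZeroExt.snd_add]
      map_smul' := fun r a => by rw [map_smul, TrivSqZeroExt.snd_smul, RingHom.id_apply] } fun a b => ?_, fun a => ?_⟩
  · show (χ (a * b)).snd = a • (χ b).snd + b • (χ a).snd
    rw [map_mul, TrivSqZeroExt.snd_mul, hfst, hfst, op_smul_eq_smul]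
    rfl
  · have := (hd a).2
    rw [TrivSqZeroExt.snd_sub, map_sub, sub_eq_zero] at this
    show π (χ a).snd = δ a
    rw [this]
    simp [g, π, hσ]

/-- Completed differentials are free. -/
theorem free_completed [IsNoetherianRing A] [IsAdicComplete (maximalIdeal A) A]
    (hfs : CAlgX.IsAdicFormallySmooth k A (maximalIdeal A))
    [Module.Finite (ResidueField A) (ResidueField A ⊗[A] Ω[A⁄k])] :
    Module.Finite A (AdicCompletion (maximalIdeal A) (Ω[A⁄k])) ∧ Module.Free A (AdicCompletion (maximalIdeal A) (Ω[A⁄k])) ∧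
      Module.finrank A (AdicCompletion (maximalIdeal A) (Ω[A⁄k])) =
        Module.finrank (ResidueField A) (ResidueField A ⊗[A] Ω[A⁄k]) := by
  classical
  have hspan : Submodule.span (ResidueField A) (Set.range fun x : A => (1 : ResidueField A) ⊗ₜ[A] KaehlerDifferential.D k A x) = ⊤ := by
    refine Submodule.eq_top_iff'.mpr fun z => ?_
    induction z using TensorProduct.induction_on with
    | zero => exact zero_mem _
    | add a b ha hb => exact add_mem ha hb
    | tmul c w =>
      induction (KaehlerDifferential.span_range_derivation k A ▸ Submodule.mem_top :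
          w ∈ Submodule.span A (Set.range (KaehlerDifferential.D k A))) using Submodule.span_induction generalizing c with
      | mem y hy =>
        obtain ⟨a, rfl⟩ := hy
        have := Submodule.smul_mem (Submodule.span (ResidueField A) (Set.range fun x : A => (1 : ResidueField A) ⊗ₜ[A] KaehlerDifferential.D k A x)) c (Submodule.subset_span ⟨a, rfl⟩)
        rwa [TensorProduct.smul_tmul', smul_eq_mul, mul_one] at this
      | zero => rw [TensorProduct.tmul_zero]; exact zero_mem _
      | add a b _ _ ha hb => rw [TensorProduct.tmul_add]; exact add_mem (ha c) (hb c)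
      | smul r a _ ha => rw [← TensorProduct.smul_tmul]; exact ha _
  obtain ⟨b, hb, hsp, hli⟩ := exists_linearIndependent (ResidueField A)
    (Set.range fun x : A => (1 : ResidueField A) ⊗ₜ[A] KaehlerDifferential.D k A x)
  let bas : Module.Basis b (ResidueField A) (ResidueField A ⊗[A] Ω[A⁄k]) :=
    Module.Basis.mk hli (by rw [Subtype.range_coe, hsp, hspan])
  haveI : Fintype b := @Fintype.ofFinite _ (Module.Finite.finite_basis bas)
  choose xx hxx using fun i : b => hb i.2
  let r := Fintype.card b
  let e := (Fintype.equivFin b).symm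
  let x : Fin r → A := fun j => xx (e j)
  have hx : ∀ j, (1 : ResidueField A) ⊗ₜ[A] KaehlerDifferential.D k A (x j) = bas (e j) := fun j => by
    exact (hxx (e j)).trans (by simp [bas])
  have hgen : Submodule.span A (Set.range fun j => KaehlerDifferential.D k A (x j)) ⊔
      maximalIdeal A • (⊤ : Submodule A (Ω[A⁄k])) = ⊤ := by
    refine Submodule.eq_top_iff'.mpr fun z => ?_
    choose c hc using fun j => residue_surjective (bas.repr ((1 : ResidueField A) ⊗ₜ[A] z) (e j))
    have h0 : z - ∑ j, c j • KaehlerDifferential.D k A (x j) ∈ maximalIdeal A • (⊤ : Submodule A (Ω[A⁄k])) := by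
      refine Groth.L06.CplKaehler.mem_smul_top_of_tmul_eq_zero _ ?_
      show (1 : ResidueField A) ⊗ₜ[A] _ = 0
      rw [TensorProduct.tmul_sub, TensorProduct.tmul_sum, sub_eq_zero]
      conv_lhs => rw [← bas.sum_repr ((1 : ResidueField A) ⊗ₜ[A] z), ← e.sum_comp]
      refine Finset.sum_congr rfl fun j _ => ?_
      rw [← hc, TensorProduct.tmul_smul, hx, ← algebraMap_smul (ResidueField A) (c j)]
      rfl
    rw [← sub_add_cancel z (∑ j, c j • KaehlerDifferential.D k A (x j))]
    exact add_mem (Submodule.mem_sup_right h0)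
      (Submodule.mem_sup_left (Submodule.sum_mem _ fun j _ => Submodule.smul_mem _ _ (Submodule.subset_span ⟨j, rfl⟩)))
  obtain ⟨h1, h2, h3⟩ := Groth.L06.CplKaehler.free_completion (maximalIdeal A) _ hgen fun n c hc j => by
    rcases eq_or_ne n 0 with rfl | hn
    · rw [pow_zero, Ideal.one_eq_top]; trivial
    let l : Fin r → (Ω[A⁄k] →ₗ[A] (A ⧸ maximalIdeal A)) := fun i =>
      ((bas.coord (e i)).restrictScalars A).comp ((TensorProduct.mk A (ResidueField A) (Ω[A⁄k])) 1)
    let δ : Fin r → Derivation k A (A ⧸ maximalIdeal A) := fun i => (l i).compDer (KaehlerDifferential.D k A)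
    have hδ : ∀ i j, δ i (x j) = if j = i then 1 else 0 := fun i j => by
      show bas.coord (e i) ((1 : ResidueField A) ⊗ₜ[A] KaehlerDifferential.D k A (x j)) = _
      rw [hx, Module.Basis.coord_apply, Module.Basis.repr_self, Finsupp.single_apply]
      simp [e.injective.eq_iff]
      split <;> rfl
    choose D hD using fun i => exists_der_lift_pow hfs n hn (δ i)
    let M : Matrix (Fin r) (Fin r) (A ⧸ maximalIdeal A ^ n) := Matrix.of fun i j => D i (x j)
    have hM : M.map (Ideal.Quotient.factor (Ideal.pow_le_self hn)) = 1 := by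
      ext i j
      rw [Matrix.map_apply, show M i j = D i (x j) from rfl, hD, hδ, Matrix.one_apply]
      simp [eq_comm]
    have hdet : IsUnit M.det := by
      obtain ⟨d, hd⟩ := Ideal.Quotient.mk_surjective M.det
      rw [← hd]
      refine IsUnit.map _ (IsLocalRing.notMem_maximalIdeal.mp fun hdm => ?_)
      have h1 : Ideal.Quotient.factor (Ideal.pow_le_self hn) M.det = 1 := by
        rw [RingHom.map_det, RingHom.mapMatrix_apply, hM, Matrix.det_one]
      rw [← hd, Ideal.Quotient.factor_mk, Ideal.Quotient.eq_zero_iff_mem.mpr hdm] at h1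
      exact zero_ne_one h1
    have hMc : M.mulVec (fun j => Ideal.Quotient.mk (maximalIdeal A ^ n) (c j)) = 0 := by
      funext i
      have := Submodule.mem_map_of_mem (f := (D i).liftKaehlerDifferential) hc
      rw [Submodule.map_smul''] at this
      have h0 : ∀ w ∈ maximalIdeal A ^ n • Submodule.map (D i).liftKaehlerDifferential ⊤, w = 0 := fun w hw =>
        Submodule.smul_induction_on hw (fun a ha y _ => by
          rw [Algebra.smul_def, Ideal.Quotient.algebraMap_eq, Ideal.Quotient.eq_zero_iff_mem.mpr ha, zero_mul])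
          (fun x y hx hy => by rw [hx, hy, add_zero])
      have h5 := h0 _ this
      rw [map_sum] at h5
      rw [Matrix.mulVec, dotProduct, Pi.zero_apply, ← h5]
      refine Finset.sum_congr rfl fun j _ => ?_
      rw [map_smul, Derivation.liftKaehlerDifferential_comp_D, Algebra.smul_def, mul_comm]
      rfl
    have h6 := congrArg M⁻¹.mulVec hMc
    rw [Matrix.mulVec_mulVec, Matrix.nonsing_inv_mul _ hdet, Matrix.one_mulVec, Matrix.mulVec_zero] at h6
    exact Ideal.Quotient.eq_zero_iff_mem.mp (congrFun h6 j)
  exact ⟨h1, h2, by rw [h3, Module.finrank_eq_card_basis bas]⟩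

theorem finite_tensor_kaehler [IsNoetherianRing A] [Algebra.EssFiniteType k (ResidueField A)] :
    Module.Finite (ResidueField A) (ResidueField A ⊗[A] Ω[A⁄k]) := by
  haveI : Algebra.EssFiniteType k (A ⧸ maximalIdeal A) := ‹Algebra.EssFiniteType k (ResidueField A)›
  haveI : Module.Finite A (maximalIdeal A) := Module.Finite.iff_fg.mpr ((isNoetherianRing_iff_ideal_fg A).mp inferInstance _)
  haveI : Module.Finite A (maximalIdeal A).Cotangent := Module.Finite.of_surjective _ (maximalIdeal A).toCotangent_surjective
  haveI : Module.Finite (A ⧸ maximalIdeal A) (maximalIdeal A).Cotangent := Module.Finite.of_restrictScalars_finite A _ _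
  obtain ⟨r, g, hg⟩ := Groth.L06.CplKaehler.exists_generators (A := k) (maximalIdeal A)
  let f : (Fin r → ResidueField A) →ₗ[ResidueField A] ResidueField A ⊗[A] Ω[A⁄k] :=
    Fintype.linearCombination (ResidueField A) fun j => 1 ⊗ₜ g j
  have h : ∀ z ∈ Submodule.span A (Set.range g) ⊔ maximalIdeal A • (⊤ : Submodule A (Ω[A⁄k])),
      (1 : ResidueField A) ⊗ₜ[A] z ∈ LinearMap.range f := by
    intro z hz
    obtain ⟨y, hy, w, hw, rfl⟩ := Submodule.mem_sup.mp hz
    clear hz
    rw [TensorProduct.tmul_add]
    refine add_mem ?_ ?_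
    · induction hy using Submodule.span_induction with
      | mem y hy => obtain ⟨j, rfl⟩ := hy; exact ⟨Pi.single j 1, by simp [f, Fintype.linearCombination_apply_single]⟩
      | zero => rw [TensorProduct.tmul_zero]; exact zero_mem _
      | add a b _ _ ha hb => rw [TensorProduct.tmul_add]; exact add_mem ha hb
      | smul c a _ ha =>
        rw [TensorProduct.tmul_smul, ← algebraMap_smul (ResidueField A) c]
        exact Submodule.smul_mem _ _ ha
    · rw [show (1 : ResidueField A) ⊗ₜ[A] w = 0 from ?_]
      · exact zero_mem _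
      refine Submodule.smul_induction_on hw (fun a ha v _ => ?_) (fun a b ha hb => by rw [TensorProduct.tmul_add, ha, hb, add_zero])
      rw [TensorProduct.tmul_smul, ← algebraMap_smul (ResidueField A) a,
        show algebraMap A (ResidueField A) a = 0 from (residue_eq_zero_iff a).mpr ha, zero_smul]
  refine Module.Finite.of_surjective f (LinearMap.range_eq_top.mp (Submodule.eq_top_iff'.mpr fun z => ?_))
  induction z using TensorProduct.induction_on with
  | zero => exact zero_mem _
  | add a b ha hb => exact add_mem ha hb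
  | tmul c w =>
    have h1 := Submodule.smul_mem (LinearMap.range f) c (h w (by rw [hg]; trivial))
    rwa [TensorProduct.smul_tmul', smul_eq_mul, mul_one] at h1

end Groth.L06.CplKaehlerSmooth
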