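import Groth.Agent.L06.FrobSplit
import Groth.Agent.L12.FrobLift.Pow
import Groth.Agent.L18.Ample

/-!
# Frobenius pull-back of invertible modules on Frobenius split schemes
-/

set_option autoImplicit false
set_option maxSynthPendingDepth 3
set_option linter.style.haveILetI false
set_option backward.isDefEq.respectTransparency.types false
set_option backward.isDefEq.respectTransparency false

universe u

open CategoryTheory CategoryTheory.Limits AlgebraicGeometry TopologicalSpace Opposite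

noncomputable section

namespace Groth.L06.FrobSplitTwist

open Groth.L18.Frame (rs ro rs_rs rs_self rs_smul ro_ro ro_self ro_mul IsFrame)
open Groth.L12.FrobLift (pf pf_rs pf_smul isFrame_pf)

variable {X : Scheme.{u}} {p : ℕ} (hp : p.Prime) (h0 : (p : Γ(X, ⊤)) = 0)
variable {L : X.Modules} (hL : PicF.IsInvertible L)

include hL in
theorem exists_frames (V : X.Opens) : ∃ (W : V → X.Opens) (hW : ∀ x, W x ≤ V),
    (V ≤ iSup W) ∧ ∀ x, ∃ e : Γ(L, W x), IsFrame L (W x) e := by
  have h : ∀ x : V, ∃ W : X.Opens, x.1 ∈ W ∧ W ≤ V ∧ ∃ e : Γ(L, W), IsFrame L W e := fun x => by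
    obtain ⟨W, e, hx, he⟩ := Groth.L18.Frame.exists_frame hL x.1
    exact ⟨W ⊓ V, ⟨hx, x.2⟩, inf_le_right, _, he.mono inf_le_left⟩
  choose W h1 h2 h3 using h
  exact ⟨W, h2, fun x hx => Opens.mem_iSup.2 ⟨⟨x, hx⟩, h1 _⟩, h3⟩

theorem sections_ext (M : X.Modules) {V : X.Opens} {ι : Type*} (W : ι → X.Opens)
    (hW : ∀ i, W i ≤ V) (hcov : V ≤ iSup W) {a b : Γ(M, V)}
    (h : ∀ i, rs M (hW i) a = rs M (hW i) b) : a = b := by
  let OM : TopCat.Sheaf Ab.{u} X.toTopCat := ⟨M.presheaf, M.isSheaf⟩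
  exact OM.eq_of_locally_eq' W V (fun i => homOfLE (hW i)) hcov a b h

include hp h0 hL in
theorem pf_add (V : X.Opens) (x y : Γ(L, V)) :
    pf (x + y) p = pf x p + pf y p := by
  obtain ⟨W, hW, hcov, hf⟩ := exists_frames hL V
  refine sections_ext _ W hW hcov fun i => ?_
  obtain ⟨e, he⟩ := hf i
  rw [show rs (CohB1.tensorPow L p) (hW i) (pf x p + pf y p) =
    rs (CohB1.tensorPow L p) (hW i) (pf x p) + rs (CohB1.tensorPow L p) (hW i) (pf y p) from
      map_add _ _ _, pf_rs, pf_rs, pf_rs]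
  rw [show rs L (hW i) (x + y) = rs L (hW i) x + rs L (hW i) y from map_add _ _ _]
  obtain ⟨a, ha⟩ := he.exists_coeff le_rfl (rs L (hW i) x)
  obtain ⟨b, hb⟩ := he.exists_coeff le_rfl (rs L (hW i) y)
  rw [rs_self] at ha hb
  rw [← ha, ← hb, ← add_smul, pf_smul, pf_smul, pf_smul, ← add_smul]
  congr 1
  exact W4c5etcohweilstudent.add_pow_prime_of_natCast_eq_zero p hp (by
    have h := congrArg (X.presheaf.map (homOfLE (le_top (a := W i))).op).hom h0
    rwa [map_natCast, map_zero] at h) a b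

variable (L) in
/-- The Frobenius pull-back on sections. -/
def powL : Coh.toAb L ⟶ Coh.toAb (CohB1.tensorPow L p) :=
  ⟨{ app := fun V => AddCommGrpCat.ofHom (AddMonoidHom.mk'
      (fun x : Γ(L, V.unop) => pf x p) (pf_add hp h0 hL V.unop))
     naturality := fun U V f => ConcreteCategory.hom_ext _ _ fun (x : Γ(L, U.unop)) =>
       (pf_rs (leOfHom f.unop) x p).symm }⟩

theorem powL_app (V : X.Opens) (x : Γ(L, V)) :
    (powL hp h0 L hL).hom.app (op V) x = pf x p := rfl

variable (s : Coh.toAb (Coh.structureModule X) ⟶ Coh.toAb (Coh.structureModule X))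

/-- The value of the splitting. -/
abbrev sv (V : X.Opens) (b : Γ(X, V)) : Γ(X, V) := s.hom.app (op V) b

theorem sv_ro {U V : X.Opens} (h : V ≤ U) (b : Γ(X, U)) : ro h (sv s U b) = sv s V (ro h b) :=
  (congrArg (fun g => g.hom b) (s.hom.naturality (homOfLE h).op)).symm

/-- `y` is the image of `x` under the twisted splitting. -/
def Spec' (V : X.Opens) (x : Γ(CohB1.tensorPow L p, V)) (y : Γ(L, V)) : Prop :=
  ∀ (W : X.Opens) (h : W ≤ V) (e : Γ(L, W)), IsFrame L W e → ∀ b : Γ(X, W),
    rs (CohB1.tensorPow L p) h x = b • pf e p → rs L h y = sv s W b • e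

include hL in
theorem spec_unique {V : X.Opens} {x : Γ(CohB1.tensorPow L p, V)} {y y' : Γ(L, V)}
    (h : Spec' s V x y) (h' : Spec' s V x y') : y = y' := by
  obtain ⟨W, hW, hcov, hf⟩ := exists_frames hL V
  refine sections_ext _ W hW hcov fun i => ?_
  obtain ⟨e, he⟩ := hf i
  obtain ⟨b, hb⟩ := (isFrame_pf he p).exists_coeff le_rfl (rs (CohB1.tensorPow L p) (hW i) x)
  rw [rs_self] at hb
  rw [h _ (hW i) e he b hb.symm, h' _ (hW i) e he b hb.symm]

include hL in
theorem exists_spec
    (hlin : ∀ (U : X.Opens) (a b : Γ(X, U)), sv s U (a ^ p * b) = a * sv s U b)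
    (V : X.Opens) (x : Γ(CohB1.tensorPow L p, V)) : ∃ y, Spec' (L := L) s V x y := by
  have key : ∀ {W : X.Opens} {e e' : Γ(L, W)}, IsFrame L W e → ∀ {b b' : Γ(X, W)},
      b • pf e p = b' • pf e' p → sv s W b • e = sv s W b' • e' := by
    intro W e e' he b b' h
    obtain ⟨c, hc⟩ := he.exists_coeff le_rfl e'
    rw [rs_self] at hc
    rw [← hc, pf_smul, ← mul_smul] at h
    have hb : b = b' * c ^ p := (isFrame_pf he p).inj le_rfl (by rwa [rs_self])
    rw [← hc, ← mul_smul, hb, mul_comm b' (c ^ p), hlin, mul_comm c]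
  obtain ⟨W, hW, hcov, hf⟩ := exists_frames hL V
  choose e he using hf
  choose b hb using fun i => (isFrame_pf (he i) p).exists_coeff le_rfl
    (rs (CohB1.tensorPow L p) (hW i) x)
  simp only [rs_self] at hb
  have step : ∀ (i : V) {W' : X.Opens} (h : W' ≤ W i),
      rs L h (sv s (W i) (b i) • e i) = sv s W' (ro h (b i)) • rs L h (e i) ∧
        ro h (b i) • pf (rs L h (e i)) p = rs (CohB1.tensorPow L p) (h.trans (hW i)) x := by
    intro i W' h
    refine ⟨by rw [rs_smul, sv_ro], ?_⟩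
    rw [← pf_rs h (e i) p, ← rs_smul, hb, rs_rs]
  let OM : TopCat.Sheaf Ab.{u} X.toTopCat := ⟨L.presheaf, L.isSheaf⟩
  obtain ⟨y, hy, -⟩ := OM.existsUnique_gluing' W V (fun i => homOfLE (hW i)) hcov
    (fun i => sv s (W i) (b i) • e i) fun i j => by
      show rs L inf_le_left (sv s (W i) (b i) • e i) = rs L inf_le_right (sv s (W j) (b j) • e j)
      rw [(step i inf_le_left).1, (step j inf_le_right).1]
      exact key ((he i).mono inf_le_left)
        ((step i inf_le_left).2.trans (step j inf_le_right).2.symm)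
  refine ⟨y, fun W' h e' he' b' hb' => ?_⟩
  refine sections_ext L (fun i => W' ⊓ W i) (fun i => inf_le_left)
    (fun z hz => by
      obtain ⟨i, hi⟩ := Opens.mem_iSup.1 (hcov (h hz))
      exact Opens.mem_iSup.2 ⟨i, hz, hi⟩) fun i => ?_
  have hy' : rs L (hW i) y = sv s (W i) (b i) • e i := hy i
  calc rs L (inf_le_left : W' ⊓ W i ≤ W') (rs L h y)
      = rs L (inf_le_right : W' ⊓ W i ≤ W i) (rs L (hW i) y) := by rw [rs_rs, rs_rs]
    _ = sv s _ (ro inf_le_right (b i)) • rs L inf_le_right (e i) := by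
        rw [hy', (step i inf_le_right).1]
    _ = sv s _ (ro inf_le_left b') • rs L inf_le_left e' := by
        refine key ((he i).mono inf_le_right) ((step i inf_le_right).2.trans ?_)
        rw [← pf_rs (inf_le_left : W' ⊓ W i ≤ W') e' p, ← rs_smul, ← hb', rs_rs]
    _ = rs L inf_le_left (sv s W' b' • e') := by rw [rs_smul, sv_ro]

include hp h0 hL in
theorem exists_retraction (φ : Coh.toAb (Coh.structureModule X) ⟶ Coh.toAb (Coh.structureModule X))
    (hφ : ∀ (U : X.Opens) (t : Γ(X, U)), φ.hom.app (op U) t = t ^ p)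
    (hs : φ ≫ s = 𝟙 _)
    (hlin : ∀ (U : X.Opens) (a b : Γ(X, U)), sv s U (a ^ p * b) = a * sv s U b) :
    ∃ t : Coh.toAb (CohB1.tensorPow L p) ⟶ Coh.toAb L, powL hp h0 L hL ≫ t = 𝟙 _ := by
  choose T hT using exists_spec hL s hlin
  have hadd : ∀ V x x', T V (x + x') = T V x + T V x' := by
    intro V x x'
    refine spec_unique hL s (hT V (x + x')) fun W h e he b hb => ?_
    obtain ⟨c, hc⟩ := (isFrame_pf he p).exists_coeff le_rfl (rs (CohB1.tensorPow L p) h x)
    obtain ⟨c', hc'⟩ := (isFrame_pf he p).exists_coeff le_rfl (rs (CohB1.tensorPow L p) h x')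
    rw [rs_self] at hc hc'
    have hbc : b = c + c' := (isFrame_pf he p).inj le_rfl (by
      rw [rs_self, ← hb, add_smul, hc, hc']; exact map_add _ _ _)
    rw [show rs L h (T V x + T V x') = rs L h (T V x) + rs L h (T V x') from map_add _ _ _,
      hT V x W h e he c hc.symm, hT V x' W h e he c' hc'.symm, ← add_smul, hbc]
    congr 1
    exact (map_add (s.hom.app (op W)).hom c c').symm
  have hnat : ∀ {U V : X.Opens} (h : V ≤ U) x, T V (rs _ h x) = rs L h (T U x) := by
    intro U V h x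
    refine spec_unique hL s (hT V _) fun W hW e he b hb => ?_
    rw [rs_rs] at hb ⊢
    exact hT U x W _ e he b hb
  refine ⟨⟨{ app := fun V => AddCommGrpCat.ofHom (AddMonoidHom.mk' (T V.unop) (hadd V.unop))
             naturality := fun U V g => ConcreteCategory.hom_ext _ _ fun x =>
               hnat (leOfHom g.unop) x }⟩, ?_⟩
  refine ObjectProperty.hom_ext _ (NatTrans.ext (funext fun U => ConcreteCategory.hom_ext _ _
    fun (y : Γ(L, U.unop)) => ?_))
  show T U.unop (pf y p) = y
  refine spec_unique hL s (hT U.unop _) fun W h e he b hb => ?_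
  obtain ⟨a, ha⟩ := he.exists_coeff le_rfl (rs L h y)
  rw [rs_self] at ha
  rw [pf_rs, ← ha, pf_smul] at hb
  have hba : b = a ^ p := (isFrame_pf he p).inj le_rfl (by rw [rs_self]; exact hb.symm)
  rw [← ha, hba]
  congr 1
  have e1 : sv s W (a ^ p) = a := by
    show s.hom.app (op W) (a ^ p) = a
    rw [← hφ W a]
    exact congrArg (fun g => g.hom.app (op W) a) hs
  exact e1.symm

theorem smulAb_powL (r : Coh.Γtop X) :
    Coh.smulAb L r ≫ powL hp h0 L hL =
      powL hp h0 L hL ≫ Coh.smulAb (CohB1.tensorPow L p) (r ^ p) := by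
  refine ObjectProperty.hom_ext _ (NatTrans.ext (funext fun U => ConcreteCategory.hom_ext _ _
    fun (x : Γ(L, U.unop)) => ?_))
  let a : Γ(X, U.unop) := Coh.resTop X U r
  show pf (a • x) p = (show Γ(X, U.unop) from Coh.resTop X U (r ^ p)) • pf x p
  rw [pf_smul]
  congr 1
  exact (map_pow (Coh.resTop X U) r p).symm

variable {k : Type u} [Field k] [X.Over (Spec (CommRingCat.of k))]

theorem H_powL_smul (n : ℕ) (c : k) (v : Coh.HH X L n) :
    Sheaf.H.map (powL hp h0 L hL) n (c • v) = c ^ p • Sheaf.H.map (powL hp h0 L hL) n v := by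
  let g := Coh.toGlobal (X ↘ Spec (CommRingCat.of k))
  show Sheaf.H.map (powL hp h0 L hL) n (Sheaf.H.map (Coh.smulAb _ (g c)) n v) =
    Sheaf.H.map (Coh.smulAb _ (g (c ^ p))) n (Sheaf.H.map (powL hp h0 L hL) n v)
  rw [← Sheaf.H.map_comp_apply, ← Sheaf.H.map_comp_apply, map_pow, smulAb_powL]

theorem finrank_le {p : ℕ} [Fact p.Prime] [CharP k p] [PerfectRing k p]
    [IsProper (X ↘ Spec (CommRingCat.of k))]
    (φ : Coh.toAb (Coh.structureModule X) ⟶ Coh.toAb (Coh.structureModule X))
    (hφ : ∀ (U : X.Opens) (t : Γ(X, U)), φ.hom.app (op U) t = t ^ p)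
    (s : Coh.toAb (Coh.structureModule X) ⟶ Coh.toAb (Coh.structureModule X))
    (hs : φ ≫ s = 𝟙 _)
    (hlin : ∀ (U : X.Opens) (a b : Γ(X, U)),
      s.hom.app (op U) (a ^ p * b) = a * @id Γ(X, U) (s.hom.app (op U) b))
    {L : X.Modules} (hL : PicF.IsInvertible L) (i : ℕ) :
    Module.finrank k (Coh.HH X L i) ≤ Module.finrank k (Coh.HH X (CohB1.tensorPow L p) i) := by
  have h0 : (p : Γ(X, ⊤)) = 0 := by
    have h := congrArg (Coh.toGlobal (X ↘ Spec (CommRingCat.of k))) (CharP.cast_eq_zero k p)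
    rwa [map_natCast, map_zero] at h
  have hp : p.Prime := Fact.out
  haveI : IsLocallyNoetherian X :=
    LocallyOfFiniteType.isLocallyNoetherian (X ↘ Spec (CommRingCat.of k))
  haveI := Groth.L16.ProperFinite.finite_HH k (X := X)
    (Groth.L16.ProperFinite.isCoh_of_isInvertible hL) i
  haveI := Groth.L16.ProperFinite.finite_HH k (X := X)
    (Groth.L16.ProperFinite.isCoh_of_isInvertible (Groth.L18.Ample.isInvertible_tensorPow hL p)) i
  haveI : ExpChar k p := ExpChar.prime hp
  obtain ⟨t, ht⟩ := exists_retraction hp h0 hL s φ hφ hs hlin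
  let f : Coh.HH X L i → Coh.HH X (CohB1.tensorPow L p) i := Sheaf.H.map (powL hp h0 L hL) i
  have hinj : Function.Injective f := fun v w h => by
    have e : Sheaf.H.map t i (f v) = Sheaf.H.map t i (f w) := congrArg _ h
    simp only [f, ← Sheaf.H.map_comp_apply, ht, Sheaf.H.map_id_apply] at e
    exact e
  let b := Module.finBasis k (Coh.HH X L i)
  have hli : LinearIndependent k (fun j => f (b j)) := by
    rw [Fintype.linearIndependent_iff]
    intro g hg
    choose g' hg' using fun j => (bijective_frobenius (R := k) (p := p)).2 (g j)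
    have h : ∑ j, g' j • b j = 0 := hinj (by
      show Sheaf.H.map (powL hp h0 L hL) i _ = Sheaf.H.map (powL hp h0 L hL) i 0
      rw [map_sum, map_zero, ← hg]
      refine Finset.sum_congr rfl fun j _ => ?_
      rw [H_powL_smul hp h0 hL i (g' j), ← hg' j]
      rfl)
    intro j
    rw [← hg' j, Fintype.linearIndependent_iff.1 b.linearIndependent g' h j, map_zero]
  simpa using hli.fintype_card_le_finrank

end Groth.L06.FrobSplitTwist
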