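import Groth.Prelude.Def_EGA4b
import Groth.Agent.S0564
import Groth.Agent.L01.Regular
import Mathlib.RingTheory.KrullDimension.Regular
import Mathlib.RingTheory.Spectrum.Prime.Noetherian
import Mathlib.RingTheory.Ideal.MinimalPrime.Noetherian
import Mathlib.RingTheory.Localization.Ideal
import Mathlib.RingTheory.Localization.LocalizationLocalization

/-! Nagata's criterion for openness of the regular locus. -/

set_option autoImplicit false
set_option linter.style.haveILetI false
universe u

namespace Groth.L06.RegLocus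

open IsLocalRing

/-- regular from a regular quotient by a prime generated by at most height many elements -/
theorem regular_of_quotient {R : Type u} [CommRing R] [IsLocalRing R] [IsNoetherianRing R] (P : Ideal R) [P.IsPrime]
    {n : ℕ} (x : Fin n → R) (hx : Ideal.span (Set.range x) = P) (hn : (n : ℕ∞) ≤ P.height)
    [IsRegularLocalRing (R ⧸ P)] : IsRegularLocalRing R := by
  classical
  refine IsRegularLocalRing.of_spanFinrank_maximalIdeal_le R ?_
  have hq : Function.Surjective (Ideal.Quotient.mk P) := Ideal.Quotient.mk_surjective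
  have fgq : (maximalIdeal (R ⧸ P)).FG := IsNoetherian.noetherian _
  let s : Set R := Set.range x ∪ Function.surjInv hq '' (maximalIdeal (R ⧸ P)).generators
  have hPm : P ≤ maximalIdeal R := le_maximalIdeal (Ideal.IsPrime.ne_top ‹_›)
  have hmap : (maximalIdeal R).map (Ideal.Quotient.mk P) = maximalIdeal (R ⧸ P) :=
    (Groth.L01.maximalIdeal_quotient_eq_map).symm
  have hspan : maximalIdeal R = Submodule.span R s := by
    have h2 : Submodule.span R s = P ⊔ Ideal.span (Function.surjInv hq '' (maximalIdeal (R ⧸ P)).generators) := by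
      exact (Submodule.span_union _ _).trans (congrArg (· ⊔ _) hx)
    have hc := Ideal.comap_map_of_surjective (Ideal.Quotient.mk P) hq (Ideal.span (Function.surjInv hq '' (maximalIdeal (R ⧸ P)).generators))
    rw [Ideal.map_span, ← Set.image_comp,
      show Ideal.Quotient.mk P ∘ Function.surjInv hq = id from funext (Function.surjInv_eq hq), Set.image_id,
      ← Ideal.submodule_span_eq, Submodule.span_generators, ← RingHom.ker_eq_comap_bot, Ideal.mk_ker] at hc
    have hc2 : (maximalIdeal (R ⧸ P)).comap (Ideal.Quotient.mk P) = maximalIdeal R := by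
      rw [← hmap, Ideal.comap_map_of_surjective (Ideal.Quotient.mk P) hq, ← RingHom.ker_eq_comap_bot, Ideal.mk_ker,
        sup_eq_left.mpr hPm]
    rw [h2, ← hc2, hc, sup_comm]
  have hfin : s.Finite := (Set.finite_range x).union ((Submodule.FG.finite_generators fgq).image _)
  have hcard : (maximalIdeal R).spanFinrank ≤ n + (maximalIdeal (R ⧸ P)).spanFinrank := by
    rw [hspan]
    refine (Submodule.spanFinrank_span_le_ncard_of_finite hfin).trans ((Set.ncard_union_le _ _).trans (add_le_add ?_ ?_))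
    · rw [← Nat.card_coe_set_eq]; exact (Finite.card_range_le x).trans (by simp)
    · exact ((Set.ncard_image_le (Submodule.FG.finite_generators fgq)).trans_eq (Submodule.FG.generators_ncard fgq))
  refine (Nat.cast_le.mpr hcard).trans ?_
  rw [Nat.cast_add, IsRegularLocalRing.spanFinrank_maximalIdeal, ringKrullDim_quotient]
  let p : PrimeSpectrum R := ⟨P, ‹_›⟩
  refine le_trans ?_ (le_trans (WithBot.coe_le_coe.mpr (le_iSup (fun a : PrimeSpectrum R => Order.height a + Order.coheight a) p))
    Order.krullDim_eq_iSup_height_add_coheight_of_nonempty.ge)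
  push_cast
  refine add_le_add ?_ ?_
  · rw [← PrimeSpectrum.height_eq_orderHeight p]
    exact_mod_cast hn
  · refine le_of_eq ?_
    rw [Order.coheight_eq_krullDim_Ici]
    exact (congrArg (fun t : Set (PrimeSpectrum R) => Order.krullDim t) (Set.ext fun y => Iff.rfl))

theorem regular_of_le {A : Type u} [CommRing A] [IsNoetherianRing A] {P q : PrimeSpectrum A}
    (h : P.asIdeal ≤ q.asIdeal) (hq : q ∈ EGA4.regLocus A) : P ∈ EGA4.regLocus A := by
  haveI : IsRegularLocalRing (Localization.AtPrime q.asIdeal) := hq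
  let P' := P.asIdeal.map (algebraMap A (Localization.AtPrime q.asIdeal))
  haveI hP' : P'.IsPrime := Ideal.isPrime_map_of_isLocalizationAtPrime q.asIdeal h
  have hcomap : P'.comap (algebraMap A (Localization.AtPrime q.asIdeal)) = P.asIdeal :=
    Ideal.under_map_of_isLocalizationAtPrime q.asIdeal h
  haveI := Groth.Agent.S0564.result (Localization.AtPrime q.asIdeal) P'
  have e := (IsLocalization.localizationLocalizationAtPrimeIsoLocalization q.asIdeal.primeCompl P').toRingEquiv
  have h2 : (⟨P'.comap (algebraMap A (Localization.AtPrime q.asIdeal)), inferInstance⟩ : PrimeSpectrum A)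
      ∈ EGA4.regLocus A := IsRegularLocalRing.of_ringEquiv (R := Localization.AtPrime P') e.symm
  have h3 : (⟨P'.comap (algebraMap A (Localization.AtPrime q.asIdeal)), inferInstance⟩ : PrimeSpectrum A) = P :=
    PrimeSpectrum.ext hcomap
  rwa [h3] at h2

/-- a subset stable under generization containing a neighbourhood in the closure of each point is open -/
theorem isOpen_of_nhds {A : Type u} [CommRing A] [IsNoetherianRing A] (S : Set (PrimeSpectrum A))
    (hgen : ∀ P q : PrimeSpectrum A, P.asIdeal ≤ q.asIdeal → q ∈ S → P ∈ S)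
    (h : ∀ p ∈ S, ∃ f ∉ p.asIdeal, ∀ q : PrimeSpectrum A, p.asIdeal ≤ q.asIdeal → f ∉ q.asIdeal → q ∈ S) :
    IsOpen S := by
  classical
  rw [← isClosed_compl_iff]
  let I := PrimeSpectrum.vanishingIdeal Sᶜ
  have hI : ∀ q, q ∉ S → I ≤ q.asIdeal := fun q hq a ha => (PrimeSpectrum.mem_vanishingIdeal Sᶜ a).mp ha q hq
  suffices hk : Sᶜ = PrimeSpectrum.zeroLocus (I : Set A) by rw [hk]; exact PrimeSpectrum.isClosed_zeroLocus _
  refine Set.Subset.antisymm (fun q hq => hI q hq) fun q hq hqS => ?_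
  obtain ⟨P, hP, hPq⟩ := Ideal.exists_minimalPrimes_le (I := I) (J := q.asIdeal) hq
  have hfin := Ideal.finite_minimalPrimes_of_isNoetherianRing A I
  let p : PrimeSpectrum A := ⟨P, hP.1.1⟩
  obtain ⟨f, hf, hfS⟩ := h p (hgen p q hPq hqS)
  have hg : ∀ Q ∈ I.minimalPrimes, Q ≠ P → ∃ g ∈ Q, g ∉ P := fun Q hQ hne => by
    by_contra hcon
    push Not at hcon
    exact hne (le_antisymm hcon (hP.2 hQ.1 hcon))
  choose! g hgQ hgP using hg
  let t := f * ∏ Q ∈ hfin.toFinset.erase P, g Q
  have htP : t ∉ P := fun hm => by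
    rcases hP.1.1.mem_or_mem hm with h1 | h1
    · exact hf h1
    haveI : P.IsPrime := hP.1.1
    obtain ⟨Q, hQ, hQP⟩ := (Ideal.IsPrime.prod_mem_iff (p := P)).mp h1
    rw [Finset.mem_erase, Set.Finite.mem_toFinset] at hQ
    exact hgP Q hQ.2 hQ.1 hQP
  refine htP (hP.1.2 ((PrimeSpectrum.mem_vanishingIdeal Sᶜ t).mpr fun Q hQ => ?_))
  obtain ⟨P', hP', hP'Q⟩ := Ideal.exists_minimalPrimes_le (I := I) (J := Q.asIdeal) (hI Q hQ)
  by_cases hPP : P' = P
  · subst hPP
    by_contra htQ
    exact hQ (hfS Q hP'Q fun hfQ => htQ (Ideal.mul_mem_right _ _ hfQ))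
  · refine Ideal.mul_mem_left _ _ ?_
    refine Ideal.prod_mem _ (i := P') ?_ (hP'Q (hgQ P' hP' hPP))
    exact Finset.mem_erase.mpr ⟨hPP, hfin.mem_toFinset.mpr hP'⟩

theorem isOpen_regLocus_of_nhds {A : Type u} [CommRing A] [IsNoetherianRing A]
    (h : ∀ p ∈ EGA4.regLocus A, ∃ f ∉ p.asIdeal, ∀ q : PrimeSpectrum A, p.asIdeal ≤ q.asIdeal → f ∉ q.asIdeal →
      q ∈ EGA4.regLocus A) : IsOpen (EGA4.regLocus A) :=
  isOpen_of_nhds _ (fun _ _ => regular_of_le) h

theorem exists_basicOpen {A : Type u} [CommRing A] [IsDomain A] {U : Set (PrimeSpectrum A)} (hU : IsOpen U)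
    (hne : U.Nonempty) : ∃ f : A, f ≠ 0 ∧ ∀ q : PrimeSpectrum A, f ∉ q.asIdeal → q ∈ U := by
  obtain ⟨q, hq⟩ := hne
  obtain ⟨_, ⟨f, rfl⟩, hfq, hfU⟩ := PrimeSpectrum.isTopologicalBasis_basic_opens.exists_subset_of_mem_open hq hU
  exact ⟨f, fun h0 => hfq (h0 ▸ q.asIdeal.zero_mem), fun Q hQ => hfU hQ⟩

/-- the neighbourhood in the closure of a regular point -/
theorem exists_nhd_of_quotient {A : Type u} [CommRing A] [IsNoetherianRing A] (p : PrimeSpectrum A)
    (hp : p ∈ EGA4.regLocus A)
    (h : ∃ U : Set (PrimeSpectrum (A ⧸ p.asIdeal)), IsOpen U ∧ U.Nonempty ∧ U ⊆ EGA4.regLocus (A ⧸ p.asIdeal)) :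
    ∃ f ∉ p.asIdeal, ∀ q : PrimeSpectrum A, p.asIdeal ≤ q.asIdeal → f ∉ q.asIdeal → q ∈ EGA4.regLocus A := by
  classical
  obtain ⟨U, hU, hne, hsub⟩ := h
  obtain ⟨f0, hf00, hf0⟩ := exists_basicOpen hU hne
  obtain ⟨f0, rfl⟩ := Ideal.Quotient.mk_surjective f0
  have hf0p : f0 ∉ p.asIdeal := fun hm => hf00 (Ideal.Quotient.eq_zero_iff_mem.mpr hm)
  let R := Localization.AtPrime p.asIdeal
  haveI : IsRegularLocalRing R := hp
  have fgR : (maximalIdeal R).FG := IsNoetherian.noetherian _
  let G := (Submodule.FG.finite_generators fgR).toFinset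
  choose num hnum using fun g : R => IsLocalization.surj p.asIdeal.primeCompl g
  let x : Fin G.card → A := fun i => (num (G.equivFin.symm i : R)).1
  have hxR : Ideal.span (Set.range fun i => algebraMap A R (x i)) = maximalIdeal R := by
    refine le_antisymm (Ideal.span_le.mpr ?_) ?_
    · rintro _ ⟨i, rfl⟩
      have hg : (G.equivFin.symm i : R) ∈ maximalIdeal R :=
        (Submodule.span_generators (maximalIdeal R)).le (Submodule.subset_span ((Set.Finite.mem_toFinset _).mp (G.equivFin.symm i).2))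
      show algebraMap A R (x i) ∈ maximalIdeal R
      rw [← hnum]
      exact Ideal.mul_mem_right _ _ hg
    · conv_lhs => rw [← Submodule.span_generators (maximalIdeal R)]
      refine Submodule.span_le.mpr fun g hg => ?_
      have hgG : g ∈ G := (Set.Finite.mem_toFinset _).mpr hg
      have hmem : algebraMap A R (num g).1 ∈ Ideal.span (Set.range fun i => algebraMap A R (x i)) :=
        Ideal.subset_span ⟨G.equivFin ⟨g, hgG⟩, by simp [x]⟩
      rw [← hnum] at hmem
      exact (Ideal.mul_unit_mem_iff_mem _ (IsLocalization.map_units R _)).mp hmem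
  obtain ⟨T, hT⟩ := IsNoetherian.noetherian p.asIdeal
  have hex : ∀ b ∈ T, ∃ s ∉ p.asIdeal, s * b ∈ Ideal.span (Set.range x) := fun b hb => by
    have hb' : algebraMap A R b ∈ (Ideal.span (Set.range x)).map (algebraMap A R) := by
      rw [Ideal.map_span, ← Set.range_comp]
      refine hxR.ge ?_
      rw [← Localization.AtPrime.map_eq_maximalIdeal]
      exact Ideal.mem_map_of_mem _ (hT ▸ Submodule.subset_span hb)
    obtain ⟨s, hs, hsb⟩ := (IsLocalization.algebraMap_mem_map_algebraMap_iff p.asIdeal.primeCompl R _ b).mp hb'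
    exact ⟨s, hs, hsb⟩
  choose! s hs hsb using hex
  refine ⟨f0 * ∏ b ∈ T, s b, fun hm => ?_, fun q hpq hfq => ?_⟩
  · rcases p.isPrime.mem_or_mem hm with h1 | h1
    · exact hf0p h1
    · obtain ⟨b, hb, hbp⟩ := (Ideal.IsPrime.prod_mem_iff (p := p.asIdeal)).mp h1
      exact hs b hb hbp
  have hsq : ∀ b ∈ T, s b ∉ q.asIdeal := fun b hb hm => hfq (Ideal.mul_mem_left _ _ (Ideal.prod_mem _ hb hm))
  have hf0q : f0 ∉ q.asIdeal := fun hm => hfq (Ideal.mul_mem_right _ _ hm)
  let Rq := Localization.AtPrime q.asIdeal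
  let P := p.asIdeal.map (algebraMap A Rq)
  haveI : P.IsPrime := Ideal.isPrime_map_of_isLocalizationAtPrime q.asIdeal hpq
  have hP : Ideal.span (Set.range fun i => algebraMap A Rq (x i)) = P := by
    refine le_antisymm (Ideal.span_le.mpr ?_) ?_
    · rintro _ ⟨i, rfl⟩
      refine Ideal.mem_map_of_mem _ ?_
      have : algebraMap A R (x i) ∈ maximalIdeal R := hxR ▸ Ideal.subset_span ⟨i, rfl⟩
      exact (IsLocalization.AtPrime.to_map_mem_maximal_iff R p.asIdeal (x i)).mp this
    · show p.asIdeal.map _ ≤ _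
      rw [← hT, Ideal.submodule_span_eq, Ideal.map_span, Ideal.span_le]
      rintro _ ⟨b, hb, rfl⟩
      have := Ideal.mem_map_of_mem (algebraMap A Rq) (hsb b hb)
      rw [map_mul, Ideal.unit_mul_mem_iff_mem _ (IsLocalization.map_units Rq (⟨s b, hsq b hb⟩ : q.asIdeal.primeCompl)),
        Ideal.map_span, ← Set.range_comp] at this
      exact this
  have hht : (G.card : ℕ∞) ≤ P.height := by
    rw [IsLocalization.height_map_of_disjoint (q.asIdeal.primeCompl) p.asIdeal (Set.disjoint_left.mpr fun a ha hap => ha (hpq hap))]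
    have h1 := IsRegularLocalRing.spanFinrank_maximalIdeal (R := R)
    rw [IsLocalization.AtPrime.ringKrullDim_eq_height p.asIdeal R, ← Submodule.FG.generators_ncard fgR,
      Set.ncard_eq_toFinset_card _ (Submodule.FG.finite_generators fgR)] at h1
    exact le_of_eq (WithBot.coe_inj.mp h1)
  let Q : Ideal (A ⧸ p.asIdeal) := q.asIdeal.map (Ideal.Quotient.mk p.asIdeal)
  haveI : Q.IsPrime := Ideal.map_isPrime_of_surjective Ideal.Quotient.mk_surjective (by rwa [Ideal.mk_ker])
  have hQ : Q.comap (Ideal.Quotient.mk p.asIdeal) = q.asIdeal := by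
    rw [Ideal.comap_map_of_surjective _ Ideal.Quotient.mk_surjective, ← RingHom.ker_eq_comap_bot, Ideal.mk_ker, sup_eq_left.mpr hpq]
  haveI hreg : IsRegularLocalRing (Localization.AtPrime Q) :=
    hsub (hf0 ⟨Q, inferInstance⟩ fun hm => hf0q (hQ ▸ (Ideal.mem_comap.mpr hm)))
  haveI : IsLocalization (Algebra.algebraMapSubmonoid (A ⧸ p.asIdeal) q.asIdeal.primeCompl) (Rq ⧸ P) :=
    inferInstance
  have hsub' : Algebra.algebraMapSubmonoid (A ⧸ p.asIdeal) q.asIdeal.primeCompl = Q.primeCompl := by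
    refine SetLike.ext fun z => ⟨?_, fun hz => ?_⟩
    · rintro ⟨a, ha, rfl⟩ hm
      exact ha (hQ ▸ Ideal.mem_comap.mpr hm)
    · obtain ⟨a, rfl⟩ := Ideal.Quotient.mk_surjective z
      exact ⟨a, fun ha => hz (Ideal.mem_map_of_mem _ ha), rfl⟩
  haveI : IsLocalization.AtPrime (Rq ⧸ P) Q := by
    show IsLocalization Q.primeCompl (Rq ⧸ P)
    rw [← hsub']
    infer_instance
  haveI : IsRegularLocalRing (Rq ⧸ P) :=
    IsRegularLocalRing.of_ringEquiv (IsLocalization.algEquiv Q.primeCompl (Localization.AtPrime Q) (Rq ⧸ P)).toRingEquiv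
  exact regular_of_quotient P _ hP hht

end Groth.L06.RegLocus
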