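import Groth.Agent.L06.PropLoc
import Groth.Agent.L06.RegLocus
import Groth.Agent.L06.FibreComp
import Mathlib.RingTheory.Filtration
import Mathlib.RingTheory.IntegralClosure.IsIntegral.AlmostIntegral

/-! Regular, Cohen–Macaulay, normal and reduced as `PropLoc.Good` properties. -/

set_option autoImplicit false
set_option linter.style.haveILetI false
universe u

namespace Groth.L06.PropLoc

open IsLocalRing

/-- regular -/
def QReg (R : Type u) [CommRing R] : Prop := IsRegularLocalRing R

/-- Cohen–Macaulay -/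
def QCM (R : Type u) [CommRing R] : Prop :=
  ∀ [IsLocalRing R], ringKrullDim R ≤ ((LocCoh.depth R R : ℕ∞) : WithBot ℕ∞)

/-- normal -/
def QNor (R : Type u) [CommRing R] : Prop := IsDomain R ∧ IsIntegrallyClosed R

/-- reduced -/
def QRed (R : Type u) [CommRing R] : Prop := IsReduced R

theorem loc_reg_iff {R : Type u} [CommRing R] [IsNoetherianRing R] : Loc QReg R ↔ IsRegularRing R :=
  ⟨fun h => ⟨h⟩, fun h => h.isRegularLocalRing_localization⟩

theorem loc_nor_iff {R : Type u} [CommRing R] : Loc QNor R ↔ EGA4.IsNormalRing R := Iff.rfl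

theorem loc_red_iff {R : Type u} [CommRing R] : Loc QRed R ↔ IsReduced R := by
  refine ⟨fun h => isReduced_ofLocalizationMaximal R fun m hm => h m, fun h p _ => ?_⟩
  exact (inferInstance : IsReduced (Localization.AtPrime p))

theorem loc_cm_iff {R : Type u} [CommRing R] [IsNoetherianRing R] : Loc QCM R ↔ LocCoh.IsCohenMacaulayRing R := by
  constructor
  · intro h
    refine { isCohenMacaulayLocalRing_localization := fun p _ => ?_ }
    refine { supportDim_eq_depth := le_antisymm ?_ (Groth.L04.depth_le_supportDim) }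
    rw [Module.supportDim_self_eq_ringKrullDim]
    exact @h p inferInstance inferInstance
  · intro h p _ _
    haveI := h.isCohenMacaulayLocalRing_localization p
    rw [← LocCoh.IsCohenMacaulayLocalRing.supportDim_eq_depth (R := Localization.AtPrime p),
      Module.supportDim_self_eq_ringKrullDim]

theorem loc_cm_iff_forall {R : Type u} [CommRing R] [IsNoetherianRing R] : Loc QCM R ↔ ∀ n, LocCoh.HasSk n R R :=
  loc_cm_iff.trans FormalFibres.cm_iff_forall_hasSk

theorem good_reg : Good.{u} QReg where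
  of_equiv e h := by
    haveI : IsRegularLocalRing _ := h
    exact IsRegularLocalRing.of_ringEquiv e
  loc {R} _ _ _ h := fun p _ => by
    haveI : IsRegularLocalRing R := h
    exact Groth.Agent.S0564.result R p
  lift {R} _ _ _ x hx hnz h := by
    haveI : IsRegularLocalRing (R ⧸ Ideal.span {x}) := h
    refine IsRegularLocalRing.of_spanFinrank_maximalIdeal_le R ?_
    refine (Nat.cast_le.mpr (Groth.L01.spanFinrank_le_succ hx)).trans ?_
    rw [Nat.cast_add, IsRegularLocalRing.spanFinrank_maximalIdeal, Nat.cast_one]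
    exact ringKrullDim_quotient_succ_le_of_nonZeroDivisor hnz
  ascend {R S} _ _ _ _ _ _ hR hf := by
    haveI := loc_reg_iff.mp hR
    refine loc_reg_iff.mpr (FormalFibres.isRegularRing_of_flat (R := R) (S := S) fun p _ => ?_)
    haveI := Groth.L06.FibreComp.isNoetherianRing_baseChange (B := S) p p.ResidueField
    haveI : IsNoetherianRing (p.Fiber S) :=
      isNoetherianRing_of_ringEquiv _ (Algebra.TensorProduct.comm R p.ResidueField S).toRingEquiv.symm
    exact loc_reg_iff.mp (hf p)
  descend {R S} _ _ _ _ _ _ hS := by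
    haveI := loc_reg_iff.mp hS
    exact loc_reg_iff.mpr (Groth.Agent.S9406.result R S)

theorem good_cm : Good.{u} QCM where
  of_equiv {R R'} _ _ _ _ _ e h := by
    intro _
    rw [← ringKrullDim_eq_of_ringEquiv e, Groth.L06.FlatFibre.depth_eq_of_ringEquiv e]
    exact h
  loc {R} _ _ _ h := by
    have hcm : LocCoh.IsCohenMacaulayLocalRing R :=
      { supportDim_eq_depth := le_antisymm (by rw [Module.supportDim_self_eq_ringKrullDim]; exact h) Groth.L04.depth_le_supportDim }
    exact loc_cm_iff.mpr (Groth.L04.isCohenMacaulayRing_of_local R)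
  lift {R} _ _ _ x hx hnz h := by
    intro _
    let J := Ideal.span ({x} : Set R)
    have hJ : J ≠ ⊤ := fun htop => (maximalIdeal.isMaximal R).ne_top
      (top_le_iff.mp (htop ▸ (Ideal.span_singleton_le_iff_mem _).mpr hx))
    haveI := Groth.L01.isLocalRing_quotient hJ
    have h1 : ringKrullDim (R ⧸ J) ≤ ((LocCoh.depth (R ⧸ J) (R ⧸ J) : ℕ∞) : WithBot ℕ∞) := h
    have hreg : RingTheory.Sequence.IsWeaklyRegular R [x] := by
      rw [RingTheory.Sequence.isWeaklyRegular_cons_iff]
      refine ⟨?_, RingTheory.Sequence.IsWeaklyRegular.nil _ _⟩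
      refine isSMulRegular_iff_right_eq_zero_of_smul.mpr fun a ha => ?_
      exact (mem_nonZeroDivisors_iff_right.mp hnz) a (by rw [mul_comm]; exact ha)
    have hI : ∀ r ∈ [x], r ∈ maximalIdeal R := by simpa using hx
    have hd := Groth.L04.supportDim_quotient_ofList_add (M := R) hreg hI
    have hdp := Groth.L04.depth_quotient_ofList_add (M := R) hreg hI
    have hof : (Ideal.ofList [x] • (⊤ : Submodule R R)) = J := by
      rw [Ideal.ofList_singleton, smul_eq_mul, Ideal.mul_top]
    let el := Submodule.quotEquivOfEq _ _ hof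
    rw [Module.supportDim_eq_of_equiv el, Module.supportDim_quotient_eq_ringKrullDim,
      Module.supportDim_self_eq_ringKrullDim] at hd
    rw [LocCoh.depth, Groth.L04.idealDepth_congr el,
      Groth.L04.idealDepth_eq_idealDepth_map_of_finite (B := R ⧸ J) (maximalIdeal R) (R ⧸ J),
      show (maximalIdeal R).map (algebraMap R (R ⧸ J)) = maximalIdeal (R ⧸ J) from
        (Groth.L01.maximalIdeal_quotient_eq_map).symm, ← LocCoh.depth] at hdp
    rw [← hd, ← hdp, WithBot.coe_add, WithBot.coe_natCast]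
    exact add_le_add h1 le_rfl
  ascend {R S} _ _ _ _ _ _ hR hf := loc_cm_iff_forall.mpr fun n =>
    Groth.L06.FlatFibre.hasSk_of_flat n (loc_cm_iff_forall.mp hR n) fun p _ => by
      haveI := Groth.L06.FibreComp.isNoetherianRing_baseChange (B := S) p p.ResidueField
      haveI : IsNoetherianRing (p.Fiber S) :=
        isNoetherianRing_of_ringEquiv _ (Algebra.TensorProduct.comm R p.ResidueField S).toRingEquiv.symm
      exact loc_cm_iff_forall.mp (hf p) n
  descend {R S} _ _ _ _ _ _ hS := loc_cm_iff_forall.mpr fun n =>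
    Groth.L06.FlatFibre.hasSk_base_of_faithfullyFlat (S := S) n (loc_cm_iff_forall.mp hS n)

theorem isReduced_lift {R : Type u} [CommRing R] [IsLocalRing R] [IsNoetherianRing R] {x : R}
    (hx : x ∈ maximalIdeal R) (hnz : x ∈ nonZeroDivisors R) (h : IsReduced (R ⧸ Ideal.span {x})) : IsReduced R := by
  refine ⟨fun b hb => ?_⟩
  have key : ∀ n : ℕ, ∀ c : R, IsNilpotent c → c ∈ Ideal.span {x} ^ n := by
    intro n
    induction n with
    | zero => intro c _; simp
    | succ n ih =>
      intro c hc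
      obtain ⟨d, rfl⟩ := Ideal.mem_span_singleton'.mp (Ideal.Quotient.eq_zero_iff_mem.mp (h.eq_zero _ (hc.map (Ideal.Quotient.mk (Ideal.span {x})))))
      obtain ⟨k, hk⟩ := hc
      have hd : IsNilpotent d := ⟨k, (mem_nonZeroDivisors_iff_right.mp (pow_mem hnz k)) _ (by rw [← mul_pow]; exact hk)⟩
      rw [pow_succ]
      exact Ideal.mul_mem_mul (ih d hd) (Ideal.mem_span_singleton_self x)
  have hbot : (⨅ n : ℕ, Ideal.span {x} ^ n) = ⊥ := Ideal.iInf_pow_eq_bot_of_isLocalRing _ fun htop =>
    (maximalIdeal.isMaximal R).ne_top (top_le_iff.mp (htop ▸ (Ideal.span_singleton_le_iff_mem _).mpr hx))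
  rw [← Ideal.mem_bot, ← hbot, Submodule.mem_iInf]
  exact fun n => key n b hb

theorem good_red : Good.{u} QRed where
  of_equiv {R R'} _ _ _ _ _ e h := by
    haveI : IsReduced R := h
    exact isReduced_of_injective e.symm e.symm.injective
  loc {R} _ _ _ h := fun p _ => by
    haveI : IsReduced R := h
    exact (inferInstance : IsReduced (Localization.AtPrime p))
  lift x hx hnz h := isReduced_lift hx hnz h
  ascend {R S} _ _ _ _ _ _ hR hf := by
    haveI := loc_red_iff.mp hR
    exact loc_red_iff.mpr (Groth.L06.FibreComp.isReduced_of_flat fun p _ => loc_red_iff.mp (hf p))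
  descend {R S} _ _ _ _ _ _ hS := by
    haveI := loc_red_iff.mp hS
    exact loc_red_iff.mpr (isReduced_of_injective (algebraMap R S) (FaithfulSMul.algebraMap_injective R S))

/-- a Noetherian local ring with a regular element with normal quotient domain is normal -/
theorem normal_lift {R : Type u} [CommRing R] [IsLocalRing R] [IsNoetherianRing R] {x : R}
    (hx : x ∈ maximalIdeal R) (hnz : x ∈ nonZeroDivisors R) [IsDomain (R ⧸ Ideal.span {x})]
    [IsIntegrallyClosed (R ⧸ Ideal.span {x})] : IsDomain R ∧ IsIntegrallyClosed R := by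
  let J := Ideal.span ({x} : Set R)
  haveI hJp : J.IsPrime := (Ideal.Quotient.isDomain_iff_prime J).mp inferInstance
  have hJt : J ≠ ⊤ := hJp.ne_top
  have hbot : (⨅ n : ℕ, J ^ n) = ⊥ := Ideal.iInf_pow_eq_bot_of_isLocalRing _ hJt
  have hreg : ∀ z : R, x * z = 0 → z = 0 := fun z hz => (mem_nonZeroDivisors_iff_right.mp hnz) z (by rw [mul_comm]; exact hz)
  have hfac : ∀ b : R, b ≠ 0 → ∃ (j : ℕ) (b' : R), b = x ^ j * b' ∧ b' ∉ J := by
    intro b hb
    have : ∃ n, b ∉ J ^ n := by
      by_contra hc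
      push Not at hc
      exact hb (by rw [← Ideal.mem_bot, ← hbot, Submodule.mem_iInf]; exact hc)
    obtain ⟨n, hn⟩ := this
    induction n generalizing b with
    | zero => exact absurd (by simp) hn
    | succ n ih =>
      by_cases hbJ : b ∈ J
      · obtain ⟨c, rfl⟩ := Ideal.mem_span_singleton'.mp hbJ
        have hc : c ∉ J ^ n := fun hc => hn (by rw [pow_succ]; exact Ideal.mul_mem_mul hc (Ideal.mem_span_singleton_self x))
        obtain ⟨j, b', rfl, hb'⟩ := ih c (fun h0 => hb (by rw [h0, zero_mul])) hc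
        exact ⟨j + 1, b', by ring, hb'⟩
      · exact ⟨0, b, by simp, hbJ⟩
  have hpow : ∀ n z, x ^ n * z = 0 → z = 0 := fun n => by
    induction n with
    | zero => simp
    | succ n ih => intro z hz; exact hreg z (ih _ (by rwa [pow_succ, mul_assoc] at hz))
  haveI : IsDomain R := by
    haveI : NoZeroDivisors R := ⟨fun {a b} hab => by
      by_contra h
      push Not at h
      obtain ⟨i, a', rfl, ha'⟩ := hfac a h.1
      obtain ⟨j, b', rfl, hb'⟩ := hfac b h.2
      have : a' * b' = 0 := hpow (i + j) _ (by rw [← hab, pow_add]; ring)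
      exact (hJp.mem_or_mem (this ▸ J.zero_mem)).elim ha' hb'⟩
    exact NoZeroDivisors.to_isDomain R
  refine ⟨inferInstance, (isIntegrallyClosed_iff (FractionRing R)).mpr fun {z} hz => ?_⟩
  obtain ⟨a, b, hb, rfl⟩ := IsFractionRing.div_surjective (A := R) z
  have hb0 : b ≠ 0 := nonZeroDivisors.ne_zero hb
  let i := algebraMap R (FractionRing R)
  have hi : Function.Injective i := IsFractionRing.injective R (FractionRing R)
  have hib : i b ≠ 0 := (map_ne_zero_iff _ hi).mpr hb0
  have halm : IsAlmostIntegral R (i a / i b) := by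
    obtain ⟨c, hc, hcn⟩ := (show ∃ c ∈ nonZeroDivisors R, ∀ n, c • (i a / i b) ^ n ∈ (algebraMap R (FractionRing R)).range from
      IsIntegral.isAlmostIntegral hz)
    exact ⟨c, hc, hcn⟩
  obtain ⟨c, hc, hcn⟩ := halm
  have hdiv : ∀ n, b ^ n ∣ c * a ^ n := fun n => by
    obtain ⟨w, hw⟩ := hcn n
    refine ⟨w, hi ?_⟩
    rw [Algebra.smul_def, div_pow, mul_div_assoc', eq_div_iff (pow_ne_zero _ hib)] at hw
    rw [map_mul, map_mul, map_pow, map_pow, mul_comm _ (i w)]
    exact hw.symm
  obtain ⟨j, b₀, hbj, hb₀⟩ := hfac b hb0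
  obtain ⟨ci, c₀, hcc, hc₀⟩ := hfac c (nonZeroDivisors.ne_zero hc)
  suffices key : ∀ k, a ∈ Ideal.span {b} ⊔ J ^ k by
    have hmem : a ∈ Ideal.span {b} := by
      have hle := Ideal.iInf_pow_smul_eq_bot_of_le_jacobson (R := R) (M := R ⧸ Ideal.span {b}) J (le_trans (le_maximalIdeal hJt) (IsLocalRing.maximalIdeal_le_jacobson _))
      rw [← Ideal.Quotient.eq_zero_iff_mem, ← Submodule.mem_bot R, ← hle, Submodule.mem_iInf]
      intro k
      obtain ⟨y, hy, w, hw, rfl⟩ := Submodule.mem_sup.mp (key k)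
      rw [map_add, Ideal.Quotient.eq_zero_iff_mem.mpr hy, zero_add]
      have := Submodule.smul_mem_smul hw (Submodule.mem_top (x := (1 : R ⧸ Ideal.span {b})))
      rwa [Algebra.smul_def, mul_one] at this
    obtain ⟨t, ht⟩ := Ideal.mem_span_singleton'.mp hmem
    exact ⟨t, by rw [eq_div_iff hib, ← map_mul, ht]⟩
  intro k
  induction k with
  | zero => rw [pow_zero, Ideal.one_eq_top, sup_top_eq]; trivial
  | succ k ih =>
    obtain ⟨y, hy, w, hw, hyw⟩ := Submodule.mem_sup.mp ih
    rw [Ideal.span_singleton_pow, Ideal.mem_span_singleton'] at hw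
    obtain ⟨a', rfl⟩ := hw
    obtain ⟨y', rfl⟩ := Ideal.mem_span_singleton'.mp hy
    -- almost integrality of `x ^ k * a' / b`
    have hdiv' : ∀ n, b ^ n ∣ c * (a' * x ^ k) ^ n := by
      intro n
      rw [show a' * x ^ k = a - y' * b by rw [← hyw]; ring, sub_eq_add_neg, add_pow, Finset.mul_sum]
      refine Finset.dvd_sum fun m hm => ?_
      obtain ⟨d, hd⟩ := hdiv m
      have hmn : n = m + (n - m) := by have := Finset.mem_range.mp hm; omega
      refine ⟨d * (-y') ^ (n - m) * (n.choose m : R), ?_⟩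
      calc c * (a ^ m * (-(y' * b)) ^ (n - m) * (n.choose m : R))
          = c * a ^ m * ((-y') ^ (n - m) * b ^ (n - m)) * (n.choose m : R) := by rw [← mul_pow, neg_mul]; ring
        _ = b ^ (m + (n - m)) * (d * (-y') ^ (n - m) * (n.choose m : R)) := by rw [hd, pow_add]; ring
        _ = b ^ n * (d * (-y') ^ (n - m) * (n.choose m : R)) := by rw [← hmn]
    by_cases hkj : k < j
    · have ha' : a' ∈ J := by
        obtain ⟨w, hw⟩ := hdiv' (ci + 1)
        rw [hbj, hcc, mul_pow, mul_pow, ← pow_mul, ← pow_mul] at hw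
        by_contra ha'
        have hlt : ci + k * (ci + 1) < j * (ci + 1) := by nlinarith
        obtain ⟨e, he⟩ := Nat.exists_eq_add_of_lt hlt
        have h0 : x ^ (ci + k * (ci + 1)) * (c₀ * a' ^ (ci + 1) - x ^ (e + 1) * (b₀ ^ (ci + 1) * w)) = 0 := by
          rw [show j * (ci + 1) = ci + k * (ci + 1) + e + 1 from he] at hw
          rw [mul_sub, sub_eq_zero]
          calc x ^ (ci + k * (ci + 1)) * (c₀ * a' ^ (ci + 1))
              = x ^ ci * c₀ * (a' ^ (ci + 1) * x ^ (k * (ci + 1))) := by ring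
            _ = x ^ (ci + k * (ci + 1) + e + 1) * b₀ ^ (ci + 1) * w := hw
            _ = _ := by ring
        have h1 := sub_eq_zero.mp (hpow _ _ h0)
        have hmem : c₀ * a' ^ (ci + 1) ∈ J := h1 ▸ Ideal.mul_mem_right _ _ (Ideal.pow_mem_of_mem _ (Ideal.mem_span_singleton_self x) _ (Nat.succ_pos e))
        exact (hJp.mem_or_mem hmem).elim hc₀ fun h => ha' (hJp.mem_of_pow_mem _ h)
      obtain ⟨d, rfl⟩ := Ideal.mem_span_singleton'.mp ha'
      exact Submodule.mem_sup.mpr ⟨y' * b, Ideal.mem_span_singleton'.mpr ⟨y', rfl⟩, d * x * x ^ k, by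
        rw [Ideal.span_singleton_pow]; exact Ideal.mem_span_singleton'.mpr ⟨d, by ring⟩, hyw⟩
    · obtain ⟨e, rfl⟩ := Nat.exists_eq_add_of_le (not_lt.mp hkj)
      have hdvd : Ideal.Quotient.mk J b₀ ∣ Ideal.Quotient.mk J a' := by
        refine Groth.L03.RegularNormal.dvd_of_forall_pow_dvd (c := Ideal.Quotient.mk J c₀)
          (fun h0 => hc₀ (Ideal.Quotient.eq_zero_iff_mem.mp h0)) (fun h0 => hb₀ (Ideal.Quotient.eq_zero_iff_mem.mp h0)) fun n => ?_
        obtain ⟨w, hw⟩ := hdiv' n
        rw [hbj, hcc] at hw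
        have hw' : x ^ ci * (c₀ * (a' * x ^ e) ^ n) = b₀ ^ n * w := by
          refine sub_eq_zero.mp (hpow (j * n) _ ?_)
          rw [mul_sub, sub_eq_zero]
          calc x ^ (j * n) * (x ^ ci * (c₀ * (a' * x ^ e) ^ n)) = x ^ ci * c₀ * (a' * x ^ (j + e)) ^ n := by
                rw [mul_pow, mul_pow, ← pow_mul, ← pow_mul, add_mul, pow_add]; ring
            _ = (x ^ j * b₀) ^ n * w := hw
            _ = x ^ (j * n) * (b₀ ^ n * w) := by rw [mul_pow, ← pow_mul]; ring
        -- remove the power of `x`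
        have hrem : ∀ (i : ℕ) (u v : R), x ^ i * u = b₀ ^ n * v → ∃ v', u = b₀ ^ n * v' := by
          intro i
          induction i with
          | zero => intro u v h; exact ⟨v, by simpa using h⟩
          | succ i ihi =>
            intro u v h
            have hmem : b₀ ^ n * v ∈ J := h ▸ Ideal.mul_mem_right _ _ (Ideal.pow_mem_of_mem _ (Ideal.mem_span_singleton_self x) _ (Nat.succ_pos i))
            obtain ⟨v₁, rfl⟩ := Ideal.mem_span_singleton'.mp ((hJp.mem_or_mem hmem).resolve_left fun h' => hb₀ (hJp.mem_of_pow_mem _ h'))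
            refine ihi u v₁ (sub_eq_zero.mp (hreg _ ?_))
            rw [mul_sub, sub_eq_zero]
            calc x * (x ^ i * u) = x ^ (i + 1) * u := by ring
              _ = b₀ ^ n * (v₁ * x) := h
              _ = x * (b₀ ^ n * v₁) := by ring
        obtain ⟨v', hv'⟩ := hrem (ci + e * n) (c₀ * a' ^ n) w (by
          rw [← hw', mul_pow, ← pow_mul, pow_add]; ring)
        exact ⟨Ideal.Quotient.mk J v', by rw [← map_pow, ← map_pow, ← map_mul, ← map_mul, hv']⟩
      obtain ⟨q, hq⟩ := hdvd
      obtain ⟨q, rfl⟩ := Ideal.Quotient.mk_surjective q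
      rw [← map_mul, Ideal.Quotient.eq] at hq
      obtain ⟨d, hd⟩ := Ideal.mem_span_singleton'.mp hq
      refine Submodule.mem_sup.mpr ⟨(y' + x ^ e * q) * b, Ideal.mem_span_singleton'.mpr ⟨_, rfl⟩, d * x ^ (j + e + 1), ?_, ?_⟩
      · rw [Ideal.span_singleton_pow]; exact Ideal.mem_span_singleton'.mpr ⟨d, rfl⟩
      · calc (y' + x ^ e * q) * b + d * x ^ (j + e + 1)
            = y' * b + x ^ (j + e) * (b₀ * q + d * x) := by rw [hbj]; ring
          _ = y' * b + a' * x ^ (j + e) := by rw [hd]; ring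
          _ = a := hyw

theorem good_nor : Good.{u} QNor where
  of_equiv {R R'} _ _ _ _ _ e h := by
    haveI := h.1
    haveI := h.2
    exact ⟨e.symm.toMulEquiv.isDomain R, IsIntegrallyClosed.of_equiv e⟩
  loc {R} _ _ _ h := fun p _ => by
    haveI := h.1
    haveI := h.2
    have hne : (p.primeCompl : Submonoid R) ≤ nonZeroDivisors R :=
      le_nonZeroDivisors_of_noZeroDivisors (not_not_intro p.zero_mem)
    exact ⟨IsLocalization.isDomain_localization hne, isIntegrallyClosed_of_isLocalization (Localization.AtPrime p) p.primeCompl hne⟩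
  lift x hx hnz h := by
    haveI := h.1
    haveI := h.2
    exact normal_lift hx hnz
  ascend {R S} _ _ _ _ _ _ hR hf := NormalAscent.isNormalRing_of_flat hR hf
  descend {R S} _ _ _ _ _ _ hS := NormalAscent.isNormalRing_of_faithfullyFlat (S := S) hS

end Groth.L06.PropLoc
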