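import Groth.Agent.L06.FlatCodepth
import Groth.Agent.L06.PropInstances
import Groth.Agent.L10.FormCat.Basic
import Groth.Agent.L04.DepthLoc
import Groth.Agent.L04.CMBasic
import Groth.Agent.L04.LC.Codim
import Mathlib.RingTheory.KrullDimension.Regular

/-! Properties passing from `A/tA` to `A`. -/

set_option autoImplicit false
set_option maxSynthPendingDepth 3
set_option linter.style.haveILetI false
noncomputable section
universe u
open IsLocalRing RingTheory.Sequence Groth.L06.PropLoc

namespace Groth.L06.QuotRegular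

theorem exists_quot_equiv {R : Type u} [CommRing R] (x : R) (M : Ideal R) [M.IsPrime] (hx : x ∈ M)
    [(M.map (Ideal.Quotient.mk (Ideal.span {x}))).IsPrime] :
    Nonempty (Localization.AtPrime (M.map (Ideal.Quotient.mk (Ideal.span {x}))) ≃+*
      Localization.AtPrime M ⧸ Ideal.span {algebraMap R (Localization.AtPrime M) x}) := by
  let RM := Localization.AtPrime M
  let J := Ideal.span ({x} : Set R)
  have hJ : J.map (algebraMap R RM) = Ideal.span {algebraMap R RM x} := by
    rw [Ideal.map_span, Set.image_singleton]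
  let M' := M.map (Ideal.Quotient.mk J)
  have hM' : M'.comap (Ideal.Quotient.mk J) = M := by
    rw [Ideal.comap_map_of_surjective _ Ideal.Quotient.mk_surjective, ← RingHom.ker_eq_comap_bot, Ideal.mk_ker,
      sup_eq_left.mpr ((Ideal.span_singleton_le_iff_mem _).mpr hx)]
  have hsub' : Algebra.algebraMapSubmonoid (R ⧸ J) M.primeCompl = M'.primeCompl := by
    refine SetLike.ext fun z => ⟨?_, fun hz => ?_⟩
    · rintro ⟨a, ha, rfl⟩ hm
      exact ha (hM' ▸ Ideal.mem_comap.mpr hm)
    · obtain ⟨a, rfl⟩ := Ideal.Quotient.mk_surjective z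
      exact ⟨a, fun ha => hz (Ideal.mem_map_of_mem _ ha), rfl⟩
  haveI : IsLocalization.AtPrime (RM ⧸ J.map (algebraMap R RM)) M' := by
    show IsLocalization M'.primeCompl _
    rw [← hsub']
    infer_instance
  exact ⟨(IsLocalization.algEquiv M'.primeCompl (Localization.AtPrime M') (RM ⧸ J.map (algebraMap R RM))).toRingEquiv.trans
    (Ideal.quotEquivOfEq hJ)⟩

theorem reg_localization {R : Type u} [CommRing R] {t : R} (ht : t ∈ nonZeroDivisors R) (q : Ideal R) [q.IsPrime] :
    IsSMulRegular (Localization.AtPrime q) (algebraMap R (Localization.AtPrime q) t) := by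
  intro y z h
  obtain ⟨⟨a, s⟩, ha⟩ := IsLocalization.surj q.primeCompl (y - z)
  have h0 : algebraMap R (Localization.AtPrime q) t * (y - z) = 0 := by
    rw [mul_sub, sub_eq_zero]; exact h
  have h1 : algebraMap R (Localization.AtPrime q) (t * a) = 0 := by
    rw [map_mul, ← ha, ← mul_assoc, h0, zero_mul]
  obtain ⟨c, hc⟩ := (IsLocalization.map_eq_zero_iff q.primeCompl _ _).mp h1
  have h2 : (c : R) * a = 0 := ((mem_nonZeroDivisors_iff.mp ht).2 _ (by rw [mul_assoc, mul_comm a t]; exact hc))
  have h3 : algebraMap R (Localization.AtPrime q) a = 0 := (IsLocalization.map_eq_zero_iff q.primeCompl _ _).mpr ⟨c, h2⟩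
  exact sub_eq_zero.mp ((IsLocalization.map_units (Localization.AtPrime q) s).mul_left_eq_zero.mp (ha.trans h3))

theorem dim_depth_succ (R : Type u) [CommRing R] [IsLocalRing R] [IsNoetherianRing R] {x : R}
    (hx : x ∈ maximalIdeal R) (hreg : IsSMulRegular R x) [IsLocalRing (R ⧸ Ideal.span {x})] :
    ringKrullDim (R ⧸ Ideal.span {x}) + 1 = ringKrullDim R ∧
      LocCoh.depth (R ⧸ Ideal.span {x}) (R ⧸ Ideal.span {x}) + 1 = LocCoh.depth R R := by
  refine ⟨ringKrullDim_quotient_span_singleton_succ_eq_ringKrullDim hreg hx, ?_⟩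
  have hrs : IsWeaklyRegular R [x] := IsWeaklyRegular.cons hreg (IsWeaklyRegular.nil _ _)
  have h := Groth.L04.depth_quotient_ofList_add hrs (fun r hr => by rw [List.mem_singleton.mp hr]; exact hx)
  have hI : Ideal.ofList [x] • (⊤ : Submodule R R) = Ideal.span {x} := by
    rw [smul_eq_mul, Ideal.mul_top, Ideal.ofList_singleton]
  rw [List.length_singleton, Nat.cast_one, LocCoh.depth,
    Groth.L04.idealDepth_congr (Submodule.quotEquivOfEq _ _ hI),
    Groth.L04.idealDepth_eq_idealDepth_map_of_finite (B := R ⧸ Ideal.span {x}) (maximalIdeal R)] at h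
  rw [← h, LocCoh.depth, Ideal.Quotient.algebraMap_eq,
    IsLocalRing.map_maximalIdeal_of_surjective _ Ideal.Quotient.mk_surjective]

/-- numbers at a prime containing a regular element -/
theorem nums {A : Type u} [CommRing A] [IsNoetherianRing A] {t : A} (hreg : t ∈ nonZeroDivisors A)
    (q : Ideal A) [q.IsPrime] (htq : t ∈ q) [(q.map (Ideal.Quotient.mk (Ideal.span {t}))).IsPrime] :
    ringKrullDim (Localization.AtPrime (q.map (Ideal.Quotient.mk (Ideal.span {t})))) + 1 =
        ringKrullDim (Localization.AtPrime q) ∧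
      LocCoh.depth (Localization.AtPrime (q.map (Ideal.Quotient.mk (Ideal.span {t}))))
          (Localization.AtPrime (q.map (Ideal.Quotient.mk (Ideal.span {t})))) + 1 =
        LocCoh.depth (Localization.AtPrime q) (Localization.AtPrime q) := by
  obtain ⟨e⟩ := exists_quot_equiv t q htq
  haveI : IsLocalRing (Localization.AtPrime q ⧸ Ideal.span {algebraMap A (Localization.AtPrime q) t}) :=
    e.isLocalRing
  obtain ⟨h1, h2⟩ := dim_depth_succ (Localization.AtPrime q)
    ((IsLocalization.AtPrime.to_map_mem_maximal_iff (Localization.AtPrime q) q t).mpr htq) (reg_localization hreg q)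
  exact ⟨by rw [ringKrullDim_eq_of_ringEquiv e, h1],
    by rw [← Groth.L06.FlatFibre.depth_eq_of_ringEquiv e, h2]⟩

theorem nums_nat {A : Type u} [CommRing A] [IsNoetherianRing A] (p : Ideal A) [p.IsPrime] :
    ∃ d e : ℕ, ringKrullDim (Localization.AtPrime p) = d ∧
      LocCoh.depth (Localization.AtPrime p) (Localization.AtPrime p) = e := by
  obtain ⟨d, hd⟩ := Groth.L01.exists_dim_eq_nat (R := Localization.AtPrime p)
  have hle := FlatCodepth.depth_le_dim (Localization.AtPrime p)
  rw [hd] at hle
  obtain ⟨e, he⟩ := ENat.ne_top_iff_exists.mp (show LocCoh.depth (Localization.AtPrime p) (Localization.AtPrime p) ≠ ⊤ from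
    fun h0 => by rw [h0] at hle; exact not_le.mpr (WithBot.coe_lt_coe.mpr (ENat.natCast_lt_top d)) hle)
  exact ⟨d, e, hd, he.symm⟩

theorem exists_over {A : Type u} [CommRing A] [IsNoetherianRing A] [IsLocalRing A] {t : A}
    (ht : t ∈ maximalIdeal A) (p : Ideal A) [p.IsPrime] (htp : t ∉ p) :
    ∃ q : Ideal A, q.IsPrime ∧ p < q ∧ t ∈ q ∧ (q.map (Ideal.Quotient.mk p)).height = 1 ∧
      (q.map (Ideal.Quotient.mk (Ideal.span {t}))).IsPrime := by
  obtain ⟨P, hP, -⟩ := Ideal.exists_minimalPrimes_le (I := p ⊔ Ideal.span {t}) (J := maximalIdeal A)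
    (sup_le (le_maximalIdeal (Ideal.IsPrime.ne_top ‹_›)) ((Ideal.span_singleton_le_iff_mem _).2 ht))
  haveI := hP.1.1
  have hqP : p ≤ P := le_sup_left.trans hP.1.2
  have htP : t ∈ P := hP.1.2 (Ideal.mem_sup_right (Ideal.mem_span_singleton_self t))
  refine ⟨P, hP.1.1, lt_of_le_of_ne hqP (fun h => htp (h ▸ htP)), htP, ?_,
    Ideal.map_isPrime_of_surjective Ideal.Quotient.mk_surjective
      (by rw [Ideal.mk_ker]; exact (Ideal.span_singleton_le_iff_mem _).mpr htP)⟩
  haveI : (P.map (Ideal.Quotient.mk p)).IsPrime :=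
    Ideal.map_isPrime_of_surjective Ideal.Quotient.mk_surjective (Ideal.mk_ker.le.trans hqP)
  refine le_antisymm ?_ ?_
  · refine Ideal.height_le_one_of_isPrincipal_of_mem_minimalPrimes (Ideal.span {Ideal.Quotient.mk p t}) _
      ⟨⟨inferInstance, (Ideal.span_singleton_le_iff_mem _).2 (Ideal.mem_map_of_mem _ htP)⟩, fun Q hQ hle => ?_⟩
    haveI := hQ.1
    have h2 : P ≤ Q.comap (Ideal.Quotient.mk p) := hP.2 ⟨inferInstance, sup_le
      (Ideal.mk_ker.ge.trans (Ideal.comap_mono bot_le))
      ((Ideal.span_singleton_le_iff_mem _).2 (hQ.2 (Ideal.mem_span_singleton_self _)))⟩ (by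
        have h3 := Ideal.comap_mono (f := Ideal.Quotient.mk p) hle
        rwa [Ideal.comap_map_of_surjective' _ Ideal.Quotient.mk_surjective, Ideal.mk_ker, sup_eq_left.2 hqP] at h3)
    exact (Ideal.map_mono h2).trans Ideal.map_comap_le
  · rw [ENat.one_le_iff_ne_zero]
    intro h0
    rw [Ideal.height_eq_zero_iff, IsDomain.minimalPrimes_eq_singleton_bot, Set.mem_singleton_iff] at h0
    exact htp (Ideal.Quotient.eq_zero_iff_mem.1 ((Ideal.mem_bot).1 (h0 ▸ Ideal.mem_map_of_mem _ htP)))

/-- estimates at a prime away from `t` -/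
theorem away {A : Type u} [CommRing A] [IsNoetherianRing A] {p q : Ideal A} [p.IsPrime] [q.IsPrime]
    (hpq : p < q) (h1 : (q.map (Ideal.Quotient.mk p)).height = 1) {d e d' e' : ℕ}
    (hd : ringKrullDim (Localization.AtPrime p) = d)
    (he : LocCoh.depth (Localization.AtPrime p) (Localization.AtPrime p) = e)
    (hd' : ringKrullDim (Localization.AtPrime q) = d')
    (he' : LocCoh.depth (Localization.AtPrime q) (Localization.AtPrime q) = e') :
    d + 1 ≤ d' ∧ e' ≤ e + 1 := by
  constructor
  · have h := Ideal.height_strict_mono_of_isPrime_of_isPrime hpq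
    rw [IsLocalization.AtPrime.ringKrullDim_eq_height p (Localization.AtPrime p),
      show (d : WithBot ℕ∞) = ((d : ℕ∞) : WithBot ℕ∞) from rfl, WithBot.coe_inj] at hd
    rw [IsLocalization.AtPrime.ringKrullDim_eq_height q (Localization.AtPrime q),
      show (d' : WithBot ℕ∞) = ((d' : ℕ∞) : WithBot ℕ∞) from rfl, WithBot.coe_inj] at hd'
    rw [hd, hd', Nat.cast_lt] at h
    exact h
  · have h := Groth.L04.depth_localized_le_add_height (M := A) hpq.le
    rw [Groth.L04.depth_localizedModule_self, Groth.L04.depth_localizedModule_self, h1, he, he'] at h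
    exact_mod_cast h

theorem cast_aux {x : WithBot ℕ∞} {d : ℕ} (h : x + 1 = (d : WithBot ℕ∞)) {a : ℕ} (ha : x = a) : a + 1 = d := by
  rw [ha] at h; exact_mod_cast h

theorem hasSk {A : Type u} [CommRing A] [IsNoetherianRing A] [IsLocalRing A] (k : ℕ) {t : A}
    (ht : t ∈ maximalIdeal A) (hreg : t ∈ nonZeroDivisors A)
    (hS : LocCoh.HasSk k (A ⧸ Ideal.span {t}) (A ⧸ Ideal.span {t})) : LocCoh.HasSk k A A := by
  rw [FlatFibre.hasSk_self_iff] at hS ⊢
  have key : ∀ (q : Ideal A) [q.IsPrime], t ∈ q → ∀ d e : ℕ, ringKrullDim (Localization.AtPrime q) = d →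
      LocCoh.depth (Localization.AtPrime q) (Localization.AtPrime q) = e → min k (d - 1) + 1 ≤ e := by
    intro q _ htq d e hd he
    haveI : (q.map (Ideal.Quotient.mk (Ideal.span {t}))).IsPrime :=
      Ideal.map_isPrime_of_surjective Ideal.Quotient.mk_surjective
        (by rw [Ideal.mk_ker]; exact (Ideal.span_singleton_le_iff_mem _).mpr htq)
    obtain ⟨h1, h2⟩ := nums hreg q htq
    obtain ⟨a, b, ha, hb⟩ := nums_nat (q.map (Ideal.Quotient.mk (Ideal.span {t})))
    have h3 := hS (q.map (Ideal.Quotient.mk (Ideal.span {t})))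
    rw [ha, hb, FlatCodepth.min_cast_le] at h3
    rw [hd] at h1
    rw [he, hb] at h2
    have h4 := cast_aux h1 ha
    have h5 : b + 1 = e := by exact_mod_cast h2
    omega
  intro p _
  obtain ⟨d, e, hd, he⟩ := nums_nat p
  rw [hd, he, FlatCodepth.min_cast_le]
  by_cases htp : t ∈ p
  · have := key p htp d e hd he
    omega
  · obtain ⟨q, hq, hpq, htq, h1, -⟩ := exists_over ht p htp
    haveI := hq
    obtain ⟨d', e', hd', he'⟩ := nums_nat q
    have := key q htq d' e' hd' he'
    obtain ⟨h2, h3⟩ := away hpq h1 hd he hd' he'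
    omega

theorem reduced_equidim_rk {A : Type u} [CommRing A] [IsNoetherianRing A] [IsLocalRing A] (k : ℕ)
    (hcat : CAlg.IsCatenary A) {t : A} (ht : t ∈ maximalIdeal A) (hreg : t ∈ nonZeroDivisors A)
    [IsReduced (A ⧸ Ideal.span {t})] (heq : EGA4.IsEquidim (A ⧸ Ideal.span {t}))
    (hR : LocCoh.HasRk k (A ⧸ Ideal.span {t})) :
    IsReduced A ∧ EGA4.IsEquidim A ∧ LocCoh.HasRk k A := by
  have hne : Ideal.span {t} ≠ (⊤ : Ideal A) := fun h => (maximalIdeal.isMaximal A).ne_top
    (top_le_iff.mp (h ▸ (Ideal.span_singleton_le_iff_mem _).mpr ht))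
  haveI := Groth.L01.isLocalRing_quotient hne
  have hregA : IsSMulRegular A t := fun y z h => by
    have := (mem_nonZeroDivisors_iff.mp hreg).1 (y - z) (by rw [mul_sub, sub_eq_zero]; exact h)
    exact sub_eq_zero.mp this
  have hred : IsReduced A := good_red.lift t ht hreg (inferInstance : IsReduced (A ⧸ Ideal.span {t}))
  -- (S₁) for the reduced quotient
  have hmin : ∀ (p : Ideal A) [p.IsPrime], p ∈ minimalPrimes A →
      ∃ q : Ideal A, ∃ _ : q.IsPrime, p < q ∧ t ∈ q ∧ q.map (Ideal.Quotient.mk (Ideal.span {t})) ∈ minimalPrimes _ := by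
    intro p _ hp
    have htp : t ∉ p := fun h =>
      Set.disjoint_left.1 (Ideal.disjoint_nonZeroDivisors_of_mem_minimalPrimes hp) h hreg
    obtain ⟨q, hq, hpq, htq, h1, hq'⟩ := exists_over ht p htp
    haveI := hq
    haveI := hq'
    refine ⟨q, hq, hpq, htq, ?_⟩
    obtain ⟨d, e, hd, he⟩ := nums_nat p
    obtain ⟨d', e', hd', he'⟩ := nums_nat q
    obtain ⟨a, b, ha, hb⟩ := nums_nat (q.map (Ideal.Quotient.mk (Ideal.span {t})))
    obtain ⟨-, h3⟩ := away hpq h1 hd he hd' he'
    obtain ⟨h4, h5⟩ := nums hreg q htq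
    rw [he', hb] at h5
    have h6 : b + 1 = e' := by exact_mod_cast h5
    have hd0 : d = 0 := by
      rw [IsLocalization.AtPrime.ringKrullDim_eq_height p (Localization.AtPrime p),
        Ideal.height_eq_zero_iff.mpr hp] at hd
      exact_mod_cast hd.symm
    have he0 : e ≤ d := by
      have := FlatCodepth.depth_le_dim (Localization.AtPrime p)
      rw [hd, he] at this
      exact_mod_cast this
    have hb0 : b = 0 := by omega
    -- a reduced local ring of depth zero is a field
    have hass : maximalIdeal (Localization.AtPrime (q.map (Ideal.Quotient.mk (Ideal.span {t})))) ∈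
        associatedPrimes (Localization.AtPrime (q.map (Ideal.Quotient.mk (Ideal.span {t}))))
          (Localization.AtPrime (q.map (Ideal.Quotient.mk (Ideal.span {t})))) := by
      rcases Groth.L04.exists_regular_or_killed (maximalIdeal (Localization.AtPrime (q.map (Ideal.Quotient.mk (Ideal.span {t})))))
        (Localization.AtPrime (q.map (Ideal.Quotient.mk (Ideal.span {t})))) with ⟨r, hr, hrr⟩ | ⟨w, hw0, hw⟩
      · have := Groth.L04.one_le_idealDepth_of_regular hr hrr
        rw [← LocCoh.depth, hb, hb0] at this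
        exact absurd this (by simp)
      · refine isAssociatedPrime_iff.2 ⟨inferInstance, w, ?_⟩
        refine (IsLocalRing.maximalIdeal.isMaximal _).eq_of_le ?_ fun z hz => ?_
        · intro h
          have h1 := (Ideal.eq_top_iff_one _).mp h
          rw [Submodule.mem_colon_singleton, Submodule.mem_bot, one_smul] at h1
          exact hw0 h1
        · rw [Submodule.mem_colon_singleton, Submodule.mem_bot]
          exact hw z hz
    have hmem : maximalIdeal (Localization.AtPrime (q.map (Ideal.Quotient.mk (Ideal.span {t})))) ∈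
        minimalPrimes (Localization.AtPrime (q.map (Ideal.Quotient.mk (Ideal.span {t})))) := by
      obtain ⟨P, hP, hPle⟩ := Ideal.exists_minimalPrimes_le (I := (⊥ : Ideal (Localization.AtPrime (q.map (Ideal.Quotient.mk (Ideal.span {t}))))))
        (J := maximalIdeal _) bot_le
      by_contra hne'
      obtain ⟨-, w, hw⟩ := isAssociatedPrime_iff.1 hass
      have hw2 : w ^ 2 = 0 := by
        by_cases hwu : IsUnit w
        · exfalso
          apply hne'
          have hbot : maximalIdeal (Localization.AtPrime (q.map (Ideal.Quotient.mk (Ideal.span {t})))) = ⊥ := by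
            rw [eq_bot_iff]
            intro z hz
            rw [hw, Submodule.mem_colon_singleton, Submodule.mem_bot, smul_eq_mul] at hz
            exact Ideal.mem_bot.mpr (hwu.mul_left_eq_zero.mp hz)
          exact ⟨⟨inferInstance, bot_le⟩, fun R hR _ => hbot ▸ bot_le⟩
        · have hwm : w ∈ maximalIdeal (Localization.AtPrime (q.map (Ideal.Quotient.mk (Ideal.span {t})))) := hwu
          rw [hw, Submodule.mem_colon_singleton, Submodule.mem_bot, smul_eq_mul] at hwm
          rw [pow_two]; exact hwm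
      have hw0 : w = 0 := IsReduced.eq_zero w ⟨2, hw2⟩
      apply (maximalIdeal.isMaximal (Localization.AtPrime (q.map (Ideal.Quotient.mk (Ideal.span {t}))))).ne_top
      rw [hw, hw0]
      exact (Ideal.eq_top_iff_one _).mpr (by rw [Submodule.mem_colon_singleton, smul_zero]; exact zero_mem _)
    rw [← Ideal.height_eq_zero_iff] at hmem ⊢
    have h7 := maximalIdeal_height_eq_ringKrullDim (R := Localization.AtPrime (q.map (Ideal.Quotient.mk (Ideal.span {t}))))
    rw [hmem, IsLocalization.AtPrime.ringKrullDim_eq_height (q.map (Ideal.Quotient.mk (Ideal.span {t})))] at h7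
    exact (WithBot.coe_injective h7).symm
  obtain ⟨n, hn⟩ := Groth.L01.exists_dim_eq_nat (R := A)
  have heqA : EGA4.IsEquidim A := by
    intro p hp
    haveI := hp.1.1
    obtain ⟨q, hq, hpq, htq, hq0⟩ := hmin p hp
    have h1 := heq _ hq0
    rw [ringKrullDim_eq_of_ringEquiv (DoubleQuot.quotQuotEquivQuotOfLE
      ((Ideal.span_singleton_le_iff_mem _).mpr htq))] at h1
    have h2 := ringKrullDim_quotient_span_singleton_succ_eq_ringKrullDim hregA ht
    rw [← h1] at h2
    refine le_antisymm (ringKrullDim_quotient_le p) ?_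
    rw [← h2]
    haveI := Groth.L01.isLocalRing_quotient (Ideal.IsPrime.ne_top (I := p) inferInstance)
    refine le_trans (add_le_add ?_ le_rfl)
      (ringKrullDim_quotient_succ_le_of_nonZeroDivisor (R := A ⧸ p) (r := Ideal.Quotient.mk p t)
        (mem_nonZeroDivisors_of_ne_zero fun h => ?_))
    · rw [ringKrullDim_eq_of_ringEquiv ((Ideal.quotEquivOfEq (Set.image_singleton ▸ (Ideal.map_span (Ideal.Quotient.mk p) {t}).symm)).trans
        (DoubleQuot.quotQuotEquivQuotSup p (Ideal.span {t})))]
      exact ringKrullDim_le_of_surjective (Ideal.Quotient.factor (sup_le hpq.le ((Ideal.span_singleton_le_iff_mem _).mpr htq)))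
        (Ideal.Quotient.factor_surjective _)
    · exact Set.disjoint_left.1 (Ideal.disjoint_nonZeroDivisors_of_mem_minimalPrimes hp)
        (Ideal.Quotient.eq_zero_iff_mem.mp h) hreg
  refine ⟨hred, heqA, fun p _ hpk => ?_⟩
  have key : ∀ (q : Ideal A) [q.IsPrime], t ∈ q → q.height ≤ (k + 1 : ℕ) → IsRegularLocalRing (Localization.AtPrime q) := by
    intro q _ htq hqk
    haveI : (q.map (Ideal.Quotient.mk (Ideal.span {t}))).IsPrime :=
      Ideal.map_isPrime_of_surjective Ideal.Quotient.mk_surjective
        (by rw [Ideal.mk_ker]; exact (Ideal.span_singleton_le_iff_mem _).mpr htq)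
    obtain ⟨d, -, hd, -⟩ := nums_nat q
    obtain ⟨a, -, ha, -⟩ := nums_nat (q.map (Ideal.Quotient.mk (Ideal.span {t})))
    obtain ⟨h1, -⟩ := nums hreg q htq
    rw [hd] at h1
    have h4 := cast_aux h1 ha
    rw [IsLocalization.AtPrime.ringKrullDim_eq_height q (Localization.AtPrime q)] at hd
    have hq' : q.height = d := WithBot.coe_injective hd
    rw [hq', Nat.cast_le] at hqk
    rw [IsLocalization.AtPrime.ringKrullDim_eq_height (q.map (Ideal.Quotient.mk (Ideal.span {t})))] at ha
    have := hR (q.map (Ideal.Quotient.mk (Ideal.span {t})))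
      (by rw [show (q.map (Ideal.Quotient.mk (Ideal.span {t}))).height = a from WithBot.coe_injective ha, Nat.cast_le]; omega)
    obtain ⟨e⟩ := exists_quot_equiv t q htq
    haveI := this
    haveI : IsLocalRing (Localization.AtPrime q ⧸ Ideal.span {algebraMap A (Localization.AtPrime q) t}) := e.isLocalRing
    exact good_reg.lift _ ((IsLocalization.AtPrime.to_map_mem_maximal_iff (Localization.AtPrime q) q t).mpr htq)
      (mem_nonZeroDivisors_iff_right.mpr fun z hz => reg_localization hreg q (by
        simpa [mul_comm] using hz)) (IsRegularLocalRing.of_ringEquiv e)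
  by_cases htp : t ∈ p
  · exact key p htp (hpk.trans (by exact_mod_cast Nat.le_succ k))
  · obtain ⟨q, hq, hpq, htq, h1, -⟩ := exists_over ht p htp
    haveI := hq
    have hcov : (⟨p, inferInstance⟩ : PrimeSpectrum A) ⋖ ⟨q, inferInstance⟩ :=
      (Groth.L04.LC.height_quot_eq_one_iff_covBy (p := (⟨p, inferInstance⟩ : PrimeSpectrum A))
        (q := ⟨q, inferInstance⟩) hpq.le).1 h1
    have h2 := Groth.L10.FormCat.covBy_step hcat hcov
    have h4 := Groth.L10.FormCat.height_add hcat heqA hn ⟨p, inferInstance⟩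
    have h5 := Groth.L10.FormCat.height_add hcat heqA hn ⟨q, inferInstance⟩
    obtain ⟨c, hc⟩ := ENat.ne_top_iff_exists.1 (Ideal.height_ne_top (I := p) (Ideal.IsPrime.ne_top inferInstance))
    obtain ⟨c', hc'⟩ := ENat.ne_top_iff_exists.1 (Ideal.height_ne_top (I := q) (Ideal.IsPrime.ne_top inferInstance))
    change p.height + _ = _ at h4
    change q.height + _ = _ at h5
    rw [← hc] at h4
    rw [← hc'] at h5
    rw [← hc, Nat.cast_le] at hpk
    norm_cast at h4 h5
    have hreg' := key q htq (by rw [← hc', Nat.cast_le]; omega)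
    haveI := hreg'
    exact of_le good_reg hpq.le hreg'

end Groth.L06.QuotRegular
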