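import Groth.Agent.L10.FormCat.Basic
import Groth.Agent.L04.CMBasic
import Groth.Agent.L04.DepthLoc
import Groth.Agent.L06.QuotRegular
import Mathlib.RingTheory.Spectrum.Prime.Topology

/-! Hartshorne's connectedness theorem and consequences (EGA IV 5.10). -/

set_option autoImplicit false
set_option maxSynthPendingDepth 3
set_option linter.all false
universe u
open IsLocalRing RingTheory.Sequence

namespace Groth.L06.Hartshorne

theorem core_zero {R : Type u} [CommRing R] [IsLocalRing R] [IsNoetherianRing R]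
    (h : (2 : ℕ∞) ≤ LocCoh.depth R R) (I J : Ideal R) (hIJ : I * J = ⊥)
    (hsup : maximalIdeal R ≤ (I ⊔ J).radical) : I = ⊥ ∨ J = ⊥ := by
  have hIM : maximalIdeal R • (⊤ : Submodule R R) ≠ ⊤ :=
    Groth.L04.smul_top_ne_top_of_nontrivial (maximalIdeal.isMaximal R).ne_top
  obtain ⟨rs, hlen, hrs, hmem⟩ := Groth.L04.exists_of_le_idealDepth (n := 1) hIM
    (le_trans (by norm_num) h)
  obtain ⟨t₁, rfl⟩ := List.length_eq_one_iff.mp hlen
  have ht₁ : t₁ ∈ maximalIdeal R := hmem t₁ (List.mem_singleton_self t₁)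
  obtain ⟨k, hk⟩ := hsup ht₁
  have hk' : t₁ ^ (k + 1) ∈ I ⊔ J := by rw [pow_succ]; exact Ideal.mul_mem_right _ _ hk
  set t := t₁ ^ (k + 1) with ht
  have htreg : IsSMulRegular R t := ((isWeaklyRegular_singleton_iff R t₁).1 hrs).pow _
  have htm : t ∈ maximalIdeal R := Ideal.pow_mem_of_mem _ ht₁ _ (Nat.succ_pos k)
  have hrt : IsWeaklyRegular R [t] := (isWeaklyRegular_singleton_iff R t).2 htreg
  haveI : Nontrivial (R ⧸ Ideal.ofList [t] • (⊤ : Submodule R R)) := by
    have hle : Ideal.ofList [t] ≤ maximalIdeal R := by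
      rw [Ideal.ofList_singleton]
      exact (Ideal.span_singleton_le_iff_mem _).2 htm
    exact Submodule.Quotient.nontrivial_iff.2 fun htop =>
      hIM (top_le_iff.1 (htop.ge.trans (Submodule.smul_mono hle le_rfl)))
  have hq : (1 : ℕ∞) ≤ LocCoh.idealDepth (maximalIdeal R) (R ⧸ Ideal.ofList [t] • (⊤ : Submodule R R)) := by
    have := (Groth.L04.le_idealDepth_quotient_iff (I := maximalIdeal R) hrt
      (fun r hr => by rw [List.mem_singleton.mp hr]; exact htm) 1).2 (by simpa [LocCoh.depth, one_add_one_eq_two] using h)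
    exact_mod_cast this
  obtain ⟨ss, hslen, hss, hsmem⟩ := Groth.L04.exists_of_le_idealDepth (n := 1)
    (Groth.L04.smul_top_ne_top_of_nontrivial (maximalIdeal.isMaximal R).ne_top) hq
  obtain ⟨s₁, rfl⟩ := List.length_eq_one_iff.mp hslen
  obtain ⟨l, hl⟩ := hsup (hsmem s₁ (List.mem_singleton_self s₁))
  have hsreg : IsSMulRegular (R ⧸ Ideal.ofList [t] • (⊤ : Submodule R R)) (s₁ ^ l) :=
    ((isWeaklyRegular_singleton_iff _ s₁).1 hss).pow _
  obtain ⟨a, ha, b, hb, hab⟩ := Submodule.mem_sup.1 hk'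
  obtain ⟨i, hi, j, hj, hij⟩ := Submodule.mem_sup.1 hl
  have hzero : ∀ x ∈ I, ∀ y ∈ J, x * y = 0 := fun x hx y hy =>
    (Submodule.mem_bot R).1 (hIJ ▸ Ideal.mul_mem_mul hx hy)
  have hsa : s₁ ^ l * a = i * t := by
    rw [← hij, ← hab, add_mul, mul_comm j a, hzero a ha j hj, mul_add, hzero i hi b hb]
  have hof : Ideal.ofList [t] • (⊤ : Submodule R R) = Ideal.span {t} := by
    rw [smul_eq_mul, Ideal.mul_top, Ideal.ofList_singleton]
  have hat : a ∈ Ideal.span {t} := by
    rw [← hof, ← Submodule.Quotient.mk_eq_zero]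
    refine hsreg.right_eq_zero_of_smul ?_
    rw [← Submodule.Quotient.mk_smul, Submodule.Quotient.mk_eq_zero, hof, smul_eq_mul, hsa]
    exact Ideal.mul_mem_left _ _ (Ideal.mem_span_singleton_self t)
  obtain ⟨c, hc⟩ := Ideal.mem_span_singleton'.1 hat
  have h1 : a * (1 - c) = b * c := by rw [← hab] at hc; linear_combination -hc
  have hregmul : ∀ y, t * y = 0 → y = 0 := fun y hy => htreg.right_eq_zero_of_smul hy
  have hbc : b * c = 0 := by
    refine hregmul _ ?_
    have e1 : a * (b * c) = 0 := by rw [← mul_assoc, hzero a ha b hb, zero_mul]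
    have e2 : b * (b * c) = 0 := by
      rw [← h1, ← mul_assoc, mul_comm b a, hzero a ha b hb, zero_mul]
    rw [← hab, add_mul, e1, e2, add_zero]
  rcases IsLocalRing.isUnit_or_isUnit_one_sub_self c with hu | hu
  · refine Or.inr (eq_bot_iff.2 fun y hy => ?_)
    have hb0 : b = 0 := hu.mul_left_eq_zero.1 hbc
    refine (Submodule.mem_bot R).2 (hregmul y ?_)
    rw [← hab, hb0, add_zero, hzero a ha y hy]
  · refine Or.inl (eq_bot_iff.2 fun y hy => ?_)
    have ha0 : a = 0 := hu.mul_left_eq_zero.1 (h1.trans hbc)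
    refine (Submodule.mem_bot R).2 (hregmul y ?_)
    rw [← hab, ha0, zero_add, mul_comm, hzero y hy b hb]

theorem core {R : Type u} [CommRing R] [IsLocalRing R] [IsNoetherianRing R]
    (h : (2 : ℕ∞) ≤ LocCoh.depth R R) (I J : Ideal R) (hIJ : I * J ≤ nilradical R)
    (hsup : maximalIdeal R ≤ (I ⊔ J).radical) : I ≤ nilradical R ∨ J ≤ nilradical R := by
  obtain ⟨N, hN⟩ := IsNoetherianRing.isNilpotent_nilradical R
  have h0 : I ^ (N + 1) * J ^ (N + 1) = ⊥ := by
    rw [← mul_pow]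
    refine le_bot_iff.1 ((Ideal.pow_right_mono hIJ _).trans ?_)
    rw [pow_succ, hN, zero_mul]
    exact le_rfl
  have hrad : maximalIdeal R ≤ (I ^ (N + 1) ⊔ J ^ (N + 1)).radical := by
    refine hsup.trans (Ideal.radical_le_radical_iff.2 (sup_le ?_ ?_))
    · exact fun x hx => ⟨N + 1, Ideal.mem_sup_left (Ideal.pow_mem_pow hx _)⟩
    · exact fun x hx => ⟨N + 1, Ideal.mem_sup_right (Ideal.pow_mem_pow hx _)⟩
  rcases core_zero h _ _ h0 hrad with hb | hb
  · exact Or.inl fun x hx => ⟨N + 1, (Submodule.mem_bot R).1 (hb ▸ Ideal.pow_mem_pow hx _)⟩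
  · exact Or.inr fun x hx => ⟨N + 1, (Submodule.mem_bot R).1 (hb ▸ Ideal.pow_mem_pow hx _)⟩

theorem at_prime {A : Type u} [CommRing A] [IsNoetherianRing A] {I J : Ideal A} (hIJ : I * J ≤ nilradical A)
    (p : Ideal A) [p.IsPrime] (hp : p ∈ (I ⊔ J).minimalPrimes)
    (h : (2 : ℕ∞) ≤ LocCoh.depth (Localization.AtPrime p) (Localization.AtPrime p)) :
    (∀ s : Ideal A, s.IsPrime → s ≤ p → I ≤ s) ∨ (∀ s : Ideal A, s.IsPrime → s ≤ p → J ≤ s) := by
  let Ap := Localization.AtPrime p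
  haveI : IsNoetherianRing Ap := IsLocalization.isNoetherianRing p.primeCompl Ap inferInstance
  let f := algebraMap A Ap
  have key : ∀ K : Ideal A, K.map f ≤ nilradical Ap → ∀ s : Ideal A, s.IsPrime → s ≤ p → K ≤ s := by
    intro K hK s hs hsp x hx
    have h1 : f x ∈ nilradical Ap := hK (Ideal.mem_map_of_mem f hx)
    haveI := hs
    haveI : (s.map f).IsPrime := Ideal.isPrime_map_of_isLocalizationAtPrime p hsp
    have h2 : f x ∈ s.map f := nilradical_le_prime _ h1
    exact (Ideal.under_map_of_isLocalizationAtPrime p hsp).le h2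
  have hmul : I.map f * J.map f ≤ nilradical Ap := by
    rw [← Ideal.map_mul]
    refine Ideal.map_le_iff_le_comap.2 fun x hx => ?_
    exact IsNilpotent.map (show IsNilpotent x from hIJ hx) f
  have hmax : maximalIdeal Ap ≤ (I.map f ⊔ J.map f).radical := by
    rw [← Ideal.map_sup, Ideal.radical_eq_sInf]
    refine le_sInf fun P ⟨hP, hPp⟩ => ?_
    haveI := hPp
    have h1 : P.comap f ≤ p := (Ideal.comap_mono (le_maximalIdeal hPp.ne_top)).trans_eq
      (IsLocalization.AtPrime.under_maximalIdeal Ap p)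
    have h2 := hp.2 ⟨Ideal.IsPrime.comap f, Ideal.map_le_iff_le_comap.1 hP⟩ h1
    rw [← Localization.AtPrime.map_eq_maximalIdeal]
    exact Ideal.map_le_iff_le_comap.2 h2
  rcases core h _ _ hmul hmax with hK | hK
  · exact Or.inl (key I hK)
  · exact Or.inr (key J hK)

open PrimeSpectrum in
theorem preconnected_compl {A : Type u} [CommRing A] [IsNoetherianRing A] [PreconnectedSpace (PrimeSpectrum A)]
    (I₀ : Ideal A) (h : ∀ (p : Ideal A) [p.IsPrime], I₀ ≤ p →
      (2 : ℕ∞) ≤ LocCoh.depth (Localization.AtPrime p) (Localization.AtPrime p)) :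
    IsPreconnected ((zeroLocus (I₀ : Set A))ᶜ) := by
  set U : Set (PrimeSpectrum A) := (zeroLocus (I₀ : Set A))ᶜ
  rw [isPreconnected_closed_iff]
  intro t t' ht ht' hsub ⟨x, hxU, hxt⟩ ⟨x', hxU', hxt'⟩
  let I : Ideal A := vanishingIdeal (U ∩ t)
  let J : Ideal A := vanishingIdeal (U ∩ t')
  have hV : ∀ (s : Set (PrimeSpectrum A)) (P : PrimeSpectrum A),
      (vanishingIdeal s ≤ P.asIdeal ↔ P ∈ closure s) := fun s P => by
    rw [← zeroLocus_vanishingIdeal_eq_closure, mem_zeroLocus]; rfl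
  -- `U` contains the minimal primes
  have hmin : ∀ s ∈ minimalPrimes A, ∀ hs : s.IsPrime, (⟨s, hs⟩ : PrimeSpectrum A) ∈ U := by
    intro s hs hsp hmem
    haveI := hsp
    have h1 := h s (fun z hz => hmem hz)
    haveI : IsNoetherianRing (Localization.AtPrime s) :=
      IsLocalization.isNoetherianRing s.primeCompl _ inferInstance
    have h2 := (WithBot.coe_le_coe.2 h1).trans (Groth.L06.FlatCodepth.depth_le_dim _)
    rw [IsLocalization.AtPrime.ringKrullDim_eq_height s, Ideal.height_eq_zero_iff.2 hs, WithBot.coe_le_coe] at h2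
    simp at h2
  have hIJ : I * J ≤ nilradical A := by
    intro z hz
    rw [nilradical_eq_sInf, Ideal.mem_sInf]
    intro P hP
    haveI : P.IsPrime := hP
    obtain ⟨s, hs, hsP⟩ := Ideal.exists_minimalPrimes_le (J := P) (bot_le (a := P))
    refine hsP ?_
    haveI := hs.1.1
    have hsU := hmin s hs inferInstance
    rcases hsub hsU with hst | hst
    · exact (hV (U ∩ t) ⟨s, inferInstance⟩).2 (subset_closure (⟨hsU, hst⟩ : _ ∈ U ∩ t)) (Ideal.mul_le_left (I := I) hz)
    · exact (hV (U ∩ t') ⟨s, inferInstance⟩).2 (subset_closure (⟨hsU, hst⟩ : _ ∈ U ∩ t')) (Ideal.mul_le_right (J := J) hz)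
  have hne : I ⊔ J ≠ ⊤ := by
    intro htop
    have hd : zeroLocus (I : Set A) ∩ zeroLocus (J : Set A) = ∅ := by
      rw [← zeroLocus_sup, htop]; simp
    have hu : zeroLocus (I : Set A) ∪ zeroLocus (J : Set A) = Set.univ := by
      rw [← zeroLocus_mul, Set.eq_univ_iff_forall]
      intro P
      exact (hIJ.trans (nilradical_le_prime P.asIdeal) : I * J ≤ P.asIdeal)
    have hclop : IsClopen (zeroLocus (I : Set A)) := by
      refine ⟨isClosed_zeroLocus _, ?_⟩
      rw [show zeroLocus (I : Set A) = (zeroLocus (J : Set A))ᶜ from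
        IsCompl.eq_compl ⟨Set.disjoint_iff_inter_eq_empty.2 hd, codisjoint_iff.2 hu⟩]
      exact (isClosed_zeroLocus _).isOpen_compl
    rcases _root_.isClopen_iff.1 hclop with h0 | h1
    · exact Set.eq_empty_iff_forall_notMem.1 h0 x ((hV _ x).2 (subset_closure ⟨hxU, hxt⟩))
    · have : x' ∈ zeroLocus (I : Set A) ∩ zeroLocus (J : Set A) :=
        ⟨h1 ▸ Set.mem_univ _, (hV _ x').2 (subset_closure ⟨hxU', hxt'⟩)⟩
      rw [hd] at this
      exact this
  obtain ⟨m, hm, hle⟩ := Ideal.exists_le_maximal _ hne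
  obtain ⟨p, hp, -⟩ := Ideal.exists_minimalPrimes_le (J := m) hle
  haveI := hp.1.1
  -- a prime of `U` below `p`
  have hgen : ∀ (K : Set (PrimeSpectrum A)), IsClosed K → vanishingIdeal (U ∩ K) ≤ p →
      ∃ s : PrimeSpectrum A, s.asIdeal ≤ p ∧ s ∈ U ∧ s ∈ K := by
    intro K hK hle'
    obtain ⟨s, hs, hsp⟩ := Ideal.exists_minimalPrimes_le (J := p) hle'
    haveI := hs.1.1
    have hsK : (⟨s, inferInstance⟩ : PrimeSpectrum A) ∈ K :=
      hK.closure_subset_iff.2 Set.inter_subset_right ((hV _ ⟨s, inferInstance⟩).1 hs.1.2)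
    refine ⟨⟨s, inferInstance⟩, hsp, fun hsI => ?_, hsK⟩
    have hfin : ((vanishingIdeal (U ∩ K)).minimalPrimes \ {s}).Finite :=
      (Ideal.finite_minimalPrimes_of_isNoetherianRing A _).subset Set.sdiff_subset
    have hcl : IsClosed (⋃ q ∈ ((vanishingIdeal (U ∩ K)).minimalPrimes \ {s}), zeroLocus (q : Set A)) :=
      hfin.isClosed_biUnion fun q _ => isClosed_zeroLocus _
    have hW : U ∩ K ⊆ ⋃ q ∈ ((vanishingIdeal (U ∩ K)).minimalPrimes \ {s}), zeroLocus (q : Set A) := by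
      intro w hw
      obtain ⟨q, hq, hqw⟩ := Ideal.exists_minimalPrimes_le (J := w.asIdeal) ((hV _ w).2 (subset_closure hw))
      refine Set.mem_biUnion (show q ∈ (vanishingIdeal (U ∩ K)).minimalPrimes \ {s} from ⟨hq, fun hqs => hw.1 ?_⟩) hqw
      intro z hz
      exact hqw ((Set.mem_singleton_iff.1 hqs).symm ▸ hsI hz)
    have hmem := hcl.closure_subset_iff.2 hW ((hV _ ⟨s, inferInstance⟩).1 hs.1.2)
    obtain ⟨q, hq, hqs⟩ := Set.mem_iUnion₂.1 hmem
    exact hq.2 (le_antisymm hqs (hs.2 ⟨hq.1.1.1, hq.1.1.2⟩ hqs))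
  by_cases hpU : (⟨p, inferInstance⟩ : PrimeSpectrum A) ∈ U
  · exact ⟨⟨p, inferInstance⟩, hpU,
      ht.closure_subset_iff.2 Set.inter_subset_right ((hV _ ⟨p, inferInstance⟩).1 (le_sup_left.trans hp.1.2)),
      ht'.closure_subset_iff.2 Set.inter_subset_right ((hV _ ⟨p, inferInstance⟩).1 (le_sup_right.trans hp.1.2))⟩
  · rcases at_prime hIJ p hp (h p fun z hz => (not_not.1 hpU : _) hz) with hI | hJ
    · obtain ⟨s, hsp, hsU, hst'⟩ := hgen t' ht' (le_sup_right.trans hp.1.2)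
      exact ⟨s, hsU, ht.closure_subset_iff.2 Set.inter_subset_right ((hV _ s).1 (hI _ s.isPrime hsp)), hst'⟩
    · obtain ⟨s, hsp, hsU, hst⟩ := hgen t ht (le_sup_left.trans hp.1.2)
      exact ⟨s, hsU, hst, ht'.closure_subset_iff.2 Set.inter_subset_right ((hV _ s).1 (hJ _ s.isPrime hsp))⟩

theorem punctured {R : Type u} [CommRing R] [IsLocalRing R] [IsNoetherianRing R]
    (h : (2 : ℕ∞) ≤ LocCoh.depth R R) : IsConnected {x : PrimeSpectrum R | x.asIdeal ≠ maximalIdeal R} := by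
  have hset : {x : PrimeSpectrum R | x.asIdeal ≠ maximalIdeal R} =
      (PrimeSpectrum.zeroLocus (maximalIdeal R : Set R))ᶜ := by
    ext x
    simp only [Set.mem_setOf_eq, Set.mem_compl_iff, PrimeSpectrum.mem_zeroLocus, SetLike.coe_subset_coe]
    exact ⟨fun hne hle => hne (le_antisymm (le_maximalIdeal x.isPrime.ne_top) hle), fun hn he => hn he.ge⟩
  refine ⟨?_, hset ▸ ?_⟩
  · obtain ⟨s, hs, hsm⟩ := Ideal.exists_minimalPrimes_le (J := maximalIdeal R) (bot_le (a := maximalIdeal R))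
    haveI := hs.1.1
    refine ⟨⟨s, inferInstance⟩, fun he => ?_⟩
    have h2 := (WithBot.coe_le_coe.2 h).trans (Groth.L06.FlatCodepth.depth_le_dim R)
    rw [← IsLocalRing.maximalIdeal_height_eq_ringKrullDim, WithBot.coe_le_coe,
      show maximalIdeal R = s from he.symm, Ideal.height_eq_zero_iff.2 hs] at h2
    simp at h2
  · haveI : PreconnectedSpace (PrimeSpectrum R) := by
      refine ⟨isPreconnected_closed_iff.2 fun t t' ht ht' _ ⟨x, _, hx⟩ ⟨x', _, hx'⟩ => ?_⟩
      have hspec : ∀ y : PrimeSpectrum R, y ⤳ IsLocalRing.closedPoint R := fun y =>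
        (PrimeSpectrum.le_iff_specializes y _).1 (le_maximalIdeal y.isPrime.ne_top)
      exact ⟨IsLocalRing.closedPoint R, trivial, (hspec x).mem_closed ht hx, (hspec x').mem_closed ht' hx'⟩
    refine preconnected_compl _ fun p _ hp => ?_
    obtain rfl : p = maximalIdeal R := le_antisymm (le_maximalIdeal (Ideal.IsPrime.ne_top inferInstance)) hp
    haveI : IsNoetherianRing (Localization.AtPrime (maximalIdeal R)) :=
      IsLocalization.isNoetherianRing (maximalIdeal R).primeCompl _ inferInstance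
    haveI : IsLocalization.AtPrime R (maximalIdeal R) :=
      IsLocalization.self fun x hx => (IsUnit.mem_submonoid_iff x).mpr (IsLocalRing.notMem_maximalIdeal.mp hx)
    have e := (IsLocalization.algEquiv (maximalIdeal R).primeCompl (Localization.AtPrime (maximalIdeal R)) R).toRingEquiv
    rw [← Groth.L06.FlatFibre.depth_eq_of_ringEquiv e]
    exact h

theorem exists_split {A : Type u} [CommRing A] {M : Set (Ideal A)} (hM : M.Finite) (R : Ideal A → Prop) :
    ∃ I : Ideal A, (∀ s ∈ M, R s → I ≤ s) ∧ ∀ P : Ideal A, P.IsPrime → I ≤ P → ∃ s ∈ M, R s ∧ s ≤ P := by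
  classical
  refine ⟨(hM.toFinset.filter R).inf id, fun s hs hR => Finset.inf_le (f := id)
    (Finset.mem_filter.2 ⟨hM.mem_toFinset.2 hs, hR⟩), fun P hP hle => ?_⟩
  obtain ⟨s, hs, hsP⟩ := (Ideal.IsPrime.inf_le' hP).1 hle
  exact ⟨s, hM.mem_toFinset.1 (Finset.mem_filter.1 hs).1, (Finset.mem_filter.1 hs).2, hsP⟩

theorem chain {A : Type u} [CommRing A] [IsNoetherianRing A] [PreconnectedSpace (PrimeSpectrum A)] (d : ℕ)
    (h : ∀ (p : Ideal A) [p.IsPrime], (d : ℕ∞) ≤ p.height →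
      (2 : ℕ∞) ≤ LocCoh.depth (Localization.AtPrime p) (Localization.AtPrime p))
    (p' p'' : Ideal A) (hp' : p' ∈ minimalPrimes A) (hp'' : p'' ∈ minimalPrimes A) :
    ∃ (n : ℕ) (c : Fin (n + 1) → Ideal A), c 0 = p' ∧ c (Fin.last n) = p'' ∧ (∀ i, c i ∈ minimalPrimes A) ∧
      ∀ i : Fin n, ∃ (q : Ideal A) (_ : q.IsPrime),
        c i.castSucc ≤ q ∧ c i.succ ≤ q ∧ q.height + 1 ≤ (d : ℕ∞) := by
  classical
  let R : Ideal A → Prop := fun s => ∃ (n : ℕ) (c : Fin (n + 1) → Ideal A), c 0 = p' ∧ c (Fin.last n) = s ∧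
    (∀ i, c i ∈ minimalPrimes A) ∧ ∀ i : Fin n, ∃ (q : Ideal A) (_ : q.IsPrime),
      c i.castSucc ≤ q ∧ c i.succ ≤ q ∧ q.height + 1 ≤ (d : ℕ∞)
  have hfin : (minimalPrimes A).Finite := minimalPrimes.finite_of_isNoetherianRing A
  have step : ∀ s t, R s → t ∈ minimalPrimes A → ∀ (q : Ideal A), q.IsPrime → s ≤ q → t ≤ q →
      q.height + 1 ≤ (d : ℕ∞) → R t := by
    rintro s t ⟨n, c, h0, hl, hc, he⟩ ht q hq hsq htq hd
    refine ⟨n + 1, Fin.snoc c t, ?_, Fin.snoc_last _ _, ?_, ?_⟩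
    · rw [← Fin.castSucc_zero, Fin.snoc_castSucc, h0]
    · refine Fin.lastCases ?_ (fun i => ?_)
      · rw [Fin.snoc_last]; exact ht
      · rw [Fin.snoc_castSucc]; exact hc i
    · refine Fin.lastCases ?_ (fun i => ?_)
      · refine ⟨q, hq, ?_, ?_, hd⟩
        · rw [Fin.snoc_castSucc, hl]; exact hsq
        · rw [Fin.succ_last, Fin.snoc_last]; exact htq
      · obtain ⟨q', hq', e1, e2, e3⟩ := he i
        refine ⟨q', hq', ?_, ?_, e3⟩
        · rw [Fin.snoc_castSucc]; exact e1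
        · rw [Fin.succ_castSucc, Fin.snoc_castSucc]; exact e2
  by_contra hcon
  obtain ⟨I, hI', hgeI⟩ := exists_split hfin R
  obtain ⟨J, hJ', hgeJ⟩ := exists_split hfin fun s => ¬ R s
  have hp'R : R p' := ⟨0, fun _ => p', rfl, rfl, fun _ => hp', fun i => i.elim0⟩
  have hIJ : I * J ≤ nilradical A := by
    intro z hz
    rw [nilradical_eq_sInf, Ideal.mem_sInf]
    intro P hP
    haveI : P.IsPrime := hP
    obtain ⟨s, hs, hsP⟩ := Ideal.exists_minimalPrimes_le (J := P) (bot_le (a := P))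
    refine hsP ?_
    by_cases hR : R s
    · exact hI' s hs hR (Ideal.mul_le_left (I := I) hz)
    · exact hJ' s hs hR (Ideal.mul_le_right (J := J) hz)
  have hge : ∀ (P : Ideal A), P.IsPrime → (I ≤ P → ∃ s ∈ minimalPrimes A, R s ∧ s ≤ P) ∧
      (J ≤ P → ∃ s ∈ minimalPrimes A, ¬ R s ∧ s ≤ P) := fun P hP => ⟨hgeI P hP, hgeJ P hP⟩
  have hne : I ⊔ J ≠ ⊤ := by
    intro htop
    have hd : PrimeSpectrum.zeroLocus (I : Set A) ∩ PrimeSpectrum.zeroLocus (J : Set A) = ∅ := by
      rw [← PrimeSpectrum.zeroLocus_sup, htop]; simp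
    have hu : PrimeSpectrum.zeroLocus (I : Set A) ∪ PrimeSpectrum.zeroLocus (J : Set A) = Set.univ := by
      rw [← PrimeSpectrum.zeroLocus_mul, Set.eq_univ_iff_forall]
      intro P
      exact (hIJ.trans (nilradical_le_prime P.asIdeal) : I * J ≤ P.asIdeal)
    have hclop : IsClopen (PrimeSpectrum.zeroLocus (I : Set A)) := by
      refine ⟨PrimeSpectrum.isClosed_zeroLocus _, ?_⟩
      rw [show PrimeSpectrum.zeroLocus (I : Set A) = (PrimeSpectrum.zeroLocus (J : Set A))ᶜ from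
        IsCompl.eq_compl ⟨Set.disjoint_iff_inter_eq_empty.2 hd, codisjoint_iff.2 hu⟩]
      exact (PrimeSpectrum.isClosed_zeroLocus _).isOpen_compl
    rcases _root_.isClopen_iff.1 hclop with h0 | h1
    · exact Set.eq_empty_iff_forall_notMem.1 h0 ⟨p', hp'.1.1⟩
        (hI' p' hp' hp'R)
    · have h2 : I ≤ p'' := (Set.eq_univ_iff_forall.1 h1) ⟨p'', hp''.1.1⟩
      obtain ⟨s, hs, hR, hsle⟩ := (hge p'' hp''.1.1).1 h2
      haveI := hs.1.1
      obtain rfl : s = p'' := le_antisymm hsle (hp''.2 ⟨hs.1.1, bot_le⟩ hsle)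
      exact hcon hR
  obtain ⟨m, hm, hle⟩ := Ideal.exists_le_maximal _ hne
  obtain ⟨p, hp, -⟩ := Ideal.exists_minimalPrimes_le (J := m) hle
  haveI := hp.1.1
  obtain ⟨s, hs, hsR, hsp⟩ := (hge p inferInstance).1 (le_sup_left.trans hp.1.2)
  obtain ⟨t, ht, htR, htp⟩ := (hge p inferInstance).2 (le_sup_right.trans hp.1.2)
  by_cases hd : (d : ℕ∞) ≤ p.height
  · rcases at_prime hIJ p hp (h p hd) with hI | hJ
    · obtain ⟨s', hs', hs'R, hs'le⟩ := (hge t ht.1.1).1 (hI t ht.1.1 htp)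
      exact htR (le_antisymm hs'le (ht.2 ⟨hs'.1.1, bot_le⟩ hs'le) ▸ hs'R)
    · obtain ⟨s', hs', hs'R, hs'le⟩ := (hge s hs.1.1).2 (hJ s hs.1.1 hsp)
      exact hs'R (le_antisymm hs'le (hs.2 ⟨hs'.1.1, bot_le⟩ hs'le) ▸ hsR)
  · exact htR (step s t hsR ht p inferInstance hsp htp (Order.add_one_le_of_lt (not_le.1 hd)))

theorem equidim_of_catenary {A : Type u} [CommRing A] [IsLocalRing A] [IsNoetherianRing A]
    (hc : CAlg.IsCatenary A)
    (h : ∀ p : PrimeSpectrum A, (2 : ℕ∞) ≤ p.asIdeal.height →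
      (2 : ℕ∞) ≤ LocCoh.depth (Localization.AtPrime p.asIdeal) (Localization.AtPrime p.asIdeal)) :
    EGA4.IsEquidim A := by
  haveI : PreconnectedSpace (PrimeSpectrum A) := by
    refine ⟨isPreconnected_closed_iff.2 fun t t' ht ht' _ ⟨x, _, hx⟩ ⟨x', _, hx'⟩ => ?_⟩
    have hspec : ∀ y : PrimeSpectrum A, y ⤳ IsLocalRing.closedPoint A := fun y =>
      (PrimeSpectrum.le_iff_specializes y _).1 (le_maximalIdeal y.isPrime.ne_top)
    exact ⟨IsLocalRing.closedPoint A, trivial, (hspec x).mem_closed ht hx, (hspec x').mem_closed ht' hx'⟩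
  have key : ∀ s t : PrimeSpectrum A, s.asIdeal ∈ minimalPrimes A → t.asIdeal ∈ minimalPrimes A →
      Groth.L10.FormCat.qd s = Groth.L10.FormCat.qd t := by
    intro s t hs ht
    obtain ⟨n, c, h0, hl, hcm, he⟩ := chain 2 (fun p _ hp => h ⟨p, inferInstance⟩ hp) _ _ hs ht
    have : ∀ i : Fin (n + 1), Groth.L10.FormCat.qd (⟨c i, (hcm i).1.1⟩ : PrimeSpectrum A) = Groth.L10.FormCat.qd s := by
      intro i
      induction i using Fin.induction with
      | zero => exact congrArg _ (PrimeSpectrum.ext h0)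
      | succ i ih =>
        obtain ⟨q, hq, h1, h2, h3⟩ := he i
        haveI := hq
        rw [← ih]
        rcases eq_or_ne (c i.succ) (c i.castSucc) with heq | hne
        · exact congrArg _ (PrimeSpectrum.ext heq)
        · have hq1 : q.height ≤ 1 := by
            obtain ⟨e, he'⟩ := ENat.ne_top_iff_exists.1 (Ideal.height_ne_top (I := q) hq.ne_top)
            rw [← he'] at h3 ⊢
            have : e + 1 ≤ 2 := by exact_mod_cast h3
            exact_mod_cast (show e ≤ 1 by omega)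
          have hlt : ∀ j, c j ≤ q → c j ≠ q → (⟨c j, (hcm j).1.1⟩ : PrimeSpectrum A) ⋖ ⟨q, hq⟩ := by
            intro j hj hjne
            refine ⟨lt_of_le_of_ne hj fun hh => hjne (congrArg PrimeSpectrum.asIdeal hh), fun z hz1 hz2 => ?_⟩
            haveI := z.isPrime
            haveI := (hcm j).1.1
            have e1 : (c j).height < z.asIdeal.height :=
              Ideal.height_strict_mono_of_isPrime_of_isPrime (show c j < z.asIdeal from hz1)
            have e2 : z.asIdeal.height < q.height := Ideal.height_strict_mono_of_isPrime_of_isPrime (show z.asIdeal < q from hz2)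
            exact absurd ((Order.add_one_le_of_lt (bot_le.trans_lt e1)).trans_lt (e2.trans_le hq1)) (by simp)
          have hq' : ∀ j, c j ≤ q → c j ≠ q := fun j hj hh => hne (by
            have e1 := (hcm j).2
            rw [hh] at e1
            rw [le_antisymm h2 (e1 ⟨(hcm _).1.1, bot_le⟩ h2), le_antisymm h1 (e1 ⟨(hcm _).1.1, bot_le⟩ h1)])
          rw [Groth.L10.FormCat.covBy_step hc (hlt _ h2 (hq' _ h2)),
            Groth.L10.FormCat.covBy_step hc (hlt _ h1 (hq' _ h1))]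
    rw [← this (Fin.last n)]
    exact congrArg _ (PrimeSpectrum.ext hl)
  intro p hp
  haveI := hp.1.1
  refine le_antisymm (ringKrullDim_quotient_le p) ?_
  obtain ⟨l, hl⟩ := Groth.L01.exists_dim_eq_nat (R := A)
  obtain ⟨s, hs⟩ := (maximalIdeal A).exists_ltSeries_length_eq_height
  obtain ⟨hmin, hcov⟩ := Groth.L22.DimFormula.covBy_of_length_eq_height (s := s) (by
    rw [hs.2, hs.1]; exact PrimeSpectrum.height_eq_orderHeight ⟨_, _⟩)
  have h5 := Groth.L10.FormCat.series_eq hc s hcov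
  rw [key s.head ⟨p, inferInstance⟩ (PrimeSpectrum.isMin_iff.1 hmin) hp] at h5
  have h6 := hs.2
  rw [← WithBot.coe_inj (a := (s.length : ℕ∞)), IsLocalRing.maximalIdeal_height_eq_ringKrullDim] at h6
  rw [← h6, Groth.L10.FormCat.dim_quot ⟨p, inferInstance⟩]
  exact_mod_cast (show s.length ≤ Groth.L10.FormCat.qd (⟨p, inferInstance⟩ : PrimeSpectrum A) by omega)

theorem depth_of_hasSk {A : Type u} [CommRing A] [IsNoetherianRing A] (h : LocCoh.HasSk 2 A A)
    (p : PrimeSpectrum A) (hp : (2 : ℕ∞) ≤ p.asIdeal.height) :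
    (2 : ℕ∞) ≤ LocCoh.depth (Localization.AtPrime p.asIdeal) (Localization.AtPrime p.asIdeal) := by
  obtain ⟨d, e, hd, he⟩ := Groth.L06.QuotRegular.nums_nat p.asIdeal
  have h1 := (Groth.L06.FlatFibre.hasSk_self_iff 2).mp h p.asIdeal
  rw [hd, he, Groth.L06.FlatCodepth.min_cast_le] at h1
  rw [IsLocalization.AtPrime.ringKrullDim_eq_height p.asIdeal (Localization.AtPrime p.asIdeal),
    show (d : WithBot ℕ∞) = ((d : ℕ∞) : WithBot ℕ∞) from rfl, WithBot.coe_inj] at hd
  rw [hd] at hp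
  rw [he]
  have h2 : 2 ≤ d := by exact_mod_cast hp
  exact_mod_cast (show 2 ≤ e by omega)

end Groth.L06.Hartshorne
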