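import Groth.Agent.L12.PSRing
import Groth.Agent.L13.Wild.Kunz
import Groth.Agent.L01.PowSerReg
import Groth.Agent.S0543
import Mathlib.RingTheory.MvPowerSeries.NoZeroDivisors

/-! `B[[X]]` over `k[[X]]` for a Noetherian local `k`-algebra `B`. -/

set_option autoImplicit false
set_option maxSynthPendingDepth 3
set_option linter.style.haveILetI false
noncomputable section
universe u
open IsLocalRing

namespace Groth.L06.CTens

variable {n : ℕ}

theorem mem_span_X_iff {B : Type u} [CommRing B] (s : Finset (Fin n)) (f : MvPowerSeries (Fin n) B) :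
    f ∈ Ideal.span (MvPowerSeries.X '' (s : Set (Fin n))) ↔
      ∀ d : Fin n →₀ ℕ, (∀ i ∈ s, d i = 0) → MvPowerSeries.coeff d f = 0 := by
  classical
  induction s using Finset.induction_on generalizing f with
  | empty =>
    simp only [Finset.coe_empty, Set.image_empty, Ideal.span_empty, Submodule.mem_bot]
    exact ⟨fun h d _ => by rw [h, map_zero], fun h => MvPowerSeries.ext fun d => by rw [map_zero]; exact h d (by simp)⟩
  | insert a s ha ih =>
    rw [Finset.coe_insert, Set.image_insert_eq, Ideal.mem_span_insert]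
    constructor
    · rintro ⟨g, h, hh, rfl⟩ d hd
      rw [map_add, (ih h).mp hh d (fun i hi => hd i (Finset.mem_insert_of_mem hi)), add_zero,
        mul_comm, MvPowerSeries.X, MvPowerSeries.coeff_monomial_mul, if_neg]
      intro hle
      have := hle a
      rw [Finsupp.single_eq_same, hd a (Finset.mem_insert_self a s)] at this
      omega
    · intro hf
      let g : MvPowerSeries (Fin n) B := fun d => MvPowerSeries.coeff (Finsupp.single a 1 + d) f
      refine ⟨g, f - g * MvPowerSeries.X a, (ih _).mpr fun d hd => ?_, by ring⟩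
      rw [map_sub, mul_comm, MvPowerSeries.X, MvPowerSeries.coeff_monomial_mul, one_mul]
      split_ifs with hle
      · rw [show MvPowerSeries.coeff (d - Finsupp.single a 1) g =
          MvPowerSeries.coeff (Finsupp.single a 1 + (d - Finsupp.single a 1)) f from rfl,
          add_tsub_cancel_of_le hle, sub_self]
      · rw [sub_zero]
        refine hf d fun i hi => ?_
        rcases Finset.mem_insert.mp hi with rfl | hi
        · by_contra h
          exact hle (Finsupp.single_le_iff.mpr (Nat.one_le_iff_ne_zero.mpr h))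
        · exact hd i hi

theorem isWeaklyRegular_X (B : Type u) [CommRing B] :
    RingTheory.Sequence.IsWeaklyRegular (MvPowerSeries (Fin n) B)
      (List.ofFn fun i => (MvPowerSeries.X i : MvPowerSeries (Fin n) B)) := by
  classical
  refine ⟨fun i hi => ?_⟩
  rw [List.length_ofFn] at hi
  let s : Finset (Fin n) := Finset.univ.filter fun j => (j : ℕ) < i
  have hI : Ideal.ofList ((List.ofFn fun j => (MvPowerSeries.X j : MvPowerSeries (Fin n) B)).take i) =
      Ideal.span (MvPowerSeries.X '' (s : Set (Fin n))) := by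
    rw [Ideal.ofList]
    refine congrArg Ideal.span (Set.ext fun x => ?_)
    simp only [Set.mem_setOf_eq, Set.mem_image, Finset.mem_coe, s, Finset.mem_filter, Finset.mem_univ, true_and,
      List.mem_take_iff_getElem, List.getElem_ofFn, List.length_ofFn]
    constructor
    · rintro ⟨j, hj, rfl⟩
      exact ⟨⟨j, by omega⟩, show j < i by omega, rfl⟩
    · rintro ⟨j, hj, rfl⟩
      exact ⟨j, by omega, rfl⟩
  rw [isSMulRegular_quotient_iff_mem_of_smul_mem]
  intro x hx
  rw [smul_eq_mul, Ideal.mul_top, hI, mem_span_X_iff] at hx ⊢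
  intro d hd
  have h := hx (Finsupp.single ⟨i, hi⟩ 1 + d) fun j hj => by
    rw [Finsupp.add_apply, hd j hj, add_zero, Finsupp.single_apply, if_neg]
    rintro rfl
    simp [s] at hj
  rw [smul_eq_mul, List.getElem_ofFn, MvPowerSeries.X, MvPowerSeries.coeff_add_monomial_mul, one_mul] at h
  exact h

theorem isNoetherianRing_ps (B : Type u) [CommRing B] [IsNoetherianRing B] :
    IsNoetherianRing (MvPowerSeries (Fin n) B) :=
  haveI : IsNoetherianRing (AdicCompletion (MvPolynomial.idealOfVars (Fin n) B) (MvPolynomial (Fin n) B)) :=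
    Groth.Agent.S0543.result _ _
  isNoetherianRing_of_ringEquiv _ (MvPowerSeries.toAdicCompletionAlgEquiv (Fin n) B).toRingEquiv.symm

variable (k B : Type u) [Field k] [CommRing B] [IsLocalRing B] [Algebra k B]

theorem isLocalHom_ps :
    IsLocalHom (algebraMap (MvPowerSeries (Fin n) k) (MvPowerSeries (Fin n) B)) := by
  refine ⟨fun f hf => ?_⟩
  rw [MvPowerSeries.algebraMap_apply'', MvPowerSeries.isUnit_iff_constantCoeff, MvPowerSeries.constantCoeff_map] at hf
  rw [MvPowerSeries.isUnit_iff_constantCoeff]
  refine isUnit_iff_ne_zero.mpr fun h => ?_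
  rw [h, map_zero] at hf
  exact not_isUnit_zero hf

theorem flat_ps [IsNoetherianRing B] :
    Module.Flat (MvPowerSeries (Fin n) k) (MvPowerSeries (Fin n) B) := by
  haveI := isLocalHom_ps (n := n) k B
  haveI := isNoetherianRing_ps (n := n) B
  let rs := List.ofFn fun i => (MvPowerSeries.X i : MvPowerSeries (Fin n) k)
  have hgen : Ideal.ofList rs = maximalIdeal (MvPowerSeries (Fin n) k) := by
    rw [show maximalIdeal (MvPowerSeries (Fin n) k) = Groth.L01.PowSerReg.varIdeal k n from Groth.L01.PowSerReg.maximalIdeal_eq k n,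
      Groth.L01.PowSerReg.varIdeal, Ideal.ofList]
    exact congrArg Ideal.span (Set.ext fun x => List.mem_ofFn)
  refine RingHom.flat_algebraMap_iff.mp
    (Groth.L13.Wild.Kunz.flat_of_map_isWeaklyRegular _ _ _ rs hgen (isWeaklyRegular_X k) ?_)
  have : rs.map (algebraMap (MvPowerSeries (Fin n) k) (MvPowerSeries (Fin n) B)) =
      List.ofFn fun i => (MvPowerSeries.X i : MvPowerSeries (Fin n) B) := by
    rw [List.map_ofFn]
    exact congrArg List.ofFn (funext fun i => by simp [MvPowerSeries.algebraMap_apply''])
  rw [this]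
  exact isWeaklyRegular_X B

omit [IsLocalRing B] in
theorem isReduced_ps [IsReduced B] : IsReduced (MvPowerSeries (Fin n) B) := by
  refine ⟨fun f ⟨N, hN⟩ => MvPowerSeries.ext fun d => ?_⟩
  rw [map_zero]
  refine IsNilpotent.eq_zero (mem_nilradical.mp ?_)
  refine (nilradical_eq_sInf B).symm ▸ (Submodule.mem_sInf.mpr fun q hq => ?_)
  haveI : Ideal.IsPrime q := hq
  haveI : IsDomain (B ⧸ q) := Ideal.Quotient.isDomain q
  have h : MvPowerSeries.map (Ideal.Quotient.mk q) f = 0 :=
    IsNilpotent.eq_zero ⟨N, by rw [← map_pow, hN, map_zero]⟩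
  have h' := congrArg (MvPowerSeries.coeff d) h
  rwa [MvPowerSeries.coeff_map, map_zero, Ideal.Quotient.eq_zero_iff_mem] at h'

omit [IsLocalRing B] in
theorem isDomain_ps [IsDomain B] : IsDomain (MvPowerSeries (Fin n) B) :=
  NoZeroDivisors.to_isDomain _

end Groth.L06.CTens
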