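import Groth.Agent.L06.SkNoEmbedded
import Mathlib.RingTheory.Ideal.GoingUp
import Mathlib.RingTheory.IntegralClosure.IsIntegralClosure.Basic

/-! Dimension and depth of a module finite over a base ring. -/

set_option autoImplicit false
set_option maxSynthPendingDepth 3
set_option linter.all false
noncomputable section
universe u
open IsLocalRing RingTheory.Sequence

namespace Groth.L06.FiniteSupp

variable {A B : Type u} [CommRing A] [CommRing B] [Algebra A B]
  {M : Type u} [AddCommGroup M] [Module B M] [Module A M] [IsScalarTower A B M] [Module.Finite A M]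

theorem comap_annihilator : (Module.annihilator B M).comap (algebraMap A B) = Module.annihilator A M := by
  ext a
  simp [Ideal.mem_comap, Module.mem_annihilator]

theorem mem_support_comap {q : PrimeSpectrum B} (hq : q ∈ Module.support B M) :
    PrimeSpectrum.comap (algebraMap A B) q ∈ Module.support A M := by
  haveI : Module.Finite B M := Module.Finite.of_restrictScalars_finite A B M
  rw [Module.mem_support_iff_of_finite] at hq ⊢
  rw [← comap_annihilator (A := A) (B := B)]
  exact Ideal.comap_mono hq

variable [IsNoetherianRing A]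

theorem finite_quot : Module.Finite A (B ⧸ Module.annihilator B M) := by
  let L : (B ⧸ Module.annihilator B M) →ₗ[A] (M →ₗ[A] M) := Submodule.liftQ
    ((Module.annihilator B M).restrictScalars A) ((Algebra.lsmul A A M).toLinearMap) (fun b hb => by
      rw [LinearMap.mem_ker]
      exact LinearMap.ext fun x => Module.mem_annihilator.1 hb x)
  refine Module.Finite.of_injective L ?_
  rw [injective_iff_map_eq_zero]
  intro y hy
  obtain ⟨b, rfl⟩ := Ideal.Quotient.mk_surjective y
  exact Ideal.Quotient.eq_zero_iff_mem.2 (Module.mem_annihilator.2 fun x => LinearMap.congr_fun hy x)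

/-- lifting primes of the support, above a given one -/
theorem exists_over_above {p : PrimeSpectrum A} (hp : p ∈ Module.support A M) {J : Ideal B}
    (hJ : Module.annihilator B M ≤ J) (hJp : J.comap (algebraMap A B) ≤ p.asIdeal) :
    ∃ q : PrimeSpectrum B, J ≤ q.asIdeal ∧ q.asIdeal.comap (algebraMap A B) = p.asIdeal ∧ q ∈ Module.support B M := by
  haveI : Module.Finite B M := Module.Finite.of_restrictScalars_finite A B M
  haveI := finite_quot (A := A) (B := B) (M := M)
  let S := B ⧸ Module.annihilator B M
  haveI : Algebra.IsIntegral A S := Algebra.IsIntegral.of_finite A S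
  let π := Ideal.Quotient.mk (Module.annihilator B M)
  obtain ⟨Q, hQ, hQp, hQc⟩ := Ideal.exists_ideal_over_prime_of_isIntegral (S := S) p.asIdeal (J.map π) (by
    refine le_trans ?_ hJp
    intro a ha
    have h1 : π (algebraMap A B a) ∈ J.map π := ha
    rw [← Ideal.mem_comap, Ideal.comap_map_quotientMk, sup_eq_right.2 hJ] at h1
    exact h1)
  refine ⟨⟨Q.comap π, hQp.comap _⟩, Ideal.map_le_iff_le_comap.1 hQ, ?_, Module.mem_support_iff_of_finite.2
    (le_trans (le_of_eq Ideal.mk_ker.symm) (Ideal.ker_le_comap _))⟩
  exact hQc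

theorem height_le_exists : ∀ (n : ℕ) (p : Module.support A M), (n : ℕ∞) ≤ Order.height p →
    ∃ q : Module.support B M, q.1.asIdeal.comap (algebraMap A B) = p.1.asIdeal ∧ (n : ℕ∞) ≤ Order.height q := by
  intro n
  induction n with
  | zero =>
    intro p _
    haveI : Module.Finite B M := Module.Finite.of_restrictScalars_finite A B M
    obtain ⟨q, -, h1, h2⟩ := exists_over_above p.2 (J := Module.annihilator B M) le_rfl (by
      rw [comap_annihilator]; exact Module.mem_support_iff_of_finite.1 p.2)
    exact ⟨⟨q, h2⟩, h1, by simp⟩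
  | succ n ih =>
    intro p hp
    obtain ⟨s, hs, hsl⟩ := Order.exists_series_of_le_height p hp
    let i : Fin (s.length + 1) := ⟨n, by omega⟩
    have hlt : s i < p := by
      rw [← hs]
      exact s.strictMono (show i < Fin.last _ from by simp [i, Fin.lt_def]; omega)
    obtain ⟨q', hq', hn⟩ := ih (s i) (Order.index_le_height s i)
    haveI : Module.Finite B M := Module.Finite.of_restrictScalars_finite A B M
    obtain ⟨q, hle, h1, h2⟩ := exists_over_above p.2 (J := q'.1.asIdeal) (Module.mem_support_iff_of_finite.1 q'.2)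
      (hq'.le.trans hlt.le)
    refine ⟨⟨q, h2⟩, h1, ?_⟩
    have hlt' : q' < ⟨q, h2⟩ := by
      refine lt_of_le_of_ne hle fun h => hlt.ne (Subtype.ext (PrimeSpectrum.ext ?_))
      rw [← hq', ← h1, h]
    push_cast
    exact (add_le_add hn le_rfl).trans (Order.height_add_one_le hlt')

theorem comap_strictMono {q q' : Module.support B M} (h : q < q') :
    q.1.asIdeal.comap (algebraMap A B) < q'.1.asIdeal.comap (algebraMap A B) := by
  haveI : Module.Finite B M := Module.Finite.of_restrictScalars_finite A B M
  haveI := finite_quot (A := A) (B := B) (M := M)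
  let S := B ⧸ Module.annihilator B M
  haveI : Algebra.IsIntegral A S := Algebra.IsIntegral.of_finite A S
  let π := Ideal.Quotient.mk (Module.annihilator B M)
  have hker : ∀ q : Module.support B M, RingHom.ker π ≤ q.1.asIdeal := fun q => by
    rw [Ideal.mk_ker]; exact Module.mem_support_iff_of_finite.1 q.2
  have hc : ∀ q : Module.support B M, (q.1.asIdeal.map π).comap π = q.1.asIdeal := fun q => by
    rw [Ideal.comap_map_quotientMk, sup_eq_right.2 (Module.mem_support_iff_of_finite.1 q.2)]
  haveI := Ideal.map_isPrime_of_surjective (f := π) Ideal.Quotient.mk_surjective (hker q)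
  have hlt : q.1.asIdeal.map π < q'.1.asIdeal.map π := lt_of_le_of_ne (Ideal.map_mono h.le) fun he =>
    h.ne (Subtype.ext (PrimeSpectrum.ext (by rw [← hc q, ← hc q', he])))
  have h2 := Ideal.IsIntegral.comap_lt_comap (R := A) hlt
  have e : ∀ q : Module.support B M, (q.1.asIdeal.map π).comap (algebraMap A S) = q.1.asIdeal.comap (algebraMap A B) := fun q => by
    conv_rhs => rw [← hc q]
    rfl
  rwa [e, e] at h2

theorem supportDim_eq (p : Ideal A) [p.IsPrime] :
    Module.supportDim (Localization.AtPrime p) (LocalizedModule p.primeCompl M) =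
        ⨆ q ∈ {q : PrimeSpectrum B | q.asIdeal.comap (algebraMap A B) = p ∧ q ∈ Module.support B M},
          Module.supportDim (Localization.AtPrime q.asIdeal) (LocalizedModule q.asIdeal.primeCompl M) := by
  by_cases hp : (⟨p, inferInstance⟩ : PrimeSpectrum A) ∈ Module.support A M
  · refine le_antisymm ?_ (iSup₂_le fun q hq => ?_)
    · rw [Groth.L12.GrLCLib.supportDim_localized_eq_height ⟨p, inferInstance⟩ hp]
      refine le_of_forall_lt fun c hc => ?_
      obtain ⟨n, hcn, hn⟩ : ∃ n : ℕ, c < (n : WithBot ℕ∞) ∧ (n : ℕ∞) ≤ Order.height (⟨⟨p, inferInstance⟩, hp⟩ : Module.support A M) := by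
        induction c using WithBot.recBotCoe with
        | bot => exact ⟨0, WithBot.bot_lt_coe _, bot_le⟩
        | coe c =>
          have hc' := WithBot.coe_lt_coe.1 hc
          obtain ⟨k, rfl⟩ := ENat.ne_top_iff_exists.1 hc'.ne_top
          exact ⟨k + 1, by exact_mod_cast Nat.lt_succ_self k, by exact_mod_cast Order.add_one_le_of_lt hc'⟩
      obtain ⟨q, hq, hqn⟩ := height_le_exists (B := B) n _ hn
      refine lt_of_lt_of_le hcn (le_trans ?_ (le_iSup₂ (f := fun (q : PrimeSpectrum B) _ =>
        Module.supportDim (Localization.AtPrime q.asIdeal) (LocalizedModule q.asIdeal.primeCompl M)) q.1 ⟨hq, q.2⟩))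
      rw [Groth.L12.GrLCLib.supportDim_localized_eq_height q.1 q.2]
      exact_mod_cast hqn
    · rw [Groth.L12.GrLCLib.supportDim_localized_eq_height q hq.2,
        Groth.L12.GrLCLib.supportDim_localized_eq_height ⟨p, inferInstance⟩ hp, WithBot.coe_le_coe]
      have := Order.height_le_height_apply_of_strictMono
        (fun q : Module.support B M => (⟨PrimeSpectrum.comap (algebraMap A B) q.1, mem_support_comap q.2⟩ : Module.support A M))
        (fun a b hab => comap_strictMono hab) ⟨q, hq.2⟩
      refine this.trans_eq (congrArg Order.height (Subtype.ext ?_))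
      exact PrimeSpectrum.ext (x := PrimeSpectrum.comap (algebraMap A B) q) (y := ⟨p, inferInstance⟩) hq.1
  · haveI : Subsingleton (LocalizedModule p.primeCompl M) := Module.notMem_support_iff.1 hp
    rw [Module.supportDim_eq_bot_of_subsingleton]
    refine le_antisymm bot_le (iSup₂_le fun q hq => ?_)
    exfalso
    exact hp (by
      have := mem_support_comap (A := A) hq.2
      rwa [show PrimeSpectrum.comap (algebraMap A B) q = ⟨p, inferInstance⟩ from PrimeSpectrum.ext hq.1] at this)

theorem exists_assoc_over [IsNoetherianRing B] {N : Type u} [AddCommGroup N] [Module B N] [Module A N]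
    [IsScalarTower A B N] {p : Ideal A} (hp : p ∈ associatedPrimes A N) :
    ∃ q ∈ associatedPrimes B N, q.comap (algebraMap A B) = p := by
  obtain ⟨hpp, n, hn⟩ := isAssociatedPrime_iff.1 hp
  let L : Submodule B N := Submodule.span B {n}
  haveI : Module.Finite B L := Module.Finite.iff_fg.2 ⟨{n}, by simp [L]⟩
  let J := Module.annihilator B L
  have hJ : ∀ b : B, b ∈ J ↔ b • n = 0 := fun b => by
    refine ⟨fun h => congrArg Subtype.val (Module.mem_annihilator.1 h ⟨n, Submodule.mem_span_singleton_self n⟩), fun h => ?_⟩
    refine Module.mem_annihilator.2 fun ⟨x, hx⟩ => Subtype.ext ?_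
    obtain ⟨c, rfl⟩ := Submodule.mem_span_singleton.1 hx
    show b • c • n = 0
    rw [smul_comm, h, smul_zero]
  have hJc : J.comap (algebraMap A B) = p := by
    ext a
    rw [Ideal.mem_comap, hJ, algebraMap_smul, hn, Submodule.mem_colon_singleton, Submodule.mem_bot]
  obtain ⟨q, hq, hqp⟩ : ∃ q ∈ J.minimalPrimes, q.comap (algebraMap A B) = p := by
    have hfin := Ideal.finite_minimalPrimes_of_isNoetherianRing B J
    have h1 : hfin.toFinset.inf (fun q => q.comap (algebraMap A B)) ≤ p := by
      intro a ha
      have h2 : algebraMap A B a ∈ J.radical := by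
        rw [← Ideal.sInf_minimalPrimes, Submodule.mem_sInf]
        intro q hq
        exact (Finset.inf_le (f := fun q => q.comap (algebraMap A B)) (hfin.mem_toFinset.2 hq)) ha
      obtain ⟨k, hk⟩ := h2
      rw [← map_pow] at hk
      exact hpp.mem_of_pow_mem k (hJc.le hk)
    obtain ⟨q, hq, hqle⟩ := hpp.inf_le'.1 h1
    have hqm := hfin.mem_toFinset.1 hq
    exact ⟨q, hqm, le_antisymm hqle (hJc.ge.trans (Ideal.comap_mono hqm.1.2))⟩
  exact ⟨q, associatedPrimes.subset_of_injective (f := L.subtype) Subtype.val_injective
    (Module.associatedPrimes.minimalPrimes_annihilator_subset_associatedPrimes B L hq), hqp⟩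

theorem depth_eq [IsNoetherianRing B] (p : Ideal A) [p.IsPrime] :
    LocCoh.depth (Localization.AtPrime p) (LocalizedModule p.primeCompl M) =
        ⨅ q ∈ {q : PrimeSpectrum B | q.asIdeal.comap (algebraMap A B) = p ∧ q ∈ Module.support B M},
          LocCoh.depth (Localization.AtPrime q.asIdeal) (LocalizedModule q.asIdeal.primeCompl M) := by
  haveI : Module.Finite B M := Module.Finite.of_restrictScalars_finite A B M
  let Rp := Localization.AtPrime p
  let Mp := LocalizedModule p.primeCompl M
  let φ := LocalizedModule.mkLinearMap p.primeCompl M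
  haveI : IsNoetherianRing Rp := IsLocalization.isNoetherianRing p.primeCompl Rp inferInstance
  haveI : Module.Finite Rp Mp := Module.Finite.of_isLocalizedModule p.primeCompl φ
  by_cases hp : (⟨p, inferInstance⟩ : PrimeSpectrum A) ∈ Module.support A M
  swap
  · haveI : Subsingleton Mp := Module.notMem_support_iff.1 hp
    have h0 : LocCoh.depth Rp Mp = ⊤ := Groth.L04.idealDepth_eq_top (Subsingleton.elim _ _)
    rw [h0]
    refine le_antisymm (le_iInf₂ fun q hq => ?_) le_top
    exfalso
    exact hp (by
      have := mem_support_comap (A := A) hq.2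
      rwa [show PrimeSpectrum.comap (algebraMap A B) q = ⟨p, inferInstance⟩ from PrimeSpectrum.ext hq.1] at this)
  haveI : Nontrivial Mp := Module.mem_support_iff.1 hp
  obtain ⟨rs, -, hrs, hI, z, hz0, hz⟩ := Groth.L04.exists_maximal_regular (I := maximalIdeal Rp) (M := Mp)
    (Groth.L04.smul_top_ne_top_of_nontrivial (maximalIdeal.isMaximal Rp).ne_top) (IsWeaklyRegular.nil Rp _) (by simp)
  have hd : LocCoh.depth Rp Mp = rs.length := Groth.L04.idealDepth_eq_length hrs hI hz0 hz
  obtain ⟨bs, hassoc⟩ := Groth.L06.SkNoEmbedded.lift_seq p.primeCompl rs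
  have hlen : bs.length = rs.length := by rw [hassoc.length_eq, List.length_map]
  have hspan := Groth.L06.SkNoEmbedded.span_of_associated hassoc
  have hreg := (isWeaklyRegular_map_algebraMap_iff _ Mp bs).1 (Groth.L04.isWeaklyRegular_of_associated hassoc hrs)
  have hbs : ∀ b ∈ bs, b ∈ p := fun b hb => (IsLocalization.AtPrime.to_map_mem_maximal_iff Rp p b).1 (by
    have h1 : algebraMap A Rp b ∈ Ideal.ofList (bs.map (algebraMap A Rp)) := Ideal.subset_span (List.mem_map.2 ⟨b, hb, rfl⟩)
    rw [← hspan] at h1
    exact Ideal.span_le.2 hI h1)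
  let bsB := bs.map (algebraMap A B)
  have hregq : ∀ (q : Ideal B) [q.IsPrime], q.comap (algebraMap A B) = p →
      IsWeaklyRegular (LocalizedModule q.primeCompl M) bsB := by
    intro q _ hqc
    haveI : Module.Finite B M := Module.Finite.of_restrictScalars_finite A B M
    refine (isWeaklyRegular_map_algebraMap_iff _ _ bs).2 ?_
    rw [Groth.L07.RegSeq.isWeaklyRegular_iff_mem] at hreg ⊢
    intro i hi y hy
    let mq := LocalizedModule.mkLinearMap q.primeCompl M
    let U := Ideal.ofList (bs.take i) • (⊤ : Submodule A M)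
    obtain ⟨⟨y0, s⟩, rfl⟩ := IsLocalizedModule.mk'_surjective q.primeCompl mq y
    simp only [Function.uncurry_apply_pair] at hy ⊢
    -- membership in the localized submodule
    have hmem : ∀ (x : M) (s : q.primeCompl), IsLocalizedModule.mk' mq x s ∈
        Ideal.ofList (bs.take i) • (⊤ : Submodule A (LocalizedModule q.primeCompl M)) ↔
          ∃ t : q.primeCompl, (t : B) • x ∈ U := by
      intro x s
      have hUB : ((Ideal.ofList ((bs.take i).map (algebraMap A B))) • (⊤ : Submodule B M)).restrictScalars A = U := by
        rw [← Ideal.map_ofList]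
        exact Groth.L06.GenericNormallyFlat.restrictScalars_map_smul _
      have hUq : ((Ideal.ofList ((bs.take i).map (algebraMap A B))) • (⊤ : Submodule B (LocalizedModule q.primeCompl M))).restrictScalars A =
          Ideal.ofList (bs.take i) • (⊤ : Submodule A (LocalizedModule q.primeCompl M)) := by
        rw [← Ideal.map_ofList]
        exact Groth.L06.GenericNormallyFlat.restrictScalars_map_smul _
      rw [← hUq, Submodule.restrictScalars_mem]
      have hloc : (Ideal.ofList ((bs.take i).map (algebraMap A B))) • (⊤ : Submodule B (LocalizedModule q.primeCompl M)) =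
          ((Ideal.ofList ((bs.take i).map (algebraMap A B))) • (⊤ : Submodule B M)).localized₀ q.primeCompl mq := by
        rw [Submodule.localized₀_smul, Submodule.localized₀_top]
      rw [hloc]
      constructor
      · rintro ⟨m0, hm0, t, ht⟩
        obtain ⟨c, hc⟩ := IsLocalizedModule.mk'_eq_mk'_iff mq _ _ _ _ |>.1 ht
        refine ⟨c * t, ?_⟩
        rw [← hUB, Submodule.restrictScalars_mem, Submonoid.coe_mul, mul_smul]
        simp only [Submonoid.smul_def] at hc
        rw [hc]
        exact Submodule.smul_mem _ _ (Submodule.smul_mem _ _ hm0)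
      · rintro ⟨t, ht⟩
        refine ⟨(t : B) • x, ?_, t * s, ?_⟩
        · rw [← hUB, Submodule.restrictScalars_mem] at ht; exact ht
        · rw [← Submonoid.smul_def, IsLocalizedModule.mk'_cancel_left]
    rw [← algebraMap_smul B bs[i] (IsLocalizedModule.mk' mq y0 s), ← IsLocalizedModule.mk'_smul, hmem] at hy
    rw [hmem]
    obtain ⟨t, ht⟩ := hy
    -- push to `M_p`
    have hpush := Submodule.smul_top_le_comap_smul_top (Ideal.ofList (bs.take i)) φ ht
    rw [Submodule.mem_comap, algebraMap_smul, smul_comm, map_smul] at hpush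
    have h3 := hreg i hi _ hpush
    -- pull back
    have hUp : Ideal.ofList (bs.take i) • (⊤ : Submodule A Mp) = U.localized₀ p.primeCompl φ := by
      rw [Submodule.localized₀_smul, Submodule.localized₀_top]
    rw [hUp] at h3
    obtain ⟨m0, hm0, c, hc⟩ := h3
    rw [IsLocalizedModule.mk'_eq_iff, Submonoid.smul_def, ← map_smul] at hc
    obtain ⟨d, hd⟩ := (IsLocalizedModule.eq_iff_exists p.primeCompl φ).1 hc
    have hcq : ∀ c : p.primeCompl, algebraMap A B (c : A) ∉ q := fun c h => c.2 (hqc.le h)
    refine ⟨⟨algebraMap A B (d : A), hcq d⟩ * ⟨algebraMap A B (c : A), hcq c⟩ * t, ?_⟩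
    simp only [Submonoid.coe_mul, mul_smul, algebraMap_smul]
    simp only [Submonoid.smul_def] at hd
    rw [← hd]
    exact Submodule.smul_mem _ _ hm0
  rw [hd]
  refine le_antisymm (le_iInf₂ fun q hq => ?_) ?_
  · haveI : IsNoetherianRing (Localization.AtPrime q.asIdeal) := IsLocalization.isNoetherianRing q.asIdeal.primeCompl _ inferInstance
    rw [show rs.length = (bsB.map (algebraMap B (Localization.AtPrime q.asIdeal))).length by
      rw [List.length_map, List.length_map, hlen]]
    refine Groth.L04.length_le_idealDepth ((isWeaklyRegular_map_algebraMap_iff _ _ bsB).2 (hregq q.asIdeal hq.1)) ?_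
    intro r hr
    obtain ⟨r, hr', rfl⟩ := List.mem_map.1 hr
    obtain ⟨a, ha, rfl⟩ := List.mem_map.1 hr'
    exact (IsLocalization.AtPrime.to_map_mem_maximal_iff _ q.asIdeal _).2 (hq.1.ge (hbs a ha))
  · -- an associated prime over `p`
    let U := Ideal.ofList bs • (⊤ : Submodule A M)
    have heq : Ideal.ofList rs • (⊤ : Submodule Rp Mp) = U.localized' Rp p.primeCompl φ := by
      rw [hspan, Groth.L06.SkNoEmbedded.localized_ofList]
    let e := Submodule.quotEquivOfEq _ _ heq
    have hmem : maximalIdeal Rp ∈ associatedPrimes Rp (Mp ⧸ U.localized' Rp p.primeCompl φ) := by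
      refine isAssociatedPrime_iff.2 ⟨inferInstance, e z, le_antisymm
        (fun a ha => Submodule.mem_colon_singleton.2 (by simp [← map_smul, hz a ha])) (fun a ha => ?_)⟩
      rw [Submodule.mem_colon_singleton, Submodule.mem_bot, ← map_smul, LinearEquiv.map_eq_zero_iff] at ha
      by_contra h0
      exact hz0 ((IsLocalRing.notMem_maximalIdeal.1 h0).smul_eq_zero.1 ha)
    rw [← Module.associatedPrimes.preimage_comap_associatedPrimes_eq_associatedPrimes_of_isLocalizedModule p.primeCompl Rp
      (U.toLocalizedQuotient' Rp p.primeCompl φ), Set.mem_preimage] at hmem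
    rw [show Ideal.comap (algebraMap A Rp) (maximalIdeal Rp) = p from IsLocalization.AtPrime.under_maximalIdeal Rp p] at hmem
    have hUB : ((Ideal.ofList bsB) • (⊤ : Submodule B M)).restrictScalars A = U := by
      rw [← Ideal.map_ofList]
      exact Groth.L06.GenericNormallyFlat.restrictScalars_map_smul _
    let eN : (M ⧸ U) ≃ₗ[A] (M ⧸ (Ideal.ofList bsB • (⊤ : Submodule B M))) :=
      (Submodule.quotEquivOfEq _ _ hUB.symm).trans
        ((Submodule.Quotient.restrictScalarsEquiv A (Ideal.ofList bsB • (⊤ : Submodule B M))).restrictScalars A)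
    rw [LinearEquiv.AssociatedPrimes.eq eN] at hmem
    obtain ⟨q, hq, hqc⟩ := exists_assoc_over (B := B) hmem
    haveI := hq.1
    have hqsupp : (⟨q, hq.1⟩ : PrimeSpectrum B) ∈ Module.support B M := by
      refine Module.mem_support_iff_of_finite.2 (le_trans ?_ (IsAssociatedPrime.annihilator_le hq |>.trans' (le_of_eq Submodule.annihilator_top.symm)))
      exact LinearMap.annihilator_le_of_surjective (Submodule.mkQ _) (Submodule.mkQ_surjective _)
    refine (iInf₂_le (⟨q, hq.1⟩ : PrimeSpectrum B) ⟨hqc, hqsupp⟩).trans ?_
    rw [Groth.L06.SkNoEmbedded.depth_eq_length (bs := bsB) (fun b hb => by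
      obtain ⟨a, ha, rfl⟩ := List.mem_map.1 hb
      exact hqc.ge (hbs a ha)) (hregq q hqc) hq, List.length_map, hlen]

end Groth.L06.FiniteSupp

namespace Groth.L06.FiniteSupp

theorem local_eq {A : Type u} [CommRing A] [IsNoetherianRing A] [IsLocalRing A] (M : Type u) [AddCommGroup M]
    [Module A M] [Module.Finite A M] [Nontrivial M] :
    Module.supportDim (Localization.AtPrime (maximalIdeal A)) (LocalizedModule (maximalIdeal A).primeCompl M) =
        Module.supportDim A M ∧
      LocCoh.depth (Localization.AtPrime (maximalIdeal A)) (LocalizedModule (maximalIdeal A).primeCompl M) =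
        LocCoh.depth A M := by
  constructor
  · have hm : (⟨maximalIdeal A, inferInstance⟩ : PrimeSpectrum A) ∈ Module.support A M :=
      IsLocalRing.closedPoint_mem_support A M
    letI : OrderTop (Module.support A M) :=
      { top := ⟨⟨maximalIdeal A, inferInstance⟩, hm⟩
        le_top := fun Q => (le_maximalIdeal Q.1.isPrime.ne_top : Q.1.asIdeal ≤ maximalIdeal A) }
    rw [Groth.L12.GrLCLib.supportDim_localized_eq_height ⟨maximalIdeal A, inferInstance⟩ hm, Module.supportDim]
    exact Order.height_top_eq_krullDim
  · obtain ⟨bs, -, hbs, hI, z, hz0, hz⟩ := Groth.L04.exists_maximal_regular (I := maximalIdeal A) (M := M)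
      (Groth.L04.smul_top_ne_top_of_nontrivial (maximalIdeal.isMaximal A).ne_top) (IsWeaklyRegular.nil A _) (by simp)
    rw [show LocCoh.depth A M = bs.length from Groth.L04.idealDepth_eq_length hbs hI hz0 hz]
    refine Groth.L06.SkNoEmbedded.depth_eq_length hI ?_ ?_
    · exact (isWeaklyRegular_map_algebraMap_iff _ _ bs).1 (hbs.of_isLocalizedModule
        (Localization.AtPrime (maximalIdeal A)) (maximalIdeal A).primeCompl (LocalizedModule.mkLinearMap _ M))
    · refine isAssociatedPrime_iff.2 ⟨inferInstance, z, le_antisymm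
        (fun a ha => Submodule.mem_colon_singleton.2 (by simpa using hz a ha)) (fun a ha => ?_)⟩
      rw [Submodule.mem_colon_singleton, Submodule.mem_bot] at ha
      by_contra h0
      exact hz0 ((IsLocalRing.notMem_maximalIdeal.1 h0).smul_eq_zero.1 ha)

end Groth.L06.FiniteSupp
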