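import Groth.Agent.L06.NormallyFlatFormula
import Groth.Agent.L06.FiniteSupp
import Groth.Agent.L02.CMMor.FlatDepth
import Groth.Agent.L02.FibDepth.Semi
import Mathlib.RingTheory.RingHom.Flat
import Mathlib.RingTheory.Localization.LocalizationLocalization

/-! `(S_k)` for tensor products with flat modules (EGA IV 6.4). -/

set_option autoImplicit false
set_option maxSynthPendingDepth 3
set_option linter.all false
noncomputable section
universe u
open IsLocalRing TensorProduct

namespace Groth.L06.SkTensor

theorem flat_tensor {A B : Type u} [CommRing A] [CommRing B] [Algebra A B] (L : Type u) [CommRing L] [Algebra B L]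
    [Algebra A L] [IsScalarTower A B L] [Module.Flat B L] (F : Type u) [AddCommGroup F] [Module B F] [Module A F]
    [IsScalarTower A B F] [Module.Flat A F] : Module.Flat A (L ⊗[B] F) := by
  rw [Module.Flat.iff_lTensor_preserves_injective_linearMap]
  intro X Y _ _ _ _ g hg
  let gF : F ⊗[A] X →ₗ[B] F ⊗[A] Y := AlgebraTensorModule.lTensor B F g
  have h1 : Function.Injective (gF.lTensor L) := Module.Flat.lTensor_preserves_injective_linearMap gF
    (Module.Flat.lTensor_preserves_injective_linearMap (M := F) g hg)
  let eX := AlgebraTensorModule.assoc A B L L F X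
  let eY := AlgebraTensorModule.assoc A B L L F Y
  have key : ∀ t : (L ⊗[B] F) ⊗[A] X, eY (g.lTensor (L ⊗[B] F) t) = gF.lTensor L (eX t) := by
    intro t
    induction t using TensorProduct.induction_on with
    | zero => simp
    | tmul z x =>
      induction z using TensorProduct.induction_on with
      | zero => simp
      | tmul l f => simp [eX, eY, gF]
      | add a b ha hb => simp only [add_tmul, map_add, ha, hb]
    | add a b ha hb => simp only [map_add, ha, hb]
  intro a b hab
  exact eX.injective (h1 (by rw [← key, ← key, hab]))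

/-- localizing twice -/
theorem invariants_localized {R : Type u} [CommRing R] (M : Type u) [AddCommGroup M] [Module R M] [Module.Finite R M]
    (q : Ideal R) [q.IsPrime] (P' : Ideal (Localization.AtPrime q)) [P'.IsPrime] (P : Ideal R) [P.IsPrime]
    (hP : P'.comap (algebraMap R (Localization.AtPrime q)) = P) :
    Module.supportDim (Localization.AtPrime P') (LocalizedModule P'.primeCompl (LocalizedModule q.primeCompl M)) =
        Module.supportDim (Localization.AtPrime P) (LocalizedModule P.primeCompl M) ∧
      LocCoh.depth (Localization.AtPrime P') (LocalizedModule P'.primeCompl (LocalizedModule q.primeCompl M)) =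
        LocCoh.depth (Localization.AtPrime P) (LocalizedModule P.primeCompl M) := by
  subst hP
  let B := Localization.AtPrime q
  let MB := LocalizedModule q.primeCompl M
  let P := P'.comap (algebraMap R B)
  let L := Localization.AtPrime P'
  haveI : IsLocalization.AtPrime L P :=
    IsLocalization.isLocalization_isLocalization_atPrime_isLocalization q.primeCompl L P'
  let m := LocalizedModule.mkLinearMap q.primeCompl M
  let m' := LocalizedModule.mkLinearMap P'.primeCompl MB
  let c : M →ₗ[R] LocalizedModule P'.primeCompl MB := (m'.restrictScalars R).comp m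
  have hc : IsLocalizedModule P.primeCompl c :=
    (isLocalizedModule_iff_isBaseChange P.primeCompl L c).2
      ((IsLocalizedModule.isBaseChange q.primeCompl B m).comp (IsLocalizedModule.isBaseChange P'.primeCompl L m'))
  haveI := hc
  let ψ : L ≃ₐ[R] Localization.AtPrime P := IsLocalization.algEquiv P.primeCompl L (Localization.AtPrime P)
  let g : LocalizedModule P'.primeCompl MB ≃ₗ[R] LocalizedModule P.primeCompl M := (IsLocalizedModule.iso P.primeCompl c).symm
  let E : L02.FibDepth.Semi L (LocalizedModule P'.primeCompl MB) (Localization.AtPrime P) (LocalizedModule P.primeCompl M) :=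
    { φ := ψ.toRingEquiv.toRingHom
      surj := ψ.surjective
      e := g.toAddEquiv
      map_smul := fun x v => by
        obtain ⟨r, s, rfl⟩ := IsLocalization.exists_mk'_eq P.primeCompl x
        have hu := (Module.End.isUnit_iff _).1
          (IsLocalizedModule.map_units (LocalizedModule.mkLinearMap P.primeCompl M) s)
        refine hu.1 ?_
        show (s : R) • g (IsLocalization.mk' L r s • v) = (s : R) • (ψ (IsLocalization.mk' L r s) • g v)
        rw [← map_smul g, ← smul_assoc, ← smul_assoc, Algebra.smul_def, IsLocalization.mk'_spec', algebraMap_smul,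
          map_smul, Algebra.smul_def, ← AlgEquiv.commutes ψ (s : R), ← map_mul, IsLocalization.mk'_spec',
          AlgEquiv.commutes, algebraMap_smul] }
  haveI : Module.Finite B MB := Module.Finite.of_isLocalizedModule q.primeCompl m
  haveI : Module.Finite L (LocalizedModule P'.primeCompl MB) := Module.Finite.of_isLocalizedModule P'.primeCompl m'
  exact ⟨E.supportDim_eq, E.depth_eq⟩

theorem hasSkAt_iff {R : Type u} [CommRing R] (M : Type u) [AddCommGroup M] [Module R M] [Module.Finite R M] (k : ℕ)
    (q : Ideal R) [q.IsPrime] :
    EGA4.HasSkAt k R M q ↔ ∀ (P : Ideal R) [P.IsPrime], P ≤ q →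
      min (k : WithBot ℕ∞) (Module.supportDim (Localization.AtPrime P) (LocalizedModule P.primeCompl M)) ≤
        ((LocCoh.depth (Localization.AtPrime P) (LocalizedModule P.primeCompl M) : ℕ∞) : WithBot ℕ∞) := by
  constructor
  · intro h P _ hPq
    let P' := P.map (algebraMap R (Localization.AtPrime q))
    haveI : P'.IsPrime := Ideal.isPrime_map_of_isLocalizationAtPrime q hPq
    obtain ⟨h1, h2⟩ := invariants_localized M q P' P (Ideal.under_map_of_isLocalizationAtPrime q hPq)
    rw [← h1, ← h2]
    exact h P'
  · intro h P' _
    obtain ⟨h1, h2⟩ := invariants_localized M q P' (P'.comap (algebraMap R (Localization.AtPrime q))) rfl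
    rw [h1, h2]
    exact h _ ((Ideal.comap_mono (le_maximalIdeal (Ideal.IsPrime.ne_top ‹P'.IsPrime›))).trans_eq
      (IsLocalization.AtPrime.under_maximalIdeal (Localization.AtPrime q) q))

variable {A B : Type u} [CommRing A] [CommRing B] [IsNoetherianRing A] [IsNoetherianRing B] [Algebra A B]
  (E : Type u) [AddCommGroup E] [Module A E] [Module.Finite A E]
  (F : Type u) [AddCommGroup F] [Module B F] [Module A F] [IsScalarTower A B F] [Module.Finite B F] [Module.Flat A F]

/-- the local situation at a prime of `B` -/
theorem local_data (P : Ideal B) [P.IsPrime] (p : Ideal A) [p.IsPrime] (hp : p = P.comap (algebraMap A B)) :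
    ∃ (_ : Algebra (Localization.AtPrime p) (Localization.AtPrime P))
      (_ : IsLocalHom (algebraMap (Localization.AtPrime p) (Localization.AtPrime P)))
      (_ : Module (Localization.AtPrime p) (LocalizedModule P.primeCompl F))
      (_ : IsScalarTower (Localization.AtPrime p) (Localization.AtPrime P) (LocalizedModule P.primeCompl F)),
      Module.Flat (Localization.AtPrime p) (LocalizedModule P.primeCompl F) ∧
      Nonempty (LocalizedModule P.primeCompl (F ⊗[A] E) ≃ₗ[Localization.AtPrime P]
        LocalizedModule P.primeCompl F ⊗[Localization.AtPrime p] LocalizedModule p.primeCompl E) ∧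
      EGA4.mB (Localization.AtPrime p) (Localization.AtPrime P) = p.map (algebraMap A (Localization.AtPrime P)) := by
  let L := Localization.AtPrime p
  let L' := Localization.AtPrime P
  let FP := LocalizedModule P.primeCompl F
  letI alg : Algebra L L' := (Localization.localRingHom p P (algebraMap A B) hp).toAlgebra
  haveI hl : IsLocalHom (algebraMap L L') := Localization.isLocalHom_localRingHom _ _ _ _
  haveI : IsScalarTower A L L' := IsScalarTower.of_algebraMap_eq fun r => by
    show _ = Localization.localRingHom p P (algebraMap A B) hp (algebraMap A L r)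
    rw [Localization.localRingHom_to_map, ← IsScalarTower.algebraMap_apply]
  letI mod : Module L FP := Module.compHom FP (algebraMap L L')
  haveI tw : IsScalarTower L L' FP := IsScalarTower.of_algebraMap_smul fun r x => rfl
  haveI : IsScalarTower A L FP := IsScalarTower.of_algebraMap_smul fun r x => by
    show (algebraMap L L' (algebraMap A L r)) • x = r • x
    rw [← IsScalarTower.algebraMap_apply, algebraMap_smul]
  haveI : Module.Flat B (Localization P.primeCompl) := IsLocalization.flat _ P.primeCompl
  haveI := flat_tensor (A := A) (B := B) (Localization P.primeCompl) F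
  haveI hflatA : Module.Flat A FP :=
    Module.Flat.of_linearEquiv (((LocalizedModule.equivTensorProduct P.primeCompl F).restrictScalars B).restrictScalars A)
  have hflat : Module.Flat L FP := (Module.flat_iff_of_isLocalization L p.primeCompl FP).2 hflatA
  refine ⟨alg, hl, mod, tw, hflat, ⟨?_⟩, ?_⟩
  · let e1 := LocalizedModule.equivTensorProduct P.primeCompl (F ⊗[A] E)
    let e2 := (AlgebraTensorModule.assoc A B L' L' F E).symm
    let e3 := AlgebraTensorModule.congr (LocalizedModule.equivTensorProduct P.primeCompl F).symm (LinearEquiv.refl A E)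
    let e4 := (AlgebraTensorModule.cancelBaseChange A L L' FP E).symm
    let e5 := AlgebraTensorModule.congr (LinearEquiv.refl L' FP) (LocalizedModule.equivTensorProduct p.primeCompl E).symm
    exact e1.trans (e2.trans (e3.trans (e4.trans e5)))
  · show (maximalIdeal L).map (algebraMap L L') = _
    rw [← Localization.AtPrime.map_eq_maximalIdeal, Ideal.map_map, ← IsScalarTower.algebraMap_eq]

theorem depth_le_supportDim' {R : Type u} [CommRing R] [IsNoetherianRing R] (q : Ideal R) [q.IsPrime]
    (M : Type u) [AddCommGroup M] [Module R M] [Module.Finite R M] [Nontrivial (LocalizedModule q.primeCompl M)] :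
    ((LocCoh.depth (Localization.AtPrime q) (LocalizedModule q.primeCompl M) : ℕ∞) : WithBot ℕ∞) ≤
      Module.supportDim (Localization.AtPrime q) (LocalizedModule q.primeCompl M) := by
  haveI : IsNoetherianRing (Localization.AtPrime q) := IsLocalization.isNoetherianRing q.primeCompl _ inferInstance
  haveI : Module.Finite (Localization.AtPrime q) (LocalizedModule q.primeCompl M) :=
    Module.Finite.of_isLocalizedModule q.primeCompl (LocalizedModule.mkLinearMap q.primeCompl M)
  exact Groth.L04.depth_le_supportDim

theorem descent (k : ℕ) (q : PrimeSpectrum B) (hq : q ∈ Module.support B F)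
    (h : EGA4.HasSkAt k B (F ⊗[A] E) q.asIdeal) :
    EGA4.HasSkAt k A E (q.asIdeal.comap (algebraMap A B)) := by
  haveI := L02.CMMor.finite_tensor (A := A) (B := B) F E
  rw [hasSkAt_iff] at h ⊢
  intro p _ hpq
  by_cases hne : Nontrivial (LocalizedModule p.primeCompl E)
  swap
  · haveI := not_nontrivial_iff_subsingleton.1 hne
    rw [Module.supportDim_eq_bot_of_subsingleton]
    simp
  -- a prime of the support of `F` over `p`, minimal in the fibre
  obtain ⟨Q₀, hQ₀, hQ₀q, hQ₀p⟩ := L02.CMMor.exists_mem_support_le (A := A) F q hq ⟨p, inferInstance⟩ hpq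
  let N₁ := F ⧸ (p.map (algebraMap A B) • (⊤ : Submodule B F))
  have hQ₁ : Module.annihilator B N₁ ≤ Q₀.asIdeal := by
    have : Q₀ ∈ Module.support B N₁ := by
      rw [Module.support_quotient]
      exact ⟨hQ₀, Ideal.map_le_iff_le_comap.2 (PrimeSpectrum.ext_iff.1 hQ₀p).ge⟩
    exact Module.mem_support_iff_of_finite.1 this
  obtain ⟨P, hP, hPQ⟩ := Ideal.exists_minimalPrimes_le hQ₁
  haveI := hP.1.1
  have hpP : p.map (algebraMap A B) ≤ P := le_trans (fun x hx => Module.mem_annihilator.2 fun v => by
    obtain ⟨v, rfl⟩ := Submodule.mkQ_surjective _ v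
    rw [← map_smul, Submodule.mkQ_apply, Submodule.Quotient.mk_eq_zero]
    exact Submodule.smul_mem_smul hx Submodule.mem_top) hP.1.2
  have hPp : p = P.comap (algebraMap A B) := le_antisymm (Ideal.map_le_iff_le_comap.1 hpP)
    ((Ideal.comap_mono hPQ).trans (PrimeSpectrum.ext_iff.1 hQ₀p).le)
  have hPF : (⟨P, inferInstance⟩ : PrimeSpectrum B) ∈ Module.support B F :=
    Module.support_subset_of_surjective _ (Submodule.mkQ_surjective _)
      (Module.mem_support_iff_of_finite.2 hP.1.2)
  let L := Localization.AtPrime p
  let L' := Localization.AtPrime P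
  haveI : IsNoetherianRing L := IsLocalization.isNoetherianRing p.primeCompl L inferInstance
  haveI : IsNoetherianRing L' := IsLocalization.isNoetherianRing P.primeCompl L' inferInstance
  let EP := LocalizedModule p.primeCompl E
  let FP := LocalizedModule P.primeCompl F
  haveI : Module.Finite L EP := Module.Finite.of_isLocalizedModule p.primeCompl (LocalizedModule.mkLinearMap _ E)
  haveI : Module.Finite L' FP := Module.Finite.of_isLocalizedModule P.primeCompl (LocalizedModule.mkLinearMap _ F)
  haveI : Nontrivial FP := Module.mem_support_iff.1 hPF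
  obtain ⟨_, _, _, _, hflat, ⟨e⟩, hmB⟩ := local_data E F P p hPp
  haveI := hflat
  have hd := L02.CMMor.depth_tensor (A := L) (B := L') FP EP
  have hs := L02.CMMor.supportDim_tensor (A := L) (B := L') FP EP
  haveI := L02.CMMor.nontrivial_fibMod (A := L) (B := L') FP
  -- the fibre module has dimension zero
  have h0 : Module.supportDim L' (EGA4.FibMod L L' FP) ≤ 0 := by
    refine Order.krullDim_nonpos_iff_forall_isMax.2 fun Q Q' hQQ' => ?_
    have key : ∀ Q : Module.support L' (EGA4.FibMod L L' FP), Q.1.asIdeal = maximalIdeal L' := by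
      intro Q
      have hQ : Q.1 ∈ Module.support L' FP ∩ PrimeSpectrum.zeroLocus (EGA4.mB L L' : Set L') :=
        Module.support_quotient (R := L') (M := FP) _ ▸ Q.2
      have h1 : Module.annihilator B F ≤ Q.1.asIdeal.comap (algebraMap B L') :=
        Module.mem_support_iff_of_finite.1 ((Groth.L04.support_localization P Q.1).1 hQ.1)
      have h2 : p.map (algebraMap A B) ≤ Q.1.asIdeal.comap (algebraMap B L') := by
        rw [Ideal.map_le_iff_le_comap, Ideal.comap_comap, ← IsScalarTower.algebraMap_eq, ← Ideal.map_le_iff_le_comap, ← hmB]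
        exact hQ.2
      have h3 : Module.annihilator B N₁ ≤ Q.1.asIdeal.comap (algebraMap B L') := by
        have : (⟨_, Q.1.isPrime.comap (algebraMap B L')⟩ : PrimeSpectrum B) ∈ Module.support B N₁ := by
          rw [Module.support_quotient]
          exact ⟨Module.mem_support_iff_of_finite.2 h1, h2⟩
        exact Module.mem_support_iff_of_finite.1 this
      have hle : Q.1.asIdeal.comap (algebraMap B L') ≤ P :=
        (Ideal.comap_mono (le_maximalIdeal Q.1.isPrime.ne_top)).trans_eq (IsLocalization.AtPrime.under_maximalIdeal L' P)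
      refine le_antisymm (le_maximalIdeal Q.1.isPrime.ne_top) ?_
      rw [← Localization.AtPrime.map_eq_maximalIdeal, Ideal.map_le_iff_le_comap]
      exact hP.2 ⟨Q.1.isPrime.comap _, h3⟩ hle
    exact (le_of_eq (Subtype.ext (PrimeSpectrum.ext ((key Q').trans (key Q).symm))))
  have hd0 : LocCoh.depth L' (EGA4.FibMod L L' FP) = 0 := by
    have := (Groth.L04.depth_le_supportDim (R := L') (M := EGA4.FibMod L L' FP)).trans h0
    exact le_antisymm (by exact_mod_cast this) bot_le
  have hs0 : Module.supportDim L' (EGA4.FibMod L L' FP) = 0 :=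
    le_antisymm h0 ((WithBot.coe_le_coe.2 bot_le).trans Groth.L04.depth_le_supportDim)
  have h5 := h P (hPQ.trans hQ₀q)
  rw [Module.supportDim_eq_of_equiv e, LocCoh.depth, Groth.L04.idealDepth_congr e, ← LocCoh.depth] at h5
  change min (k : WithBot ℕ∞) (Module.supportDim L' (FP ⊗[L] EP)) ≤ _ at h5
  rw [hs, hd, hd0, hs0, add_zero, add_zero] at h5
  exact h5

theorem ascent (k : ℕ) (hfib : ∀ (q : Ideal B) [q.IsPrime], LocCoh.HasSk k (EGA4.FibLocRing A B q) (EGA4.FibLocMod A B q F))
    (q : Ideal B) [q.IsPrime] (hE : EGA4.HasSkAt k A E (q.comap (algebraMap A B))) :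
    EGA4.HasSkAt k B (F ⊗[A] E) q := by
  haveI := L02.CMMor.finite_tensor (A := A) (B := B) F E
  rw [hasSkAt_iff] at hE ⊢
  intro P _ hPq
  let p := P.comap (algebraMap A B)
  let L := Localization.AtPrime p
  let L' := Localization.AtPrime P
  haveI : IsNoetherianRing L := IsLocalization.isNoetherianRing p.primeCompl L inferInstance
  haveI : IsNoetherianRing L' := IsLocalization.isNoetherianRing P.primeCompl L' inferInstance
  let EP := LocalizedModule p.primeCompl E
  let FP := LocalizedModule P.primeCompl F
  haveI : Module.Finite L EP := Module.Finite.of_isLocalizedModule p.primeCompl (LocalizedModule.mkLinearMap _ E)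
  haveI : Module.Finite L' FP := Module.Finite.of_isLocalizedModule P.primeCompl (LocalizedModule.mkLinearMap _ F)
  obtain ⟨_, _, _, _, hflat, ⟨e⟩, hmB⟩ := local_data E F P p rfl
  haveI := hflat
  rw [Module.supportDim_eq_of_equiv e, LocCoh.depth, Groth.L04.idealDepth_congr e, ← LocCoh.depth]
  by_cases hEP : Nontrivial EP
  swap
  · haveI := not_nontrivial_iff_subsingleton.1 hEP
    rw [Module.supportDim_eq_bot_of_subsingleton]
    simp
  by_cases hFP : Nontrivial FP
  swap
  · haveI := not_nontrivial_iff_subsingleton.1 hFP
    rw [Module.supportDim_eq_bot_of_subsingleton]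
    simp
  rw [L02.CMMor.depth_tensor (A := L) (B := L') FP EP, L02.CMMor.supportDim_tensor (A := L) (B := L') FP EP]
  haveI := L02.CMMor.nontrivial_fibMod (A := L) (B := L') FP
  have h1 := hE p (Ideal.comap_mono hPq)
  -- the fibre: evaluate at the maximal ideal
  let J := p.map (algebraMap A L')
  let FR := EGA4.FibLocRing A B P
  let N := EGA4.FibLocMod A B P F
  haveI : Nontrivial FR := Ideal.Quotient.nontrivial_iff.2 (ne_top_of_le_ne_top (maximalIdeal.isMaximal L').ne_top (by
    rw [← Localization.AtPrime.map_eq_maximalIdeal]
    rw [IsScalarTower.algebraMap_eq A B L', ← Ideal.map_map]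
    exact Ideal.map_mono (Ideal.map_comap_le)))
  haveI : IsLocalRing FR := IsLocalRing.of_surjective' _ Ideal.Quotient.mk_surjective
  haveI : IsNoetherianRing FR := Ideal.Quotient.isNoetherianRing _
  haveI : IsScalarTower L' FR N := IsScalarTower.of_algebraMap_smul fun _ _ => rfl
  haveI : Module.Finite FR N := Module.Finite.of_restrictScalars_finite L' _ _
  let eF : EGA4.FibMod L L' FP ≃ₗ[L'] N := Submodule.quotEquivOfEq _ _ (by rw [hmB])
  haveI : Nontrivial N := eF.symm.toEquiv.nontrivial
  have h2 := hfib P (maximalIdeal FR)
  obtain ⟨e1, e2⟩ := Groth.L06.FiniteSupp.local_eq (A := FR) N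
  rw [e1, e2] at h2
  have e3 : LocCoh.depth FR N = LocCoh.depth L' (EGA4.FibMod L L' FP) := by
    have h := Groth.L04.idealDepth_eq_idealDepth_map_of_finite (B := FR) (maximalIdeal L') N
    rw [show LocCoh.depth L' (EGA4.FibMod L L' FP) = LocCoh.depth L' N from Groth.L04.idealDepth_congr eF,
      LocCoh.depth, LocCoh.depth, h]
    congr 1
    exact (IsLocalRing.map_maximalIdeal_of_surjective _ Ideal.Quotient.mk_surjective).symm
  have e4 : Module.supportDim FR N = Module.supportDim L' (EGA4.FibMod L L' FP) := by
    rw [Module.supportDim_eq_of_equiv eF]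
    have E' : L02.FibDepth.Semi L' N FR N := ⟨Ideal.Quotient.mk _, Ideal.Quotient.mk_surjective, AddEquiv.refl N, fun r m => rfl⟩
    exact E'.supportDim_eq.symm
  rw [e3, e4] at h2
  haveI : Nontrivial EP := hEP
  generalize Module.supportDim L EP = a at h1 ⊢
  generalize Module.supportDim L' (EGA4.FibMod L L' FP) = b at h2 ⊢
  generalize LocCoh.depth L EP = c at h1 ⊢
  generalize LocCoh.depth L' (EGA4.FibMod L L' FP) = d at h2 ⊢
  rw [WithBot.coe_add]
  rcases min_choice (k : WithBot ℕ∞) a with ha | ha <;> rw [ha] at h1
  · refine (min_le_left _ _).trans (h1.trans ?_)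
    exact le_add_of_nonneg_right (WithBot.coe_le_coe.2 bot_le)
  · rcases min_choice (k : WithBot ℕ∞) b with hb | hb <;> rw [hb] at h2
    · refine (min_le_left _ _).trans (h2.trans ?_)
      exact le_add_of_nonneg_left (WithBot.coe_le_coe.2 bot_le)
    · exact (min_le_right _ _).trans (add_le_add h1 h2)

end Groth.L06.SkTensor
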