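import Groth.Agent.L20.GenericFreeness
import Groth.Prelude.Def_EGA4b
import Mathlib.RingTheory.Filtration
import Mathlib.RingTheory.Localization.BaseChange
import Mathlib.RingTheory.Flat.Basic
import Mathlib.RingTheory.Adjoin.FG

/-! Generic normal flatness along a prime (EGA IV 6.10). -/

set_option autoImplicit false
set_option maxSynthPendingDepth 3
set_option linter.all false
noncomputable section
universe u
open TensorProduct

namespace Groth.L06.GenericNormallyFlat

set_option maxHeartbeats 400000 in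
theorem restrictScalars_map_smul {A : Type u} [CommRing A] (p : Ideal A) {R : Type u} [CommRing R] [Algebra A R]
    {N : Type u} [AddCommGroup N] [Module A N] [Module R N] [IsScalarTower A R N] :
    ((p.map (algebraMap A R)) • (⊤ : Submodule R N)).restrictScalars A = p • (⊤ : Submodule A N) := by
  refine le_antisymm (fun z hz => ?_) (Submodule.smul_le.2 fun r hr z _ => ?_)
  · have hz' : z ∈ (p.map (algebraMap A R)) • (⊤ : Submodule R N) := hz
    refine Submodule.smul_induction_on (p := fun z => z ∈ p • (⊤ : Submodule A N)) hz' ?_ fun _ _ => Submodule.add_mem _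
    intro a ha x _
    refine Submodule.span_induction (p := fun a _ => ∀ x : N, a • x ∈ p • (⊤ : Submodule A N))
      ?_ (fun x => by rw [zero_smul]; exact Submodule.zero_mem _)
      (fun a b _ _ h1 h2 x => by rw [add_smul]; exact Submodule.add_mem _ (h1 x) (h2 x))
      (fun c a _ h1 x => by rw [smul_eq_mul, mul_comm, mul_smul]; exact h1 (c • x)) ha x
    rintro _ ⟨r, hr, rfl⟩ x
    rw [algebraMap_smul]
    exact Submodule.smul_mem_smul hr Submodule.mem_top
  · have h1 : (algebraMap A R r) • z ∈ (p.map (algebraMap A R)) • (⊤ : Submodule R N) :=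
      Submodule.smul_mem_smul (Ideal.mem_map_of_mem _ hr) Submodule.mem_top
    rw [algebraMap_smul] at h1
    exact h1

variable {A : Type u} [CommRing A] [IsNoetherianRing A] (p : Ideal A) [p.IsPrime]
  (M : Type u) [AddCommGroup M] [Module A M] [Module.Finite A M]

abbrev Gr (n : ℕ) : Type u :=
  ↥(p ^ n • (⊤ : Submodule A M)) ⧸ (p • (⊤ : Submodule A ↥(p ^ n • (⊤ : Submodule A M))))

theorem exists_flat : ∃ f : A, f ∉ p ∧ ∀ (n : ℕ) (C : Type u) [CommRing C] [Algebra (A ⧸ p) C],
    IsUnit (algebraMap (A ⧸ p) C (Ideal.Quotient.mk p f)) → Module.Flat C (C ⊗[A ⧸ p] Gr p M n) := by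
  haveI : IsDomain (A ⧸ p) := Ideal.Quotient.isDomain p
  let F := p.stableFiltration (⊤ : Submodule A M)
  let N := F.submodule
  let Rs := reesAlgebra p
  haveI : Module.Finite Rs N := Module.Finite.iff_fg.2
    ((Ideal.Filtration.submodule_fg_iff_stable F fun i => IsNoetherian.noetherian _).2
      (p.stableFiltration_stable ⊤))
  haveI : Algebra.FiniteType A Rs := (Subalgebra.fg_iff_finiteType _).1 (reesAlgebra.fg (IsNoetherian.noetherian p))
  let pS : Ideal Rs := p.map (algebraMap A Rs)
  let S := Rs ⧸ pS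
  let Q := ↥N ⧸ (pS • (⊤ : Submodule Rs ↥N))
  letI : Module (A ⧸ p) Q := Module.compHom Q (algebraMap (A ⧸ p) S)
  haveI : IsScalarTower (A ⧸ p) S Q := IsScalarTower.of_algebraMap_smul fun r x => rfl
  haveI : IsScalarTower A (A ⧸ p) Q := IsScalarTower.of_algebraMap_smul fun r x => by
    show (algebraMap (A ⧸ p) S (Ideal.Quotient.mk p r)) • x = r • x
    obtain ⟨x, rfl⟩ := Submodule.Quotient.mk_surjective _ x
    show Submodule.Quotient.mk ((algebraMap A Rs r) • x) = Submodule.Quotient.mk (r • x)
    rw [algebraMap_smul]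
  haveI : Algebra.FiniteType A S := Algebra.FiniteType.of_surjective (Ideal.Quotient.mkₐ A pS) Ideal.Quotient.mk_surjective
  haveI : Algebra.FiniteType (A ⧸ p) S := Algebra.FiniteType.of_restrictScalars_finiteType A _ _
  haveI : Module.Finite S Q := Module.Finite.of_restrictScalars_finite Rs _ _
  obtain ⟨fb, hfb, hfree, -⟩ := Groth.L20.GF.exists_free_and_nearlyFP (R := A ⧸ p) (S := S) Q
  obtain ⟨f, rfl⟩ := Ideal.Quotient.mk_surjective fb
  refine ⟨f, fun h => hfb (Ideal.Quotient.eq_zero_iff_mem.2 h), fun n C _ _ hu => ?_⟩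
  haveI := Groth.L20.GF.free_of_isUnit (f := Ideal.Quotient.mk p f) C hu Q
  let inc0 : ↥(p ^ n • (⊤ : Submodule A M)) →ₗ[A] ↥N :=
    { toFun := fun m => ⟨PolynomialModule.single A n (m : M), fun i => by
        rw [PolynomialModule.coeff_single, Finsupp.single_apply]
        split_ifs with h
        · subst h; exact m.2
        · exact Submodule.zero_mem _⟩
      map_add' := fun a b => Subtype.ext (PolynomialModule.single_add n (a : M) (b : M))
      map_smul' := fun r a => Subtype.ext (PolynomialModule.single_smul n r (a : M)) }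
  let pr0 : ↥N →ₗ[A] ↥(p ^ n • (⊤ : Submodule A M)) :=
    { toFun := fun z => ⟨z.1.coeff n, z.2 n⟩
      map_add' := fun a b => rfl
      map_smul' := fun r a => rfl }
  have hQ : (pS • (⊤ : Submodule Rs ↥N)).restrictScalars A = p • (⊤ : Submodule A ↥N) :=
    restrictScalars_map_smul p
  let incA : Gr p M n →ₗ[A] Q := Submodule.liftQ _
    (((pS • (⊤ : Submodule Rs ↥N)).mkQ.restrictScalars A) ∘ₗ inc0) (by
      intro x hx
      rw [LinearMap.mem_ker]
      exact (Submodule.Quotient.mk_eq_zero _).2 (hQ.ge (Submodule.smul_top_le_comap_smul_top p inc0 hx)))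
  let prA : Q →ₗ[A] Gr p M n :=
    (Submodule.mapQ (p • (⊤ : Submodule A ↥N)) _ pr0 (Submodule.smul_top_le_comap_smul_top p pr0)) ∘ₗ
      ((Submodule.quotEquivOfEq _ _ hQ).toLinearMap ∘ₗ
        ((Submodule.Quotient.restrictScalarsEquiv A (pS • (⊤ : Submodule Rs ↥N))).symm.toLinearMap.restrictScalars A))
  have hid : ∀ x, prA (incA x) = x := fun x => by
    obtain ⟨x, rfl⟩ := Submodule.Quotient.mk_surjective _ x
    show Submodule.Quotient.mk (pr0 (inc0 x)) = Submodule.Quotient.mk x
    congr 1
    exact Subtype.ext (by simp [pr0, inc0])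
  haveI : IsScalarTower A (A ⧸ p) (Gr p M n) := IsScalarTower.of_algebraMap_smul fun _ _ => rfl
  let inc := LinearMap.extendScalarsOfSurjective (S := A ⧸ p) Ideal.Quotient.mk_surjective incA
  let pr := LinearMap.extendScalarsOfSurjective (S := A ⧸ p) Ideal.Quotient.mk_surjective prA
  refine Module.Flat.of_retract (inc.baseChange C) (pr.baseChange C) ?_
  rw [← LinearMap.baseChange_comp, show pr ∘ₗ inc = LinearMap.id from LinearMap.ext hid, LinearMap.baseChange_id]

omit [IsNoetherianRing A] [p.IsPrime] in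
theorem flat_quot {B : Type u} [CommRing B] [Algebra A B] (S : Submonoid A) [IsLocalization S B]
    (N : Type u) [AddCommGroup N] [Module A N] (NB : Type u) [AddCommGroup NB] [Module A NB] [Module B NB]
    [IsScalarTower A B NB] (g : N →ₗ[A] NB) [IsLocalizedModule S g]
    (h : Module.Flat (B ⧸ p.map (algebraMap A B))
      ((B ⧸ p.map (algebraMap A B)) ⊗[A ⧸ p] (N ⧸ (p • (⊤ : Submodule A N))))) :
    Module.Flat (B ⧸ p.map (algebraMap A B)) (NB ⧸ (p.map (algebraMap A B) • (⊤ : Submodule B NB))) := by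
  let J := p.map (algebraMap A B)
  let C := B ⧸ J
  let G := N ⧸ (p • (⊤ : Submodule A N))
  let GB := NB ⧸ (J • (⊤ : Submodule B NB))
  have hJ : (p • (⊤ : Submodule A N)).localized' B S g = J • ⊤ := by
    rw [Submodule.localized'_smul, Submodule.localized'_top, Submodule.localized'_eq_span]
    rfl
  let φ : G →ₗ[A] GB := ((Submodule.quotEquivOfEq _ _ hJ).toLinearMap.restrictScalars A) ∘ₗ
    Submodule.toLocalizedQuotient' B S g (p • (⊤ : Submodule A N))
  haveI : IsLocalizedModule S φ := IsLocalizedModule.of_linearEquiv S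
    (Submodule.toLocalizedQuotient' B S g (p • (⊤ : Submodule A N))) ((Submodule.quotEquivOfEq _ _ hJ).restrictScalars A)
  have hφ : IsBaseChange B φ := IsLocalizedModule.isBaseChange S B φ
  letI : Module (A ⧸ p) GB := Module.compHom GB (algebraMap (A ⧸ p) C)
  haveI : IsScalarTower (A ⧸ p) C GB := IsScalarTower.of_algebraMap_smul fun _ _ => rfl
  haveI : IsScalarTower B C GB := IsScalarTower.of_algebraMap_smul fun _ _ => rfl
  haveI : IsScalarTower A (A ⧸ p) GB := IsScalarTower.of_algebraMap_smul fun r x => by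
    show (algebraMap (A ⧸ p) C (Ideal.Quotient.mk p r)) • x = r • x
    show (algebraMap B C (algebraMap A B r)) • x = r • x
    rw [algebraMap_smul, algebraMap_smul]
  haveI : IsScalarTower A (A ⧸ p) G := IsScalarTower.of_algebraMap_smul fun _ _ => rfl
  let T := C ⊗[A ⧸ p] G
  let ψ : G →ₗ[A] T := (TensorProduct.mk (A ⧸ p) C G 1).restrictScalars A
  let Φ0 : GB →ₗ[B] T := hφ.lift ψ
  let Φ : GB →ₗ[C] T := LinearMap.extendScalarsOfSurjective (S := C) Ideal.Quotient.mk_surjective Φ0
  let Ψ : T →ₗ[C] GB := LinearMap.liftBaseChange C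
    (LinearMap.extendScalarsOfSurjective (S := A ⧸ p) Ideal.Quotient.mk_surjective φ)
  haveI : Module.Flat C T := h
  refine Module.Flat.of_retract Φ Ψ ?_
  have h1 : (Ψ.restrictScalars B) ∘ₗ Φ0 = LinearMap.id := hφ.algHom_ext _ _ fun x => by
    show Ψ (Φ0 (φ x)) = φ x
    rw [show Φ0 (φ x) = ψ x from hφ.lift_eq ψ x]
    show Ψ ((1 : C) ⊗ₜ x) = _
    rw [LinearMap.liftBaseChange_tmul, one_smul]
    rfl
  exact LinearMap.ext fun x => LinearMap.congr_fun h1 x

/-- generic normal flatness, uniform in the localization -/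
theorem main : ∃ f : A, f ∉ p ∧ ∀ (B : Type u) [CommRing B] [Algebra A B] (S : Submonoid A) [IsLocalization S B]
    (MB : Type u) [AddCommGroup MB] [Module A MB] [Module B MB] [IsScalarTower A B MB] (m : M →ₗ[A] MB)
    [IsLocalizedModule S m], IsUnit (algebraMap A B f) → EGA4.IsNormallyFlat (p.map (algebraMap A B)) MB := by
  obtain ⟨f, hf, h⟩ := exists_flat p M
  refine ⟨f, hf, fun B _ _ S _ MB _ _ _ _ m _ hu n => ?_⟩
  let J := p.map (algebraMap A B)
  have hC : IsUnit (algebraMap (A ⧸ p) (B ⧸ J) (Ideal.Quotient.mk p f)) := hu.map (Ideal.Quotient.mk J)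
  have key : ∀ PB : Submodule B MB, (p ^ n • (⊤ : Submodule A M)).localized' B S m = PB →
      Module.Flat (B ⧸ J) (↥PB ⧸ (J • (⊤ : Submodule B ↥PB))) := by
    rintro _ rfl
    exact flat_quot p S _ _ (Submodule.toLocalized' B S m (p ^ n • (⊤ : Submodule A M))) (h n (B ⧸ J) hC)
  refine key _ ?_
  rw [Submodule.localized'_smul, Submodule.localized'_top, Submodule.localized'_eq_span, ← Ideal.map_pow]
  rfl

end Groth.L06.GenericNormallyFlat
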