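import Groth.Agent.L06.JacobsonDim
import Groth.Agent.S0603
import Groth.Agent.L04.RegularPd
import Mathlib.AlgebraicGeometry.Morphisms.FiniteType
import Mathlib.RingTheory.RegularLocalRing.Defs

/-! Dimensions of closures on a scheme locally of finite type over a biequidimensional Jacobson scheme. -/

set_option autoImplicit false
set_option maxSynthPendingDepth 3
set_option backward.isDefEq.respectTransparency.types false
set_option backward.isDefEq.respectTransparency false
set_option linter.style.haveILetI false
universe u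

open CategoryTheory AlgebraicGeometry TopologicalSpace Topology

namespace Groth.L06.DimLftJacobson

open Groth.L07.DimToolkit Groth.L07.Equidim Groth.L22

theorem isUniversallyCatenary_of_regularLocal (R : Type u) [CommRing R] [IsRegularLocalRing R] :
    CAlg.IsUniversallyCatenary R := by
  haveI := Groth.L04.isCohenMacaulayLocalRing_of_regular R
  haveI := Groth.L04.isCohenMacaulayRing_of_local R
  exact Groth.Agent.S0603.result R

variable {X S : Scheme.{u}} [IsLocallyNoetherian S] [JacobsonSpace S]
    (h2 : ∀ s : S, CAlg.IsUniversallyCatenary (S.presheaf.stalk s))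
    (h3 : ∀ S' ∈ irreducibleComponents (S : Type u), ∀ s ∈ S', IsClosed ({s} : Set S) →
      topologicalKrullDim (↥S' : Type u) = topologicalKrullDim ↥{t : S | t ∈ S' ∧ t ⤳ s})
    (g : X ⟶ S) [LocallyOfFiniteType g]

include h2 h3 g in
/-- The dimension of the closure of a point is that of its image plus the relative transcendence degree. -/
theorem dim_closure (ξ : X) :
    ∃ c N : ℕ, topologicalKrullDim ↥(closure ({g ξ} : Set S)) = (c : WithBot ℕ∞) ∧
      fdim g ξ = (N : WithBot ℕ∞) ∧
      topologicalKrullDim ↥(closure ({ξ} : Set X)) = ((c + N : ℕ) : WithBot ℕ∞) := by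
  haveI : IsLocallyNoetherian X := LocallyOfFiniteType.isLocallyNoetherian g
  haveI : JacobsonSpace X := LocallyOfFiniteType.jacobsonSpace g
  obtain ⟨c, hc, hc'⟩ := JacobsonDim.dim_closure h2 h3 (g ξ)
  obtain ⟨N, hN, -⟩ := exists_fdim_rtrdeg g ξ
  refine ⟨c, N, hc, hN, ?_⟩
  have hpt : ∀ (z : X) (hz : ξ ⤳ z), IsClosed ({z} : Set X) →
      ringKrullDim (Cyc.LocQuot z ξ hz) = ((c + N : ℕ) : WithBot ℕ∞) := fun z hz hzc => by
    obtain ⟨A, B, n, N', hA, hB, hn, hN', -, heq⟩ := formula g hz
    obtain rfl : N = N' := by exact_mod_cast hN.symm.trans hN'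
    have hB' : B = c := by
      rw [hc' _ _ (g.closePoints_subset_preimage_closedPoints hzc)] at hB
      exact_mod_cast hB.symm
    have hn0 : n = 0 := by
      have h0 : fdim g z ≤ 0 := by
        haveI : Subsingleton ↥(closure ({z} : Set X) ∩ g.base ⁻¹' {g z}) := ⟨fun a b => Subtype.ext
          ((hzc.closure_eq.subset a.2.1).trans (hzc.closure_eq.subset b.2.1).symm)⟩
        exact topologicalKrullDim_zero_of_discreteTopology _
      rw [hn] at h0
      have h0' : n ≤ 0 := by exact_mod_cast h0
      omega
    have := heq (h2 _)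
    rw [hA]
    exact_mod_cast (show A = c + N by omega)
  refine le_antisymm (JacobsonDim.dim_closure_le ξ _ fun z hz hzc => (hpt z hz hzc).le) ?_
  obtain ⟨z, hz, hzc, -⟩ := JacobsonDim.exists_closed_specialization isOpen_univ (Set.mem_univ ξ)
  rw [← hpt z hz hzc, ← Groth.L07.DimJacobson.dim_interval z ξ hz]
  exact SchemeDim.topologicalKrullDim_mono fun t ht => specializes_iff_mem_closure.mp ht.1

include h2 h3 g in
/-- The dimensions of closures are additive along specializations. -/
theorem dim_closure_add {ξ x : X} (h : ξ ⤳ x) :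
    topologicalKrullDim ↥(closure ({ξ} : Set X)) =
      ringKrullDim (Cyc.LocQuot x ξ h) + topologicalKrullDim ↥(closure ({x} : Set X)) := by
  obtain ⟨c, N, hc, hN, hξ⟩ := dim_closure h2 h3 g ξ
  obtain ⟨c', n, hc', hn, hx⟩ := dim_closure h2 h3 g x
  obtain ⟨A, B, n', N', hA, hB, hn', hN', -, heq⟩ := formula g h
  obtain rfl : N = N' := by exact_mod_cast hN.symm.trans hN'
  obtain rfl : n = n' := by exact_mod_cast hn.symm.trans hn'
  have hS := JacobsonDim.dim_closure_add h2 h3 (h.map g.continuous)
  rw [hc, hB, hc'] at hS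
  have hS' : c = B + c' := by exact_mod_cast hS
  have := heq (h2 _)
  rw [hξ, hA, hx]
  exact_mod_cast (show c + N = A + (c' + n) by omega)

end Groth.L06.DimLftJacobson
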