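import Groth.Agent.L07.DimJacobson
import Groth.Agent.L06.GenericFibreDim
import Groth.Agent.L06.Dim
import Mathlib.Topology.Sober
import Mathlib.Topology.JacobsonSpace

/-! Dimensions of closed subsets of biequidimensional Jacobson schemes. -/

set_option autoImplicit false
set_option maxSynthPendingDepth 3
set_option backward.isDefEq.respectTransparency.types false
set_option backward.isDefEq.respectTransparency false
set_option linter.style.haveILetI false
universe u

open CategoryTheory AlgebraicGeometry TopologicalSpace Topology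

namespace Groth.L06.JacobsonDim

open Groth.L07.DimToolkit Groth.L22

theorem exists_nat_of_le {a : WithBot ℕ∞} {m : ℕ} (h0 : 0 ≤ a) (h : a ≤ (m : WithBot ℕ∞)) :
    ∃ n : ℕ, a = (n : WithBot ℕ∞) := by
  induction a using WithBot.recBotCoe with
  | bot => simp at h0
  | coe b =>
    induction b using ENat.recTopCoe with
    | top => exact absurd (show (⊤ : ℕ∞) ≤ m by exact_mod_cast h) (by simp)
    | coe n => exact ⟨n, rfl⟩

/-- a chain of irreducible closed subsets lives in the generizations of any point of its head -/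
theorem length_le_gens {T : Type*} [TopologicalSpace T] [QuasiSober T]
    (p : LTSeries (IrreducibleCloseds T)) {z : T} (hz : z ∈ (p.head : Set T)) :
    (p.length : WithBot ℕ∞) ≤ topologicalKrullDim ↥{w : T | w ⤳ z} := by
  have hg : ∀ i, IsGenericPoint (p i).isIrreducible.genericPoint (p i : Set T) :=
    fun i => (p i).isIrreducible.isGenericPoint_genericPoint (p i).isClosed
  have hgz : ∀ i, (p i).isIrreducible.genericPoint ∈ {w : T | w ⤳ z} :=
    fun i => (hg i).specializes (p.monotone (Fin.zero_le i) hz)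
  let q : Fin (p.length + 1) → IrreducibleCloseds ↥{w : T | w ⤳ z} := fun i =>
    ⟨closure {⟨_, hgz i⟩}, isIrreducible_singleton.closure, isClosed_closure⟩
  refine Order.LTSeries.length_le_krullDim (LTSeries.mk p.length q fun i j hij => ?_)
  have hlt : (p i : Set T) ⊂ (p j : Set T) := SetLike.coe_ssubset_coe.mpr (p.strictMono hij)
  have hspec : (p j).isIrreducible.genericPoint ⤳ (p i).isIrreducible.genericPoint :=
    (hg j).specializes (hlt.subset (hg i).mem)
  refine lt_of_le_of_ne ?_ fun e => hlt.ne ?_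
  · exact closure_minimal (Set.singleton_subset_iff.mpr
      (specializes_iff_mem_closure.mp ((subtype_specializes_iff _ _).mpr hspec))) isClosed_closure
  · have h1 : (⟨_, hgz j⟩ : ↥{w : T | w ⤳ z}) ∈ (q i : Set ↥{w : T | w ⤳ z}) := by
      rw [e]; exact subset_closure rfl
    have h2 : (p i).isIrreducible.genericPoint ⤳ (p j).isIrreducible.genericPoint :=
      (subtype_specializes_iff _ _).mp (specializes_iff_mem_closure.mpr h1)
    exact hlt.subset.antisymm fun w hw => by
      rw [← (hg i).def, ← specializes_iff_mem_closure]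
      exact h2.trans ((hg j).specializes hw)

/-- generizations of a point inside a subspace -/
theorem dim_gens {X : Type*} [TopologicalSpace X] (S : Set X) (a : S) :
    topologicalKrullDim ↥{w : S | w ⤳ a} = topologicalKrullDim ↥{t : X | t ∈ S ∧ t ⤳ a.1} := by
  refine (SchemeDim.topologicalKrullDim_eq_of_isEmbedding
    (IsEmbedding.subtypeVal.comp IsEmbedding.subtypeVal) (Set.ext fun t => ⟨?_, fun ht => ?_⟩)).symm
  · rintro ⟨⟨w, hw⟩, rfl⟩
    exact ⟨w.2, (subtype_specializes_iff _ _).mp hw⟩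
  · exact ⟨⟨⟨t, ht.1⟩, (subtype_specializes_iff _ _).mpr ht.2⟩, rfl⟩

variable {X : Scheme.{u}}

theorem dim_closure_le (ξ : X) [JacobsonSpace X] (d : WithBot ℕ∞)
    (h : ∀ (z : X) (hz : ξ ⤳ z), IsClosed ({z} : Set X) → ringKrullDim (Cyc.LocQuot z ξ hz) ≤ d) :
    topologicalKrullDim ↥(closure ({ξ} : Set X)) ≤ d := by
  haveI := (isClosed_closure (s := ({ξ} : Set X))).isClosedEmbedding_subtypeVal.quasiSober
  refine iSup_le fun p => ?_
  obtain ⟨z, ⟨⟨z', hz', rfl⟩, hzc⟩⟩ := nonempty_inter_closedPoints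
    ((p.head.isIrreducible.nonempty).image Subtype.val)
    ((isClosed_closure.isClosedEmbedding_subtypeVal.isClosedMap _ p.head.isClosed).isLocallyClosed)
  refine (length_le_gens p hz').trans ?_
  have hset : {t : X | t ∈ closure ({ξ} : Set X) ∧ t ⤳ z'.1} = {t : X | ξ ⤳ t ∧ t ⤳ z'.1} :=
    Set.ext fun t => and_congr_left fun _ => specializes_iff_mem_closure.symm
  rw [dim_gens, hset, Groth.L07.DimJacobson.dim_interval z'.1 ξ (specializes_iff_mem_closure.mpr z'.2)]
  exact h _ _ hzc

theorem exists_closed_specialization [JacobsonSpace X] {U : Set X} (hU : IsOpen U) {x : X} (hx : x ∈ U) :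
    ∃ z, x ⤳ z ∧ IsClosed ({z} : Set X) ∧ z ∈ U := by
  obtain ⟨z, ⟨hz, hzU⟩, hzc⟩ := nonempty_inter_closedPoints (Z := closure ({x} : Set X) ∩ U)
    ⟨x, subset_closure rfl, hx⟩ (isClosed_closure.isLocallyClosed.inter hU.isLocallyClosed)
  exact ⟨z, specializes_iff_mem_closure.mpr hz, hzc, hzU⟩

section

variable [IsLocallyNoetherian X] [JacobsonSpace X]
    (h2 : ∀ x : X, CAlg.IsUniversallyCatenary (X.presheaf.stalk x))
    (h3 : ∀ X' ∈ irreducibleComponents (X : Type u), ∀ x ∈ X', IsClosed ({x} : Set X) →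
      topologicalKrullDim (↥X' : Type u) = topologicalKrullDim ↥{t : X | t ∈ X' ∧ t ⤳ x})

include h2 h3 in
/-- the dimension of an integral closed subset is read at any of its closed points -/
theorem dim_closure (ξ : X) : ∃ d : ℕ, topologicalKrullDim ↥(closure ({ξ} : Set X)) = (d : WithBot ℕ∞) ∧
    ∀ (z : X) (h : ξ ⤳ z), IsClosed ({z} : Set X) → ringKrullDim (Cyc.LocQuot z ξ h) = (d : WithBot ℕ∞) := by
  have hg := (isIrreducible_irreducibleComponent (x := ξ)).isGenericPoint_genericPoint isClosed_irreducibleComponent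
  let σ := (isIrreducible_irreducibleComponent (x := ξ)).genericPoint
  have h1 : σ ⤳ ξ := hg.specializes mem_irreducibleComponent
  obtain ⟨b, hb⟩ := exists_nat_dim_locQuot ξ σ h1
  have hkey : ∀ (z : X) (h : ξ ⤳ z), IsClosed ({z} : Set X) →
      ∃ a : ℕ, ringKrullDim (Cyc.LocQuot z ξ h) = (a : WithBot ℕ∞) ∧
        topologicalKrullDim (↥(irreducibleComponent ξ) : Type u) = ((b + a : ℕ) : WithBot ℕ∞) := by
    intro z h hz
    obtain ⟨a, ha⟩ := exists_nat_dim_locQuot z ξ h
    refine ⟨a, ha, ?_⟩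
    have hset : {t : X | t ∈ irreducibleComponent ξ ∧ t ⤳ z} = {w : X | σ ⤳ w ∧ w ⤳ z} :=
      Set.ext fun t => and_congr_left fun _ => hg.specializes_iff_mem.symm
    rw [h3 _ (irreducibleComponent_mem_irreducibleComponents ξ) z
        (h.mem_closed isClosed_irreducibleComponent mem_irreducibleComponent) hz, hset,
      Groth.L07.DimJacobson.dim_interval z σ (h1.trans h), Groth.L07.DimJacobson.dim_locQuot_add h1 h (h2 z),
      hb, ha, Nat.cast_add]
  obtain ⟨z₀, hz₀, hz₀c, -⟩ := exists_closed_specialization isOpen_univ (Set.mem_univ ξ)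
  obtain ⟨d, hd, hd'⟩ := hkey z₀ hz₀ hz₀c
  have hconst : ∀ (z : X) (h : ξ ⤳ z), IsClosed ({z} : Set X) →
      ringKrullDim (Cyc.LocQuot z ξ h) = (d : WithBot ℕ∞) := fun z h hz => by
    obtain ⟨a, ha, ha'⟩ := hkey z h hz
    have he : b + a = b + d := by
      have := ha'.symm.trans hd'
      exact_mod_cast this
    rw [ha, show a = d by omega]
  refine ⟨d, le_antisymm (dim_closure_le ξ _ fun z h hz => (hconst z h hz).le) ?_, hconst⟩
  rw [← hd, ← Groth.L07.DimJacobson.dim_interval z₀ ξ hz₀]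
  exact SchemeDim.topologicalKrullDim_mono fun t ht => specializes_iff_mem_closure.mp ht.1

include h2 h3 in
theorem dim_closure_add {ξ x : X} (h : ξ ⤳ x) :
    topologicalKrullDim ↥(closure ({ξ} : Set X)) =
      ringKrullDim (Cyc.LocQuot x ξ h) + topologicalKrullDim ↥(closure ({x} : Set X)) := by
  obtain ⟨z, hz, hzc, -⟩ := exists_closed_specialization isOpen_univ (Set.mem_univ x)
  obtain ⟨d, hd, hd'⟩ := dim_closure h2 h3 ξ
  obtain ⟨c, hc, hc'⟩ := dim_closure h2 h3 x
  rw [hd, hc, ← hd' z (h.trans hz) hzc, ← hc' z hz hzc, Groth.L07.DimJacobson.dim_locQuot_add h hz (h2 z)]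

include h2 h3 in
theorem dim_closure_le_inter {ξ x : X} (h : ξ ⤳ x) {U : Set X} (hU : IsOpen U) (hx : x ∈ U) :
    topologicalKrullDim ↥(closure ({ξ} : Set X)) ≤ topologicalKrullDim ↥(U ∩ closure ({ξ} : Set X)) := by
  obtain ⟨z, hz, hzc, hzU⟩ := exists_closed_specialization hU hx
  obtain ⟨d, hd, hd'⟩ := dim_closure h2 h3 ξ
  rw [hd, ← hd' z (h.trans hz) hzc, ← Groth.L07.DimJacobson.dim_interval z ξ (h.trans hz)]
  exact SchemeDim.topologicalKrullDim_mono fun t ht =>
    ⟨ht.2.mem_open hU hzU, specializes_iff_mem_closure.mp ht.1⟩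

end

/-- dense opens contain the maximal points -/
theorem dim_dense_open [IsLocallyNoetherian X] [JacobsonSpace X]
    (h3 : ∀ X' ∈ irreducibleComponents (X : Type u), ∀ x ∈ X', IsClosed ({x} : Set X) →
      topologicalKrullDim (↥X' : Type u) = topologicalKrullDim ↥{t : X | t ∈ X' ∧ t ⤳ x})
    (U : Set X) (hU : IsOpen U) (hd : Dense U) :
    topologicalKrullDim ↥U = topologicalKrullDim X := by
  refine le_antisymm (topologicalKrullDim_subspace_le _ U) (iSup_le fun p => ?_)
  let w := p.last.isIrreducible.genericPoint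
  have hgw := p.last.isIrreducible.isGenericPoint_genericPoint p.last.isClosed
  let C := irreducibleComponent w
  have hC : C ∈ irreducibleComponents (X : Type u) := irreducibleComponent_mem_irreducibleComponents w
  have hg := hC.1.isGenericPoint_genericPoint (isClosed_of_mem_irreducibleComponents C hC)
  have hmax : ∀ q, q ⤳ hC.1.genericPoint → q = hC.1.genericPoint :=
    (Groth.L07.EquidimQF.closure_singleton_mem_irreducibleComponents_iff _).mp (by rw [hg.def]; exact hC)
  obtain ⟨O, hO, hOs⟩ := LocalDim.exists_open_of_maximal hmax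
  obtain ⟨t, htO, htU⟩ := hd.inter_open_nonempty O O.2 ⟨_, hO⟩
  obtain ⟨z, hz, hzc, hzU⟩ := exists_closed_specialization hU ((hOs t htO).mem_open hU htU)
  have hzC : z ∈ C := hg.specializes_iff_mem.mp hz
  refine (Groth.L06.Dim.length_le_of_last_subset p (S := C) ?_).trans ?_
  · exact (hgw.mem_closed_set_iff isClosed_irreducibleComponent).mp mem_irreducibleComponent
  · rw [h3 C hC z hzC hzc]
    exact SchemeDim.topologicalKrullDim_mono fun s hs => hs.2.mem_open hU hzU

theorem finite_components_nhd [IsLocallyNoetherian X] {Y : Set X} (hY : IsClosed Y) (a : Y) :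
    ∃ W : Set Y, IsOpen W ∧ a ∈ W ∧ {C ∈ irreducibleComponents (↥Y) | (C ∩ W).Nonempty}.Finite := by
  haveI := hY.isClosedEmbedding_subtypeVal.quasiSober
  obtain ⟨_, ⟨U, hU, rfl⟩, hxU, -⟩ := X.isBasis_affineOpens.exists_subset_of_mem_open (Set.mem_univ a.1) isOpen_univ
  haveI : IsNoetherianRing Γ(X, U) := IsLocallyNoetherian.component_noetherian ⟨U, hU⟩
  haveI : NoetherianSpace (U : Set X) := noetherianSpace_of_isAffineOpen U hU
  let W : Set Y := Subtype.val ⁻¹' (U : Set X)
  haveI : NoetherianSpace W :=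
    (show IsInducing fun w : W => (⟨w.1.1, w.2⟩ : (U : Set X)) from
      IsInducing.of_comp (Continuous.subtype_mk (continuous_subtype_val.comp continuous_subtype_val) _)
        (continuous_subtype_val (p := fun t => t ∈ (U : Set X)))
        ((IsInducing.subtypeVal.comp IsInducing.subtypeVal : IsInducing fun w : W => w.1.1))).noetherianSpace
  refine ⟨W, U.2.preimage continuous_subtype_val, hxU, Set.Finite.subset
    ((NoetherianSpace.finite_irreducibleComponents (α := W)).image fun K => closure (Subtype.val '' K)) ?_⟩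
  rintro C ⟨hC, z, hzC, hzU⟩
  have hg : IsGenericPoint hC.1.genericPoint C :=
    hC.1.isGenericPoint_genericPoint (isClosed_of_mem_irreducibleComponents C hC)
  have hgU : hC.1.genericPoint ∈ W := (hg.specializes hzC).mem_open (U.2.preimage continuous_subtype_val) hzU
  let g : W := ⟨_, hgU⟩
  refine ⟨irreducibleComponent g, irreducibleComponent_mem_irreducibleComponents g, ?_⟩
  refine (hC.eq_of_subset ((isIrreducible_irreducibleComponent.image _ continuous_subtype_val.continuousOn).closure) ?_).symm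
  rw [← hg.def]
  exact closure_mono (Set.singleton_subset_iff.mpr ⟨g, mem_irreducibleComponent, rfl⟩)

section

variable [IsLocallyNoetherian X] [JacobsonSpace X]
    (h2 : ∀ x : X, CAlg.IsUniversallyCatenary (X.presheaf.stalk x))
    (h3 : ∀ X' ∈ irreducibleComponents (X : Type u), ∀ x ∈ X', IsClosed ({x} : Set X) →
      topologicalKrullDim (↥X' : Type u) = topologicalKrullDim ↥{t : X | t ∈ X' ∧ t ⤳ x})

include h2 h3 in
/-- local dimension of a closed subset -/
theorem localDim_closed (Y : Set X) (hY : IsClosed Y) (x : X) (hx : x ∈ Y) :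
    FlatMor.localDim ↥Y ⟨x, hx⟩ =
        topologicalKrullDim ↥(closure ({x} : Set X)) + topologicalKrullDim ↥{t : X | t ∈ Y ∧ t ⤳ x} ∧
      FlatMor.localDim ↥Y ⟨x, hx⟩ =
        ⨆ C ∈ {C : Set ↥Y | C ∈ irreducibleComponents ↥Y ∧ (⟨x, hx⟩ : ↥Y) ∈ C}, topologicalKrullDim ↥C ∧
      ∀ U : Set X, IsOpen U → x ∈ U →
        (∀ C ∈ irreducibleComponents ↥Y, (⟨x, hx⟩ : ↥Y) ∉ C → Disjoint (Subtype.val ⁻¹' U) C) →
        topologicalKrullDim ↥(U ∩ Y) = FlatMor.localDim ↥Y ⟨x, hx⟩ := by
  haveI := hY.isClosedEmbedding_subtypeVal.quasiSober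
  let a : ↥Y := ⟨x, hx⟩
  let S : WithBot ℕ∞ :=
    ⨆ C ∈ {C : Set ↥Y | C ∈ irreducibleComponents ↥Y ∧ a ∈ C}, topologicalKrullDim ↥C
  have hclY : ∀ {ξ : X}, ξ ∈ Y → closure ({ξ} : Set X) ⊆ Y := fun h =>
    hY.closure_subset_iff.mpr (Set.singleton_subset_iff.mpr h)
  have hgen : ∀ C : Set ↥Y, C ∈ irreducibleComponents ↥Y → a ∈ C →
      ∃ ξ : ↥Y, ξ.1 ⤳ x ∧ IsGenericPoint ξ C ∧
        topologicalKrullDim ↥C = topologicalKrullDim ↥(closure ({ξ.1} : Set X)) := by
    intro C hC haC
    have hg := hC.1.isGenericPoint_genericPoint (isClosed_of_mem_irreducibleComponents C hC)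
    refine ⟨hC.1.genericPoint, (subtype_specializes_iff _ _).mp (hg.specializes haC), hg,
      (SchemeDim.topologicalKrullDim_eq_of_isEmbedding (IsEmbedding.subtypeVal.comp IsEmbedding.subtypeVal) ?_).symm⟩
    rw [Set.range_comp, Subtype.range_coe]
    conv_lhs => rw [← hg.def]
    rw [← hY.isClosedEmbedding_subtypeVal.closure_image_eq, Set.image_singleton]
  have hA : ∀ (U : Set X), IsOpen U → x ∈ U → S ≤ topologicalKrullDim ↥(U ∩ Y) := fun U hU hxU =>
    iSup₂_le fun C hC => by
      obtain ⟨ξ, hξ, -, hdim⟩ := hgen C hC.1 hC.2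
      rw [hdim]
      exact (dim_closure_le_inter h2 h3 hξ hU hxU).trans
        (SchemeDim.topologicalKrullDim_mono fun t ht => ⟨ht.1, hclY ξ.2 ht.2⟩)
  have hUY : ∀ U : Set X, topologicalKrullDim ↥(U ∩ Y) = topologicalKrullDim ↥(Subtype.val ⁻¹' U : Set ↥Y) := fun U =>
    SchemeDim.topologicalKrullDim_eq_of_isEmbedding (IsEmbedding.subtypeVal.comp IsEmbedding.subtypeVal)
      (by rw [Set.range_comp, Subtype.range_coe, Subtype.image_preimage_coe, Set.inter_comm])
  have hle : ∀ W : Set ↥Y, IsOpen W →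
      (∀ C ∈ irreducibleComponents ↥Y, a ∉ C → Disjoint W C) → topologicalKrullDim ↥W ≤ S := by
    intro W hW hgood
    haveI := hW.isOpenEmbedding_subtypeVal.quasiSober
    refine iSup_le fun p => ?_
    have hgw := p.last.isIrreducible.isGenericPoint_genericPoint p.last.isClosed
    let w : ↥Y := p.last.isIrreducible.genericPoint.1
    have hC := irreducibleComponent_mem_irreducibleComponents w
    have haC : a ∈ irreducibleComponent w := by
      by_contra h
      exact Set.disjoint_left.mp (hgood _ hC h) p.last.isIrreducible.genericPoint.2 mem_irreducibleComponent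
    refine (Groth.L06.Dim.length_le_of_last_subset p (S := Subtype.val ⁻¹' irreducibleComponent w)
      ((hgw.mem_closed_set_iff (isClosed_irreducibleComponent.preimage continuous_subtype_val)).mp
        mem_irreducibleComponent)).trans (le_trans ?_ (le_iSup₂ (f := fun (C : Set ↥Y) (_ : C ∈
          {C : Set ↥Y | C ∈ irreducibleComponents ↥Y ∧ a ∈ C}) => topologicalKrullDim ↥C)
          (irreducibleComponent w) ⟨hC, haC⟩))
    exact (show IsInducing fun v : ↥(Subtype.val ⁻¹' irreducibleComponent w : Set W) =>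
        (⟨v.1.1, v.2⟩ : ↥(irreducibleComponent w)) from
      IsInducing.of_comp (Continuous.subtype_mk (continuous_subtype_val.comp continuous_subtype_val) _)
        (continuous_subtype_val (p := fun t => t ∈ irreducibleComponent w))
        ((IsInducing.subtypeVal.comp IsInducing.subtypeVal : IsInducing fun v : ↥(Subtype.val ⁻¹' irreducibleComponent w : Set W) => v.1.1))).topologicalKrullDim_le
  have hlocal : FlatMor.localDim ↥Y a = S := by
    refine le_antisymm ?_ (le_iInf fun W => ?_)
    · obtain ⟨W, hW, haW, hfin⟩ := finite_components_nhd hY a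
      let B := ⋃ C ∈ {C ∈ {C ∈ irreducibleComponents (↥Y) | (C ∩ W).Nonempty} | a ∉ C}, C
      have hB : IsClosed B := (hfin.subset fun C hC => hC.1).isClosed_biUnion fun C hC =>
        isClosed_of_mem_irreducibleComponents C hC.1.1
      let O : TopologicalSpace.Opens ↥Y := ⟨W \ B, hW.sdiff hB⟩
      have haO : a ∈ O := ⟨haW, fun h => ?_⟩
      refine (iInf_le (fun U : {U : TopologicalSpace.Opens ↥Y // a ∈ U} => topologicalKrullDim (U.1 : Set ↥Y))
        ⟨O, haO⟩).trans ?_
      · exact hle _ (hW.sdiff hB) fun C hC haC => Set.disjoint_left.mpr fun t ht htC =>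
          ht.2 (Set.mem_iUnion₂.mpr ⟨C, ⟨⟨hC, t, htC, ht.1⟩, haC⟩, htC⟩)
      · obtain ⟨C, hC, haC⟩ := Set.mem_iUnion₂.mp h
        exact hC.2 haC
    · obtain ⟨U, hU, hUW⟩ := isOpen_induced_iff.mp W.1.2
      have h := hA U hU (show a ∈ Subtype.val ⁻¹' U by rw [hUW]; exact W.2)
      rw [hUY, hUW] at h
      exact h
  refine ⟨hlocal.trans (le_antisymm (iSup₂_le fun C hC => ?_) ?_), hlocal, fun U hU hxU hgood => ?_⟩
  · obtain ⟨ξ, hξ, -, hdim⟩ := hgen C hC.1 hC.2
    rw [hdim, dim_closure_add h2 h3 hξ, add_comm, ← Groth.L07.DimJacobson.dim_interval x ξ.1 hξ]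
    exact add_le_add le_rfl (SchemeDim.topologicalKrullDim_mono fun t ht =>
      ⟨hclY ξ.2 (specializes_iff_mem_closure.mp ht.1), ht.2⟩)
  · obtain ⟨m, hm⟩ := exists_nat_dim_stalk x
    have hG : topologicalKrullDim ↥{t : X | t ∈ Y ∧ t ⤳ x} ≤ (m : WithBot ℕ∞) := by
      rw [← hm, ← PrimeSpectrum.topologicalKrullDim_eq_ringKrullDim]
      exact le_of_le_of_eq (SchemeDim.topologicalKrullDim_mono fun t ht => by
          rw [Scheme.range_fromSpecStalk]; exact ht.2)
        (SchemeDim.topologicalKrullDim_eq_of_isEmbedding (X.fromSpecStalk x).isEmbedding rfl)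
    haveI : Nonempty ↥{t : X | t ∈ Y ∧ t ⤳ x} := ⟨⟨x, hx, specializes_rfl⟩⟩
    obtain ⟨n, hn⟩ := exists_nat_of_le Groth.L06.Dim.nonneg hG
    obtain ⟨p, hp⟩ := Order.le_krullDim_iff.mp (show (n : WithBot ℕ∞) ≤
      Order.krullDim (IrreducibleCloseds ↥{t : X | t ∈ Y ∧ t ⤳ x}) from hn.ge)
    haveI : QuasiSober ↥{t : X | t ∈ Y ∧ t ⤳ x} := by
      refine ⟨fun {T} hT hTc => ?_⟩
      obtain ⟨ζ, hζ⟩ := QuasiSober.sober ((hT.image _ continuous_subtype_val.continuousOn).closure) isClosed_closure
      obtain ⟨t, ht⟩ := hT.nonempty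
      have hζt : ζ ⤳ t.1 := hζ.specializes (subset_closure ⟨t, ht, rfl⟩)
      have hζY : ζ ∈ Y := (hY.closure_subset_iff.mpr (by rintro _ ⟨s, -, rfl⟩; exact s.2.1)) hζ.mem
      refine ⟨⟨ζ, hζY, hζt.trans t.2.2⟩, ?_⟩
      rw [IsGenericPoint, IsEmbedding.subtypeVal.closure_eq_preimage_closure_image, Set.image_singleton,
        hζ.def, ← IsEmbedding.subtypeVal.closure_eq_preimage_closure_image, hTc.closure_eq]
    have hgw := p.last.isIrreducible.isGenericPoint_genericPoint p.last.isClosed
    let w : ↥Y := ⟨_, p.last.isIrreducible.genericPoint.2.1⟩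
    have hC := irreducibleComponent_mem_irreducibleComponents w
    have hwa : w ⤳ a := (subtype_specializes_iff _ _).mpr p.last.isIrreducible.genericPoint.2.2
    have haC : a ∈ irreducibleComponent w := hwa.mem_closed isClosed_irreducibleComponent mem_irreducibleComponent
    obtain ⟨ξ, hξ, hgξ, hdim⟩ := hgen _ hC haC
    refine le_trans ?_ (le_iSup₂ (f := fun (C : Set ↥Y) (_ : C ∈
        {C : Set ↥Y | C ∈ irreducibleComponents ↥Y ∧ a ∈ C}) => topologicalKrullDim ↥C)
        (irreducibleComponent w) ⟨hC, haC⟩)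
    rw [hdim, dim_closure_add h2 h3 hξ, hn, add_comm, ← hp, ← Groth.L07.DimJacobson.dim_interval x ξ.1 hξ]
    refine add_le_add ?_ le_rfl
    refine (Groth.L06.Dim.length_le_of_last_subset p (S := {t | ξ.1 ⤳ t.1}) fun t ht => ?_).trans ?_
    · exact ((subtype_specializes_iff _ _).mp (hgξ.specializes mem_irreducibleComponent)).trans
        ((subtype_specializes_iff _ _).mp (hgw.specializes ht))
    · refine ((SchemeDim.topologicalKrullDim_eq_of_isEmbedding
        (IsEmbedding.subtypeVal.comp IsEmbedding.subtypeVal) rfl).symm).trans_le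
        (SchemeDim.topologicalKrullDim_mono ?_)
      rintro _ ⟨v, rfl⟩
      exact ⟨v.2, v.1.2.2⟩
  · rw [hlocal, hUY]
    refine le_antisymm (hle _ (hU.preimage continuous_subtype_val) hgood) ?_
    rw [← hUY]; exact hA U hU hxU

end

end Groth.L06.JacobsonDim
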