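import Groth.Agent.L13.BlowUp.Exists
import Groth.Agent.L18.AffineAlgExtend
import Groth.Agent.L18.RelProj.Exists
import Groth.Agent.L18.RelProj.ProjHom
import Groth.Prelude.Def_RelProj
import Groth.Prelude.Def_Rees
import Groth.Prelude.Def_ega3

/-!
A blowing up in an ideal of finite type is projective: it is the relative `Proj` of the Rees algebra.
-/

set_option autoImplicit false
set_option linter.style.haveILetI false
set_option backward.isDefEq.respectTransparency false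
set_option backward.isDefEq.respectTransparency.types false
universe u

open CategoryTheory CategoryTheory.Limits AlgebraicGeometry TopologicalSpace Opposite Polynomial
open scoped HomogeneousIdeal
open Groth.L13.BU Groth.L22

noncomputable section

namespace Groth.L06.BlowProj

variable {X : Scheme.{u}} (𝓘 : X.IdealSheafData)

/-- The ideal on an affine open. -/
abbrev J (U : X.Opens) (hU : IsAffineOpen U) : Ideal Γ(X, U) := 𝓘.ideal ⟨U, hU⟩

/-- The Rees algebra on an affine open. -/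
abbrev R (U : X.Opens) (hU : IsAffineOpen U) : Subalgebra Γ(X, U) Γ(X, U)[X] := reesAlgebra (J 𝓘 U hU)

/-- Restriction of functions. -/
abbrev ρ {U V : X.Opens} (h : V ≤ U) : Γ(X, U) →+* Γ(X, V) := (X.presheaf.map (homOfLE h).op).hom

theorem map_J {U V : X.Opens} (hU : IsAffineOpen U) (hV : IsAffineOpen V) (h : V ≤ U) :
    (J 𝓘 U hU).map (ρ h) = J 𝓘 V hV :=
  𝓘.map_ideal (U := ⟨V, hV⟩) (V := ⟨U, hU⟩) h

theorem map_mem {U V : X.Opens} (hU : IsAffineOpen U) (hV : IsAffineOpen V) (h : V ≤ U) (p : R 𝓘 U hU) :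
    (p : Γ(X, U)[X]).map (ρ h) ∈ R 𝓘 V hV := fun n => by
  have h1 := Ideal.mem_map_of_mem (ρ h) (p.2 n)
  rw [Ideal.map_pow, map_J 𝓘 hU hV h] at h1
  rwa [Polynomial.coeff_map]

/-- Restriction of Rees algebras. -/
def res {U V : X.Opens} (hU : IsAffineOpen U) (hV : IsAffineOpen V) (h : V ≤ U) : R 𝓘 U hU →+* R 𝓘 V hV :=
  ((Polynomial.mapRingHom (ρ h)).comp (R 𝓘 U hU).val.toRingHom).codRestrict (R 𝓘 V hV) (map_mem 𝓘 hU hV h)

theorem coe_res {U V : X.Opens} (hU : IsAffineOpen U) (hV : IsAffineOpen V) (h : V ≤ U) (p : R 𝓘 U hU) :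
    (res 𝓘 hU hV h p : Γ(X, V)[X]) = (p : Γ(X, U)[X]).map (ρ h) := rfl

theorem exists_clear {U : X.Opens} (hU : IsAffineOpen U) (r : Γ(X, U)) (y : Γ(X, X.basicOpen r)[X])
    (hy : y ∈ R 𝓘 _ (hU.basicOpen r)) :
    ∃ (k : ℕ) (x : R 𝓘 U hU), y * C (ρ (X.basicOpen_le r) r ^ k) = (x : Γ(X, U)[X]).map (ρ (X.basicOpen_le r)) := by
  classical
  haveI := hU.isLocalization_basicOpen r
  let f := ρ (X.basicOpen_le r)
  suffices h : ∀ s : Finset ℕ, ∃ (k : ℕ) (x : R 𝓘 U hU),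
      (∑ n ∈ s, monomial n (y.coeff n)) * C (f r ^ k) = (x : Γ(X, U)[X]).map f by
    obtain ⟨k, x, hx⟩ := h y.support
    exact ⟨k, x, by rw [← hx, ← y.as_sum_support]⟩
  intro s
  induction s using Finset.induction with
  | empty => exact ⟨0, 0, by simp⟩
  | insert n s hn ih =>
    obtain ⟨k, x, hx⟩ := ih
    have hc : y.coeff n ∈ (J 𝓘 U hU ^ n).map f := by
      rw [Ideal.map_pow, map_J 𝓘 hU (hU.basicOpen r)]
      exact hy n
    obtain ⟨⟨⟨a, ha⟩, ⟨_, l, rfl⟩⟩, hal⟩ :=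
      (IsLocalization.mem_map_algebraMap_iff (Submonoid.powers r) Γ(X, X.basicOpen r)).1 hc
    have hal' : y.coeff n * f r ^ l = f a := by rw [← map_pow]; exact hal
    refine ⟨k + l, x * algebraMap Γ(X, U) (R 𝓘 U hU) (r ^ l) +
      ⟨monomial n a, reesAlgebra.monomial_mem.2 ha⟩ * algebraMap Γ(X, U) (R 𝓘 U hU) (r ^ k), ?_⟩
    rw [Finset.sum_insert hn, add_mul]
    show _ = ((x : Γ(X, U)[X]) * C (r ^ l) + monomial n a * C (r ^ k)).map f
    rw [Polynomial.map_add, Polynomial.map_mul, Polynomial.map_mul, map_monomial, map_C, map_C, ← hx, ← hal',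
      ← monomial_mul_C]
    simp only [f, map_pow]
    ring

theorem isLoc {U : X.Opens} (hU : IsAffineOpen U) (r : Γ(X, U)) :
    letI := (res 𝓘 hU (hU.basicOpen r) (X.basicOpen_le r)).toAlgebra
    IsLocalization.Away (algebraMap Γ(X, U) (R 𝓘 U hU) r) (R 𝓘 _ (hU.basicOpen r)) := by
  classical
  haveI := hU.isLocalization_basicOpen r
  let f := ρ (X.basicOpen_le r)
  let φ := res 𝓘 hU (hU.basicOpen r) (X.basicOpen_le r)
  letI := φ.toAlgebra
  let c := algebraMap Γ(X, U) (R 𝓘 U hU) r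
  have hc : ∀ k : ℕ, ((φ (c ^ k) : R 𝓘 _ (hU.basicOpen r)) : Γ(X, X.basicOpen r)[X]) = C (f r ^ k) := fun k => by
    rw [coe_res, SubmonoidClass.coe_pow, Polynomial.map_pow, map_pow]
    exact congrArg (· ^ k) (map_C f)
  refine (isLocalization_iff (M := Submonoid.powers c) (S := R 𝓘 _ (hU.basicOpen r))).mpr ⟨?_, ?_, ?_⟩
  · rintro ⟨_, k, rfl⟩
    have hu : IsUnit (f r ^ k) := (X.toRingedSpace.isUnit_res_basicOpen r).pow k
    have h1 : φ (c ^ k) = algebraMap Γ(X, X.basicOpen r) (R 𝓘 _ (hU.basicOpen r)) (f r ^ k) := Subtype.ext (hc k)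
    show IsUnit (φ (c ^ k))
    rw [h1]
    exact hu.map _
  · intro y
    obtain ⟨k, x, hx⟩ := exists_clear 𝓘 hU r y y.2
    refine ⟨⟨x, ⟨c ^ k, k, rfl⟩⟩, Subtype.ext ?_⟩
    show (y : Γ(X, X.basicOpen r)[X]) * (φ (c ^ k) : R 𝓘 _ (hU.basicOpen r)).1 = _
    rw [hc]
    exact hx
  · intro x y hxy
    have h0 : ∀ n, f (((x : Γ(X, U)[X]) - (y : Γ(X, U)[X])).coeff n) = 0 := fun n => by
      have h1 : (x : Γ(X, U)[X]).map f = (y : Γ(X, U)[X]).map f := congrArg Subtype.val hxy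
      rw [← Polynomial.coeff_map, Polynomial.map_sub, h1, sub_self, coeff_zero]
    choose m hm using fun n => (IsLocalization.map_eq_zero_iff (Submonoid.powers r) Γ(X, X.basicOpen r) _).1 (h0 n)
    have hex : ∀ n, ∃ e : ℕ, r ^ e * ((x : Γ(X, U)[X]) - (y : Γ(X, U)[X])).coeff n = 0 := fun n => by
      obtain ⟨e, he⟩ := (m n).2
      exact ⟨e, by rw [show r ^ e = (m n).1 from he]; exact hm n⟩
    choose e he using hex
    let N := ((x : Γ(X, U)[X]) - (y : Γ(X, U)[X])).support.sup e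
    refine ⟨⟨c ^ N, N, rfl⟩, Subtype.ext ?_⟩
    show (C r : Γ(X, U)[X]) ^ N * x = C r ^ N * y
    rw [← sub_eq_zero, ← mul_sub, ← map_pow]
    refine Polynomial.ext fun n => ?_
    rw [coeff_C_mul, coeff_zero]
    by_cases hn : n ∈ ((x : Γ(X, U)[X]) - (y : Γ(X, U)[X])).support
    · obtain ⟨d, hd⟩ := Nat.exists_eq_add_of_le' (Finset.le_sup (f := e) hn : e n ≤ N)
      rw [show N = d + e n from hd, pow_add, mul_assoc, he, mul_zero]
    · rw [Polynomial.notMem_support_iff.1 hn, mul_zero]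

/-- The values of the Rees algebra. -/
def data : Groth.L18.AlgExt.Data X where
  obj U hU := CommRingCat.of (R 𝓘 U hU)
  res {U V} hU hV h := CommRingCat.ofHom (res 𝓘 hU hV h)
  res_id {U} hU := by
    refine CommRingCat.hom_ext (RingHom.ext fun p => Subtype.ext ?_)
    show (p : Γ(X, U)[X]).map (X.presheaf.map (𝟙 _)).hom = p
    rw [CategoryTheory.Functor.map_id]
    exact Polynomial.map_id
  res_comp {U V W} hU hV hW h h' := by
    refine CommRingCat.hom_ext (RingHom.ext fun p => Subtype.ext ?_)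
    show ((p : Γ(X, U)[X]).map (ρ h)).map (ρ h') = (p : Γ(X, U)[X]).map (ρ (h'.trans h))
    rw [Polynomial.map_map]
    congr 1
    exact (congrArg CommRingCat.Hom.hom (X.presheaf.map_comp (homOfLE h).op (homOfLE h').op)).symm
  str U hU := CommRingCat.ofHom (algebraMap Γ(X, U) (R 𝓘 U hU))
  str_res {U V} hU hV h := CommRingCat.hom_ext (RingHom.ext fun _ => Subtype.ext (map_C _))
  isLoc U hU r := isLoc 𝓘 hU r

/-- The Rees algebra as a quasi-coherent algebra. -/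
def alg : RelSpec.QCAlg X := (data 𝓘).alg

/-- The Rees algebra on an affine open inside the sheaf. -/
def e (U : X.Opens) (hU : IsAffineOpen U) : R 𝓘 U hU →+* (alg 𝓘).presheaf.obj (op U) :=
  ((data 𝓘).evEquiv U hU).symm.toRingHom

theorem e_bijective (U : X.Opens) (hU : IsAffineOpen U) : Function.Bijective (e 𝓘 U hU) :=
  ((data 𝓘).evEquiv U hU).symm.bijective

theorem e_res {U V : X.Opens} (hU : IsAffineOpen U) (hV : IsAffineOpen V) (h : V ≤ U) (p : R 𝓘 U hU) :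
    ((alg 𝓘).presheaf.map (homOfLE h).op).hom (e 𝓘 U hU p) = e 𝓘 V hV (res 𝓘 hU hV h p) := by
  apply ((data 𝓘).evEquiv V hV).injective
  refine Eq.trans ?_ (((data 𝓘).evEquiv V hV).apply_symm_apply _).symm
  refine ((data 𝓘).ev_res hU hV h _).trans ?_
  exact congrArg (res 𝓘 hU hV h) (((data 𝓘).evEquiv U hU).apply_symm_apply p)

theorem e_str {U : X.Opens} (hU : IsAffineOpen U) (a : Γ(X, U)) :
    e 𝓘 U hU (algebraMap Γ(X, U) (R 𝓘 U hU) a) = ((alg 𝓘).str.app (op U)).hom a := by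
  apply ((data 𝓘).evEquiv U hU).injective
  refine (((data 𝓘).evEquiv U hU).apply_symm_apply _).trans ?_
  exact (ConcreteCategory.congr_hom ((data 𝓘).str_ev U hU) a).symm

/-- The graded pieces. -/
def degAt (U : X.Opens) (hU : IsAffineOpen U) (d : ℕ) : AddSubgroup ((alg 𝓘).presheaf.obj (op U)) :=
  (Rees.deg (R 𝓘 U hU) d).toAddSubgroup.map (e 𝓘 U hU).toAddMonoidHom

/-- The grading on an affine open. -/
def gradedAt (U : X.Opens) (hU : IsAffineOpen U) : GradedRing (degAt 𝓘 U hU) := by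
  classical
  haveI : SetLike.GradedMonoid (degAt 𝓘 U hU) :=
    { one_mem := ⟨1, SetLike.one_mem_graded (Rees.deg (R 𝓘 U hU)), map_one (e 𝓘 U hU)⟩
      mul_mem := fun i j a b ha hb => by
        obtain ⟨x, hx, rfl⟩ := ha
        obtain ⟨y, hy, rfl⟩ := hb
        exact ⟨x * y, SetLike.mul_mem_graded (A := Rees.deg (R 𝓘 U hU)) hx hy, map_mul (e 𝓘 U hU) x y⟩ }
  refine { toDecomposition := DirectSum.IsInternal.chooseDecomposition _ ⟨?_, fun y => ?_⟩ }
  · rw [injective_iff_map_eq_zero]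
    intro w hw
    refine DFinsupp.ext fun d => Subtype.ext ?_
    have hch : ∀ d, ∃ x ∈ Rees.deg (R 𝓘 U hU) d, e 𝓘 U hU x = (w d : (alg 𝓘).presheaf.obj (op U)) := fun d => (w d).2
    choose x hx hxy using hch
    rw [DirectSum.coeAddMonoidHom_eq_dfinsuppSum, DFinsupp.sum] at hw
    by_cases hd : d ∈ w.support
    · have h0 : ∑ j ∈ w.support, x j = 0 := (e_bijective 𝓘 U hU).1 (by
        rw [map_sum, Finset.sum_congr rfl fun j _ => hxy j, map_zero]; exact hw)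
      have h1 : (x d : R 𝓘 U hU).1.coeff d = 0 := by
        have h2 : (∑ j ∈ w.support, (x j).1).coeff d = 0 := by
          rw [← AddSubmonoidClass.coe_finsetSum, h0]; exact coeff_zero d
        rw [finsetSum_coeff, Finset.sum_eq_single d (fun j _ hj => hx j d (Ne.symm hj)) fun h => absurd hd h] at h2
        exact h2
      rw [← hxy d, show x d = 0 from Subtype.ext (Polynomial.ext fun m => ?_)]
      · exact map_zero _
      · rw [Subalgebra.coe_zero, coeff_zero]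
        by_cases hm : m = d
        · rw [hm]; exact h1
        · exact hx d m hm
    · rw [DFinsupp.notMem_support_iff.mp hd]; rfl
  · obtain ⟨x, rfl⟩ := (e_bijective 𝓘 U hU).2 y
    refine ⟨∑ d ∈ (DirectSum.decompose (Rees.deg (R 𝓘 U hU)) x).support, DirectSum.of (fun d => degAt 𝓘 U hU d) d
      ⟨e 𝓘 U hU (DirectSum.decompose (Rees.deg (R 𝓘 U hU)) x d : R 𝓘 U hU), ⟨_, SetLike.coe_mem _, rfl⟩⟩, ?_⟩
    rw [map_sum]
    simp only [DirectSum.coeAddMonoidHom_of]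
    rw [← map_sum, DirectSum.sum_support_decompose]

/-- The Rees algebra as a quasi-coherent graded algebra. -/
def gr : RelProj.QCGrAlg X where
  toQCAlg := alg 𝓘
  deg := degAt 𝓘
  graded := gradedAt 𝓘
  map_mem {U V} hU hV h d y hy := by
    obtain ⟨x, hx, rfl⟩ := hy
    refine ⟨res 𝓘 hU hV h x, fun m hm => ?_, (e_res 𝓘 hU hV h x).symm⟩
    rw [coe_res, Polynomial.coeff_map, hx m hm, map_zero]
  str_mem U hU a := ⟨_, SetLike.algebraMap_mem_graded (Rees.deg (R 𝓘 U hU)) a, e_str 𝓘 hU a⟩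

theorem gr_isGenDegOne : (gr 𝓘).IsGenDegOne := by
  intro U hU
  refine top_le_iff.mp fun y _ => ?_
  have key : ∀ p ∈ Algebra.adjoin Γ(X, U) (Submodule.map (monomial 1 : Γ(X, U) →ₗ[Γ(X, U)] Γ(X, U)[X]) (J 𝓘 U hU) :
      Set Γ(X, U)[X]), ∃ hp : p ∈ R 𝓘 U hU, e 𝓘 U hU ⟨p, hp⟩ ∈
      Subring.closure ((degAt 𝓘 U hU 0 : Set ((alg 𝓘).presheaf.obj (op U))) ∪ (degAt 𝓘 U hU 1 : Set _)) := by
    intro p h
    induction h using Algebra.adjoin_induction with
    | mem x hx =>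
      obtain ⟨a, ha, rfl⟩ := hx
      refine ⟨reesAlgebra.monomial_mem.2 (by simpa using ha), Subring.subset_closure (Or.inr ⟨_, fun m hm => ?_, rfl⟩)⟩
      exact coeff_monomial_of_ne _ hm
    | algebraMap r =>
      exact ⟨Subalgebra.algebraMap_mem _ r, Subring.subset_closure
        (Or.inl ⟨_, SetLike.algebraMap_mem_graded (Rees.deg (R 𝓘 U hU)) r, rfl⟩)⟩
    | add x y _ _ h1 h2 =>
      obtain ⟨a, ha⟩ := h1
      obtain ⟨b, hb⟩ := h2
      refine ⟨add_mem a b, ?_⟩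
      have := add_mem ha hb
      rwa [← map_add] at this
    | mul x y _ _ h1 h2 =>
      obtain ⟨a, ha⟩ := h1
      obtain ⟨b, hb⟩ := h2
      refine ⟨mul_mem a b, ?_⟩
      have := mul_mem ha hb
      rwa [← map_mul] at this
  obtain ⟨⟨p, hp⟩, rfl⟩ := (e_bijective 𝓘 U hU).2 y
  exact (key p (by rw [adjoin_monomial_eq_reesAlgebra]; exact hp)).2

theorem gr_isFTDeg (hI : BlowUp.IsFiniteTypeIdeal 𝓘) : (gr 𝓘).IsFTDeg 1 := by
  classical
  intro U hU
  obtain ⟨g, hg⟩ := hI ⟨U, hU⟩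
  have hmem : ∀ a ∈ J 𝓘 U hU, (monomial 1 a : Γ(X, U)[X]) ∈ R 𝓘 U hU := fun a ha =>
    reesAlgebra.monomial_mem.2 (by simpa using ha)
  have hgm : ∀ a ∈ g, a ∈ J 𝓘 U hU := fun a ha => hg.le (Ideal.subset_span ha)
  let T := g.attach.image fun a => e 𝓘 U hU ⟨monomial 1 a.1, hmem _ (hgm _ a.2)⟩
  refine ⟨T, fun t ht => ?_, fun y hy => ?_⟩
  · obtain ⟨a, -, rfl⟩ := Finset.mem_image.1 (Finset.mem_coe.1 ht)
    exact ⟨_, fun m hm => coeff_monomial_of_ne _ hm, rfl⟩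
  obtain ⟨⟨p, hp⟩, hp1, rfl⟩ := hy
  letI := ((alg 𝓘).str.app (op U)).hom.toAlgebra
  have hpa : p = monomial 1 (p.coeff 1) := by
    refine Polynomial.ext fun m => ?_
    by_cases hm : m = 1
    · rw [hm, coeff_monomial_same]
    · rw [coeff_monomial_of_ne _ hm]; exact hp1 m hm
  have key : ∀ a ∈ Ideal.span (g : Set Γ(X, U)), ∃ h : (monomial 1 a : Γ(X, U)[X]) ∈ R 𝓘 U hU,
      e 𝓘 U hU ⟨monomial 1 a, h⟩ ∈ Submodule.span Γ(X, U) (T : Set ((alg 𝓘).presheaf.obj (op U))) := fun a ha => by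
    refine Submodule.span_induction ?_ ?_ ?_ ?_ ha
    · exact fun a ha => ⟨hmem _ (hgm _ ha), Submodule.subset_span
        (Finset.mem_coe.2 (Finset.mem_image.2 ⟨⟨a, ha⟩, Finset.mem_attach _ _, rfl⟩))⟩
    · refine ⟨by rw [map_zero]; exact zero_mem _, ?_⟩
      have : (⟨monomial 1 0, by rw [map_zero]; exact zero_mem _⟩ : R 𝓘 U hU) = 0 := Subtype.ext (map_zero _)
      rw [this, map_zero]
      exact zero_mem _
    · rintro a b _ _ ⟨ha, ha'⟩ ⟨hb, hb'⟩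
      refine ⟨by rw [map_add]; exact add_mem ha hb, ?_⟩
      have h1 := add_mem ha' hb'
      rw [← map_add] at h1
      convert h1 using 3
      exact map_add _ _ _
    · rintro c a _ ⟨ha, ha'⟩
      refine ⟨by rw [map_smul]; exact (R 𝓘 U hU).smul_mem ha c, ?_⟩
      have h1 := Submodule.smul_mem _ c ha'
      rw [Algebra.smul_def, RingHom.algebraMap_toAlgebra] at h1
      have h2 : ((alg 𝓘).str.app (op U)).hom c = e 𝓘 U hU (algebraMap Γ(X, U) (R 𝓘 U hU) c) := (e_str 𝓘 hU c).symm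
      rw [h2, ← map_mul] at h1
      convert h1 using 2
      refine Subtype.ext ?_
      show monomial 1 (c • a) = C c * monomial 1 a
      rw [C_mul_monomial]
      rfl
  have hmem1 : p.coeff 1 ∈ Ideal.span (g : Set Γ(X, U)) := by
    have h1 := hp 1
    rw [pow_one] at h1
    exact hg.symm ▸ h1
  obtain ⟨hh, hspan⟩ := key _ hmem1
  obtain ⟨f, -, hf⟩ := Submodule.mem_span_finset.1 hspan
  refine ⟨f, ?_⟩
  show e 𝓘 U hU ⟨p, hp⟩ = _
  rw [show (⟨p, hp⟩ : R 𝓘 U hU) = ⟨monomial 1 (p.coeff 1), hh⟩ from Subtype.ext hpa, ← hf]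
  exact Finset.sum_congr rfl fun t _ => Algebra.smul_def _ _

/-- The comparison of gradings. -/
def ψ (U : X.Opens) (hU : IsAffineOpen U) : Rees.deg (R 𝓘 U hU) →+*ᵍ (gr 𝓘).deg U hU :=
  { e 𝓘 U hU with map_mem := fun {_ x} hx => ⟨x, hx, rfl⟩ }

theorem ψ_irr (U : X.Opens) (hU : IsAffineOpen U) :
    ((gr 𝓘).deg U hU)₊ ≤ ((Rees.deg (R 𝓘 U hU))₊).map (ψ 𝓘 U hU) := by
  rw [HomogeneousIdeal.irrelevant_le]
  rintro n hn _ ⟨x, hx, rfl⟩
  exact Ideal.mem_map_of_mem (ψ 𝓘 U hU) (HomogeneousIdeal.mem_irrelevant_of_mem _ hn hx)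

theorem idealOf_J {U : X.Opens} (hU : IsAffineOpen U) :
    idealOf (J 𝓘 U hU) = (𝓘.comap U.ι).comap hU.isoSpec.inv := by
  haveI : IsAffine U.toScheme := hU
  refine Scheme.IdealSheafData.ext_of_isAffine ?_
  rw [idealOf_top, Ideals.comap_ideal_top, Ideals.comap_ideal_ι 𝓘 ⟨U, hU⟩, Ideal.map_map, ← CommRingCat.hom_comp]
  show Ideal.map _ _ = Ideal.map (U.topIso.inv ≫ hU.isoSpec.inv.appTop).hom _
  rw [hU.isoSpec_inv_appTop, Iso.inv_hom_id_assoc]
  rfl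

theorem isBlowUp_iso_comp {B B' Y : Scheme.{u}} (e' : B' ⟶ B) [IsIso e'] {b : B ⟶ Y} {I : Y.IdealSheafData}
    (hb : BlowUp.IsBlowUp b I) : BlowUp.IsBlowUp (e' ≫ b) I := by
  refine ⟨?_, fun T g hT => ?_⟩
  · rw [Scheme.IdealSheafData.comap_comp]
    exact Ideals.isEffCartier_comap_of_flat _ hb.1
  · obtain ⟨k, hk, huniq⟩ := hb.2 T g hT
    refine ⟨k ≫ inv e', ?_, fun l hl => ?_⟩
    · show (k ≫ inv e') ≫ e' ≫ b = g
      rw [Category.assoc, IsIso.inv_hom_id_assoc, hk]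
    · rw [← huniq (l ≫ e') (show (l ≫ e') ≫ b = g by rw [Category.assoc, hl]), Category.assoc,
        IsIso.hom_inv_id, Category.comp_id]

theorem isBlowUp_of_isPullback {X₁ B B₁ : Scheme.{u}} {g : X₁ ⟶ X} [Flat g] {I : X.IdealSheafData} {b : B ⟶ X}
    {b₁ : B₁ ⟶ X₁} {k : B₁ ⟶ B} (h : IsPullback b₁ k g b) (hb : BlowUp.IsBlowUp b I) :
    BlowUp.IsBlowUp b₁ (I.comap g) := by
  rw [← h.isoPullback_hom_fst]
  exact isBlowUp_iso_comp _ (isBlowUp_pullback g hb)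

theorem isBlowUp_restrict {P : Scheme.{u}} {p : P ⟶ X}
    {chart : ∀ (U : X.Opens) (hU : IsAffineOpen U), ((p ⁻¹ᵁ U : P.Opens) : Scheme.{u}) ≅ Proj ((gr 𝓘).deg U hU)}
    (hP : RelProj.IsRelProj (gr 𝓘) p chart) {U : X.Opens} (hU : IsAffineOpen U) :
    BlowUp.IsBlowUp (p ∣_ U) (𝓘.comap U.ι) := by
  haveI : IsIso (Proj.map (ψ 𝓘 U hU) (ψ_irr 𝓘 U hU)) :=
    Groth.L18.RPLoc.map_isIso_of_bijOn (ψ 𝓘 U hU) (ψ_irr 𝓘 U hU) fun n _ =>
      ⟨fun x hx => ⟨x, hx, rfl⟩, (e_bijective 𝓘 U hU).1.injOn, fun y ⟨x, hx, hxy⟩ => ⟨x, hx, hxy⟩⟩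
  let ν := (chart U hU).hom ≫ Proj.map (ψ 𝓘 U hU) (ψ_irr 𝓘 U hU)
  have hb : BlowUp.IsBlowUp (reesToSpec (J 𝓘 U hU) ≫ hU.isoSpec.inv) (𝓘.comap U.ι) :=
    isBlowUp_of_iso hU.isoSpec.symm _ (idealOf_J 𝓘 hU ▸ isBlowUp_rees (J 𝓘 U hU))
  have h0 : Proj.map (ψ 𝓘 U hU) (ψ_irr 𝓘 U hU) ≫ reesToSpec (J 𝓘 U hU) =
      (Proj.toSpecZero ((gr 𝓘).deg U hU) ≫ Spec.map ((gr 𝓘).strZero U hU)) ≫ Spec.map (𝟙 Γ(X, U)) :=
    Groth.L18.RPLoc.map_toSpecZero (ψ 𝓘 U hU) (ψ_irr 𝓘 U hU) _ _ _ fun r => e_str 𝓘 hU r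
  have h1 : p ∣_ U = ν ≫ reesToSpec (J 𝓘 U hU) ≫ hU.isoSpec.inv := by
    rw [← cancel_mono U.ι, morphismRestrict_ι, ← hP.chart_over U hU]
    simp only [ν, Category.assoc, hU.isoSpec_inv_ι]
    rw [reassoc_of% h0, Spec.map_id, Category.id_comp]
  rw [h1]
  exact isBlowUp_iso_comp ν hb

theorem isProjective_of_isBlowUp {X' : Scheme.{u}} (hI : BlowUp.IsFiniteTypeIdeal 𝓘) (b : X' ⟶ X)
    (hb : BlowUp.IsBlowUp b 𝓘) : RelProj.IsProjective b := by
  obtain ⟨P, p, chart, hP⟩ := Groth.L18.RP.exists_isRelProj (gr 𝓘)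
  have hres : ∀ U : X.affineOpens, BlowUp.IsBlowUp (p ∣_ U.1) (𝓘.comap U.1.ι) := fun U =>
    isBlowUp_restrict 𝓘 hP U.2
  have hC : BlowUp.IsEffCartierIdeal (𝓘.comap p) := by
    refine isEffCartier_of_cover fun x => ?_
    obtain ⟨_, ⟨U, hU, rfl⟩, hxU, -⟩ :=
      X.isBasis_affineOpens.exists_subset_of_mem_open (Set.mem_univ (p x)) isOpen_univ
    refine ⟨_, (p ⁻¹ᵁ U).ι, inferInstance, ?_, ?_⟩
    · rw [Scheme.Opens.range_ι]; exact hxU
    · rw [← Scheme.IdealSheafData.comap_comp, ← morphismRestrict_ι, Scheme.IdealSheafData.comap_comp]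
      exact (hres ⟨U, hU⟩).1
  obtain ⟨k, hk, -⟩ := hb.2 P p hC
  have hk' : k ≫ b = p := hk
  haveI : IsIso k := by
    have hiso : MorphismProperty.isomorphisms Scheme k := by
      rw [IsZariskiLocalAtTarget.iff_of_iSup_eq_top (P := MorphismProperty.isomorphisms Scheme)
        (fun U : X.affineOpens => b ⁻¹ᵁ U.1) (by rw [← Scheme.Hom.preimage_iSup, iSup_affineOpens_eq_top X]; rfl)]
      intro U
      have hb' : BlowUp.IsBlowUp (b ∣_ U.1) (𝓘.comap U.1.ι) :=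
        isBlowUp_of_isPullback (isPullback_morphismRestrict b U.1) hb
      subst hk'
      exact isIso_of_blowUps hb' (hres U) (k ∣_ b ⁻¹ᵁ U.1) (morphismRestrict_comp k b U.1).symm
    exact hiso
  exact ⟨gr 𝓘, P, p, chart, (asIso k).symm, gr_isGenDegOne 𝓘, gr_isFTDeg 𝓘 hI, hP, by
    show inv k ≫ p = b
    rw [IsIso.inv_comp_eq, hk']⟩

end Groth.L06.BlowProj
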