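import Groth.Agent.L06.NorLocusFinite
import Groth.Agent.L00.NagataNorm
import Mathlib.AlgebraicGeometry.Normalization
import Mathlib.RingTheory.DiscreteValuationRing.TFAE
import Mathlib.Topology.NoetherianSpace
import Mathlib.RingTheory.IntegralClosure.IntegrallyClosed

/-!
# Codimension one points of a relative normalization outside the image are discrete valuation rings
-/

set_option autoImplicit false
set_option maxSynthPendingDepth 3
set_option linter.style.haveILetI false
set_option backward.isDefEq.respectTransparency.types false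

universe u

open CategoryTheory AlgebraicGeometry TopologicalSpace

noncomputable section

namespace Groth.L06.NormDVR

/-- A reduced local Noetherian ring of dimension one integrally closed in its total ring of fractions is a DVR. -/
theorem isDVR_of_dim_one {O : Type u} [CommRing O] [IsLocalRing O] [IsNoetherianRing O] [IsReduced O]
    (hdim : ringKrullDim O = 1) [IsIntegrallyClosed O] :
    ∃ _ : IsDomain O, IsDiscreteValuationRing O := by
  classical
  have hfin : (minimalPrimes O).Finite := minimalPrimes.finite_of_isNoetherianRing O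
  have hone : ∀ P ∈ minimalPrimes O, ∀ Q ∈ minimalPrimes O, P = Q := by
    intro P hP Q hQ
    by_contra hne
    haveI : P.IsPrime := hP.1.1
    have hnle : ¬ (hfin.toFinset.erase P).inf id ≤ P := fun hle => by
      obtain ⟨R, hR, hRP⟩ := (Ideal.IsPrime.inf_le' ‹_›).mp hle
      obtain ⟨hneR, hRm⟩ := Finset.mem_erase.mp hR
      rw [Set.Finite.mem_toFinset] at hRm
      exact hneR (le_antisymm hRP (hP.2 hRm.1 hRP))
    obtain ⟨t, ht, htP⟩ := SetLike.not_le_iff_exists.mp hnle
    have htR : ∀ R ∈ minimalPrimes O, R ≠ P → t ∈ R := fun R hR hneR =>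
      (Finset.inf_le (f := id) (Finset.mem_erase.mpr ⟨hneR, hfin.mem_toFinset.mpr hR⟩) : _ ≤ R) ht
    obtain ⟨s, hsP, hs⟩ : ∃ s ∈ P, ∀ R ∈ minimalPrimes O, R ≠ P → s ∉ R := by
      by_contra hc
      push Not at hc
      obtain ⟨R, hR, hle⟩ := (Ideal.subset_union_prime (s := hfin.toFinset.erase P) (f := id) P P
        (fun R hR _ _ => (hfin.mem_toFinset.mp (Finset.mem_erase.mp hR).2).1.1) (I := P)).mp (fun x hx => by
          obtain ⟨R, hR, hneR, hxR⟩ := hc x hx
          exact Set.mem_iUnion₂.mpr ⟨R, Finset.mem_erase.mpr ⟨hneR, hfin.mem_toFinset.mpr hR⟩, hxR⟩)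
      obtain ⟨hneR, hRm⟩ := Finset.mem_erase.mp hR
      rw [Set.Finite.mem_toFinset] at hRm
      exact hneR (le_antisymm (hRm.2 hP.1 hle) hle)
    have hts : t * s = 0 := NorLocusFinite.eq_zero_of_forall_minimal fun R hR => by
      by_cases hR' : R = P
      · subst hR'; exact Ideal.mul_mem_left _ _ hsP
      · exact Ideal.mul_mem_right _ _ (htR R hR hR')
    have hnzd : t + s ∈ nonZeroDivisors O := NorLocusFinite.mem_nonZeroDivisors_of_forall fun R hR hmem => by
      by_cases hR' : R = P
      · subst hR'; exact htP ((Ideal.add_mem_iff_left _ hsP).mp hmem)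
      · exact hs R hR hR' ((Ideal.add_mem_iff_right _ (htR R hR hR')).mp hmem)
    let e : FractionRing O := IsLocalization.mk' _ t ⟨t + s, hnzd⟩
    have hee : e * e = e := by
      rw [← IsLocalization.mk'_mul, IsLocalization.mk'_eq_iff_eq]
      refine congrArg _ ?_
      show (t + s) * (t * t) = (t + s) * (t + s) * t
      linear_combination -(t + s) * hts
    have hint : IsIntegral O e := ⟨Polynomial.X ^ 2 - Polynomial.X,
      Polynomial.monic_X_pow_sub (Polynomial.degree_X_le.trans_lt (by exact_mod_cast one_lt_two)), by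
        rw [Polynomial.eval₂_sub, Polynomial.eval₂_X_pow, Polynomial.eval₂_X, sq, hee, sub_self]⟩
    obtain ⟨a, ha⟩ := IsIntegrallyClosedIn.algebraMap_eq_of_integral hint
    have hidem : IsIdempotentElem a := IsFractionRing.injective O (FractionRing O) (by rw [map_mul, ha, hee])
    have hspec := IsLocalization.mk'_spec (FractionRing O) t (⟨t + s, hnzd⟩ : nonZeroDivisors O)
    have h01 : a = 0 ∨ a = 1 := by
      have h : a * (1 - a) = 0 := by rw [mul_sub, mul_one]; exact sub_eq_zero.mpr hidem.eq.symm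
      rcases IsLocalRing.isUnit_or_isUnit_one_sub_self a with hu | hu
      · exact Or.inr (sub_eq_zero.mp (hu.mul_right_eq_zero.mp h)).symm
      · exact Or.inl (hu.mul_left_eq_zero.mp h)
    rcases h01 with h0 | h1
    · subst h0
      change e * _ = _ at hspec
      rw [← ha, map_zero, zero_mul] at hspec
      exact htP (by rw [IsFractionRing.injective O (FractionRing O) (hspec.symm.trans (map_zero _).symm)]; exact zero_mem _)
    · subst h1
      change e * _ = _ at hspec
      rw [← ha, map_one, one_mul] at hspec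
      have hs0 : s = 0 := add_eq_left.mp (IsFractionRing.injective O (FractionRing O) hspec)
      exact hs Q hQ (Ne.symm hne) (hs0 ▸ zero_mem _)
  haveI : IsDomain O := by
    obtain ⟨P, hP, -⟩ := Ideal.exists_minimalPrimes_le (I := (⊥ : Ideal O)) (J := IsLocalRing.maximalIdeal O) bot_le
    have hbot : P = ⊥ := (Submodule.eq_bot_iff _).mpr fun x hx =>
      NorLocusFinite.eq_zero_of_forall_minimal fun R hR => hone P hP R hR ▸ hx
    haveI : (⊥ : Ideal O).IsPrime := hbot ▸ hP.1.1
    exact IsDomain.of_bot_isPrime O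
  refine ⟨inferInstance, ?_⟩
  have hf : ¬ IsField O := fun hF => by
    rw [ringKrullDim_eq_zero_of_isField hF] at hdim
    exact zero_ne_one hdim
  have hmne : IsLocalRing.maximalIdeal O ≠ ⊥ := fun h0 => hf (IsLocalRing.isField_iff_maximalIdeal_eq.mpr h0)
  refine (((IsDiscreteValuationRing.TFAE O hf).out 3 0 :
    (IsIntegrallyClosed O ∧ ∃! P : Ideal O, P ≠ ⊥ ∧ P.IsPrime) ↔ IsDiscreteValuationRing O)).mp ⟨inferInstance, IsLocalRing.maximalIdeal O,
    ⟨hmne, inferInstance⟩, fun P ⟨hP0, hP⟩ => ?_⟩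
  haveI := hP
  rcases eq_or_lt_of_le (IsLocalRing.le_maximalIdeal hP.ne_top) with he | hlt
  · exact he
  exfalso
  let a₀ : PrimeSpectrum O := ⟨⊥, Ideal.isPrime_bot⟩
  let a₁ : PrimeSpectrum O := ⟨P, hP⟩
  have h01 : a₀ < a₁ := (show (⊥ : Ideal O) < P from bot_lt_iff_ne_bot.mpr hP0)
  let l : LTSeries (PrimeSpectrum O) := ((RelSeries.singleton _ a₀).snoc a₁ h01).snoc (IsLocalRing.closedPoint O)
    (by rw [RelSeries.last_snoc]; exact (show P < IsLocalRing.maximalIdeal O from hlt))
  have hl : ((l.length : ℕ∞) : WithBot ℕ∞) ≤ ringKrullDim O := Order.LTSeries.length_le_krullDim l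
  rw [hdim] at hl
  simp [l] at hl

/-- The algebraic core: integral closedness in the fraction ring from being invertible off `p`. -/
theorem isIntegrallyClosed_core {A C B O : Type u} [CommRing A] [CommRing C] [CommRing B] [CommRing O]
    [Algebra A C] [Algebra A B] [Algebra C B] [IsScalarTower A C B] [IsIntegrallyClosedIn C B]
    (hinj : Function.Injective (algebraMap C B)) (p : Ideal C) [p.IsPrime] [Algebra C O]
    [IsLocalization.AtPrime O p]
    (hkey : ∀ a : C, algebraMap C O a ∈ nonZeroDivisors O →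
      ∃ s ∉ p, ∃ b : B, algebraMap C B a * b = algebraMap C B s) :
    IsIntegrallyClosed O := by
  refine isIntegrallyClosedIn_iff.mpr ⟨IsFractionRing.injective O (FractionRing O), fun {x} hx => ?_⟩
  obtain ⟨c₁, d₁, rfl⟩ := IsLocalization.exists_mk'_eq (nonZeroDivisors O) x
  obtain ⟨c, s₀, rfl⟩ := IsLocalization.exists_mk'_eq p.primeCompl c₁
  obtain ⟨d₁, hd₁⟩ := d₁
  obtain ⟨a, s₁, rfl⟩ := IsLocalization.exists_mk'_eq p.primeCompl d₁
  have ha : algebraMap C O a ∈ nonZeroDivisors O := by
    rw [← IsLocalization.mk'_spec O a s₁]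
    exact mul_mem hd₁ (IsLocalization.map_units O s₁).mem_nonZeroDivisors
  obtain ⟨s, hs, b, hab⟩ := hkey a ha
  -- the fraction in terms of `c / a`
  set F := FractionRing O
  let ψ : C →+* F := (algebraMap O F).comp (algebraMap C O)
  have hu : ∀ t : C, t ∉ p → IsUnit (ψ t) := fun t ht =>
    (IsLocalization.map_units O (⟨t, ht⟩ : p.primeCompl)).map (algebraMap O F)
  set x := IsLocalization.mk' F (IsLocalization.mk' O c s₀) (⟨IsLocalization.mk' O a s₁, hd₁⟩ : nonZeroDivisors O) with hxdef
  have hxspec : x * ψ a * ψ s₀ = ψ c * ψ s₁ := by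
    have h1 : x * algebraMap O F (IsLocalization.mk' O a s₁) = algebraMap O F (IsLocalization.mk' O c s₀) :=
      IsLocalization.mk'_spec F _ _
    have h2 := IsLocalization.mk'_spec O a s₁
    have h3 := IsLocalization.mk'_spec O c s₀
    show x * algebraMap O F (algebraMap C O a) * algebraMap O F (algebraMap C O s₀) =
      algebraMap O F (algebraMap C O c) * algebraMap O F (algebraMap C O s₁)
    rw [← h2, ← h3, map_mul, map_mul, ← h1]
    ring
  -- multiply through to land in `C`
  let z : B := algebraMap C B (c * s₁) * b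
  obtain ⟨G, hG, hGx⟩ := hx
  obtain ⟨t, ht⟩ := IsLocalization.exist_integer_multiples_of_finset p.primeCompl G.coeffs
  have hcoef : ∀ i, ∃ g : C, algebraMap C O g = algebraMap C O t * G.coeff i := fun i => by
    by_cases hi : G.coeff i = 0
    · exact ⟨0, by rw [hi, map_zero, mul_zero]⟩
    · obtain ⟨g, hg⟩ := ht _ (Polynomial.coeff_mem_coeffs hi)
      exact ⟨g, by rw [hg, Algebra.smul_def]⟩
  choose g hg using hcoef
  set d := G.natDegree
  have hw : ψ (s * s₀) * x = ψ (c * s₁) * ψ s * (Ring.inverse (ψ a)) := by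
    have hau : IsUnit (ψ a) := IsLocalization.map_units F (⟨_, ha⟩ : nonZeroDivisors O)
    rw [map_mul, map_mul, ← hxspec]
    linear_combination (ψ s * ψ s₀ * x) * (Ring.mul_inverse_cancel _ hau).symm
  have hrel : (algebraMap O F).comp (algebraMap C O) (∑ i ∈ Finset.range (d + 1),
      g i * (c * s₁) ^ i * (a * s₀) ^ (d - i)) = 0 := by
    rw [Polynomial.eval₂_eq_sum_range] at hGx
    show ψ _ = 0
    rw [map_sum]
    calc ∑ i ∈ Finset.range (d + 1), ψ (g i * (c * s₁) ^ i * (a * s₀) ^ (d - i))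
        = ∑ i ∈ Finset.range (d + 1), (ψ t * (ψ a * ψ s₀) ^ d) * (algebraMap O F (G.coeff i) * x ^ i) := by
          refine Finset.sum_congr rfl fun i hi => ?_
          have hid : i ≤ d := Nat.lt_succ_iff.mp (Finset.mem_range.mp hi)
          have hgi : ψ (g i) = ψ t * algebraMap O F (G.coeff i) := by
            show algebraMap O F (algebraMap C O (g i)) = _
            rw [hg i, map_mul]; rfl
          rw [map_mul, map_mul, map_pow, map_pow, hgi, map_mul, map_mul, ← hxspec,
            show (ψ a * ψ s₀) ^ d = (ψ a * ψ s₀) ^ i * (ψ a * ψ s₀) ^ (d - i) by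
              rw [← pow_add, Nat.add_sub_cancel' hid]]
          ring
      _ = 0 := by rw [← Finset.mul_sum, hGx, mul_zero]
  obtain ⟨v, hv⟩ := (IsLocalization.map_eq_zero_iff p.primeCompl O _).mp
    (IsFractionRing.injective O F (hrel.trans (map_zero _).symm))
  -- `w = v t z` is integral over `C`
  let w : B := algebraMap C B (v * t) * z
  have hgd : algebraMap C O (g d) = algebraMap C O t := by rw [hg d, hG.coeff_natDegree, mul_one]
  obtain ⟨v', hv'⟩ := (IsLocalization.eq_iff_exists p.primeCompl O).mp hgd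
  have hwint : IsIntegral C (algebraMap C B ((v : C) * v' * t) * z) := by
    have hsum : ∑ i ∈ Finset.range (d + 1), algebraMap C B ((v : C) * v' * g i) *
        (z ^ i * algebraMap C B (s * s₀) ^ (d - i)) = 0 := by
      have h0 : algebraMap C B ((v : C) * v' * ∑ i ∈ Finset.range (d + 1), g i * (c * s₁) ^ i * (a * s₀) ^ (d - i))
          * b ^ d = 0 := by
        rw [mul_comm (v : C), mul_assoc (v' : C), hv, mul_zero, map_zero, zero_mul]
      rw [← h0, Finset.mul_sum, map_sum, Finset.sum_mul]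
      refine Finset.sum_congr rfl fun i hi => ?_
      have hid : i ≤ d := Nat.lt_succ_iff.mp (Finset.mem_range.mp hi)
      rw [map_mul (algebraMap C B) s, ← hab]
      simp only [z, map_mul, map_pow, mul_pow]
      rw [show b ^ d = b ^ i * b ^ (d - i) by rw [← pow_add, Nat.add_sub_cancel' hid]]
      ring
    set e := (v : C) * v' * t with he
    have hlead : (v : C) * v' * g d = e := by rw [he, mul_assoc, hv', ← mul_assoc]
    refine ⟨Polynomial.X ^ d + ∑ i ∈ Finset.range d,
      Polynomial.C ((v : C) * v' * g i * e ^ (d - 1 - i) * (s * s₀) ^ (d - i)) * Polynomial.X ^ i, ?_, ?_⟩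
    · refine Polynomial.monic_X_pow_add (lt_of_le_of_lt (Polynomial.degree_sum_le _ _) ?_)
      refine (Finset.sup_lt_iff (WithBot.bot_lt_coe d)).mpr fun i hi => ?_
      exact lt_of_le_of_lt (Polynomial.degree_C_mul_X_pow_le i _) (WithBot.coe_lt_coe.mpr (Finset.mem_range.mp hi))
    · rw [Polynomial.eval₂_add, Polynomial.eval₂_X_pow, Polynomial.eval₂_finsetSum]
      simp only [Polynomial.eval₂_mul, Polynomial.eval₂_C, Polynomial.eval₂_X_pow]
      rcases Nat.eq_zero_or_pos d with hd | hd
      · have h1 : algebraMap C B e = 0 := by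
          rw [hd, Finset.sum_range_one, pow_zero, Nat.sub_zero, pow_zero, mul_one, mul_one, ← hd, hlead] at hsum
          exact hsum
        have h2 : e ∈ p := (hinj (h1.trans (map_zero _).symm)).symm ▸ zero_mem _
        exact absurd h2 (p.primeCompl.mul_mem (p.primeCompl.mul_mem v.2 v'.2) t.2)
      · rw [Finset.sum_range_succ, Nat.sub_self, pow_zero, mul_one, hlead] at hsum
        have h3 := congrArg (fun y => algebraMap C B e ^ (d - 1) * y) hsum
        simp only [mul_zero, mul_add, Finset.mul_sum] at h3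
        rw [mul_pow, ← h3, add_comm]
        refine congrArg₂ (· + ·) (Finset.sum_congr rfl fun i hi => ?_) ?_
        · have hid := Finset.mem_range.mp hi
          rw [map_mul _ _ ((s * s₀) ^ (d - i)), map_mul _ _ (e ^ (d - 1 - i)), map_pow, map_pow,
            show algebraMap C B e ^ (d - 1) = algebraMap C B e ^ (d - 1 - i) * algebraMap C B e ^ i by
              rw [← pow_add]; congr 1; omega]
          ring
        · rw [show algebraMap C B e ^ d = algebraMap C B e ^ (d - 1) * algebraMap C B e by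
            rw [← pow_succ]; congr 1; omega]
          ring
  obtain ⟨f, hf⟩ := IsIntegrallyClosedIn.algebraMap_eq_of_integral (R := C) hwint
  -- conclude
  set e := (v : C) * v' * t
  have hfin' : e * (c * s₁) * s = f * a := hinj (by
    rw [map_mul _ (e * _), map_mul _ f, hf, ← hab, map_mul _ e]
    simp only [z]
    ring)
  have heu : IsUnit (algebraMap C O (e * s * s₀)) :=
    IsLocalization.map_units O (⟨e * s * s₀, p.primeCompl.mul_mem (p.primeCompl.mul_mem
      (p.primeCompl.mul_mem (p.primeCompl.mul_mem v.2 v'.2) t.2) hs) s₀.2⟩ : p.primeCompl)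
  refine ⟨algebraMap C O f * ↑heu.unit⁻¹, ?_⟩
  have hau : IsUnit (ψ a) := IsLocalization.map_units F (⟨_, ha⟩ : nonZeroDivisors O)
  refine (heu.map (algebraMap O F)).mul_left_cancel (hau.mul_left_cancel ?_)
  rw [← map_mul, mul_left_comm _ (algebraMap C O f), IsUnit.mul_val_inv, mul_one]
  show ψ a * ψ f = ψ a * (ψ (e * s * s₀) * x)
  rw [← map_mul, mul_comm a f, ← hfin']
  simp only [e, map_mul]
  linear_combination (-(ψ (v : C) * ψ (v' : C) * ψ (t : C) * ψ s)) * hxspec

section Scheme

variable {X Y : Scheme.{u}}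

theorem mem_toSpecΓ (W : Y.Opens) (y : W) (c : Γ(Y, W)) :
    c ∉ (W.toSpecΓ y).asIdeal ↔ y.1 ∈ Y.basicOpen c := by
  show y ∈ W.toSpecΓ ⁻¹ᵁ PrimeSpectrum.basicOpen c ↔ _
  rw [Scheme.Opens.toSpecΓ, Scheme.Hom.comp_preimage]
  show y ∈ W.toScheme.toSpecΓ ⁻¹ᵁ PrimeSpectrum.basicOpen (W.topIso.inv c) ↔ _
  rw [Scheme.toSpecΓ_preimage_basicOpen, Scheme.Opens.topIso_inv]
  refine (Scheme.Opens.mem_basicOpen_toScheme (U := W) (V := ⊤)).trans ?_

  erw [Scheme.basicOpen_res]
  exact ⟨fun h => h.2, fun h => ⟨by first | trivial | exact ⟨y, trivial, rfl⟩ | simp, h⟩⟩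

/-- Elements not vanishing on the points over `p` are invertible after inverting something outside `p`. -/
theorem exists_mul_eq [IsLocallyNoetherian Y] (W : Y.Opens) (hW : IsCompact (W : Set Y))
    {C : Type u} [CommRing C] (φ : C →+* Γ(Y, W)) (p : Ideal C) (a : C)
    (h : ∀ y : W, a ∈ ((W.toSpecΓ y).asIdeal.comap φ) → ¬ (W.toSpecΓ y).asIdeal.comap φ ≤ p)
    [p.IsPrime] : ∃ s ∉ p, ∃ b : Γ(Y, W), φ a * b = φ s := by
  classical
  haveI : CompactSpace W := isCompact_iff_compactSpace.mp hW
  haveI : CompactSpace (W : Scheme.{u}) := ‹CompactSpace W›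
  haveI : IsLocallyNoetherian (W : Scheme.{u}) := isLocallyNoetherian_of_isOpenImmersion W.ι
  haveI : NoetherianSpace W := by
    haveI : IsNoetherian (W : Scheme.{u}) := {}
    exact (inferInstance : NoetherianSpace (W : Scheme.{u}))
  let Z : Set W := {y | y.1 ∉ Y.basicOpen (φ a)}
  have hZ : IsClosed Z := ((Y.basicOpen (φ a)).2.preimage continuous_subtype_val).isClosed_compl
  obtain ⟨S, hSf, hSc, hSi, hSu⟩ := NoetherianSpace.exists_finite_set_isClosed_irreducible hZ
  haveI : QuasiSober W := (inferInstance : QuasiSober (W : Scheme.{u}))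
  have hpt : ∀ T : hSf.toFinset, ∃ s ∉ p, ∀ y ∈ T.1, y.1 ∉ Y.basicOpen (φ s) := by
    rintro ⟨T, hT⟩
    rw [Set.Finite.mem_toFinset] at hT
    obtain ⟨η, hη⟩ := QuasiSober.sober (hSi T hT) (hSc T hT)
    have hηT : η ∈ T := hη.mem
    have hηZ : η ∈ Z := hSu.ge ⟨T, hT, hηT⟩
    have haη : a ∈ (W.toSpecΓ η).asIdeal.comap φ := not_not.mp fun hna => hηZ ((mem_toSpecΓ W η _).mp hna)
    obtain ⟨s, hsη, hsp⟩ := SetLike.not_le_iff_exists.mp (h η haη)
    refine ⟨s, hsp, fun y hy hys => (mem_toSpecΓ W η (φ s)).mpr ?_ hsη⟩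
    exact ((hη.specializes hy).map continuous_subtype_val).mem_open (Y.basicOpen (φ s)).2 hys
  choose σ hσp hσ using hpt
  set s := ∏ T, σ T with hs
  have hsp : s ∉ p := p.primeCompl.prod_mem fun T _ => hσp T
  have hle : Y.basicOpen (φ s) ≤ Y.basicOpen (φ a) := fun y hy => by
    have hyW : y ∈ W := Y.basicOpen_le _ hy
    by_contra hne
    obtain ⟨T, hT, hyT⟩ := hSu.le (show (⟨y, hyW⟩ : W) ∈ Z from hne)
    have hdvd : φ (σ ⟨T, hSf.mem_toFinset.mpr hT⟩) ∣ φ s := map_dvd φ (Finset.dvd_prod_of_mem _ (Finset.mem_univ _))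
    obtain ⟨c, hc⟩ := hdvd
    rw [hc, Scheme.basicOpen_mul] at hy
    exact hσ ⟨T, hSf.mem_toFinset.mpr hT⟩ ⟨y, hyW⟩ hyT hy.1
  have hu : IsUnit (Y.presheaf.map (homOfLE (Y.basicOpen_le (φ s))).op (φ a)) := by
    rw [show (homOfLE (Y.basicOpen_le (φ s))).op = (homOfLE (Y.basicOpen_le (φ a))).op ≫ (homOfLE hle).op from rfl,
      Functor.map_comp, CommRingCat.comp_apply]
    exact (RingedSpace.isUnit_res_basicOpen _ (φ a)).map _
  letI : Algebra Γ(Y, W) Γ(Y, Y.basicOpen (φ s)) := (Y.presheaf.map (homOfLE (Y.basicOpen_le (φ s))).op).hom.toAlgebra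
  haveI : IsLocalization.Away (φ s) Γ(Y, Y.basicOpen (φ s)) := isLocalization_basicOpen_of_qcqs hW
    (IsQuasiSeparated.of_quasiSeparatedSpace _) (φ s)
  obtain ⟨b₀, ⟨_, n, rfl⟩, hb₀⟩ := IsLocalization.exists_mk'_eq (Submonoid.powers (φ s)) (↑hu.unit⁻¹ : Γ(Y, Y.basicOpen (φ s)))
  have heq : algebraMap Γ(Y, W) Γ(Y, Y.basicOpen (φ s)) (φ a * b₀) =
      algebraMap Γ(Y, W) Γ(Y, Y.basicOpen (φ s)) (φ s ^ n) := by
    rw [map_mul, ← IsLocalization.mk'_spec Γ(Y, Y.basicOpen (φ s)) b₀
      (⟨φ s ^ n, n, rfl⟩ : Submonoid.powers (φ s)), hb₀, ← mul_assoc]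
    rw [show algebraMap Γ(Y, W) Γ(Y, Y.basicOpen (φ s)) (φ a) * ↑hu.unit⁻¹ = 1 from hu.mul_val_inv, one_mul]
  obtain ⟨⟨_, m, rfl⟩, hm⟩ := (IsLocalization.eq_iff_exists (Submonoid.powers (φ s)) _).mp heq
  refine ⟨s ^ m * s ^ n, p.primeCompl.mul_mem (pow_mem hsp m) (pow_mem hsp n), φ s ^ m * b₀, ?_⟩
  rw [map_mul, map_pow, map_pow, mul_left_comm]
  exact hm

theorem main (f : Y ⟶ X) [LocallyOfFiniteType f] [QuasiCompact f] [QuasiSeparated f] [IsReduced Y]
    (hX : ∀ U : X.affineOpens, CAlg.IsNagata Γ(X, U))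
    (x' : ↥f.normalization) (hdim : ringKrullDim (f.normalization.presheaf.stalk x') = 1)
    (hx' : x' ∉ Set.range f.toNormalization.base) :
    ∃ _ : IsDomain (f.normalization.presheaf.stalk x'),
      IsDiscreteValuationRing (f.normalization.presheaf.stalk x') := by
  haveI : IsLocallyNoetherian X := ⟨fun U => (hX U).1⟩
  haveI : IsLocallyNoetherian Y := LocallyOfFiniteType.isLocallyNoetherian f
  haveI := Groth.L00.NagataNorm.isFinite_fromNormalization_of_finiteType f hX
  haveI : IsLocallyNoetherian f.normalization := LocallyOfFiniteType.isLocallyNoetherian f.fromNormalization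
  haveI : IsNoetherianRing (f.normalization.presheaf.stalk x') := inferInstance
  obtain ⟨U, hU, hxU, -⟩ := exists_isAffineOpen_mem_and_subset (x := f.fromNormalization x') (U := (⊤ : X.Opens)) trivial
  letI := (f.app U).hom.toAlgebra
  obtain ⟨P, hP⟩ : x' ∈ (f.normalizationOpenCover.f ⟨U, hU⟩).opensRange :=
    (f.fromNormalization_preimage ⟨U, hU⟩) ▸ hxU
  let Cl := integralClosure Γ(X, U) Γ(Y, f ⁻¹ᵁ U)
  let j : Spec (CommRingCat.of Cl) ⟶ f.normalization := f.normalizationOpenCover.f ⟨U, hU⟩
  haveI : IsOpenImmersion j := inferInstanceAs (IsOpenImmersion (f.normalizationOpenCover.f ⟨U, hU⟩))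
  let Q : PrimeSpectrum Cl := P
  let O := (Spec (CommRingCat.of Cl)).presheaf.stalk P
  let ε := (asIso (j.stalkMap P)).commRingCatIsoToRingEquiv
  subst hP
  haveI : IsNoetherianRing O := isNoetherianRing_of_ringEquiv _ ε
  haveI : _root_.IsReduced O := isReduced_of_injective ε.symm ε.symm.injective
  have hdimO : ringKrullDim O = 1 := (ringKrullDim_eq_of_ringEquiv ε).symm.trans hdim
  letI : Algebra Cl O := StructureSheaf.stalkAlgebra Cl Q
  haveI : IsLocalization.AtPrime O Q.asIdeal := StructureSheaf.IsLocalization.to_stalk Cl Q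
  haveI : IsIntegrallyClosed O := isIntegrallyClosed_core (A := Γ(X, U)) (C := Cl) (B := Γ(Y, f ⁻¹ᵁ U))
    Subtype.val_injective Q.asIdeal fun a ha => by
      refine exists_mul_eq (f ⁻¹ᵁ U) (f.isCompact_preimage hU.isCompact) (Cl.val.toRingHom) Q.asIdeal a fun y hay hle => ?_
      let q : PrimeSpectrum Cl := PrimeSpectrum.comap Cl.val.toRingHom ((f ⁻¹ᵁ U).toSpecΓ y)
      have himg : j q = f.toNormalization y.1 := by
        have h1 := congrArg (fun g => g.base y) (f.ι_toNormalization ⟨U, hU⟩)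
        exact h1.symm
      by_cases hq : q = Q
      · exact hx' ⟨y.1, himg.symm.trans (congrArg j hq)⟩
      -- otherwise `q` is minimal below `Q` and contains a non-zero-divisor
      haveI : (Ideal.map (algebraMap Cl O) q.asIdeal).IsPrime :=
        IsLocalization.isPrime_of_isPrime_disjoint Q.asIdeal.primeCompl O _ q.isPrime
          (Set.disjoint_left.mpr fun z hz hzq => hz (hle hzq))
      have hmin : Ideal.map (algebraMap Cl O) q.asIdeal ∈ minimalPrimes O := by
        obtain ⟨R, hR, hRle⟩ := Ideal.exists_minimalPrimes_le (I := (⊥ : Ideal O)) (J := Ideal.map (algebraMap Cl O) q.asIdeal) bot_le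
        haveI : R.IsPrime := hR.1.1
        rcases eq_or_lt_of_le hRle with he | hlt
        · exact he ▸ hR
        · exfalso
          have hlt2 : Ideal.map (algebraMap Cl O) q.asIdeal < IsLocalRing.maximalIdeal O := by
            refine lt_of_le_of_ne (IsLocalRing.le_maximalIdeal (Ideal.IsPrime.ne_top ‹_›)) fun h0 => hq ?_
            have h2 := congrArg (Ideal.comap (algebraMap Cl O)) h0
            rw [← Ideal.under_def, IsLocalization.under_map_of_isPrime_disjoint Q.asIdeal.primeCompl O q.isPrime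
              (Set.disjoint_left.mpr fun z hz hzq => hz (hle hzq))] at h2
            exact PrimeSpectrum.ext (h2.trans (IsLocalization.AtPrime.under_maximalIdeal O Q.asIdeal))
          let a₀ : PrimeSpectrum O := ⟨R, inferInstance⟩
          let a₁ : PrimeSpectrum O := ⟨Ideal.map (algebraMap Cl O) q.asIdeal, inferInstance⟩
          let a₂ : PrimeSpectrum O := IsLocalRing.closedPoint O
          let l : LTSeries (PrimeSpectrum O) :=
            ((RelSeries.singleton _ a₀).snoc a₁ hlt).snoc a₂ (by rw [RelSeries.last_snoc]; exact (show Ideal.map (algebraMap Cl O) q.asIdeal < IsLocalRing.maximalIdeal O from hlt2))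
          have hl : ((l.length : ℕ∞) : WithBot ℕ∞) ≤ ringKrullDim O := Order.LTSeries.length_le_krullDim l
          rw [hdimO] at hl
          simp [l] at hl
      exact Set.disjoint_left.mp (Ideal.disjoint_nonZeroDivisors_of_mem_minimalPrimes hmin)
        (Ideal.mem_map_of_mem _ hay) ha
  obtain ⟨hdom, hdvr⟩ := isDVR_of_dim_one hdimO
  haveI := ε.injective.isDomain ε.toRingHom
  exact ⟨inferInstance, IsDiscreteValuationRing.RingEquivClass.isDiscreteValuationRing ε.symm⟩

end Scheme

end Groth.L06.NormDVR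

end
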