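import Groth.Agent.L22.Norm.GeomBranch
import Groth.Agent.L22.AffineDim
import Groth.Agent.L06.NormDVR
import Mathlib.FieldTheory.PurelyInseparable.Basic
import Mathlib.RingTheory.Henselian

/-!
# Wedges of discrete valuation rings
-/

set_option autoImplicit false
set_option maxSynthPendingDepth 3
set_option linter.style.haveILetI false

universe u

noncomputable section

namespace Groth.L06.WedgeDVR

variable (A : Type u) [CommRing A]

/-- For reduced `A`, the normalisation of the reduction is the integral closure of `A`, as algebras. -/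
theorem exists_normRed_ringEquiv [IsReduced A] :
    ∃ e : integralClosure A (FractionRing A) ≃+* CAlg2.normRed A,
      ∀ a, e (algebraMap A _ a) = algebraMap (CAlg2.red A) (CAlg2.normRed A) (Ideal.Quotient.mk _ a) := by
  have hbij : Function.Bijective (IsScalarTower.toAlgHom A A (CAlg2.red A)) := by
    refine ⟨?_, Ideal.Quotient.mk_surjective⟩
    exact RingHom.injective_iff_ker_eq_bot (Ideal.Quotient.mk (nilradical A)) |>.2
      (Ideal.mk_ker.trans (nilradical_eq_zero A))
  let r : A ≃+* CAlg2.red A := RingEquiv.ofBijective (Ideal.Quotient.mk (nilradical A)) hbij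
  haveI : IsFractionRing A (FractionRing (CAlg2.red A)) := by
    have h1 := IsLocalization.isLocalization_of_base_ringEquiv (nonZeroDivisors (CAlg2.red A))
      (FractionRing (CAlg2.red A)) r.symm
    have h2 : (nonZeroDivisors (CAlg2.red A)).map (r.symm : CAlg2.red A →* A) = nonZeroDivisors A :=
      MulEquivClass.map_nonZeroDivisors r.symm
    convert! h2 ▸ h1 using 1
    exact Algebra.algebra_ext _ _ fun a => rfl
  let g : FractionRing A ≃ₐ[A] FractionRing (CAlg2.red A) :=
    IsLocalization.algEquiv (nonZeroDivisors A) _ _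
  haveI : Algebra.IsIntegral A (CAlg2.red A) :=
    ⟨RingHom.isIntegral_of_surjective _ Ideal.Quotient.mk_surjective⟩
  exact ⟨{ toFun := fun z => ⟨g z, (z.2.map g.toAlgHom).tower_top⟩
           map_add' := fun x y => Subtype.ext (map_add g _ _)
           map_mul' := fun x y => Subtype.ext (map_mul g _ _)
           invFun := fun z => ⟨g.symm z, (isIntegral_trans (R := A) z.1 z.2).map g.symm.toAlgHom⟩
           left_inv := fun z => Subtype.ext (g.symm_apply_apply z.1)
           right_inv := fun z => Subtype.ext (g.apply_symm_apply z.1) },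
    fun a => Subtype.ext (g.commutes a)⟩

set_option synthInstance.maxHeartbeats 400000 in
set_option maxHeartbeats 1000000 in
/-- Over a separably closed residue field there is at most one embedding at each maximal ideal. -/
theorem subsingleton_emb [IsLocalRing A] [IsSepClosed (IsLocalRing.ResidueField A)]
    (m : MaximalSpectrum (CAlg2.normRed A)) : Subsingleton (Brnch.Emb A m) := by
  haveI := m.isMaximal
  letI : Field (CAlg2.normRed A ⧸ m.asIdeal) := Ideal.Quotient.field m.asIdeal
  have hint : ((algebraMap (CAlg2.red A) (CAlg2.normRed A)).comp (Ideal.Quotient.mk (nilradical A))).IsIntegral :=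
    RingHom.IsIntegral.trans _ _ (RingHom.isIntegral_of_surjective _ Ideal.Quotient.mk_surjective)
      (algebraMap_isIntegral_iff.2 (inferInstance : Algebra.IsIntegral (CAlg2.red A) (CAlg2.normRed A)))
  have hres : (Brnch.toResidue A m).IsIntegral :=
    RingHom.IsIntegral.trans _ _ hint (RingHom.isIntegral_of_surjective _ Ideal.Quotient.mk_surjective)
  have hker : IsLocalRing.maximalIdeal A ≤ RingHom.ker (Brnch.toResidue A m) := by
    letI := (Brnch.toResidue A m).toAlgebra
    haveI : Algebra.IsIntegral A (CAlg2.normRed A ⧸ m.asIdeal) := ⟨hres⟩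
    have h := IsLocalRing.eq_maximalIdeal
      (Ideal.isMaximal_comap_of_isIntegral_of_isMaximal (R := A) (⊥ : Ideal (CAlg2.normRed A ⧸ m.asIdeal)))
    exact h.ge
  let ψ : IsLocalRing.ResidueField A →+* CAlg2.normRed A ⧸ m.asIdeal :=
    Ideal.Quotient.lift (IsLocalRing.maximalIdeal A) (Brnch.toResidue A m) fun a ha => hker ha
  letI := ψ.toAlgebra
  haveI : Algebra.IsIntegral (IsLocalRing.ResidueField A) (CAlg2.normRed A ⧸ m.asIdeal) :=
    ⟨RingHom.IsIntegral.tower_top (IsLocalRing.residue A) ψ hres⟩
  haveI : IsPurelyInseparable (IsLocalRing.ResidueField A) (CAlg2.normRed A ⧸ m.asIdeal) := inferInstance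
  refine ⟨fun σ τ => Subtype.ext ?_⟩
  let σ' : (CAlg2.normRed A ⧸ m.asIdeal) →ₐ[IsLocalRing.ResidueField A] AlgebraicClosure (IsLocalRing.ResidueField A) :=
    { σ.1 with
      commutes' := fun c => by
        obtain ⟨a, rfl⟩ := IsLocalRing.residue_surjective c
        exact RingHom.congr_fun σ.2 a }
  let τ' : (CAlg2.normRed A ⧸ m.asIdeal) →ₐ[IsLocalRing.ResidueField A] AlgebraicClosure (IsLocalRing.ResidueField A) :=
    { τ.1 with
      commutes' := fun c => by
        obtain ⟨a, rfl⟩ := IsLocalRing.residue_surjective c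
        exact RingHom.congr_fun τ.2 a }
  exact RingHom.ext fun x => AlgHom.congr_fun (Subsingleton.elim σ' τ') x

theorem numGeomBranches_le_card [IsLocalRing A] [IsReduced A] [IsSepClosed (IsLocalRing.ResidueField A)]
    (hfin : (minimalPrimes A).Finite) :
    Brnch.numGeomBranches A ≤ ENat.card (MaximalSpectrum (integralClosure A (FractionRing A))) := by
  obtain ⟨e, -⟩ := exists_normRed_ringEquiv A
  rw [Brnch.numGeomBranches, if_pos hfin]
  refine ENat.card_le_card_of_injective (f := fun p : Σ m' : MaximalSpectrum (CAlg2.normRed A), Brnch.Emb A m' =>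
    (⟨p.1.asIdeal.comap e.toRingHom, haveI := p.1.isMaximal; Ideal.comap_isMaximal_of_surjective _ e.surjective⟩ :
      MaximalSpectrum (integralClosure A (FractionRing A)))) ?_
  rintro ⟨m, σ⟩ ⟨m', σ'⟩ h
  have hm : m = m' := MaximalSpectrum.ext (Ideal.comap_injective_of_surjective _ e.surjective
    (congrArg MaximalSpectrum.asIdeal h))
  subst hm
  haveI := subsingleton_emb A m
  exact congrArg (Sigma.mk m) (Subsingleton.elim σ σ')

set_option maxHeartbeats 1000000 in
theorem main_of_le [IsLocalRing A] [IsReduced A] (hN : CAlg.IsNagata A)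
    (hdim : ringKrullDim A = 1) (hδ' : Curv2.deltaInv A + 1 ≤ ENat.card (MaximalSpectrum (integralClosure A (FractionRing A)))) :
    (∀ m' : MaximalSpectrum ↥(integralClosure A (FractionRing A)),
        (∃ _ : IsDomain (Localization.AtPrime m'.asIdeal), IsDiscreteValuationRing (Localization.AtPrime m'.asIdeal)) ∧
        Function.Surjective (⇑(IsLocalRing.residue (Localization.AtPrime m'.asIdeal)) ∘
          ⇑(algebraMap ↥(integralClosure A (FractionRing A)) (Localization.AtPrime m'.asIdeal)) ∘
          ⇑(algebraMap A ↥(integralClosure A (FractionRing A))))) ∧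
    ∀ a' : ↥(integralClosure A (FractionRing A)),
      (∃ a : A, ∀ m' : MaximalSpectrum ↥(integralClosure A (FractionRing A)),
          a' - algebraMap A _ a ∈ m'.asIdeal) →
      a' ∈ (algebraMap A ↥(integralClosure A (FractionRing A))).range := by
  classical
  haveI : IsNoetherianRing A := hN.1
  have hminfin : (minimalPrimes A).Finite := (⊥ : Ideal A).finite_minimalPrimes_of_isNoetherianRing A
  haveI := Groth.L22.Norm.finite_integralClosure A hN
  let C := integralClosure A (FractionRing A)
  haveI : IsNoetherianRing C := IsNoetherianRing.of_finite A C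
  have hinjC : Function.Injective (algebraMap A C) := fun a b h =>
    IsFractionRing.injective A (FractionRing A) (congrArg Subtype.val h)
  have hlie : ∀ m : MaximalSpectrum C, m.asIdeal.comap (algebraMap A C) = IsLocalRing.maximalIdeal A := fun m => by
    haveI := m.isMaximal
    exact IsLocalRing.eq_maximalIdeal (Ideal.isMaximal_comap_of_isIntegral_of_isMaximal m.asIdeal)
  haveI : Finite (MaximalSpectrum C) := by
    haveI : Finite ((IsLocalRing.maximalIdeal A).map (algebraMap A C)).minimalPrimes :=
      (((IsLocalRing.maximalIdeal A).map (algebraMap A C)).finite_minimalPrimes_of_isNoetherianRing C).to_subtype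
    refine Finite.of_injective (β := ((IsLocalRing.maximalIdeal A).map (algebraMap A C)).minimalPrimes)
      (fun m => ⟨m.asIdeal, by
        haveI := m.isMaximal
        rw [← hlie m]
        exact Ideal.IsIntegral.mem_minimalPrimes_map_under m.asIdeal⟩)
      (fun m m' h => MaximalSpectrum.ext (congrArg Subtype.val h))
  haveI := Fintype.ofFinite (MaximalSpectrum C)
  haveI : Nontrivial C := hinjC.nontrivial
  have hδ : Curv2.deltaInv A + 1 ≤ (Fintype.card (MaximalSpectrum C) : ℕ∞) := by
    rw [← ENat.card_eq_coe_fintype_card]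
    exact hδ'
  -- lengths
  let P : Type u := ∀ m : MaximalSpectrum C, C ⧸ m.asIdeal
  let Φ : C →ₗ[A] P := LinearMap.pi fun m => (Ideal.Quotient.mkₐ A m.asIdeal).toLinearMap
  have hΦ : Function.Surjective Φ := fun y => by
    obtain ⟨x, hx⟩ := Ideal.quotientInfToPiQuotient_surj
      (I := fun m : MaximalSpectrum C => m.asIdeal) (fun m m' h => by
        haveI := m.isMaximal; haveI := m'.isMaximal
        exact Ideal.isCoprime_of_isMaximal fun hh => h (MaximalSpectrum.ext hh)) y
    obtain ⟨x, rfl⟩ := Ideal.Quotient.mk_surjective x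
    exact ⟨x, funext fun m => congrFun hx m⟩
  let R₀ : Submodule A P := LinearMap.range (Φ ∘ₗ Algebra.linearMap A C)
  let R₁ : Submodule A C := LinearMap.range (Algebra.linearMap A C)
  let q : (C ⧸ R₁) →ₗ[A] P ⧸ R₀ := R₁.mapQ R₀ Φ (by rintro _ ⟨a, rfl⟩; exact ⟨a, rfl⟩)
  have hq : Function.Surjective q := fun y => by
    obtain ⟨y, rfl⟩ := R₀.mkQ_surjective y
    obtain ⟨x, rfl⟩ := hΦ y
    exact ⟨Submodule.Quotient.mk x, rfl⟩
  have hR₀ : Module.length A R₀ ≤ 1 := by
    refine le_trans (Module.length_le_of_surjective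
      ((IsLocalRing.maximalIdeal A).liftQ (Φ ∘ₗ Algebra.linearMap A C).rangeRestrict ?_)
      fun y => ?_) (le_of_eq (Module.length_eq_one_iff.2
        (isSimpleModule_iff_isCoatom.2 (Ideal.isMaximal_def.1 (IsLocalRing.maximalIdeal.isMaximal A)))))
    · intro a ha
      refine Subtype.ext (funext fun m => ?_)
      exact Ideal.Quotient.eq_zero_iff_mem.2 (by rw [← hlie m] at ha; exact ha)
    · obtain ⟨x, rfl⟩ := LinearMap.surjective_rangeRestrict _ y
      exact ⟨Submodule.Quotient.mk x, rfl⟩
  have hone : ∀ m : MaximalSpectrum C, 1 ≤ Module.length A (C ⧸ m.asIdeal) := fun m => by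
    haveI : Nontrivial (C ⧸ m.asIdeal) := Ideal.Quotient.nontrivial_iff.mpr m.isMaximal.ne_top
    exact Order.one_le_iff_pos.mpr Module.length_pos
  have hP : Module.length A P = ∑ m : MaximalSpectrum C, Module.length A (C ⧸ m.asIdeal) :=
    Module.length_pi_of_fintype _ _
  have hsplit : Module.length A P = Module.length A R₀ + Module.length A (P ⧸ R₀) :=
    Module.length_eq_add_of_exact R₀.subtype R₀.mkQ R₀.subtype_injective R₀.mkQ_surjective
      (LinearMap.exact_subtype_mkQ R₀)
  have hCR : Module.length A (C ⧸ R₁) = Module.length A (LinearMap.ker q) + Module.length A (P ⧸ R₀) :=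
    Module.length_eq_add_of_exact (LinearMap.ker q).subtype q (LinearMap.ker q).subtype_injective hq
      (LinearMap.exact_subtype_ker_map q)
  have hCδ : Module.length A (C ⧸ R₁) + 1 ≤ (Fintype.card (MaximalSpectrum C) : ℕ∞) := hδ
  have hlow : (Fintype.card (MaximalSpectrum C) : ℕ∞) ≤ Module.length A P := by
    rw [hP]
    calc (Fintype.card (MaximalSpectrum C) : ℕ∞) = ∑ _m : MaximalSpectrum C, (1 : ℕ∞) := by simp
      _ ≤ _ := Finset.sum_le_sum fun m _ => hone m
  -- everything is squeezed
  have hup : Module.length A P + Module.length A (LinearMap.ker q) ≤ (Fintype.card (MaximalSpectrum C) : ℕ∞) :=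
    calc Module.length A P + Module.length A (LinearMap.ker q)
        ≤ 1 + Module.length A (P ⧸ R₀) + Module.length A (LinearMap.ker q) := by
          rw [hsplit]; gcongr
      _ = Module.length A (C ⧸ R₁) + 1 := by rw [hCR]; abel
      _ ≤ _ := hCδ
  have hPeq : Module.length A P = (Fintype.card (MaximalSpectrum C) : ℕ∞) :=
    le_antisymm (le_trans le_self_add hup) hlow
  have hker : LinearMap.ker q = ⊥ := by
    rw [hPeq] at hup
    have h0 : Module.length A (LinearMap.ker q) = 0 :=
      nonpos_iff_eq_zero.mp ((ENat.add_le_add_iff_left (ENat.coe_ne_top _)).mp (hup.trans (add_zero _).ge))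
    rw [Module.length_eq_zero_iff] at h0
    exact Submodule.eq_bot_of_subsingleton
  have hlen : ∀ m : MaximalSpectrum C, Module.length A (C ⧸ m.asIdeal) = 1 := fun m => by
    refine le_antisymm ?_ (hone m)
    have h1 := hP.symm.trans hPeq
    rw [← Finset.add_sum_erase _ _ (Finset.mem_univ m)] at h1
    have h2 : ((Finset.univ.erase m).card : ℕ∞) ≤ ∑ i ∈ Finset.univ.erase m, Module.length A (C ⧸ i.asIdeal) := by
      calc ((Finset.univ.erase m).card : ℕ∞) = ∑ _i ∈ Finset.univ.erase m, (1 : ℕ∞) := by simp
        _ ≤ _ := Finset.sum_le_sum fun i _ => hone i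
    have h3 : Module.length A (C ⧸ m.asIdeal) + ((Finset.univ.erase m).card : ℕ∞) ≤
        1 + ((Finset.univ.erase m).card : ℕ∞) := by
      refine (add_le_add le_rfl h2).trans (h1.le.trans ?_)
      rw [← Finset.card_univ, ← Finset.card_erase_add_one (Finset.mem_univ m), Nat.cast_add, Nat.cast_one, add_comm]
    exact (ENat.add_le_add_iff_right (ENat.coe_ne_top _)).mp h3
  have hsurj : ∀ (m : MaximalSpectrum C) (x : C), ∃ a : A, x - algebraMap A C a ∈ m.asIdeal := fun m x => by
    haveI : IsSimpleModule A (C ⧸ m.asIdeal) := Module.length_eq_one_iff.mp (hlen m)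
    haveI : Nontrivial (C ⧸ m.asIdeal) := Ideal.Quotient.nontrivial_iff.mpr m.isMaximal.ne_top
    rcases eq_bot_or_eq_top (LinearMap.range (Algebra.linearMap A (C ⧸ m.asIdeal))) with h | h
    · exact absurd ((Submodule.eq_bot_iff _).mp h 1 ⟨1, map_one (algebraMap A (C ⧸ m.asIdeal))⟩) one_ne_zero
    · obtain ⟨a, ha⟩ := h.ge (Submodule.mem_top (x := Ideal.Quotient.mk m.asIdeal x))
      refine ⟨a, Ideal.Quotient.eq.mp ?_⟩
      exact ha.symm
  refine ⟨fun m' => ⟨?_, fun y => ?_⟩, fun a' ⟨a, ha⟩ => ?_⟩
  · haveI := m'.isMaximal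
    obtain ⟨hdom, hic⟩ := Groth.L22.Norm.isDomain_isIntegrallyClosed_localization A m'.asIdeal
    haveI : IsNoetherianRing (Localization.AtPrime m'.asIdeal) :=
      IsLocalization.isNoetherianRing m'.asIdeal.primeCompl _ ‹_›
    refine Groth.L06.NormDVR.isDVR_of_dim_one ?_
    have hdimC : ringKrullDim C = 1 :=
      (Groth.L22.AffineDim.ringKrullDim_eq_of_isIntegral (R := A) hinjC).trans hdim
    rw [IsLocalization.AtPrime.ringKrullDim_eq_height m'.asIdeal (Localization.AtPrime m'.asIdeal)]
    refine le_antisymm (hdimC ▸ Ideal.height_le_ringKrullDim_of_ne_top m'.isMaximal.ne_top) ?_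
    have hpos : m'.asIdeal.height ≠ 0 := fun h0 => by
      rw [Ideal.height_eq_zero_iff] at h0
      obtain ⟨s, hs, hsn⟩ : ∃ s ∈ IsLocalRing.maximalIdeal A, s ∈ nonZeroDivisors A := by
        by_contra hc
        push Not at hc
        have hsub : (IsLocalRing.maximalIdeal A : Set A) ⊆ ⋃ P ∈ hminfin.toFinset, (P : Set A) := fun x hx => by
          by_contra hx'
          refine hc x hx (Groth.L06.NorLocusFinite.mem_nonZeroDivisors_of_forall fun P hP hxP => hx' ?_)
          exact Set.mem_iUnion₂.mpr ⟨P, hminfin.mem_toFinset.mpr hP, hxP⟩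
        obtain ⟨P, hP, hle⟩ := (Ideal.subset_union_prime (s := hminfin.toFinset) (f := id) ⊥ ⊥
          (fun P hP _ _ => (hminfin.mem_toFinset.mp hP).1.1)).mp hsub
        rw [Set.Finite.mem_toFinset] at hP
        have hPm : P = IsLocalRing.maximalIdeal A :=
          le_antisymm (IsLocalRing.le_maximalIdeal hP.1.1.ne_top) hle
        have h0A : (IsLocalRing.maximalIdeal A).height = 0 := Ideal.height_eq_zero_iff.mpr (hPm ▸ hP)
        rw [← IsLocalRing.maximalIdeal_height_eq_ringKrullDim, h0A] at hdim
        exact zero_ne_one hdim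
      have hsC : algebraMap A C s ∈ nonZeroDivisors C := by
        refine mem_nonZeroDivisors_iff_right.mpr fun z hz => Subtype.ext ?_
        have h1 : z.1 * algebraMap A (FractionRing A) s = 0 := congrArg Subtype.val hz
        exact (IsLocalization.map_units (FractionRing A) (⟨s, hsn⟩ : nonZeroDivisors A)).mul_left_eq_zero.mp h1
      exact Set.disjoint_left.mp (Ideal.disjoint_nonZeroDivisors_of_mem_minimalPrimes h0)
        (show algebraMap A C s ∈ m'.asIdeal from (hlie m').ge hs) hsC
    exact WithBot.coe_le_coe.mpr (Order.one_le_iff_pos.mpr (pos_iff_ne_zero.mpr hpos))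
  · haveI := m'.isMaximal
    obtain ⟨y, rfl⟩ := IsLocalRing.residue_surjective y
    obtain ⟨x, s, rfl⟩ := IsLocalization.exists_mk'_eq m'.asIdeal.primeCompl y
    obtain ⟨a, ha⟩ := hsurj m' x
    obtain ⟨b, hb⟩ := hsurj m' s
    have hbu : IsUnit b := by
      by_contra hbn
      have h1 : algebraMap A C b ∈ m'.asIdeal := (hlie m').ge hbn
      exact s.2 (by simpa using add_mem hb h1)
    refine ⟨a * ↑hbu.unit⁻¹, ?_⟩
    show IsLocalRing.residue _ (algebraMap C _ (algebraMap A C _)) = _
    refine Ideal.Quotient.eq.mpr ?_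
    refine (Ideal.unit_mul_mem_iff_mem _ (IsLocalization.map_units (Localization.AtPrime m'.asIdeal) s)).mp ?_
    rw [mul_comm, sub_mul, IsLocalization.mk'_spec, ← map_mul, ← map_sub]
    refine (IsLocalization.AtPrime.to_map_mem_maximal_iff (Localization.AtPrime m'.asIdeal) m'.asIdeal _).mpr ?_
    have h2 : algebraMap A C (a * ↑hbu.unit⁻¹) * (s : C) - x =
        algebraMap A C (a * ↑hbu.unit⁻¹) * ((s : C) - algebraMap A C b) - (x - algebraMap A C a) := by
      rw [mul_sub, ← map_mul _ _ b, mul_assoc a, IsUnit.val_inv_mul, mul_one]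
      ring
    rw [h2]
    exact sub_mem (Ideal.mul_mem_left _ _ hb) ha
  · have h0 : q (Submodule.Quotient.mk (a' - algebraMap A C a)) = 0 := by
      show Submodule.Quotient.mk (Φ (a' - algebraMap A C a)) = 0
      rw [show Φ (a' - algebraMap A C a) = 0 from funext fun m => Ideal.Quotient.eq_zero_iff_mem.mpr (ha m),
        Submodule.Quotient.mk_zero]
    have h1 : (Submodule.Quotient.mk (a' - algebraMap A C a) : C ⧸ R₁) = 0 :=
      LinearMap.ker_eq_bot'.mp hker _ h0
    obtain ⟨b, hb⟩ := (Submodule.Quotient.mk_eq_zero _).mp h1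
    exact ⟨b + a, by rw [map_add, ← eq_sub_iff_add_eq]; exact hb⟩

theorem main [IsLocalRing A] [IsSepClosed (IsLocalRing.ResidueField A)] [IsReduced A] (hN : CAlg.IsNagata A)
    (hdim : ringKrullDim A = 1) (heq : Curv2.deltaInv A + 1 = Brnch.numGeomBranches A) :
    (∀ m' : MaximalSpectrum ↥(integralClosure A (FractionRing A)),
        (∃ _ : IsDomain (Localization.AtPrime m'.asIdeal), IsDiscreteValuationRing (Localization.AtPrime m'.asIdeal)) ∧
        Function.Surjective (⇑(IsLocalRing.residue (Localization.AtPrime m'.asIdeal)) ∘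
          ⇑(algebraMap ↥(integralClosure A (FractionRing A)) (Localization.AtPrime m'.asIdeal)) ∘
          ⇑(algebraMap A ↥(integralClosure A (FractionRing A))))) ∧
    ∀ a' : ↥(integralClosure A (FractionRing A)),
      (∃ a : A, ∀ m' : MaximalSpectrum ↥(integralClosure A (FractionRing A)),
          a' - algebraMap A _ a ∈ m'.asIdeal) →
      a' ∈ (algebraMap A ↥(integralClosure A (FractionRing A))).range := by
  haveI : IsNoetherianRing A := hN.1
  refine main_of_le A hN hdim ?_
  rw [heq]
  exact numGeomBranches_le_card A ((⊥ : Ideal A).finite_minimalPrimes_of_isNoetherianRing A)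

end Groth.L06.WedgeDVR

end
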