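import Groth.Agent.L06.FormSmoothGeom
import Groth.Agent.L01.CompletionReg
import Groth.Agent.L01.CohenRing
import Groth.Agent.L01.PowSerReg
import Mathlib.RingTheory.Smooth.AdicCompletion

/-! Completion of a regular equicharacteristic local ring is a power series ring over a coefficient field. -/

set_option autoImplicit false
set_option maxSynthPendingDepth 3
set_option linter.style.haveILetI false
universe u

namespace Groth.L06.FormSmooth

open IsLocalRing

/-- a surjection between noetherian local domains of equal dimension is injective -/
theorem injective_of_surjective_of_dim {B R : Type u} [CommRing B] [IsLocalRing B] [IsNoetherianRing B] [IsDomain B]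
    [CommRing R] (φ : B →+* R) (hφ : Function.Surjective φ) (hd : ringKrullDim R = ringKrullDim B) :
    Function.Injective φ := by
  refine (injective_iff_map_eq_zero φ).mpr fun b hb => by_contra fun hb0 => ?_
  have h1 : ringKrullDim R ≤ ringKrullDim (B ⧸ Ideal.span {b}) :=
    ringKrullDim_le_of_surjective (Ideal.Quotient.lift _ φ fun z hz => by
      obtain ⟨w, rfl⟩ := Ideal.mem_span_singleton.mp hz
      rw [map_mul, hb, zero_mul]) (Ideal.Quotient.lift_surjective_of_surjective _ _ hφ)
  have h2 := ringKrullDim_quotient_succ_le_of_nonZeroDivisor (mem_nonZeroDivisors_of_ne_zero hb0)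
  have h3 : ringKrullDim B + 1 ≤ ringKrullDim B := by
    rw [hd] at h1
    exact le_trans (add_le_add h1 le_rfl) h2
  obtain ⟨d, hd'⟩ := Groth.L01.exists_dim_eq_nat (R := B)
  rw [hd', ← Nat.cast_one, ← Nat.cast_add] at h3
  exact absurd (Nat.cast_le.mp h3) (by omega)

/-- a coefficient field makes a complete regular local ring a power series ring -/
theorem exists_powerSeries_equiv {R K : Type u} [CommRing R] [IsRegularLocalRing R] [IsAdicComplete (maximalIdeal R) R]
    [Field K] (F : K →+* R) (hF : Function.Surjective ((residue R).comp F)) :
    ∃ (n : ℕ) (e : MvPowerSeries (Fin n) K ≃+* R), ∀ c, e (MvPowerSeries.C c) = F c := by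
  obtain ⟨d, x, hd, hx, -⟩ := Groth.L07.Order.exists_regular_parameters R
  obtain ⟨φ, hC, -, hs⟩ := Groth.L01.Cohen.exists_surjective_powerSeries F hF x hx
  haveI : IsRegularLocalRing (MvPowerSeries (Fin d) K) := Groth.L01.PowSerReg.isRegularLocalRing K d
  haveI := Groth.L01.isDomain_of_regular (MvPowerSeries (Fin d) K)
  refine ⟨d, RingEquiv.ofBijective φ ⟨injective_of_surjective_of_dim φ hs ?_, hs⟩, fun c => RingHom.congr_fun hC c⟩
  rw [Groth.L01.PowSerReg.ringKrullDim_eq K d]
  exact hd

/-- `k`-compatible coefficient field of a complete local algebra with formally smooth residue field -/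
theorem exists_coefficient_algHom {k R : Type u} [CommRing k] [CommRing R] [IsLocalRing R] [Algebra k R]
    [IsAdicComplete (maximalIdeal R) R] [Algebra.FormallySmooth k (ResidueField R)] :
    ∃ F : ResidueField R →ₐ[k] R, ∀ c, residue R (F c) = c := by
  obtain ⟨F, hF⟩ := Algebra.FormallySmooth.exists_mkₐ_comp_eq_of_isAdicComplete (I := maximalIdeal R) (AlgHom.id k (ResidueField R))
  exact ⟨F, fun c => DFunLike.congr_fun hF c⟩

/-- the completion of a regular local algebra with formally smooth residue field is a power series ring -/
theorem exists_completion_equiv {k A : Type u} [CommRing k] [CommRing A] [Algebra k A] [IsRegularLocalRing A]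
    [Algebra.FormallySmooth k (ResidueField A)] :
    ∃ (n : ℕ) (e : AdicCompletion (maximalIdeal A) A ≃+* MvPowerSeries (Fin n) (ResidueField A)),
      ∀ x : k, e (algebraMap A (AdicCompletion (maximalIdeal A) A) (algebraMap k A x)) =
        algebraMap (ResidueField A) (MvPowerSeries (Fin n) (ResidueField A)) (algebraMap k (ResidueField A) x) := by
  let R := AdicCompletion (maximalIdeal A) A
  haveI : IsRegularLocalRing R := (Groth.L01.CompletionReg.isRegularLocalRing_iff_completion A).mp inferInstance
  let g : ResidueField A →+* ResidueField R := ResidueField.map (algebraMap A R)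
  have hg : Function.Bijective g := AdicCompletion.residueField_map_bijective A
  let e0 := RingEquiv.ofBijective g hg
  let e1 : ResidueField A ≃ₐ[k] ResidueField R := AlgEquiv.ofRingEquiv (f := e0) fun x => by
    show g (residue A (algebraMap k A x)) = residue R (algebraMap k R x)
    rfl
  haveI : Algebra.FormallySmooth k (ResidueField R) := Algebra.FormallySmooth.of_equiv e1
  obtain ⟨F, hF⟩ := exists_coefficient_algHom (k := k) (R := R)
  obtain ⟨n, e, he⟩ := exists_powerSeries_equiv (F.toRingHom.comp e0.toRingHom)
    (fun y => ⟨e0.symm y, by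
      show residue R (F (e0 (e0.symm y))) = y
      rw [e0.apply_symm_apply, hF]⟩)
  refine ⟨n, e.symm, fun x => e.injective ?_⟩
  rw [e.apply_symm_apply, MvPowerSeries.algebraMap_apply, Algebra.algebraMap_self, RingHom.id_apply, he]
  exact ((congrArg F (e1.commutes x)).trans (F.commutes x)).symm

end Groth.L06.FormSmooth
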