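import Groth.Agent.L18.KerReduced
import Mathlib.AlgebraicGeometry.Morphisms.Immersion
import Mathlib.AlgebraicGeometry.Morphisms.SchemeTheoreticallyDominant

/-!
# The scheme theoretic image of an immersion
-/

set_option autoImplicit false
set_option maxSynthPendingDepth 3
set_option linter.style.haveILetI false
set_option backward.isDefEq.respectTransparency.types false
set_option backward.isDefEq.respectTransparency false

universe u

open CategoryTheory CategoryTheory.Limits AlgebraicGeometry TopologicalSpace

namespace Groth.L06.ImmImage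

variable {Z X : Scheme.{u}} (h : Z ⟶ X)

theorem toImage_ker_eq_bot [QuasiCompact h] : IsSchemeTheoreticallyDominant h.toImage := by
  refine ⟨Scheme.IdealSheafData.ext_of_iSup_eq_top
    (fun U : X.affineOpens => ⟨h.imageι ⁻¹ᵁ U.1, U.2.preimage h.imageι⟩)
    (by rw [← Scheme.Hom.preimage_iSup, iSup_affineOpens_eq_top, Scheme.Hom.preimage_top]) fun U => ?_⟩
  simp only [Scheme.Hom.ker_apply, Scheme.IdealSheafData.ideal_bot, Pi.bot_apply]
  exact (RingHom.injective_iff_ker_eq_bot _).1 (h.toImage_app_injective U)

theorem ker_eq_vanishingIdeal [IsReduced Z] :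
    h.ker = Scheme.IdealSheafData.vanishingIdeal h.ker.support := by
  refine le_antisymm (Scheme.IdealSheafData.le_support_iff_le_vanishingIdeal.1 le_rfl) ?_
  refine Scheme.IdealSheafData.le_ofIdeals_iff.2 fun V s hs => ?_
  rw [RingHom.mem_ker, ← basicOpen_eq_bot_iff, ← Scheme.preimage_basicOpen, eq_bot_iff]
  intro z hz
  replace hz : h z ∈ X.basicOpen s := hz
  have hzV : h z ∈ (V : X.Opens) := X.basicOpen_le s hz
  obtain ⟨q, hq⟩ : h z ∈ Set.range V.2.fromSpec := by rw [V.2.range_fromSpec]; exact hzV
  have h1 : q ∈ PrimeSpectrum.basicOpen s := by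
    have : q ∈ V.2.fromSpec ⁻¹ᵁ X.basicOpen s := by
      show V.2.fromSpec q ∈ X.basicOpen s
      rw [hq]; exact hz
    rwa [V.2.fromSpec_preimage_basicOpen] at this
  exact (h1 ((PrimeSpectrum.mem_vanishingIdeal _ _).1 hs q (by
    show V.2.fromSpec q ∈ (h.ker.support : Set X)
    rw [hq]; exact h.range_subset_ker_support ⟨z, rfl⟩))).elim

theorem isReduced_image [IsReduced Z] : IsReduced h.image := by
  show IsReduced h.ker.subscheme
  rw [ker_eq_vanishingIdeal h]
  exact Groth.L18.isReduced_vanishingIdeal_subscheme _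

theorem denseRange_toImage_of_reduced [IsReduced Z] : DenseRange h.toImage := by
  let C : Closeds X := ⟨closure (Set.range h), isClosed_closure⟩
  have hle : Scheme.IdealSheafData.vanishingIdeal C ≤ h.ker := by
    refine Scheme.IdealSheafData.le_ofIdeals_iff.2 fun V s hs => ?_
    rw [RingHom.mem_ker, ← basicOpen_eq_bot_iff, ← Scheme.preimage_basicOpen, eq_bot_iff]
    intro z hz
    replace hz : h z ∈ X.basicOpen s := hz
    have hzV : h z ∈ (V : X.Opens) := X.basicOpen_le s hz
    obtain ⟨q, hq⟩ : h z ∈ Set.range V.2.fromSpec := by rw [V.2.range_fromSpec]; exact hzV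
    have h1 : q ∈ PrimeSpectrum.basicOpen s := by
      have : q ∈ V.2.fromSpec ⁻¹ᵁ X.basicOpen s := by
        show V.2.fromSpec q ∈ X.basicOpen s
        rw [hq]; exact hz
      rwa [V.2.fromSpec_preimage_basicOpen] at this
    exact (h1 ((PrimeSpectrum.mem_vanishingIdeal _ _).1 hs q (by
      show V.2.fromSpec q ∈ (C : Set X)
      rw [hq]; exact subset_closure ⟨z, rfl⟩))).elim
  rw [denseRange_iff_closure_range, h.imageι.isEmbedding.closure_eq_preimage_closure_image,
    ← Set.univ_subset_iff, ← Set.image_subset_iff, Set.image_univ, ← Set.range_comp,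
    ← TopCat.coe_comp, ← Scheme.Hom.comp_base, h.toImage_imageι,
    Scheme.IdealSheafData.range_subschemeι]
  intro x hx
  have := Scheme.IdealSheafData.support_antitone hle hx
  rw [← SetLike.mem_coe, Scheme.IdealSheafData.coe_support_vanishingIdeal] at this
  exact this

theorem isOpenImmersion_toImage_of_reduced [IsImmersion h] [IsReduced Z] :
    IsOpenImmersion h.toImage := by
  haveI := isReduced_image h
  haveI : IsDominant h.toImage := ⟨denseRange_toImage_of_reduced h⟩
  let k := h.toImage.liftCoborder
  have hs : (k.ker.support : Set h.toImage.coborderRange) = Set.univ := by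
    refine Set.eq_univ_of_forall fun x => k.range_subset_ker_support ?_
    have hx : (x.1 : h.image) ∈ coborder (Set.range h.toImage) := x.2
    rw [coborder_eq_union_closure_compl, h.toImage.denseRange.closure_eq, Set.compl_univ,
      Set.union_empty] at hx
    obtain ⟨z, hz⟩ := hx
    refine ⟨z, h.toImage.coborderRange.ι.isOpenEmbedding.injective ?_⟩
    rw [← Scheme.Hom.comp_apply, Scheme.Hom.liftCoborder_ι]
    exact hz
  haveI : IsIso k := IsClosedImmersion.isIso_iff_ker_eq_bot.2
    (Scheme.IdealSheafData.support_eq_top_iff.1 (TopologicalSpace.Closeds.ext hs))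
  rw [← h.toImage.liftCoborder_ι]
  infer_instance

theorem main [IsImmersion h] (hyp : QuasiCompact h ∨ IsReduced Z) :
    ∃ hI : IsOpenImmersion h.toImage,
      (∀ W : h.image.Opens, IsSchemeTheoreticallyDominant
          (h.image.homOfLE (inf_le_right : @Scheme.Hom.opensRange _ _ h.toImage hI ⊓ W ≤ W))) ∧
        DenseRange h.toImage.base := by
  rcases hyp with hq | hr
  · haveI : IsOpenImmersion h.toImage := inferInstance
    haveI := toImage_ker_eq_bot h
    refine ⟨inferInstance, fun W => ?_, h.toImage.denseRange⟩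
    have e : h.toImage.opensRange.ι = h.toImage.isoOpensRange.inv ≫ h.toImage :=
      (Iso.eq_inv_comp _).2 (Scheme.Hom.isoOpensRange_hom_ι h.toImage)
    haveI : IsSchemeTheoreticallyDominant h.toImage.opensRange.ι := by rw [e]; infer_instance
    haveI : QuasiCompact h.toImage.opensRange.ι := by rw [e]; infer_instance
    exact IsSchemeTheoreticallyDominant.of_isPullback (isPullback_opens_inf h.toImage.opensRange W)
  · haveI := isOpenImmersion_toImage_of_reduced h
    haveI := isReduced_image h
    have hd := denseRange_toImage_of_reduced h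
    refine ⟨inferInstance, fun W => ?_, hd⟩
    haveI : IsDominant (h.image.homOfLE (inf_le_right : h.toImage.opensRange ⊓ W ≤ W)) := by
      refine ⟨fun w => mem_closure_iff.2 fun O hO hwO => ?_⟩
      obtain ⟨x, ⟨y, hyO, rfl⟩, hxU⟩ := Dense.inter_open_nonempty (s := Set.range h.toImage) hd _
        (W.ι.isOpenEmbedding.isOpenMap _ hO) ⟨_, w, hwO, rfl⟩
      refine ⟨y, hyO, ⟨W.ι y, hxU, y.2⟩, W.ι.isOpenEmbedding.injective ?_⟩
      rw [← Scheme.Hom.comp_apply, Scheme.homOfLE_ι]
      rfl
    exact IsSchemeTheoreticallyDominant.of_isDominant _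

end Groth.L06.ImmImage
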