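import Groth.Agent.L18.DominatingDVR
import Mathlib.RingTheory.Polynomial.ScaleRoots
import Mathlib.RingTheory.Ideal.AssociatedPrime.Finiteness
import Mathlib.RingTheory.LinearDisjoint
import Mathlib.RingTheory.TensorProduct.Quotient
import Mathlib.LinearAlgebra.TensorProduct.Finiteness
import Mathlib.LinearAlgebra.TensorProduct.Pi
import Mathlib.RingTheory.Flat.Basic
import Mathlib.RingTheory.IntegralClosure.IntegrallyClosed
import Mathlib.RingTheory.Adjoin.FG

/-! Flat base change of integral closedness with reduced residue fibres. -/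

set_option autoImplicit false
set_option maxSynthPendingDepth 3
set_option linter.style.haveILetI false
noncomputable section
universe u
open Polynomial TensorProduct

namespace Groth.L06.NormalTensor

theorem exists_finset_jointly_injective {C F : Type u} [CommRing C] [IsNoetherianRing C] [AddCommGroup F] [Module C F]
    [Module.Finite C F] {ι : Type u} {G : ι → Type u} [∀ i, AddCommGroup (G i)] [∀ i, Module C (G i)]
    (φ : ∀ i, F →ₗ[C] G i)
    (h : ∀ (p : Ideal C), p.IsPrime → ∀ z : F, (∀ u ∉ p, u • z ≠ 0) → ∃ i, ∀ u ∉ p, φ i (u • z) ≠ 0) :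
    ∃ s : Finset ι, ∀ z, (∀ i ∈ s, φ i z = 0) → z = 0 := by
  classical
  have key : ∀ p : Ideal C, p.IsPrime → ∃ s : Finset ι, ∀ z : F, (∀ a ∈ p, a • z = 0) → (∀ i ∈ s, φ i z = 0) →
      ∃ u ∉ p, u • z = 0 := by
    intro p hp
    let P : Set (Submodule C F) := {N | (∀ n ∈ N, ∀ a ∈ p, a • n = 0) ∧ ∃ s : Finset ι, ∀ n ∈ N, (∀ i ∈ s, φ i n = 0) → ∃ u ∉ p, u • n = 0}
    obtain ⟨N, ⟨hN1, s, hs⟩, hmax⟩ := set_has_maximal_iff_noetherian.mpr (inferInstance : IsNoetherian C F) P
      ⟨⊥, fun n hn a _ => by rw [(Submodule.mem_bot C).mp hn, smul_zero],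
        ∅, fun n hn _ => ⟨1, (Ideal.ne_top_iff_one p).mp hp.ne_top, by rw [(Submodule.mem_bot C).mp hn, smul_zero]⟩⟩
    refine ⟨s, fun z hz hzs => ?_⟩
    by_contra hne
    push Not at hne
    obtain ⟨i, hi⟩ := h p hp z hne
    refine hmax (N ⊔ C ∙ z) ⟨fun n hn a ha => ?_, insert i s, fun n hn hns => ?_⟩ (lt_of_le_of_ne le_sup_left fun heq => ?_)
    · obtain ⟨m, hm, w, hw, rfl⟩ := Submodule.mem_sup.mp hn
      obtain ⟨c, rfl⟩ := Submodule.mem_span_singleton.mp hw
      rw [smul_add, hN1 m hm a ha, smul_comm, hz a ha, smul_zero, add_zero]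
    · obtain ⟨m, hm, w, hw, rfl⟩ := Submodule.mem_sup.mp hn
      obtain ⟨c, rfl⟩ := Submodule.mem_span_singleton.mp hw
      obtain ⟨u, hu, hum⟩ := hs m hm fun j hj => by
        simpa [map_add, map_smul, hzs j hj] using hns j (Finset.mem_insert_of_mem hj)
      have hc : c ∈ p := by
        by_contra hc
        refine hi (u * c) (fun hh => (hp.mem_or_mem hh).elim hu hc) ?_
        have h1 := congrArg (u • ·) (hns i (Finset.mem_insert_self i s))
        simp only [smul_zero, ← map_smul, smul_add, hum, zero_add, smul_smul] at h1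
        exact h1
      exact ⟨u, hu, by rw [smul_add, hum, hz c hc, smul_zero, add_zero]⟩
    · obtain ⟨u, hu, huz⟩ := hs z (heq ▸ Submodule.mem_sup_right (Submodule.mem_span_singleton_self z)) hzs
      exact hne u hu huz
  choose S hS using key
  refine ⟨(associatedPrimes.finite C F).toFinset.biUnion fun p => if hp : p.IsPrime then S p hp else ∅, fun z hz => ?_⟩
  by_contra hz0
  obtain ⟨P, hP, -⟩ := exists_le_isAssociatedPrime_of_isNoetherianRing C (⟨z, Submodule.mem_span_singleton_self z⟩ : C ∙ z)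
    (fun h0 => hz0 (congrArg Subtype.val h0))
  have hPF : P ∈ associatedPrimes C F := hP.map_of_injective (C ∙ z).subtype (Submodule.injective_subtype _)
  obtain ⟨hPp, ⟨w, hw⟩, hwP⟩ := isAssociatedPrime_iff.mp hP
  obtain ⟨c, rfl⟩ := Submodule.mem_span_singleton.mp hw
  have hmem : ∀ a, a ∈ P ↔ a • (c • z) = 0 := fun a => by
    rw [hwP, Submodule.mem_colon_singleton, Submodule.mem_bot]
    exact ⟨fun h => congrArg Subtype.val h, fun h => Subtype.ext h⟩
  obtain ⟨u, hu, huz⟩ := hS P hPp (c • z) (fun a ha => (hmem a).mp ha) fun i hi => by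
    rw [map_smul, hz i (Finset.mem_biUnion.mpr ⟨P, (Set.Finite.mem_toFinset _).mpr hPF, by rw [dif_pos hPp]; exact hi⟩), smul_zero]
  exact hu ((hmem u).mpr huz)

/-- descent along a uniformiser with reduced residue ring -/
theorem mem_span_pow_of_root {M : Type u} [CommRing M] (π : M) (hπ : ∀ x, π * x = 0 → x = 0)
    [IsReduced (M ⧸ Ideal.span {π})] (p : M[X]) (hp : p.Monic) (y : M) (m : ℕ)
    (h : (p.scaleRoots (π ^ m)).eval y = 0) : y ∈ Ideal.span {π ^ m} := by
  rcases subsingleton_or_nontrivial M with hM | hM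
  · rw [Subsingleton.elim y 0]; exact zero_mem _
  suffices key : ∀ j ≤ m, y ∈ Ideal.span {π ^ j} from key m le_rfl
  intro j
  induction j with
  | zero => exact fun _ => by simp
  | succ j ih =>
    intro hj
    obtain ⟨z, rfl⟩ := Ideal.mem_span_singleton'.mp (ih (Nat.le_of_succ_le hj))
    have hπj : ∀ x, π ^ (j * p.natDegree) * x = 0 → x = 0 := by
      generalize j * p.natDegree = e
      induction e with
      | zero => intro x hx; rwa [pow_zero, one_mul] at hx
      | succ e ihe => intro x hx; exact ihe x (hπ _ (by rwa [pow_succ', mul_assoc] at hx))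
    have hz : (p.scaleRoots (π ^ (m - j))).eval z = 0 := by
      refine hπj _ ?_
      rw [show π ^ m = π ^ (m - j) * π ^ j by rw [← pow_add, Nat.sub_add_cancel (Nat.le_of_succ_le hj)], scaleRoots_mul,
        mul_comm z, ← eval₂_id, show π ^ j * z = RingHom.id M (π ^ j) * z from rfl, scaleRoots_eval₂_mul (RingHom.id M),
        natDegree_scaleRoots, eval₂_id, RingHom.id_apply, ← pow_mul] at h
      exact h
    let q := Ideal.Quotient.mk (Ideal.span {π})
    rcases subsingleton_or_nontrivial (M ⧸ Ideal.span {π}) with hQ | hQ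
    · have htop := Ideal.Quotient.subsingleton_iff.mp hQ
      obtain ⟨r, hr⟩ := Ideal.mem_span_singleton'.mp (htop ▸ Submodule.mem_top : z ∈ Ideal.span {π})
      exact Ideal.mem_span_singleton'.mpr ⟨r, by rw [pow_succ', ← hr]; ring⟩
    · have h1 := congrArg q hz
      rw [map_zero, ← eval₂_at_apply, ← eval_map, map_scaleRoots _ _ _ (by rw [hp, map_one]; exact one_ne_zero), map_pow,
        show q π = 0 from Ideal.Quotient.eq_zero_iff_mem.mpr (Ideal.mem_span_singleton_self π),
        zero_pow (by omega : m - j ≠ 0), scaleRoots_zero, (hp.map q).leadingCoeff, one_smul, eval_pow, eval_X] at h1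
      obtain ⟨r, hr⟩ := Ideal.mem_span_singleton'.mp (Ideal.Quotient.eq_zero_iff_mem.mp (eq_zero_of_pow_eq_zero h1))
      exact Ideal.mem_span_singleton'.mpr ⟨r, by rw [pow_succ', ← hr]; ring⟩

theorem exists_dvr_of_not_isIntegral {C L : Type u} [CommRing C] [IsDomain C] [IsNoetherianRing C] [Field L] [Algebra C L]
    [IsFractionRing C L] (p : Ideal C) [p.IsPrime] (x : L)
    (hx : ∀ u ∉ p, ¬ IsIntegral C (algebraMap C L u * x)) :
    ∃ V : ValuationSubring L, IsDiscreteValuationRing V ∧ (∀ c, algebraMap C L c ∈ V) ∧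
      ∀ u ∉ p, algebraMap C L u * x ∉ V := by
  let Cp := Localization.AtPrime p
  have hunit : ∀ u : p.primeCompl, IsUnit (algebraMap C L u) := fun u => isUnit_iff_ne_zero.mpr
    ((map_ne_zero_iff _ (IsFractionRing.injective C L)).mpr fun h => u.2 (show (u : C) ∈ p by rw [h]; exact p.zero_mem))
  let g : Cp →+* L := IsLocalization.lift hunit
  letI : Algebra Cp L := g.toAlgebra
  haveI : IsScalarTower C Cp L := IsScalarTower.of_algebraMap_eq fun c => (IsLocalization.lift_eq hunit c).symm
  have hxint : ¬ IsIntegral Cp x := fun h => by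
    obtain ⟨⟨u, hu⟩, hux⟩ := IsIntegral.exists_multiple_integral_of_isLocalization p.primeCompl x h
    rw [Submonoid.smul_def, Algebra.smul_def] at hux
    exact hx u hu hux
  obtain ⟨V, hV, hxV⟩ : ∃ V : ValuationSubring L, (∀ a, algebraMap Cp L a ∈ V) ∧ x ∉ V := by
    by_contra hne
    push Not at hne
    have hmem : x ∈ (⨅ V : {V : ValuationSubring L // Set.range (algebraMap Cp L) ⊆ V.toSubring}, V.1.toSubring) :=
      Subring.mem_iInf.mpr fun V => hne V.1 fun a => V.2 ⟨a, rfl⟩
    rw [iInf_valuationSubring_superset] at hmem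
    obtain ⟨q, hq, hqx⟩ := (hmem : IsIntegral (Subring.closure (Set.range (algebraMap Cp L))) x)
    refine hxint ?_
    have hle : Subring.closure (Set.range (algebraMap Cp L)) ≤ (algebraMap Cp L).range := Subring.closure_le.mpr subset_rfl
    have hlift : q.map (Subring.subtype _) ∈ lifts (algebraMap Cp L) := (lifts_iff_coeff_lifts _).mpr fun i => by
      rw [coeff_map]; exact hle (q.coeff i).2
    obtain ⟨q', hq', -, hq'm⟩ := lifts_and_natDegree_eq_and_monic hlift (hq.map _)
    exact ⟨q', hq'm, by rw [← eval_map, hq', eval_map]; exact hqx⟩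
  let f : Cp[X] →+* L := eval₂RingHom g x⁻¹
  letI : Algebra Cp[X] L := f.toAlgebra
  have hx0 : x ≠ 0 := fun h => hxV (h ▸ V.zero_mem)
  have hinv : V.valuation x⁻¹ < 1 := by
    rw [map_inv₀, inv_lt_one₀ (zero_lt_iff.mpr (V.valuation.ne_zero_iff.mpr hx0))]
    exact lt_of_not_ge fun h => hxV ((V.valuation_le_one_iff x).mp h)
  have hgen : Subfield.closure (Set.range (algebraMap Cp[X] L) ∪ ∅) = ⊤ := by
    refine eq_top_iff.mpr fun z _ => ?_
    obtain ⟨a, b, -, rfl⟩ := IsFractionRing.div_surjective (A := C) z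
    have hc : ∀ c : C, algebraMap C L c ∈ Subfield.closure (Set.range (algebraMap Cp[X] L) ∪ ∅) := fun c =>
      Subfield.subset_closure (Or.inl ⟨Polynomial.C (algebraMap C Cp c), by
        show f (Polynomial.C _) = _
        rw [coe_eval₂RingHom, eval₂_C]; exact (IsScalarTower.algebraMap_apply C Cp L c).symm⟩)
    exact div_mem (hc a) (hc b)
  obtain ⟨W, hW, hWA, hWp⟩ := Groth.L18.exists_isDiscreteValuationRing_of_le Set.finite_empty hgen
    (Ideal.span {(X : Cp[X])}) V
    (fun a => by
      induction a using Polynomial.induction_on' with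
      | add q q' hq hq' => rw [map_add]; exact add_mem hq hq'
      | monomial i c =>
        show f (monomial i c) ∈ V
        rw [coe_eval₂RingHom, eval₂_monomial]
        exact mul_mem (hV c) (pow_mem ((V.valuation_le_one_iff _).mp hinv.le) i))
    (fun a ha => by
      obtain ⟨r, rfl⟩ := Ideal.mem_span_singleton'.mp ha
      show V.valuation (f (r * X)) < 1
      rw [map_mul, map_mul, show f X = x⁻¹ from eval₂_X _ _]
      refine lt_of_le_of_lt (mul_le_of_le_one_left zero_le ?_) hinv
      refine (V.valuation_le_one_iff _).mpr ?_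
      induction r using Polynomial.induction_on' with
      | add q q' hq hq' =>
        rw [map_add]
        exact add_mem (hq (Ideal.mem_span_singleton'.mpr ⟨q, rfl⟩)) (hq' (Ideal.mem_span_singleton'.mpr ⟨q', rfl⟩))
      | monomial i c =>
        rw [coe_eval₂RingHom, eval₂_monomial]
        exact mul_mem (hV c) (pow_mem ((V.valuation_le_one_iff _).mp hinv.le) i))
    ⟨X, Ideal.mem_span_singleton_self _, by show f X ≠ 0; rw [show f X = x⁻¹ from eval₂_X _ _]; exact inv_ne_zero hx0⟩
  have hcW : ∀ c, algebraMap Cp L c ∈ W := fun c => by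
    have h := hWA (Polynomial.C c)
    rwa [show algebraMap Cp[X] L (Polynomial.C c) = algebraMap Cp L c from eval₂_C _ _] at h
  refine ⟨W, hW, fun c => IsScalarTower.algebraMap_apply C Cp L c ▸ hcW _, fun u hu hux => ?_⟩
  have hxW : x ∈ W := by
    obtain ⟨v, hv⟩ := (IsLocalization.map_units Cp (⟨u, hu⟩ : p.primeCompl)).exists_left_inv
    have := mul_mem (hcW v) hux
    rwa [IsScalarTower.algebraMap_apply C Cp L u, ← mul_assoc, ← map_mul, hv, map_one, one_mul] at this
  have h1 := hWp X (Ideal.mem_span_singleton_self _)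
  rw [show algebraMap Cp[X] L X = x⁻¹ from eval₂_X _ _, map_inv₀,
    inv_lt_one₀ (zero_lt_iff.mpr (W.valuation.ne_zero_iff.mpr hx0))] at h1
  exact absurd ((W.valuation_le_one_iff x).mpr hxW) (not_le.mpr h1)

variable {R : Type u} [CommRing R] (A' : Type u) [CommRing A'] [Algebra R A'] [Module.Flat R A']

/-- the key step over a Noetherian domain -/
theorem key {C : Type u} [CommRing C] [IsDomain C] [IsNoetherianRing C] [Algebra R C] (L : Type u) [Field L]
    [Algebra C L] [IsFractionRing C L]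
    (hred : ∀ (κ : Type u) [Field κ] [Algebra R κ], IsReduced (A' ⊗[R] κ))
    (l : C) (hl : l ≠ 0) (p : (A' ⊗[R] C)[X]) (hp : p.Monic) (y : A' ⊗[R] C)
    (h : (p.scaleRoots (1 ⊗ₜ l)).eval y = 0) :
    ∃ (J : Ideal C) (w : A' ⊗[R] (J.restrictScalars R)), (J.restrictScalars R).subtype.lTensor A' w = y ∧
      ∀ c ∈ J, IsIntegral C (algebraMap C L c / algebraMap C L l) := by
  classical
  let ι := {V : ValuationSubring L // IsDiscreteValuationRing V ∧ ∀ c, algebraMap C L c ∈ V}
  letI algC : ∀ i : ι, Algebra C i.1 := fun i => ((algebraMap C L).codRestrict i.1 i.2.2).toAlgebra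
  letI algR : ∀ i : ι, Algebra R i.1 := fun i => ((algebraMap C i.1).comp (algebraMap R C)).toAlgebra
  haveI : ∀ i : ι, IsScalarTower R C i.1 := fun i => IsScalarTower.of_algebraMap_eq fun _ => rfl
  let Jm : Submodule C C := Submodule.comap ((LinearMap.mulRight C (algebraMap C L l)⁻¹).comp (Algebra.linearMap C L))
    (Subalgebra.toSubmodule (integralClosure C L))
  let J : Ideal C := Jm
  have hJ : ∀ c, c ∈ J ↔ IsIntegral C (algebraMap C L c / algebraMap C L l) := fun c => by
    rw [div_eq_mul_inv]; rfl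
  have hl0 : algebraMap C L l ≠ 0 := (map_ne_zero_iff _ (IsFractionRing.injective C L)).mpr hl
  have hJV : ∀ (i : ι) (c : C), c ∈ J → Ideal.Quotient.mk (Ideal.span {algebraMap C i.1 l}) (algebraMap C i.1 c) = 0 := fun i c hc => by
    obtain ⟨q, hq, hqx⟩ := (hJ c).mp hc
    have hV : algebraMap C L c / algebraMap C L l ∈ i.1 := by
      haveI : IsIntegrallyClosedIn i.1 L := inferInstanceAs (IsIntegrallyClosedIn i.1 L)
      obtain ⟨v, hv⟩ := (IsIntegrallyClosedIn.isIntegral_iff (R := i.1) (A := L)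
        (x := algebraMap C L c / algebraMap C L l)).mp ⟨q.map (algebraMap C i.1), hq.map _, by rw [eval₂_map]; exact hqx⟩
      exact hv ▸ v.2
    refine Ideal.Quotient.eq_zero_iff_mem.mpr (Ideal.mem_span_singleton'.mpr ⟨⟨_, hV⟩, Subtype.ext ?_⟩)
    show algebraMap C L c / algebraMap C L l * algebraMap C L l = algebraMap C L c
    field_simp
  let G : ι → Type u := fun i => i.1 ⧸ Ideal.span {algebraMap C i.1 l}
  let φ : ∀ i, (C ⧸ J) →ₐ[C] G i := fun i =>
    Ideal.Quotient.liftₐ J ((Ideal.Quotient.mkₐ C _).comp (Algebra.ofId C i.1)) (fun c hc => hJV i c hc)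
  obtain ⟨s, hs⟩ := exists_finset_jointly_injective (C := C) (F := C ⧸ J) (G := G) (fun i => (φ i).toLinearMap)
    (fun P hP z hz => by
      obtain ⟨c, rfl⟩ := Ideal.Quotient.mk_surjective z
      haveI := hP
      obtain ⟨V, hV, hCV, hVu⟩ := exists_dvr_of_not_isIntegral P (algebraMap C L c / algebraMap C L l) fun u hu hint => by
        refine hz u hu ((Ideal.Quotient.eq_zero_iff_mem).mpr ((hJ _).mpr ?_))
        show IsIntegral C (algebraMap C L (u * c) / algebraMap C L l)
        rwa [map_mul, mul_div_assoc]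
      refine ⟨⟨V, hV, hCV⟩, fun u hu h0 => hVu u hu ?_⟩
      obtain ⟨v, hv⟩ := Ideal.mem_span_singleton'.mp (Ideal.Quotient.eq_zero_iff_mem.mp h0)
      have h2 : (v : L) * algebraMap C L l = algebraMap C L (u * c) := congrArg Subtype.val hv
      rw [← mul_div_assoc, ← map_mul, ← h2, mul_div_cancel_right₀ _ hl0]
      exact v.2)
  let π : (C ⧸ J) →ₗ[R] ((i : s) → G i.1) := LinearMap.pi fun i => (φ i.1).toLinearMap.restrictScalars R
  have hπ : Function.Injective π := by
    rw [injective_iff_map_eq_zero]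
    exact fun z hz => hs z fun i hi => congrFun hz ⟨i, hi⟩
  let mkJ : C →ₗ[R] C ⧸ J := (Ideal.Quotient.mkₐ R J).toLinearMap
  have hzero : mkJ.lTensor A' y = 0 := by
    refine Module.Flat.lTensor_preserves_injective_linearMap (M := A') π hπ ?_
    rw [map_zero]
    refine (TensorProduct.piRight R R A' fun i : s => G i.1).injective ?_
    rw [map_zero]
    funext i
    have hcomp : ∀ x : A' ⊗[R] C, TensorProduct.piRight R R A' (fun i : s => G i.1) (π.lTensor A' (mkJ.lTensor A' x)) i =
        ((Ideal.Quotient.mkₐ R (Ideal.span {algebraMap C i.1.1 l})).toLinearMap.comp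
          (IsScalarTower.toAlgHom R C i.1.1).toLinearMap).lTensor A' x := by
      intro x
      induction x using TensorProduct.induction_on with
      | zero => simp
      | add a b ha hb => rw [map_add, map_add, map_add, Pi.add_apply, map_add, ha, hb]
      | tmul a c =>
        simp only [LinearMap.lTensor_tmul, TensorProduct.piRight_apply, TensorProduct.piRightHom_tmul]
        rfl
    rw [hcomp, LinearMap.lTensor_comp, LinearMap.comp_apply, Pi.zero_apply]
    -- the statement in `A' ⊗ V`
    let V := i.1.1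
    let ev : A' ⊗[R] C →ₐ[R] A' ⊗[R] V := Algebra.TensorProduct.map (AlgHom.id R A') (IsScalarTower.toAlgHom R C V)
    haveI : IsDiscreteValuationRing V := i.1.2.1
    obtain ⟨ϖ, hϖ⟩ := IsDiscreteValuationRing.exists_irreducible V
    have hlV : algebraMap C V l ≠ 0 := fun h0 => hl0 (congrArg Subtype.val h0)
    obtain ⟨m, hm⟩ := IsDiscreteValuationRing.associated_pow_irreducible hlV hϖ
    obtain ⟨v, hv⟩ := hm
    let π' : A' ⊗[R] V := 1 ⊗ₜ ϖ
    have hreg : ∀ x, π' * x = 0 → x = 0 := fun x hx => by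
      have hinj : Function.Injective (LinearMap.mulLeft R ϖ : V →ₗ[R] V) := fun a b hab =>
        mul_left_cancel₀ hϖ.ne_zero hab
      refine Module.Flat.lTensor_preserves_injective_linearMap (M := A') _ hinj ?_
      rw [map_zero, ← hx]
      clear hx
      induction x using TensorProduct.induction_on with
      | zero => simp
      | add a b ha hb => rw [map_add, mul_add, ha, hb]
      | tmul a b => rw [LinearMap.lTensor_tmul, Algebra.TensorProduct.tmul_mul_tmul, one_mul]; rfl
    haveI : IsReduced ((A' ⊗[R] V) ⧸ Ideal.span {π'}) := by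
      letI : Field (V ⧸ Ideal.span {ϖ}) :=
        haveI : (Ideal.span {ϖ}).IsMaximal := PrincipalIdealRing.isMaximal_of_irreducible hϖ
        Ideal.Quotient.field _
      haveI := hred (V ⧸ Ideal.span {ϖ})
      let g := Algebra.TensorProduct.map (AlgHom.id R A') (Ideal.Quotient.mkₐ R (Ideal.span {ϖ}))
      have hker : RingHom.ker g = Ideal.span {π'} := by
        rw [Algebra.TensorProduct.lTensor_ker _ (Ideal.Quotient.mkₐ_surjective R _)]
        show Ideal.map _ (RingHom.ker (Ideal.Quotient.mkₐ R (Ideal.span {ϖ}))) = _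
        rw [show RingHom.ker (Ideal.Quotient.mkₐ R (Ideal.span {ϖ})) = Ideal.span {ϖ} from Ideal.mk_ker,
          Ideal.map_span, Set.image_singleton]
        rfl
      rw [← hker]
      exact isReduced_of_injective (RingHom.kerLift g.toRingHom) (RingHom.kerLift_injective _)
    let v' : A' ⊗[R] V := (1 : A') ⊗ₜ[R] (v : V)
    let l' : A' ⊗[R] V := (1 : A') ⊗ₜ[R] algebraMap C V l
    have hl' : ev (1 ⊗ₜ l) = l' := rfl
    have hlv : l' * v' = π' ^ m := by
      rw [Algebra.TensorProduct.tmul_mul_tmul, mul_one, Algebra.TensorProduct.tmul_pow, one_pow, hv]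
    have hunit : IsUnit v' := v.isUnit.map (Algebra.TensorProduct.includeRight : V →ₐ[R] A' ⊗[R] V)
    have hroot : ((p.map ev.toRingHom).scaleRoots (π' ^ m)).eval (v' * ev y) = 0 := by
      rcases subsingleton_or_nontrivial (A' ⊗[R] V) with hsub | hnt
      · exact Subsingleton.elim _ _
      have h1 := congrArg ev.toRingHom h
      rw [map_zero, ← eval₂_at_apply, ← eval_map, map_scaleRoots _ _ _ (by rw [hp, map_one]; exact one_ne_zero)] at h1
      rw [← hlv, scaleRoots_mul, ← eval₂_id, show v' * ev y = RingHom.id _ v' * ev y from rfl,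
        scaleRoots_eval₂_mul (RingHom.id _), eval₂_id]
      exact mul_eq_zero_of_right _ h1
    have hspan := mem_span_pow_of_root π' hreg _ (hp.map ev.toRingHom) _ m hroot
    obtain ⟨r, hr⟩ := Ideal.mem_span_singleton'.mp hspan
    have hy : ev y = r * l' := by
      refine hunit.mul_left_cancel (hr.symm.trans ?_)
      rw [← hlv]; ring
    let g' := Algebra.TensorProduct.map (AlgHom.id R A') (Ideal.Quotient.mkₐ R (Ideal.span {algebraMap C i.1.1 l}))
    show g' (ev y) = 0
    rw [hy, map_mul]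
    refine mul_eq_zero_of_right _ ?_
    show g' ((1 : A') ⊗ₜ[R] algebraMap C V l) = 0
    rw [Algebra.TensorProduct.map_tmul]
    show (1 : A') ⊗ₜ[R] Ideal.Quotient.mk (Ideal.span {algebraMap C i.1.1 l}) (algebraMap C V l) = 0
    rw [Ideal.Quotient.eq_zero_iff_mem.mpr (Ideal.mem_span_singleton_self _), tmul_zero]
  have hex : Function.Exact (((J.restrictScalars R).subtype).lTensor A') (mkJ.lTensor A') := by
    refine lTensor_exact A' (fun c => ?_) (Ideal.Quotient.mkₐ_surjective R J)
    show Ideal.Quotient.mk J c = 0 ↔ _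
    rw [Ideal.Quotient.eq_zero_iff_mem]
    simp
  obtain ⟨w, hw⟩ := (hex y).mp hzero
  exact ⟨J, w, hw, fun c hc => (hJ c).mp hc⟩

/-- elements of `A' ⊗ K` integral over `A' ⊗ B` lie in `A' ⊗ B` -/
theorem mem_range_of_isIntegralElem [IsNoetherianRing R]
    (hred : ∀ (κ : Type u) [Field κ] [Algebra R κ], IsReduced (A' ⊗[R] κ))
    (B K : Type u) [CommRing B] [IsDomain B] [IsIntegrallyClosed B] [Algebra R B] [Field K] [Algebra R K] [Algebra B K]
    [IsScalarTower R B K] [IsFractionRing B K] (y : A' ⊗[R] K)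
    (hy : (Algebra.TensorProduct.map (AlgHom.id R A') (IsScalarTower.toAlgHom R B K)).toRingHom.IsIntegralElem y) :
    y ∈ Set.range (Algebra.TensorProduct.map (AlgHom.id R A') (IsScalarTower.toAlgHom R B K)) := by
  classical
  let f := Algebra.TensorProduct.map (AlgHom.id R A') (IsScalarTower.toAlgHom R B K)
  rcases subsingleton_or_nontrivial (A' ⊗[R] K) with hsub | hnt
  · exact ⟨0, Subsingleton.elim _ _⟩
  have hf : Function.Injective f :=
    Module.Flat.lTensor_preserves_injective_linearMap (M := A') (IsScalarTower.toAlgHom R B K).toLinearMap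
      (IsFractionRing.injective B K)
  haveI : Nontrivial (A' ⊗[R] B) := ⟨1, 0, fun h0 => one_ne_zero (α := A' ⊗[R] K) (by rw [← map_one f, h0, map_zero])⟩
  -- common denominator
  obtain ⟨l, hl, y', hy'⟩ : ∃ l : B, l ≠ 0 ∧ ∃ y', f y' = (1 ⊗ₜ algebraMap B K l) * y := by
    clear hy
    induction y using TensorProduct.induction_on with
    | zero => exact ⟨1, one_ne_zero, 0, by rw [map_zero, mul_zero]⟩
    | tmul a z =>
      obtain ⟨c, d, hd, rfl⟩ := IsFractionRing.div_surjective (A := B) z
      refine ⟨d, nonZeroDivisors.ne_zero hd, a ⊗ₜ c, ?_⟩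
      rw [Algebra.TensorProduct.tmul_mul_tmul, one_mul,
        mul_div_cancel₀ _ ((map_ne_zero_iff _ (IsFractionRing.injective B K)).mpr (nonZeroDivisors.ne_zero hd))]
      rfl
    | add a b ha hb =>
      obtain ⟨l₁, h₁, a', ha'⟩ := ha
      obtain ⟨l₂, h₂, b', hb'⟩ := hb
      refine ⟨l₁ * l₂, mul_ne_zero h₁ h₂, (1 ⊗ₜ l₂) * a' + (1 ⊗ₜ l₁) * b', ?_⟩
      have hf1 : ∀ c : B, f (1 ⊗ₜ c) = (1 : A') ⊗ₜ[R] algebraMap B K c := fun c => rfl
      have e : (1 : A') ⊗ₜ[R] algebraMap B K (l₁ * l₂) = ((1 : A') ⊗ₜ[R] algebraMap B K l₁) * (1 ⊗ₜ algebraMap B K l₂) := by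
        rw [Algebra.TensorProduct.tmul_mul_tmul, mul_one, ← map_mul]
      rw [map_add, map_mul, map_mul, ha', hb', e, hf1, hf1]
      ring
  obtain ⟨p, hp, hpy⟩ := hy
  have hrel : (p.scaleRoots (1 ⊗ₜ l)).eval y' = 0 := by
    refine hf ?_
    rw [map_zero]
    show f.toRingHom _ = 0
    rw [← eval₂_at_apply, show f.toRingHom y' = f.toRingHom (1 ⊗ₜ l) * y from hy', scaleRoots_eval₂_mul f.toRingHom]
    exact mul_eq_zero_of_right _ hpy
  -- a finitely generated subalgebra
  obtain ⟨N, hN, hs⟩ := TensorProduct.exists_finite_submodule_right_of_setFinite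
    (↑({y'} ∪ p.support.image p.coeff) : Set (A' ⊗[R] B)) (Finset.finite_toSet _)
  obtain ⟨t, ht⟩ := Module.Finite.iff_fg.mp hN
  let C : Subalgebra R B := Algebra.adjoin R (↑(insert l t) : Set B)
  haveI : Algebra.FiniteType R C := ⟨(Subalgebra.fg_top C).mpr (Subalgebra.fg_adjoin_finset _)⟩
  haveI : IsNoetherianRing C := Algebra.FiniteType.isNoetherianRing R C
  have hNC : N ≤ Subalgebra.toSubmodule C := ht ▸ Submodule.span_le.mpr fun x hx =>
    Algebra.subset_adjoin (Finset.mem_coe.mpr (Finset.mem_insert_of_mem hx))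
  let g := Algebra.TensorProduct.map (AlgHom.id R A') C.val
  have hg : Function.Injective g :=
    Module.Flat.lTensor_preserves_injective_linearMap (M := A') C.val.toLinearMap Subtype.val_injective
  have hrange : ∀ x ∈ ({y'} ∪ p.support.image p.coeff : Finset (A' ⊗[R] B)), ∃ x', g x' = x := fun x hx => by
    obtain ⟨w, rfl⟩ := hs hx
    refine ⟨(Submodule.inclusion hNC).lTensor A' w, ?_⟩
    show (C.val.toLinearMap.lTensor A') ((Submodule.inclusion hNC).lTensor A' w) = _
    rw [← LinearMap.comp_apply, ← LinearMap.lTensor_comp]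
    rfl
  obtain ⟨yC, rfl⟩ := hrange y' (by simp)
  have hlift : p ∈ Polynomial.lifts g.toRingHom := (lifts_iff_coeff_lifts p).mpr fun i => by
    by_cases hi : i ∈ p.support
    · exact hrange _ (Finset.mem_union_right _ (Finset.mem_image_of_mem _ hi))
    · exact ⟨0, by rw [map_zero, notMem_support_iff.mp hi]⟩
  obtain ⟨pC, hpC, -, hpCm⟩ := lifts_and_natDegree_eq_and_monic hlift hp
  let lC : C := ⟨l, Algebra.subset_adjoin (Finset.mem_coe.mpr (Finset.mem_insert_self l t))⟩
  have hrelC : (pC.scaleRoots (1 ⊗ₜ lC)).eval yC = 0 := hg (by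
    rw [map_zero, ← hrel, ← hpC]
    show g.toRingHom _ = _
    rw [← eval₂_at_apply, ← eval_map, map_scaleRoots _ _ _ (by rw [hpCm, map_one]; exact one_ne_zero)]
    rfl)
  obtain ⟨J, w, hw, hJ⟩ := key A' (FractionRing C) hred lC (fun h => hl (congrArg Subtype.val h)) pC hpCm yC hrelC
  subst hw
  have hdiv : ∀ c ∈ J, ∃ b : B, l * b = (c : B) := fun c hc => by
    have hinjC : Function.Injective (algebraMap C K) := (IsFractionRing.injective B K).comp Subtype.val_injective
    let Φ : FractionRing C →ₐ[C] K := IsFractionRing.liftAlgHom (A := C) (g := Algebra.ofId C K) hinjC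
    obtain ⟨b, hb⟩ := IsIntegrallyClosed.isIntegral_iff.mp ((((hJ c hc).map Φ).tower_top : IsIntegral B _))
    refine ⟨b, IsFractionRing.injective B K ?_⟩
    rw [map_mul, hb, map_div₀, AlgHom.commutes, AlgHom.commutes]
    show algebraMap B K l * (algebraMap B K (c : B) / algebraMap B K l) = algebraMap B K (c : B)
    rw [mul_div_cancel₀ _ ((map_ne_zero_iff _ (IsFractionRing.injective B K)).mpr hl)]
  obtain ⟨z, hz⟩ : ∃ z, (1 ⊗ₜ l) * z = g ((J.restrictScalars R).subtype.lTensor A' w) := by
    clear hrel hrelC hs hrange hy'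
    induction w using TensorProduct.induction_on with
    | zero => exact ⟨0, by rw [mul_zero, map_zero, map_zero]⟩
    | tmul a c =>
      obtain ⟨b, hb⟩ := hdiv c.1 c.2
      exact ⟨a ⊗ₜ b, by rw [Algebra.TensorProduct.tmul_mul_tmul, one_mul, hb]; rfl⟩
    | add u v hu hv =>
      obtain ⟨z₁, h₁⟩ := hu
      obtain ⟨z₂, h₂⟩ := hv
      exact ⟨z₁ + z₂, by rw [mul_add, h₁, h₂, map_add, map_add]⟩
  refine ⟨z, ?_⟩
  have h1 : IsUnit ((1 : A') ⊗ₜ[R] algebraMap B K l) :=
    (isUnit_iff_ne_zero.mpr ((map_ne_zero_iff _ (IsFractionRing.injective B K)).mpr hl)).map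
      (Algebra.TensorProduct.includeRight : K →ₐ[R] A' ⊗[R] K)
  refine h1.mul_left_cancel (Eq.trans ?_ hy')
  rw [← hz, map_mul]
  rfl

end Groth.L06.NormalTensor
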