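import Groth.Agent.L06.GeomFG

/-! Corollaries of `GeomFG.loc_fg`. -/

set_option autoImplicit false
set_option maxSynthPendingDepth 3
set_option linter.style.haveILetI false
universe u

namespace Groth.L06.GeomFG

open scoped TensorProduct
open PropLoc

variable {Q : ∀ (R : Type u) [CommRing R], Prop} (hQ : Good Q) (hr : RegImp Q)
include hQ

include hr in
theorem loc_of_geom {k R : Type u} [Field k] [CommRing R] [Algebra k R] [IsNoetherianRing R] (h : Geom Q k R)
    (L : Type u) [Field L] [Algebra k L] [Algebra.EssFiniteType k L] : Loc Q (L ⊗[k] R) :=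
  loc_fg hQ hr (fun k' _ _ hk' _ => h k' hk') L

include hr in
theorem geom_of_insep {k R : Type u} [Field k] [CommRing R] [Algebra k R] [IsNoetherianRing R]
    (h : ∀ (k' : Type u) [Field k'] [Algebra k k'], Module.Finite k k' → IsPurelyInseparable k k' → Loc Q (k' ⊗[k] R)) :
    Geom Q k R := fun L _ _ hL => by
  haveI := hL
  exact loc_fg hQ hr h L

include hr in
theorem geom_extend {k R : Type u} [Field k] [CommRing R] [Algebra k R] [IsNoetherianRing R] (h : Geom Q k R)
    (K : Type u) [Field K] [Algebra k K] [Algebra.EssFiniteType k K] : Geom Q K (K ⊗[k] R) := fun L _ _ hL => by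
  haveI := hL
  letI : Algebra k L := ((algebraMap K L).comp (algebraMap k K)).toAlgebra
  haveI : IsScalarTower k K L := IsScalarTower.of_algebraMap_eq' rfl
  haveI : Algebra.EssFiniteType k L := Algebra.EssFiniteType.comp k K L
  haveI := isNoetherianRing_tensor k L R
  exact loc_of_ringEquiv hQ (Algebra.TensorProduct.cancelBaseChange k K K L R).toRingEquiv.symm (loc_of_geom hQ hr h L)

theorem geom_descend {k R : Type u} [Field k] [CommRing R] [Algebra k R] [IsNoetherianRing R]
    (K : Type u) [Field K] [Algebra k K] [Algebra.EssFiniteType k K] (h : Geom Q K (K ⊗[k] R)) : Geom Q k R := by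
  intro k' _ _ hk'
  haveI := hk'
  haveI : Nontrivial (K ⊗[k] k') := Algebra.TensorProduct.nontrivial_of_algebraMap_injective_of_flat_left k K k'
    (algebraMap k k').injective
  obtain ⟨m, hm⟩ := Ideal.exists_maximal (K ⊗[k] k')
  let L := (K ⊗[k] k') ⧸ m
  letI : Field L := Ideal.Quotient.field m
  haveI : Module.Finite K L := Module.Finite.trans (K ⊗[k] k') L
  letI : Algebra k' L := ((Ideal.Quotient.mk m).comp
    (Algebra.TensorProduct.includeRight (R := k) (A := K) (B := k')).toRingHom).toAlgebra
  haveI : IsScalarTower k k' L := IsScalarTower.of_algebraMap_eq fun x => by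
    show algebraMap k L x = Ideal.Quotient.mk m ((Algebra.TensorProduct.includeRight (R := k) (A := K) (B := k')) (algebraMap k k' x))
    rw [AlgHom.commutes]
    rfl
  haveI : Algebra.EssFiniteType k L := Algebra.EssFiniteType.comp k K L
  haveI := isNoetherianRing_tensor k K R
  haveI := isNoetherianRing_tensor K L (K ⊗[k] R)
  exact loc_descend_field hQ (N := L)
    (loc_of_ringEquiv hQ (Algebra.TensorProduct.cancelBaseChange k K K L R).toRingEquiv (h L inferInstance))

end Groth.L06.GeomFG
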