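import Groth.Agent.L06.NormalUnion
import Groth.Agent.L06.NormalClosed
import Groth.Agent.L06.GeomFG2
import Mathlib.RingTheory.RingHom.EssFiniteType
import Mathlib.RingTheory.LocalRing.ResidueField.Fiber

/-! Base change of normal rings along normal homomorphisms. -/

set_option autoImplicit false
set_option maxSynthPendingDepth 3
set_option linter.style.haveILetI false
set_option linter.unusedSectionVars false
noncomputable section
universe u
open TensorProduct

namespace Groth.L06.NormalTensor

/-- transfer of normality at one prime along a map which is locally a localisation -/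
theorem normal_atPrime_of_map {S T : Type u} [CommRing S] [CommRing T] (P : Ideal S) [P.IsPrime] (ψ : S →+* T)
    (θ : T →+* Localization.AtPrime P) (hθ : ∀ s, θ (ψ s) = algebraMap S _ s)
    (hψ : ∀ t : T, ∃ u ∉ P, ∃ s, ψ u * t = ψ s) (hT : EGA4.IsNormalRing T) :
    IsDomain (Localization.AtPrime P) ∧ IsIntegrallyClosed (Localization.AtPrime P) := by
  let SP := Localization.AtPrime P
  let Q : Ideal T := (IsLocalRing.maximalIdeal SP).comap θ
  haveI : Q.IsPrime := Ideal.IsPrime.comap _
  have hQP : P = Q.comap ψ := by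
    ext s
    simp only [Q, Ideal.mem_comap, hθ]
    exact (IsLocalization.AtPrime.to_map_mem_maximal_iff SP P s).symm
  let a : SP →+* Localization.AtPrime Q := Localization.localRingHom P Q ψ hQP
  have hunit : ∀ t : Q.primeCompl, IsUnit (θ t) := fun t => IsLocalRing.notMem_maximalIdeal.mp fun h => t.2 h
  let b : Localization.AtPrime Q →+* SP := IsLocalization.lift hunit
  have hba : b.comp a = RingHom.id SP := IsLocalization.ringHom_ext P.primeCompl (RingHom.ext fun s => by
    show b (a (algebraMap S SP s)) = algebraMap S SP s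
    rw [Localization.localRingHom_to_map, IsLocalization.lift_eq]; exact hθ s)
  have hab : a.comp b = RingHom.id _ := IsLocalization.ringHom_ext Q.primeCompl (RingHom.ext fun t => by
    show a (b (algebraMap T _ t)) = algebraMap T _ t
    rw [IsLocalization.lift_eq]
    obtain ⟨u, hu, s, hus⟩ := hψ t
    have hU : IsUnit (algebraMap T (Localization.AtPrime Q) (ψ u)) :=
      IsLocalization.map_units _ (⟨ψ u, fun h => hu (hQP ▸ h)⟩ : Q.primeCompl)
    refine hU.mul_left_cancel ?_
    rw [← map_mul, hus, ← Localization.localRingHom_to_map P Q ψ hQP, ← map_mul, ← hθ, ← map_mul, hus, hθ,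
      Localization.localRingHom_to_map])
  let e : Localization.AtPrime Q ≃+* SP := RingEquiv.ofRingHom b a hba hab
  haveI := (hT Q).1
  haveI := (hT Q).2
  exact ⟨e.symm.toMulEquiv.isDomain _, IsIntegrallyClosed.of_equiv e⟩

theorem isIntegrallyClosed_of_isNormalRing {R : Type u} [CommRing R] [IsDomain R] (h : EGA4.IsNormalRing R) :
    IsIntegrallyClosed R :=
  IsIntegrallyClosed.of_localization_maximal fun m _ hm => (h m).2

theorem normal_of_field {K : Type u} [Field K] : EGA4.IsNormalRing K ∧ Idem K := by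
  refine ⟨fun p _ => ?_, fun a b hab => ?_⟩
  · have h1 : (p.primeCompl : Submonoid K) ≤ nonZeroDivisors K :=
      le_nonZeroDivisors_of_noZeroDivisors (not_not_intro p.zero_mem)
    exact ⟨IsLocalization.isDomain_localization h1, isIntegrallyClosed_of_isLocalization (Localization.AtPrime p) p.primeCompl h1⟩
  · rcases eq_or_ne a 0 with rfl | ha
    · exact ⟨0, by simp, by simp, by simp⟩
    · exact ⟨1, by simp, by simp, by rw [(mul_eq_zero.mp hab).resolve_left ha, mul_zero]⟩

theorem normal_of_equiv {R R' : Type u} [CommRing R] [CommRing R'] (e : R ≃+* R')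
    (h : EGA4.IsNormalRing R ∧ Idem R) : EGA4.IsNormalRing R' ∧ Idem R' := by
  refine ⟨Groth.L06.NormalAscent.isNormalRing_of_ringEquiv e h.1, fun a b hab => ?_⟩
  obtain ⟨c, h1, h2, h3⟩ := h.2 (e.symm a) (e.symm b) (by rw [← map_mul, hab, map_zero])
  exact ⟨e c, by rw [← map_mul, h1], by simpa using congrArg e h2, by simpa using congrArg e h3⟩

/-- arbitrary field extensions of a Noetherian geometrically normal algebra -/
theorem normal_field_tensor {κ F : Type u} [Field κ] [CommRing F] [Algebra κ F] [IsNoetherianRing F]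
    (hF : EGA4.IsGeomNormal κ F) (K : Type u) [Field K] [Algebra κ K] :
    EGA4.IsNormalRing (K ⊗[κ] F) ∧ Idem (K ⊗[κ] F) := by
  classical
  refine normal_of_union fun s => ?_
  obtain ⟨N, hN, hs⟩ := TensorProduct.exists_finite_submodule_left_of_setFinite (s : Set (K ⊗[κ] F)) s.finite_toSet
  obtain ⟨t, ht⟩ := Module.Finite.iff_fg.mp hN
  let L : IntermediateField κ K := IntermediateField.adjoin κ (t : Set K)
  haveI : Algebra.EssFiniteType κ L :=
    IntermediateField.essFiniteType_iff.mpr (IntermediateField.fg_adjoin_of_finite t.finite_toSet)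
  haveI := Groth.L06.GeomFG.isNoetherianRing_tensor κ L F
  have hn : EGA4.IsNormalRing (L ⊗[κ] F) :=
    Groth.L06.GeomFG.loc_of_geom Groth.L06.PropLoc.good_nor Groth.L06.GeomFG.regImp_nor hF L
  refine ⟨L ⊗[κ] F, inferInstance, (Algebra.TensorProduct.map L.val (AlgHom.id κ F)).toRingHom, ?_, ?_, hn,
    idem_of_normal_noetherian hn⟩
  · exact Module.Flat.rTensor_preserves_injective_linearMap (M := F) L.val.toLinearMap Subtype.val_injective
  · intro x hx
    obtain ⟨w, rfl⟩ := hs hx
    have hNL : N ≤ Subalgebra.toSubmodule L.toSubalgebra :=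
      ht ▸ Submodule.span_le.mpr (IntermediateField.subset_adjoin κ (t : Set K))
    refine ⟨(Submodule.inclusion hNL).rTensor F w, ?_⟩
    show L.val.toLinearMap.rTensor F ((Submodule.inclusion hNL).rTensor F w) = _
    rw [← LinearMap.comp_apply, ← LinearMap.rTensor_comp]
    rfl

variable {A A' : Type u} [CommRing A] [CommRing A'] [IsNoetherianRing A] [IsNoetherianRing A'] [Algebra A A']

theorem isNoetherianRing_fiber (p : Ideal A) [p.IsPrime] : IsNoetherianRing (p.Fiber A') := by
  haveI : Algebra.EssFiniteType A p.ResidueField := inferInstance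
  haveI := Algebra.EssFiniteType.isNoetherianRing A' (A' ⊗[A] p.ResidueField)
  exact isNoetherianRing_of_ringEquiv _ (Algebra.TensorProduct.comm A A' p.ResidueField).toRingEquiv

theorem normal_fibre_tensor (h : EGA4.IsNormalHom A A') (K : Type u) [Field K] [Algebra A K] :
    EGA4.IsNormalRing (A' ⊗[A] K) ∧ Idem (A' ⊗[A] K) := by
  let p := RingHom.ker (algebraMap A K)
  haveI : p.IsPrime := RingHom.ker_isPrime _
  let g : p.ResidueField →ₐ[A] K := Ideal.ResidueField.liftₐ p (Algebra.ofId A K) le_rfl
    fun x hx => isUnit_iff_ne_zero.mpr hx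
  letI : Algebra p.ResidueField K := g.toRingHom.toAlgebra
  haveI : IsScalarTower A p.ResidueField K := IsScalarTower.of_algebraMap_eq fun x => (g.commutes x).symm
  haveI := isNoetherianRing_fiber (A' := A') p
  refine normal_of_equiv ?_ (normal_field_tensor (h.2 p) K)
  exact ((Algebra.TensorProduct.cancelBaseChange A p.ResidueField K K A').toRingEquiv).trans
    (Algebra.TensorProduct.comm A K A').toRingEquiv

theorem isReduced_fibre_tensor (h : EGA4.IsNormalHom A A') (K : Type u) [Field K] [Algebra A K] :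
    IsReduced (A' ⊗[A] K) :=
  Groth.L06.NormalAscent.isReduced_of_isNormalRing (normal_fibre_tensor h K).1

theorem normal_tensor_domain (h : EGA4.IsNormalHom A A') (B : Type u) [CommRing B] [Algebra A B] [IsDomain B]
    [IsIntegrallyClosed B] : EGA4.IsNormalRing (A' ⊗[A] B) ∧ Idem (A' ⊗[A] B) := by
  haveI := h.1
  let K := FractionRing B
  let f := Algebra.TensorProduct.map (AlgHom.id A A') (IsScalarTower.toAlgHom A B K)
  obtain ⟨hn, hI⟩ := normal_fibre_tensor h K
  refine normal_of_integrallyClosedIn f.toRingHom ?_ (fun y hy => ?_) hn hI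
  · exact Module.Flat.lTensor_preserves_injective_linearMap (M := A') (IsScalarTower.toAlgHom A B K).toLinearMap
      (IsFractionRing.injective B K)
  · exact mem_range_of_isIntegralElem A' (fun κ _ _ => isReduced_fibre_tensor h κ) B K y hy

theorem isNormalRing_tensor (h : EGA4.IsNormalHom A A') (B : Type u) [CommRing B] [Algebra A B]
    (hB : EGA4.IsNormalRing B) : EGA4.IsNormalRing (A' ⊗[A] B) := by
  intro P _
  let q : Ideal B := P.comap (Algebra.TensorProduct.includeRight : B →ₐ[A] A' ⊗[A] B)
  let Bq := Localization.AtPrime q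
  haveI := (hB q).1
  haveI := (hB q).2
  let TP := Localization.AtPrime P
  let iB : B →ₐ[A] TP := (IsScalarTower.toAlgHom A (A' ⊗[A] B) TP).comp Algebra.TensorProduct.includeRight
  let iA : A' →ₐ[A] TP := (IsScalarTower.toAlgHom A (A' ⊗[A] B) TP).comp Algebra.TensorProduct.includeLeft
  have hunit : ∀ u : q.primeCompl, IsUnit (iB u) := fun u => IsLocalization.map_units TP
    (⟨(Algebra.TensorProduct.includeRight : B →ₐ[A] A' ⊗[A] B) u, fun hu => u.2 hu⟩ : P.primeCompl)
  let lB : Bq →ₐ[A] TP := IsLocalization.liftAlgHom (M := q.primeCompl) (S := Bq) hunit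
  let θ := Algebra.TensorProduct.productMap iA lB
  let ψ := Algebra.TensorProduct.map (AlgHom.id A A') (IsScalarTower.toAlgHom A B Bq)
  refine normal_atPrime_of_map P ψ.toRingHom θ.toRingHom (fun s => ?_) (fun t => ?_) (normal_tensor_domain h Bq).1
  · induction s using TensorProduct.induction_on with
    | zero => simp
    | add a b ha hb => rw [map_add, map_add, map_add, ha, hb]
    | tmul a b =>
      show θ (a ⊗ₜ algebraMap B Bq b) = _
      rw [Algebra.TensorProduct.productMap_apply_tmul, IsLocalization.liftAlgHom_apply, IsLocalization.lift_eq]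
      show algebraMap (A' ⊗[A] B) TP (a ⊗ₜ[A] (1 : B)) * algebraMap (A' ⊗[A] B) TP ((1 : A') ⊗ₜ[A] b) = _
      rw [← map_mul, Algebra.TensorProduct.tmul_mul_tmul, mul_one, one_mul]
  · suffices key : ∃ u : q.primeCompl, ∃ s, (1 : A') ⊗ₜ[A] algebraMap B Bq u * t = ψ s by
      obtain ⟨u, s, hs⟩ := key
      exact ⟨(Algebra.TensorProduct.includeRight : B →ₐ[A] A' ⊗[A] B) u, fun hu => u.2 hu, s, hs⟩
    induction t using TensorProduct.induction_on with
    | zero => exact ⟨1, 0, by rw [mul_zero, map_zero]⟩
    | tmul a x =>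
      obtain ⟨b, s, rfl⟩ := IsLocalization.exists_mk'_eq q.primeCompl x
      exact ⟨s, a ⊗ₜ b, by rw [Algebra.TensorProduct.tmul_mul_tmul, one_mul, IsLocalization.mk'_spec']; rfl⟩
    | add x y hx hy =>
      obtain ⟨u, s, hs⟩ := hx
      obtain ⟨v, r, hr⟩ := hy
      refine ⟨u * v, ((1 : A') ⊗ₜ (v : B)) * s + ((1 : A') ⊗ₜ (u : B)) * r, ?_⟩
      have e : ∀ w : B, ψ ((1 : A') ⊗ₜ w) = (1 : A') ⊗ₜ algebraMap B Bq w := fun w => rfl
      rw [map_add, map_mul, map_mul, ← hs, ← hr, e, e, Submonoid.coe_mul, map_mul,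
        show (1 : A') ⊗ₜ[A] (algebraMap B Bq u * algebraMap B Bq v) = ((1 : A') ⊗ₜ[A] algebraMap B Bq u) * (1 ⊗ₜ algebraMap B Bq v) by
          rw [Algebra.TensorProduct.tmul_mul_tmul, mul_one]]
      ring

end Groth.L06.NormalTensor
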