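import Groth.Prelude.Def_CAlgX
import Mathlib.RingTheory.Kaehler.Basic
import Mathlib.RingTheory.Filtration

/-! The Jacobian criterion for adic formal smoothness of a quotient, modulo an ideal of definition. -/

set_option autoImplicit false
set_option maxSynthPendingDepth 3
set_option linter.style.haveILetI false
universe u

namespace Groth.L06.FormSmooth

open scoped TensorProduct
open KaehlerDifferential (kerCotangentToTensor)

theorem exists_descend {R : Type*} [CommRing R] {M N P : Type*} [AddCommGroup M] [Module R M] [AddCommGroup N]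
    [Module R N] [AddCommGroup P] [Module R P] (p : M →ₗ[R] N) (hp : Function.Surjective p) (f : M →ₗ[R] P)
    (h : LinearMap.ker p ≤ LinearMap.ker f) : ∃ f' : N →ₗ[R] P, ∀ x, f' (p x) = f x := by
  refine ⟨(LinearMap.ker p).liftQ f h ∘ₗ (p.quotKerEquivOfSurjective hp).symm.toLinearMap, fun x => ?_⟩
  have : (p.quotKerEquivOfSurjective hp).symm (p x) = Submodule.Quotient.mk x :=
    (p.quotKerEquivOfSurjective hp).injective ((LinearEquiv.apply_symm_apply _ _).trans rfl)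
  simp [this]

variable {A B : Type u} [CommRing A] [CommRing B] [Algebra A B] (I J : Ideal B)

set_option maxHeartbeats 2000000 in
theorem exists_leftInverse_of_adicSmooth [IsNoetherianRing B] (Q : Ideal (B ⧸ J))
    (hQ : ∃ n : ℕ, (I.map (Ideal.Quotient.mk J)) ^ n ≤ Q)
    (h : CAlgX.IsAdicFormallySmooth A (B ⧸ J) (I.map (Ideal.Quotient.mk J))) :
    ∃ g : ((B ⧸ J) ⧸ Q) ⊗[B] ((B ⧸ J) ⊗[B] Ω[B⁄A]) →ₗ[(B ⧸ J) ⧸ Q]
          ((B ⧸ J) ⧸ Q) ⊗[B] (RingHom.ker (algebraMap B (B ⧸ J))).Cotangent,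
        g ∘ₗ LinearMap.baseChange ((B ⧸ J) ⧸ Q) (kerCotangentToTensor A B (B ⧸ J)) = LinearMap.id := by
  obtain ⟨n, hn⟩ := hQ
  let π := Ideal.Quotient.mk J
  let K : Ideal B := Q.comap π
  have hInK : I ^ n ≤ K := Ideal.map_le_iff_le_comap.mp (by rw [Ideal.map_pow]; exact hn)
  obtain ⟨c, hc⟩ := Ideal.exists_pow_inf_eq_pow_smul I (J : Submodule B B)
  let N := n + c
  have hN : I ^ N ⊓ J ≤ K * J := fun x hx => by
    have h1 : x ∈ I ^ N • (⊤ : Submodule B B) ⊓ (J : Submodule B B) := by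
      rw [smul_eq_mul, Ideal.mul_top]; exact hx
    rw [hc N (Nat.le_add_left c n), show N - c = n from Nat.add_sub_cancel n c] at h1
    exact Submodule.smul_mono hInK inf_le_right h1
  let P : Ideal B := K * J ⊔ I ^ N
  let H : Ideal (B ⧸ P) := J.map (Ideal.Quotient.mkₐ A P)
  have hJK : J ≤ K := fun x hx => by
    show π x ∈ Q
    rw [show π x = 0 from Ideal.Quotient.eq_zero_iff_mem.mpr hx]
    exact zero_mem _
  have hKH : ∀ x ∈ K, ∀ y ∈ H, Ideal.Quotient.mk P x * y = 0 := fun x hx y hy => by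
    obtain ⟨j, hj, rfl⟩ := (Ideal.mem_map_iff_of_surjective _ (Ideal.Quotient.mkₐ_surjective A P)).mp hy
    show Ideal.Quotient.mk P x * Ideal.Quotient.mk P j = 0
    rw [← map_mul, Ideal.Quotient.eq_zero_iff_mem]
    exact Ideal.mem_sup_left (Ideal.mul_mem_mul hx hj)
  have hH : H ^ 2 = ⊥ := by
    rw [pow_two, eq_bot_iff, Ideal.mul_le]
    intro x hx y hy
    obtain ⟨i, hi, rfl⟩ := (Ideal.mem_map_iff_of_surjective _ (Ideal.Quotient.mkₐ_surjective A P)).mp hx
    exact Ideal.mem_bot.mpr (hKH i (hJK hi) y hy)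
  let q : B →ₐ[A] (B ⧸ P) ⧸ H := (Ideal.Quotient.mkₐ A H).comp (Ideal.Quotient.mkₐ A P)
  let ψ : B ⧸ J →ₐ[A] (B ⧸ P) ⧸ H := Ideal.Quotient.liftₐ J q fun x hx =>
    Ideal.Quotient.eq_zero_iff_mem.mpr (Ideal.mem_map_of_mem _ hx)
  have hψ : ∀ x, ψ (π x) = q x := fun x => rfl
  obtain ⟨χ, hχ⟩ := h (B ⧸ P) H hH ψ ⟨N, fun s hs => by
    rw [← Ideal.map_pow] at hs
    obtain ⟨x, hx, rfl⟩ := (Ideal.mem_map_iff_of_surjective _ Ideal.Quotient.mk_surjective).mp hs
    show Ideal.Quotient.mk H (Ideal.Quotient.mk P x) = 0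
    rw [Ideal.Quotient.eq_zero_iff_mem.mpr (Ideal.mem_sup_right hx), map_zero]⟩
  have hdiff : ∀ x, Ideal.Quotient.mk P x - χ (π x) ∈ H := fun x => by
    rw [← Ideal.Quotient.eq]
    exact (hψ x).symm.trans (DFunLike.congr_fun hχ (π x)).symm
  let δ : B →ₗ[A] H := LinearMap.codRestrict (H.restrictScalars A)
    ((Ideal.Quotient.mkₐ A P).toLinearMap - χ.toLinearMap ∘ₗ (Ideal.Quotient.mkₐ A J).toLinearMap) hdiff
  let D : Derivation A B H := Derivation.mk' δ fun x y => Subtype.ext (by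
    show Ideal.Quotient.mk P (x * y) - χ (π (x * y)) =
      Ideal.Quotient.mk P x * (Ideal.Quotient.mk P y - χ (π y)) + Ideal.Quotient.mk P y * (Ideal.Quotient.mk P x - χ (π x))
    have h1 := Ideal.mul_mem_mul (hdiff x) (hdiff y)
    rw [← pow_two, hH, Ideal.mem_bot] at h1
    rw [map_mul, map_mul π, map_mul χ]
    linear_combination (-1 : B ⧸ P) * h1)
  -- `H` maps to the cotangent space modulo `Q`
  let C₁ := (B ⧸ J) ⧸ Q
  have hker : ∀ x, x ∈ RingHom.ker (algebraMap B (B ⧸ J)) ↔ x ∈ J := fun x => Ideal.Quotient.eq_zero_iff_mem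
  let p : (RingHom.ker (algebraMap B (B ⧸ J))) →ₗ[B] H :=
    LinearMap.codRestrict (H.restrictScalars B) ((Submodule.mkQ P).comp (Submodule.subtype _))
      fun x => Ideal.mem_map_of_mem _ ((hker _).mp x.2)
  have hp : Function.Surjective p := fun y => by
    obtain ⟨j, hj, hjy⟩ := (Ideal.mem_map_iff_of_surjective _ (Ideal.Quotient.mkₐ_surjective A P)).mp y.2
    exact ⟨⟨j, (hker j).mpr hj⟩, Subtype.ext hjy⟩
  let f : (RingHom.ker (algebraMap B (B ⧸ J))) →ₗ[B] C₁ ⊗[B] (RingHom.ker (algebraMap B (B ⧸ J))).Cotangent :=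
    (TensorProduct.mk B C₁ _ 1).comp (RingHom.ker (algebraMap B (B ⧸ J))).toCotangent
  have hf : ∀ x ∈ K * J, ∃ hx : x ∈ RingHom.ker (algebraMap B (B ⧸ J)), f ⟨x, hx⟩ = 0 := by
    intro x hx
    refine Submodule.mul_induction_on hx (fun k hk j hj => ?_) (fun x y ⟨hx, hx'⟩ ⟨hy, hy'⟩ => ⟨add_mem hx hy, ?_⟩)
    · refine ⟨(hker _).mpr (J.mul_mem_left k hj), ?_⟩
      rw [show (⟨k * j, _⟩ : RingHom.ker (algebraMap B (B ⧸ J))) = k • ⟨j, (hker j).mpr hj⟩ from Subtype.ext rfl,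
        map_smul]
      show k • ((1 : C₁) ⊗ₜ[B] _) = 0
      rw [TensorProduct.smul_tmul', show k • (1 : C₁) = 0 from by
        rw [← Algebra.algebraMap_eq_smul_one]; exact Ideal.Quotient.eq_zero_iff_mem.mpr hk,
        TensorProduct.zero_tmul]
    · rw [show (⟨x + y, _⟩ : RingHom.ker (algebraMap B (B ⧸ J))) = ⟨x, hx⟩ + ⟨y, hy⟩ from Subtype.ext rfl,
        map_add, hx', hy', add_zero]
  obtain ⟨f', hf'⟩ := exists_descend p hp f fun x hx => by
    have h0 : (x : B) ∈ P := Ideal.Quotient.eq_zero_iff_mem.mp (congrArg Subtype.val hx)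
    obtain ⟨a, ha, b, hb, hab⟩ := Submodule.mem_sup.mp h0
    have hbJ : b ∈ J := by
      rw [show b = (x : B) - a by rw [← hab]; ring]
      exact sub_mem ((hker _).mp x.2) (Ideal.mul_le_right (I := K) ha)
    obtain ⟨h1, h2⟩ := hf _ (hab ▸ add_mem ha (hN ⟨hb, hbJ⟩) : (x : B) ∈ K * J)
    exact h2
  -- make it `B ⧸ J`-linear, then `C₁`-linear
  let g₀ : Ω[B⁄A] →ₗ[B] C₁ ⊗[B] (RingHom.ker (algebraMap B (B ⧸ J))).Cotangent := f'.comp D.liftKaehlerDifferential
  let g : C₁ ⊗[B] ((B ⧸ J) ⊗[B] Ω[B⁄A]) →ₗ[C₁] C₁ ⊗[B] (RingHom.ker (algebraMap B (B ⧸ J))).Cotangent :=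
    LinearMap.liftBaseChange C₁ ((LinearMap.liftBaseChange (B ⧸ J) g₀).restrictScalars B)
  refine ⟨g, TensorProduct.AlgebraTensorModule.ext fun c x => ?_⟩
  obtain ⟨j, rfl⟩ := Ideal.toCotangent_surjective _ x
  show g (c ⊗ₜ kerCotangentToTensor A B (B ⧸ J) _) = c ⊗ₜ _
  rw [KaehlerDifferential.kerCotangentToTensor_toCotangent]
  simp only [g, LinearMap.liftBaseChange_tmul, LinearMap.coe_restrictScalars, one_smul]
  show c • f' (D.liftKaehlerDifferential (KaehlerDifferential.D A B (j : B))) = _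
  rw [Derivation.liftKaehlerDifferential_comp_D, show D (j : B) = p j from Subtype.ext (by
    show Ideal.Quotient.mk P (j : B) - χ (π (j : B)) = Ideal.Quotient.mk P (j : B)
    rw [show π (j : B) = 0 from Ideal.Quotient.eq_zero_iff_mem.mpr ((hker _).mp j.2), map_zero, sub_zero]), hf']
  show c • ((1 : C₁) ⊗ₜ[B] _) = _
  rw [TensorProduct.smul_tmul', smul_eq_mul, mul_one]

set_option maxHeartbeats 2000000 in
theorem adicSmooth_quotient_of_leftInverse (hB : CAlgX.IsAdicFormallySmooth A B I) (Q : Ideal (B ⧸ J))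
    (hQ' : ∃ m : ℕ, Q ^ m ≤ I.map (Ideal.Quotient.mk J))
    (g : ((B ⧸ J) ⧸ Q) ⊗[B] ((B ⧸ J) ⊗[B] Ω[B⁄A]) →ₗ[(B ⧸ J) ⧸ Q]
          ((B ⧸ J) ⧸ Q) ⊗[B] (RingHom.ker (algebraMap B (B ⧸ J))).Cotangent)
    (hg : g ∘ₗ LinearMap.baseChange ((B ⧸ J) ⧸ Q) (kerCotangentToTensor A B (B ⧸ J)) = LinearMap.id) :
    CAlgX.IsAdicFormallySmooth A (B ⧸ J) (I.map (Ideal.Quotient.mk J)) := by
  intro R _ _ H hH ψ ⟨k, hk⟩
  obtain ⟨m, hm⟩ := hQ'
  let π := Ideal.Quotient.mk J
  let K : Ideal B := Q.comap π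
  let ψB : B →ₐ[A] R ⧸ H := ψ.comp (Ideal.Quotient.mkₐ A J)
  have hkB : ∀ x ∈ I ^ k, ψB x = 0 := fun x hx => hk _ (by rw [← Ideal.map_pow]; exact Ideal.mem_map_of_mem _ hx)
  obtain ⟨χ₀, hχ₀⟩ := hB R H hH ψB ⟨k, hkB⟩
  have hHH : ∀ a ∈ H, ∀ b ∈ H, a * b = 0 := fun a ha b hb => by
    have := Ideal.mul_mem_mul ha hb
    rwa [← pow_two, hH, Ideal.mem_bot] at this
  let L : ℕ → Ideal R := fun i => (K.map χ₀) ^ i * H
  have hLH : ∀ i, L i ≤ H := fun i => Ideal.mul_le_right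
  have hcongr : ∀ χ : B →ₐ[A] R, (Ideal.Quotient.mkₐ A H).comp χ = ψB → ∀ x, χ x - χ₀ x ∈ H := fun χ hχ x =>
    Ideal.Quotient.eq.mp ((DFunLike.congr_fun hχ x).trans (DFunLike.congr_fun hχ₀ x).symm)
  have hzero : L (m * k) = ⊥ := by
    have h1 : K ^ (m * k) ≤ I ^ k ⊔ J := by
      have : (K ^ (m * k)).map π ≤ (I ^ k).map π := by
        rw [Ideal.map_pow, Ideal.map_pow, pow_mul]
        refine Ideal.pow_right_mono ?_ k
        exact le_trans (Ideal.pow_right_mono (Ideal.map_comap_le) m) hm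
      refine (Ideal.map_le_iff_le_comap.mp this).trans ?_
      rw [Ideal.comap_map_of_surjective _ Ideal.Quotient.mk_surjective, ← RingHom.ker_eq_comap_bot, Ideal.mk_ker]
    have h2 : (I ^ k ⊔ J).map χ₀ ≤ H := Ideal.map_le_iff_le_comap.mpr fun x hx => by
      show χ₀ x ∈ H
      rw [← Ideal.Quotient.eq_zero_iff_mem]
      refine (DFunLike.congr_fun hχ₀ x).trans ?_
      obtain ⟨a, ha, b, hb, rfl⟩ := Submodule.mem_sup.mp hx
      rw [map_add, hkB a ha, zero_add]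
      show ψ (π b) = 0
      rw [show π b = 0 from Ideal.Quotient.eq_zero_iff_mem.mpr hb, map_zero]
    show (K.map χ₀) ^ (m * k) * H = ⊥
    rw [eq_bot_iff, ← Ideal.map_pow]
    exact (Ideal.mul_mono_left ((Ideal.map_mono h1).trans h2)).trans_eq (by rw [← pow_two]; exact hH)
  have hstep : ∀ i, ∃ χ : B →ₐ[A] R, (Ideal.Quotient.mkₐ A H).comp χ = ψB ∧ ∀ x ∈ J, χ x ∈ L i := by
    intro i
    induction i with
    | zero =>
      refine ⟨χ₀, hχ₀, fun x hx => ?_⟩
      show χ₀ x ∈ (K.map χ₀) ^ 0 * H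
      rw [pow_zero, one_mul, ← Ideal.Quotient.eq_zero_iff_mem]
      refine (DFunLike.congr_fun hχ₀ x).trans ?_
      show ψ (π x) = 0
      rw [show π x = 0 from Ideal.Quotient.eq_zero_iff_mem.mpr hx, map_zero]
    | succ i ih =>
      obtain ⟨χ, hχ, hJ⟩ := ih
      let H₁ := L (i + 1)
      let χ₁ : B →ₐ[A] R ⧸ H₁ := (Ideal.Quotient.mkₐ A H₁).comp χ
      letI : Algebra B (R ⧸ H₁) := χ₁.toRingHom.toAlgebra
      haveI : IsScalarTower A B (R ⧸ H₁) := IsScalarTower.of_algebraMap_eq fun a => (χ₁.commutes a).symm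
      let V : Submodule B (R ⧸ H₁) := ((L i).map (Ideal.Quotient.mk H₁)).restrictScalars B
      have hV : ∀ a ∈ V, ∀ b ∈ V, a * b = 0 := by
        intro a ha b hb
        obtain ⟨a, ha', rfl⟩ := (Ideal.mem_map_iff_of_surjective _ Ideal.Quotient.mk_surjective).mp ha
        obtain ⟨b, hb', rfl⟩ := (Ideal.mem_map_iff_of_surjective _ Ideal.Quotient.mk_surjective).mp hb
        rw [← map_mul, hHH a (hLH i ha') b (hLH i hb'), map_zero]
      have hKV : ∀ x ∈ K, ∀ v : V, x • v = 0 := by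
        intro x hx v
        obtain ⟨l, hl, hlv⟩ := (Ideal.mem_map_iff_of_surjective _ Ideal.Quotient.mk_surjective).mp v.2
        refine Subtype.ext ?_
        show χ₁ x * (v : R ⧸ H₁) = 0
        rw [← hlv]
        show Ideal.Quotient.mk H₁ (χ x) * Ideal.Quotient.mk H₁ l = 0
        rw [← map_mul, Ideal.Quotient.eq_zero_iff_mem, show χ x * l = χ₀ x * l by
          have := hHH _ (hcongr χ hχ x) l (hLH i hl)
          rw [sub_mul] at this
          exact sub_eq_zero.mp this]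
        show χ₀ x * l ∈ (K.map χ₀) ^ (i + 1) * H
        rw [pow_succ', mul_assoc]
        exact Ideal.mul_mem_mul (Ideal.mem_map_of_mem _ hx) hl
      have hker : ∀ x, x ∈ RingHom.ker (algebraMap B (B ⧸ J)) ↔ x ∈ J := fun x => Ideal.Quotient.eq_zero_iff_mem
      let f₀ : (RingHom.ker (algebraMap B (B ⧸ J))) →ₗ[B] V :=
        LinearMap.codRestrict V ((Algebra.linearMap B (R ⧸ H₁)).comp (Submodule.subtype _))
          fun x => Ideal.mem_map_of_mem _ (hJ _ ((hker _).mp x.2))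
      obtain ⟨f₁, hf₁⟩ := exists_descend (RingHom.ker (algebraMap B (B ⧸ J))).toCotangent
        (Ideal.toCotangent_surjective _) f₀ fun x hx => by
          rw [LinearMap.mem_ker, ← map_zero (RingHom.ker (algebraMap B (B ⧸ J))).toCotangent, Ideal.toCotangent_eq,
            ZeroMemClass.coe_zero, sub_zero, pow_two] at hx
          refine Subtype.ext ?_
          show χ₁ (x : B) = 0
          refine Submodule.mul_induction_on hx (fun a ha b hb => ?_) (fun a b ha hb => by rw [map_add, ha, hb, add_zero])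
          rw [map_mul]
          exact hV _ (Ideal.mem_map_of_mem _ (hJ _ ((hker _).mp ha))) _ (Ideal.mem_map_of_mem _ (hJ _ ((hker _).mp hb)))
      obtain ⟨f₂, hf₂⟩ := exists_descend (Algebra.linearMap B ((B ⧸ J) ⧸ Q))
        (Ideal.Quotient.mk_surjective.comp Ideal.Quotient.mk_surjective) (LinearMap.toSpanSingleton B _ f₁) fun x hx => by
          refine LinearMap.ext fun y => ?_
          show x • f₁ y = 0
          exact hKV x (show π x ∈ Q from Ideal.Quotient.eq_zero_iff_mem.mp (show Ideal.Quotient.mk Q (π x) = 0 from hx)) _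
      let G : Ω[B⁄A] →ₗ[B] V := (TensorProduct.lift f₂).comp
        ((g.restrictScalars B).comp ((TensorProduct.mk B ((B ⧸ J) ⧸ Q) _ 1).comp (TensorProduct.mk B (B ⧸ J) _ 1)))
      let D : Derivation A B V := G.compDer (KaehlerDifferential.D A B)
      have hD : ∀ x (hx : x ∈ J), (D x : R ⧸ H₁) = χ₁ x := fun x hx => by
        have h0 : g ((1 : (B ⧸ J) ⧸ Q) ⊗ₜ[B] kerCotangentToTensor A B (B ⧸ J)
            ((RingHom.ker (algebraMap B (B ⧸ J))).toCotangent ⟨x, (hker x).mpr hx⟩)) = (1 : (B ⧸ J) ⧸ Q) ⊗ₜ[B] _ :=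
          LinearMap.congr_fun hg (1 ⊗ₜ _)
        rw [KaehlerDifferential.kerCotangentToTensor_toCotangent] at h0
        show ((TensorProduct.lift f₂) (g _) : R ⧸ H₁) = _
        erw [h0]
        rw [TensorProduct.lift.tmul, show (1 : (B ⧸ J) ⧸ Q) = Algebra.linearMap B _ 1 from (map_one (algebraMap B ((B ⧸ J) ⧸ Q))).symm,
          hf₂]
        show (((1 : B) • f₁ _ : V) : R ⧸ H₁) = _
        rw [one_smul, hf₁]
        rfl
      let χ₂ : B →ₐ[A] R ⧸ H₁ := AlgHom.ofLinearMap (χ₁.toLinearMap - (V.subtype.restrictScalars A).comp D.toLinearMap)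
        (by
          show χ₁ 1 - (D 1 : R ⧸ H₁) = 1
          rw [map_one, D.map_one_eq_zero, ZeroMemClass.coe_zero, sub_zero])
        fun x y => by
          show χ₁ (x * y) - (D (x * y) : R ⧸ H₁) = (χ₁ x - D x) * (χ₁ y - D y)
          rw [map_mul, D.leibniz]
          show _ - (χ₁ x * (D y : R ⧸ H₁) + χ₁ y * (D x : R ⧸ H₁)) = _
          linear_combination (-1 : R ⧸ H₁) * hV _ (D x).2 _ (D y).2
      have hχ₂ : ∀ x, χ₂ x = χ₁ x - (D x : R ⧸ H₁) := fun x => rfl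
      have hsmall : ∀ x, ∀ r, Ideal.Quotient.mk H₁ r = χ₂ x → r - χ x ∈ H := fun x r hr => by
        obtain ⟨l, hl, hlv⟩ := (Ideal.mem_map_iff_of_surjective _ Ideal.Quotient.mk_surjective).mp (D x).2
        have : r - χ x + l ∈ H₁ := by
          rw [← Ideal.Quotient.eq_zero_iff_mem, map_add, map_sub, hr, hlv, hχ₂]
          show χ₁ x - (D x : R ⧸ H₁) - χ₁ x + (D x : R ⧸ H₁) = 0
          ring
        exact (Ideal.add_mem_iff_left _ (hLH i hl)).mp (hLH (i + 1) this)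
      have hH₁ : H₁ ^ 2 = ⊥ := eq_bot_iff.mpr (hH ▸ Ideal.pow_right_mono (hLH (i + 1)) 2)
      obtain ⟨χ₃, hχ₃⟩ := hB R H₁ hH₁ χ₂ ⟨k + k, fun x hx => by
        rw [pow_add] at hx
        refine Submodule.mul_induction_on hx (fun a ha b hb => ?_) (fun a b ha hb => by rw [map_add, ha, hb, add_zero])
        obtain ⟨ra, hra⟩ := Ideal.Quotient.mk_surjective (χ₂ a)
        obtain ⟨rb, hrb⟩ := Ideal.Quotient.mk_surjective (χ₂ b)
        have h1 : ∀ c ∈ I ^ k, χ c ∈ H := fun c hc => by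
          rw [← Ideal.Quotient.eq_zero_iff_mem]
          exact (DFunLike.congr_fun hχ c).trans (hkB c hc)
        rw [map_mul, ← hra, ← hrb, ← map_mul, hHH ra (by simpa using add_mem (hsmall a ra hra) (h1 a ha)) rb
          (by simpa using add_mem (hsmall b rb hrb) (h1 b hb)), map_zero]⟩
      refine ⟨χ₃, AlgHom.ext fun x => ?_, fun x hx => ?_⟩
      · rw [← hχ]
        exact Ideal.Quotient.eq.mpr (hsmall x _ (DFunLike.congr_fun hχ₃ x))
      · rw [← Ideal.Quotient.eq_zero_iff_mem]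
        refine (DFunLike.congr_fun hχ₃ x).trans ?_
        rw [hχ₂, hD x hx, sub_self]
  obtain ⟨χ, hχ, hJ⟩ := hstep (m * k)
  refine ⟨Ideal.Quotient.liftₐ J χ fun x hx => Ideal.mem_bot.mp (hzero ▸ hJ x hx), AlgHom.ext fun c => ?_⟩
  obtain ⟨x, rfl⟩ := Ideal.Quotient.mk_surjective c
  exact DFunLike.congr_fun hχ x

end Groth.L06.FormSmooth
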