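import Groth.Prelude.Def_CAlgX
import Groth.Agent.L06.LeftInverse
import Groth.Agent.L06.FormSmoothJacobiQ
import Mathlib.RingTheory.Smooth.Basic
import Mathlib.RingTheory.Smooth.Kaehler
import Mathlib.RingTheory.Localization.Algebra
import Mathlib.RingTheory.Filtration
import Mathlib.RingTheory.Localization.LocalizationLocalization
import Mathlib.RingTheory.Localization.Submodule
import Mathlib.RingTheory.Spectrum.Prime.Topology

/-! The Jacobian criterion at a prime of a quotient of a formally smooth algebra. -/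

set_option autoImplicit false
set_option maxSynthPendingDepth 3
set_option linter.style.haveILetI false
universe u

namespace Groth.L06.LocJacobi

open IsLocalRing
open scoped TensorProduct
open KaehlerDifferential (kerCotangentToTensor)
open Groth.L06.FormSmooth (exists_descend)

variable {A B C : Type u} [CommRing A] [CommRing B] [CommRing C] [Algebra A B] [Algebra B C] [Algebra A C]
  [IsScalarTower A B C]

theorem exists_mul_leftInverse [Algebra.FormallySmooth A B] (hsurj : Function.Surjective (algebraMap B C))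
    [Module.Finite B (RingHom.ker (algebraMap B C)).Cotangent] (p : Ideal C) [p.IsPrime]
    (h : Function.Injective ((kerCotangentToTensor A B C).lTensor p.ResidueField)) :
    ∃ f : B, algebraMap B C f ∉ p ∧
      ∃ l : C ⊗[B] Ω[B⁄A] →ₗ[B] (RingHom.ker (algebraMap B C)).Cotangent,
        ∀ x, l (kerCotangentToTensor A B C x) = f • x := by
  let K := RingHom.ker (algebraMap B C)
  let eC := RingHom.quotientKerEquivOfSurjective hsurj
  letI : Module C K.Cotangent := Module.compHom _ eC.symm.toRingHom
  haveI : IsScalarTower B C K.Cotangent := IsScalarTower.of_algebraMap_smul fun b v => by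
    show eC.symm (algebraMap B C b) • v = b • v
    rw [show eC.symm (algebraMap B C b) = Ideal.Quotient.mk K b from eC.symm_apply_eq.mpr rfl]
    rfl
  haveI : Module.Finite C K.Cotangent := Module.Finite.of_restrictScalars_finite B C _
  let uC : K.Cotangent →ₗ[C] C ⊗[B] Ω[B⁄A] := (kerCotangentToTensor A B C).extendScalarsOfSurjective hsurj
  let κ := p.ResidueField
  haveI c1 : TensorProduct.CompatibleSMul B C κ K.Cotangent := ⟨fun c x y => by
    obtain ⟨b, rfl⟩ := hsurj c
    rw [algebraMap_smul, algebraMap_smul, TensorProduct.smul_tmul]⟩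
  haveI c2 : TensorProduct.CompatibleSMul B C κ (C ⊗[B] Ω[B⁄A]) := ⟨fun c x y => by
    obtain ⟨b, rfl⟩ := hsurj c
    rw [algebraMap_smul, algebraMap_smul, TensorProduct.smul_tmul]⟩
  let e1 := TensorProduct.equivOfCompatibleSMul B C C κ K.Cotangent
  let e2 := TensorProduct.equivOfCompatibleSMul B C C κ (C ⊗[B] Ω[B⁄A])
  have key : ∀ z, e2 (uC.lTensor κ z) = (kerCotangentToTensor A B C).lTensor κ (e1 z) := by
    intro z
    induction z using TensorProduct.induction_on with
    | zero => simp
    | add x y hx hy => simp only [map_add, hx, hy]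
    | tmul a b => rfl
  have h' : Function.Injective (uC.lTensor κ) := fun x y hxy =>
    e1.injective (h ((key x).symm.trans ((congrArg e2 hxy).trans (key y))))
  obtain ⟨f, hfp, l, hl⟩ := Groth.L06.LeftInverse.exists_notMem_goodIdeal p uC h'
  obtain ⟨f', rfl⟩ := hsurj f
  refine ⟨f', hfp, l.restrictScalars B, fun x => ?_⟩
  have h1 := LinearMap.congr_fun hl x
  rw [LinearMap.smul_apply, LinearMap.id_apply, algebraMap_smul] at h1
  exact h1

theorem formallySmooth_localization_of_leftInverse [Algebra.FormallySmooth A B]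
    (hsurj : Function.Surjective (algebraMap B C)) (W : Submonoid C) {f : B} (hf : algebraMap B C f ∈ W)
    (l : C ⊗[B] Ω[B⁄A] →ₗ[B] (RingHom.ker (algebraMap B C)).Cotangent)
    (hl : ∀ x, l (kerCotangentToTensor A B C x) = f • x)
    (S : Type u) [CommRing S] [Algebra A S] [Algebra C S] [IsScalarTower A C S] [IsLocalization W S] :
    Algebra.FormallySmooth A S := by
  refine Algebra.FormallySmooth.of_comp_surjective fun R _ _ H hH ψ => ?_
  have hnil : IsNilpotent H := ⟨2, hH⟩
  let K := RingHom.ker (algebraMap B C)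
  let πC : B →ₐ[A] C := IsScalarTower.toAlgHom A B C
  let ψC : C →ₐ[A] R ⧸ H := ψ.comp (IsScalarTower.toAlgHom A C S)
  let χ : B →ₐ[A] R := Algebra.FormallySmooth.lift H hnil (ψC.comp πC)
  have hχ : ∀ b, Ideal.Quotient.mk H (χ b) = ψC (πC b) := fun b => Algebra.FormallySmooth.mk_lift _ _ _ b
  have hunit : ∀ r : R, IsUnit (Ideal.Quotient.mk H r) → IsUnit r := fun r hr => by
    obtain ⟨u, hu⟩ := hr.exists_right_inv
    obtain ⟨u, rfl⟩ := Ideal.Quotient.mk_surjective u
    rw [← map_mul, ← map_one (Ideal.Quotient.mk H), Ideal.Quotient.eq] at hu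
    have h2 := Ideal.mul_mem_mul hu hu
    rw [← pow_two, hH, Ideal.mem_bot] at h2
    exact IsUnit.of_mul_eq_one (u * (1 - (r * u - 1))) (by linear_combination (-1 : R) * h2)
  obtain ⟨r, hr⟩ := hunit (χ f) (by
    rw [hχ]
    exact IsUnit.map ψ (IsLocalization.map_units S (⟨_, hf⟩ : W)))
  letI : Algebra B R := χ.toRingHom.toAlgebra
  haveI : IsScalarTower A B R := IsScalarTower.of_algebraMap_eq fun a => (χ.commutes a).symm
  let V : Submodule B R := H.restrictScalars B
  have hV : ∀ a ∈ V, ∀ b ∈ V, a * b = 0 := fun a ha b hb => by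
    have := Ideal.mul_mem_mul (ha : a ∈ H) (hb : b ∈ H)
    rwa [← pow_two, hH, Ideal.mem_bot] at this
  have hKV : ∀ x ∈ K, χ x ∈ H := fun x hx => by
    rw [← Ideal.Quotient.eq_zero_iff_mem, hχ, show πC x = 0 from hx, map_zero]
  let g₀ : K →ₗ[B] V := LinearMap.codRestrict V ((Algebra.linearMap B R).comp (Submodule.subtype _)) fun x => hKV _ x.2
  obtain ⟨g, hg⟩ := exists_descend K.toCotangent K.toCotangent_surjective g₀ fun x hx => by
    rw [LinearMap.mem_ker, ← map_zero K.toCotangent, Ideal.toCotangent_eq, ZeroMemClass.coe_zero, sub_zero, pow_two] at hx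
    refine Subtype.ext ?_
    show χ (x : B) = 0
    refine Submodule.mul_induction_on hx (fun a ha b hb => ?_) (fun a b ha hb => by rw [map_add, ha, hb, add_zero])
    rw [map_mul]
    exact hV _ (hKV _ ha) _ (hKV _ hb)
  let m : V →ₗ[B] V :=
    { toFun := fun v => ⟨(↑r⁻¹ : R) * v, H.mul_mem_left _ v.2⟩
      map_add' := fun v w => Subtype.ext (mul_add _ _ _)
      map_smul' := fun b v => Subtype.ext (show (↑r⁻¹ : R) * (χ b * v) = χ b * (↑r⁻¹ * v) by ring) }
  let D : Derivation A B V :=
    ((m.comp g).comp (l.comp (TensorProduct.mk B C Ω[B⁄A] 1))).compDer (KaehlerDifferential.D A B)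
  have hD : ∀ x (hx : x ∈ K), (D x : R) = χ x := fun x hx => by
    show (↑r⁻¹ : R) * ((g (l ((1 : C) ⊗ₜ[B] KaehlerDifferential.D A B x)) : V) : R) = χ x
    rw [← KaehlerDifferential.kerCotangentToTensor_toCotangent A B C ⟨x, hx⟩, hl, map_smul, hg]
    show (↑r⁻¹ : R) * (χ f * χ x) = χ x
    rw [← hr, ← mul_assoc, Units.inv_mul, one_mul]
  let χ' : B →ₐ[A] R := AlgHom.ofLinearMap (χ.toLinearMap - (V.subtype.restrictScalars A).comp D.toLinearMap)
    (by
      show χ 1 - (D 1 : R) = 1
      rw [map_one, D.map_one_eq_zero, ZeroMemClass.coe_zero, sub_zero])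
    fun x y => by
      show χ (x * y) - (D (x * y) : R) = (χ x - D x) * (χ y - D y)
      rw [map_mul, D.leibniz]
      show _ - (χ x * (D y : R) + χ y * (D x : R)) = _
      linear_combination (-1 : R) * hV _ (D x).2 _ (D y).2
  let χC : C →ₐ[A] R := πC.liftOfSurjective hsurj χ' fun x hx => by
    show χ x - (D x : R) = 0
    rw [hD x hx, sub_self]
  have hχC : ∀ c, Ideal.Quotient.mk H (χC c) = ψC c := fun c => by
    obtain ⟨b, rfl⟩ := hsurj c
    rw [show χC (algebraMap B C b) = χ' b from AlgHom.liftOfSurjective_apply πC hsurj χ' _ b]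
    show Ideal.Quotient.mk H (χ b - (D b : R)) = _
    rw [map_sub, hχ, Ideal.Quotient.eq_zero_iff_mem.mpr (D b).2, sub_zero]
    rfl
  have hW : ∀ w : W, IsUnit (χC w) := fun w => hunit _ (by
    rw [hχC]
    exact IsUnit.map ψ (IsLocalization.map_units S w))
  refine ⟨IsLocalization.liftAlgHom (M := W) (f := χC) hW, ?_⟩
  refine AlgHom.coe_ringHom_injective (IsLocalization.ringHom_ext W (RingHom.ext fun c => ?_))
  show Ideal.Quotient.mk H (IsLocalization.liftAlgHom (M := W) (f := χC) hW (algebraMap C S c)) = ψ (algebraMap C S c)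
  rw [IsLocalization.liftAlgHom_apply, IsLocalization.lift_eq]
  exact hχC c

section

variable (p : Ideal C) [p.IsPrime]

set_option maxHeartbeats 800000 in
theorem injective_of_section (T : Ideal (Localization.AtPrime (p.comap (algebraMap B C))))
    (hT : T ⊓ (RingHom.ker (algebraMap B C)).map (algebraMap B _) ≤
      maximalIdeal _ * (RingHom.ker (algebraMap B C)).map (algebraMap B _))
    (χ : C →ₐ[A] Localization.AtPrime (p.comap (algebraMap B C)) ⧸
      (maximalIdeal _ * (RingHom.ker (algebraMap B C)).map (algebraMap B _) ⊔ T))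
    (hχ : ∀ b : B, Ideal.Quotient.mk (maximalIdeal _ * (RingHom.ker (algebraMap B C)).map (algebraMap B _) ⊔ T)
        (algebraMap B (Localization.AtPrime (p.comap (algebraMap B C))) b) - χ (algebraMap B C b) ∈
      ((RingHom.ker (algebraMap B C)).map (algebraMap B (Localization.AtPrime (p.comap (algebraMap B C))))).map
        (Ideal.Quotient.mk _)) :
    Function.Injective ((kerCotangentToTensor A B C).lTensor p.ResidueField) := by
  let K := RingHom.ker (algebraMap B C)
  let q := p.comap (algebraMap B C)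
  let Bq := Localization.AtPrime q
  let I := K.map (algebraMap B Bq)
  let M := maximalIdeal Bq
  let P0 : Ideal Bq := M * I ⊔ T
  let κ := p.ResidueField
  let W := κ ⊗[B] K.Cotangent
  have hκ0 : ∀ x : B, algebraMap B κ x = 0 ↔ x ∈ q := fun x => by
    rw [IsScalarTower.algebraMap_apply B C κ]
    exact Ideal.algebraMap_residueField_eq_zero
  have hIM : I ≤ M := by
    show K.map (algebraMap B Bq) ≤ maximalIdeal Bq
    rw [← Localization.AtPrime.map_eq_maximalIdeal (I := q)]
    exact Ideal.map_mono fun x (hx : algebraMap B C x = 0) => by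
      show algebraMap B C x ∈ p
      rw [hx]
      exact zero_mem p
  let H : Ideal (Bq ⧸ P0) := I.map (Ideal.Quotient.mk P0)
  have hH : ∀ a ∈ H, ∀ b ∈ H, a * b = 0 := fun a ha b hb => by
    obtain ⟨a, ha', rfl⟩ := (Ideal.mem_map_iff_of_surjective _ Ideal.Quotient.mk_surjective).mp ha
    obtain ⟨b, hb', rfl⟩ := (Ideal.mem_map_iff_of_surjective _ Ideal.Quotient.mk_surjective).mp hb
    rw [← map_mul, Ideal.Quotient.eq_zero_iff_mem]
    exact Ideal.mem_sup_left (Ideal.mul_mem_mul (hIM ha') hb')
  let V : Submodule B (Bq ⧸ P0) := H.restrictScalars B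
  let toA : B →ₐ[A] Bq ⧸ P0 := (Ideal.Quotient.mkₐ A P0).comp (IsScalarTower.toAlgHom A B Bq)
  let δ : B →ₗ[A] V := LinearMap.codRestrict (V.restrictScalars A)
    (toA.toLinearMap - χ.toLinearMap ∘ₗ (IsScalarTower.toAlgHom A B C).toLinearMap) hχ
  have hδ : ∀ b, (δ b : Bq ⧸ P0) = toA b - χ (algebraMap B C b) := fun b => rfl
  let D : Derivation A B V := Derivation.mk' δ fun x y => Subtype.ext (by
    rw [Submodule.coe_add, Submodule.coe_smul, Submodule.coe_smul, hδ, hδ, hδ, Algebra.smul_def, Algebra.smul_def]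
    show toA (x * y) - χ (algebraMap B C (x * y)) =
      toA x * (toA y - χ (algebraMap B C y)) + toA y * (toA x - χ (algebraMap B C x))
    have h1 : (toA x - χ (algebraMap B C x)) * (toA y - χ (algebraMap B C y)) = 0 := hH _ (hχ x) _ (hχ y)
    rw [map_mul toA, map_mul (algebraMap B C), map_mul χ]
    linear_combination (-1 : Bq ⧸ P0) * h1)
  let g0 : K →ₗ[B] W := (TensorProduct.mk B κ K.Cotangent 1).comp K.toCotangent
  have hunits : ∀ x : q.primeCompl, IsUnit (algebraMap B (Module.End B W) x) := fun x => by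
    have hx : algebraMap B κ (x : B) ≠ 0 := fun h => x.2 ((hκ0 _).mp h)
    rw [Module.End.isUnit_iff]
    exact Function.bijective_iff_has_inverse.mpr ⟨fun w => (algebraMap B κ (x : B))⁻¹ • w,
      fun w => by
        show (algebraMap B κ (x : B))⁻¹ • ((x : B) • w) = w
        rw [← algebraMap_smul κ (x : B) w, smul_smul, inv_mul_cancel₀ hx, one_smul],
      fun w => by
        show (x : B) • ((algebraMap B κ (x : B))⁻¹ • w) = w
        rw [← algebraMap_smul κ (x : B), smul_smul, mul_inv_cancel₀ hx, one_smul]⟩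
  let fI : I →ₗ[B] W := IsLocalizedModule.lift q.primeCompl (Algebra.idealMap (S := Bq) K) g0 hunits
  have hfI : ∀ k : K, fI (Algebra.idealMap (S := Bq) K k) = g0 k := fun k =>
    IsLocalizedModule.lift_apply q.primeCompl _ g0 hunits k
  have hkill : ∀ z ∈ M * I, ∃ hz : z ∈ I, fI ⟨z, hz⟩ = 0 := by
    intro z hz
    refine Submodule.mul_induction_on hz (fun a ha i hi => ⟨I.mul_mem_left a hi, ?_⟩)
      (fun x y ⟨hx, hx'⟩ ⟨hy, hy'⟩ => ⟨add_mem hx hy, ?_⟩)
    · obtain ⟨⟨b, s⟩, hbs⟩ := IsLocalization.surj q.primeCompl a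
      have hb : b ∈ q := by
        rw [← IsLocalization.AtPrime.to_map_mem_maximal_iff Bq q, ← hbs]
        exact Ideal.mul_mem_right _ _ ha
      have h1 : (s : B) • (⟨a * i, I.mul_mem_left a hi⟩ : I) = b • ⟨i, hi⟩ := Subtype.ext (by
        show (s : B) • (a * i) = b • i
        rw [Algebra.smul_def, Algebra.smul_def, ← hbs]
        ring)
      have h2 := congrArg fI h1
      rw [map_smul, map_smul, ← algebraMap_smul κ b (fI _), (hκ0 b).mpr hb, zero_smul,
        ← algebraMap_smul κ (s : B) (fI _), smul_eq_zero] at h2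
      exact h2.resolve_left fun h => s.2 ((hκ0 _).mp h)
    · rw [show (⟨x + y, add_mem hx hy⟩ : I) = ⟨x, hx⟩ + ⟨y, hy⟩ from Subtype.ext rfl, map_add, hx', hy', add_zero]
  let p1 : I →ₗ[B] V := LinearMap.codRestrict V
    (((Ideal.Quotient.mkₐ B P0).toLinearMap).comp ((I.restrictScalars B).subtype)) fun x => Ideal.mem_map_of_mem _ x.2
  have hp1 : Function.Surjective p1 := fun y => by
    obtain ⟨i, hi, hiy⟩ := (Ideal.mem_map_iff_of_surjective _ Ideal.Quotient.mk_surjective).mp y.2
    exact ⟨⟨i, hi⟩, Subtype.ext hiy⟩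
  obtain ⟨f', hf'⟩ := exists_descend p1 hp1 fI fun x hx => by
    have h0 : (x : Bq) ∈ P0 := Ideal.Quotient.eq_zero_iff_mem.mp (congrArg Subtype.val hx)
    obtain ⟨a, ha, b, hb, hab⟩ := Submodule.mem_sup.mp h0
    have hbI : b ∈ I := by
      rw [show b = (x : Bq) - a by rw [← hab]; ring]
      exact sub_mem x.2 (Ideal.mul_le_right (I := M) ha)
    obtain ⟨_, h3⟩ := hkill _ (hab ▸ add_mem ha (hT ⟨hb, hbI⟩) : (x : Bq) ∈ M * I)
    exact h3
  let G : Ω[B⁄A] →ₗ[B] W := f'.comp D.liftKaehlerDifferential
  let L : κ ⊗[B] (C ⊗[B] Ω[B⁄A]) →ₗ[κ] W :=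
    LinearMap.liftBaseChange κ ((LinearMap.liftBaseChange C G).restrictScalars B)
  have hL : ∀ z, L ((kerCotangentToTensor A B C).lTensor κ z) = z := by
    intro z
    induction z using TensorProduct.induction_on with
    | zero => simp
    | add x y hx hy => rw [map_add, map_add, hx, hy]
    | tmul c v =>
      obtain ⟨j, rfl⟩ := K.toCotangent_surjective v
      rw [LinearMap.lTensor_tmul, KaehlerDifferential.kerCotangentToTensor_toCotangent]
      simp only [L, LinearMap.liftBaseChange_tmul, LinearMap.coe_restrictScalars, one_smul]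
      show c • f' (D.liftKaehlerDifferential (KaehlerDifferential.D A B (j : B))) = _
      rw [Derivation.liftKaehlerDifferential_comp_D, show D (j : B) = p1 (Algebra.idealMap (S := Bq) K j) from Subtype.ext (by
        show toA (j : B) - χ (algebraMap B C (j : B)) = Ideal.Quotient.mk P0 (algebraMap B Bq (j : B))
        rw [show algebraMap B C (j : B) = 0 from j.2, map_zero, sub_zero]
        rfl), hf', hfI]
      show c • ((1 : κ) ⊗ₜ[B] _) = _
      rw [TensorProduct.smul_tmul', smul_eq_mul, mul_one]
  exact fun x y hxy => (hL x).symm.trans ((congrArg L hxy).trans (hL y))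

omit [p.IsPrime] in
theorem exists_algHom_of_kills {R : Type u} [CommRing R] [Algebra A R] (hsurj : Function.Surjective (algebraMap B C))
    (q0 : B →ₐ[A] R) (h : ∀ x, algebraMap B C x = 0 → q0 x = 0) :
    ∃ φ : C →ₐ[A] R, ∀ b, φ (algebraMap B C b) = q0 b :=
  ⟨(IsScalarTower.toAlgHom A B C).liftOfSurjective hsurj q0 h,
    fun b => AlgHom.liftOfSurjective_apply _ hsurj q0 _ b⟩

/-- the common test: `C_p → (B_q/P₀)/H` -/
theorem exists_test_hom (hsurj : Function.Surjective (algebraMap B C))
    (P0 : Ideal (Localization.AtPrime (p.comap (algebraMap B C)))) :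
    ∃ ψ : Localization.AtPrime p →ₐ[A] (Localization.AtPrime (p.comap (algebraMap B C)) ⧸ P0) ⧸
        ((RingHom.ker (algebraMap B C)).map (algebraMap B _)).map (Ideal.Quotient.mk P0),
      ∀ b : B, ψ (algebraMap C (Localization.AtPrime p) (algebraMap B C b)) =
        Ideal.Quotient.mk _ (Ideal.Quotient.mk P0 (algebraMap B (Localization.AtPrime (p.comap (algebraMap B C))) b)) := by
  let q := p.comap (algebraMap B C)
  let Bq := Localization.AtPrime q
  let H := ((RingHom.ker (algebraMap B C)).map (algebraMap B Bq)).map (Ideal.Quotient.mk P0)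
  obtain ⟨φ, hφ⟩ := exists_algHom_of_kills (A := A) hsurj
    (((Ideal.Quotient.mkₐ A H).comp (Ideal.Quotient.mkₐ A P0)).comp (IsScalarTower.toAlgHom A B Bq))
    fun x hx => Ideal.Quotient.eq_zero_iff_mem.mpr (Ideal.mem_map_of_mem _ (Ideal.mem_map_of_mem _ hx))
  refine ⟨IsLocalization.liftAlgHom (M := p.primeCompl) (f := φ) fun w => ?_, fun b => ?_⟩
  · obtain ⟨b, hb⟩ := hsurj w
    rw [← hb, hφ]
    exact IsUnit.map ((Ideal.Quotient.mk H).comp (Ideal.Quotient.mk P0))
      (IsLocalization.map_units Bq (⟨b, fun hbq => w.2 (hb ▸ hbq)⟩ : q.primeCompl))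
  · rw [IsLocalization.liftAlgHom_apply, IsLocalization.lift_eq]
    exact hφ b

theorem injective_of_formallySmooth (hsurj : Function.Surjective (algebraMap B C))
    [Algebra.FormallySmooth A (Localization.AtPrime p)] :
    Function.Injective ((kerCotangentToTensor A B C).lTensor p.ResidueField) := by
  let q := p.comap (algebraMap B C)
  let Bq := Localization.AtPrime q
  let I := (RingHom.ker (algebraMap B C)).map (algebraMap B Bq)
  let P0 : Ideal Bq := maximalIdeal Bq * I ⊔ ⊥
  let H := I.map (Ideal.Quotient.mk P0)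
  obtain ⟨ψ, hψ⟩ := exists_test_hom (A := A) p hsurj P0
  have hIM : I ≤ maximalIdeal Bq := by
    show (RingHom.ker (algebraMap B C)).map (algebraMap B Bq) ≤ maximalIdeal Bq
    rw [← Localization.AtPrime.map_eq_maximalIdeal (I := q)]
    exact Ideal.map_mono fun x (hx : algebraMap B C x = 0) => by
      show algebraMap B C x ∈ p
      rw [hx]
      exact zero_mem p
  have hH : IsNilpotent H := ⟨2, by
    rw [Submodule.zero_eq_bot, eq_bot_iff, ← Ideal.map_pow, ← Ideal.map_quotient_self P0, pow_two]
    exact Ideal.map_mono ((Ideal.mul_mono_left hIM).trans le_sup_left)⟩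
  refine injective_of_section p ⊥ (by rw [bot_inf_eq]; exact bot_le)
    ((Algebra.FormallySmooth.lift H hH ψ).comp (IsScalarTower.toAlgHom A C (Localization.AtPrime p))) fun b => ?_
  rw [← Ideal.Quotient.eq]
  exact ((Algebra.FormallySmooth.mk_lift H hH ψ _).trans (hψ b)).symm

theorem injective_of_adicSmooth [IsNoetherianRing B] (hsurj : Function.Surjective (algebraMap B C))
    (h : CAlgX.IsAdicFormallySmooth A (Localization.AtPrime p) (maximalIdeal (Localization.AtPrime p))) :
    Function.Injective ((kerCotangentToTensor A B C).lTensor p.ResidueField) := by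
  let q := p.comap (algebraMap B C)
  let Bq := Localization.AtPrime q
  let I := (RingHom.ker (algebraMap B C)).map (algebraMap B Bq)
  let M := maximalIdeal Bq
  haveI : IsNoetherianRing Bq := IsLocalization.isNoetherianRing q.primeCompl Bq inferInstance
  obtain ⟨c, hc⟩ := Ideal.exists_pow_inf_eq_pow_smul M (I : Submodule Bq Bq)
  let N := c + 1
  have hN : M ^ N ⊓ I ≤ M * I := fun x hx => by
    have h1 : x ∈ M ^ N • (⊤ : Submodule Bq Bq) ⊓ (I : Submodule Bq Bq) := by
      rw [smul_eq_mul, Ideal.mul_top]; exact hx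
    rw [hc N (Nat.le_succ c), show N - c = 1 from Nat.add_sub_cancel_left c 1, pow_one] at h1
    exact Submodule.smul_mono le_rfl inf_le_right h1
  let P0 : Ideal Bq := M * I ⊔ M ^ N
  let H := I.map (Ideal.Quotient.mk P0)
  obtain ⟨ψ, hψ⟩ := exists_test_hom (A := A) p hsurj P0
  have hIM : I ≤ M := by
    show (RingHom.ker (algebraMap B C)).map (algebraMap B Bq) ≤ maximalIdeal Bq
    rw [← Localization.AtPrime.map_eq_maximalIdeal (I := q)]
    exact Ideal.map_mono fun x (hx : algebraMap B C x = 0) => by
      show algebraMap B C x ∈ p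
      rw [hx]
      exact zero_mem p
  have hH : H ^ 2 = ⊥ := by
    rw [eq_bot_iff, ← Ideal.map_pow, ← Ideal.map_quotient_self P0, pow_two]
    exact Ideal.map_mono ((Ideal.mul_mono_left hIM).trans le_sup_left)
  have hmax : (maximalIdeal (Localization.AtPrime p)).map ψ.toRingHom ≤
      M.map ((Ideal.Quotient.mk H).comp (Ideal.Quotient.mk P0)) := by
    rw [← Localization.AtPrime.map_eq_maximalIdeal (I := p)]
    refine (Ideal.map_map (f := algebraMap C (Localization.AtPrime p)) ψ.toRingHom).le.trans ?_
    refine Ideal.map_le_iff_le_comap.mpr fun c hc => ?_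
    obtain ⟨b, rfl⟩ := hsurj c
    refine Ideal.mem_comap.mpr ?_
    rw [RingHom.comp_apply]
    show ψ (algebraMap C (Localization.AtPrime p) (algebraMap B C b)) ∈ M.map ((Ideal.Quotient.mk H).comp (Ideal.Quotient.mk P0))
    rw [hψ]
    exact Ideal.mem_map_of_mem ((Ideal.Quotient.mk H).comp (Ideal.Quotient.mk P0))
      ((IsLocalization.AtPrime.to_map_mem_maximal_iff Bq q b).mpr hc)
  obtain ⟨χ, hχ⟩ := h (Bq ⧸ P0) H hH ψ ⟨N, fun x hx => by
    have h1 : ψ x ∈ ((maximalIdeal (Localization.AtPrime p)).map ψ.toRingHom) ^ N := by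
      rw [← Ideal.map_pow]
      exact Ideal.mem_map_of_mem ψ.toRingHom hx
    have h2 := Ideal.pow_right_mono hmax N h1
    rw [← Ideal.map_pow] at h2
    rw [← Ideal.mem_bot]
    refine (Ideal.map_le_iff_le_comap.mpr fun y hy => ?_ :
      (M ^ N).map ((Ideal.Quotient.mk H).comp (Ideal.Quotient.mk P0)) ≤ ⊥) h2
    show Ideal.Quotient.mk H (Ideal.Quotient.mk P0 y) = 0
    rw [Ideal.Quotient.eq_zero_iff_mem.mpr (Ideal.mem_sup_right hy : y ∈ P0), map_zero]⟩
  refine injective_of_section p (M ^ N) hN (χ.comp (IsScalarTower.toAlgHom A C (Localization.AtPrime p))) fun b => ?_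
  rw [← Ideal.Quotient.eq]
  exact ((DFunLike.congr_fun hχ _).trans (hψ b)).symm

end

theorem tfae_localization [Algebra.FormallySmooth A B] (hsurj : Function.Surjective (algebraMap B C))
    [Module.Finite B (RingHom.ker (algebraMap B C)).Cotangent] (p : Ideal C) [p.IsPrime] :
    [Algebra.FormallySmooth A (Localization.AtPrime p),
     Function.Injective ((kerCotangentToTensor A B C).lTensor p.ResidueField),
     ∃ f : C, f ∉ p ∧ Algebra.FormallySmooth A (Localization.Away f)].TFAE := by
  tfae_have 1 → 2 := fun h => by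
    haveI := h
    exact injective_of_formallySmooth p hsurj
  tfae_have 2 → 3 := fun h => by
    obtain ⟨f, hf, l, hl⟩ := exists_mul_leftInverse hsurj p h
    exact ⟨_, hf, formallySmooth_localization_of_leftInverse hsurj _ (Submonoid.mem_powers _) l hl _⟩
  tfae_have 3 → 1 := fun ⟨f, hf, h⟩ => by
    haveI := h
    have hu : IsUnit (algebraMap C (Localization.AtPrime p) f) :=
      IsLocalization.map_units (Localization.AtPrime p) (⟨f, hf⟩ : p.primeCompl)
    letI := (IsLocalization.Away.lift (S := Localization.Away f) f hu).toAlgebra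
    haveI : IsScalarTower C (Localization.Away f) (Localization.AtPrime p) :=
      IsScalarTower.of_algebraMap_eq fun c => (IsLocalization.Away.lift_eq f hu c).symm
    haveI : IsScalarTower A (Localization.Away f) (Localization.AtPrime p) :=
      IsScalarTower.of_algebraMap_eq fun a => by
        rw [IsScalarTower.algebraMap_apply A C (Localization.AtPrime p), IsScalarTower.algebraMap_apply A C (Localization.Away f),
          ← IsScalarTower.algebraMap_apply C (Localization.Away f)]
    haveI : IsLocalization (p.primeCompl.map (algebraMap C (Localization.Away f))) (Localization.AtPrime p) :=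
      IsLocalization.isLocalization_of_submonoid_le (Localization.Away f) _ (Submonoid.powers f) p.primeCompl
        (Submonoid.powers_le.mpr hf)
    haveI : Algebra.FormallySmooth (Localization.Away f) (Localization.AtPrime p) :=
      Algebra.FormallySmooth.of_isLocalization (p.primeCompl.map (algebraMap C (Localization.Away f)))
    exact Algebra.FormallySmooth.comp A (Localization.Away f) _
  tfae_finish

theorem isOpen_formallySmooth [Algebra.FormallySmooth A B] (hsurj : Function.Surjective (algebraMap B C))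
    [Module.Finite B (RingHom.ker (algebraMap B C)).Cotangent] :
    IsOpen {p : PrimeSpectrum C | Algebra.FormallySmooth A (Localization.AtPrime p.asIdeal)} := by
  refine isOpen_iff_forall_mem_open.mpr fun p hp => ?_
  have key : ∀ q : PrimeSpectrum C, Algebra.FormallySmooth A (Localization.AtPrime q.asIdeal) ↔
      ∃ f : C, f ∉ q.asIdeal ∧ Algebra.FormallySmooth A (Localization.Away f) :=
    fun q => (tfae_localization hsurj q.asIdeal).out 0 2
  obtain ⟨f, hf, h⟩ := (key p).mp hp
  exact ⟨PrimeSpectrum.basicOpen f, fun q hq => (key q).mpr ⟨f, hq, h⟩, PrimeSpectrum.isOpen_basicOpen, hf⟩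

end Groth.L06.LocJacobi
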