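import Groth.Agent.L06.FormSmoothJacobi
import Mathlib.RingTheory.EssentialFiniteness
import Mathlib.RingTheory.Smooth.Fiber
import Mathlib.RingTheory.Kaehler.Polynomial
import Mathlib.RingTheory.Localization.AtPrime.Basic
import Mathlib.RingTheory.Localization.Ideal

/-! Adic formal smoothness of local algebras essentially of finite type is formal smoothness. -/

set_option autoImplicit false
set_option maxSynthPendingDepth 3
set_option linter.style.haveILetI false
universe u

namespace Groth.L06.FormSmooth

open IsLocalRing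

theorem adicSmooth_of_formallySmooth {A S : Type u} [CommRing A] [CommRing S] [Algebra A S] [Algebra.FormallySmooth A S]
    (𝔫 : Ideal S) : CAlgX.IsAdicFormallySmooth A S 𝔫 := fun _ _ _ J hJ ψ _ =>
  ⟨Algebra.FormallySmooth.lift J ⟨2, hJ⟩ ψ, Algebra.FormallySmooth.comp_lift J ⟨2, hJ⟩ ψ⟩

theorem formallySmooth_of_adicSmooth {A S : Type u} [CommRing A] [IsNoetherianRing A] [CommRing S] [IsLocalRing S]
    [Algebra A S] [Algebra.EssFiniteType A S] (h : CAlgX.IsAdicFormallySmooth A S (maximalIdeal S)) :
    Algebra.FormallySmooth A S := by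
  let C := Algebra.EssFiniteType.subalgebra A S
  let M := Algebra.EssFiniteType.submonoid A S
  obtain ⟨n, f₀, hf₀⟩ := Algebra.FiniteType.iff_quotient_mvPolynomial''.mp
    (inferInstance : Algebra.FiniteType A C)
  let g : MvPolynomial (Fin n) A →ₐ[A] S := (IsScalarTower.toAlgHom A C S).comp f₀
  let q := (maximalIdeal S).comap g.toRingHom
  haveI : q.IsPrime := Ideal.IsPrime.comap _
  let P := Localization.AtPrime q
  have hu : ∀ y : q.primeCompl, IsUnit (g y) := fun y => IsLocalRing.notMem_maximalIdeal.mp y.2
  let fP : P →ₐ[A] S := IsLocalization.liftAlgHom (M := q.primeCompl) (f := g) hu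
  have hfP : ∀ a, fP (algebraMap _ P a) = g a := fun a => IsLocalization.lift_eq (g := g.toRingHom) hu a
  have hs : Function.Surjective fP := by
    intro x
    obtain ⟨x, ⟨s, hs⟩, rfl⟩ := IsLocalization.exists_mk'_eq M x
    obtain ⟨a, rfl⟩ := hf₀ x
    obtain ⟨b, rfl⟩ := hf₀ s
    have hb : b ∈ q.primeCompl := fun hb => (IsLocalRing.mem_maximalIdeal _).mp hb hs
    refine ⟨IsLocalization.mk' P a (⟨b, hb⟩ : q.primeCompl), ?_⟩
    rw [eq_comm, IsLocalization.mk'_eq_iff_eq_mul]
    have h1 : IsLocalization.mk' P a (⟨b, hb⟩ : q.primeCompl) * algebraMap _ P b = algebraMap _ P a :=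
      IsLocalization.mk'_spec ..
    have h2 := congrArg fP h1
    rw [map_mul, hfP, hfP] at h2
    exact h2.symm
  letI : Algebra P S := fP.toRingHom.toAlgebra
  haveI : IsScalarTower A P S := IsScalarTower.of_algebraMap_eq fun a => (fP.commutes a).symm
  haveI : IsNoetherianRing P := IsLocalization.isNoetherianRing q.primeCompl P inferInstance
  haveI : Algebra.FormallyEtale (MvPolynomial (Fin n) A) P := .of_isLocalization q.primeCompl
  haveI : Algebra.FormallySmooth A P := .comp _ (MvPolynomial (Fin n) A) _
  haveI : Module.Free P (Ω[P⁄A]) :=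
    .of_equiv (KaehlerDifferential.tensorKaehlerEquivOfFormallyEtale A (MvPolynomial (Fin n) A) P)
  haveI : Module.Finite P (Ω[P⁄A]) :=
    .equiv (KaehlerDifferential.tensorKaehlerEquivOfFormallyEtale A (MvPolynomial (Fin n) A) P)
  exact (Algebra.FormallySmooth.iff_injective_cotangentComplexBaseChange_residueField P hs
    (Ideal.fg_of_isNoetherianRing _)).mpr (injective_cotangent_of_adicSmooth hs h)

theorem adicSmooth_iff_formallySmooth {A S : Type u} [CommRing A] [IsNoetherianRing A] [CommRing S] [IsLocalRing S]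
    [Algebra A S] [Algebra.EssFiniteType A S] :
    CAlgX.IsAdicFormallySmooth A S (maximalIdeal S) ↔ Algebra.FormallySmooth A S :=
  ⟨formallySmooth_of_adicSmooth, fun _ => adicSmooth_of_formallySmooth _⟩

end Groth.L06.FormSmooth
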