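import Groth.Agent.L04.CMBasic
import Groth.Agent.L06.SupportDim
import Groth.Agent.L20.LocalCriterion
import Groth.Agent.S2083
import Mathlib.RingTheory.Regular.RegularSequence
import Mathlib.RingTheory.KrullDimension.Regular

/-! Regular sequences on Cohen–Macaulay modules and a flatness criterion by regular sequences. -/

set_option autoImplicit false
set_option linter.style.haveILetI false
universe u

namespace Groth.L06.CMSequences

open IsLocalRing TensorProduct RingTheory.Sequence Pointwise

section
variable {A : Type u} [CommRing A] [IsLocalRing A] [IsNoetherianRing A]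

theorem le_supportDim_add (M : Type u) [AddCommGroup M] [Module A M] [Module.Finite A M] (l : List A)
    (h : ∀ x ∈ l, x ∈ maximalIdeal A) :
    Module.supportDim A M ≤ Module.supportDim A (M ⧸ (Ideal.ofList l • (⊤ : Submodule A M))) + l.length := by
  rw [Groth.L06.SupportDim.supportDim_eq_quotient, Groth.L06.SupportDim.supportDim_quotient_smul]
  exact Groth.L06.SupportDim.le_sup_ofList_add l _ fun x hx => (IsLocalRing.ringJacobson_eq_maximalIdeal A).symm ▸ h x hx

theorem supportDim_cons (M : Type u) [AddCommGroup M] [Module A M] (x : A) (l : List A) :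
    Module.supportDim A (M ⧸ (Ideal.ofList (x :: l) • (⊤ : Submodule A M))) =
      Module.supportDim A (QuotSMulTop x M ⧸ (Ideal.ofList l • (⊤ : Submodule A (QuotSMulTop x M)))) :=
  Module.supportDim_eq_of_equiv (Submodule.quotOfListConsSMulTopEquivQuotSMulTopInner M x l)

theorem nat_of_nontrivial (M : Type u) [AddCommGroup M] [Module A M] [Module.Finite A M] [Nontrivial M] :
    ∃ n : ℕ, Module.supportDim A M = n := by
  rw [Groth.L06.SupportDim.supportDim_eq_quotient]
  refine Groth.L06.SupportDim.exists_dim_eq_natCast fun h => ?_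
  rw [Module.annihilator_eq_top_iff] at h
  exact not_subsingleton M h

theorem nontrivial_quotient (M : Type u) [AddCommGroup M] [Module A M] [Module.Finite A M] [Nontrivial M]
    (l : List A) (h : ∀ x ∈ l, x ∈ maximalIdeal A) :
    Nontrivial (M ⧸ (Ideal.ofList l • (⊤ : Submodule A M))) := by
  refine Submodule.Quotient.nontrivial_iff.mpr (Groth.L04.smul_top_ne_top_of_nontrivial ?_)
  exact ne_top_of_le_ne_top (maximalIdeal.isMaximal A).ne_top (Ideal.span_le.mpr h)

theorem regular_of_dim : ∀ (l : List A) (M : Type u) [AddCommGroup M] [Module A M] [Module.Finite A M],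
    LocCoh.IsCohenMacaulayModule A M → (∀ x ∈ l, x ∈ maximalIdeal A) →
    Module.supportDim A (M ⧸ (Ideal.ofList l • (⊤ : Submodule A M))) + l.length = Module.supportDim A M →
    IsWeaklyRegular M l
  | [], M, _, _, _, _, _, _ => IsWeaklyRegular.nil A M
  | x :: l, M, _, _, _, hM, hl, heq => by
    haveI := Groth.L04.nontrivial_of_isCohenMacaulayModule hM
    have hx := hl x (by simp)
    have hl' : ∀ y ∈ l, y ∈ maximalIdeal A := fun y hy => hl y (List.mem_cons_of_mem _ hy)
    let e : (M ⧸ (Ideal.span {x} • (⊤ : Submodule A M))) ≃ₗ[A] QuotSMulTop x M :=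
      Submodule.quotEquivOfEq _ _ (Submodule.ideal_span_singleton_smul x ⊤)
    haveI : Nontrivial (M ⧸ (Ideal.span {x} • (⊤ : Submodule A M))) := by
      rw [← Ideal.ofList_singleton]
      exact nontrivial_quotient M [x] (by simpa using hx)
    haveI : Nontrivial (QuotSMulTop x M) := e.symm.toEquiv.nontrivial
    haveI := nontrivial_quotient (QuotSMulTop x M) l hl'
    have h1 := le_supportDim_add (A := A) (QuotSMulTop x M) l hl'
    have h2 := le_supportDim_add (A := A) M [x] (by simpa using hx)
    rw [Ideal.ofList_singleton, Module.supportDim_eq_of_equiv e] at h2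
    rw [supportDim_cons] at heq
    obtain ⟨n, hn⟩ := nat_of_nontrivial (A := A) M
    obtain ⟨m, hm⟩ := nat_of_nontrivial (A := A) (QuotSMulTop x M)
    obtain ⟨q, hq⟩ := nat_of_nontrivial (A := A) (QuotSMulTop x M ⧸ (Ideal.ofList l • (⊤ : Submodule A (QuotSMulTop x M))))
    rw [hn, hm] at h2
    rw [hn, hq] at heq
    rw [hm, hq] at h1
    simp only [List.length_cons, List.length_nil] at heq h1 h2
    norm_cast at heq h1 h2
    have hdim : Module.supportDim A (M ⧸ (Ideal.span {x} • (⊤ : Submodule A M))) + 1 = Module.supportDim A M := by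
      rw [Module.supportDim_eq_of_equiv e, hm, hn]; exact_mod_cast (show m + 1 = n by omega)
    obtain ⟨hreg, hCM, -⟩ := Groth.Agent.S2083.result hM x hx hdim
    rw [isWeaklyRegular_cons_iff]
    refine ⟨hreg, (e.isWeaklyRegular_congr l).mp (regular_of_dim l _ hCM hl' ?_)⟩
    have e2 := Submodule.Quotient.equiv (Ideal.ofList l • (⊤ : Submodule A (M ⧸ (Ideal.span {x} • (⊤ : Submodule A M)))))
      (Ideal.ofList l • (⊤ : Submodule A (QuotSMulTop x M))) e (by simp [Submodule.map_smul''])
    rw [Module.supportDim_eq_of_equiv e, hm, Module.supportDim_eq_of_equiv e2, hq]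
    exact_mod_cast (show q + l.length = m by omega)

theorem cm_of_unmixed : ∀ (n : ℕ) (M : Type u) [AddCommGroup M] [Module A M] [Module.Finite A M] [Nontrivial M],
    Module.supportDim A M ≤ n →
    (∀ xs : List A, (∀ x ∈ xs, x ∈ maximalIdeal A) →
      Module.supportDim A (M ⧸ (Ideal.ofList xs • (⊤ : Submodule A M))) + xs.length = Module.supportDim A M →
        ∀ p ∈ associatedPrimes A (M ⧸ (Ideal.ofList xs • (⊤ : Submodule A M))),
          ringKrullDim (A ⧸ p) = Module.supportDim A (M ⧸ (Ideal.ofList xs • (⊤ : Submodule A M)))) →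
    LocCoh.IsCohenMacaulayModule A M := by
  intro n
  induction n with
  | zero =>
    intro M _ _ _ _ hle _
    refine le_antisymm (hle.trans ?_) Groth.L04.depth_le_supportDim
    exact_mod_cast (zero_le : (0 : ℕ∞) ≤ LocCoh.depth A M)
  | succ n ih =>
    intro M _ _ _ _ hle h
    obtain ⟨N, hN⟩ := nat_of_nontrivial (A := A) M
    rcases Nat.eq_zero_or_pos N with rfl | hpos
    · exact le_antisymm (hN.le.trans (by exact_mod_cast (zero_le : (0 : ℕ∞) ≤ LocCoh.depth A M))) Groth.L04.depth_le_supportDim
    let e0 : (M ⧸ (Ideal.ofList ([] : List A) • (⊤ : Submodule A M))) ≃ₗ[A] M :=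
      Submodule.quotEquivOfEqBot _ (by rw [Ideal.ofList_nil, Submodule.bot_smul])
    have hass : ∀ p ∈ associatedPrimes A M, ringKrullDim (A ⧸ p) = Module.supportDim A M := by
      intro p hp
      have h0 := h [] (by simp) (by rw [Module.supportDim_eq_of_equiv e0]; simp) p
        (by rw [LinearEquiv.AssociatedPrimes.eq e0]; exact hp)
      rwa [Module.supportDim_eq_of_equiv e0] at h0
    obtain ⟨x, hx, hxass⟩ : ∃ x ∈ maximalIdeal A, ∀ p ∈ associatedPrimes A M, x ∉ p := by
      by_contra! hcon
      obtain ⟨p, hp, hpm⟩ := (Ideal.subset_union_prime_finite (associatedPrimes.finite A M) (f := id) ⊥ ⊥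
        (fun p hp _ _ => IsAssociatedPrime.isPrime hp) (I := maximalIdeal A)).mp (fun x hx => by
          obtain ⟨p, hp, hxp⟩ := hcon x hx
          exact Set.mem_biUnion hp hxp)
      have hpp := IsAssociatedPrime.isPrime hp
      have hpeq : p = maximalIdeal A := le_antisymm (le_maximalIdeal hpp.ne_top) hpm
      have := hass p hp
      rw [hpeq, ringKrullDim_eq_zero_of_isField (Ideal.Quotient.field (maximalIdeal A)).toIsField, hN] at this
      norm_cast at this
      omega
    have hreg : IsSMulRegular M x := by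
      have hmem : x ∉ ⋃ p ∈ associatedPrimes A M, (p : Set A) := by simp only [Set.mem_iUnion]; push Not; exact hxass
      rw [biUnion_associatedPrimes_eq_compl_regular, Set.mem_compl_iff, not_not] at hmem
      exact hmem
    have hxl : ∀ y ∈ [x], y ∈ maximalIdeal A := by simpa using hx
    let e1 : (M ⧸ (Ideal.ofList [x] • (⊤ : Submodule A M))) ≃ₗ[A] QuotSMulTop x M :=
      Submodule.quotEquivOfEq _ _ (by rw [Ideal.ofList_singleton]; exact Submodule.ideal_span_singleton_smul x ⊤)
    haveI := nontrivial_quotient M [x] hxl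
    haveI : Nontrivial (QuotSMulTop x M) := e1.symm.toEquiv.nontrivial
    have hdim := Groth.L04.supportDim_quotient_ofList_add ((isWeaklyRegular_singleton_iff M x).mpr hreg) hxl
    rw [Module.supportDim_eq_of_equiv e1] at hdim
    obtain ⟨m, hm⟩ := nat_of_nontrivial (A := A) (QuotSMulTop x M)
    rw [hm, hN] at hdim
    simp only [List.length_cons, List.length_nil] at hdim
    norm_cast at hdim
    rw [hN] at hle
    norm_cast at hle
    have hCM : LocCoh.IsCohenMacaulayModule A (QuotSMulTop x M) := by
      refine ih _ (by rw [hm]; exact_mod_cast (show m ≤ n by omega)) fun xs hxs hd p hp => ?_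
      rw [← supportDim_cons] at hd ⊢
      refine h (x :: xs) (List.forall_mem_cons.mpr ⟨hx, hxs⟩) ?_ p ?_
      · rw [List.length_cons, Nat.cast_succ, ← add_assoc, hd, hm, hN]
        exact_mod_cast (show m + 1 = N by omega)
      · rw [LinearEquiv.AssociatedPrimes.eq (Submodule.quotOfListConsSMulTopEquivQuotSMulTopInner M x xs)]
        exact hp
    have hdep := Groth.L04.depth_quotient_ofList_add ((isWeaklyRegular_singleton_iff M x).mpr hreg) hxl
    unfold LocCoh.IsCohenMacaulayModule at hCM ⊢
    rw [show LocCoh.depth A M = LocCoh.depth A (QuotSMulTop x M) + 1 by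
      rw [← hdep, show LocCoh.depth A (M ⧸ (Ideal.ofList [x] • (⊤ : Submodule A M))) = LocCoh.depth A (QuotSMulTop x M) from
        Groth.L04.idealDepth_congr e1]
      rfl]
    rw [WithBot.coe_add, ← hCM, hm, hN, WithBot.coe_one]
    exact_mod_cast (show N = m + 1 by omega)

end

section Flat
variable {R : Type u} [CommRing R] (M : Type u) [AddCommGroup M] [Module R M]

theorem inj_sup (I : Ideal R) (x : R) (hI : Function.Injective (I.subtype.lTensor M))
    (hx : ∀ m : M, x • m ∈ I • (⊤ : Submodule R M) → m ∈ I • (⊤ : Submodule R M)) :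
    Function.Injective ((I ⊔ Ideal.span {x} : Ideal R).subtype.lTensor M) := by
  let I' : Ideal R := I ⊔ Ideal.span {x}
  let incl : I →ₗ[R] I' := Submodule.inclusion le_sup_left
  let x' : I' := ⟨x, Ideal.mem_sup_right (Ideal.mem_span_singleton_self x)⟩
  have hdec : ∀ z : M ⊗[R] I', ∃ (w : M ⊗[R] I) (m : M), z = incl.lTensor M w + m ⊗ₜ x' := by
    intro z
    induction z using TensorProduct.induction_on with
    | zero => exact ⟨0, 0, by simp⟩
    | tmul m a =>
      obtain ⟨a, ha⟩ := a
      obtain ⟨i, hi, y, hy, rfl⟩ := Submodule.mem_sup.mp ha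
      obtain ⟨c, rfl⟩ := Ideal.mem_span_singleton'.mp hy
      refine ⟨m ⊗ₜ ⟨i, hi⟩, c • m, ?_⟩
      rw [LinearMap.lTensor_tmul, TensorProduct.smul_tmul, ← TensorProduct.tmul_add]
      rfl
    | add a b ha hb =>
      obtain ⟨w, m, rfl⟩ := ha
      obtain ⟨w', m', rfl⟩ := hb
      exact ⟨w + w', m + m', by rw [map_add, TensorProduct.add_tmul]; abel⟩
  let ρ := TensorProduct.rid R M
  have hIM : ∀ w : M ⊗[R] I, ρ (I.subtype.lTensor M w) ∈ I • (⊤ : Submodule R M) := by
    intro w
    induction w using TensorProduct.induction_on with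
    | zero => simp
    | tmul m a => exact Submodule.smul_mem_smul a.2 trivial
    | add a b ha hb => rw [map_add, map_add]; exact add_mem ha hb
  have hmem : ∀ m ∈ I • (⊤ : Submodule R M), ∃ w : M ⊗[R] I, m ⊗ₜ[R] x' = incl.lTensor M w := by
    intro m hm
    refine Submodule.smul_induction_on hm (fun a ha n _ => ⟨n ⊗ₜ ⟨x * a, I.mul_mem_left x ha⟩, ?_⟩)
      fun a b ⟨w, hw⟩ ⟨w', hw'⟩ => ⟨w + w', by rw [map_add, TensorProduct.add_tmul, hw, hw']⟩
    rw [LinearMap.lTensor_tmul, TensorProduct.smul_tmul]
    congr 1
    exact Subtype.ext (mul_comm a x)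
  rw [injective_iff_map_eq_zero]
  intro z hz
  obtain ⟨w, m, rfl⟩ := hdec z
  have hincl : ∀ w, I'.subtype.lTensor M (incl.lTensor M w) = I.subtype.lTensor M w := fun w => by
    rw [← LinearMap.lTensor_comp_apply]; rfl
  have hz' := congrArg ρ hz
  rw [map_add, map_add, hincl, LinearMap.lTensor_tmul, map_zero, TensorProduct.rid_tmul] at hz'
  have hm : m ∈ I • (⊤ : Submodule R M) := hx m (by
    rw [show x • m = -ρ (I.subtype.lTensor M w) from eq_neg_of_add_eq_zero_right hz']
    exact neg_mem (hIM w))
  obtain ⟨w', hw'⟩ := hmem m hm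
  rw [hw', ← map_add] at hz ⊢
  rw [hincl] at hz
  rw [hI (hz.trans (map_zero _).symm), map_zero]

theorem inj_of_isWeaklyRegular : ∀ (l : List R), IsWeaklyRegular M l →
    Function.Injective ((Ideal.ofList l).subtype.lTensor M) := by
  intro l
  induction l using List.reverseRecOn with
  | nil =>
    intro _
    haveI : Subsingleton (Ideal.ofList ([] : List R)) := by rw [Ideal.ofList_nil]; infer_instance
    haveI : Subsingleton (M ⊗[R] (Ideal.ofList ([] : List R))) := by
      refine subsingleton_of_forall_eq 0 fun z => ?_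
      induction z using TensorProduct.induction_on with
      | zero => rfl
      | tmul m a => rw [Subsingleton.elim a 0, TensorProduct.tmul_zero]
      | add a b ha hb => rw [ha, hb, add_zero]
    exact Function.injective_of_subsingleton _
  | append_singleton l x ih =>
    intro h
    rw [isWeaklyRegular_append_iff, isWeaklyRegular_singleton_iff] at h
    rw [Ideal.ofList_append, Ideal.ofList_singleton]
    refine inj_sup M _ x (ih h.1) fun m hm => ?_
    rw [← Submodule.Quotient.mk_eq_zero] at hm ⊢
    exact isSMulRegular_iff_right_eq_zero_of_smul.mp h.2 _ hm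

end Flat

end Groth.L06.CMSequences
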