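import Groth.Agent.L06.UnibranchNormal
import Groth.Agent.L06.NormalTensorApps
import Groth.Agent.L27.OlivierMain
import Groth.Agent.S0543
import Mathlib.RingTheory.AdicCompletion.LocalRing
import Mathlib.RingTheory.Henselian

/-! Unibranchness and completion for geometrically normal formal fibres. -/

set_option autoImplicit false
set_option maxSynthPendingDepth 3
set_option linter.style.haveILetI false
noncomputable section
universe u
open TensorProduct
open Groth.L28.Unibranch (toNorm toNorm_isIntegral)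

namespace Groth.L06.Unibranch

variable (A : Type u) [CommRing A] [IsNoetherianRing A] [IsLocalRing A]

theorem maximalIdeal_cpl :
    IsLocalRing.maximalIdeal (EGA4.Cpl A) = (IsLocalRing.maximalIdeal A).map (algebraMap A (EGA4.Cpl A)) :=
  AdicCompletion.maximalIdeal_eq_map_of_fg (IsNoetherian.noetherian _)

theorem henselian_cpl : HenselianLocalRing (EGA4.Cpl A) := by
  haveI : IsAdicComplete (IsLocalRing.maximalIdeal (EGA4.Cpl A)) (EGA4.Cpl A) := by
    rw [maximalIdeal_cpl A]
    exact (IsAdicComplete.map_algebraMap_iff _ (EGA4.Cpl A)).mpr (AdicCompletion.isAdicComplete (IsNoetherian.noetherian _))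
  exact ⟨fun f hf a h1 h2 => HenselianRing.is_henselian f hf a h1 (h2.map _)⟩

theorem exists_sub_mem_maximalIdeal (c : EGA4.Cpl A) :
    ∃ a : A, c - algebraMap A (EGA4.Cpl A) a ∈ IsLocalRing.maximalIdeal (EGA4.Cpl A) := by
  obtain ⟨a, ha⟩ := Ideal.Quotient.mk_surjective (AdicCompletion.evalOneₐ (IsLocalRing.maximalIdeal A) c)
  refine ⟨a, ?_⟩
  rw [maximalIdeal_cpl A, ← AdicCompletion.ker_evalOneₐ_eq_map _ (IsNoetherian.noetherian _)]
  show AdicCompletion.evalOneₐ _ (c - algebraMap A _ a) = 0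
  rw [map_sub, AlgHom.commutes, ← ha]
  exact sub_self _

theorem isNormalHom_cpl (hA : EGA4.HasGeomNormalFormalFibres A) : EGA4.IsNormalHom A (EGA4.Cpl A) :=
  ⟨AdicCompletion.flat_of_isNoetherian _, hA⟩

theorem isReduced_cpl (hA : EGA4.HasGeomNormalFormalFibres A) [IsReduced A] : IsReduced (EGA4.Cpl A) := by
  haveI : IsNoetherianRing (EGA4.Cpl A) := Groth.Agent.S0543.result A _
  haveI := (isNormalHom_cpl A hA).1
  haveI : IsReduced (EGA4.Cpl A ⊗[A] A) := Groth.L06.NormalTensor.isReduced_of_field_tensor (EGA4.Cpl A)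
    (fun κ _ _ => Groth.L06.NormalTensor.isReduced_fibre_tensor (isNormalHom_cpl A hA) κ) A
  exact isReduced_of_injective (Algebra.TensorProduct.rid A A (EGA4.Cpl A)).symm.toAlgHom
    (Algebra.TensorProduct.rid A A (EGA4.Cpl A)).symm.injective

theorem isDomain_of_algebraMap_cpl [IsDomain (EGA4.Cpl A)] : IsDomain A :=
  haveI := Groth.L06.NormalAscent.faithfullyFlat_cpl A
  (FaithfulSMul.algebraMap_injective A (EGA4.Cpl A)).isDomain _

theorem unibranch_cpl_iff [IsDomain A] (hA : EGA4.HasGeomNormalFormalFibres A) :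
    (IsDomain (EGA4.Cpl A) ↔ CAlg2.IsUnibranch A) ∧
      (CAlg2.IsGeomUnibranch (EGA4.Cpl A) ↔ CAlg2.IsGeomUnibranch A) := by
  let C := EGA4.Cpl A
  haveI : IsNoetherianRing C := Groth.Agent.S0543.result A _
  haveI := Groth.L06.NormalAscent.faithfullyFlat_cpl A
  haveI : HenselianLocalRing C := henselian_cpl A
  haveI : IsLocalHom (algebraMap A C) := by
    refine ⟨fun a ha => ?_⟩
    by_contra hu
    refine (IsLocalRing.mem_maximalIdeal _).mp ?_ ha
    rw [maximalIdeal_cpl A]
    exact Ideal.mem_map_of_mem _ ((IsLocalRing.mem_maximalIdeal a).mpr hu)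
  haveI hdred : IsDomain (CAlg2.red A) := by
    refine (Ideal.Quotient.isDomain_iff_prime _).mpr ?_
    rw [nilradical_eq_zero]
    exact Ideal.isPrime_bot
  haveI : IsIntegrallyClosed (CAlg2.normRed A) :=
    integralClosure.isIntegrallyClosedOfFiniteExtension (FractionRing (CAlg2.red A))
  let N := CAlg2.normRed A
  letI : Algebra A N := (toNorm A).toAlgebra
  haveI : Algebra.IsIntegral A N := ⟨toNorm_isIntegral A⟩
  obtain ⟨φ, hφ, hint, hker, hbir, hinj⟩ := exists_tensor_normalization (A := A) (A' := C) A (fun _ => rfl)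
  let T := C ⊗[A] N
  obtain ⟨hTn, hTI⟩ := Groth.L06.NormalTensor.normal_tensor_domain (isNormalHom_cpl A hA) N
  let ψ : C →+* T := φ.toRingHom.comp (Algebra.TensorProduct.lid A C).symm.toRingHom
  have hψ : ∀ c, ψ c = c ⊗ₜ 1 := fun c => by
    show φ ((1 : A) ⊗ₜ c) = _
    rw [hφ, map_one]
  have hψalg : ψ = algebraMap C T := RingHom.ext hψ
  have hψinj : Function.Injective ψ := (hinj inferInstance).comp (Algebra.TensorProduct.lid A C).symm.injective
  have hψint : ψ.IsIntegral := RingHom.IsIntegral.trans _ _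
    (RingHom.IsIntegral.of_finite (RingHom.Finite.of_surjective _ (Algebra.TensorProduct.lid A C).symm.surjective)) hint
  haveI : Algebra.IsIntegral C T := ⟨fun x => by
    have := hψint x
    rw [hψalg] at this
    exact this⟩
  have hbir' : ∀ t : T, ∃ b a : C, (∀ x, ψ b * x = 0 → x = 0) ∧ ψ b * t = ψ a := fun t => by
    obtain ⟨b, a, hb, hab⟩ := hbir t
    obtain ⟨b, rfl⟩ := (Algebra.TensorProduct.lid A C).symm.surjective b
    obtain ⟨a, rfl⟩ := (Algebra.TensorProduct.lid A C).symm.surjective a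
    exact ⟨b, a, hb, hab⟩
  haveI : Nontrivial T := hψinj.nontrivial
  have hlocal : IsLocalRing N → IsLocalRing T := fun _ =>
    Groth.L27.Olivier.isLocalRing_tensor A C N (exists_sub_mem_maximalIdeal A)
  have hdomT : IsLocalRing T → IsDomain T := fun _ => by
    haveI : NoZeroDivisors T := ⟨fun {x y} hxy => by
      obtain ⟨e, he, hex, hey⟩ := hTI x y hxy
      rcases IsLocalRing.isUnit_or_isUnit_one_sub_self e with h | h
      · right; exact h.mul_right_eq_zero.mp hey
      · left; exact h.mul_right_eq_zero.mp (by rw [sub_mul, one_mul, hex, sub_self])⟩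
    exact NoZeroDivisors.to_isDomain _
  have hdomC : IsDomain C → IsLocalRing T := fun _ => by
    haveI : NoZeroDivisors T := ⟨fun {x y} hxy => by
      obtain ⟨b, a, hb, hab⟩ := hbir' x
      obtain ⟨d, c, hd, hcd⟩ := hbir' y
      have h0 : ψ (a * c) = 0 := by rw [map_mul, ← hab, ← hcd, mul_mul_mul_comm, hxy, mul_zero]
      rcases mul_eq_zero.mp (hψinj (h0.trans (map_zero ψ).symm)) with h1 | h1
      · left; exact hb x (by rw [hab, h1, map_zero])
      · right; exact hd y (by rw [hcd, h1, map_zero])⟩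
    haveI : IsDomain T := NoZeroDivisors.to_isDomain _
    let K := FractionRing T
    haveI := Groth.L27.Olivier.isLocalRing_integralClosure C K
    let j : T →+* integralClosure C K := (algebraMap T K).codRestrict _ fun t =>
      (Algebra.IsIntegral.isIntegral (R := C) t).map (IsScalarTower.toAlgHom C T K)
    have hjinj : Function.Injective j := fun x y h => IsFractionRing.injective T K (congrArg Subtype.val h)
    have hjint : j.IsIntegral := fun z => by
      obtain ⟨p, hp, he⟩ := Algebra.IsIntegral.isIntegral (R := C) z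
      refine ⟨p.map (algebraMap C T), hp.map _, ?_⟩
      rw [Polynomial.eval₂_map]
      have : j.comp (algebraMap C T) = algebraMap C (integralClosure C K) := RingHom.ext fun c => Subtype.ext (by
        show algebraMap T K (algebraMap C T c) = algebraMap C K c
        rw [← IsScalarTower.algebraMap_apply])
      rw [this]
      exact he
    haveI : IsLocalHom j := hjint.isLocalHom hjinj
    exact IsLocalRing.of_isUnit_or_isUnit_one_sub_self fun x =>
      (IsLocalRing.isUnit_or_isUnit_one_sub_self (j x)).imp (isUnit_of_map_unit j x)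
        fun h => isUnit_of_map_unit j (1 - x) (by rwa [map_sub, map_one])
  -- primes of T over maximal ideals of N
  have hover : ∀ n : Ideal N, n.IsMaximal → ∃ P : Ideal T, P.IsMaximal ∧ ∀ x : N, ((1 : C) ⊗ₜ[A] x) ∈ P ↔ x ∈ n := by
    intro n hn
    haveI : Nontrivial (N ⧸ n) := Ideal.Quotient.nontrivial_iff.mpr hn.ne_top
    let π : T →ₐ[A] C ⊗[A] (N ⧸ n) := Algebra.TensorProduct.map (AlgHom.id A C) (Ideal.Quotient.mkₐ A n)
    have hne : n.map (Algebra.TensorProduct.includeRight : N →ₐ[A] T) ≠ ⊤ := by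
      intro htop
      have : Nontrivial (C ⊗[A] (N ⧸ n)) := Module.FaithfullyFlat.lTensor_nontrivial A C (N ⧸ n)
      have h1 : (1 : T) ∈ RingHom.ker π.toRingHom := by
        have : n.map (Algebra.TensorProduct.includeRight : N →ₐ[A] T) ≤ RingHom.ker π.toRingHom :=
          Ideal.map_le_iff_le_comap.mpr fun x hx => by
            show π (1 ⊗ₜ x) = 0
            rw [Algebra.TensorProduct.map_tmul, show Ideal.Quotient.mkₐ A n x = 0 from Ideal.Quotient.eq_zero_iff_mem.mpr hx,
              TensorProduct.tmul_zero]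
        exact this (htop ▸ Submodule.mem_top)
      rw [RingHom.mem_ker, map_one] at h1
      exact one_ne_zero h1
    obtain ⟨P, hP, hle⟩ := Ideal.exists_le_maximal _ hne
    refine ⟨P, hP, fun x => ⟨fun hx => ?_, fun hx => hle (Ideal.mem_map_of_mem _ hx)⟩⟩
    have : n = P.comap (Algebra.TensorProduct.includeRight : N →ₐ[A] T).toRingHom :=
      hn.eq_of_le (Ideal.comap_ne_top _ hP.ne_top) fun y hy => hle (Ideal.mem_map_of_mem _ hy)
    exact this.symm.le hx
  have hlocalN : IsLocalRing T → IsLocalRing N := fun _ => by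
    obtain ⟨n₀, hn₀⟩ := Ideal.exists_maximal N
    refine IsLocalRing.of_unique_max_ideal ⟨n₀, hn₀, fun n hn => ?_⟩
    obtain ⟨P, hP, hPn⟩ := hover n hn
    obtain ⟨P₀, hP₀, hPn₀⟩ := hover n₀ hn₀
    obtain rfl : P = P₀ := (IsLocalRing.eq_maximalIdeal hP).trans (IsLocalRing.eq_maximalIdeal hP₀).symm
    exact Ideal.ext fun x => (hPn x).symm.trans (hPn₀ x)
  have hA' : CAlg2.IsUnibranch A ↔ IsLocalRing N := ⟨fun h => h.2, fun h => ⟨hdred, h⟩⟩
  have hfirst : IsDomain C ↔ IsLocalRing N :=
    ⟨fun h => hlocalN (hdomC h), fun h => haveI := hdomT (hlocal h); hψinj.isDomain ψ⟩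
  refine ⟨hfirst.trans hA'.symm, ?_⟩
  have hPI : IsLocalRing N → (PI ψ ↔ PI (toNorm A)) := fun _ => by
    haveI := hlocal inferInstance
    obtain ⟨P, hP, hPn⟩ := hover (IsLocalRing.maximalIdeal N) (IsLocalRing.maximalIdeal.isMaximal N)
    obtain rfl : P = IsLocalRing.maximalIdeal T := IsLocalRing.eq_maximalIdeal hP
    have hmC : (IsLocalRing.maximalIdeal T).comap (algebraMap C T) = IsLocalRing.maximalIdeal C :=
      IsLocalRing.eq_maximalIdeal (Ideal.isMaximal_comap_of_isIntegral_of_isMaximal _)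
    have hc : ∀ c ∈ IsLocalRing.maximalIdeal C, ψ c ∈ IsLocalRing.maximalIdeal T := fun c hc => by
      rw [← hmC] at hc; rw [hψalg]; exact hc
    have hrep : ∀ c : C, ∃ a : A, ψ c - (1 : C) ⊗ₜ[A] toNorm A a ∈ IsLocalRing.maximalIdeal T := fun c => by
      obtain ⟨a, ha⟩ := exists_sub_mem_maximalIdeal A c
      refine ⟨a, ?_⟩
      have := hc _ ha
      rwa [map_sub, hψ (algebraMap A C a), Algebra.algebraMap_eq_smul_one, TensorProduct.smul_tmul,
        ← Algebra.algebraMap_eq_smul_one] at this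
    have hsurj : ∀ t : T, ∃ x : N, t - (1 : C) ⊗ₜ[A] x ∈ IsLocalRing.maximalIdeal T := by
      intro t
      induction t using TensorProduct.induction_on with
      | zero => exact ⟨0, by simp⟩
      | tmul c x =>
        obtain ⟨a, ha⟩ := hrep c
        refine ⟨toNorm A a * x, ?_⟩
        have := Ideal.mul_mem_right ((1 : C) ⊗ₜ[A] x) _ ha
        rwa [sub_mul, hψ, Algebra.TensorProduct.tmul_mul_tmul, Algebra.TensorProduct.tmul_mul_tmul, mul_one, one_mul, mul_one] at this
      | add s t hs ht =>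
        obtain ⟨x, hx⟩ := hs
        obtain ⟨y, hy⟩ := ht
        exact ⟨x + y, by rw [TensorProduct.tmul_add, add_sub_add_comm]; exact add_mem hx hy⟩
    let ι : N →+* T := (Algebra.TensorProduct.includeRight : N →ₐ[A] T).toRingHom
    have hι : ∀ x, ι x = (1 : C) ⊗ₜ[A] x := fun _ => rfl
    have hq : ringExpChar (T ⧸ IsLocalRing.maximalIdeal T) = ringExpChar (N ⧸ IsLocalRing.maximalIdeal N) := by
      haveI : IsDomain (T ⧸ IsLocalRing.maximalIdeal T) := Ideal.Quotient.isDomain _
      haveI : IsDomain (N ⧸ IsLocalRing.maximalIdeal N) := Ideal.Quotient.isDomain _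
      exact ringExpChar_of_hom (Ideal.quotientMap _ ι (fun x hx => (hPn x).mpr hx))
        (Ideal.quotientMap_injective' (fun x hx => (hPn x).mp hx))
    refine ⟨fun h P hP x => ?_, fun h P hP t => ?_⟩
    · obtain rfl : P = IsLocalRing.maximalIdeal N := IsLocalRing.eq_maximalIdeal hP
      obtain ⟨n, c, hc'⟩ := h (IsLocalRing.maximalIdeal T) ((1 : C) ⊗ₜ x)
      obtain ⟨a, ha⟩ := hrep c
      refine ⟨n, a, (hPn _).mp ?_⟩
      rw [← hι, map_sub, map_pow, hι, hι, ← hq]
      have h3 := add_mem hc' ha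
      rw [sub_add_sub_cancel] at h3
      exact h3
    · obtain rfl : P = IsLocalRing.maximalIdeal T := IsLocalRing.eq_maximalIdeal hP
      obtain ⟨x, hx⟩ := hsurj t
      obtain ⟨n, a, ha⟩ := h (IsLocalRing.maximalIdeal N) x
      refine ⟨n, algebraMap A C a, ?_⟩
      have h1 := (hPn _).mpr ha
      rw [← hι, map_sub, map_pow, hι, hι, ← hq] at h1
      have h2 := Ideal.mem_of_dvd _ (sub_dvd_pow_sub_pow t ((1 : C) ⊗ₜ[A] x) (ringExpChar (T ⧸ IsLocalRing.maximalIdeal T) ^ n)) hx
      rw [hψ (algebraMap A C a), Algebra.algebraMap_eq_smul_one, TensorProduct.smul_tmul, ← Algebra.algebraMap_eq_smul_one]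
      have h3 := add_mem h2 h1
      rw [sub_add_sub_cancel] at h3
      exact h3
  constructor
  · intro h
    haveI : IsReduced C := isReduced_cpl A hA
    haveI : IsDomain C := by
      haveI := h.1.1
      refine MulEquiv.isDomain (CAlg2.red C) (RingEquiv.ofBijective (Ideal.Quotient.mk (nilradical C))
        ⟨fun a b hab => ?_, Ideal.Quotient.mk_surjective⟩).toMulEquiv
      have := Ideal.Quotient.eq.mp hab
      rwa [nilradical_eq_zero, Submodule.zero_eq_bot, Ideal.mem_bot, sub_eq_zero] at this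
    haveI := hdomC inferInstance
    haveI := hdomT inferInstance
    haveI : IsIntegrallyClosed T := Groth.L06.NormalTensor.isIntegrallyClosed_of_isNormalRing hTn
    have h2 := ((isGeomUnibranch_iff ψ hψint (fun x hx => by rw [hψinj (hx.trans (map_zero ψ).symm)]; exact Ideal.zero_mem _)
      (fun x => by obtain ⟨b, a, hb, hab⟩ := hbir' x; exact ⟨b, a, fun h0 => one_ne_zero (hb 1 (by rw [h0, zero_mul])), hab⟩)).mp h).2
    exact isGeomUnibranch_def.mpr ⟨hA'.mpr (hlocalN inferInstance), (hPI (hlocalN inferInstance)).mp h2⟩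
  · intro h
    obtain ⟨hu, hpi⟩ := isGeomUnibranch_def.mp h
    haveI := hlocal hu.2
    haveI := hdomT inferInstance
    haveI : IsIntegrallyClosed T := Groth.L06.NormalTensor.isIntegrallyClosed_of_isNormalRing hTn
    exact (isGeomUnibranch_iff ψ hψint (fun x hx => by rw [hψinj (hx.trans (map_zero ψ).symm)]; exact Ideal.zero_mem _)
      (fun x => by obtain ⟨b, a, hb, hab⟩ := hbir' x; exact ⟨b, a, fun h0 => one_ne_zero (hb 1 (by rw [h0, zero_mul])), hab⟩)).mpr
        ⟨inferInstance, (hPI hu.2).mpr hpi⟩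

theorem main_cpl [IsReduced A] (hA : EGA4.HasGeomNormalFormalFibres A) :
    (IsDomain (EGA4.Cpl A) ↔ CAlg2.IsUnibranch A) ∧
      (CAlg2.IsGeomUnibranch (EGA4.Cpl A) ↔ CAlg2.IsGeomUnibranch A) := by
  have hred : ∀ {R : Type u} [CommRing R] [IsReduced R], IsDomain (CAlg2.red R) → IsDomain R := fun {R} _ _ h => by
    refine MulEquiv.isDomain (CAlg2.red R) (RingEquiv.ofBijective (Ideal.Quotient.mk (nilradical R))
      ⟨fun a b hab => ?_, Ideal.Quotient.mk_surjective⟩).toMulEquiv
    have := Ideal.Quotient.eq.mp hab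
    rwa [nilradical_eq_zero, Submodule.zero_eq_bot, Ideal.mem_bot, sub_eq_zero] at this
  refine ⟨⟨fun h => ?_, fun h => ?_⟩, ⟨fun h => ?_, fun h => ?_⟩⟩
  · haveI := isDomain_of_algebraMap_cpl A
    exact (unibranch_cpl_iff A hA).1.mp h
  · haveI := hred h.1
    exact (unibranch_cpl_iff A hA).1.mpr h
  · haveI := isReduced_cpl A hA
    haveI := hred h.1.1
    haveI := isDomain_of_algebraMap_cpl A
    exact (unibranch_cpl_iff A hA).2.mp h
  · haveI := hred h.1.1
    exact (unibranch_cpl_iff A hA).2.mpr h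

end Groth.L06.Unibranch
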