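import Groth.Agent.L01.CompletionExt
import Groth.Prelude.Def_EGA4b
import Mathlib.RingTheory.AdicCompletion.Algebra
import Mathlib.RingTheory.Localization.AtPrime.Basic
import Mathlib.RingTheory.TensorProduct.Maps

/-! The completion of a local ring after base change to the completion of the base (EGA IV 6.14). -/

set_option autoImplicit false
set_option maxSynthPendingDepth 3
set_option linter.all false
noncomputable section
universe u
open IsLocalRing TensorProduct

namespace Groth.L06.CplBaseChange

theorem cpl_equiv {R S : Type u} [CommRing R] [IsLocalRing R] [IsNoetherianRing R]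
    [CommRing S] [IsLocalRing S] [IsNoetherianRing S] (φ : R →+* S)
    (hmS : (maximalIdeal R).map φ = maximalIdeal S)
    (hsurj : ∀ n (s : S), ∃ r : R, s - φ r ∈ maximalIdeal S ^ n)
    (hinj : ∀ n (r : R), φ r ∈ maximalIdeal S ^ n → r ∈ maximalIdeal R ^ n) :
    Nonempty (AdicCompletion (maximalIdeal R) R ≃+* AdicCompletion (maximalIdeal S) S) := by
  haveI := Groth.L01.AnalUnram.isNoetherianRing_completion R
  haveI := Groth.L01.AnalUnram.isNoetherianRing_completion S
  let C := AdicCompletion (maximalIdeal R) R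
  let D := AdicCompletion (maximalIdeal S) S
  have hle : ∀ n, maximalIdeal R ^ n ≤ (maximalIdeal S ^ n).comap φ := fun n => by
    rw [← Ideal.map_le_iff_le_comap, Ideal.map_pow, hmS]
  have hb : ∀ n, Function.Bijective (Ideal.quotientMap (maximalIdeal S ^ n) φ (hle n)) := fun n => by
    refine ⟨Ideal.quotientMap_injective' (fun r hr => hinj n r hr), fun y => ?_⟩
    obtain ⟨s, rfl⟩ := Ideal.Quotient.mk_surjective y
    obtain ⟨r, hr⟩ := hsurj n s
    exact ⟨Ideal.Quotient.mk _ r, by rw [Ideal.quotientMap_mk, eq_comm, Ideal.Quotient.eq]; exact hr⟩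
  have hmC : maximalIdeal C = (maximalIdeal R).map (algebraMap R C) :=
    (Groth.L01.AnalUnram.completion_map_maximalIdeal R).symm
  have hmD : maximalIdeal D = (maximalIdeal S).map (algebraMap S D) :=
    (Groth.L01.AnalUnram.completion_map_maximalIdeal S).symm
  obtain ⟨g, hg, hgm⟩ := Groth.L01.CompletionExt.exists_extend (C := D) ((algebraMap S D).comp φ) (by
    rw [← Ideal.map_map, hmS, ← hmD])
  let fn : ∀ n, S →+* C ⧸ maximalIdeal C ^ n := fun n =>
    ((Ideal.quotientMap (maximalIdeal C ^ n) (algebraMap R C) (by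
      rw [← Ideal.map_le_iff_le_comap, Ideal.map_pow, ← hmC] :
      maximalIdeal R ^ n ≤ (maximalIdeal C ^ n).comap (algebraMap R C))).comp
      (RingEquiv.ofBijective _ (hb n)).symm.toRingHom).comp (Ideal.Quotient.mk _)
  have hfn : ∀ n (s : S) (r : R), s - φ r ∈ maximalIdeal S ^ n →
      fn n s = Ideal.Quotient.mk _ (algebraMap R C r) := by
    intro n s r hr
    have h1 : Ideal.Quotient.mk (maximalIdeal S ^ n) s =
        RingEquiv.ofBijective _ (hb n) (Ideal.Quotient.mk _ r) := by
      rw [RingEquiv.ofBijective_apply, Ideal.quotientMap_mk, Ideal.Quotient.eq]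
      exact hr
    simp only [fn, RingHom.comp_apply, RingEquiv.toRingHom_eq_coe, RingEquiv.coe_toRingHom]
    rw [h1, RingEquiv.symm_apply_apply, Ideal.quotientMap_mk]
  have hcomp : ∀ {m n : ℕ} (hle : m ≤ n), (Ideal.Quotient.factorPow (maximalIdeal C) hle).comp (fn n) = fn m := by
    intro m n hle
    ext s
    obtain ⟨r, hr⟩ := hsurj n s
    rw [RingHom.comp_apply, hfn n s r hr, hfn m s r (Ideal.pow_le_pow_right hle hr), Ideal.Quotient.factor_mk]
  let h₀ : S →+* C := IsAdicComplete.liftRingHom (maximalIdeal C) fn hcomp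
  have hh₀ : ∀ n s r, s - φ r ∈ maximalIdeal S ^ n → h₀ s - algebraMap R C r ∈ maximalIdeal C ^ n :=
    fun n s r hr => by
      rw [← Ideal.Quotient.eq, IsAdicComplete.mk_liftRingHom]
      exact hfn n s r hr
  have hh₀R : ∀ r, h₀ (φ r) = algebraMap R C r := fun r => by
    rw [← sub_eq_zero]
    refine IsHausdorff.haus (I := maximalIdeal C) inferInstance _ fun n => ?_
    rw [SModEq.zero, smul_eq_mul, Ideal.mul_top]
    exact hh₀ n _ r (by simp)
  obtain ⟨h, hh, hhm⟩ := Groth.L01.CompletionExt.exists_extend (C := C) h₀ (by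
    rw [← hmS, Ideal.map_map, hmC]
    refine le_of_eq (congrArg (fun f => Ideal.map f (maximalIdeal R)) (RingHom.ext hh₀R)))
  have h1 : h.comp g = RingHom.id C := by
    refine Groth.L01.CompletionExt.ext_of_hausdorff _ _ ?_ (Ideal.map_id _).le fun r => ?_
    · rw [← Ideal.map_map]; exact (Ideal.map_mono hgm).trans hhm
    · rw [RingHom.comp_apply, hg, RingHom.comp_apply, hh, hh₀R]; rfl
  have h2 : g.comp h = RingHom.id D := by
    refine Groth.L01.CompletionExt.ext_of_hausdorff _ _ ?_ (Ideal.map_id _).le fun s => ?_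
    · rw [← Ideal.map_map]; exact (Ideal.map_mono hhm).trans hgm
    · rw [RingHom.comp_apply, hh, RingHom.id_apply, ← sub_eq_zero]
      refine IsHausdorff.haus (I := maximalIdeal D) inferInstance _ fun n => ?_
      rw [SModEq.zero, smul_eq_mul, Ideal.mul_top]
      obtain ⟨r, hr⟩ := hsurj n s
      have e1 : g (h₀ s - algebraMap R C r) ∈ maximalIdeal D ^ n :=
        Ideal.pow_right_mono hgm n (by rw [← Ideal.map_pow]; exact Ideal.mem_map_of_mem _ (hh₀ n s r hr))
      have e2 : algebraMap S D (s - φ r) ∈ maximalIdeal D ^ n := by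
        rw [hmD, ← Ideal.map_pow]; exact Ideal.mem_map_of_mem _ hr
      rw [show g (h₀ s) - algebraMap S D s = g (h₀ s - algebraMap R C r) - algebraMap S D (s - φ r) by
        rw [map_sub, map_sub, hg, RingHom.comp_apply]; ring]
      exact sub_mem e1 e2
  exact ⟨RingEquiv.ofRingHom g h h2 h1⟩

variable {A B : Type u} [CommRing A] [CommRing B] [IsNoetherianRing A] [IsNoetherianRing B]
  [IsLocalRing A] [IsLocalRing B] [Algebra A B] [IsLocalHom (algebraMap A B)]

theorem main [IsNoetherianRing (B ⊗[A] EGA4.Cpl A)] (n' : Ideal (B ⊗[A] EGA4.Cpl A)) [n'.IsPrime]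
    (h1 : n'.comap (algebraMap B (B ⊗[A] EGA4.Cpl A)) = maximalIdeal B) :
    Nonempty (EGA4.Cpl B ≃+* EGA4.Cpl (Localization.AtPrime n')) := by
  let T := B ⊗[A] EGA4.Cpl A
  let J : ℕ → Ideal T := fun n => (maximalIdeal B ^ n).map (algebraMap B T)
  have hAB : ∀ n (a : A), a ∈ maximalIdeal A ^ n → algebraMap A B a ∈ maximalIdeal B ^ n := fun n a ha =>
    Ideal.pow_right_mono (IsLocalRing.map_maximalIdeal_le (algebraMap A B)) n
      (by rw [← Ideal.map_pow]; exact Ideal.mem_map_of_mem _ ha)
  -- approximation by `B`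
  have happ : ∀ n (x : T), ∃ b : B, x - algebraMap B T b ∈ J n := by
    intro n x
    induction x using TensorProduct.induction_on with
    | zero => exact ⟨0, by simp⟩
    | tmul b a =>
      obtain ⟨r, hr⟩ := Groth.L01.CompletionExt.exists_sub_mem_pow n a
      refine ⟨b * algebraMap A B r, ?_⟩
      have e1 : b ⊗ₜ[A] a - algebraMap B T (b * algebraMap A B r) = b ⊗ₜ[A] (a - algebraMap A (EGA4.Cpl A) r) := by
        rw [tmul_sub, Algebra.TensorProduct.algebraMap_apply, Algebra.algebraMap_self, RingHom.id_apply,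
          Algebra.algebraMap_eq_smul_one (A := EGA4.Cpl A) r, tmul_smul, smul_tmul', Algebra.smul_def, mul_comm b]
      rw [e1]
      have key : ∀ y ∈ maximalIdeal (EGA4.Cpl A) ^ n, b ⊗ₜ[A] y ∈ J n := by
        intro y hy
        clear e1
        rw [← Groth.L01.AnalUnram.completion_map_maximalIdeal, ← Ideal.map_pow] at hy
        induction hy using Submodule.span_induction generalizing b with
        | mem z hz =>
          obtain ⟨s, hs, rfl⟩ := hz
          rw [Algebra.algebraMap_eq_smul_one, tmul_smul, smul_tmul', Algebra.smul_def,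
            show (algebraMap A B s * b) ⊗ₜ[A] (1 : EGA4.Cpl A) = algebraMap B T (algebraMap A B s * b) from rfl]
          exact Ideal.mem_map_of_mem _ (Ideal.mul_mem_right _ _ (hAB n s hs))
        | zero => rw [tmul_zero]; exact zero_mem _
        | add z w _ _ hz hw => rw [tmul_add]; exact add_mem (hz b) (hw b)
        | smul c z _ hz =>
          rw [smul_eq_mul, show b ⊗ₜ[A] (c * z) = ((1 : B) ⊗ₜ[A] c) * (b ⊗ₜ[A] z) by
            rw [Algebra.TensorProduct.tmul_mul_tmul, one_mul]]
          exact Ideal.mul_mem_left _ _ (hz b)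
      exact key _ hr
    | add x y hx hy =>
      obtain ⟨b, hb⟩ := hx
      obtain ⟨c, hc⟩ := hy
      exact ⟨b + c, by rw [map_add, add_sub_add_comm]; exact add_mem hb hc⟩
  have hn' : n' = J 1 := by
    refine le_antisymm (fun x hx => ?_) ?_
    · obtain ⟨b, hb⟩ := happ 1 x
      have hJ : J 1 ≤ n' := Ideal.map_le_iff_le_comap.2 (by rw [pow_one, h1])
      have h2 : algebraMap B T b ∈ n' := by simpa using sub_mem hx (hJ hb)
      have h3 : b ∈ maximalIdeal B := h1.le h2
      simpa using add_mem hb (Ideal.mem_map_of_mem (algebraMap B T) (show b ∈ maximalIdeal B ^ 1 by rwa [pow_one]))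
    · exact Ideal.map_le_iff_le_comap.2 (by rw [pow_one, h1])
  have hpow : ∀ n, n' ^ n = J n := fun n => by rw [hn', ← Ideal.map_pow, pow_one]
  let S := Localization.AtPrime n'
  haveI : IsNoetherianRing S := IsLocalization.isNoetherianRing n'.primeCompl S inferInstance
  let φ : B →+* S := (algebraMap T S).comp (algebraMap B T)
  have hmS : (maximalIdeal B).map φ = maximalIdeal S := by
    rw [← Ideal.map_map, show (maximalIdeal B).map (algebraMap B T) = n' by rw [hn']; simp [J],
      Localization.AtPrime.map_eq_maximalIdeal]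
  have hJS : ∀ n, (J n).map (algebraMap T S) = maximalIdeal S ^ n := fun n => by
    rw [← hpow, Ideal.map_pow, Localization.AtPrime.map_eq_maximalIdeal]
  have hunit : ∀ (s : T) (b : B) (n : ℕ), s ∉ n' → s - algebraMap B T b ∈ J (n + 1) → IsUnit b := by
    intro s b n hs hsb
    by_contra h
    refine hs ?_
    have h2 : algebraMap B T b ∈ n' := h1.ge h
    have h3 : J (n + 1) ≤ n' := (hpow (n + 1)).ge.trans (Ideal.pow_le_self n.succ_ne_zero)
    simpa using add_mem (h3 hsb) h2
  refine cpl_equiv φ hmS (fun n s => ?_) (fun n b hb => ?_)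
  · cases n with
    | zero => exact ⟨0, by simp⟩
    | succ n =>
      obtain ⟨x, t, rfl⟩ := IsLocalization.exists_mk'_eq n'.primeCompl s
      obtain ⟨b1, hb1⟩ := happ (n + 1) x
      obtain ⟨b0, hb0⟩ := happ (n + 1) (t : T)
      obtain ⟨w, rfl⟩ := hunit t b0 n t.2 hb0
      refine ⟨b1 * ↑w⁻¹, ?_⟩
      have h4 : x - algebraMap B T (b1 * ↑w⁻¹) * t ∈ J (n + 1) := by
        have e : x - algebraMap B T (b1 * ↑w⁻¹) * t =
            (x - algebraMap B T b1) - algebraMap B T (b1 * ↑w⁻¹) * ((t : T) - algebraMap B T ↑w) := by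
          have e2 : algebraMap B T (b1 * ↑w⁻¹) * algebraMap B T ↑w = algebraMap B T b1 := by
            rw [← map_mul, mul_assoc, Units.inv_mul, mul_one]
          rw [mul_sub, e2]; ring
        rw [e]
        exact sub_mem hb1 (Ideal.mul_mem_left _ _ hb0)
      rw [← hJS]
      have h5 := Ideal.mem_map_of_mem (algebraMap T S) h4
      have e3 : IsLocalization.mk' S x t - φ (b1 * ↑w⁻¹) =
          IsLocalization.mk' S (x - algebraMap B T (b1 * ↑w⁻¹) * t) t := by
        rw [IsLocalization.eq_mk'_iff_mul_eq, sub_mul, IsLocalization.mk'_spec]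
        simp only [φ, T, RingHom.comp_apply, map_sub, map_mul]
      rw [e3, IsLocalization.mk'_eq_mul_mk'_one]
      exact Ideal.mul_mem_right _ _ h5
  · cases n with
    | zero => simp
    | succ n =>
      rw [← hJS] at hb
      obtain ⟨⟨⟨y, hy⟩, s⟩, hys⟩ := (IsLocalization.mem_map_algebraMap_iff n'.primeCompl S).1 hb
      rw [RingHom.comp_apply, ← map_mul] at hys
      obtain ⟨c, hc⟩ := (IsLocalization.eq_iff_exists n'.primeCompl S).1 hys
      have hmem : algebraMap B T b * ((c : T) * s) ∈ J (n + 1) := by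
        rw [show algebraMap B T b * ((c : T) * s) = c * (algebraMap B T b * s) by ring, hc]
        exact Ideal.mul_mem_left _ _ hy
      obtain ⟨d, hd⟩ := happ (n + 1) ((c : T) * s)
      have hdu := hunit _ d n (c * s).2 hd
      -- project to `B / m^(n+1)`
      let Q := B ⧸ maximalIdeal B ^ (n + 1)
      let ev : EGA4.Cpl A →+* A ⧸ maximalIdeal A ^ (n + 1) :=
        (AdicCompletion.evalₐ (maximalIdeal A) (n + 1)).toRingHom
      have hle : maximalIdeal A ^ (n + 1) ≤ (maximalIdeal B ^ (n + 1)).comap (algebraMap A B) := fun a ha => hAB _ a ha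
      let g : EGA4.Cpl A →ₐ[A] Q :=
        { toRingHom := (Ideal.quotientMap (maximalIdeal B ^ (n + 1)) (algebraMap A B) hle).comp ev
          commutes' := fun a => by
            show Ideal.quotientMap _ (algebraMap A B) hle (AdicCompletion.evalₐ (maximalIdeal A) (n + 1) (algebraMap A _ a)) = _
            rw [AlgHom.commutes]
            rfl }
      let π : T →ₐ[B] Q := Algebra.TensorProduct.lift (Algebra.ofId B Q) g fun x y => Commute.all _ _
      have hker : J (n + 1) ≤ RingHom.ker π := Ideal.map_le_iff_le_comap.2 fun x hx => by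
        rw [Ideal.mem_comap, RingHom.mem_ker, AlgHom.commutes]
        exact Ideal.Quotient.eq_zero_iff_mem.2 hx
      have hπ : π ((c : T) * s) = algebraMap B Q d := by
        rw [← AlgHom.commutes π d, ← sub_eq_zero, ← map_sub]
        exact hker hd
      have h6 : π (algebraMap B T b * ((c : T) * s)) = 0 := hker hmem
      rw [map_mul, hπ, AlgHom.commutes, ← map_mul] at h6
      have h7 : b * d ∈ maximalIdeal B ^ (n + 1) := Ideal.Quotient.eq_zero_iff_mem.1 h6
      exact (Ideal.mul_unit_mem_iff_mem _ hdu).1 h7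

end Groth.L06.CplBaseChange
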