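import Groth.Prelude.Def_EGA4b
import Groth.Agent.L06.NormalAscent
import Mathlib.RingTheory.Polynomial.ScaleRoots
import Mathlib.RingTheory.Localization.Integral
import Mathlib.RingTheory.Localization.LocalizationLocalization
import Mathlib.RingTheory.LocalProperties.Reduced
import Mathlib.RingTheory.Ideal.Quotient.Operations
import Mathlib.RingTheory.Ideal.MinimalPrime.Noetherian

/-! Normal rings with idempotents separating orthogonal elements; unions; integrally closed subrings. -/

set_option autoImplicit false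
set_option maxSynthPendingDepth 3
set_option linter.style.haveILetI false
noncomputable section
universe u v
open Polynomial
open scoped nonZeroDivisors

namespace Groth.L06.NormalTensor

/-- orthogonal elements are separated by an idempotent -/
def Idem (S : Type u) [CommRing S] : Prop :=
  ∀ a b : S, a * b = 0 → ∃ e : S, e * e = e ∧ e * a = a ∧ e * b = 0

/-- elementwise form of integral closedness at a prime -/
def LocCond {S : Type u} [CommRing S] (Q : Ideal S) : Prop :=
  ∀ (a b : S) (p : S[X]), p.Monic → (p.scaleRoots b).eval a = 0 → (∀ v ∉ Q, v * b ≠ 0) →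
    ∃ v ∉ Q, ∃ z, v * a = z * b

variable {S : Type u} [CommRing S]

theorem isDomain_atPrime (h : Idem S) (Q : Ideal S) [Q.IsPrime] : IsDomain (Localization.AtPrime Q) := by
  haveI : NoZeroDivisors (Localization.AtPrime Q) := ⟨fun {x y} hxy => by
    obtain ⟨a, s, rfl⟩ := IsLocalization.exists_mk'_eq Q.primeCompl x
    obtain ⟨b, t, rfl⟩ := IsLocalization.exists_mk'_eq Q.primeCompl y
    rw [← IsLocalization.mk'_mul, IsLocalization.mk'_eq_zero_iff] at hxy
    obtain ⟨⟨u, hu⟩, hab⟩ := hxy
    obtain ⟨e, he, hea, heb⟩ := h (u * a) b (by rw [mul_assoc]; exact hab)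
    by_cases heQ : e ∈ Q
    · left
      rw [IsLocalization.mk'_eq_zero_iff]
      have h1 : 1 - e ∉ Q := fun h1 => (inferInstance : Q.IsPrime).ne_top ((Ideal.eq_top_iff_one _).mpr (by simpa using add_mem h1 heQ))
      refine ⟨⟨(1 - e) * u, fun hh => ((inferInstance : Q.IsPrime).mem_or_mem hh).elim h1 hu⟩, ?_⟩
      show (1 - e) * u * a = 0
      linear_combination -hea
    · right
      rw [IsLocalization.mk'_eq_zero_iff]
      exact ⟨⟨e, heQ⟩, heb⟩⟩
  exact NoZeroDivisors.to_isDomain _

theorem locCond_of_normal (Q : Ideal S) [Q.IsPrime] [IsDomain (Localization.AtPrime Q)]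
    [IsIntegrallyClosed (Localization.AtPrime Q)] : LocCond Q := by
  intro a b p hp hab hb
  let R := Localization.AtPrime Q
  let K := FractionRing R
  let g : S →+* K := (algebraMap R K).comp (algebraMap S R)
  have hb0 : algebraMap S R b ≠ 0 := fun h0 => by
    obtain ⟨⟨v, hv⟩, hvb⟩ := (IsLocalization.map_eq_zero_iff Q.primeCompl R b).mp h0
    exact hb v hv hvb
  have hgb : g b ≠ 0 := (map_ne_zero_iff _ (IsFractionRing.injective R K)).mpr hb0
  have hint : IsIntegral R (g a / g b) := by
    refine ⟨p.map (algebraMap S R), hp.map _, ?_⟩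
    rw [eval₂_map]
    refine (mul_eq_zero.mp ?_).resolve_left (pow_ne_zero p.natDegree hgb)
    rw [← scaleRoots_eval₂_mul g, mul_div_cancel₀ _ hgb, eval₂_at_apply, hab, map_zero]
  obtain ⟨c, hc⟩ := IsIntegrallyClosed.isIntegral_iff.mp hint
  obtain ⟨z, s, rfl⟩ := IsLocalization.exists_mk'_eq Q.primeCompl c
  have h1 : algebraMap S R (s * a) = algebraMap S R (z * b) := by
    refine IsFractionRing.injective R K ?_
    rw [eq_div_iff hgb] at hc
    rw [map_mul, map_mul, map_mul, map_mul, ← IsLocalization.mk'_spec R z s, map_mul]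
    show algebraMap R K (algebraMap S R s) * g a = _
    rw [← hc]
    simp only [g, RingHom.comp_apply]
    ring
  obtain ⟨⟨w, hw⟩, hww⟩ := (IsLocalization.eq_iff_exists Q.primeCompl R).mp h1
  refine ⟨w * s, fun hh => ((inferInstance : Q.IsPrime).mem_or_mem hh).elim hw s.2, w * z, ?_⟩
  rw [mul_assoc, mul_assoc]
  exact hww

theorem isIntegrallyClosed_of_locCond (Q : Ideal S) [Q.IsPrime] [IsDomain (Localization.AtPrime Q)]
    (h : LocCond Q) : IsIntegrallyClosed (Localization.AtPrime Q) := by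
  let R := Localization.AtPrime Q
  let K := FractionRing R
  haveI : IsDomain R := inferInstanceAs (IsDomain (Localization.AtPrime Q))
  refine (isIntegrallyClosed_iff K).mpr fun {x} hx => ?_
  let g : S →+* K := (algebraMap R K).comp (algebraMap S R)
  obtain ⟨⟨u, hu⟩, hux⟩ := IsIntegral.exists_multiple_integral_of_isLocalization Q.primeCompl x hx
  obtain ⟨q, hq, hqx⟩ := hux
  obtain ⟨a', b', hb', rfl⟩ := IsFractionRing.div_surjective (A := R) x
  obtain ⟨a, s, rfl⟩ := IsLocalization.exists_mk'_eq Q.primeCompl a'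
  obtain ⟨b, t, rfl⟩ := IsLocalization.exists_mk'_eq Q.primeCompl b'
  have hunit : ∀ w : Q.primeCompl, g w ≠ 0 := fun w => (map_ne_zero_iff _ (IsFractionRing.injective R K)).mpr
    (IsLocalization.map_units R w).ne_zero
  have hmk : ∀ (c : S) (w : Q.primeCompl), algebraMap R K (IsLocalization.mk' R c w) = g c / g w := fun c w => by
    rw [eq_div_iff (hunit w)]
    exact (map_mul _ _ _).symm.trans (congrArg (algebraMap R K) (IsLocalization.mk'_spec R c w))
  have hgb : g b ≠ 0 := fun h0 => nonZeroDivisors.ne_zero hb' (IsFractionRing.injective R K (by rw [hmk, h0, zero_div, map_zero]))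
  -- a single fraction of elements of `S`
  let A := a * t
  let B := b * s
  have hgB : g B ≠ 0 := by rw [map_mul]; exact mul_ne_zero hgb (hunit s)
  have hxAB : algebraMap R K (IsLocalization.mk' R a s) / algebraMap R K (IsLocalization.mk' R b t) = g A / g B := by
    rw [hmk, hmk, div_div_div_eq, map_mul, map_mul, mul_comm (g b)]
  rw [hxAB] at hqx ⊢
  have hr : algebraMap S R ((q.scaleRoots B).eval (u * A)) = 0 := by
    refine IsFractionRing.injective R K ?_
    rw [map_zero]
    show g ((q.scaleRoots B).eval (u * A)) = 0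
    rw [← eval₂_at_apply, map_mul, show g u * g A = g B * (g u * (g A / g B)) by rw [mul_left_comm, mul_div_cancel₀ _ hgB], scaleRoots_eval₂_mul g]
    refine mul_eq_zero_of_right _ ?_
    rw [Submonoid.smul_def, Algebra.smul_def] at hqx
    exact hqx
  obtain ⟨⟨w, hw⟩, hwr⟩ := (IsLocalization.map_eq_zero_iff Q.primeCompl R _).mp hr
  have hrel : ((q.scaleRoots w).scaleRoots B).eval (w * (u * A)) = 0 := by
    have hcomm : (q.scaleRoots w).scaleRoots B = (q.scaleRoots B).scaleRoots w := by
      rw [← scaleRoots_mul, ← scaleRoots_mul, mul_comm]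
    rw [hcomm, ← eval₂_id, show w * (u * A) = RingHom.id S w * (u * A) from rfl, scaleRoots_eval₂_mul (RingHom.id S), eval₂_id]
    rcases Nat.eq_zero_or_pos (q.scaleRoots B).natDegree with h0 | h0
    · exfalso
      have h1 : q.scaleRoots B = 1 := ((monic_scaleRoots_iff B).mpr hq).natDegree_eq_zero.mp h0
      rw [h1, eval_one, mul_one] at hwr
      exact hw ((show w = 0 from hwr) ▸ Q.zero_mem : w ∈ Q)
    · obtain ⟨d, hd⟩ := Nat.exists_eq_succ_of_ne_zero h0.ne'
      rw [hd, pow_succ, mul_assoc]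
      show w ^ d * (w * _) = 0
      rw [hwr, mul_zero]
  obtain ⟨v, hv, z, hvz⟩ := h (w * (u * A)) B (q.scaleRoots w) ((monic_scaleRoots_iff w).mpr hq) hrel fun v hv h0 => by
    have := congrArg g h0
    rw [map_mul, map_zero] at this
    exact mul_ne_zero (hunit ⟨v, hv⟩) hgB this
  let wv : Q.primeCompl := ⟨v, hv⟩ * (⟨w, hw⟩ * ⟨u, hu⟩)
  refine ⟨IsLocalization.mk' R z wv, ?_⟩
  rw [hmk, div_eq_div_iff (hunit wv) hgB, ← map_mul, ← map_mul, ← hvz]
  congr 1
  show v * (w * (u * A)) = A * (v * (w * u))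
  ring

theorem isNormalRing_of_idem (hI : Idem S) (h : ∀ (Q : Ideal S) [Q.IsPrime], LocCond Q) : EGA4.IsNormalRing S :=
  fun Q _ => by
    haveI := isDomain_atPrime hI Q
    exact ⟨inferInstance, isIntegrallyClosed_of_locCond Q (h Q)⟩

theorem idem_of_normal_noetherian [IsNoetherianRing S] (h : EGA4.IsNormalRing S) : Idem S := by
  classical
  intro a b hab
  haveI := Groth.L06.NormalAscent.isReduced_of_isNormalRing h
  let ι := { q : Ideal S // q ∈ minimalPrimes S }
  haveI : Fintype ι := (minimalPrimes.finite_of_isNoetherianRing S).fintype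
  have hcop : Pairwise fun i j : ι => IsCoprime i.1 j.1 := by
    intro i j hij
    rw [Ideal.isCoprime_iff_sup_eq]
    by_contra hne
    obtain ⟨M, hM, hle⟩ := Ideal.exists_le_maximal _ hne
    haveI := (h M).1
    haveI := i.2.1.1
    haveI := j.2.1.1
    apply hij
    have key : ∀ q : ι, q.1 ≤ M → ∀ x ∈ q.1, algebraMap S (Localization.AtPrime M) x = 0 := by
      intro q hq x hx
      haveI := q.2.1.1
      haveI : (⊥ : Ideal (Localization.AtPrime M)).IsPrime := Ideal.isPrime_bot
      have hle' : (⊥ : Ideal (Localization.AtPrime M)).comap (algebraMap S _) ≤ q.1 := fun y hy => by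
        obtain ⟨⟨v, hv⟩, hvy⟩ := (IsLocalization.map_eq_zero_iff M.primeCompl _ y).mp hy
        exact ((inferInstance : q.1.IsPrime).mem_or_mem (hvy.symm ▸ q.1.zero_mem)).resolve_left (fun h => hv (hq h))
      exact q.2.2 ⟨Ideal.IsPrime.comap _, bot_le⟩ hle' hx
    refine Subtype.ext (le_antisymm (fun x hx => ?_) (fun x hx => ?_))
    · obtain ⟨⟨v, hv⟩, hvx⟩ := (IsLocalization.map_eq_zero_iff M.primeCompl _ x).mp (key i (le_sup_left.trans hle) x hx)
      exact ((inferInstance : j.1.IsPrime).mem_or_mem (hvx.symm ▸ j.1.zero_mem)).resolve_left (fun h => hv (hle (Ideal.mem_sup_right h)))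
    · obtain ⟨⟨v, hv⟩, hvx⟩ := (IsLocalization.map_eq_zero_iff M.primeCompl _ x).mp (key j (le_sup_right.trans hle) x hx)
      exact ((inferInstance : i.1.IsPrime).mem_or_mem (hvx.symm ▸ i.1.zero_mem)).resolve_left (fun h => hv (hle (Ideal.mem_sup_left h)))
  obtain ⟨e, he⟩ := Ideal.exists_forall_sub_mem_ideal hcop (fun q : ι => if a ∈ q.1 then 0 else 1)
  have hzero : ∀ x : S, (∀ q : ι, x ∈ q.1) → x = 0 := fun x hx => by
    refine IsNilpotent.eq_zero (mem_nilradical.mp ?_)
    rw [nilradical, ← Ideal.sInf_minimalPrimes, Submodule.mem_sInf]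
    exact fun p hp => hx ⟨p, hp⟩
  refine ⟨e, sub_eq_zero.mp (hzero _ fun q => ?_), sub_eq_zero.mp (hzero _ fun q => ?_), hzero _ fun q => ?_⟩
  all_goals (have hq := he q; haveI := q.2.1.1; by_cases ha : a ∈ q.1)
  · rw [if_pos ha, sub_zero] at hq
    exact sub_mem (q.1.mul_mem_left _ hq) hq
  · rw [if_neg ha] at hq
    rw [show e * e - e = e * (e - 1) by ring]
    exact q.1.mul_mem_left _ hq
  · exact sub_mem (q.1.mul_mem_left _ ha) ha
  · rw [if_neg ha] at hq
    rw [show e * a - a = (e - 1) * a by ring]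
    exact q.1.mul_mem_right _ hq
  · rw [if_pos ha, sub_zero] at hq
    exact q.1.mul_mem_right _ hq
  · exact q.1.mul_mem_left _ (((inferInstance : q.1.IsPrime).mem_or_mem (hab.symm ▸ q.1.zero_mem)).resolve_left ha)

/-- a union of normal rings with idempotents is one -/
theorem normal_of_union {N : Type u} [CommRing N]
    (h : ∀ s : Finset N, ∃ (T : Type u) (_ : CommRing T) (φ : T →+* N),
      Function.Injective φ ∧ (↑s ⊆ Set.range φ) ∧ EGA4.IsNormalRing T ∧ Idem T) :
    EGA4.IsNormalRing N ∧ Idem N := by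
  classical
  have hI : Idem N := by
    intro a b hab
    obtain ⟨T, _, φ, hφ, hs, -, hI⟩ := h {a, b}
    obtain ⟨a', rfl⟩ := hs (show a ∈ (↑({a, b} : Finset N) : Set N) by simp)
    obtain ⟨b', rfl⟩ := hs (show b ∈ (↑({φ a', b} : Finset N) : Set N) by simp)
    obtain ⟨e, h1, h2, h3⟩ := hI a' b' (hφ (by rw [map_mul, hab, map_zero]))
    exact ⟨φ e, by rw [← map_mul, h1], by rw [← map_mul, h2], by rw [← map_mul, h3, map_zero]⟩
  refine ⟨isNormalRing_of_idem hI fun Q _ => ?_, hI⟩
  intro a b p hp hab hb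
  obtain ⟨T, _, φ, hφ, hs, hn, -⟩ := h ({a, b} ∪ p.support.image p.coeff)
  have hsub : ∀ x ∈ ({a, b} ∪ p.support.image p.coeff : Finset N), ∃ y, φ y = x := fun x hx => hs hx
  obtain ⟨a', rfl⟩ := hsub a (by simp)
  obtain ⟨b', rfl⟩ := hsub b (by simp)
  have hlift : p ∈ Polynomial.lifts φ := (lifts_iff_coeff_lifts p).mpr fun i => by
    by_cases hi : i ∈ p.support
    · exact hsub _ (Finset.mem_union_right _ (Finset.mem_image_of_mem _ hi))
    · exact ⟨0, by rw [map_zero, notMem_support_iff.mp hi]⟩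
  obtain ⟨p', hp', -, hp'm⟩ := lifts_and_natDegree_eq_and_monic hlift hp
  haveI : (Q.comap φ).IsPrime := Ideal.IsPrime.comap _
  haveI := (hn (Q.comap φ)).1
  haveI := (hn (Q.comap φ)).2
  haveI : Nontrivial N := ⟨1, 0, fun h0 => hb 1 ((Ideal.ne_top_iff_one _).mp (inferInstance : Q.IsPrime).ne_top) (by rw [h0, zero_mul])⟩
  have hroot : (p'.scaleRoots b').eval a' = 0 := hφ (by
    rw [map_zero, ← hab, ← hp', ← eval₂_at_apply, ← eval_map, map_scaleRoots _ _ _ (by rw [hp'm, map_one]; exact one_ne_zero)])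
  obtain ⟨v, hv, z, hvz⟩ := locCond_of_normal (Q.comap φ) a' b' p' hp'm hroot fun v hv h0 =>
    hb (φ v) hv (by rw [← map_mul, h0, map_zero])
  exact ⟨φ v, hv, φ z, by rw [← map_mul, hvz, map_mul]⟩

/-- a subring integrally closed in a normal ring with idempotents is normal -/
theorem normal_of_integrallyClosedIn {N : Type v} [CommRing N] (φ : S →+* N) (hφ : Function.Injective φ)
    (hc : ∀ y : N, φ.IsIntegralElem y → y ∈ Set.range φ)
    (hN : EGA4.IsNormalRing N) (hI : Idem N) : EGA4.IsNormalRing S ∧ Idem S := by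
  haveI := Groth.L06.NormalAscent.isReduced_of_isNormalRing hN
  have hIS : Idem S := by
    intro a b hab
    obtain ⟨e, h1, h2, h3⟩ := hI (φ a) (φ b) (by rw [← map_mul, hab, map_zero])
    nontriviality S
    obtain ⟨e', rfl⟩ := hc e ⟨X ^ 2 - X, by monicity!, by simp [pow_two, h1]⟩
    exact ⟨e', hφ (by rw [map_mul, h1]), hφ (by rw [map_mul, h2]), hφ (by rw [map_mul, h3, map_zero])⟩
  refine ⟨isNormalRing_of_idem hIS fun Q _ => ?_, hIS⟩
  intro a b p hp hab hb
  have hQ : (1 : S) ∉ Q := (Ideal.ne_top_iff_one _).mp (inferInstance : Q.IsPrime).ne_top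
  haveI : Nontrivial S := ⟨1, 0, fun h0 => hb 1 hQ (by rw [h0, zero_mul])⟩
  haveI : Nontrivial N := hφ.nontrivial
  have hrel : (p.scaleRoots b).eval₂ φ (φ a) = 0 := by rw [eval₂_at_apply, hab, map_zero]
  -- `φ b` divides `φ a`
  have hdvd : φ a ∈ Ideal.span {φ b} := by
    let I : Ideal N := Submodule.comap (LinearMap.mulRight N (φ a)) (Ideal.span {φ b})
    by_contra hne
    obtain ⟨P, hP, hle⟩ := Ideal.exists_le_maximal I fun h0 => hne (by
      have : (1 : N) ∈ I := h0 ▸ trivial
      simpa [I] using this)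
    haveI := hP.isPrime
    haveI := (hN P).1
    haveI := (hN P).2
    by_cases hb0 : ∃ v ∉ P, v * φ b = 0
    · obtain ⟨v, hv, hvb⟩ := hb0
      have h0 : algebraMap N (Localization.AtPrime P) (φ b) = 0 :=
        (IsLocalization.map_eq_zero_iff P.primeCompl _ _).mpr ⟨⟨v, hv⟩, hvb⟩
      have h1 := congrArg (algebraMap N (Localization.AtPrime P)) hrel
      rw [map_zero, hom_eval₂, ← eval_map, map_scaleRoots _ _ _ (by rw [hp, map_one]; exact one_ne_zero),
        RingHom.comp_apply, h0, scaleRoots_zero, eval_smul, eval_pow, eval_X, smul_eq_mul,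
        (hp.map _).leadingCoeff, one_mul] at h1
      obtain ⟨⟨w, hw⟩, hwa⟩ := (IsLocalization.map_eq_zero_iff P.primeCompl _ _).mp (eq_zero_of_pow_eq_zero h1)
      exact hw (hle (show w * φ a ∈ Ideal.span {φ b} by rw [hwa]; exact zero_mem _))
    · push Not at hb0
      have hroot : ((p.map φ).scaleRoots (φ b)).eval (φ a) = 0 := by
        rw [← map_scaleRoots _ _ _ (by rw [hp, map_one]; exact one_ne_zero), eval_map, hrel]
      obtain ⟨v, hv, z, hvz⟩ := locCond_of_normal P (φ a) (φ b) (p.map φ) (hp.map φ) hroot hb0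
      exact hv (hle (show v * φ a ∈ Ideal.span {φ b} from Ideal.mem_span_singleton'.mpr ⟨z, hvz.symm⟩))
  obtain ⟨y, hy⟩ := Ideal.mem_span_singleton'.mp hdvd
  let w := p.eval₂ φ y
  have hbw : φ b * w = 0 := by
    have h1 : φ b ^ p.natDegree * w = 0 := by
      rw [← scaleRoots_eval₂_mul φ, mul_comm (φ b), hy, hrel]
    rcases Nat.eq_zero_or_pos p.natDegree with h0 | h0
    · rw [h0, pow_zero, one_mul] at h1
      rw [h1, mul_zero]
    · obtain ⟨d, hd⟩ := Nat.exists_eq_succ_of_ne_zero h0.ne'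
      refine IsNilpotent.eq_zero ⟨d + 1, ?_⟩
      rw [hd, Nat.succ_eq_add_one] at h1
      rw [mul_pow]
      linear_combination w ^ d * h1
  obtain ⟨e, hee, heb, hew⟩ := hI (φ b) w hbw
  have hev : ∀ q : S[X], e * q.eval₂ φ (e * y) = e * q.eval₂ φ y := by
    intro q
    induction q using Polynomial.induction_on' with
    | add q q' hq hq' => rw [eval₂_add, eval₂_add, mul_add, mul_add, hq, hq']
    | monomial m c =>
      have hem : e * e ^ m = e := by
        induction m with
        | zero => rw [pow_zero, mul_one]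
        | succ m ih => rw [pow_succ, ← mul_assoc, ih, hee]
      rw [eval₂_monomial, eval₂_monomial, mul_pow]
      linear_combination (φ c * y ^ m) * hem
  obtain ⟨z, hz⟩ := hc (e * y) ⟨X * p, monic_X.mul hp, by
    rw [eval₂_mul, eval₂_X, mul_comm e y, mul_assoc, mul_comm y e, hev, hew, mul_zero]⟩
  refine ⟨1, hQ, z, hφ ?_⟩
  rw [one_mul, map_mul, hz, ← hy, mul_assoc e, mul_comm y (φ b), ← mul_assoc, heb]

end Groth.L06.NormalTensor
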