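import Groth.Agent.L06.GRingCrit

/-! Geometric properties of `A → Â` for adic completions (EGA IV 7.4.6). -/

set_option autoImplicit false
set_option maxSynthPendingDepth 3
set_option linter.style.haveILetI false
universe u

namespace Groth.L06.IAdic

open IsLocalRing PropLoc GeomFG GeomHom
open scoped TensorProduct

theorem mapCompletion_bijective {R R' : Type u} [CommRing R] [CommRing R'] (φ : R →+* R') (I : Ideal R) (J : Ideal R')
    (h : I.map φ ≤ J) (hs : ∀ (n : ℕ) (y : R'), ∃ x, φ x - y ∈ J ^ n) (hi : ∀ (n : ℕ) (x : R), φ x ∈ J ^ n → x ∈ I ^ n) :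
    Function.Bijective (GRingTransport.mapCompletion φ I J h) := by
  constructor
  · refine (injective_iff_map_eq_zero _).mpr fun x hx => AdicCompletion.ext_evalₐ fun n => ?_
    obtain ⟨a, ha⟩ := Ideal.Quotient.mk_surjective (AdicCompletion.evalₐ I n x)
    have h1 := GRingTransport.evalₐ_mapCompletion φ I J h n x a ha.symm
    rw [hx, map_zero, eq_comm, Ideal.Quotient.eq_zero_iff_mem] at h1
    rw [← ha, map_zero, Ideal.Quotient.eq_zero_iff_mem]
    exact hi n a h1
  · intro y
    obtain ⟨c, rfl⟩ := AdicCompletion.mk_surjective J R' y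
    choose x hx using fun n => hs n (c n)
    refine ⟨AdicCompletion.mk I R ⟨x, fun {m n} hmn => ?_⟩, AdicCompletion.ext_evalₐ fun n => ?_⟩
    · rw [SModEq.sub_mem, smul_eq_mul, Ideal.mul_top]
      refine hi m _ ?_
      have h1 := c.2 hmn
      rw [SModEq.sub_mem, smul_eq_mul, Ideal.mul_top] at h1
      have h2 := sub_mem (add_mem (hx m) h1) (Ideal.pow_le_pow_right hmn (hx n))
      rw [map_sub]
      convert h2 using 1
      ring
    · rw [GRingTransport.evalₐ_mapCompletion φ I J h n _ (x n) (AdicCompletion.evalₐ_mk ..), AdicCompletion.evalₐ_mk,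
        Ideal.Quotient.eq]
      exact hx n

variable {A : Type u} [CommRing A] [IsNoetherianRing A] (I : Ideal A)

theorem mem_map_pow_iff (n : ℕ) (x : AdicCompletion I A) :
    x ∈ (I ^ n).map (algebraMap A (AdicCompletion I A)) ↔ AdicCompletion.evalₐ I n x = 0 := by
  rw [← Submodule.restrictScalars_mem A, ← Ideal.smul_top_eq_map,
    AdicCompletion.pow_smul_top_eq_ker_eval (IsNoetherian.noetherian I), LinearMap.mem_ker]
  constructor
  · intro h
    rw [← AdicCompletion.factor_eval_eq_evalₐ I x (by rw [smul_eq_mul, Ideal.mul_top]), h, map_zero]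
  · intro h
    rw [← AdicCompletion.factor_evalₐ_eq_eval I x (by rw [smul_eq_mul, Ideal.mul_top]), h, map_zero]

theorem exists_approx (n : ℕ) (x : AdicCompletion I A) :
    ∃ a, x - algebraMap A _ a ∈ (I ^ n).map (algebraMap A (AdicCompletion I A)) := by
  obtain ⟨a, ha⟩ := Ideal.Quotient.mk_surjective (AdicCompletion.evalₐ I n x)
  refine ⟨a, (mem_map_pow_iff I n _).mpr ?_⟩
  rw [map_sub, AlgHom.commutes, ← ha]
  exact sub_self _

theorem comap_map_pow {m : Ideal A} (hI : I ≤ m) (n : ℕ) (a : A)
    (ha : algebraMap A (AdicCompletion I A) a ∈ (m.map (algebraMap A _)) ^ n) : a ∈ m ^ n := by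
  rw [← Ideal.map_pow] at ha
  have hle : I ^ n ≤ m ^ n := Ideal.pow_right_mono hI n
  let f : AdicCompletion I A →+* A ⧸ m ^ n :=
    (Ideal.Quotient.factor hle).comp (AdicCompletion.evalₐ I n).toRingHom
  have hf : f.comp (algebraMap A _) = Ideal.Quotient.mk (m ^ n) := RingHom.ext fun b => by
    show Ideal.Quotient.factor hle (AdicCompletion.evalₐ I n (algebraMap A _ b)) = _
    rw [AlgHom.commutes]
    rfl
  have h1 := Ideal.mem_map_of_mem f ha
  rw [Ideal.map_map, hf, Ideal.map_quotient_self, Ideal.mem_bot] at h1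
  rw [← Ideal.Quotient.eq_zero_iff_mem, ← hf]
  exact h1

theorem exists_cpl_equiv (M : Ideal (AdicCompletion I A)) [M.IsMaximal] :
    ∃ (m : Ideal A) (_ : m.IsMaximal) (e : EGA4.Cpl (Localization.AtPrime m) ≃+*
      (haveI : IsNoetherianRing (AdicCompletion I A) := Groth.Agent.S0543.result A I
       EGA4.Cpl (Localization.AtPrime M))),
      ∀ a, e (algebraMap A _ a) = algebraMap A _ a := by
  haveI : IsNoetherianRing (AdicCompletion I A) := Groth.Agent.S0543.result A I
  haveI := AdicCompletion.isAdicComplete_self I (IsNoetherian.noetherian I)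
  let f := algebraMap A (AdicCompletion I A)
  let m := M.comap f
  haveI : m.IsPrime := Ideal.IsPrime.comap _
  have hIM : I.map f ≤ M := (IsAdicComplete.le_jacobson_bot _).trans (sInf_le ⟨bot_le, ‹_›⟩)
  have hIm : I ≤ m := Ideal.map_le_iff_le_comap.mp hIM
  have hMm : M = m.map f := le_antisymm (fun x hx => by
    obtain ⟨a, ha⟩ := exists_approx I 1 x
    rw [pow_one] at ha
    have ham : a ∈ m := by
      show f a ∈ M
      simpa using sub_mem hx (hIM ha)
    have h2 := add_mem (Ideal.map_mono hIm ha) (Ideal.mem_map_of_mem f ham)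
    rwa [sub_add_cancel] at h2) Ideal.map_comap_le
  haveI : m.IsMaximal := by
    have hs : Function.Surjective ((Ideal.Quotient.mk M).comp f) := fun z => by
      obtain ⟨x, rfl⟩ := Ideal.Quotient.mk_surjective z
      obtain ⟨a, ha⟩ := exists_approx I 1 x
      rw [pow_one] at ha
      refine ⟨a, (Ideal.Quotient.eq.mpr ?_)⟩
      rw [← neg_sub]
      exact neg_mem (hIM ha)
    haveI : (RingHom.ker ((Ideal.Quotient.mk M).comp f)).IsMaximal :=
      letI := Ideal.Quotient.field M
      RingHom.ker_isMaximal_of_surjective _ hs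
    rwa [← RingHom.comap_ker, Ideal.mk_ker] at this
  refine ⟨m, inferInstance, ?_⟩
  let Am := Localization.AtPrime m
  let BM := Localization.AtPrime M
  let φ : Am →+* BM := Localization.localRingHom m M f rfl
  have hφ : (maximalIdeal Am).map φ ≤ maximalIdeal BM := by
    haveI := Localization.isLocalHom_localRingHom m M f rfl
    exact IsLocalRing.map_maximalIdeal_le φ
  have hpow : ∀ n, (M ^ n).map (algebraMap _ BM) = maximalIdeal BM ^ n := fun n => by
    rw [Ideal.map_pow, Localization.AtPrime.map_eq_maximalIdeal]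
  have hinv : ∀ n, ∀ s ∉ M, ∃ t, t * s - 1 ∈ M ^ n := fun n s hs => by
    obtain ⟨t, j, hj, hsum⟩ := Ideal.IsMaximal.exists_inv ‹M.IsMaximal› hs
    refine ⟨t * ∑ i ∈ Finset.range n, j ^ i, ?_⟩
    rw [mul_right_comm, eq_sub_of_add_eq hsum, mul_neg_geom_sum]
    simpa using Ideal.pow_mem_pow hj n
  have hbij := mapCompletion_bijective φ (maximalIdeal Am) (maximalIdeal BM) hφ ?_ ?_
  · refine ⟨RingEquiv.ofBijective _ hbij, fun a => ?_⟩
    show GRingTransport.mapCompletion φ _ _ hφ (algebraMap A _ a) = _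
    rw [IsScalarTower.algebraMap_apply A Am (EGA4.Cpl Am)]
    refine (GRingTransport.mapCompletion_algebraMap φ _ _ hφ _).trans ?_
    rw [Localization.localRingHom_to_map]
    rfl
  · intro n y
    obtain ⟨b, s, rfl⟩ := IsLocalization.exists_mk'_eq M.primeCompl y
    obtain ⟨t, ht⟩ := hinv n s s.2
    obtain ⟨a, ha⟩ := exists_approx I n (b * t)
    refine ⟨algebraMap A Am a, ?_⟩
    rw [Localization.localRingHom_to_map]
    have h1 : b * t - f a ∈ M ^ n := (Ideal.map_pow f I n ▸ Ideal.pow_right_mono hIM n) ha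
    have hs : IsUnit (algebraMap _ BM (s : AdicCompletion I A)) := IsLocalization.map_units BM s
    rw [← Ideal.mul_unit_mem_iff_mem _ hs, sub_mul, IsLocalization.mk'_spec, ← map_mul, ← map_sub, ← hpow]
    refine Ideal.mem_map_of_mem _ ?_
    have : f a * s - b = b * (t * s - 1) - (b * t - f a) * s := by ring
    rw [this]
    exact sub_mem (Ideal.mul_mem_left _ _ ht) (Ideal.mul_mem_right _ _ h1)
  · intro n x hx
    obtain ⟨a, s, rfl⟩ := IsLocalization.exists_mk'_eq m.primeCompl x
    have h1 : algebraMap _ BM (f a) ∈ maximalIdeal BM ^ n := by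
      have := Ideal.mul_mem_right (φ (algebraMap A Am s)) _ hx
      rwa [← map_mul, IsLocalization.mk'_spec, Localization.localRingHom_to_map] at this
    rw [← hpow, IsLocalization.algebraMap_mem_map_algebraMap_iff M.primeCompl] at h1
    obtain ⟨w, hw, hwa⟩ := h1
    obtain ⟨t, ht⟩ := hinv n w hw
    have h2 : f a ∈ M ^ n := by
      have : f a = t * (w * f a) - (t * w - 1) * f a := by ring
      rw [this]
      exact sub_mem (Ideal.mul_mem_left _ _ hwa) (Ideal.mul_mem_right _ _ ht)
    rw [hMm] at h2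
    have h3 := comap_map_pow I hIm n a h2
    rw [IsLocalization.mk'_eq_mul_mk'_one, ← Localization.AtPrime.map_eq_maximalIdeal, ← Ideal.map_pow]
    exact Ideal.mul_mem_right _ _ (Ideal.mem_map_of_mem _ h3)

omit [IsNoetherianRing A] in
/-- geometric properties are local on the target -/
theorem geomHom_of_maximal {Q : ∀ (R : Type u) [CommRing R], Prop} (hQ : Good Q) {B : Type u} [CommRing B] [IsNoetherianRing B]
    [Algebra A B] (h : ∀ (M : Ideal B) [M.IsMaximal], GeomHom Q A (Localization.AtPrime M)) : GeomHom Q A B := by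
  intro p _ K _ _ hK r _
  haveI := hK
  letI : Algebra A K := ((algebraMap p.ResidueField K).comp (algebraMap A p.ResidueField)).toAlgebra
  haveI : IsScalarTower A p.ResidueField K := IsScalarTower.of_algebraMap_eq' rfl
  haveI := GeomLocal.isNoetherianRing_fibre (B := B) p K
  let e : K ⊗[A] B ≃+* K ⊗[p.ResidueField] p.Fiber B :=
    (Algebra.TensorProduct.cancelBaseChange A p.ResidueField p.ResidueField K B).toRingEquiv.symm
  haveI : IsNoetherianRing (K ⊗[A] B) := isNoetherianRing_of_ringEquiv (K ⊗[p.ResidueField] p.Fiber B) e.symm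
  refine CompleteGRing.at_equiv hQ e r ?_
  let r' := r.comap e.toRingHom
  haveI : r'.IsPrime := Ideal.IsPrime.comap _
  obtain ⟨M, hM, hrM⟩ := (r'.comap (Algebra.TensorProduct.includeRight (R := A) (A := K) (B := B)).toRingHom).exists_le_maximal
    (Ideal.IsPrime.ne_top inferInstance)
  haveI := hM
  let BM := Localization.AtPrime M
  haveI := GeomLocal.isNoetherianRing_fibre (B := BM) p K
  let e' : K ⊗[p.ResidueField] p.Fiber BM ≃+* K ⊗[A] BM :=
    (Algebra.TensorProduct.cancelBaseChange A p.ResidueField p.ResidueField K BM).toRingEquiv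
  haveI : IsNoetherianRing (K ⊗[A] BM) := isNoetherianRing_of_ringEquiv (K ⊗[p.ResidueField] p.Fiber BM) e'
  have hloc : Loc Q (K ⊗[A] BM) := loc_of_ringEquiv hQ e' (h M p K inferInstance)
  let g : K ⊗[A] B →ₐ[A] K ⊗[A] BM := Algebra.TensorProduct.map (AlgHom.id A K) (IsScalarTower.toAlgHom A B BM)
  letI : Algebra (K ⊗[A] B) (K ⊗[A] BM) := g.toRingHom.toAlgebra
  haveI : IsScalarTower K (K ⊗[A] B) (K ⊗[A] BM) := IsScalarTower.of_algebraMap_eq fun k => by
    show k ⊗ₜ[A] (1 : BM) = g (k ⊗ₜ 1)
    rw [Algebra.TensorProduct.map_tmul, map_one]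
    rfl
  let T := Submonoid.map (Algebra.TensorProduct.includeRight (R := A) (A := K) (B := B)) M.primeCompl
  haveI : IsLocalization T (K ⊗[A] BM) := IsLocalization.tensorProduct_tensorProduct_right A K M.primeCompl BM
    (RingHom.ext fun b => by
      show g (1 ⊗ₜ b) = (1 : K) ⊗ₜ[A] algebraMap B BM b
      rw [Algebra.TensorProduct.map_tmul]
      rfl)
  have hd : Disjoint (T : Set (K ⊗[A] B)) (r' : Set (K ⊗[A] B)) := Set.disjoint_left.mpr fun x hx hxr => by
    obtain ⟨b, hb, rfl⟩ := hx
    exact hb (hrM hxr)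
  let P := r'.map (algebraMap (K ⊗[A] B) (K ⊗[A] BM))
  haveI : P.IsPrime := IsLocalization.isPrime_of_isPrime_disjoint T _ r' ‹_› hd
  haveI : IsLocalization.AtPrime (Localization.AtPrime P) r' := by
    convert IsLocalization.isLocalization_isLocalization_atPrime_isLocalization T (Localization.AtPrime P) P using 2
    exact (IsLocalization.comap_map_of_isPrime_disjoint T _ ‹_› hd).symm
  haveI : IsNoetherianRing (Localization.AtPrime P) := IsLocalization.isNoetherianRing P.primeCompl _ inferInstance
  exact hQ.of_equiv (IsLocalization.algEquiv r'.primeCompl (Localization.AtPrime P) (Localization.AtPrime r')).toRingEquiv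
    (hloc P)

theorem geomHom_completion {Q : ∀ (R : Type u) [CommRing R], Prop} (hQ : Good Q) (hr : RegImp Q)
    (h : ∀ (m : Ideal A) [m.IsMaximal], FF Q (Localization.AtPrime m)) : GeomHom Q A (AdicCompletion I A) := by
  haveI : IsNoetherianRing (AdicCompletion I A) := Groth.Agent.S0543.result A I
  refine geomHom_of_maximal hQ fun M _ => ?_
  obtain ⟨m, hm, e, he⟩ := exists_cpl_equiv I M
  haveI := hm
  haveI : IsNoetherianRing (EGA4.Cpl (Localization.AtPrime m)) := Groth.Agent.S0543.result _ _
  haveI : IsNoetherianRing (EGA4.Cpl (Localization.AtPrime M)) := Groth.Agent.S0543.result _ _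
  haveI := NormalAscent.faithfullyFlat_cpl (Localization.AtPrime m)
  haveI := NormalAscent.faithfullyFlat_cpl (Localization.AtPrime M)
  have h1 : GeomHom Q A (EGA4.Cpl (Localization.AtPrime m)) :=
    comp hQ (geomHom_of_reg hr (geomHom_localization m.primeCompl (Localization.AtPrime m))) (h m)
  exact descend hQ (C := EGA4.Cpl (Localization.AtPrime M)) (of_algEquiv hQ (AlgEquiv.ofRingEquiv (f := e) he) h1)

end Groth.L06.IAdic
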