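import Groth.Agent.L06.FlatLimitPreserving
import Groth.Agent.L22.Cyc.BaseChange
import Groth.Agent.L07.ValDim
import Mathlib.AlgebraicGeometry.IdealSheaf.Subscheme

/-!
# "Flat in dimensions at least n" is an fpqc sheaf
-/

set_option autoImplicit false
set_option maxSynthPendingDepth 3
set_option linter.style.haveILetI false
set_option backward.isDefEq.respectTransparency.types false
set_option backward.isDefEq.respectTransparency false

universe u

open CategoryTheory CategoryTheory.Limits AlgebraicGeometry Opposite TopologicalSpace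
open Groth.L22.Cyc (FibGen fibGen_of_maximal rtrdeg rtrdeg_baseChange rtrdeg_comp rtrdeg_congr)

noncomputable section

namespace Groth.L06.FlatDimSheaf

variable {X S X' S' : Scheme.{u}}

theorem surjective_stalkSpecializes_residue {Y : Scheme.{u}} {a b : Y} (e : a = b) (h : a ⤳ b) :
    Function.Surjective (Y.presheaf.stalkSpecializes h ≫ Y.residue a) := by
  subst e
  rw [TopCat.Presheaf.stalkSpecializes_refl, Category.id_comp]
  exact IsLocalRing.residue_surjective

/-- Along a generization inside a fibre the transcendence degree does not drop. -/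
theorem rtrdeg_le_of_fibre (f : X ⟶ S) {a b : X} (h : a ⤳ b) (e : f a = f b) :
    rtrdeg f b ≤ rtrdeg f a :=
  Groth.L07.ValDim.rtrdeg_le f h fun c => Or.inl (surjective_stalkSpecializes_residue e (h.map f.continuous) c)

theorem rtrdeg_preimmersion {Z : Scheme.{u}} (i : Z ⟶ X) [IsPreimmersion i] (z : Z) : rtrdeg i z = 0 := by
  letI := (i.residueFieldMap z).hom.toAlgebra
  haveI : Algebra.IsAlgebraic (X.residueField (i z)) (Z.residueField z) := ⟨fun b => by
    obtain ⟨a, rfl⟩ := (Groth.L22.FibreDim.residueFieldMap_bijective i z).2 b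
    exact isAlgebraic_algebraMap a⟩
  exact trdeg_eq_zero

theorem rtrdeg_comp_preimmersion {Z : Scheme.{u}} (i : Z ⟶ X) [IsPreimmersion i] (f : X ⟶ S) (z : Z) :
    rtrdeg (i ≫ f) z = rtrdeg f (i z) := by
  rw [rtrdeg_comp, rtrdeg_preimmersion i, add_zero]

/-- Every point has a generization which is generic in its fibre. -/
theorem exists_fibGen (f : X ⟶ S) (x : X) : ∃ y, f y = f x ∧ y ⤳ x ∧ FibGen f y := by
  obtain ⟨z, hz⟩ : x ∈ Set.range (f.fiberι (f x)) := by rw [f.range_fiberι]; rfl
  obtain ⟨η, hη⟩ := QuasiSober.sober (isIrreducible_irreducibleComponent (x := z)) isClosed_irreducibleComponent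
  refine ⟨f.fiberι (f x) η, (f.range_fiberι (f x)).subset ⟨η, rfl⟩, ?_, fibGen_of_maximal fun w hw => ?_⟩
  · conv_rhs => rw [← hz]
    exact (hη.specializes mem_irreducibleComponent).map (f.fiberι (f x)).continuous
  · have h2 : closure ({w} : Set (f.fiber (f x))) = irreducibleComponent z :=
      eq_irreducibleComponent isIrreducible_singleton.closure.2 (by
        rw [← hη.def]; exact closure_minimal (Set.singleton_subset_iff.2 hw.mem_closure) isClosed_closure)
    exact (show IsGenericPoint w (irreducibleComponent z) from h2).eq hη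

/-- The closure of a point as a closed subscheme. -/
theorem exists_closure (x : X) :
    ∃ (Z : Scheme.{u}) (i : Z ⟶ X), IsClosedImmersion i ∧ Set.range i = closure ({x} : Set X) := by
  let C : TopologicalSpace.Closeds X := ⟨closure {x}, isClosed_closure⟩
  exact ⟨_, (Scheme.IdealSheafData.vanishingIdeal C).subschemeι, inferInstance, by
    rw [Scheme.IdealSheafData.range_subschemeι, Scheme.IdealSheafData.coe_support_vanishingIdeal]; rfl⟩

variable {f : X ⟶ S} {f' : X' ⟶ S'} {q : X' ⟶ X} {g : S' ⟶ S}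

/-- The transcendence degree does not increase under base change. -/
theorem rtrdeg_baseChange_le [LocallyOfFiniteType f] (sq : IsPullback q f' f g) (y : X') :
    rtrdeg f' y ≤ rtrdeg f (q y) := by
  obtain ⟨Z, i, hi, hr⟩ := exists_closure (q y)
  obtain ⟨z, hz⟩ : q y ∈ Set.range i := hr.symm ▸ subset_closure rfl
  let qZ := pullback.fst i q
  let iZ := pullback.snd i q
  have sq' : IsPullback qZ (iZ ≫ f') (i ≫ f) g := (IsPullback.of_hasPullback i q).paste_vert sq
  haveI : LocallyOfFiniteType (i ≫ f) := inferInstance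
  obtain ⟨w, -, hw⟩ := Scheme.exists_preimage_of_isPullback (IsPullback.of_hasPullback i q) z y hz
  obtain ⟨v, hv, hvw, hvg⟩ := exists_fibGen (iZ ≫ f') w
  calc rtrdeg f' y = rtrdeg (iZ ≫ f') w := by rw [rtrdeg_comp_preimmersion, hw]
    _ ≤ rtrdeg (iZ ≫ f') v := rtrdeg_le_of_fibre _ hvw hv
    _ = rtrdeg (i ≫ f) (qZ v) := rtrdeg_baseChange sq' hvg
    _ = rtrdeg f (i (qZ v)) := rtrdeg_comp_preimmersion i f _
    _ ≤ rtrdeg f (q y) := by
      refine rtrdeg_le_of_fibre f (specializes_iff_mem_closure.2 (hr ▸ Set.mem_range_self (qZ v))) ?_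
      have h1 : ∀ u, f (i (qZ u)) = g ((iZ ≫ f') u) := fun u => by
        simp only [← Scheme.Hom.comp_apply]
        rw [Category.assoc, sq'.w]
      rw [h1 v, hv, Scheme.Hom.comp_apply, hw]
      rw [← Scheme.Hom.comp_apply, ← Scheme.Hom.comp_apply, sq.w]

/-- Over every compatible point of the new base some point has the same transcendence degree. -/
theorem exists_rtrdeg_baseChange_eq [LocallyOfFiniteType f] (sq : IsPullback q f' f g) (x : X) (s' : S')
    (h : g s' = f x) : ∃ y : X', q y = x ∧ f' y = s' ∧ rtrdeg f' y = rtrdeg f x := by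
  obtain ⟨Z, i, hi, hr⟩ := exists_closure x
  obtain ⟨z, rfl⟩ : x ∈ Set.range i := hr.symm ▸ subset_closure rfl
  let qZ := pullback.fst i q
  let iZ := pullback.snd i q
  have hcomm : qZ ≫ i = iZ ≫ q := pullback.condition
  have sq' : IsPullback qZ (iZ ≫ f') (i ≫ f) g := (IsPullback.of_hasPullback i q).paste_vert sq
  obtain ⟨w, hwz, hws⟩ := Scheme.exists_preimage_of_isPullback sq' z s' h.symm
  obtain ⟨v, hv, hvw, hvg⟩ := exists_fibGen (iZ ≫ f') w
  have hqv : qZ v = z := i.isEmbedding.injective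
    ((hwz ▸ (hvw.map qZ.continuous).map i.continuous : i (qZ v) ⤳ i z).antisymm
      (specializes_iff_mem_closure.2 (hr ▸ Set.mem_range_self (qZ v)))).eq
  refine ⟨iZ v, ?_, (hv.trans hws : (iZ ≫ f') v = s'), ?_⟩
  · rw [← Scheme.Hom.comp_apply, ← hcomm, Scheme.Hom.comp_apply, hqv]
  · rw [← rtrdeg_comp_preimmersion iZ f' v, rtrdeg_baseChange sq' hvg, hqv, rtrdeg_comp_preimmersion]

variable (f : X ⟶ S) (F : X.Modules) [Coh.IsQCoh F] (n : ℕ) [LocallyOfFiniteType f]

theorem stable ⦃T T₀ : Over S⦄ (k : T ⟶ T₀)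
    (h : FlatFun.DimFibresLT n (PicF.XTproj f T₀)
      {x | ¬ FlatMod.IsFlatOverAt (PicF.XTproj f T₀) (FGA.ET f F T₀) x}) :
    FlatFun.DimFibresLT n (PicF.XTproj f T) {x | ¬ FlatMod.IsFlatOverAt (PicF.XTproj f T) (FGA.ET f F T) x} :=
  fun y hy => lt_of_le_of_lt (rtrdeg_baseChange_le (FlatLimitPreserving.isPullback_XTmap f k) y)
    (h _ fun hf => hy (FlatLimitPreserving.isFlatOverAt_map f F k y hf))

/-- The condition is a sheaf for the fpqc topology. -/
theorem isSheaf :
    Presheaf.IsSheaf (QuotSh.J Scheme.fpqcPrecoverage S)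
      (FlatFun.genPSp S (fun T => FlatFun.DimFibresLT n (PicF.XTproj f T)
        {x | ¬ FlatMod.IsFlatOverAt (PicF.XTproj f T) (FGA.ET f F T) x})) := by
  refine Groth.L06.CondSheaf.isSheaf_genPSp Scheme.fpqcPrecoverage _ (stable f F n)
    fun {Y} R hR {Y'} g h hk x hx => ?_
  obtain ⟨ι, Z, p, hp⟩ := (R.pullbackArrows g).exists_eq_ofArrows
  have hmem : Presieve.ofArrows Z p ∈ Scheme.precoverage @Flat Y' :=
    hp ▸ Scheme.propQCPrecoverage_le_precoverage (P := @Flat) _ (Precoverage.pullbackArrows_mem g hR)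
  obtain ⟨hsurj, hflat⟩ := (Scheme.ofArrows_mem_precoverage_iff _).1 hmem
  obtain ⟨i, z, hz⟩ := hsurj (PicF.XTproj f (Over.mk h) x)
  let m : Over.mk (p i ≫ h) ⟶ Over.mk h := Over.homMk (p i) rfl
  obtain ⟨y, hqy, -, hy⟩ := exists_rtrdeg_baseChange_eq (FlatLimitPreserving.isPullback_XTmap f m) x z hz
  have hi : (Sieve.generate R).pullback g (p i) := by
    rw [← Sieve.pullbackArrows_comm]
    exact ⟨Z i, 𝟙 _, p i, hp ▸ Presieve.ofArrows.mk i, Category.id_comp _⟩
  haveI : Flat (p i) := hflat i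
  refine hy.symm.trans_lt (hk _ _ hi y fun hf => hx ?_)
  have := Groth.Agent.S1392.result _ _ _ _ (FlatLimitPreserving.isPullback_XTmap f m) _
    (FlatLimitPreserving.isQCoh_ET f F _) y (Flat.stalkMap (p i) _)
    ((FlatLimitPreserving.isFlatOverAt_iff_map f F m y).1 hf)
  rwa [hqy] at this

end Groth.L06.FlatDimSheaf
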