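import Groth.Agent.L06.ValuationEquidim
import Groth.Agent.L07.OpenFibreDim
import Groth.Agent.L02.ConsP.Principle
import Mathlib.AlgebraicGeometry.Morphisms.Flat
import Mathlib.AlgebraicGeometry.Morphisms.FinitePresentation

/-! Generic points of fibres over a valuation ring are stable under generisation. -/

set_option autoImplicit false
set_option maxSynthPendingDepth 3
set_option backward.isDefEq.respectTransparency.types false
set_option backward.isDefEq.respectTransparency false
set_option linter.style.haveILetI false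
universe u

open CategoryTheory AlgebraicGeometry TopologicalSpace Topology

namespace Groth.L06.ValuationFibreGeneric

open Groth.L07.Equidim Groth.L07.DimToolkit

theorem fdim_comp_mono {X Y W : Scheme.{u}} (g : X ⟶ Y) (j : Y ⟶ W) (hj : Function.Injective j) (x : X) :
    fdim (g ≫ j) x = fdim g x := by
  unfold fdim
  have : (g ≫ j).base ⁻¹' {(g ≫ j).base x} = g.base ⁻¹' {g.base x} := by
    ext z
    simp only [Set.mem_preimage, Set.mem_singleton_iff]
    show j (g z) = j (g x) ↔ g z = g x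
    exact hj.eq_iff
  rw [this]

theorem fibreDimAt_comp_mono {X Y W : Scheme.{u}} (g : X ⟶ Y) (j : Y ⟶ W) (hj : Function.Injective j) (x : X) :
    FlatMor.fibreDimAt (g ≫ j) x = FlatMor.fibreDimAt g x := by
  have hset : ∀ U : X.Opens, ((U : Set X) ∩ (g ≫ j) ⁻¹' {(g ≫ j) x}) = ((U : Set X) ∩ g ⁻¹' {g x}) := fun U => by
    ext z
    simp only [Set.mem_inter_iff, Set.mem_preimage, Set.mem_singleton_iff, Scheme.Hom.comp_apply, hj.eq_iff]
  refine eq_of_forall_ge_iff fun n => ?_
  rw [Groth.L07.FibreDim.fibreDimAt_le_iff, Groth.L07.FibreDim.fibreDimAt_le_iff]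
  exact exists_congr fun U => by rw [hset U]

/-- An integral scheme of finite type over a valuation ring, through its scheme-theoretic image. -/
theorem fdim_generic_eq {R : Type u} [CommRing R] [IsDomain R] [ValuationRing R] {Z : Scheme.{u}} [IsIntegral Z]
    (g0 : Z ⟶ Spec (CommRingCat.of R)) [LocallyOfFiniteType g0] (w : Z) :
    FlatMor.fibreDimAt g0 w = fdim g0 (genericPoint Z) := by
  let ψ : R →+* Γ(Z, ⊤) := ((Scheme.ΓSpecIso (CommRingCat.of R)).inv ≫ g0.appTop).hom
  let q : Ideal R := RingHom.ker ψ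
  haveI : Nonempty Z := inferInstance
  haveI hq : q.IsPrime := RingHom.ker_isPrime ψ
  haveI : ValuationRing (R ⧸ q) := Function.Surjective.valuationRing (Ideal.Quotient.mk q) Ideal.Quotient.mk_surjective
  let g : Z ⟶ Spec (CommRingCat.of (R ⧸ q)) := Z.toSpecΓ ≫ Spec.map (CommRingCat.ofHom (RingHom.kerLift ψ))
  let j : Spec (CommRingCat.of (R ⧸ q)) ⟶ Spec (CommRingCat.of R) := Spec.map (CommRingCat.ofHom (Ideal.Quotient.mk q))
  have hgj : g ≫ j = g0 := by
    simp only [g, j, Category.assoc, ← Spec.map_comp]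
    have h : CommRingCat.ofHom (Ideal.Quotient.mk q) ≫ CommRingCat.ofHom (RingHom.kerLift ψ) =
        (Scheme.ΓSpecIso (CommRingCat.of R)).inv ≫ g0.appTop := by
      ext a; rfl
    rw [h, Spec.map_comp, ← Scheme.toSpecΓ_naturality_assoc, ← SpecMap_ΓSpecIso_hom, ← Spec.map_comp,
      Iso.inv_hom_id, Spec.map_id, Category.comp_id]
  haveI : IsClosedImmersion j := IsClosedImmersion.spec_of_surjective _ Ideal.Quotient.mk_surjective
  haveI : LocallyOfFiniteType (g ≫ j) := by rw [hgj]; infer_instance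
  haveI : LocallyOfFiniteType g := locallyOfFiniteType_of_comp g j
  haveI : IsDominant g := ⟨by
    rw [DenseRange, PrimeSpectrum.isTopologicalBasis_basic_opens.dense_iff]
    rintro _ ⟨a, rfl⟩ ⟨x, hx⟩
    have ha : a ≠ 0 := by rintro rfl; exact hx (zero_mem _)
    have hne : RingHom.kerLift ψ a ≠ 0 := fun h => ha (RingHom.kerLift_injective ψ (by rw [h, map_zero]))
    have hb : Z.basicOpen (RingHom.kerLift ψ a) ≠ ⊥ := fun h => hne ((basicOpen_eq_bot_iff _).1 h)
    obtain ⟨z, hz⟩ : (Z.basicOpen (RingHom.kerLift ψ a) : Set Z).Nonempty := by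
      rw [Set.nonempty_iff_ne_empty]
      exact fun h => hb (TopologicalSpace.Opens.ext h)
    refine ⟨g z, ?_, z, rfl⟩
    rw [← Scheme.toSpecΓ_preimage_basicOpen] at hz
    exact hz⟩
  rw [← hgj, fibreDimAt_comp_mono g j j.isEmbedding.injective, fdim_comp_mono g j j.isEmbedding.injective]
  exact Groth.L06.ValuationEquidim.fibreDimAt_eq g w

theorem main (R : Type u) [CommRing R] [IsDomain R] [ValuationRing R] {X : Scheme.{u}}
    (φ : X ⟶ Spec (CommRingCat.of R)) [LocallyOfFiniteType φ]
    (x x' : X) (hgen : x' ⤳ x) (hx : ∀ y : X, y ⤳ x → φ y = φ x → y = x) :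
    ∀ y : X, y ⤳ x' → φ y = φ x' → y = x' := by
  have hxd := Groth.L07.OpenFibreDim.fdim_eq_fibreDimAt φ x fun a ha ha' => hx a ha' ha
  have key : ∀ y : X, y ⤳ x → ∃ (Z : Scheme.{u}) (_ : IsIntegral Z) (i : Z ⟶ X) (_ : IsClosedImmersion i),
      i (genericPoint Z) = y ∧ Set.range i = closure {y} ∧ fdim φ x = fdim φ y := by
    intro y hy
    let I := Scheme.IdealSheafData.vanishingIdeal (⟨closure {y}, isClosed_closure⟩ : Closeds X)
    have hr : Set.range I.subschemeι = closure {y} :=
      Groth.L07.DimToolkit.range_subschemeι_vanishingIdeal ⟨closure {y}, isClosed_closure⟩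
    haveI : IsReduced I.subscheme := Groth.L18.isReduced_vanishingIdeal_subscheme _
    obtain ⟨hirr, hg⟩ := Groth.L07.DimToolkit.irreducible_of_range_eq I.subschemeι y hr
    haveI : IsIntegral I.subscheme := isIntegral_of_irreducibleSpace_of_isReduced _
    refine ⟨_, inferInstance, I.subschemeι, inferInstance, hg, hr, ?_⟩
    obtain ⟨w, hw⟩ : x ∈ Set.range I.subschemeι := by rw [hr]; exact hy.mem_closure
    have h1 := fdim_generic_eq (I.subschemeι ≫ φ) w
    rw [fdim_comp I.subschemeι φ _ rfl, hg] at h1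
    have h2 := (Groth.L07.DimToolkit.fibreDimAt_comp_le I.subschemeι φ w).trans_eq (by rw [hw, ← hxd])
    have h3 := fdim_le_fibreDimAt (I.subschemeι ≫ φ) w
    rw [fdim_comp I.subschemeι φ _ rfl, hw] at h3
    rw [h1] at h2 h3
    exact le_antisymm h3 h2
  intro y hy hφ
  obtain ⟨Z, _, i, _, hig, hr, hd⟩ := key y (hy.trans hgen)
  obtain ⟨-, -, -, -, -, -, hd'⟩ := key x' hgen
  obtain ⟨w, hw⟩ : x' ∈ Set.range i := by rw [hr]; exact hy.mem_closure
  have hwd : fdim (i ≫ φ) w = FlatMor.fibreDimAt (i ≫ φ) w := by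
    rw [fdim_generic_eq (i ≫ φ) w, fdim_comp i φ _ rfl, fdim_comp i φ _ rfl, hig, hw, ← hd, ← hd']
  have h := maximal_of_fdim (i ≫ φ) w hwd (genericPoint Z)
    (by rw [Scheme.Hom.comp_apply, Scheme.Hom.comp_apply, hig, hw, hφ]) ((genericPoint_spec Z).specializes trivial)
  rw [← hig, h, hw]

end Groth.L06.ValuationFibreGeneric
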