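import Groth.Agent.L06.RelAssBC
import Groth.Agent.L06.ValuationFibreGeneric
import Groth.Agent.L06.FlatDimSheaf
import Groth.Agent.L06.SupportStalk
import Groth.Agent.L02.InjFlat.LimitFlatGlobal
import Groth.Agent.L16.AffineBC.Pullback
import Groth.Agent.S2049
import Groth.Agent.S1481
import Mathlib.RingTheory.Flat.TorsionFree

/-!
# Specialisation of relative associated points along flat modules (EGA IV 12.1.1)
-/

set_option autoImplicit false
set_option maxSynthPendingDepth 3
set_option linter.style.haveILetI false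
set_option backward.isDefEq.respectTransparency.types false

universe u

open CategoryTheory CategoryTheory.Limits AlgebraicGeometry TopologicalSpace Topology IsLocalRing

noncomputable section

namespace Groth.L06.RelAssSpecial

/-- The submodule killed by an ideal cuts out an associated point of the closed fibre. -/
theorem isAssociatedPrime_closed_fibre {V B M : Type u} [CommRing V] [IsDomain V] [ValuationRing V]
    [CommRing B] [IsLocalRing B] [Algebra V B] [IsLocalHom (algebraMap V B)] [Algebra.EssFiniteType V B]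
    [AddCommGroup M] [Module B M] [Module V M] [IsScalarTower V B M] [Module.Finite B M] [Module.Flat V M]
    (P : Ideal B) (m₀ : M) (hm : m₀ ≠ 0) (hP : ∀ p ∈ P, ∃ k : ℕ, p ^ k • m₀ = 0)
    (hmax : ∀ R : Ideal B, R.IsPrime → P ≤ R → (maximalIdeal V).map (algebraMap V B) ≤ R → R = maximalIdeal B) :
    IsAssociatedPrime (maximalIdeal B) (M ⧸ ((maximalIdeal V).map (algebraMap V B)) • (⊤ : Submodule B M)) := by
  set I := (maximalIdeal V).map (algebraMap V B) with hI
  let J : Set B := {b | b • m₀ = 0}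
  let N : Submodule B M := Submodule.torsionBySet B M J
  have hm₀ : m₀ ∈ N := (Submodule.mem_torsionBySet_iff _ _).mpr fun b => b.2
  have hreg : ∀ (v : V), v ≠ 0 → ∀ z : M, v • z = 0 → z = 0 := fun v hv z hz =>
    (Module.Flat.isSMulRegular_of_isRegular (IsRegular.of_ne_zero hv)).right_eq_zero_of_smul hz
  have hsat : ∀ (v : V) (z : M), v ≠ 0 → v • z ∈ N → z ∈ N := fun v z hv h =>
    (Submodule.mem_torsionBySet_iff _ _).mpr fun b => hreg v hv _ (by
      rw [← smul_comm]; exact (Submodule.mem_torsionBySet_iff _ _).mp h b)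
  haveI : Module.Flat V (M ⧸ N) := by
    rw [Module.Flat.flat_iff_torsion_eq_bot_of_isBezout, eq_bot_iff]
    intro w hw
    obtain ⟨⟨v, hv⟩, h⟩ := (Submodule.mem_torsion_iff w).mp hw
    obtain ⟨z, rfl⟩ := N.mkQ_surjective w
    rw [Submodule.mem_bot, Submodule.mkQ_apply, Submodule.Quotient.mk_eq_zero]
    refine hsat v z (nonZeroDivisors.ne_zero hv) ((Submodule.Quotient.mk_eq_zero N).mp ?_)
    rw [Submodule.Quotient.mk_smul]
    exact h
  haveI : Module.FinitePresentation B (M ⧸ N) :=
    Groth.Agent.S2049.result (A := V) (B := B) (M := M ⧸ N)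
  have hfg : N.FG := by
    have h := Module.FinitePresentation.fg_ker N.mkQ N.mkQ_surjective
    rwa [Submodule.ker_mkQ] at h
  have hcomb : ∀ z ∈ I • (⊤ : Submodule B M), ∃ v ∈ maximalIdeal V, ∃ m : M, z = v • m := by
    have hadd : ∀ v ∈ maximalIdeal V, ∀ v' ∈ maximalIdeal V, ∀ m m' : M,
        ∃ w ∈ maximalIdeal V, ∃ n : M, v • m + v' • m' = w • n := by
      intro v hv v' hv' m m'
      rcases ValuationRing.dvd_total v v' with ⟨c, hc⟩ | ⟨c, hc⟩
      · exact ⟨v, hv, m + c • m', by rw [hc, mul_smul, smul_add]⟩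
      · exact ⟨v', hv', c • m + m', by rw [hc, mul_smul, smul_add]⟩
    intro z hz
    refine Submodule.smul_induction_on hz (fun r hr n _ => ?_) fun a b ha hb => ?_
    · induction hr using Submodule.span_induction with
      | mem r hr =>
        obtain ⟨v, hv, rfl⟩ := hr
        exact ⟨v, hv, n, algebraMap_smul B v n⟩
      | zero => exact ⟨0, zero_mem _, 0, by rw [zero_smul, zero_smul]⟩
      | add a b _ _ ha hb =>
        obtain ⟨v, hv, m, h⟩ := ha
        obtain ⟨v', hv', m', h'⟩ := hb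
        rw [add_smul, h, h']
        exact hadd v hv v' hv' m m'
      | smul c a _ ha =>
        obtain ⟨v, hv, m, h⟩ := ha
        exact ⟨v, hv, c • m, by rw [smul_eq_mul, mul_smul, h, smul_comm]⟩
    · obtain ⟨v, hv, m, rfl⟩ := ha
      obtain ⟨v', hv', m', rfl⟩ := hb
      exact hadd v hv v' hv' m m'
  obtain ⟨n, hn, hnI⟩ : ∃ n ∈ N, n ∉ I • (⊤ : Submodule B M) := by
    by_contra h
    push Not at h
    refine hm ((Submodule.eq_bot_iff N).mp
      (Submodule.eq_bot_of_le_smul_of_le_jacobson_bot I N hfg (fun z hz => ?_) ?_) m₀ hm₀)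
    · obtain ⟨v, hv, m, rfl⟩ := hcomb z (h z hz)
      by_cases hv0 : v = 0
      · rw [hv0, zero_smul]; exact zero_mem _
      rw [← algebraMap_smul B v m]
      exact Submodule.smul_mem_smul (Ideal.mem_map_of_mem _ hv) (hsat v m hv0 hz)
    · rw [jacobson_eq_maximalIdeal ⊥ bot_ne_top, hI, Ideal.map_le_iff_le_comap]
      intro v hv
      exact fun hu => hv (isUnit_of_map_unit (algebraMap V B) v hu)
  refine ⟨(maximalIdeal.isMaximal B).isPrime, Submodule.Quotient.mk n, ?_⟩
  refine le_antisymm ?_ ?_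
  · rw [Ideal.radical_eq_sInf]
    refine le_sInf fun R ⟨hR, hRp⟩ => (hmax R hRp (fun p hp => ?_) ?_).ge
    · obtain ⟨k, hk⟩ := hP p hp
      refine hRp.mem_of_pow_mem k (hR ?_)
      rw [Submodule.mem_colon_singleton, Submodule.mem_bot, ← Submodule.Quotient.mk_smul,
        (Submodule.mem_torsionBySet_iff _ _).mp hn ⟨p ^ k, hk⟩]
      rfl
    · intro r hr
      refine hR ?_
      rw [Submodule.mem_colon_singleton, Submodule.mem_bot, ← Submodule.Quotient.mk_smul,
        Submodule.Quotient.mk_eq_zero]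
      exact Submodule.smul_mem_smul hr trivial
  · refine (maximalIdeal.isMaximal B).isPrime.radical_le_iff.mpr (le_maximalIdeal fun h => hnI ?_)
    have h1 := (Ideal.eq_top_iff_one _).mp h
    rw [Submodule.mem_colon_singleton, Submodule.mem_bot, one_smul, Submodule.Quotient.mk_eq_zero] at h1
    exact h1

/-- The maximal ideal of a stalk of a spectrum is generated by the prime. -/
theorem maximalIdeal_stalk_spec (R : CommRingCat.{u}) (p : Spec R) :
    maximalIdeal ((Spec R).presheaf.stalk p) =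
      p.asIdeal.map ((Scheme.ΓSpecIso R).inv ≫ (Spec R).presheaf.germ ⊤ p trivial).hom := by
  rw [← Spec.algebraMap_stalkIso_inv, CommRingCat.hom_comp, CommRingCat.hom_ofHom, ← Ideal.map_map,
    Localization.AtPrime.map_eq_maximalIdeal]
  exact (IsLocalRing.map_ringEquiv_maximalIdeal (Spec.stalkIso R p).symm.commRingCatIsoToRingEquiv).symm

variable {X : Scheme.{u}}

/-- Specialisation of the relative assassin over a valuation ring. -/
theorem mem_relAss_closed_fibre {V : Type u} [CommRing V] [IsDomain V] [ValuationRing V]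
    (f : X ⟶ Spec (CommRingCat.of V)) [LocallyOfFiniteType f] (F : X.Modules) (hF : Coh.IsCoh F)
    (y x : X) (hy : y ∈ MoreMor.relAss f F) (hyt : f y = (⊥ : PrimeSpectrum V))
    (hxs : f x = closedPoint V) (hyx : y ⤳ x)
    (hmax : ∀ z, y ⤳ z → f z = closedPoint V → z ⤳ x → z = x)
    (hfl : FlatMod.IsFlatOverAt f F x) : x ∈ MoreMor.relAss f F := by
  classical
  haveI : Coh.IsQCoh F := hF.1
  obtain ⟨W, hW, hxW, -⟩ := exists_isAffineOpen_mem_and_subset (x := x) (U := (⊤ : X.Opens)) trivial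
  have hyW : y ∈ W := hyx.mem_open W.2 hxW
  let R : CommRingCat.{u} := CommRingCat.of V
  let ψ : R ⟶ Γ(X, W) := (Scheme.ΓSpecIso R).inv ≫ f.appLE ⊤ W le_top
  have hψ : Spec.map ψ = hW.fromSpec ≫ f := by
    rw [← IsAffineOpen.SpecMap_appLE_fromSpec f (isAffineOpen_top (Spec R)) hW le_top,
      IsAffineOpen.fromSpec_top, Scheme.isoSpec_Spec_inv, ← Spec.map_comp]
  let κ : ∀ z : X, R ⟶ (Spec R).presheaf.stalk (f z) := fun z =>
    (Scheme.ΓSpecIso R).inv ≫ (Spec R).presheaf.germ ⊤ (f z) trivial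
  have hκ : ∀ z (hz : z ∈ W), κ z ≫ f.stalkMap z = ψ ≫ X.presheaf.germ W z hz := fun z hz => by
    simp only [κ, ψ, Category.assoc, Scheme.Hom.germ_stalkMap]
    simp only [Scheme.Hom.appLE, Category.assoc, TopCat.Presheaf.germ_res]
  have hcomp : ∀ z (hz : z ∈ W), Ideal.map (f.stalkMap z).hom (maximalIdeal ((Spec R).presheaf.stalk (f z))) =
      (f z).asIdeal.map (ψ ≫ X.presheaf.germ W z hz).hom := fun z hz => by
    rw [maximalIdeal_stalk_spec, Ideal.map_map, ← CommRingCat.hom_comp, hκ z hz]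
  -- rings
  letI : Algebra V Γ(X, W) := ψ.hom.toAlgebra
  haveI : Algebra.FiniteType V Γ(X, W) := RingHom.finiteType_respectsIso.2 _
    (Scheme.ΓSpecIso R).symm.commRingCatIsoToRingEquiv
    (LocallyOfFiniteType.finiteType_appLE f (isAffineOpen_top _) hW le_top)
  letI := X.presheaf.algebra_section_stalk (⟨x, hxW⟩ : W)
  haveI := hW.isLocalization_stalk ⟨x, hxW⟩
  letI : Algebra V (X.presheaf.stalk x) := (ψ ≫ X.presheaf.germ W x hxW).hom.toAlgebra
  haveI : IsScalarTower V Γ(X, W) (X.presheaf.stalk x) := IsScalarTower.of_algebraMap_eq fun _ => rfl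
  haveI : Algebra.EssFiniteType Γ(X, W) (X.presheaf.stalk x) :=
    .of_isLocalization _ (hW.primeIdealOf ⟨x, hxW⟩).asIdeal.primeCompl
  haveI : Algebra.EssFiniteType V (X.presheaf.stalk x) := .comp V Γ(X, W) _
  let Qx := (hW.primeIdealOf ⟨x, hxW⟩).asIdeal
  let Qy := (hW.primeIdealOf ⟨y, hyW⟩).asIdeal
  have hfQ : ∀ z (hz : z ∈ W), (hW.primeIdealOf ⟨z, hz⟩).asIdeal.comap ψ.hom = (f z).asIdeal := fun z hz => by
    have h : (Spec.map ψ) (hW.primeIdealOf ⟨z, hz⟩) = f z := by
      rw [hψ, Scheme.Hom.comp_apply, IsAffineOpen.fromSpec_primeIdealOf]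
    exact congrArg PrimeSpectrum.asIdeal h
  haveI : IsLocalHom (algebraMap V (X.presheaf.stalk x)) := ⟨fun v hv => by
    by_contra hnu
    have h1 : v ∈ Qx.comap ψ.hom := by rw [hfQ, hxs]; exact hnu
    exact (mem_maximalIdeal _).mp
      ((IsLocalization.AtPrime.to_map_mem_maximal_iff (X.presheaf.stalk x) Qx (ψ.hom v)).mpr h1) hv⟩
  letI : Module V (F.presheaf.stalk x) := Module.compHom _ (algebraMap V (X.presheaf.stalk x))
  haveI : IsScalarTower V (X.presheaf.stalk x) (F.presheaf.stalk x) := IsScalarTower.of_algebraMap_smul fun _ _ => rfl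
  haveI : Module.Finite (X.presheaf.stalk x) (F.presheaf.stalk x) := Groth.L06.SupportStalk.finite_stalk F hF x
  haveI : Module.Flat V (F.presheaf.stalk x) := by
    letI : Algebra V ((Spec R).presheaf.stalk (f x)) := (κ x).hom.toAlgebra
    letI := FlatMod.moduleStalkOver f F x
    haveI : IsScalarTower V ((Spec R).presheaf.stalk (f x)) (F.presheaf.stalk x) :=
      IsScalarTower.of_algebraMap_smul fun v m => by
        show (f.stalkMap x).hom ((κ x).hom v) • m = (ψ ≫ X.presheaf.germ W x hxW).hom v • m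
        rw [← hκ x hxW]; rfl
    haveI : Module.Flat ((Spec R).presheaf.stalk (f x)) (F.presheaf.stalk x) := hfl
    haveI : Module.Flat V ((Spec R).presheaf.stalk (f x)) := by
      have e : (κ x).hom = ((Spec.stalkIso R (f x)).inv.hom.comp (algebraMap V (Localization.AtPrime (f x).asIdeal))) := by
        show ((Scheme.ΓSpecIso R).inv ≫ _).hom = _
        rw [← Spec.algebraMap_stalkIso_inv]
        rfl
      refine Module.Flat.of_linearEquiv (LinearEquiv.ofBijective
        ({ toFun := (Spec.stalkIso R (f x)).inv.hom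
           map_add' := map_add _
           map_smul' := fun v a => ?_ } : Localization.AtPrime (f x).asIdeal →ₗ[V] _)
        (ConcreteCategory.bijective_of_isIso (Spec.stalkIso R (f x)).inv)).symm
      rw [RingHom.id_apply, Algebra.smul_def, Algebra.smul_def, map_mul]
      exact congrArg (· * _) (RingHom.congr_fun e v).symm
    exact Module.Flat.trans V ((Spec R).presheaf.stalk (f x)) (F.presheaf.stalk x)
  -- the element
  letI := X.presheaf.algebra_section_stalk (⟨y, hyW⟩ : W)
  haveI := hW.isLocalization_stalk ⟨y, hyW⟩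
  letI mx := Groth.L20.ModStalk.stalkModule F hxW
  letI my := Groth.L20.ModStalk.stalkModule F hyW
  haveI := Groth.L20.ModStalk.isLocalizedModule_germ F hW hyW
  obtain ⟨-, w, hw⟩ := hy
  obtain ⟨n, rfl⟩ := Submodule.mkQ_surjective _ w
  have hbot : Ideal.map (f.stalkMap y).hom (maximalIdeal ((Spec R).presheaf.stalk (f y))) = ⊥ := by
    rw [hcomp y hyW, hyt]
    exact Ideal.map_bot
  have hn0 : ∀ b : X.presheaf.stalk y, b • Submodule.mkQ _ n =
      (0 : F.presheaf.stalk y ⧸ (Ideal.map (f.stalkMap y).hom (maximalIdeal ((Spec R).presheaf.stalk (f y))) •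
        (⊤ : Submodule (X.presheaf.stalk y) (F.presheaf.stalk y)))) → b • n = 0 := fun b hb => by
    rw [← map_smul, Submodule.mkQ_apply, Submodule.Quotient.mk_eq_zero, hbot, Submodule.bot_smul] at hb
    exact hb
  obtain ⟨⟨m, ⟨s, hs⟩⟩, hms⟩ :=
    IsLocalizedModule.surj Qy.primeCompl (Groth.L20.ModStalk.germₗ F hyW) n
  have hkill : ∀ q ∈ Qy, ∃ k : ℕ, ∃ t ∉ Qy, t • q ^ k • m = 0 := fun q hq => by
    have hqm : algebraMap Γ(X, W) (X.presheaf.stalk y) q ∈ maximalIdeal (X.presheaf.stalk y) :=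
      (IsLocalization.AtPrime.to_map_mem_maximal_iff (X.presheaf.stalk y) Qy q).mpr hq
    rw [hw] at hqm
    obtain ⟨k, hk⟩ := hqm
    rw [Submodule.mem_colon_singleton, Submodule.mem_bot] at hk
    have h1 : Groth.L20.ModStalk.germₗ F hyW (q ^ k • m) = Groth.L20.ModStalk.germₗ F hyW 0 := by
      rw [map_smul, ← hms, map_zero]
      show algebraMap Γ(X, W) (X.presheaf.stalk y) (q ^ k) • algebraMap Γ(X, W) (X.presheaf.stalk y) s • n = 0
      rw [smul_comm, map_pow, hn0 _ hk, smul_zero]
    obtain ⟨⟨t, ht⟩, h2⟩ := IsLocalizedModule.exists_of_eq (S := Qy.primeCompl) h1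
    exact ⟨k, t, ht, h2.trans (smul_zero _)⟩
  -- finitely many generators after inverting the nonzero scalars
  let L := Localization (Algebra.algebraMapSubmonoid Γ(X, W) (nonZeroDivisors V))
  haveI : Algebra.EssFiniteType Γ(X, W) L := .of_isLocalization _ (Algebra.algebraMapSubmonoid Γ(X, W) (nonZeroDivisors V))
  haveI : Algebra.EssFiniteType V L := .comp V Γ(X, W) _
  haveI : Algebra.EssFiniteType (FractionRing V) L := Algebra.EssFiniteType.of_comp V (FractionRing V) L
  haveI : IsNoetherianRing L := Algebra.EssFiniteType.isNoetherianRing (FractionRing V) L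
  obtain ⟨G, hG⟩ := Submodule.fg_span_iff_fg_span_finset_subset _ |>.mp
    (IsNoetherian.noetherian (Ideal.span ((algebraMap Γ(X, W) L) '' (Qy : Set Γ(X, W)))))
  obtain ⟨hG, hspan⟩ := hG
  choose c hcQ hc using fun g : G => hG g.2
  choose k t ht hkt using fun g : G => hkill (c g) (hcQ g)
  let T := ∏ g : G, t g
  have hT : T ∉ Qy := Qy.primeCompl.prod_mem fun g _ => ht g
  let m₁ := T • m
  let K := Ideal.span (Set.range c)
  have hK : ∀ g : G, ∃ e : ℕ, c g ^ e • m₁ = 0 := fun g => by
    refine ⟨k g, ?_⟩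
    show c g ^ k g • T • m = 0
    rw [show T = (∏ g' ∈ Finset.univ.erase g, t g') * t g from
      (Finset.prod_erase_mul _ _ (Finset.mem_univ g)).symm, mul_smul, smul_comm (c g ^ k g),
      smul_comm (c g ^ k g), hkt g, smul_zero]
  have hKpow : ∀ q ∈ K, ∃ e : ℕ, q ^ e • m₁ = 0 := by
    intro q hq
    have hle : K ≤ ((Submodule.span Γ(X, W) {m₁}).annihilator).radical := Ideal.span_le.mpr (by
      rintro _ ⟨g, rfl⟩
      obtain ⟨e, he⟩ := hK g
      exact ⟨e, (Submodule.mem_annihilator_span_singleton _ _).mpr he⟩)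
    obtain ⟨e, he⟩ := hle hq
    exact ⟨e, (Submodule.mem_annihilator_span_singleton _ _).mp he⟩
  have hQK : ∀ q ∈ Qy, ∃ v : V, v ≠ 0 ∧ algebraMap V Γ(X, W) v * q ∈ K := by
    intro q hq
    have h1 : algebraMap Γ(X, W) L q ∈ K.map (algebraMap Γ(X, W) L) := by
      have h2 : algebraMap Γ(X, W) L q ∈ Ideal.span (G : Set L) := by
        rw [Ideal.span, ← hspan]; exact Submodule.subset_span ⟨q, hq, rfl⟩
      refine Ideal.span_le.mpr (fun g hg => ?_) h2
      have h3 : algebraMap Γ(X, W) L (c ⟨g, hg⟩) ∈ K.map (algebraMap Γ(X, W) L) :=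
        Ideal.mem_map_of_mem _ (Ideal.subset_span ⟨_, rfl⟩)
      rw [hc] at h3
      exact h3
    obtain ⟨_, ⟨v, hv, rfl⟩, hvK⟩ :=
      (IsLocalization.algebraMap_mem_map_algebraMap_iff (Algebra.algebraMapSubmonoid Γ(X, W) (nonZeroDivisors V)) L K q).mp h1
    exact ⟨v, nonZeroDivisors.ne_zero hv, hvK⟩
  let m₀ := F.presheaf.germ W x hxW m₁
  have hm₀ : m₀ ≠ 0 := fun h0 => by
    have h1 : Groth.L20.ModStalk.germₗ F hyW m₁ = 0 := by
      show F.presheaf.germ W y hyW m₁ = 0
      rw [← TopCat.Presheaf.germ_stalkSpecializes_apply (hy := hxW) F.presheaf hyx m₁]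
      show F.presheaf.stalkSpecializes hyx m₀ = 0
      rw [h0, map_zero]
    rw [map_smul, ← hms] at h1
    have hu : ∀ a ∉ Qy, IsUnit (algebraMap Γ(X, W) (X.presheaf.stalk y) a) := fun a ha =>
      IsLocalization.map_units (M := Qy.primeCompl) (X.presheaf.stalk y) ⟨a, ha⟩
    have h2 : (algebraMap Γ(X, W) (X.presheaf.stalk y) T * algebraMap Γ(X, W) (X.presheaf.stalk y) s) • n = 0 := by
      rw [mul_smul]; exact h1
    rw [((hu T hT).mul (hu s hs)).smul_eq_zero] at h2
    have h3 : (1 : X.presheaf.stalk y) ∈ maximalIdeal (X.presheaf.stalk y) := by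
      rw [hw]
      refine Ideal.le_radical ?_
      rw [Submodule.mem_colon_singleton, Submodule.mem_bot, h2, map_zero, smul_zero]
    exact (maximalIdeal.isMaximal _).ne_top ((Ideal.eq_top_iff_one _).mpr h3)
  have hres := isAssociatedPrime_closed_fibre (V := V) (Qy.map (algebraMap Γ(X, W) (X.presheaf.stalk x))) m₀ hm₀
    (fun p hp => by
      have hle : Qy.map (algebraMap Γ(X, W) (X.presheaf.stalk x)) ≤
          ((Submodule.span (X.presheaf.stalk x) {m₀}).annihilator).radical := Ideal.map_le_iff_le_comap.mpr fun q hq => by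
        obtain ⟨v, hv, hvq⟩ := hQK q hq
        obtain ⟨e, he⟩ := hKpow _ hvq
        refine ⟨e, (Submodule.mem_annihilator_span_singleton _ _).mpr ?_⟩
        have h1 : algebraMap Γ(X, W) (X.presheaf.stalk x) ((algebraMap V Γ(X, W) v * q) ^ e) • m₀ = 0 := by
          show X.presheaf.germ W x hxW _ • F.presheaf.germ W x hxW m₁ = 0
          rw [← Groth.L20.ModStalk.germ_smul, he, map_zero]
        rw [map_pow, map_mul, mul_pow, mul_smul, ← IsScalarTower.algebraMap_apply, ← map_pow, algebraMap_smul] at h1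
        exact (Module.Flat.isSMulRegular_of_isRegular (IsRegular.of_ne_zero (pow_ne_zero e hv))).right_eq_zero_of_smul h1
      obtain ⟨e, he⟩ := hle hp
      exact ⟨e, (Submodule.mem_annihilator_span_singleton _ _).mp he⟩)
    (fun P hP hQP hmP => by
      haveI := hP
      let q₀ : PrimeSpectrum Γ(X, W) := ⟨P.comap (algebraMap Γ(X, W) (X.presheaf.stalk x)), inferInstance⟩
      have hq₀y : hW.primeIdealOf ⟨y, hyW⟩ ⤳ q₀ :=
        (PrimeSpectrum.le_iff_specializes _ _).mp (Ideal.map_le_iff_le_comap.mp hQP)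
      have hq₀x : q₀ ⤳ hW.primeIdealOf ⟨x, hxW⟩ := by
        refine (PrimeSpectrum.le_iff_specializes _ _).mp ?_
        refine (Ideal.comap_mono (le_maximalIdeal hP.ne_top)).trans_eq ?_
        exact IsLocalization.AtPrime.comap_maximalIdeal (X.presheaf.stalk x) Qx
      have h1 := hq₀y.map hW.fromSpec.continuous
      have h2 := hq₀x.map hW.fromSpec.continuous
      rw [IsAffineOpen.fromSpec_primeIdealOf] at h1 h2
      have h3 : f (hW.fromSpec q₀) = closedPoint V := by
        rw [← Scheme.Hom.comp_apply, ← hψ]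
        refine PrimeSpectrum.ext ?_
        refine ((maximalIdeal.isMaximal V).eq_of_le (Ideal.IsPrime.comap ψ.hom).ne_top
          (fun v hv => hmP ?_)).symm
        exact Ideal.mem_map_of_mem _ hv
      have h4 : q₀ = hW.primeIdealOf ⟨x, hxW⟩ := hW.fromSpec.isOpenEmbedding.injective (by
        rw [IsAffineOpen.fromSpec_primeIdealOf]; exact hmax _ h1 h3 h2)
      have h5 : P.comap (algebraMap Γ(X, W) (X.presheaf.stalk x)) = Qx := congrArg PrimeSpectrum.asIdeal h4
      rw [← IsLocalization.map_comap Qx.primeCompl (X.presheaf.stalk x) P,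
        ← IsLocalization.AtPrime.map_eq_maximalIdeal Qx (X.presheaf.stalk x)]
      exact congrArg _ h5)
  have hI : Ideal.map (f.stalkMap x).hom (maximalIdeal ((Spec R).presheaf.stalk (f x))) =
      (maximalIdeal V).map (algebraMap V (X.presheaf.stalk x)) := by
    rw [hcomp x hxW, hxs]; rfl
  show IsAssociatedPrime _ (F.presheaf.stalk x ⧸ _)
  rw [hI]
  exact hres

theorem eq_of_isGenericPoint {S : Set X} {a : S} {C : Set S} (hC : C ∈ irreducibleComponents S)
    (ha : IsGenericPoint a C) {b : X} (hb : b ∈ S) (h : b ⤳ a) : b = a := by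
  have h' : (⟨b, hb⟩ : S) ⤳ a := IsInducing.subtypeVal.specializes_iff.mp h
  have hC' : C ⊆ closure {(⟨b, hb⟩ : S)} := by
    rw [← ha.def]
    exact closure_minimal (Set.singleton_subset_iff.mpr h'.mem_closure) isClosed_closure
  have hb' : (⟨b, hb⟩ : S) ∈ C := hC.2 isIrreducible_singleton.closure hC' (subset_closure rfl)
  exact (h.antisymm ((ha.specializes hb').map continuous_subtype_val)).eq

theorem exists_component {S : Scheme.{u}} (f : X ⟶ S) (y x : X) (hyx : y ⤳ x)
    (hmax : ∀ z, y ⤳ z → f z = f x → z ⤳ x → z = x) :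
    ∃ C ∈ irreducibleComponents ↑(closure ({y} : Set X) ∩ f ⁻¹' {f x}),
      IsGenericPoint (⟨x, hyx.mem_closure, rfl⟩ : ↑(closure ({y} : Set X) ∩ f ⁻¹' {f x})) C := by
  let a : ↑(closure ({y} : Set X) ∩ f ⁻¹' {f x}) := ⟨x, hyx.mem_closure, rfl⟩
  refine ⟨_, irreducibleComponent_mem_irreducibleComponents a, ?_⟩
  set C := irreducibleComponent a
  obtain ⟨g, hg⟩ := QuasiSober.sober ((isIrreducible_irreducibleComponent (x := a)).image Subtype.val
    continuous_subtype_val.continuousOn).closure isClosed_closure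
  have hga : g ⤳ x := hg.specializes (subset_closure ⟨a, mem_irreducibleComponent, rfl⟩)
  have hyg : y ⤳ g := specializes_iff_mem_closure.mpr (closure_minimal (by
    rintro _ ⟨c, -, rfl⟩; exact c.2.1) isClosed_closure hg.mem)
  have hfg : f x ⤳ f g := by
    refine specializes_iff_mem_closure.mpr (closure_mono ?_ (image_closure_subset_closure_image f.continuous
      ⟨g, hg.mem, rfl⟩))
    rintro _ ⟨_, ⟨c, -, rfl⟩, rfl⟩
    exact c.2.2
  obtain rfl := hmax g hyg ((hga.map f.continuous).antisymm hfg).eq hga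
  refine Set.Subset.antisymm (closure_minimal (Set.singleton_subset_iff.mpr mem_irreducibleComponent)
    isClosed_irreducibleComponent) fun c hc => ?_
  rw [← specializes_iff_mem_closure]
  exact IsInducing.subtypeVal.specializes_iff.mp (hg.specializes (subset_closure ⟨c, hc, rfl⟩))

open Groth.L07.Equidim Groth.L22 in
/-- Dimensions are unchanged at maximal points of the fibres of a base change. -/
theorem fdim_baseChange {S X' S' : Scheme.{u}} {f : X ⟶ S} [LocallyOfFiniteType f] {g : S' ⟶ S}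
    {f' : X' ⟶ S'} {q : X' ⟶ X} (sq : IsPullback q f' f g) (x' : X')
    (hgen : ∀ x'', f' x'' = f' x' → q x'' = q x' → x'' ⤳ x' → x'' = x') : fdim f' x' = fdim f (q x') := by
  haveI : LocallyOfFiniteType f' := MorphismProperty.of_isPullback (P := @LocallyOfFiniteType) sq ‹_›
  obtain ⟨Z, i, hi, hr⟩ := Groth.L06.FlatDimSheaf.exists_closure (q x')
  obtain ⟨z, hz⟩ : q x' ∈ Set.range i := hr.symm ▸ subset_closure rfl
  let qZ := pullback.fst i q
  let iZ := pullback.snd i q
  have sq' : IsPullback qZ (iZ ≫ f') (i ≫ f) g := (IsPullback.of_hasPullback i q).paste_vert sq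
  have hcomm : qZ ≫ i = iZ ≫ q := pullback.condition
  obtain ⟨w, -, hw⟩ := Scheme.exists_preimage_of_isPullback (IsPullback.of_hasPullback i q) z x' hz
  have hg : Cyc.FibGen (iZ ≫ f') w := fun v hv hvw => by
    refine iZ.isEmbedding.injective ((hgen _ ?_ ?_ ((hvw.map iZ.continuous).trans (specializes_of_eq hw))).trans hw.symm)
    · rw [← Scheme.Hom.comp_apply, hv, Scheme.Hom.comp_apply, hw]
    · have h1 : q (iZ v) ⤳ q x' := ((hvw.map iZ.continuous).trans (specializes_of_eq hw)).map q.continuous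
      refine (h1.antisymm (specializes_iff_mem_closure.mpr ?_)).eq
      rw [← Scheme.Hom.comp_apply, ← hcomm, Scheme.Hom.comp_apply, ← hr]
      exact ⟨_, rfl⟩
  have h := Cyc.rtrdeg_baseChange sq' hg
  rw [Groth.L06.FlatDimSheaf.rtrdeg_comp_preimmersion, Groth.L06.FlatDimSheaf.rtrdeg_comp_preimmersion, hw,
    show i (qZ w) = q x' by rw [← Scheme.Hom.comp_apply, hcomm, Scheme.Hom.comp_apply, hw]] at h
  obtain ⟨a, ha, ha'⟩ := Groth.L07.DimToolkit.exists_fdim_rtrdeg f' x'
  obtain ⟨b, hb, hb'⟩ := Groth.L07.DimToolkit.exists_fdim_rtrdeg f (q x')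
  rw [ha', hb', Nat.cast_inj] at h
  rw [ha, hb, h]

open Groth.L07.Equidim in
/-- The closure of a point over a valuation ring has equidimensional fibres. -/
theorem fdim_valuation {V : Type u} [CommRing V] [IsDomain V] [ValuationRing V]
    (f : X ⟶ Spec (CommRingCat.of V)) [LocallyOfFiniteType f] (y x : X) (hyx : y ⤳ x)
    (hmax : ∀ z, y ⤳ z → f z = f x → z ⤳ x → z = x) : fdim f x = fdim f y := by
  let I := Scheme.IdealSheafData.vanishingIdeal (⟨closure {y}, isClosed_closure⟩ : Closeds X)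
  have hr : Set.range I.subschemeι = closure {y} :=
    Groth.L07.DimToolkit.range_subschemeι_vanishingIdeal ⟨closure {y}, isClosed_closure⟩
  haveI : IsReduced I.subscheme := Groth.L18.isReduced_vanishingIdeal_subscheme _
  obtain ⟨hirr, hg⟩ := Groth.L07.DimToolkit.irreducible_of_range_eq I.subschemeι y hr
  haveI : IsIntegral I.subscheme := isIntegral_of_irreducibleSpace_of_isReduced _
  obtain ⟨w, hw⟩ : x ∈ Set.range I.subschemeι := by rw [hr]; exact hyx.mem_closure
  have h1 := ValuationFibreGeneric.fdim_generic_eq (I.subschemeι ≫ f) w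
  have h2 := Groth.L07.OpenFibreDim.fdim_eq_fibreDimAt (I.subschemeι ≫ f) w fun w' h h' => by
    refine I.subschemeι.isEmbedding.injective ((hmax _ ?_ ?_ ?_).trans hw.symm)
    · exact specializes_iff_mem_closure.mpr (hr ▸ ⟨w', rfl⟩)
    · rw [← Scheme.Hom.comp_apply, h, Scheme.Hom.comp_apply, hw]
    · exact (h'.map I.subschemeι.continuous).trans (specializes_of_eq hw)
  rw [← h2, fdim_comp I.subschemeι f _ rfl, fdim_comp I.subschemeι f _ rfl, hw, hg] at h1
  exact h1

open Groth.L07.Equidim in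
/-- A maximal point of a fibre of the closure of a relative associated point, at which the module is
flat, is a relative associated point of the same dimension. -/
theorem relAss_specialise {S : Scheme.{u}} (f : X ⟶ S) [LocallyOfFiniteType f] (F : X.Modules)
    (hF : Coh.IsCoh F) (y : X) (hy : y ∈ MoreMor.relAss f F) (x : X) (hyx : y ⤳ x)
    (hmax : ∀ z, y ⤳ z → f z = f x → z ⤳ x → z = x) (hfl : FlatMod.IsFlatOverAt f F x) :
    x ∈ MoreMor.relAss f F ∧ fdim f x = fdim f y := by
  haveI : Coh.IsQCoh F := hF.1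
  obtain ⟨C, hC, hgen⟩ := exists_component f y x hyx hmax
  obtain ⟨V, _, _, _, g, -, -, y', hy't, hy'Y, hgy, ⟨C₁, hC₁, hgen₁⟩, x', hx', hx's, hgx, ⟨C₂, hC₂, hgen₂⟩⟩ :=
    Groth.Agent.S1481.result f y (f x) x hyx.mem_closure rfl ⟨C, hC, hgen⟩
  have sq := IsPullback.of_hasPullback f g
  let f' := pullback.snd f g
  let q := pullback.fst f g
  have hmaxy : ∀ z, f' z = f' y' → q z = q y' → z ⤳ y' → z = y' := fun z h1 h2 h3 =>
    eq_of_isGenericPoint hC₁ hgen₁ (show z ∈ (q ⁻¹' closure {y} ∩ f' ⁻¹' {(⊥ : PrimeSpectrum V)} : Set ↑(pullback f g)) from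
      ⟨by show q z ∈ closure ({y} : Set X); rw [h2]; exact hy'Y, h1.trans hy't⟩) h3
  have hyx' : y' ⤳ x' := specializes_iff_mem_closure.mpr hx'
  have hmaxx : ∀ z, y' ⤳ z → f' z = closedPoint V → z ⤳ x' → z = x' := fun z h1 h2 h3 =>
    eq_of_isGenericPoint hC₂ hgen₂ (show z ∈ (closure {y'} ∩ f' ⁻¹' {closedPoint V} : Set ↑(pullback f g)) from ⟨h1.mem_closure, h2⟩) h3
  have hy' : y' ∈ MoreMor.relAss f' ((Scheme.Modules.pullback q).obj F) :=
    (RelAssBC.mem_relAss_baseChange_iff sq F y').mpr ⟨by rw [hgy]; exact hy, hmaxy⟩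
  have hfl' := Groth.L02.InjFlat.flatAt_baseChange sq F x' (show FlatMod.IsFlatOverAt f F (q x') by rwa [hgx])
  haveI : LocallyOfFiniteType f' := MorphismProperty.of_isPullback (P := @LocallyOfFiniteType) sq ‹_›
  have hx'A := mem_relAss_closed_fibre f' _ (Groth.L16.AffineBC.isCoh_pullback q hF) y' x' hy' hy't hx's hyx'
    hmaxx hfl'
  obtain ⟨hxA, hmaxx'⟩ := (RelAssBC.mem_relAss_baseChange_iff sq F x').mp hx'A
  refine ⟨hgx ▸ hxA, ?_⟩
  rw [← hgx, ← fdim_baseChange sq x' hmaxx', ← hgy, ← fdim_baseChange sq y' hmaxy]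
  exact fdim_valuation f' y' x' hyx' fun z h1 h2 h3 => hmaxx z h1 (h2.trans hx's) h3

end Groth.L06.RelAssSpecial
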