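import Groth.Prelude.Def_CAlgX
import Groth.Prelude.Def_EGA41
import Mathlib.RingTheory.TensorProduct.Basic
import Mathlib.RingTheory.AdicCompletion.RingHom
import Mathlib.RingTheory.Ideal.Quotient.Operations

/-! Formal smoothness for adic topologies: formal properties (EGA 0_IV 19.3, 19.4). -/

set_option autoImplicit false
set_option maxSynthPendingDepth 3
set_option linter.style.haveILetI false
universe u

namespace Groth.L06.FormSmoothAdic

open scoped TensorProduct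

/-- a lift along a nilpotent ideal of a continuous map is continuous -/
theorem kills_lift {A B C : Type u} [CommRing A] [CommRing B] [CommRing C] [Algebra A B] [Algebra A C] {J : Ideal C}
    {m : ℕ} (hJ : J ^ m = ⊥) {𝔟 : Ideal B} (v : B →ₐ[A] C) {n : ℕ}
    (h : ∀ x ∈ 𝔟 ^ n, Ideal.Quotient.mk J (v x) = 0) : ∀ x ∈ 𝔟 ^ (n * m), v x = 0 := by
  intro x hx
  have h1 : (𝔟 ^ n).map v.toRingHom ≤ J :=
    Ideal.map_le_iff_le_comap.mpr fun y hy => Ideal.mem_comap.mpr (Ideal.Quotient.eq_zero_iff_mem.mp (h y hy))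
  have h2 := Ideal.pow_right_mono h1 m (Ideal.map_pow v.toRingHom _ m ▸ Ideal.mem_map_of_mem v.toRingHom (pow_mul 𝔟 n m ▸ hx))
  rwa [hJ, Ideal.mem_bot] at h2

/-- square zero test ideals suffice -/
theorem of_sqZero {A B : Type u} [CommRing A] [CommRing B] [Algebra A B] {𝔞 : Ideal A} {𝔟 : Ideal B}
    (h : ∀ (C : Type u) [CommRing C] [Algebra A C] (J : Ideal C), J ^ 2 = ⊥ →
      (∃ k : ℕ, (𝔞 ^ k).map (algebraMap A C) = ⊥) →
      ∀ u : B →ₐ[A] C ⧸ J, (∃ k : ℕ, ∀ x ∈ 𝔟 ^ k, u x = 0) → ∃ v : B →ₐ[A] C, (Ideal.Quotient.mkₐ A J).comp v = u) :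
    EGA41.IsFormallySmoothAdic A 𝔞 B 𝔟 := by
  suffices H : ∀ (m : ℕ) (C : Type u) [CommRing C] [Algebra A C] (J : Ideal C), J ^ (m + 1) = ⊥ →
      (∃ k : ℕ, (𝔞 ^ k).map (algebraMap A C) = ⊥) → ∀ u : B →ₐ[A] C ⧸ J, (∃ N, ∀ x ∈ 𝔟 ^ N, u x = 0) →
      ∃ v : B →ₐ[A] C, (Ideal.Quotient.mkₐ A J).comp v = u by
    intro C _ _ J hJn ha u hu
    obtain ⟨m, hm⟩ := hJn
    exact H m C J (le_bot_iff.mp (by rw [← Submodule.zero_eq_bot, ← hm]; exact Ideal.pow_le_pow_right m.le_succ)) ha u hu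
  intro m
  induction m with
  | zero =>
    intro C _ _ J hJ ha u hu
    rw [zero_add, pow_one] at hJ
    exact h C J (by rw [hJ, Ideal.bot_pow two_ne_zero]) ha u hu
  | succ m ih =>
    intro C _ _ J hJ ⟨k, hk⟩ u ⟨N, hN⟩
    let J' : Ideal C := J ^ (m + 1)
    have hle : J' ≤ J := Ideal.pow_le_self m.succ_ne_zero
    have hJ1 : (J.map (Ideal.Quotient.mkₐ A J')) ^ (m + 1) = ⊥ := by
      rw [← Ideal.map_pow]; exact Ideal.map_quotient_self _
    obtain ⟨v', hv'⟩ := ih (C ⧸ J') (J.map (Ideal.Quotient.mkₐ A J')) hJ1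
      ⟨k, by
        rw [show algebraMap A (C ⧸ J') = (Ideal.Quotient.mk J').comp (algebraMap A C) from rfl, ← Ideal.map_map, hk,
          Ideal.map_bot]⟩
      ((DoubleQuot.quotQuotEquivQuotOfLEₐ A hle).symm.toAlgHom.comp u) ⟨N, fun x hx => by
        show (DoubleQuot.quotQuotEquivQuotOfLEₐ A hle).symm (u x) = 0
        rw [hN x hx, map_zero]⟩
    have hker : ∀ x ∈ 𝔟 ^ N, Ideal.Quotient.mk (J.map (Ideal.Quotient.mkₐ A J')) (v' x) = 0 := fun x hx =>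
      (DFunLike.congr_fun hv' x).trans (by
        show (DoubleQuot.quotQuotEquivQuotOfLEₐ A hle).symm (u x) = 0
        rw [hN x hx, map_zero])
    have hJ' : J' ^ 2 = ⊥ := le_bot_iff.mp (by rw [← hJ, ← pow_mul]; exact Ideal.pow_le_pow_right (by omega))
    obtain ⟨v, hv⟩ := h C J' hJ' ⟨k, hk⟩ v' ⟨N * (m + 1), kills_lift hJ1 v' hker⟩
    refine ⟨v, AlgHom.ext fun b => ?_⟩
    have h1 : Ideal.Quotient.mk J' (v b) = v' b := DFunLike.congr_fun hv b
    have h2 : Ideal.Quotient.mk (J.map (Ideal.Quotient.mkₐ A J')) (v' b) =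
        (DoubleQuot.quotQuotEquivQuotOfLEₐ A hle).symm (u b) := DFunLike.congr_fun hv' b
    rw [← h1] at h2
    exact (congrArg (DoubleQuot.quotQuotEquivQuotOfLEₐ A hle) h2).trans (AlgEquiv.apply_symm_apply _ _)

theorem calgx_iff {A B : Type u} [CommRing A] [CommRing B] [Algebra A B] (𝔫 : Ideal B) :
    CAlgX.IsAdicFormallySmooth A B 𝔫 ↔ EGA41.IsFormallySmoothAdic A ⊥ B 𝔫 :=
  ⟨fun h => of_sqZero fun C _ _ J hJ _ u hu => h C J hJ u hu,
    fun h C _ _ J hJ u hu => h C J ⟨2, hJ⟩ ⟨1, by rw [pow_one, Ideal.map_bot]⟩ u hu⟩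

/-- transitivity -/
theorem trans {A B C : Type u} [CommRing A] [CommRing B] [CommRing C] [Algebra A B] [Algebra B C]
    [Algebra A C] [IsScalarTower A B C] {𝔞 : Ideal A} {𝔟 : Ideal B} {𝔠 : Ideal C}
    (hBC : ∃ k : ℕ, (𝔟 ^ k).map (algebraMap B C) ≤ 𝔠)
    (hB : EGA41.IsFormallySmoothAdic A 𝔞 B 𝔟) (hC : EGA41.IsFormallySmoothAdic B 𝔟 C 𝔠) :
    EGA41.IsFormallySmoothAdic A 𝔞 C 𝔠 := by
  intro D _ _ J hJ ha u ⟨n, hn⟩
  obtain ⟨k, hk⟩ := hBC
  obtain ⟨m, hm⟩ := hJ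
  obtain ⟨w, hw⟩ := hB D J ⟨m, hm⟩ ha (u.comp (IsScalarTower.toAlgHom A B C)) ⟨k * n, fun x hx => by
    refine hn _ (Ideal.pow_right_mono hk n ?_)
    rw [← Ideal.map_pow, ← pow_mul]
    exact Ideal.mem_map_of_mem _ hx⟩
  have hw0 : ∀ x ∈ 𝔟 ^ (k * n * m), w x = 0 := kills_lift hm w fun x hx => by
    refine (DFunLike.congr_fun hw x).trans (hn _ (Ideal.pow_right_mono hk n ?_))
    rw [← Ideal.map_pow, ← pow_mul]
    exact Ideal.mem_map_of_mem _ hx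
  letI : Algebra B D := w.toRingHom.toAlgebra
  haveI : IsScalarTower A B D := IsScalarTower.of_algebraMap_eq fun a => (w.commutes a).symm
  let u' : C →ₐ[B] D ⧸ J := AlgHom.mk u.toRingHom fun b => (DFunLike.congr_fun hw b).symm
  obtain ⟨v, hv⟩ := hC D J ⟨m, hm⟩ ⟨k * n * m, le_bot_iff.mp (Ideal.map_le_iff_le_comap.mpr fun x hx =>
    (Ideal.mem_bot.mpr (hw0 x hx) : w x ∈ (⊥ : Ideal D)))⟩ u' ⟨n, hn⟩
  exact ⟨v.restrictScalars A, AlgHom.ext fun c => (DFunLike.congr_fun hv c : _)⟩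

theorem baseChange {A B A' : Type u} [CommRing A] [CommRing B] [CommRing A'] [Algebra A B] [Algebra A A']
    {𝔞 : Ideal A} {𝔟 : Ideal B} {𝔞' : Ideal A'} (hAA' : ∃ k : ℕ, (𝔞 ^ k).map (algebraMap A A') ≤ 𝔞')
    (hB : EGA41.IsFormallySmoothAdic A 𝔞 B 𝔟) :
    EGA41.IsFormallySmoothAdic A' 𝔞' (A' ⊗[A] B)
      (𝔞'.map (algebraMap A' (A' ⊗[A] B)) ⊔
        𝔟.map (Algebra.TensorProduct.includeRight : B →ₐ[A] A' ⊗[A] B).toRingHom) := by
  intro C _ _ J hJ ⟨k, hk⟩ u ⟨n, hn⟩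
  obtain ⟨k0, hk0⟩ := hAA'
  letI : Algebra A C := ((algebraMap A' C).comp (algebraMap A A')).toAlgebra
  haveI : IsScalarTower A A' C := IsScalarTower.of_algebraMap_eq' rfl
  obtain ⟨w, hw⟩ := hB C J hJ ⟨k0 * k, le_bot_iff.mp (by
      rw [← hk, IsScalarTower.algebraMap_eq A A' C, ← Ideal.map_map, pow_mul, Ideal.map_pow]
      exact Ideal.map_mono (Ideal.pow_right_mono hk0 k))⟩
    ((u.restrictScalars A).comp Algebra.TensorProduct.includeRight) ⟨n, fun x hx => by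
      refine hn _ (Ideal.pow_right_mono le_sup_right n ?_)
      rw [← Ideal.map_pow]
      exact Ideal.mem_map_of_mem _ hx⟩
  refine ⟨Algebra.TensorProduct.lift (Algebra.ofId A' C) w fun _ _ => Commute.all _ _, AlgHom.ext fun z => ?_⟩
  induction z using TensorProduct.induction_on with
  | zero => simp
  | add x y hx hy => rw [map_add, map_add, hx, hy]
  | tmul a b =>
    have h1 : Ideal.Quotient.mk J (w b) = u (1 ⊗ₜ b) := DFunLike.congr_fun hw b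
    show Ideal.Quotient.mk J (Algebra.TensorProduct.lift (Algebra.ofId A' C) w (fun _ _ => Commute.all _ _) (a ⊗ₜ b)) = u (a ⊗ₜ b)
    rw [Algebra.TensorProduct.lift_tmul, map_mul, h1, show (a ⊗ₜ[A] b : A' ⊗[A] B) = algebraMap A' _ a * (1 ⊗ₜ b) by
      rw [Algebra.TensorProduct.algebraMap_apply, Algebra.TensorProduct.tmul_mul_tmul, Algebra.algebraMap_self, RingHom.id_apply,
        mul_one, one_mul], map_mul, AlgHom.commutes]
    rfl

theorem iff_quotients {A B : Type u} [CommRing A] [CommRing B] [Algebra A B] (𝔞 : Ideal A) (𝔟 : Ideal B) :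
    EGA41.IsFormallySmoothAdic A 𝔞 B 𝔟 ↔
      ∀ n : ℕ, EGA41.IsFormallySmoothAdic (A ⧸ 𝔞 ^ n) ⊥ (B ⧸ (𝔞 ^ n).map (algebraMap A B))
        (𝔟.map (Ideal.Quotient.mk ((𝔞 ^ n).map (algebraMap A B)))) := by
  constructor
  · intro h n C _ _ J hJ _ u ⟨k, hk⟩
    letI : Algebra A C := ((algebraMap (A ⧸ 𝔞 ^ n) C).comp (algebraMap A (A ⧸ 𝔞 ^ n))).toAlgebra
    haveI : IsScalarTower A (A ⧸ 𝔞 ^ n) C := IsScalarTower.of_algebraMap_eq' rfl
    obtain ⟨w, hw⟩ := h C J hJ ⟨n, by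
      rw [IsScalarTower.algebraMap_eq A (A ⧸ 𝔞 ^ n) C, ← Ideal.map_map, Ideal.Quotient.algebraMap_eq, Ideal.map_quotient_self,
        Ideal.map_bot]⟩ ((u.restrictScalars A).comp (Ideal.Quotient.mkₐ A _)) ⟨k, fun x hx => by
      refine hk _ ?_
      rw [← Ideal.map_pow]
      exact Ideal.mem_map_of_mem _ hx⟩
    have hI : ∀ x ∈ (𝔞 ^ n).map (algebraMap A B), w x = 0 := fun x hx => by
      have h1 := Ideal.mem_map_of_mem w.toRingHom hx
      rw [Ideal.map_map, show w.toRingHom.comp (algebraMap A B) = algebraMap A C from w.comp_algebraMap,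
        IsScalarTower.algebraMap_eq A (A ⧸ 𝔞 ^ n) C, ← Ideal.map_map, Ideal.Quotient.algebraMap_eq, Ideal.map_quotient_self,
        Ideal.map_bot, Ideal.mem_bot] at h1
      exact h1
    refine ⟨AlgHom.mk (Ideal.Quotient.lift _ w.toRingHom hI) fun c => ?_, AlgHom.ext fun z => ?_⟩
    · obtain ⟨a, rfl⟩ := Ideal.Quotient.mk_surjective c
      exact w.commutes a
    · obtain ⟨b, rfl⟩ := Ideal.Quotient.mk_surjective z
      exact DFunLike.congr_fun hw b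
  · intro h C _ _ J hJ ⟨n, hn⟩ u ⟨k, hk⟩
    have hA : ∀ a ∈ 𝔞 ^ n, algebraMap A C a = 0 := fun a ha => by
      rw [← Ideal.mem_bot, ← hn]; exact Ideal.mem_map_of_mem _ ha
    letI : Algebra (A ⧸ 𝔞 ^ n) C := (Ideal.Quotient.lift _ (algebraMap A C) hA).toAlgebra
    haveI : IsScalarTower A (A ⧸ 𝔞 ^ n) C := IsScalarTower.of_algebraMap_eq fun _ => rfl
    have hu0 : ∀ x ∈ (𝔞 ^ n).map (algebraMap A B), u x = 0 := fun x hx => by
      have h1 := Ideal.mem_map_of_mem u.toRingHom hx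
      rw [Ideal.map_map, show u.toRingHom.comp (algebraMap A B) = algebraMap A (C ⧸ J) from u.comp_algebraMap,
        show algebraMap A (C ⧸ J) = (Ideal.Quotient.mk J).comp (algebraMap A C) from rfl, ← Ideal.map_map, hn,
        Ideal.map_bot, Ideal.mem_bot] at h1
      exact h1
    let u' : (B ⧸ (𝔞 ^ n).map (algebraMap A B)) →ₐ[A ⧸ 𝔞 ^ n] C ⧸ J :=
      AlgHom.mk (Ideal.Quotient.lift _ u.toRingHom hu0) fun c => by
        obtain ⟨a, rfl⟩ := Ideal.Quotient.mk_surjective c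
        exact u.commutes a
    obtain ⟨v, hv⟩ := h n C J hJ ⟨1, by rw [pow_one, Ideal.map_bot]⟩ u' ⟨k, fun x hx => by
      rw [← Ideal.map_pow] at hx
      obtain ⟨b, hb, rfl⟩ := (Ideal.mem_map_iff_of_surjective _ Ideal.Quotient.mk_surjective).mp hx
      exact hk b hb⟩
    exact ⟨(v.restrictScalars A).comp (Ideal.Quotient.mkₐ A _), AlgHom.ext fun b => DFunLike.congr_fun hv _⟩

set_option maxHeartbeats 800000 in
/-- continuous maps to quotients of complete algebras lift -/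
theorem exists_lift_complete {A B C : Type u} [CommRing A] [CommRing B] [CommRing C] [Algebra A B]
    [Algebra A C] {𝔞 : Ideal A} {𝔟 : Ideal B} {𝔠 : Ideal C} (hB : EGA41.IsFormallySmoothAdic A 𝔞 B 𝔟)
    [IsAdicComplete 𝔠 C] (hAC : ∃ k : ℕ, (𝔞 ^ k).map (algebraMap A C) ≤ 𝔠)
    (J : Ideal C) (hJ : ∃ t : ℕ, J ^ t ≤ 𝔠) [IsHausdorff (𝔠.map (Ideal.Quotient.mk J)) (C ⧸ J)]
    (u : B →ₐ[A] C ⧸ J) (hu : ∃ k : ℕ, (𝔟 ^ k).map u.toRingHom ≤ 𝔠.map (Ideal.Quotient.mk J)) :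
    ∃ v : B →ₐ[A] C, (∃ k : ℕ, (𝔟 ^ k).map v.toRingHom ≤ 𝔠) ∧ (Ideal.Quotient.mkₐ A J).comp v = u := by
  obtain ⟨k1, hk1⟩ := hAC
  obtain ⟨t, ht⟩ := hJ
  obtain ⟨k2, hk2⟩ := hu
  let c : Ideal (C ⧸ J) := 𝔠.map (Ideal.Quotient.mk J)
  let Θty := fun j : ℕ => {θ : B →ₐ[A] C ⧸ 𝔠 ^ j // (∃ M, ∀ x ∈ 𝔟 ^ M, θ x = 0) ∧
    ∀ b, ∃ s, θ b = Ideal.Quotient.mk _ s ∧ Ideal.Quotient.mk J s - u b ∈ c ^ j}
  haveI : Subsingleton (C ⧸ 𝔠 ^ 0) := Ideal.Quotient.subsingleton_iff.mpr (by rw [pow_zero, Ideal.one_eq_top])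
  have base : Nonempty (Θty 0) :=
    ⟨⟨{ toFun := fun _ => 0, map_one' := Subsingleton.elim _ _, map_mul' := fun _ _ => Subsingleton.elim _ _,
        map_zero' := rfl, map_add' := fun _ _ => Subsingleton.elim _ _, commutes' := fun _ => Subsingleton.elim _ _ },
      ⟨0, fun _ _ => rfl⟩, fun b => ⟨0, Subsingleton.elim _ _, by rw [pow_zero, Ideal.one_eq_top]; trivial⟩⟩⟩
  have step : ∀ j (θ : Θty j), ∃ θ' : Θty (j + 1), ∀ b,
      Ideal.Quotient.factor (Ideal.pow_le_pow_right (Nat.le_succ j)) (θ'.1 b) = θ.1 b := by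
    intro j ⟨θ, ⟨M, hM⟩, hθ⟩
    let L : Ideal C := 𝔠 ^ j ⊓ (c ^ (j + 1)).comap (Ideal.Quotient.mk J)
    have hle : 𝔠 ^ (j + 1) ≤ L := le_inf (Ideal.pow_le_pow_right (Nat.le_succ _))
      (Ideal.map_le_iff_le_comap.mp (by rw [Ideal.map_pow]))
    let J1 : Ideal (C ⧸ 𝔠 ^ (j + 1)) := L.map (Ideal.Quotient.mkₐ A (𝔠 ^ (j + 1)))
    have hJ1 : IsNilpotent J1 := by
      rcases Nat.eq_zero_or_pos j with rfl | hj
      · have h1 : L ≤ J ⊔ 𝔠 := inf_le_right.trans (by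
          rw [zero_add, pow_one, Ideal.comap_map_of_surjective _ Ideal.Quotient.mk_surjective,
            ← RingHom.ker_eq_comap_bot, Ideal.mk_ker, sup_comm])
        refine ⟨t + 1, le_bot_iff.mp ?_⟩
        rw [← Ideal.map_pow]
        refine (Ideal.map_mono ((Ideal.pow_right_mono h1 _).trans ((Ideal.sup_pow_add_le_pow_sup_pow (n := t) (m := 1)).trans
          (sup_le (ht.trans ?_) ?_)))).trans (le_of_eq (Ideal.map_quotient_self (𝔠 ^ (0 + 1))))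
        · rw [zero_add, pow_one]
        · rw [zero_add, pow_one]
      · refine ⟨2, le_bot_iff.mp ?_⟩
        rw [← Ideal.map_pow]
        refine (Ideal.map_mono ((Ideal.pow_right_mono inf_le_left 2).trans ?_)).trans (le_of_eq (Ideal.map_quotient_self _))
        rw [← pow_mul]
        exact Ideal.pow_le_pow_right (by omega)
    let Φ : (C ⧸ L) →ₐ[A] (C ⧸ 𝔠 ^ j) × ((C ⧸ J) ⧸ c ^ (j + 1)) :=
      (Ideal.Quotient.factorₐ A (inf_le_left : L ≤ _)).prod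
        (Ideal.quotientMapₐ (c ^ (j + 1)) (Ideal.Quotient.mkₐ A J) (inf_le_right : L ≤ _))
    have hΦ : Function.Injective Φ := by
      refine (injective_iff_map_eq_zero Φ).mpr fun z hz => ?_
      obtain ⟨s, rfl⟩ := Ideal.Quotient.mk_surjective z
      exact Ideal.Quotient.eq_zero_iff_mem.mpr ⟨Ideal.Quotient.eq_zero_iff_mem.mp (congrArg Prod.fst hz),
        Ideal.mem_comap.mpr (Ideal.Quotient.eq_zero_iff_mem.mp
          (show Ideal.Quotient.mk (c ^ (j + 1)) (Ideal.Quotient.mk J s) = 0 from congrArg Prod.snd hz))⟩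
    let T' : B →ₐ[A] (C ⧸ 𝔠 ^ j) × ((C ⧸ J) ⧸ c ^ (j + 1)) := θ.prod ((Ideal.Quotient.mkₐ A _).comp u)
    have hT : ∀ b, T' b ∈ Φ.range := by
      intro b
      obtain ⟨s, hs, hsb⟩ := hθ b
      rw [show c ^ j = (𝔠 ^ j).map (Ideal.Quotient.mk J) from (Ideal.map_pow _ _ _).symm] at hsb
      obtain ⟨w, hw, hwe⟩ := (Ideal.mem_map_iff_of_surjective _ Ideal.Quotient.mk_surjective).mp hsb
      refine ⟨Ideal.Quotient.mk L (s - w), Prod.ext ?_ ?_⟩
      · show Ideal.Quotient.mk (𝔠 ^ j) (s - w) = θ b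
        rw [map_sub, Ideal.Quotient.eq_zero_iff_mem.mpr hw, sub_zero, hs]
      · show Ideal.Quotient.mk (c ^ (j + 1)) (Ideal.Quotient.mk J (s - w)) = Ideal.Quotient.mk _ (u b)
        rw [map_sub (Ideal.Quotient.mk J), hwe, sub_sub_cancel]
    let eT := AlgEquiv.ofInjective Φ hΦ
    let ψ0 : B →ₐ[A] C ⧸ L := eT.symm.toAlgHom.comp (T'.codRestrict Φ.range hT)
    have hψ0 : ∀ b, Φ (ψ0 b) = T' b := fun b => congrArg Subtype.val (eT.apply_symm_apply ⟨T' b, hT b⟩)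
    let eL := DoubleQuot.quotQuotEquivQuotOfLEₐ A hle
    let ψ : B →ₐ[A] (C ⧸ 𝔠 ^ (j + 1)) ⧸ J1 := eL.symm.toAlgHom.comp ψ0
    have hkill : ∀ x ∈ 𝔟 ^ (M + k2 * (j + 1)), ψ x = 0 := fun x hx => by
      show eL.symm (ψ0 x) = 0
      rw [show ψ0 x = 0 from hΦ ?_, map_zero]
      rw [hψ0, map_zero]
      refine Prod.ext (hM x (Ideal.pow_le_pow_right (Nat.le_add_right _ _) hx)) (Ideal.Quotient.eq_zero_iff_mem.mpr ?_)
      refine Ideal.pow_right_mono hk2 (j + 1) ?_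
      rw [← Ideal.map_pow, ← pow_mul]
      exact Ideal.mem_map_of_mem _ (Ideal.pow_le_pow_right (Nat.le_add_left _ _) hx)
    obtain ⟨χ, hχ⟩ := hB _ J1 hJ1 ⟨k1 * (j + 1), le_bot_iff.mp (by
      rw [show algebraMap A (C ⧸ 𝔠 ^ (j + 1)) = (Ideal.Quotient.mk _).comp (algebraMap A C) from rfl, ← Ideal.map_map,
        pow_mul, Ideal.map_pow (algebraMap A C)]
      exact (Ideal.map_mono (Ideal.pow_right_mono hk1 _)).trans (le_of_eq (Ideal.map_quotient_self _)))⟩ ψ ⟨_, hkill⟩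
    have hχΦ : ∀ b s, χ b = Ideal.Quotient.mk _ s → Φ (Ideal.Quotient.mk L s) = T' b := fun b s hs => by
      have h1 : Ideal.Quotient.mk J1 (χ b) = eL.symm (ψ0 b) := DFunLike.congr_fun hχ b
      have h2 := congrArg eL h1
      rw [AlgEquiv.apply_symm_apply, hs] at h2
      rw [← hψ0, ← h2]
      rfl
    obtain ⟨m, hm⟩ := hJ1
    refine ⟨⟨χ, ⟨(M + k2 * (j + 1)) * m, kills_lift hm χ fun x hx => (DFunLike.congr_fun hχ x).trans (hkill x hx)⟩,
      fun b => ?_⟩, fun b => ?_⟩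
    · obtain ⟨s, hs⟩ := Ideal.Quotient.mk_surjective (χ b)
      exact ⟨s, hs.symm, Ideal.Quotient.eq.mp (congrArg Prod.snd (hχΦ b s hs.symm))⟩
    · obtain ⟨s, hs⟩ := Ideal.Quotient.mk_surjective (χ b)
      show Ideal.Quotient.factor _ (χ b) = θ b
      rw [← hs]
      exact congrArg Prod.fst (hχΦ b s hs.symm)
  choose next hnext using step
  let Θ : ∀ j, Θty j := fun j => Nat.rec (motive := Θty) base.some (fun j θ => next j θ) j
  have hc : ∀ {m : ℕ}, (Ideal.Quotient.factorPow 𝔠 ((strictMono_id).monotone m.le_succ)).comp (Θ (m + 1)).1.toRingHom =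
      (Θ m).1.toRingHom := fun {m} => RingHom.ext fun b => hnext m (Θ m) b
  let g : B →+* C := IsAdicComplete.StrictMono.liftRingHom 𝔠 strictMono_id (fun j => (Θ j).1.toRingHom) hc
  have hg : ∀ j b, Ideal.Quotient.mk (𝔠 ^ j) (g b) = (Θ j).1 b := fun j b =>
    IsAdicComplete.StrictMono.mk_liftRingHom 𝔠 strictMono_id (fun j => (Θ j).1.toRingHom) hc (n := j) b
  have hgA : ∀ a, g (algebraMap A B a) = algebraMap A C a := fun a => by
    refine sub_eq_zero.mp (IsHausdorff.haus (I := 𝔠) inferInstance _ fun j => ?_)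
    rw [SModEq.zero, smul_eq_mul, Ideal.mul_top]
    refine Ideal.Quotient.eq.mp ?_
    rw [hg, AlgHom.commutes]
    rfl
  refine ⟨AlgHom.mk g hgA, ?_, AlgHom.ext fun b => sub_eq_zero.mp (IsHausdorff.haus (I := c) inferInstance _ fun j => ?_)⟩
  · obtain ⟨M, hM⟩ := (Θ 1).2.1
    refine ⟨M, Ideal.map_le_iff_le_comap.mpr fun x hx => ?_⟩
    refine (pow_one 𝔠).le (Ideal.Quotient.eq_zero_iff_mem.mp ?_)
    exact (hg 1 x).trans (hM x hx)
  · rw [SModEq.zero, smul_eq_mul, Ideal.mul_top]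
    obtain ⟨s, hs, hsb⟩ := (Θ j).2.2 b
    show Ideal.Quotient.mk J (g b) - u b ∈ _
    rw [← sub_add_sub_cancel (Ideal.Quotient.mk J (g b)) (Ideal.Quotient.mk J s) (u b)]
    refine add_mem ?_ hsb
    rw [← map_sub, ← Ideal.map_pow]
    exact Ideal.mem_map_of_mem _ (Ideal.Quotient.eq.mp ((hg j b).trans hs))

end Groth.L06.FormSmoothAdic
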