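import Groth.Agent.L06.FibreTransfer
import Groth.Agent.S4996
import Groth.Agent.S2674
import Groth.Agent.L05.Point.BaseChange
import Mathlib.RingTheory.Spectrum.Prime.Topology

/-! Base change and descent of regular homomorphisms. -/

set_option autoImplicit false
set_option maxSynthPendingDepth 3
set_option linter.style.haveILetI false
noncomputable section
universe u
open TensorProduct

namespace Groth.L06.RegularBaseChange

theorem of_smooth (A B : Type u) [CommRing A] [CommRing B] [IsNoetherianRing A] [Algebra A B]
    [Algebra.Smooth A B] : CAlg.IsRegularHom A B := by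
  obtain ⟨h1, h2⟩ := (Groth.Agent.S4996.result A B).mp inferInstance
  exact ⟨h1, fun p _ => ⟨Algebra.FiniteType.isNoetherianRing p.ResidueField (p.Fiber B), h2 p⟩⟩

theorem smooth_of (A B : Type u) [CommRing A] [CommRing B] [IsNoetherianRing A] [Algebra A B]
    [Algebra.FiniteType A B] (h : CAlg.IsRegularHom A B) : Algebra.Smooth A B := by
  haveI : Algebra.FinitePresentation A B := Algebra.FinitePresentation.of_finiteType.mp inferInstance
  exact (Groth.Agent.S4996.result A B).mpr ⟨h.1, fun p _ => (h.2 p).2⟩

section

attribute [local instance] Algebra.TensorProduct.rightAlgebra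

theorem smooth_descent (A B A' : Type u) [CommRing A] [CommRing B] [CommRing A'] [Algebra A B] [Algebra A A']
    [Algebra.FinitePresentation A B] [Module.FaithfullyFlat A A'] [Algebra.Smooth A' (A' ⊗[A] B)] :
    Algebra.Smooth A B := by
  refine ⟨Algebra.smoothLocus_eq_univ_iff.1 (Set.eq_univ_of_forall fun q => ?_), inferInstance⟩
  haveI : Module.FaithfullyFlat B (A' ⊗[A] B) := Module.FaithfullyFlat.of_linearEquiv B (B ⊗[A] A')
    { (Algebra.TensorProduct.comm A A' B).toRingEquiv.toAddEquiv with
      map_smul' := fun r x => by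
        show Algebra.TensorProduct.comm A A' B (r • x) = r • Algebra.TensorProduct.comm A A' B x
        rw [Algebra.smul_def, Algebra.smul_def, map_mul]
        rfl }
  obtain ⟨z, rfl⟩ := PrimeSpectrum.comap_surjective_of_faithfullyFlat (A := B) (B := A' ⊗[A] B) q
  have hz : z ∈ Algebra.smoothLocus A' (A' ⊗[A] B) := by
    rw [Algebra.smoothLocus_eq_univ_iff.2 inferInstance]; trivial
  exact Groth.L05.Point.isSmoothAt_of_baseChange z hz

end

theorem descend_essFinite (A B A' : Type u) [CommRing A] [CommRing B] [CommRing A'] [Algebra A B] [Algebra A A']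
    [IsNoetherianRing B] [Algebra.EssFiniteType A A'] [Module.FaithfullyFlat A A']
    (h : CAlg.IsRegularHom A' (A' ⊗[A] B)) : CAlg.IsRegularHom A B := by
  haveI := h.1
  refine ⟨Module.Flat.of_flat_tensorProduct A B A', fun p _ => ?_⟩
  haveI : IsNoetherianRing (B ⊗[A] p.ResidueField) := Algebra.EssFiniteType.isNoetherianRing B _
  haveI : IsNoetherianRing (p.Fiber B) :=
    isNoetherianRing_of_ringEquiv _ (Algebra.TensorProduct.comm A B p.ResidueField).toRingEquiv
  refine ⟨inferInstance, ?_⟩
  obtain ⟨q, hq⟩ := PrimeSpectrum.comap_surjective_of_faithfullyFlat (A := A) (B := A') ⟨p, inferInstance⟩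
  have hqp : p = q.asIdeal.comap (algebraMap A A') := congrArg PrimeSpectrum.asIdeal hq.symm
  let q' := q.asIdeal
  haveI : q'.IsPrime := q.isPrime
  letI : Algebra p.ResidueField q'.ResidueField := (Ideal.ResidueField.map p q' (algebraMap A A') hqp).toAlgebra
  haveI : IsScalarTower A p.ResidueField q'.ResidueField := IsScalarTower.of_algebraMap_eq fun a => by
    rw [IsScalarTower.algebraMap_apply A A' q'.ResidueField]
    exact (Ideal.ResidueField.map_algebraMap p q' (algebraMap A A') hqp a).symm
  haveI : Algebra.EssFiniteType A q'.ResidueField := Algebra.EssFiniteType.comp A A' q'.ResidueField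
  haveI : Algebra.EssFiniteType p.ResidueField q'.ResidueField := Algebra.EssFiniteType.of_comp A p.ResidueField q'.ResidueField
  refine (Groth.Agent.S2674.result p.ResidueField (p.Fiber B) q'.ResidueField).mpr ?_
  intro L _ _ hL
  haveI := (h.2 q').2 L hL
  let e : q'.Fiber (A' ⊗[A] B) ≃ₐ[q'.ResidueField] q'.ResidueField ⊗[p.ResidueField] p.Fiber B :=
    (Algebra.TensorProduct.cancelBaseChange A A' q'.ResidueField q'.ResidueField B).trans
      (Algebra.TensorProduct.cancelBaseChange A p.ResidueField q'.ResidueField q'.ResidueField B).symm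
  exact IsRegularRing.of_ringEquiv (Algebra.TensorProduct.congr (AlgEquiv.refl : L ≃ₐ[L] L) e).toRingEquiv

theorem main (A B A' : Type u) [CommRing A] [CommRing B] [CommRing A'] [IsNoetherianRing A]
    [IsNoetherianRing B] [IsNoetherianRing A'] [Algebra A B] [Algebra A A']
    (hft : Algebra.FiniteType A B ∨ Algebra.FiniteType A A') :
    (CAlg.IsRegularHom A B → CAlg.IsRegularHom A' (A' ⊗[A] B)) ∧
      (Module.FaithfullyFlat A A' → CAlg.IsRegularHom A' (A' ⊗[A] B) → CAlg.IsRegularHom A B) := by
  rcases hft with hB | hA'
  · haveI := hB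
    haveI : Algebra.FinitePresentation A B := Algebra.FinitePresentation.of_finiteType.mp inferInstance
    refine ⟨fun h => ?_, fun hff h => ?_⟩
    · haveI := smooth_of A B h
      exact of_smooth A' (A' ⊗[A] B)
    · haveI := smooth_of A' (A' ⊗[A] B) h
      haveI := smooth_descent A B A'
      exact of_smooth A B
  · haveI := hA'
    exact ⟨FibreTransfer.isRegularHom_baseChange A B A', fun _ h => descend_essFinite A B A' h⟩

end Groth.L06.RegularBaseChange
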