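import Groth.Agent.L06.InsepJ0
import Mathlib.Algebra.CharP.Reduced
import Mathlib.RingTheory.Kaehler.Basic
import Mathlib.LinearAlgebra.TensorProduct.Tower
import Mathlib.Order.Zorn

/-! Decreasing families of subfields with intersection `k^p` separate differentials. -/

set_option autoImplicit false
set_option maxSynthPendingDepth 3
set_option linter.style.haveILetI false
universe u

namespace Groth.L06.PBasis

open Groth.L06.BddDer TrivSqZeroExt Polynomial
open scoped TensorProduct

variable {k : Type u} [Field k] (p : ℕ) [Fact p.Prime] [CharP k p]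

theorem exists_maximal (F₀ : Subfield k) (c : k) (hc : c ∉ F₀) :
    ∃ F : Subfield k, F₀ ≤ F ∧ Maximal (fun G : Subfield k => F₀ ≤ G ∧ c ∉ G) F := by
  refine zorn_le_nonempty₀ {G : Subfield k | F₀ ≤ G ∧ c ∉ G} (fun C hC hchain y hy => ?_) F₀ ⟨le_rfl, hc⟩
  refine ⟨sSup C, ⟨(hC hy).1.trans (le_sSup hy), fun hm => ?_⟩, fun G hG => le_sSup hG⟩
  obtain ⟨G, hG, hcG⟩ := (Subfield.mem_sSup_of_directedOn ⟨y, hy⟩ hchain.directedOn).mp hm
  exact (hC hG).2 hcG

theorem pow_irreducible {F : Subfield k} (hF : ∀ x : k, x ^ p ∈ F) {c : k} (hc : c ∉ F) :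
    Irreducible (X ^ p - C (⟨c ^ p, hF c⟩ : F)) := by
  refine X_pow_sub_C_irreducible_of_prime Fact.out fun b hb => hc ?_
  have h1 : (b : k) ^ p = c ^ p := congrArg Subtype.val hb
  exact (frobenius_inj k p h1 : (b : k) = c) ▸ b.2

/-- a derivation killing a given subfield containing `k^p` and not a given element -/
theorem exists_der_killing (F₀ : Subfield k) (hp0 : ∀ x : k, x ^ p ∈ F₀) {c : k} (hc : c ∉ F₀) :
    ∃ D : Derivation ℤ k k, (∀ x ∈ F₀, D x = 0) ∧ D c = 1 := by
  have hp : p.Prime := Fact.out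
  obtain ⟨F, hF₀, hmax⟩ := exists_maximal F₀ c hc
  have hF : ∀ x : k, x ^ p ∈ F := fun x => hF₀ (hp0 x)
  have hirr : ∀ b : F, b ^ p ≠ (⟨c ^ p, hF c⟩ : F) := fun b hb => by
    have h1 : (b : k) ^ p = c ^ p := congrArg Subtype.val hb
    exact hmax.1.2 ((frobenius_inj k p h1 : (b : k) = c) ▸ b.2)
  have hintF : ∀ x : k, IsIntegral F x := fun x => IsIntegral.of_pow hp.pos
    (isIntegral_algebraMap (R := F) (A := k) (x := ⟨x ^ p, hF x⟩))
  have hdeg : Module.finrank F (IntermediateField.adjoin F {c}) = p := by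
    rw [IntermediateField.adjoin.finrank (hintF c), ← minpoly.eq_of_irreducible_of_monic
      (X_pow_sub_C_irreducible_of_prime hp hirr) (by rw [map_sub, map_pow, Polynomial.aeval_X, Polynomial.aeval_C]; exact sub_self _)
      (Polynomial.monic_X_pow_sub_C _ hp.ne_zero)]
    exact Polynomial.natDegree_X_pow_sub_C
  have htop : IntermediateField.adjoin F {c} = ⊤ := by
    refine eq_top_iff.mpr fun x _ => ?_
    by_contra hx
    have hxF : x ∉ F := fun h => hx (IntermediateField.algebraMap_mem _ (⟨x, h⟩ : F))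
    have hcx : c ∈ IntermediateField.adjoin F {x} := by
      by_contra hcx
      have hle : F ≤ (IntermediateField.adjoin F {x}).toSubfield := fun y hy => IntermediateField.algebraMap_mem _ (⟨y, hy⟩ : F)
      exact hxF (hmax.2 ⟨hmax.1.1.trans hle, hcx⟩ hle (IntermediateField.mem_adjoin_simple_self F x))
    have hle : IntermediateField.adjoin F {c} ≤ IntermediateField.adjoin F {x} :=
      IntermediateField.adjoin_simple_le_iff.mpr hcx
    haveI := IntermediateField.adjoin.finiteDimensional (hintF x)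
    have hdx : Module.finrank F (IntermediateField.adjoin F {x}) ≤ p := by
      rw [IntermediateField.adjoin.finrank (hintF x)]
      refine (Polynomial.natDegree_le_of_dvd (minpoly.dvd F x ?_) (Polynomial.monic_X_pow_sub_C (⟨x ^ p, hF x⟩ : F) hp.ne_zero).ne_zero).trans
        Polynomial.natDegree_X_pow_sub_C.le
      rw [map_sub, map_pow, Polynomial.aeval_X, Polynomial.aeval_C]
      exact sub_self _
    exact hx (IntermediateField.eq_of_le_of_finrank_le hle (hdx.trans hdeg.ge) ▸ IntermediateField.mem_adjoin_simple_self F x)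
  have halg : Algebra.adjoin F {c} = ⊤ := by
    rw [← IntermediateField.adjoin_simple_toSubalgebra_of_isAlgebraic (hintF c).isAlgebraic, htop, IntermediateField.top_toSubalgebra]
  obtain ⟨D, hD0, hD⟩ := InsepJ0.exists_extension (A := F) (K := F) (L := k) p c ⟨c ^ p, hF c⟩ rfl hirr halg 0
    (Derivation.zero_apply _) 1
  refine ⟨D, fun x hx => ?_, hD⟩
  have := hD0 (⟨x, hF₀ hx⟩ : F)
  rwa [Derivation.zero_apply, map_zero] at this

omit [CharP k p] in
theorem exists_rep {F : Subfield k} (hF : ∀ x : k, x ^ p ∈ F) (x : k) {y : k} (hy : y ∈ F ⊔ Subfield.closure {x}) :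
    ∃ P : Polynomial F, P.degree < p ∧ aeval x P = y := by
  have hp : p.Prime := Fact.out
  let T : Subfield k :=
    { (Algebra.adjoin F {x}).toSubring with
      inv_mem' := fun z (hz : z ∈ Algebra.adjoin F {x}) => by
        show z⁻¹ ∈ Algebra.adjoin F {x}
        rcases eq_or_ne z 0 with rfl | hz0
        · rw [inv_zero]; exact zero_mem _
        · rw [show z⁻¹ = algebraMap F k (⟨z ^ p, hF z⟩)⁻¹ * z ^ (p - 1) from ?_]
          · exact mul_mem (Subalgebra.algebraMap_mem _ _) (pow_mem hz _)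
          · show z⁻¹ = (z ^ p)⁻¹ * z ^ (p - 1)
            rw [eq_comm, inv_mul_eq_iff_eq_mul₀ (pow_ne_zero _ hz0), ← pow_sub_one_mul hp.ne_zero z, mul_assoc,
              mul_inv_cancel₀ hz0, mul_one] }
  have hle : F ⊔ Subfield.closure {x} ≤ T := sup_le
    (fun z hz => (Subalgebra.algebraMap_mem (Algebra.adjoin F {x}) (⟨z, hz⟩ : F) : _))
    (Subfield.closure_le.mpr (Set.singleton_subset_iff.mpr (Algebra.self_mem_adjoin_singleton F x)))
  have hy' : y ∈ Algebra.adjoin F {x} := hle hy
  rw [Algebra.adjoin_singleton_eq_range_aeval] at hy'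
  obtain ⟨P, rfl⟩ := hy'
  let M : Polynomial F := X ^ p - C (⟨x ^ p, hF x⟩ : F)
  have hM : M.Monic := monic_X_pow_sub_C _ hp.ne_zero
  have hMx : aeval x M = 0 := by rw [map_sub, map_pow, aeval_X, aeval_C]; exact sub_self _
  refine ⟨P %ₘ M, ?_, ?_⟩
  · refine (degree_modByMonic_lt P hM).trans_le (le_of_eq ?_)
    exact degree_X_pow_sub_C hp.pos _
  · show _ = aeval x P
    conv_rhs => rw [← modByMonic_add_div P M]
    rw [map_add, map_mul, hMx, zero_mul, add_zero]

variable {ι : Type*} [Preorder ι] [IsDirected ι (fun a b => a ≤ b)] [Nonempty ι]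

set_option maxHeartbeats 1000000 in
theorem mem_sup_of_forall (G : ι → Subfield k) (hanti : Antitone G) (hp : ∀ α (x : k), x ^ p ∈ G α) (x y : k)
    (hy : ∀ α, y ∈ G α ⊔ Subfield.closure {x}) : y ∈ (⨅ α, G α) ⊔ Subfield.closure {x} := by
  by_cases hx : ∀ α, x ∈ G α
  · refine Subfield.mem_iInf.mpr (fun α => ?_) |> le_sup_left (b := Subfield.closure {x})
    exact (sup_eq_left.mpr (Subfield.closure_le.mpr (Set.singleton_subset_iff.mpr (hx α)))).le (hy α)
  obtain ⟨α₀, hα₀⟩ := not_forall.mp hx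
  obtain ⟨P₀, hP₀, hP₀y⟩ := exists_rep p (hp α₀) x (hy α₀)
  have hirr := pow_irreducible p (hp α₀) hα₀
  have hmin : minpoly (G α₀) x = X ^ p - C (⟨x ^ p, hp α₀ x⟩ : G α₀) :=
    (minpoly.eq_of_irreducible_of_monic hirr (by rw [map_sub, map_pow, aeval_X, aeval_C]; exact sub_self _)
      (monic_X_pow_sub_C _ (Fact.out : p.Prime).ne_zero)).symm
  have hcoef : ∀ i α, (P₀.coeff i : k) ∈ G α := fun i α => by
    obtain ⟨γ, hγ, hγ₀⟩ := exists_ge_ge α α₀
    obtain ⟨P, hP, hPy⟩ := exists_rep p (hp γ) x (hy γ)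
    let incl : G γ →+* G α₀ := Subfield.inclusion (hanti hγ₀)
    have h1 : aeval x (P.map incl) = y := by
      rw [← hPy, aeval_def, eval₂_map]
      rfl
    have h2 : P₀ = P.map incl := by
      rw [← sub_eq_zero]
      by_contra h0
      have h3 := minpoly.degree_le_of_ne_zero (G α₀) x h0 (by rw [map_sub, hP₀y, h1, sub_self])
      rw [hmin, degree_X_pow_sub_C (Fact.out : p.Prime).pos] at h3
      exact absurd h3 (not_le.mpr ((degree_sub_le _ _).trans_lt (max_lt hP₀ (degree_map_le.trans_lt hP))))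
    rw [h2, coeff_map]
    exact hanti hγ (P.coeff i).2
  have h1 : (⨅ α, G α) ≤ (⨅ α, G α) ⊔ Subfield.closure {x} := le_sup_left
  have h2 : Subfield.closure {x} ≤ (⨅ α, G α) ⊔ Subfield.closure {x} := le_sup_right
  have hxS : x ∈ (⨅ α, G α) ⊔ Subfield.closure {x} := h2 (Subfield.subset_closure (Set.mem_singleton x))
  generalize hS : (⨅ α, G α) ⊔ Subfield.closure {x} = S at h1 h2 hxS ⊢
  rw [← hP₀y, aeval_eq_sum_range]
  refine sum_mem fun i _ => ?_
  rw [Algebra.smul_def]
  refine mul_mem (h1 ?_) (pow_mem hxS i)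
  exact Subfield.mem_iInf.mpr (hcoef i)

theorem mem_sup_closure_of_forall (G : ι → Subfield k) (hanti : Antitone G) (hp : ∀ α (x : k), x ^ p ∈ G α)
    (s : Finset k) (y : k) (hy : ∀ α, y ∈ G α ⊔ Subfield.closure (s : Set k)) :
    y ∈ (⨅ α, G α) ⊔ Subfield.closure (s : Set k) := by
  classical
  induction s using Finset.induction_on generalizing y with
  | empty =>
    refine le_sup_left (b := Subfield.closure ((∅ : Finset k) : Set k)) (Subfield.mem_iInf.mpr fun α => ?_)
    exact (sup_eq_left.mpr (Subfield.closure_le.mpr (by simp))).le (hy α)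
  | insert a s _ ih =>
    let G' : ι → Subfield k := fun α => G α ⊔ Subfield.closure (s : Set k)
    have hy' : ∀ α, y ∈ G' α ⊔ Subfield.closure {a} := fun α => by
      refine (le_of_eq ?_ : G α ⊔ Subfield.closure ((insert a s : Finset k) : Set k) ≤ G' α ⊔ Subfield.closure {a}) (hy α)
      rw [Finset.coe_insert, Set.insert_eq, Subfield.closure_union]
      simp only [G', sup_assoc, sup_comm (Subfield.closure {a})]
    have h1 := mem_sup_of_forall p G' (fun α β h => sup_le_sup_right (hanti h) _)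
      (fun α x => le_sup_left (b := Subfield.closure (s : Set k)) (hp α x)) a y hy'
    have h2 : (⨅ α, G' α) ≤ (⨅ α, G α) ⊔ Subfield.closure (s : Set k) := fun z hz => ih z (Subfield.mem_iInf.mp hz)
    refine (sup_le (h2.trans (sup_le_sup_left ?_ _)) (le_sup_of_le_right ?_)) h1
    · exact Subfield.closure_mono (by simp)
    · exact Subfield.closure_mono (by simp)

end Groth.L06.PBasis
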