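import Groth.Prelude.Def_CAlg2
import Groth.Prelude.Def_EGA4b
import Groth.Agent.L28.Unibranch.Alg
import Groth.Agent.L06.NormalAscent
import Mathlib.RingTheory.Localization.AtPrime.Basic
import Mathlib.RingTheory.Ideal.GoingUp
import Mathlib.Algebra.CharP.Lemmas

/-!
# Criteria for (geometric) unibranchness

`N` is "the normalization" of `S` when `φ : S → N` is integral, birational with nilpotent kernel and
`N` is a normal domain. Then unibranchness of `S` reads off `N`.
-/

set_option autoImplicit false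
set_option maxSynthPendingDepth 3
set_option linter.style.haveILetI false
noncomputable section
universe u
open Groth.L28.Unibranch (toNorm)

namespace Groth.L06.Unibranch

/-- residue fields of `N` at maximal ideals are purely inseparable over the image of `S` -/
def PI {S N : Type u} [CommRing S] [CommRing N] (φ : S →+* N) : Prop :=
  ∀ (P : Ideal N) [P.IsMaximal], ∀ x : N, ∃ (n : ℕ) (a : S), x ^ ringExpChar (N ⧸ P) ^ n - φ a ∈ P

theorem isGeomUnibranch_def {S : Type u} [CommRing S] [IsLocalRing S] :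
    CAlg2.IsGeomUnibranch S ↔ CAlg2.IsUnibranch S ∧ PI (toNorm S) := by
  refine and_congr_right fun _ => ⟨fun h P _ x => ?_, fun h P _ x => ?_⟩
  · obtain ⟨n, a, ha⟩ := h P (Ideal.Quotient.mk P x)
    exact ⟨n, a, Ideal.Quotient.eq.mp ((map_pow _ _ _).trans ha.symm)⟩
  · obtain ⟨y, rfl⟩ := Ideal.Quotient.mk_surjective x
    obtain ⟨n, a, ha⟩ := h P y
    exact ⟨n, a, ((map_pow _ _ _).symm.trans (Ideal.Quotient.eq.mpr ha)).symm⟩

theorem ringExpChar_of_hom {K L : Type u} [CommRing K] [IsDomain K] [CommRing L] [IsDomain L] (f : K →+* L)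
    (hf : Function.Injective f) : ringExpChar L = ringExpChar K := by
  haveI := ringExpChar.expChar K
  haveI := expChar_of_injective_ringHom hf (ringExpChar K)
  exact ringExpChar.eq L (ringExpChar K)

theorem PI.of_equiv {S N N' : Type u} [CommRing S] [CommRing N] [CommRing N'] (e : N ≃+* N') {φ : S →+* N}
    {φ' : S →+* N'} (he : ∀ s, e (φ s) = φ' s) (h : PI φ) : PI φ' := by
  intro P _ x
  haveI : (P.comap e.toRingHom).IsMaximal := Ideal.comap_isMaximal_of_surjective _ e.surjective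
  obtain ⟨n, a, ha⟩ := h (P.comap e.toRingHom) (e.symm x)
  refine ⟨n, a, ?_⟩
  rw [ringExpChar_of_hom (Ideal.quotientMap P e.toRingHom (le_refl (P.comap e.toRingHom))) Ideal.quotientMap_injective]
  rw [Ideal.mem_comap, map_sub, map_pow] at ha
  simpa [he] using ha

section Normalization

variable {S N : Type u} [CommRing S] [CommRing N] [IsDomain N] [IsIntegrallyClosed N] (φ : S →+* N)
  (hint : φ.IsIntegral) (hker : RingHom.ker φ ≤ nilradical S)
  (hbir : ∀ x : N, ∃ b a : S, φ b ≠ 0 ∧ φ b * x = φ a)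
include hint hker hbir

theorem exists_normRed_equiv : IsDomain (CAlg2.red S) ∧ ∃ e : CAlg2.normRed S ≃+* N, ∀ s, e (toNorm S s) = φ s := by
  let φ₀ : CAlg2.red S →+* N := Ideal.Quotient.lift (nilradical S) φ fun a ha => (IsNilpotent.map ha φ).eq_zero
  have hφ₀ : Function.Injective φ₀ := RingHom.lift_injective_of_ker_le_ideal _ _ hker
  haveI hdom : IsDomain (CAlg2.red S) := hφ₀.isDomain φ₀
  refine ⟨hdom, ?_⟩
  let K := FractionRing (CAlg2.red S)
  let L := FractionRing N
  have hinj₀ : Function.Injective ((algebraMap N L).comp φ₀) := (IsFractionRing.injective N L).comp hφ₀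
  let g : K →+* L := IsFractionRing.lift hinj₀
  have hg : ∀ r : CAlg2.red S, g (algebraMap _ K r) = algebraMap N L (φ₀ r) := fun r =>
    IsFractionRing.lift_algebraMap (A := CAlg2.red S) _ r
  have hcomp : g.comp (algebraMap (CAlg2.red S) K) = (algebraMap N L).comp φ₀ := RingHom.ext hg
  have hsub : ∀ z : CAlg2.normRed S, ∃ y : N, algebraMap N L y = g z.1 := by
    intro z
    refine IsIntegrallyClosed.isIntegral_iff.mp ?_
    obtain ⟨p, hp, he⟩ := z.2
    refine ⟨p.map φ₀, hp.map _, ?_⟩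
    rw [Polynomial.eval₂_map, ← hcomp, ← Polynomial.hom_eval₂, he, map_zero]
  choose ψ hψ using hsub
  have hL := IsFractionRing.injective N L
  let Ψ : CAlg2.normRed S →+* N :=
    { toFun := ψ
      map_one' := hL (by rw [hψ, map_one]; exact map_one g)
      map_mul' := fun a b => hL (by rw [hψ, map_mul, hψ, hψ]; exact map_mul g a.1 b.1)
      map_zero' := hL (by rw [hψ, map_zero]; exact map_zero g)
      map_add' := fun a b => hL (by rw [hψ, map_add, hψ, hψ]; exact map_add g a.1 b.1) }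
  have hΨ : ∀ z, algebraMap N L (Ψ z) = g z.1 := hψ
  have hinj : Function.Injective Ψ := fun a b hab => Subtype.ext (g.injective (by rw [← hΨ, ← hΨ, hab]))
  have hsurj : Function.Surjective Ψ := by
    intro x
    obtain ⟨b, a, hb, hab⟩ := hbir x
    let c : K := algebraMap _ K (Ideal.Quotient.mk (nilradical S) a) / algebraMap _ K (Ideal.Quotient.mk (nilradical S) b)
    have hc : g c = algebraMap N L x := by
      rw [map_div₀, hg, hg, Ideal.Quotient.lift_mk, Ideal.Quotient.lift_mk, div_eq_iff ((map_ne_zero_iff _ hL).mpr hb),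
        ← map_mul, mul_comm x, hab]
    have hci : IsIntegral (CAlg2.red S) c := by
      obtain ⟨p, hp, he⟩ := hint x
      refine ⟨p.map (Ideal.Quotient.mk (nilradical S)), hp.map _, g.injective ?_⟩
      rw [Polynomial.eval₂_map, Polynomial.hom_eval₂, ← RingHom.comp_assoc, hcomp, hc, map_zero, RingHom.comp_assoc,
        Ideal.Quotient.lift_comp_mk, ← Polynomial.hom_eval₂, he, map_zero]
    exact ⟨⟨c, hci⟩, hL (by rw [hΨ]; exact hc)⟩
  refine ⟨RingEquiv.ofBijective Ψ ⟨hinj, hsurj⟩, fun s => hL ?_⟩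
  show algebraMap N L (Ψ (toNorm S s)) = _
  rw [hΨ]
  exact hg (Ideal.Quotient.mk _ s)

theorem isUnibranch_iff [IsLocalRing S] : CAlg2.IsUnibranch S ↔ IsLocalRing N := by
  obtain ⟨hd, e, he⟩ := exists_normRed_equiv φ hint hker hbir
  constructor
  · rintro ⟨-, hl⟩
    exact IsLocalRing.of_surjective' e.toRingHom e.surjective
  · intro hl
    exact ⟨hd, IsLocalRing.of_surjective' e.symm.toRingHom e.symm.surjective⟩

theorem isGeomUnibranch_iff [IsLocalRing S] : CAlg2.IsGeomUnibranch S ↔ IsLocalRing N ∧ PI φ := by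
  obtain ⟨hd, e, he⟩ := exists_normRed_equiv φ hint hker hbir
  rw [isGeomUnibranch_def, isUnibranch_iff φ hint hker hbir]
  refine and_congr_right fun _ => ⟨PI.of_equiv e he, PI.of_equiv e.symm fun s => ?_⟩
  rw [← he, RingEquiv.symm_apply_apply]

end Normalization

theorem isNilpotent_of_map {A B : Type u} [CommRing A] [CommRing B] (f : A →+* B) (hf : RingHom.ker f ≤ nilradical A)
    {x : A} (hx : IsNilpotent (f x)) : IsNilpotent x := by
  obtain ⟨n, hn⟩ := hx
  rw [← map_pow] at hn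
  obtain ⟨m, hm⟩ := hf hn
  exact ⟨n * m, by rw [pow_mul]; exact hm⟩

section AtPrime

variable {S T : Type u} [CommRing S] [CommRing T] (φ : S →+* T) (hint : φ.IsIntegral) (q : Ideal S) [q.IsPrime]
include hint

/-- if only one prime lies over `q`, everything outside it divides an element of `φ (S ∖ q)` -/
theorem exists_mul_eq_map {P : Ideal T} (hone : ∀ P' : Ideal T, P'.IsPrime → P'.comap φ = q → P' = P)
    {u : T} (hu : u ∉ P) : ∃ v, v ∉ q ∧ ∃ t, t * u = φ v := by
  by_contra hno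
  simp only [not_exists, not_and] at hno
  have hdis : Disjoint (Ideal.span {u} : Set T) (Submonoid.map (φ : S →* T) q.primeCompl : Set T) := by
    rw [Set.disjoint_left]
    rintro x hx ⟨v, hv, rfl⟩
    obtain ⟨t, ht⟩ := Ideal.mem_span_singleton'.mp hx
    exact hno v hv t ht
  obtain ⟨P', hP', hle, hdis'⟩ := Ideal.exists_le_prime_disjoint _ _ hdis
  have hq : P'.comap φ ≤ q := fun s hs => by
    by_contra hsq
    exact (Set.disjoint_left.mp hdis') hs ⟨s, hsq, rfl⟩
  letI := φ.toAlgebra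
  haveI : Algebra.IsIntegral S T := ⟨hint⟩
  haveI := hP'
  obtain ⟨Q, hQle, hQ, hQq⟩ := Ideal.exists_ideal_over_prime_of_isIntegral q P' hq
  obtain rfl : Q = P := hone Q hQ hQq
  exact hu (hQle (hle (Ideal.mem_span_singleton_self u)))

theorem geomUnibranch_atPrime (hker : RingHom.ker φ ≤ nilradical S) (hT : EGA4.IsNormalRing T) (p : ℕ)
    (hrad : ∀ t : T, ∃ (n : ℕ) (s : S), ∀ P : Ideal T, P.IsPrime → P.comap φ = q → t ^ p ^ n - φ s ∈ P)
    (hchar : ∀ P : Ideal T, P.IsPrime → P.comap φ = q → ExpChar (T ⧸ P) p)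
    (hbir : ∀ t : T, ∃ b a : S, (∀ x, φ b * x = 0 → x = 0) ∧ φ b * t = φ a) :
    CAlg2.IsGeomUnibranch (Localization.AtPrime q) ∧ (Function.Injective φ → IsDomain (Localization.AtPrime q)) := by
  obtain ⟨P, hP, hPq⟩ : ∃ P : Ideal T, P.IsPrime ∧ P.comap φ = q := by
    letI := φ.toAlgebra
    haveI : Algebra.IsIntegral S T := ⟨hint⟩
    obtain ⟨Q, -, hQ, hQq⟩ := Ideal.exists_ideal_over_prime_of_isIntegral q (⊥ : Ideal T) (hker.trans (nilradical_le_prime q))
    exact ⟨Q, hQ, hQq⟩
  haveI := hP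
  have hone : ∀ P' : Ideal T, P'.IsPrime → P'.comap φ = q → P' = P := by
    have : ∀ P₁ P₂ : Ideal T, P₁.IsPrime → P₁.comap φ = q → P₂.IsPrime → P₂.comap φ = q → P₁ ≤ P₂ := by
      intro P₁ P₂ h₁ e₁ h₂ e₂ t ht
      obtain ⟨n, s, hs⟩ := hrad t
      have hp0 : p ^ n ≠ 0 := by
        haveI := hchar P₁ h₁ e₁
        exact pow_ne_zero _ (expChar_pos (T ⧸ P₁) p).ne'
      have hs1 : φ s ∈ P₁ := (Submodule.sub_mem_iff_right P₁ (Ideal.pow_mem_of_mem P₁ ht _ (Nat.pos_of_ne_zero hp0))).mp (hs P₁ h₁ e₁)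
      have hs2 : φ s ∈ P₂ := by
        rw [← Ideal.mem_comap, e₂, ← e₁]
        exact hs1
      exact h₂.mem_of_pow_mem _ ((Submodule.sub_mem_iff_left P₂ hs2).mp (hs P₂ h₂ e₂))
    exact fun P' h' e' => le_antisymm (this P' P h' e' hP hPq) (this P P' hP hPq h' e')
  let Sq := Localization.AtPrime q
  let TP := Localization.AtPrime P
  let ψ : Sq →+* TP := Localization.localRingHom q P φ hPq.symm
  have hψ : ∀ s, ψ (algebraMap S Sq s) = algebraMap T TP (φ s) := fun s => Localization.localRingHom_to_map _ _ _ _ s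
  have hrep : ∀ x : TP, ∃ (t : T) (v : q.primeCompl), x * ψ (algebraMap S Sq v) = algebraMap T TP t := by
    intro x
    obtain ⟨⟨t, ⟨u, hu⟩⟩, hx⟩ := IsLocalization.surj P.primeCompl x
    obtain ⟨v, hv, w, hw⟩ := exists_mul_eq_map φ hint q hone hu
    refine ⟨w * t, ⟨v, hv⟩, ?_⟩
    rw [hψ, ← hw, map_mul, map_mul, ← hx]
    ring
  have hkerψ : RingHom.ker ψ ≤ nilradical Sq ∧ (Function.Injective φ → Function.Injective ψ) := by
    have key : ∀ x : Sq, ψ x = 0 → ∃ (a : S) (v : q.primeCompl) (w : S), w ∉ q ∧ x = IsLocalization.mk' Sq a v ∧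
        φ (w * a) = 0 := by
      intro x hx
      obtain ⟨a, v, rfl⟩ := IsLocalization.exists_mk'_eq q.primeCompl x
      have ha : algebraMap T TP (φ a) = 0 := by
        rw [← hψ, ← IsLocalization.mk'_spec Sq a v, map_mul, hx, zero_mul]
      obtain ⟨⟨u, hu⟩, hua⟩ := (IsLocalization.map_eq_zero_iff P.primeCompl TP _).mp ha
      obtain ⟨w, hw, t, ht⟩ := exists_mul_eq_map φ hint q hone hu
      exact ⟨a, v, w, hw, rfl, by rw [map_mul, ← ht, mul_assoc]; simp [hua]⟩
    refine ⟨fun x hx => ?_, fun hinj => (injective_iff_map_eq_zero ψ).mpr fun x hx => ?_⟩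
    · obtain ⟨a, v, w, hw, rfl, h0⟩ := key x hx
      obtain ⟨n, hn⟩ := hker h0
      refine ⟨n, ?_⟩
      show _ = (0 : Sq)
      rw [← IsLocalization.mk'_pow, IsLocalization.mk'_eq_zero_iff]
      exact ⟨⟨w, hw⟩ ^ n, by rw [SubmonoidClass.coe_pow, ← mul_pow]; exact hn⟩
    · obtain ⟨a, v, w, hw, rfl, h0⟩ := key x hx
      rw [IsLocalization.mk'_eq_zero_iff]
      exact ⟨⟨w, hw⟩, hinj (by rw [h0, map_zero])⟩
  haveI := (hT P).1
  haveI := (hT P).2
  refine ⟨(isGeomUnibranch_iff ψ ?_ hkerψ.1 ?_).mpr ⟨inferInstance, ?_⟩, fun hinj => (hkerψ.2 hinj).isDomain ψ⟩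
  · intro x
    obtain ⟨t, v, hx⟩ := hrep x
    obtain ⟨v', hv'⟩ := isUnit_iff_exists_inv.mp (IsLocalization.map_units Sq v)
    have ht : ψ.IsIntegralElem (algebraMap T TP t) := by
      obtain ⟨f, hf, he⟩ := hint t
      refine ⟨f.map (algebraMap S Sq), hf.map _, ?_⟩
      rw [Polynomial.eval₂_map, show ψ.comp (algebraMap S Sq) = (algebraMap T TP).comp φ from RingHom.ext hψ,
        ← Polynomial.hom_eval₂, he, map_zero]
    have hxx : x = algebraMap T TP t * ψ v' := by
      rw [← hx, mul_assoc, ← map_mul, hv', map_one, mul_one]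
    rw [hxx]
    exact RingHom.IsIntegralElem.mul ψ ht (ψ.isIntegralElem_map)
  · intro x
    obtain ⟨t, v, hx⟩ := hrep x
    obtain ⟨b, a, hb, hab⟩ := hbir t
    refine ⟨algebraMap S Sq (b * v), algebraMap S Sq a, ?_, ?_⟩
    · intro h0
      rw [map_mul, map_mul, mul_eq_zero] at h0
      rcases h0 with h0 | h0
      · rw [hψ] at h0
        obtain ⟨⟨u, hu⟩, hu0⟩ := (IsLocalization.map_eq_zero_iff P.primeCompl TP _).mp h0
        exact hu (hb u (by rw [mul_comm]; exact hu0) ▸ P.zero_mem)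
      · exact (IsUnit.map ψ (IsLocalization.map_units Sq v)).ne_zero h0
    · rw [map_mul, map_mul, mul_assoc, mul_comm (ψ (algebraMap S Sq v)) x, hx, hψ, hψ, ← map_mul, hab]
  · intro M hM x
    obtain rfl : M = IsLocalRing.maximalIdeal TP := IsLocalRing.eq_maximalIdeal hM
    haveI := hchar P hP hPq
    let ι : T ⧸ P →+* TP ⧸ IsLocalRing.maximalIdeal TP :=
      Ideal.quotientMap _ (algebraMap T TP) (IsLocalization.AtPrime.under_maximalIdeal TP P).ge
    have hι : Function.Injective ι := Ideal.quotientMap_injective' (IsLocalization.AtPrime.under_maximalIdeal TP P).le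
    haveI := expChar_of_injective_ringHom hι p
    rw [ringExpChar.eq (TP ⧸ IsLocalRing.maximalIdeal TP) p]
    obtain ⟨t, v, hx⟩ := hrep x
    obtain ⟨n, s, hs⟩ := hrad t
    obtain ⟨v', hv'⟩ := isUnit_iff_exists_inv.mp ((IsLocalization.map_units Sq v).pow (p ^ n))
    refine ⟨n, algebraMap S Sq s * v', ?_⟩
    have hmem : algebraMap T TP (t ^ p ^ n - φ s) ∈ IsLocalRing.maximalIdeal TP :=
      (IsLocalization.AtPrime.to_map_mem_maximal_iff TP P _).mpr (hs P hP hPq)
    rw [map_sub, map_pow, ← hx, mul_pow, ← map_pow, ← hψ] at hmem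
    have := Ideal.mul_mem_right (ψ v') _ hmem
    rwa [sub_mul, mul_assoc, ← map_mul, hv', map_one, mul_one, ← map_mul] at this

end AtPrime

end Groth.L06.Unibranch
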