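import Groth.Agent.L06.PBasisUniv
import Mathlib.LinearAlgebra.Finsupp.SumProd
import Mathlib.LinearAlgebra.FreeModule.Basic
import Mathlib.RingTheory.AlgebraTower

/-! `p`-bases in towers. -/

set_option autoImplicit false
set_option maxSynthPendingDepth 3
set_option linter.style.haveILetI false
universe u

namespace Groth.L06.PBasisUniv

open EGA41 (pMonomial pPowerSubalgebra IsPBasis IsPIndependent IsPGenerating)

variable {A C B : Type u} [CommRing A] [CommRing C] [CommRing B] [Algebra A C] [Algebra C B] [Algebra A B]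
  [IsScalarTower A C B] (p : ℕ) [hp : Fact p.Prime] {ι κ : Type u} (x : ι → C) (y : κ → B)

omit hp in
theorem pow_C (hinj : Function.Injective (algebraMap C B)) (hpow : ∀ b : B, b ^ p ∈ Set.range (algebraMap A B))
    (c : C) : c ^ p ∈ Set.range (algebraMap A C) := by
  obtain ⟨a, ha⟩ := hpow (algebraMap C B c)
  exact ⟨a, hinj (by rw [← IsScalarTower.algebraMap_apply, ha, map_pow])⟩

omit hp in
theorem pow_over_C (hpow : ∀ b : B, b ^ p ∈ Set.range (algebraMap A B)) (b : B) :
    b ^ p ∈ Set.range (algebraMap C B) := by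
  obtain ⟨a, ha⟩ := hpow b
  exact ⟨algebraMap A C a, by rw [← IsScalarTower.algebraMap_apply, ha]⟩

theorem isPGenerating_sum (hinj : Function.Injective (algebraMap C B)) (hpow : ∀ b : B, b ^ p ∈ Set.range (algebraMap A B))
    (hx : IsPGenerating p A x) (hy : IsPGenerating p C y) :
    IsPGenerating p A (Sum.elim (fun i => algebraMap C B (x i)) y) := by
  rw [isPGenerating_iff_adjoin p (pow_C p hinj hpow)] at hx
  rw [isPGenerating_iff_adjoin p (pow_over_C p hpow)] at hy
  rw [isPGenerating_iff_adjoin p hpow, eq_top_iff]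
  let T := Algebra.adjoin A (Set.range (Sum.elim (fun i => algebraMap C B (x i)) y))
  have hC : ∀ c : C, algebraMap C B c ∈ T := fun c => by
    induction (hx ▸ Algebra.mem_top : c ∈ Algebra.adjoin A (Set.range x)) using Algebra.adjoin_induction with
    | mem z hz => obtain ⟨i, rfl⟩ := hz; exact Algebra.subset_adjoin ⟨Sum.inl i, rfl⟩
    | algebraMap a => rw [← IsScalarTower.algebraMap_apply]; exact T.algebraMap_mem a
    | add a b _ _ ha hb => rw [map_add]; exact add_mem ha hb
    | mul a b _ _ ha hb => rw [map_mul]; exact mul_mem ha hb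
  intro b hb
  clear hb
  induction (hy ▸ Algebra.mem_top : b ∈ Algebra.adjoin C (Set.range y)) using Algebra.adjoin_induction with
  | mem z hz => obtain ⟨i, rfl⟩ := hz; exact Algebra.subset_adjoin ⟨Sum.inr i, rfl⟩
  | algebraMap c => exact hC c
  | add a b _ _ ha hb => exact add_mem ha hb
  | mul a b _ _ ha hb => exact mul_mem ha hb

/-- reduced exponents on a sum -/
noncomputable def redSum : Red p (ι ⊕ κ) ≃ Red p ι × Red p κ where
  toFun e := (⟨(Finsupp.sumFinsuppEquivProdFinsupp e.1).1, fun i => by
      rw [Finsupp.fst_sumFinsuppEquivProdFinsupp]; exact e.2 _⟩,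
    ⟨(Finsupp.sumFinsuppEquivProdFinsupp e.1).2, fun i => by
      rw [Finsupp.snd_sumFinsuppEquivProdFinsupp]; exact e.2 _⟩)
  invFun f := ⟨Finsupp.sumFinsuppEquivProdFinsupp.symm (f.1.1, f.2.1), fun i => by
    rcases i with i | i
    · rw [Finsupp.sumFinsuppEquivProdFinsupp_symm_inl]; exact f.1.2 i
    · rw [Finsupp.sumFinsuppEquivProdFinsupp_symm_inr]; exact f.2.2 i⟩
  left_inv e := Subtype.ext (Equiv.symm_apply_apply _ _)
  right_inv f := by
    refine Prod.ext (Subtype.ext ?_) (Subtype.ext ?_)
    · exact congrArg Prod.fst (Finsupp.sumFinsuppEquivProdFinsupp.apply_symm_apply (f.1.1, f.2.1))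
    · exact congrArg Prod.snd (Finsupp.sumFinsuppEquivProdFinsupp.apply_symm_apply (f.1.1, f.2.1))

theorem pMonomial_redSum (f : Red p ι × Red p κ) :
    pMonomial (Sum.elim (fun i => algebraMap C B (x i)) y) ((redSum p).symm f).1 =
      algebraMap C B (pMonomial x f.1.1) * pMonomial y f.2.1 := by
  show pMonomial _ (Finsupp.sumElim f.1.1 f.2.1) = _
  rw [map_pMonomial]
  unfold EGA41.pMonomial
  rw [Finsupp.prod_sumElim]
  rfl

theorem isPIndependent_sum_iff (hinj : Function.Injective (algebraMap C B))
    (hpow : ∀ b : B, b ^ p ∈ Set.range (algebraMap A B)) (hx : IsPBasis p A x) :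
    IsPIndependent p C y ↔ IsPIndependent p A (Sum.elim (fun i => algebraMap C B (x i)) y) := by
  classical
  have hpC := pow_C p hinj hpow
  have hgen := ((adjoin_eq_top_iff p x (fun i => (hpC (x i)).choose) fun i => (hpC (x i)).choose_spec.symm).mp
    ((isPGenerating_iff_adjoin p hpC x).mp hx.2))
  constructor
  · intro hy
    rw [isPIndependent_iff_linearIndependent p (pow_over_C p hpow) hinj] at hy
    unfold EGA41.IsPIndependent
    have hxLI : LinearIndependent (pPowerSubalgebra p A C) fun e : Red p ι => pMonomial x e.1 := hx.1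
    rw [linearIndependent_iff']
    intro s g hg i hi
    choose a ha using fun j => surjective_to_pPower p hpow (g j)
    have h0 : ∀ j, algebraMap A B (a j) = 0 → g j = 0 := fun j h => Subtype.ext (by rw [← ha j]; exact h)
    let t : Finset (Red p κ) := (s.map (redSum p).toEmbedding).image Prod.snd
    let u : Finset (Red p ι) := (s.map (redSum p).toEmbedding).image Prod.fst
    let c : Red p κ → C := fun f => ∑ e ∈ u, if (redSum p).symm (e, f) ∈ s then
      algebraMap A C (a ((redSum p).symm (e, f))) * pMonomial x e.1 else 0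
    have hsum : ∑ f ∈ t, c f • pMonomial y f.1 = 0 := by
      rw [← hg]
      simp only [c, Finset.sum_smul, ite_smul, zero_smul]
      rw [Finset.sum_comm, ← Finset.sum_product' u t (fun e f => if (redSum p).symm (e, f) ∈ s then
        (algebraMap A C (a ((redSum p).symm (e, f))) * pMonomial x e.1) • pMonomial y f.1 else 0)]
      refine Eq.symm ?_
      refine Finset.sum_bij_ne_zero (fun j _ _ => redSum p j) (fun j hj _ => ?_) (fun j _ _ j' _ _ h => (redSum p).injective h)
        (fun ef hef hne => ?_) (fun j hj _ => ?_)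
      · exact Finset.mem_product.mpr ⟨Finset.mem_image.mpr ⟨_, Finset.mem_map.mpr ⟨j, hj, rfl⟩, rfl⟩,
          Finset.mem_image.mpr ⟨_, Finset.mem_map.mpr ⟨j, hj, rfl⟩, rfl⟩⟩
      · rw [ite_ne_right_iff] at hne
        refine ⟨(redSum p).symm ef, hne.1, ?_, Equiv.apply_symm_apply _ _⟩
        intro h
        refine hne.2 ?_
        rw [Algebra.smul_def, map_mul, mul_assoc, ← pMonomial_redSum, ← IsScalarTower.algebraMap_apply]
        refine Eq.trans ?_ h
        rw [← ha, Algebra.smul_def]
        rfl
      · rw [Prod.mk.eta, Equiv.symm_apply_apply, if_pos hj, Algebra.smul_def, Algebra.smul_def, map_mul, mul_assoc,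
          ← pMonomial_redSum, Equiv.symm_apply_apply, ← IsScalarTower.algebraMap_apply, ← ha]
        rfl
    have hc := linearIndependent_iff'.mp hy t c hsum (redSum p i).2
      (Finset.mem_image.mpr ⟨_, Finset.mem_map.mpr ⟨i, hi, rfl⟩, rfl⟩)
    let a' : Red p ι → pPowerSubalgebra p A C := fun e =>
      if (redSum p).symm (e, (redSum p i).2) ∈ s then algebraMap A _ (a ((redSum p).symm (e, (redSum p i).2))) else 0
    have h1 := linearIndependent_iff'.mp hxLI u a' (by
      rw [← hc]
      refine Finset.sum_congr rfl fun e _ => ?_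
      simp only [a']
      split
      · rw [Algebra.smul_def]; rfl
      · rw [zero_smul]) (redSum p i).1 (Finset.mem_image.mpr ⟨_, Finset.mem_map.mpr ⟨i, hi, rfl⟩, rfl⟩)
    simp only [a', Prod.mk.eta, Equiv.symm_apply_apply, if_pos hi] at h1
    refine h0 i ?_
    rw [IsScalarTower.algebraMap_apply A C B, show algebraMap A C (a i) = 0 from congrArg Subtype.val h1, map_zero]
  · intro h
    rw [isPIndependent_iff_linearIndependent p (pow_over_C p hpow) hinj]
    unfold EGA41.IsPIndependent at h
    rw [linearIndependent_iff']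
    intro t c hc f₀ hf₀
    have hrep : ∀ f, ∃ r : Red p ι →₀ A, Finsupp.linearCombination A (fun e : Red p ι => pMonomial x e.1) r = c f := fun f => by
      have hm : c f ∈ Submodule.span A (Set.range fun e : Red p ι => pMonomial x e.1) := hgen ▸ Submodule.mem_top
      rwa [Finsupp.mem_span_range_iff_exists_finsupp] at hm
    choose r hr using hrep
    let s : Finset (Red p (ι ⊕ κ)) := ((t.biUnion fun f => (r f).support) ×ˢ t).map (redSum p).symm.toEmbedding
    let g : Red p (ι ⊕ κ) → pPowerSubalgebra p A B := fun j => algebraMap A _ (r (redSum p j).2 (redSum p j).1)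
    have h1 : ∑ j ∈ s, g j • pMonomial (Sum.elim (fun i => algebraMap C B (x i)) y) j.1 = 0 := by
      rw [Finset.sum_map, Finset.sum_product, Finset.sum_comm, ← hc]
      refine Finset.sum_congr rfl fun f hf => ?_
      rw [← hr f, Finsupp.linearCombination_apply, Finsupp.sum, Finset.sum_smul]
      refine Eq.trans (Finset.sum_subset (s₁ := (r f).support) (fun e he => Finset.mem_biUnion.mpr ⟨f, hf, he⟩)
        fun e _ he => ?_).symm (Finset.sum_congr rfl fun e _ => ?_)
      · simp only [g, Equiv.coe_toEmbedding, Equiv.apply_symm_apply, algebraMap_smul, Finsupp.notMem_support_iff.mp he,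
          zero_smul]
      simp only [g, Equiv.coe_toEmbedding, Equiv.apply_symm_apply, pMonomial_redSum, algebraMap_smul]
      rw [Algebra.smul_def, Algebra.smul_def (A := B), Algebra.smul_def (A := C), map_mul, ← IsScalarTower.algebraMap_apply, mul_assoc]
    rw [← hr f₀, Finsupp.linearCombination_apply]
    refine Finset.sum_eq_zero fun e he => ?_
    have h2 := linearIndependent_iff'.mp h s g h1 ((redSum p).symm (e, f₀))
      (Finset.mem_map.mpr ⟨(e, f₀), Finset.mem_product.mpr ⟨Finset.mem_biUnion.mpr ⟨f₀, hf₀, he⟩, hf₀⟩, rfl⟩)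
    simp only [g, Equiv.apply_symm_apply] at h2
    have h3 : algebraMap A B (r f₀ e) = 0 := congrArg Subtype.val h2
    dsimp only
    rw [Algebra.smul_def, hinj (((IsScalarTower.algebraMap_apply A C B _).symm.trans h3).trans (map_zero (algebraMap C B)).symm), zero_mul]

end Groth.L06.PBasisUniv
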