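import Groth.Agent.L06.PBasisApps
import Groth.Agent.L06.PBasisTower
import Groth.Agent.L06.FormSmoothPBasis
import Mathlib.LinearAlgebra.Dual.Lemmas

/-! `p`-bases of fields. -/

set_option autoImplicit false
set_option maxSynthPendingDepth 3
set_option linter.style.haveILetI false
universe u

namespace Groth.L06.PBasisField

open EGA41 (pMonomial pPowerSubalgebra IsPBasis IsPIndependent IsPGenerating)
open Groth.L06.PBasisUniv

variable (p : ℕ) [hp : Fact p.Prime] {k K : Type u} [Field k] [Field K] [Algebra k K] [CharP K p] {ι : Type u}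

theorem exists_der {s : Set K} {c : K}
    (hc : c ∉ IntermediateField.adjoin k ((Set.range fun y : K => y ^ p) ∪ s)) :
    ∃ D : Derivation k K K, (∀ z ∈ IntermediateField.adjoin k ((Set.range fun y : K => y ^ p) ∪ s), D z = 0) ∧ D c = 1 := by
  let T := IntermediateField.adjoin k ((Set.range fun y : K => y ^ p) ∪ s)
  obtain ⟨D, hD, hDc⟩ := Groth.L06.PBasis.exists_der_killing p T.toSubfield
    (fun y => IntermediateField.subset_adjoin _ _ (Or.inl ⟨y, rfl⟩)) hc
  exact ⟨Derivation.mk'
    { toFun := fun b => D b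
      map_add' := map_add D
      map_smul' := fun a b => by
        show D (a • b) = a • D b
        rw [Algebra.smul_def, Derivation.leibniz, hD _ (T.algebraMap_mem a), smul_zero, add_zero, algebraMap_smul] }
    D.leibniz, hD, hDc⟩

omit hp [CharP K p] in
theorem kills_adjoin {L : Type u} [AddCommGroup L] [Module K L] [Module k L] (D : Derivation k K L) (s : Set K)
    (h : ∀ y ∈ s, D y = 0) : ∀ z ∈ IntermediateField.adjoin k s, D z = 0 := by
  intro z hz
  induction hz using IntermediateField.adjoin_induction with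
  | mem y hy => exact h y hy
  | algebraMap a => exact D.map_algebraMap a
  | add a b _ _ ha hb => rw [map_add, ha, hb, add_zero]
  | inv a _ ha => rw [D.leibniz_inv, ha, smul_zero]
  | mul a b _ _ ha hb => rw [D.leibniz, ha, hb, smul_zero, smul_zero, add_zero]

theorem D_eq_zero_of_mem {s : Set K} (hs : ∀ y ∈ s, KaehlerDifferential.D k K y = 0) {z : K}
    (hz : z ∈ IntermediateField.adjoin k ((Set.range fun y : K => y ^ p) ∪ s)) : KaehlerDifferential.D k K z = 0 :=
  kills_adjoin _ _ (fun y hy => by
    rcases hy with ⟨c, rfl⟩ | hy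
    · rw [Derivation.leibniz_pow, ← Nat.cast_smul_eq_nsmul K, CharP.cast_eq_zero, zero_smul]
    · exact hs y hy) z hz

theorem isPGenerating_iff_span (x : ι → K) :
    IsPGenerating p k x ↔ Submodule.span K (Set.range fun i => KaehlerDifferential.D k K (x i)) = ⊤ := by
  refine ⟨span_D_eq_top p x, fun h => ?_⟩
  rw [isPGenerating_iff' p x, eq_top_iff]
  let T := Algebra.adjoin k (Set.range (fun b : K => b ^ p) ∪ Set.range x)
  have hinv : ∀ z ∈ T, z⁻¹ ∈ T := fun z hz => by
    rcases eq_or_ne z 0 with rfl | hz0
    · rw [inv_zero]; exact zero_mem _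
    · rw [show z⁻¹ = z⁻¹ ^ p * z ^ (p - 1) by
        rw [inv_pow, eq_comm, inv_mul_eq_iff_eq_mul₀ (pow_ne_zero _ hz0), ← pow_sub_one_mul hp.out.ne_zero z, mul_assoc,
          mul_inv_cancel₀ hz0, mul_one]]
      exact mul_mem (Algebra.subset_adjoin (Or.inl ⟨_, rfl⟩)) (pow_mem hz _)
  intro c _
  by_contra hc
  let T' : IntermediateField k K := T.toIntermediateField hinv
  have hle : IntermediateField.adjoin k ((Set.range fun y : K => y ^ p) ∪ Set.range x) ≤ T' :=
    IntermediateField.adjoin_le_iff.mpr Algebra.subset_adjoin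
  obtain ⟨D, hD, hDc⟩ := exists_der p fun h' => hc (hle h')
  have h1 : ∀ w : Ω[K⁄k], D.liftKaehlerDifferential w = 0 := fun w => by
    induction (h ▸ Submodule.mem_top : w ∈ Submodule.span K (Set.range fun i => KaehlerDifferential.D k K (x i)))
      using Submodule.span_induction with
    | mem y hy =>
      obtain ⟨i, rfl⟩ := hy
      rw [Derivation.liftKaehlerDifferential_comp_D]
      exact hD _ (IntermediateField.subset_adjoin _ _ (Or.inr ⟨i, rfl⟩))
    | zero => rw [map_zero]
    | add a b _ _ ha hb => rw [map_add, ha, hb, add_zero]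
    | smul r a _ ha => rw [map_smul, ha, smul_zero]
  have h2 := h1 (KaehlerDifferential.D k K c)
  rw [Derivation.liftKaehlerDifferential_comp_D, hDc] at h2
  exact one_ne_zero h2

omit hp in
theorem linearIndependent_iff_notMem_adjoin [Fact p.Prime] (x : ι → K) :
    LinearIndependent K (fun i => KaehlerDifferential.D k K (x i)) ↔
      ∀ a : ι, x a ∉ IntermediateField.adjoin k ((Set.range fun y : K => y ^ p) ∪ x '' {b | b ≠ a}) := by
  constructor
  · intro h a ha
    obtain ⟨φ, hφ⟩ : ∃ φ : Ω[K⁄k] →ₗ[K] K, φ (KaehlerDifferential.D k K (x a)) ≠ 0 ∧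
        ∀ b ≠ a, φ (KaehlerDifferential.D k K (x b)) = 0 := by
      have hn : KaehlerDifferential.D k K (x a) ∉ Submodule.span K ((fun i => KaehlerDifferential.D k K (x i)) '' {b | b ≠ a}) :=
        linearIndependent_iff_notMem_span.mp h a |> fun h' hm => h' (by
          refine Submodule.span_mono ?_ hm
          rintro _ ⟨b, hb, rfl⟩
          exact ⟨b, ⟨Set.mem_univ b, hb⟩, rfl⟩)
      obtain ⟨φ, h1, h2⟩ := Submodule.exists_dual_map_eq_bot_of_notMem hn inferInstance
      refine ⟨φ, h1, fun b hb => ?_⟩
      have h3 := Submodule.mem_map_of_mem (f := φ) (Submodule.subset_span (R := K) ⟨b, hb, rfl⟩ :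
        KaehlerDifferential.D k K (x b) ∈ Submodule.span K ((fun i => KaehlerDifferential.D k K (x i)) '' {b | b ≠ a}))
      rwa [h2, Submodule.mem_bot] at h3
    refine hφ.1 (kills_adjoin (φ.compDer (KaehlerDifferential.D k K)) _ (fun y hy => ?_) _ ha)
    rcases hy with ⟨c, rfl⟩ | ⟨b, hb, rfl⟩
    · show φ (KaehlerDifferential.D k K (c ^ p)) = 0
      rw [Derivation.leibniz_pow, ← Nat.cast_smul_eq_nsmul K, CharP.cast_eq_zero, zero_smul, map_zero]
    · exact hφ.2 b hb
  · intro h
    refine linearIndependent_of_dual x fun a => ?_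
    obtain ⟨D, hD, hDa⟩ := exists_der p (h a)
    exact ⟨D, hDa, fun b hb => hD _ (IntermediateField.subset_adjoin _ _ (Or.inr ⟨b, hb, rfl⟩))⟩

theorem linearIndependent_of_isPIndependent (x : ι → K) (h : IsPIndependent p k x) :
    LinearIndependent K fun i => KaehlerDifferential.D k K (x i) := by
  classical
  rw [linearIndependent_iff_notMem_adjoin p]
  intro a ha
  let S := pPowerSubalgebra p k K
  let x' : {b // b ≠ a} → K := fun b => x b
  let T : Subalgebra S K := Algebra.adjoin S (Set.range x')
  have hinv : ∀ z ∈ T, z⁻¹ ∈ T := fun z hz => by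
    rcases eq_or_ne z 0 with rfl | hz0
    · rw [inv_zero]; exact zero_mem _
    · rw [show z⁻¹ = z⁻¹ ^ p * z ^ (p - 1) by
        rw [inv_pow, eq_comm, inv_mul_eq_iff_eq_mul₀ (pow_ne_zero _ hz0), ← pow_sub_one_mul hp.out.ne_zero z, mul_assoc,
          mul_inv_cancel₀ hz0, mul_one]]
      exact mul_mem (Subalgebra.algebraMap_mem T (⟨_, pow_mem_pPower p z⁻¹⟩ : S)) (pow_mem hz _)
  have hmem : x a ∈ T := by
    let T' : Subfield K := { T.toSubring with inv_mem' := hinv }
    refine (IntermediateField.adjoin_induction k (p := fun z _ => z ∈ T') (fun y hy => ?_) (fun c => ?_)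
      (fun _ _ _ _ h1 h2 => add_mem h1 h2) (fun _ _ h1 => inv_mem h1) (fun _ _ _ _ h1 h2 => mul_mem h1 h2) ha : x a ∈ T')
    · rcases hy with ⟨c, rfl⟩ | ⟨b, hb, rfl⟩
      · exact Subalgebra.algebraMap_mem T (⟨c ^ p, pow_mem_pPower p c⟩ : S)
      · exact Algebra.subset_adjoin ⟨⟨b, hb⟩, rfl⟩
    · exact Subalgebra.algebraMap_mem T (⟨_, Subalgebra.algebraMap_mem _ c⟩ : S)
  have hle : Subalgebra.toSubmodule T ≤ Submodule.span S
      ((fun e : Red p ι => pMonomial x e.1) '' {e | e.1 a = 0}) := by
    intro z hz
    have hz' : z ∈ Algebra.adjoin S (Set.range x') := hz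
    rw [Algebra.adjoin_range_eq_range_aeval] at hz'
    obtain ⟨P, rfl⟩ := hz'
    show MvPolynomial.eval₂Hom (algebraMap S K) x' P ∈ _
    rw [eval₂_eq_sum p (fun b => pw p x b.1) _ _ (fun _ => rfl)]
    refine Submodule.sum_mem _ fun e _ => ?_
    dsimp only
    rw [← Algebra.smul_def]
    refine Submodule.smul_mem _ _ (Submodule.subset_span ?_)
    refine ⟨⟨e.1.mapDomain Subtype.val, fun i => ?_⟩, ?_, ?_⟩
    · by_cases hi : i ∈ Set.range (Subtype.val : {b // b ≠ a} → ι)
      · obtain ⟨j, rfl⟩ := hi
        rw [Finsupp.mapDomain_apply Subtype.val_injective]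
        exact e.2 j
      · rw [Finsupp.mapDomain_notin_range _ _ hi]; exact hp.out.pos
    · exact Finsupp.mapDomain_notin_range _ _ (by rintro ⟨⟨j, hj⟩, hja⟩; exact hj hja)
    · show pMonomial x _ = _
      exact Finsupp.prod_mapDomain_index_inj Subtype.val_injective
  have hea : ∀ i, (Finsupp.single a 1 : ι →₀ ℕ) i < p := fun i => by
    rw [Finsupp.single_apply]; split <;> [exact hp.out.one_lt; exact hp.out.pos]
  have h0 : pMonomial x (Finsupp.single a 1) = x a := by rw [pMonomial_single, pow_one]
  have hn := LinearIndependent.notMem_span_image (R := pPowerSubalgebra p k K) (v := fun e : Red p ι => pMonomial x e.1) h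
    (s := {e : Red p ι | e.1 a = 0}) (x := ⟨Finsupp.single a 1, hea⟩)
    (by simp)
  exact hn (by
    show pMonomial x (Finsupp.single a 1) ∈ _
    rw [h0]
    exact hle hmem)

omit hp in
theorem deg_erase {d : ι →₀ ℕ} {i : ι} (hi : d i ≠ 0) :
    (d - Finsupp.single i 1).degree < d.degree := by
  have h1 : d = (d - Finsupp.single i 1) + Finsupp.single i 1 := by
    refine (tsub_add_cancel_of_le ?_).symm
    rw [Finsupp.single_le_iff]
    omega
  conv_rhs => rw [h1]
  rw [map_add, Finsupp.degree_single]
  omega

theorem isPIndependent_of_linearIndependent (x : ι → K)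
    (h : LinearIndependent K fun i => KaehlerDifferential.D k K (x i)) : IsPIndependent p k x := by
  classical
  have hdual : ∀ j, ∃ D : Derivation k K K, D (x j) = 1 ∧ ∀ i, i ≠ j → D (x i) = 0 := fun j => by
    obtain ⟨D, hD, hDj⟩ := exists_der p ((linearIndependent_iff_notMem_adjoin p x).mp h j)
    exact ⟨D, hDj, fun i hi => hD _ (IntermediateField.subset_adjoin _ _ (Or.inr ⟨i, hi, rfl⟩))⟩
  choose D hDj hDi using hdual
  let S := pPowerSubalgebra p k K
  have hS : ∀ j (s : S), D j (s : K) = 0 := fun j ⟨s, hs⟩ => by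
    induction hs using Algebra.adjoin_induction with
    | mem y hy =>
      obtain ⟨c, rfl⟩ := hy
      show D j (c ^ p) = 0
      rw [Derivation.leibniz_pow, ← Nat.cast_smul_eq_nsmul K, CharP.cast_eq_zero, zero_smul]
    | algebraMap a => exact (D j).map_algebraMap a
    | add a b _ _ ha hb => show D j (a + b) = 0; rw [map_add, ha, hb, add_zero]
    | mul a b _ _ ha hb => show D j (a * b) = 0; rw [(D j).leibniz, ha, hb, smul_zero, smul_zero, add_zero]
  have hmon : ∀ j (e : ι →₀ ℕ), D j (pMonomial x e) = (e j : K) * pMonomial x (e - Finsupp.single j 1) := by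
    intro j e
    induction e using Finsupp.induction with
    | zero => simp [EGA41.pMonomial, Derivation.map_one_eq_zero]
    | single_add i n e hi hn ih =>
      rw [pMonomial_add, pMonomial_single, (D j).leibniz, ih, Derivation.leibniz_pow]
      by_cases hij : i = j
      · subst hij
        have h1 : e i = 0 := Finsupp.notMem_support_iff.mp hi
        rw [h1, hDj, Nat.cast_zero, zero_mul, smul_zero, zero_add, Finsupp.add_apply, Finsupp.single_eq_same, h1, add_zero,
          show Finsupp.single i n + e - Finsupp.single i 1 = Finsupp.single i (n - 1) + e by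
            ext l
            rcases eq_or_ne i l with rfl | hl
            · simp [h1]
            · simp [Finsupp.single_eq_of_ne' hl],
          pMonomial_add, pMonomial_single]
        simp only [smul_eq_mul, nsmul_eq_mul, mul_one]
        ring
      · rw [hDi j i hij, smul_zero, smul_zero, smul_zero, add_zero, Finsupp.add_apply, Finsupp.single_eq_of_ne' hij, zero_add,
          smul_eq_mul]
        rcases eq_or_ne (e j) 0 with h0 | h0
        · rw [h0, Nat.cast_zero, zero_mul, zero_mul, mul_zero]
        · rw [show Finsupp.single i n + e - Finsupp.single j 1 = Finsupp.single i n + (e - Finsupp.single j 1) from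
            add_tsub_assoc_of_le (by rw [Finsupp.single_le_iff]; omega) _, pMonomial_add, pMonomial_single]
          ring
  unfold IsPIndependent
  rw [linearIndependent_iff']
  suffices H : ∀ (N : ℕ) (s : Finset (Red p ι)) (g : Red p ι → S), (∀ e ∈ s, e.1.degree < N) →
      ∑ e ∈ s, g e • pMonomial x e.1 = 0 → ∀ e ∈ s, g e = 0 by
    intro s g hg
    exact H (s.sup (fun e => e.1.degree) + 1) s g (fun e he => Nat.lt_succ_of_le (Finset.le_sup (f := fun e : Red p ι => e.1.degree) he)) hg
  intro N
  induction N with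
  | zero => exact fun s g hs _ e he => absurd (hs e he) (Nat.not_lt_zero _)
  | succ N ih =>
    intro s g hs hsum
    have hpos : ∀ e ∈ s, e.1 ≠ 0 → g e = 0 := by
      intro e he hne
      obtain ⟨j, hj⟩ : ∃ j, e.1 j ≠ 0 := by
        by_contra hcon
        exact hne (Finsupp.ext fun j => by_contra fun hj => hcon ⟨j, hj⟩)
      let low : Red p ι → Red p ι := fun e => ⟨e.1 - Finsupp.single j 1, fun i => lt_of_le_of_lt (by simp) (e.2 i)⟩
      let s' := s.filter fun e => e.1 j ≠ 0
      have hinj : Set.InjOn low s' := fun a ha b hb hab => Subtype.ext (by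
        have h1 := congrArg Subtype.val hab
        have hle : ∀ c : Red p ι, c ∈ s' → Finsupp.single j 1 ≤ c.1 := fun c hc => by
          rw [Finsupp.single_le_iff]; exact Nat.one_le_iff_ne_zero.mpr (Finset.mem_filter.mp hc).2
        have h2 := congrArg (· + Finsupp.single j 1) h1
        simp only [low, tsub_add_cancel_of_le (hle a ha), tsub_add_cancel_of_le (hle b hb)] at h2
        exact h2)
      let g' : Red p ι → S := fun e' => if h : ∃ e ∈ s', low e = e' then ((h.choose.1 j : ℕ) : S) * g h.choose else 0
      have hg' : ∀ e ∈ s', g' (low e) = ((e.1 j : ℕ) : S) * g e := fun e he => by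
        have hex : ∃ e₁ ∈ s', low e₁ = low e := ⟨e, he, rfl⟩
        simp only [g', dif_pos hex]
        rw [hinj hex.choose_spec.1 he hex.choose_spec.2]
      have h1 := congrArg (D j) hsum
      rw [map_sum, map_zero] at h1
      have h2 : ∑ e' ∈ s'.image low, g' e' • pMonomial x e'.1 = 0 := by
        rw [Finset.sum_image hinj, ← h1]
        refine Eq.trans (Finset.sum_congr rfl fun e he => ?_) (Finset.sum_filter_of_ne (p := fun e : Red p ι => e.1 j ≠ 0) fun e _ hne h0 => hne ?_)
        · rw [hg' e he, show D j (g e • pMonomial x e.1) = g e • D j (pMonomial x e.1) by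
            rw [Algebra.smul_def, (D j).leibniz, show D j (algebraMap S K (g e)) = 0 from hS j (g e), smul_zero, add_zero,
              algebraMap_smul], hmon, Algebra.smul_def, Algebra.smul_def, map_mul, map_natCast]
          ring
        · rw [Algebra.smul_def, (D j).leibniz, show D j (algebraMap S K (g e)) = 0 from hS j (g e), smul_zero, add_zero,
            hmon, h0, Nat.cast_zero, zero_mul, smul_zero]
      have h3 := ih _ g' (fun e' he' => by
        obtain ⟨a, ha, rfl⟩ := Finset.mem_image.mp he'
        exact lt_of_lt_of_le (deg_erase (Finset.mem_filter.mp ha).2) (Nat.lt_succ_iff.mp (hs a (Finset.mem_filter.mp ha).1)))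
        h2 (low e) (Finset.mem_image_of_mem _ (Finset.mem_filter.mpr ⟨he, hj⟩))
      rw [hg' e (Finset.mem_filter.mpr ⟨he, hj⟩)] at h3
      have h4 := congrArg Subtype.val h3
      have hcast : ((e.1 j : ℕ) : K) ≠ 0 := fun h0 => by
        rw [CharP.cast_eq_zero_iff K p] at h0
        exact absurd (Nat.le_of_dvd (Nat.pos_of_ne_zero hj) h0) (not_le.mpr (e.2 j))
      refine Subtype.ext ?_
      show (g e : K) = 0
      simpa [hcast] using h4
    intro e he
    by_cases hne : e.1 = 0
    · rw [Finset.sum_eq_single e (fun a ha hae => by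
        rw [hpos a ha (fun h0 => hae (Subtype.ext (h0.trans hne.symm))), zero_smul]) (fun h => (h he).elim)] at hsum
      rw [hne] at hsum
      refine Subtype.ext ?_
      simpa [EGA41.pMonomial, Algebra.smul_def] using hsum
    · exact hpos e he hne

theorem isPIndependent_iff (x : ι → K) :
    IsPIndependent p k x ↔ LinearIndependent K fun i => KaehlerDifferential.D k K (x i) :=
  ⟨linearIndependent_of_isPIndependent p x, isPIndependent_of_linearIndependent p x⟩

theorem isPBasis_iff (x : ι → K) :
    IsPBasis p k x ↔ ∃ b : Module.Basis ι K (Ω[K⁄k]), ∀ i, b i = KaehlerDifferential.D k K (x i) := by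
  refine ⟨exists_basis_D p x, fun ⟨b, hb⟩ => ?_⟩
  have he : (fun i => KaehlerDifferential.D k K (x i)) = b := funext fun i => (hb i).symm
  exact ⟨(isPIndependent_iff p x).mpr (he ▸ b.linearIndependent), (isPGenerating_iff_span p x).mpr (he ▸ b.span_eq)⟩

theorem exists_pBasis_between (S L : Set K) (hLS : L ⊆ S) (hS : IsPGenerating p k (Subtype.val : S → K))
    (hL : IsPIndependent p k (Subtype.val : L → K)) :
    ∃ B : Set K, L ⊆ B ∧ B ⊆ S ∧ IsPBasis p k (Subtype.val : B → K) := by
  let d : K → Ω[K⁄k] := KaehlerDifferential.D k K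
  have hL' : LinearIndepOn K d L := (isPIndependent_iff p _).mp hL
  obtain ⟨B, hBS, hLB, hspan, hB⟩ := exists_linearIndepOn_extension hL' hLS
  refine ⟨B, hLB, hBS, (isPIndependent_iff p _).mpr hB, (isPGenerating_iff_span p _).mpr ?_⟩
  have h1 := (isPGenerating_iff_span p _).mp hS
  rw [show (Set.range fun i : S => KaehlerDifferential.D k K (i : K)) = d '' S by
    ext z; simp [d]] at h1
  rw [show (Set.range fun i : B => KaehlerDifferential.D k K (i : K)) = d '' B by
    ext z; simp [d], eq_top_iff, ← h1]
  exact Submodule.span_le.mpr hspan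

end Groth.L06.PBasisField

namespace Groth.L06.PBasisField

open EGA41 (pMonomial pPowerSubalgebra IsPBasis IsPIndependent IsPGenerating)
open Groth.L06.PBasisUniv
open scoped TensorProduct

theorem exists_pBasis (p : ℕ) [Fact p.Prime] (k K : Type u) [Field k] [Field K] [Algebra k K] [CharP K p] :
    ∃ B : Set K, IsPBasis p k (Subtype.val : B → K) := by
  obtain ⟨B, -, -, hB⟩ := exists_pBasis_between p (k := k) (Set.univ : Set K) ∅ (Set.empty_subset _)
    ((isPGenerating_iff_span p _).mpr (by
      rw [show (Set.range fun i : (Set.univ : Set K) => KaehlerDifferential.D k K (i : K)) = Set.range (KaehlerDifferential.D k K) by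
        ext z; simp]
      exact KaehlerDifferential.span_range_derivation k K))
    ((isPIndependent_iff p _).mpr (by
      haveI : IsEmpty ↥(∅ : Set K) := Set.isEmpty_coe_sort.mpr rfl
      exact linearIndependent_empty_type))
  exact ⟨B, hB⟩

/-- `L ⊗ Ω_{K/R} → Ω_{L/R}` on a `p`-basis of `K` completed by one of `L` over `K`. -/
theorem injective_mapBaseChange (p : ℕ) [Fact p.Prime] {R K L : Type u} [CommRing R] [CommRing K] [CommRing L]
    [Algebra R K] [Algebra K L] [Algebra R L] [IsScalarTower R K L] [CharP L p] [CharP K p]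
    (hinj : Function.Injective (algebraMap K L)) (hpow : ∀ y : L, y ^ p ∈ Set.range (algebraMap R L))
    {Λ M : Type u} (x : Λ → K) (y : M → L) (hx : IsPBasis p R x) (hy : IsPBasis p K y) :
    Function.Injective (KaehlerDifferential.mapBaseChange R K L) := by
  obtain ⟨b, hb⟩ := exists_basis_D p x hx
  obtain ⟨c, hc⟩ := exists_basis_D p (A := R) (Sum.elim (fun i => algebraMap K L (x i)) y)
    ⟨(isPIndependent_sum_iff p x y hinj hpow hx).mp hy.1, isPGenerating_sum p x y hinj hpow hx.2 hy.2⟩
  refine (injective_iff_map_eq_zero _).mpr fun z hz => ?_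
  let bL := b.baseChange L
  rw [← bL.linearCombination_repr z, Finsupp.apply_linearCombination] at hz
  have hcomp : KaehlerDifferential.mapBaseChange R K L ∘ bL = c ∘ Sum.inl := funext fun i => by
    show KaehlerDifferential.mapBaseChange R K L (bL i) = c (Sum.inl i)
    rw [Module.Basis.baseChange_apply, hb, KaehlerDifferential.mapBaseChange_tmul, one_smul, KaehlerDifferential.map_D, hc]
    rfl
  rw [hcomp] at hz
  have h0 : bL.repr z = 0 := (c.linearIndependent.comp _ Sum.inl_injective) (hz.trans (map_zero _).symm)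
  exact bL.repr.map_eq_zero_iff.mp h0

theorem injective_mapBaseChange_field (p : ℕ) [Fact p.Prime] {R K L : Type u} [Field R] [Field K] [Field L]
    [Algebra R K] [Algebra K L] [Algebra R L] [IsScalarTower R K L] [CharP L p]
    (hR : Set.range (algebraMap R L) = Set.range fun y : L => y ^ p) :
    Function.Injective (KaehlerDifferential.mapBaseChange R K L) := by
  haveI : CharP K p := (algebraMap K L).charP (algebraMap K L).injective p
  obtain ⟨x, hx⟩ := exists_pBasis p R K
  obtain ⟨y, hy⟩ := exists_pBasis p K L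
  exact injective_mapBaseChange p (algebraMap K L).injective (fun z => hR ▸ ⟨z, rfl⟩) _ _ hx hy

theorem iInf_iff (p : ℕ) [Fact p.Prime] {k₀ K : Type u} [Field k₀] [Field K] [Algebra k₀ K] [CharP K p]
    {ι : Type u} [Preorder ι] [IsDirected ι (· ≤ ·)] [Nonempty ι] (k : ι → IntermediateField k₀ K) (hk : Antitone k) :
    (⨅ i, k i ⊔ IntermediateField.adjoin k₀ (Set.range fun y : K => y ^ p)) = IntermediateField.adjoin k₀ (Set.range fun y : K => y ^ p) ↔
      ∀ ω : Ω[K⁄k₀], (∀ i, KaehlerDifferential.map k₀ (k i) K K ω = 0) → ω = 0 := by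
  classical
  let F₀ := IntermediateField.adjoin k₀ (Set.range fun y : K => y ^ p)
  constructor
  · intro hinf ω hω
    obtain ⟨B, hB⟩ := exists_pBasis p k₀ K
    obtain ⟨b, hb⟩ := exists_basis_D p _ hB
    by_contra hne
    have hr : b.repr ω ≠ 0 := fun h => hne (b.repr.map_eq_zero_iff.mp h)
    obtain ⟨j0, hj0⟩ : ∃ j, b.repr ω j ≠ 0 := by
      by_contra hcon
      exact hr (Finsupp.ext fun j => by_contra fun hj => hcon ⟨j, hj⟩)
    let s : Finset K := ((b.repr ω).support.erase j0).image Subtype.val
    have hnot : (j0 : K) ∉ F₀.toSubfield ⊔ Subfield.closure (s : Set K) := by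
      intro hmem
      refine (linearIndependent_iff_notMem_adjoin p _).mp (linearIndependent_of_isPIndependent p _ hB.1) j0
        ((sup_le ?_ ?_ : F₀.toSubfield ⊔ Subfield.closure (s : Set K) ≤
          (IntermediateField.adjoin k₀ ((Set.range fun y : K => y ^ p) ∪ Subtype.val '' {b : B | b ≠ j0})).toSubfield) hmem)
      · exact IntermediateField.adjoin.mono k₀ _ _ Set.subset_union_left
      · refine Subfield.closure_le.mpr fun z hz => ?_
        obtain ⟨j, hj, rfl⟩ := Finset.mem_image.mp hz
        exact IntermediateField.subset_adjoin _ _ (Or.inr ⟨j, (Finset.mem_erase.mp hj).1, rfl⟩)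
    let G : ι → Subfield K := fun i => (k i ⊔ F₀).toSubfield
    have hG : (⨅ i, G i) = F₀.toSubfield := by
      show (⨅ i, (k i ⊔ F₀).toSubfield) = _
      rw [← IntermediateField.iInf_toSubfield, hinf]
    obtain ⟨i, hi⟩ : ∃ i, (j0 : K) ∉ G i ⊔ Subfield.closure (s : Set K) := by
      by_contra hcon
      refine hnot (hG ▸ Groth.L06.PBasis.mem_sup_closure_of_forall p G (fun i j hij => ?_) (fun i y => ?_) s _
        fun i => by_contra fun h => hcon ⟨i, h⟩)
      · exact (sup_le_sup_right (hk hij) F₀ : k j ⊔ F₀ ≤ k i ⊔ F₀)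
      · exact (le_sup_right : F₀ ≤ k i ⊔ F₀) (IntermediateField.subset_adjoin _ _ ⟨y, rfl⟩)
    obtain ⟨D, hD, hDj⟩ := Groth.L06.PBasis.exists_der_killing p (G i ⊔ Subfield.closure (s : Set K))
      (fun y => le_sup_left (b := Subfield.closure (s : Set K))
        ((le_sup_right : F₀ ≤ k i ⊔ F₀) (IntermediateField.subset_adjoin _ _ ⟨y, rfl⟩))) hi
    let D' : Derivation (k i) K K := Derivation.mk'
      { toFun := fun z => D z
        map_add' := map_add D
        map_smul' := fun a z => by
          show D (a • z) = a • D z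
          rw [Algebra.smul_def, Derivation.leibniz,
            show D (algebraMap (k i) K a) = 0 from hD _ (le_sup_left (b := Subfield.closure (s : Set K)) ((le_sup_left : k i ≤ k i ⊔ F₀) a.2)),
            smul_zero, add_zero, algebraMap_smul] }
      D.leibniz
    have h1 := congrArg D'.liftKaehlerDifferential (hω i)
    rw [← b.linearCombination_repr ω, Finsupp.apply_linearCombination, Finsupp.apply_linearCombination, map_zero,
      Finsupp.linearCombination_apply, Finsupp.sum] at h1
    have hval : ∀ j, D'.liftKaehlerDifferential (KaehlerDifferential.map k₀ (k i) K K (b j)) = D (j : K) := fun j => by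
      rw [hb, KaehlerDifferential.map_D, Derivation.liftKaehlerDifferential_comp_D]
      rfl
    rw [Finset.sum_eq_single j0 (fun j hj hjne => by
        rw [Function.comp_apply, Function.comp_apply, hval, hD _ (le_sup_right (a := G i) (Subfield.subset_closure
          (Finset.mem_image.mpr ⟨j, Finset.mem_erase.mpr ⟨hjne, hj⟩, rfl⟩))), smul_zero])
      (fun h => absurd (Finsupp.notMem_support_iff.mp h) hj0), Function.comp_apply, Function.comp_apply, hval, hDj,
      smul_eq_mul, mul_one] at h1
    exact hj0 h1
  · intro h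
    refine le_antisymm (fun c hc => ?_) (le_iInf fun i => le_sup_right)
    by_contra hcn
    have hc' : c ∉ IntermediateField.adjoin k₀ ((Set.range fun y : K => y ^ p) ∪ ∅) := by rwa [Set.union_empty]
    obtain ⟨D, -, hDc⟩ := exists_der p hc'
    have h1 : KaehlerDifferential.D k₀ K c = 0 := h _ fun i => by
      rw [KaehlerDifferential.map_D]
      have hci : c ∈ k i ⊔ F₀ := by
        exact (iInf_le (fun i => k i ⊔ F₀) i) hc
      have hle : k i ⊔ F₀ ≤ (IntermediateField.adjoin (k i) ((Set.range fun y : K => y ^ p) ∪ ∅)).restrictScalars k₀ :=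
        sup_le (fun z hz => IntermediateField.algebraMap_mem _ (⟨z, hz⟩ : k i))
          (IntermediateField.adjoin_le_iff.mpr fun z hz => IntermediateField.subset_adjoin _ _ (Or.inl hz))
      exact D_eq_zero_of_mem p (fun y hy => hy.elim) (hle hci)
    have h2 := congrArg D.liftKaehlerDifferential h1
    rw [Derivation.liftKaehlerDifferential_comp_D, hDc, map_zero] at h2
    exact one_ne_zero h2

end Groth.L06.PBasisField
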