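import Groth.Agent.L06.SepKaehler
import Groth.Agent.L06.PBasisField
import Mathlib.RingTheory.Flat.Basic
import Mathlib.FieldTheory.IsAlgClosed.AlgebraicClosure

/-! Imperfection modules in decreasing families of subfields. -/

set_option autoImplicit false
set_option maxSynthPendingDepth 3
set_option linter.style.haveILetI false
universe u

namespace Groth.L06.Admissible

open scoped TensorProduct

/-- `B ⊗ C`-linear change of base in the tensor with differentials -/
theorem baseChange_eq {Λ A B C : Type u} [CommRing Λ] [CommRing A] [CommRing B] [CommRing C]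
    [Algebra Λ A] [Algebra Λ B] [Algebra Λ C] [Algebra A B] [Algebra A C] [Algebra B C]
    [IsScalarTower Λ A B] [IsScalarTower Λ A C] [IsScalarTower Λ B C] [IsScalarTower A B C] (z : C ⊗[B] Ω[B⁄Λ]) :
    KaehlerDifferential.mapBaseChange A B C ((KaehlerDifferential.map Λ A B B).baseChange C z) =
      KaehlerDifferential.map Λ A C C (KaehlerDifferential.mapBaseChange Λ B C z) := by
  induction z using TensorProduct.induction_on with
  | zero => simp
  | add a b ha hb => simp only [map_add, ha, hb]
  | tmul c w =>
    induction (KaehlerDifferential.span_range_derivation Λ B ▸ Submodule.mem_top :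
        w ∈ Submodule.span B (Set.range (KaehlerDifferential.D Λ B))) using Submodule.span_induction generalizing c with
    | mem y hy =>
      obtain ⟨a, rfl⟩ := hy
      rw [LinearMap.baseChange_tmul, KaehlerDifferential.map_D, KaehlerDifferential.mapBaseChange_tmul,
        KaehlerDifferential.mapBaseChange_tmul, KaehlerDifferential.map_D, map_smul, KaehlerDifferential.map_D,
        KaehlerDifferential.map_D]
      rfl
    | zero => simp
    | add a b _ _ ha hb => simp only [TensorProduct.tmul_add, map_add, ha, hb]
    | smul r a _ ha => rw [← TensorProduct.smul_tmul]; exact ha _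

theorem baseChange_map_surjective {Λ A B C : Type u} [CommRing Λ] [CommRing A] [CommRing B] [CommRing C]
    [Algebra Λ A] [Algebra Λ B] [Algebra A B] [Algebra B C] [IsScalarTower Λ A B] :
    Function.Surjective ((KaehlerDifferential.map Λ A B B).baseChange C) :=
  LinearMap.lTensor_surjective C (KaehlerDifferential.map_surjective Λ A B)

/-- `Υ_{C/B/Λ} → Υ_{C/B/A}` is onto. -/
theorem imperfection_surjective (Λ A B C : Type u) [CommRing Λ] [CommRing A] [CommRing B] [CommRing C]
    [Algebra Λ A] [Algebra Λ B] [Algebra Λ C] [Algebra A B] [Algebra A C] [Algebra B C]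
    [IsScalarTower Λ A B] [IsScalarTower Λ A C] [IsScalarTower Λ B C] [IsScalarTower A B C] :
    ∀ ω ∈ EGA41.imperfection A B C, ∃ η ∈ EGA41.imperfection Λ B C,
      (KaehlerDifferential.map Λ A B B).baseChange C η = ω := by
  intro ω (hω : KaehlerDifferential.mapBaseChange A B C ω = 0)
  obtain ⟨η₀, rfl⟩ := baseChange_map_surjective (Λ := Λ) (A := A) (B := B) (C := C) ω
  rw [baseChange_eq] at hω
  obtain ⟨v, hv⟩ := (KaehlerDifferential.exact_mapBaseChange_map Λ A C _).mp hω
  let g : C ⊗[A] Ω[A⁄Λ] →ₗ[C] C ⊗[B] Ω[B⁄Λ] :=
    LinearMap.liftBaseChange C (((TensorProduct.mk B C (Ω[B⁄Λ]) 1).restrictScalars A).comp (KaehlerDifferential.map Λ Λ A B))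
  have hg : ∀ (v : C ⊗[A] Ω[A⁄Λ]), KaehlerDifferential.mapBaseChange Λ B C (g v) = KaehlerDifferential.mapBaseChange Λ A C v ∧
      (KaehlerDifferential.map Λ A B B).baseChange C (g v) = 0 := by
    intro v
    induction v using TensorProduct.induction_on with
    | zero => simp
    | add a b ha hb => simp only [map_add, ha.1, ha.2, hb.1, hb.2, add_zero, and_self]
    | tmul c w =>
      induction (KaehlerDifferential.span_range_derivation Λ A ▸ Submodule.mem_top :
          w ∈ Submodule.span A (Set.range (KaehlerDifferential.D Λ A))) using Submodule.span_induction generalizing c with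
      | mem y hy =>
        obtain ⟨a, rfl⟩ := hy
        have e : g (c ⊗ₜ[A] KaehlerDifferential.D Λ A a) = c • ((1 : C) ⊗ₜ[B] KaehlerDifferential.D Λ B (algebraMap A B a)) := by
          simp only [g, LinearMap.liftBaseChange_tmul, LinearMap.comp_apply, LinearMap.restrictScalars_apply,
            TensorProduct.mk_apply, KaehlerDifferential.map_D]
        refine ⟨?_, ?_⟩
        · rw [e, map_smul, KaehlerDifferential.mapBaseChange_tmul, one_smul, KaehlerDifferential.map_D,
            KaehlerDifferential.mapBaseChange_tmul, KaehlerDifferential.map_D, ← IsScalarTower.algebraMap_apply]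
        · rw [e, map_smul, LinearMap.baseChange_tmul, KaehlerDifferential.map_D]
          simp [Derivation.map_algebraMap]
      | zero => simp
      | add a b _ _ ha hb =>
        simp only [TensorProduct.tmul_add, map_add, (ha c).1, (ha c).2, (hb c).1, (hb c).2, add_zero, and_self]
      | smul r a _ ha => rw [← TensorProduct.smul_tmul]; exact ha _
  refine ⟨η₀ - g v, ?_, ?_⟩
  · show KaehlerDifferential.mapBaseChange Λ B C (η₀ - g v) = 0
    rw [map_sub, (hg v).1, hv, sub_self]
  · rw [map_sub, (hg v).2, sub_zero]

variable {k₀ K : Type u} [Field k₀] [Field K] [Algebra k₀ K]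
variable {ι : Type u} [Preorder ι] [IsDirected ι (· ≤ ·)] [Nonempty ι] (k : ι → IntermediateField k₀ K)

omit [IsDirected ι (· ≤ ·)] [Nonempty ι] in
theorem map_factor (hk : Antitone k) {i j : ι} (hij : i ≤ j) (w : Ω[K⁄k₀])
    (hw : KaehlerDifferential.map k₀ (k j) K K w = 0) : KaehlerDifferential.map k₀ (k i) K K w = 0 := by
  letI : Algebra (k j) (k i) := (IntermediateField.inclusion (hk hij)).toRingHom.toAlgebra
  haveI : IsScalarTower (k j) (k i) K := IsScalarTower.of_algebraMap_eq fun _ => rfl
  have e : ∀ w, KaehlerDifferential.map k₀ (k i) K K w = KaehlerDifferential.map (k j) (k i) K K (KaehlerDifferential.map k₀ (k j) K K w) := by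
    intro w
    induction (KaehlerDifferential.span_range_derivation k₀ K ▸ Submodule.mem_top :
        w ∈ Submodule.span K (Set.range (KaehlerDifferential.D k₀ K))) using Submodule.span_induction with
    | mem y hy =>
      obtain ⟨a, rfl⟩ := hy
      simp only [KaehlerDifferential.map_D]
      rfl
    | zero => simp
    | add a b _ _ ha hb => simp only [map_add, ha, hb]
    | smul r a _ ha => simp only [map_smul, ha]
  rw [e, hw, map_zero]

omit [IsDirected ι (· ≤ ·)] [Nonempty ι] in
theorem baseChange_factor (hk : Antitone k) {L : Type u} [Field L] [Algebra K L] {i j : ι} (hij : i ≤ j)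
    (z : L ⊗[K] Ω[K⁄k₀])
    (hz : ((KaehlerDifferential.map k₀ (k j) K K).restrictScalars K).baseChange L z = 0) :
    ((KaehlerDifferential.map k₀ (k i) K K).restrictScalars K).baseChange L z = 0 := by
  let fj := (KaehlerDifferential.map k₀ (k j) K K).restrictScalars K
  let fi := (KaehlerDifferential.map k₀ (k i) K K).restrictScalars K
  have hz' : z ∈ LinearMap.ker (fj.lTensor L) := hz
  rw [(Module.Flat.lTensor_exact L (LinearMap.exact_subtype_ker_map fj)).linearMap_ker_eq] at hz'
  obtain ⟨t, rfl⟩ := hz'
  have h0 : fi ∘ₗ (LinearMap.ker fj).subtype = 0 := LinearMap.ext fun x => map_factor k hk hij x.1 x.2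
  show fi.lTensor L ((LinearMap.ker fj).subtype.lTensor L t) = 0
  rw [← LinearMap.comp_apply, ← LinearMap.lTensor_comp, h0, LinearMap.lTensor_zero, LinearMap.zero_apply]

variable (p : ℕ) [Fact p.Prime] [CharP K p]

theorem eq_zero_of_forall (hk : Antitone k)
    (h : (⨅ i, k i ⊔ IntermediateField.adjoin k₀ (Set.range fun y : K => y ^ p)) = IntermediateField.adjoin k₀ (Set.range fun y : K => y ^ p))
    {L : Type u} [Field L] [Algebra K L] (z : L ⊗[K] Ω[K⁄k₀])
    (hz : ∀ i, ((KaehlerDifferential.map k₀ (k i) K K).restrictScalars K).baseChange L z = 0) : z = 0 := by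
  classical
  let b := Module.Basis.ofVectorSpace K L
  refine (TensorProduct.equivFinsuppOfBasisLeft b (N := Ω[K⁄k₀])).map_eq_zero_iff.mp (Finsupp.ext fun j => ?_)
  refine (Groth.L06.PBasisField.iInf_iff p k hk).mp h _ fun i => ?_
  let f := (KaehlerDifferential.map k₀ (k i) K K).restrictScalars K
  have e : ∀ z : L ⊗[K] Ω[K⁄k₀], f (TensorProduct.equivFinsuppOfBasisLeft b z j) =
      TensorProduct.equivFinsuppOfBasisLeft b (f.baseChange L z) j := fun z => by
    induction z using TensorProduct.induction_on with
    | zero => simp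
    | add a b ha hb => simp only [map_add, Finsupp.add_apply, ha, hb]
    | tmul c w =>
      rw [LinearMap.baseChange_tmul, TensorProduct.equivFinsuppOfBasisLeft_apply_tmul_apply,
        TensorProduct.equivFinsuppOfBasisLeft_apply_tmul_apply, map_smul]
  show f _ = 0
  rw [e, hz i, map_zero, Finsupp.zero_apply]

omit [IsDirected ι (· ≤ ·)] [Nonempty ι] in
/-- the weakened derivation test -/
theorem exists_admissible [IsDirected ι (· ≤ ·)] [Nonempty ι] (hk : Antitone k)
    (h : (⨅ i, k i ⊔ IntermediateField.adjoin k₀ (Set.range fun y : K => y ^ p)) = IntermediateField.adjoin k₀ (Set.range fun y : K => y ^ p))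
    {L : Type u} [Field L] [Algebra K L] [Algebra k₀ L] [IsScalarTower k₀ K L]
    [Module.Finite L (EGA41.imperfection k₀ K L)] :
    ∃ i, ∀ ω ∈ EGA41.imperfection k₀ K L,
      ((KaehlerDifferential.map k₀ (k i) K K).restrictScalars K).baseChange L ω = 0 → ω = 0 := by
  let W : ι → Submodule L (EGA41.imperfection k₀ K L) := fun i =>
    LinearMap.ker ((((KaehlerDifferential.map k₀ (k i) K K).restrictScalars K).baseChange L).comp (EGA41.imperfection k₀ K L).subtype)
  obtain ⟨_, ⟨i₀, rfl⟩, hmin⟩ := IsArtinian.set_has_minimal (Set.range W) (Set.range_nonempty W)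
  refine ⟨i₀, fun ω hω h0 => eq_zero_of_forall k p hk h ω fun i => ?_⟩
  obtain ⟨j, hji, hji₀⟩ := exists_ge_ge i i₀
  have hle : W j ≤ W i₀ := fun x hx => baseChange_factor k hk hji₀ x.1 hx
  have heq : W j = W i₀ := (lt_or_eq_of_le hle).resolve_left (hmin _ ⟨j, rfl⟩)
  have hmem : (⟨ω, hω⟩ : EGA41.imperfection k₀ K L) ∈ W j := by rw [heq]; exact h0
  exact baseChange_factor k hk hji ω hmem

theorem iInf_iff_admissible (hk : Antitone k) :
    (⨅ i, k i ⊔ IntermediateField.adjoin k₀ (Set.range fun y : K => y ^ p)) =
        IntermediateField.adjoin k₀ (Set.range fun y : K => y ^ p) ↔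
      ∀ (L : Type u) [Field L] [Algebra K L] [Algebra k₀ L] [IsScalarTower k₀ K L],
        Module.Finite L (EGA41.imperfection k₀ K L) →
          ∃ i, ∀ ω ∈ EGA41.imperfection k₀ K L,
            ((KaehlerDifferential.map k₀ (k i) K K).restrictScalars K).baseChange L ω = 0 → ω = 0 := by
  refine ⟨fun h L _ _ _ _ hfin => by haveI := hfin; exact exists_admissible k p hk h, fun h => ?_⟩
  refine le_antisymm (fun c hc => ?_) (le_iInf fun i => le_sup_right)
  by_contra hcn
  obtain ⟨α, hα⟩ := IsAlgClosed.exists_pow_nat_eq (algebraMap K (AlgebraicClosure K) c) (Fact.out : p.Prime).pos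
  let L := IntermediateField.adjoin K {α}
  haveI : FiniteDimensional K L := IntermediateField.adjoin.finiteDimensional
    (IsIntegral.of_pow (Fact.out : p.Prime).pos (hα ▸ isIntegral_algebraMap))
  let αL : L := ⟨α, IntermediateField.mem_adjoin_simple_self K α⟩
  haveI : CharP L p := charP_of_injective_algebraMap (algebraMap K L).injective p
  obtain ⟨i, hi⟩ := h L (Groth.L06.SepKaehler.finite_imperfection K L k₀).1
  have hmem : ((1 : L) ⊗ₜ[K] KaehlerDifferential.D k₀ K c) ∈ EGA41.imperfection k₀ K L := by
    show KaehlerDifferential.mapBaseChange k₀ K L _ = 0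
    rw [KaehlerDifferential.mapBaseChange_tmul, one_smul, KaehlerDifferential.map_D,
      show algebraMap K L c = αL ^ p from Subtype.ext hα.symm, Derivation.leibniz_pow, ← Nat.cast_smul_eq_nsmul L,
      CharP.cast_eq_zero, zero_smul]
  have h0 := hi _ hmem (by
    have hDc : KaehlerDifferential.map k₀ (k i) K K (KaehlerDifferential.D k₀ K c) = 0 := by
      rw [KaehlerDifferential.map_D]
      have hle : k i ⊔ IntermediateField.adjoin k₀ (Set.range fun y : K => y ^ p) ≤
          (IntermediateField.adjoin (k i) ((Set.range fun y : K => y ^ p) ∪ ∅)).restrictScalars k₀ :=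
        sup_le (fun z hz => IntermediateField.algebraMap_mem _ (⟨z, hz⟩ : k i))
          (IntermediateField.adjoin_le_iff.mpr fun z hz => IntermediateField.subset_adjoin _ _ (Or.inl hz))
      exact Groth.L06.PBasisField.D_eq_zero_of_mem p (fun y hy => hy.elim)
        (hle ((iInf_le (fun i => k i ⊔ IntermediateField.adjoin k₀ (Set.range fun y : K => y ^ p)) i) hc))
    rw [LinearMap.baseChange_tmul, LinearMap.restrictScalars_apply, hDc, TensorProduct.tmul_zero])
  obtain ⟨D, -, hDc⟩ := Groth.L06.PBasisField.exists_der p (k := k₀) (s := (∅ : Set K)) (c := c) (by rwa [Set.union_empty])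
  have h1 := congrArg (LinearMap.liftBaseChange L ((Algebra.linearMap K L).comp D.liftKaehlerDifferential)) h0
  rw [LinearMap.liftBaseChange_tmul, one_smul, LinearMap.comp_apply, Derivation.liftKaehlerDifferential_comp_D, hDc,
    Algebra.linearMap_apply, map_one, map_zero] at h1
  exact one_ne_zero h1

theorem iInf_of_finite_imperfection {L : Type u} [Field L] [Algebra K L] [Algebra k₀ L] [IsScalarTower k₀ K L] [CharP L p]
    (hk : Antitone k)
    (h : (⨅ i, k i ⊔ IntermediateField.adjoin k₀ (Set.range fun y : K => y ^ p)) =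
      IntermediateField.adjoin k₀ (Set.range fun y : K => y ^ p))
    [Module.Finite L (EGA41.imperfection k₀ K L)] :
    (⨅ i, (k i).map (IsScalarTower.toAlgHom k₀ K L) ⊔ IntermediateField.adjoin k₀ (Set.range fun y : L => y ^ p)) =
      IntermediateField.adjoin k₀ (Set.range fun y : L => y ^ p) := by
  refine (Groth.L06.PBasisField.iInf_iff p (fun i => (k i).map (IsScalarTower.toAlgHom k₀ K L))
    (fun i j hij => IntermediateField.map_mono _ (hk hij))).mpr fun ω hω' => ?_
  have hω : ∀ i, KaehlerDifferential.map k₀ (k i) L L ω = 0 := fun i => by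
    let k' := (k i).map (IsScalarTower.toAlgHom k₀ K L)
    let D : Derivation k' L (Ω[L⁄k i]) := Derivation.mk'
      { toFun := fun a => KaehlerDifferential.D (k i) L a
        map_add' := fun a b => map_add _ a b
        map_smul' := fun c a => by
          show KaehlerDifferential.D (k i) L (c • a) = c • KaehlerDifferential.D (k i) L a
          have h0 : KaehlerDifferential.D (k i) L (algebraMap k' L c) = 0 := by
            obtain ⟨d, hd, hdc⟩ := c.2
            exact (congrArg (KaehlerDifferential.D (k i) L) hdc.symm).trans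
              ((KaehlerDifferential.D (k i) L).map_algebraMap (⟨d, hd⟩ : k i))
          rw [Algebra.smul_def, Derivation.leibniz, h0, smul_zero, add_zero, algebraMap_smul] }
      fun a b => (KaehlerDifferential.D (k i) L).leibniz a b
    have e : ∀ w, D.liftKaehlerDifferential (KaehlerDifferential.map k₀ k' L L w) = KaehlerDifferential.map k₀ (k i) L L w := fun w => by
      induction (KaehlerDifferential.span_range_derivation k₀ L ▸ Submodule.mem_top :
          w ∈ Submodule.span L (Set.range (KaehlerDifferential.D k₀ L))) using Submodule.span_induction with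
      | mem y hy =>
        obtain ⟨a, rfl⟩ := hy
        rw [KaehlerDifferential.map_D, KaehlerDifferential.map_D, Derivation.liftKaehlerDifferential_comp_D]
        rfl
      | zero => simp
      | add a b _ _ ha hb => simp only [map_add, ha, hb]
      | smul r a _ ha => simp only [map_smul, ha]
    rw [← e, hω' i, map_zero]
  obtain ⟨i₀, hi₀⟩ := exists_admissible k p hk h (L := L)
  have hker : KaehlerDifferential.map k₀ K L L ω = 0 := by
    haveI : Nonempty ι := ‹_›
    obtain ⟨i⟩ := ‹Nonempty ι›
    have e : ∀ w, KaehlerDifferential.map (k i) K L L (KaehlerDifferential.map k₀ (k i) L L w) = KaehlerDifferential.map k₀ K L L w := fun w => by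
      induction (KaehlerDifferential.span_range_derivation k₀ L ▸ Submodule.mem_top :
          w ∈ Submodule.span L (Set.range (KaehlerDifferential.D k₀ L))) using Submodule.span_induction with
      | mem y hy =>
        obtain ⟨a, rfl⟩ := hy
        simp only [KaehlerDifferential.map_D]
        rfl
      | zero => simp
      | add a b _ _ ha hb => simp only [map_add, ha, hb]
      | smul r a _ ha => simp only [map_smul, ha]
    rw [← e, hω i, map_zero]
  obtain ⟨z, rfl⟩ := (KaehlerDifferential.exact_mapBaseChange_map k₀ K L ω).mp hker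
  have hη : ∀ i, ∃ η ∈ EGA41.imperfection k₀ K L,
      ((KaehlerDifferential.map k₀ (k i) K K).restrictScalars K).baseChange L (z - η) = 0 := fun i => by
    obtain ⟨η, hη, hηz⟩ := imperfection_surjective k₀ (k i) K L ((KaehlerDifferential.map k₀ (k i) K K).baseChange L z)
      (by
        show KaehlerDifferential.mapBaseChange (k i) K L _ = 0
        rw [baseChange_eq, hω i])
    refine ⟨η, hη, ?_⟩
    show (KaehlerDifferential.map k₀ (k i) K K).baseChange L (z - η) = 0
    rw [map_sub, hηz, sub_self]
  choose η hηΥ hηk using hη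
  have hz : z - η i₀ = 0 := eq_zero_of_forall k p hk h _ fun j => by
    obtain ⟨i, hij, hii₀⟩ := exists_ge_ge j i₀
    have h1 : η i - η i₀ = 0 := hi₀ _ (sub_mem (hηΥ i) (hηΥ i₀)) (by
      rw [show η i - η i₀ = (z - η i₀) - (z - η i) by abel, map_sub, hηk i₀, baseChange_factor k hk hii₀ _ (hηk i),
        sub_self])
    rw [← sub_eq_zero.mp h1]
    exact baseChange_factor k hk hij _ (hηk i)
  rw [sub_eq_zero.mp hz]
  exact hηΥ i₀

end Groth.L06.Admissible
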