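import Groth.Agent.L22.Cyc.RelDim
import Groth.Agent.L03.FibreLocalDim
import Mathlib.RingTheory.LocalRing.ResidueField.Ideal
import Mathlib.AlgebraicGeometry.AffineScheme

/-! The relative transcendence degree of a morphism of spectra. -/

set_option autoImplicit false
set_option maxSynthPendingDepth 3
set_option backward.isDefEq.respectTransparency.types false
set_option backward.isDefEq.respectTransparency false
set_option linter.style.haveILetI false
universe u

open CategoryTheory AlgebraicGeometry TopologicalSpace Topology IsLocalRing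

namespace Groth.L06.AffineRTrdeg

open Groth.L22

theorem rtrdeg_spec (R S : Type u) [CommRing R] [CommRing S] [Algebra R S] (Q : PrimeSpectrum S) :
    Cyc.rtrdeg (Groth.L03.FibreLocalDim.f R S) Q =
      letI := (Ideal.ResidueField.map (PrimeSpectrum.comap (algebraMap R S) Q).asIdeal Q.asIdeal
        (algebraMap R S) rfl).toAlgebra
      Algebra.trdeg (PrimeSpectrum.comap (algebraMap R S) Q).asIdeal.ResidueField Q.asIdeal.ResidueField := by
  let φ : CommRingCat.of R ⟶ CommRingCat.of S := CommRingCat.ofHom (algebraMap R S)
  let P := PrimeSpectrum.comap (algebraMap R S) Q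
  letI := (Ideal.ResidueField.map P.asIdeal Q.asIdeal (algebraMap R S) rfl).toAlgebra
  letI := ((Groth.L03.FibreLocalDim.f R S).residueFieldMap Q).hom.toAlgebra
  let eR := (Spec.stalkIso (CommRingCat.of R) P).commRingCatIsoToRingEquiv
  let eS := (Spec.stalkIso (CommRingCat.of S) Q).commRingCatIsoToRingEquiv
  have hsq : ∀ r, eS ((Groth.L03.FibreLocalDim.f R S).stalkMap Q r) =
      Localization.localRingHom P.asIdeal Q.asIdeal (algebraMap R S) rfl (eR r) := fun r => by
    have h := Scheme.localRingHom_comp_stalkIso φ Q
    have h' := congr($h r)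
    show (Spec.stalkIso (CommRingCat.of S) Q).hom ((Spec.map φ).stalkMap Q r) = _
    rw [← h']
    simp only [CommRingCat.comp_apply]
    exact congr($((Spec.stalkIso (CommRingCat.of S) Q).inv_hom_id) _)
  show Algebra.trdeg _ _ = _
  refine Cyc.trdeg_eq_of_square (ResidueField.mapEquiv eR) (ResidueField.mapEquiv eS) fun a => ?_
  obtain ⟨r, rfl⟩ := residue_surjective (R := (Spec (CommRingCat.of R)).presheaf.stalk P) a
  exact congrArg (residue (Localization.AtPrime Q.asIdeal)) (hsq r)

end Groth.L06.AffineRTrdeg
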