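import Groth.Agent.L06.ProCons
import Mathlib.AlgebraicGeometry.Limits
import Mathlib.Algebra.Group.Pi.Units
import Mathlib.AlgebraicGeometry.Morphisms.QuasiSeparated
import Mathlib.RingTheory.Spectrum.Prime.ConstructibleSet
import Mathlib.RingTheory.RingHom.FinitePresentation
import Mathlib.RingTheory.LocalRing.ResidueField.Ideal

set_option autoImplicit false
set_option linter.style.haveILetI false

/-!
Constructible and pro-constructible sets as images of affine schemes.
-/

universe u

open CategoryTheory Limits AlgebraicGeometry Topology TopologicalSpace Set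
open Groth.L19.Limit Groth.L06.ProCons Groth.L06.Spectral

namespace Groth.L06.AffineRange

theorem range_sigmaDesc {X : Scheme.{u}} {ι : Type u} {Y : ι → Scheme.{u}} (f : ∀ i, Y i ⟶ X) :
    Set.range (Sigma.desc f) = ⋃ i, Set.range (f i) := by
  ext x
  simp only [mem_range, mem_iUnion]
  constructor
  · rintro ⟨z, rfl⟩
    obtain ⟨⟨i, y⟩, rfl⟩ := (sigmaMk Y).surjective z
    exact ⟨i, y, by rw [sigmaMk_mk, ← Scheme.Hom.comp_apply, Sigma.ι_desc]⟩
  · rintro ⟨i, y, rfl⟩
    exact ⟨Sigma.ι Y i y, by rw [← Scheme.Hom.comp_apply, Sigma.ι_desc]⟩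

theorem isClopen_of_isConstructible_pi {ι : Type u} {K : ι → Type u} [∀ i, Field (K i)]
    {T : Set (PrimeSpectrum (∀ i, K i))} (hT : IsConstructible T) : IsClopen T := by
  classical
  have hD : ∀ a : ∀ i, K i, IsClopen (PrimeSpectrum.basicOpen a : Set (PrimeSpectrum (∀ i, K i))) := by
    intro a
    refine ⟨isOpen_compl_iff.mp ?_, (PrimeSpectrum.basicOpen a).isOpen⟩
    let e : ∀ i, K i := fun i => if a i = 0 then 1 else 0
    have : (PrimeSpectrum.basicOpen a : Set (PrimeSpectrum (∀ i, K i)))ᶜ = PrimeSpectrum.basicOpen e := by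
      ext Q
      simp only [mem_compl_iff, SetLike.mem_coe, PrimeSpectrum.mem_basicOpen, not_not]
      refine ⟨fun ha he => ?_, fun he => ?_⟩
      · refine Q.2.ne_top (Ideal.eq_top_of_isUnit_mem _ (Q.asIdeal.add_mem ha he) ?_)
        rw [Pi.isUnit_iff]
        intro i
        by_cases h : a i = 0 <;> simp [e, h]
      · refine (Q.2.mem_or_mem (x := a) (y := e) ?_).resolve_right he
        rw [show a * e = 0 from funext fun i => by by_cases h : a i = 0 <;> simp [e, h]]
        exact zero_mem _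
    rw [this]
    exact (PrimeSpectrum.basicOpen e).isOpen
  induction hT using IsConstructible.empty_union_induction with
  | open_retrocompact U hUo hUr =>
    obtain ⟨s, hs, hsU⟩ := (PrimeSpectrum.isTopologicalBasis_basic_opens
      (R := ∀ i, K i)).open_eq_sUnion hUo
    obtain ⟨t, htf, ht⟩ := (isCompact_iff_finite_subcover.mp hUr.isCompact) (fun b : s => (b : Set _))
      (fun b => by obtain ⟨a, ha⟩ := hs b.2; rw [← ha]; exact (PrimeSpectrum.basicOpen a).isOpen)
      (by rw [hsU, sUnion_eq_iUnion]) |>.elim fun t ht => (⟨(t : Set s), t.finite_toSet, ht⟩ :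
        ∃ t : Set s, t.Finite ∧ U ⊆ ⋃ b ∈ t, (b : Set _))
    have : U = ⋃ b ∈ t, (b : Set _) :=
      subset_antisymm ht (iUnion₂_subset fun b _ => hsU ▸ subset_sUnion_of_mem b.2)
    rw [this]
    exact htf.isClopen_biUnion fun b _ => by obtain ⟨a, ha⟩ := hs b.2; rw [← ha]; exact hD a
  | union s _ t _ h1 h2 => exact h1.union h2
  | compl s _ h => exact h.compl

/-- A constructibly closed subset of an affine spectrum is the image of the spectrum of the
product of its residue fields. -/
theorem range_comap_pi {A : Type u} [CommRing A] {E : Set (PrimeSpectrum A)}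
    (hE : IsClosed[constructibleTopology (PrimeSpectrum A)] E) :
    Set.range (PrimeSpectrum.comap (RingHom.pi fun p : E => algebraMap A p.1.asIdeal.ResidueField)) = E := by
  classical
  let φ := RingHom.pi fun p : E => algebraMap A p.1.asIdeal.ResidueField
  let pt : ∀ p : E, PrimeSpectrum (∀ p : E, p.1.asIdeal.ResidueField) := fun p =>
    PrimeSpectrum.comap (Pi.evalRingHom _ p) ⊥
  have hpt : ∀ p : E, PrimeSpectrum.comap φ (pt p) = p.1 := fun p => PrimeSpectrum.ext (by
    show Ideal.comap φ (Ideal.comap (Pi.evalRingHom _ p) ⊥) = p.1.asIdeal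
    rw [Ideal.comap_comap]
    exact Ideal.ker_algebraMap_residueField p.1.asIdeal)
  refine subset_antisymm ?_ fun p hp => ⟨pt ⟨p, hp⟩, hpt ⟨p, hp⟩⟩
  rintro _ ⟨Q, rfl⟩
  by_contra hq
  obtain ⟨T, hT, hqT, hTE⟩ := exists_isConstructible_subset
    (@IsClosed.isOpen_compl _ (constructibleTopology (PrimeSpectrum A)) _ hE) hq
  have hT' : IsClopen (PrimeSpectrum.comap φ ⁻¹' T) :=
    isClopen_of_isConstructible_pi (by
      obtain ⟨S, rfl⟩ := PrimeSpectrum.exists_constructibleSetData_iff.mpr hT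
      rw [← PrimeSpectrum.ConstructibleSetData.toSet_map]
      exact PrimeSpectrum.ConstructibleSetData.isConstructible_toSet _)
  obtain ⟨_, ⟨a, rfl⟩, haQ, haT⟩ :=
    PrimeSpectrum.isTopologicalBasis_basic_opens.exists_subset_of_mem_open (show Q ∈ PrimeSpectrum.comap φ ⁻¹' T from hqT) hT'.2
  obtain ⟨p, hp⟩ : ∃ p : E, a p ≠ 0 := by
    by_contra! h
    exact haQ ((funext h : a = 0) ▸ zero_mem _)
  have : PrimeSpectrum.comap φ (pt p) ∈ T := haT (by simpa [pt, PrimeSpectrum.mem_basicOpen] using hp)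
  rw [hpt] at this
  exact hTE this p.2

theorem exists_affine_range_eq {X : Scheme.{u}} [CompactSpace X] {E : Set X} (hE : CC E) :
    ∃ (X' : Scheme.{u}) (f : X' ⟶ X), IsAffine X' ∧ Set.range f = E := by
  have hU : ∀ x : X, ∃ U : X.Opens, IsAffineOpen U ∧ x ∈ U := fun x => by
    obtain ⟨_, ⟨(U : X.Opens), hU, rfl⟩, hxU, -⟩ :=
      X.isBasis_affineOpens.exists_subset_of_mem_open (mem_univ x) isOpen_univ
    exact ⟨U, hU, hxU⟩
  choose U hU hxU using hU
  obtain ⟨t, ht⟩ := isCompact_univ.elim_finite_subcover (fun x => (U x : Set X)) (fun x => (U x).2)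
    fun x _ => mem_iUnion.mpr ⟨x, hxU x⟩
  let E' : ∀ x : X, Set (PrimeSpectrum Γ(X, U x)) := fun x => (hU x).fromSpec ⁻¹' E
  let φ : ∀ x : X, Γ(X, U x) →+* (∀ p : E' x, p.1.asIdeal.ResidueField) := fun x =>
    RingHom.pi fun p : E' x => algebraMap _ p.1.asIdeal.ResidueField
  let g : ∀ x : (t : Set X), Spec (CommRingCat.of (∀ p : E' x.1, p.1.asIdeal.ResidueField)) ⟶ X :=
    fun x => Spec.map (CommRingCat.ofHom (φ x.1)) ≫ (hU x.1).fromSpec
  refine ⟨∐ fun x : (t : Set X) => Spec (CommRingCat.of (∀ p : E' x.1, p.1.asIdeal.ResidueField)),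
    Sigma.desc g, inferInstance, ?_⟩
  rw [range_sigmaDesc]
  have hr : ∀ x : (t : Set X), Set.range (g x) = E ∩ U x.1 := fun x => by
    rw [show (g x : _ → X) = (hU x.1).fromSpec ∘ Spec.map (CommRingCat.ofHom (φ x.1)) from
      funext fun z => Scheme.Hom.comp_apply _ _ z, Set.range_comp]
    rw [show Set.range (Spec.map (CommRingCat.ofHom (φ x.1))) = E' x.1 from
      range_comap_pi ((hE.preimage (hU x.1).fromSpec).isClosed_of_isAffine)]
    show (hU x.1).fromSpec '' ((hU x.1).fromSpec ⁻¹' E) = _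
    rw [Set.image_preimage_eq_inter_range, IsAffineOpen.range_fromSpec]
  simp_rw [hr]
  refine subset_antisymm (iUnion_subset fun x => inter_subset_left) fun z hz => ?_
  obtain ⟨x, hxt, hzx⟩ := mem_iUnion₂.mp (ht (mem_univ z))
  exact mem_iUnion.mpr ⟨⟨x, hxt⟩, hz, hzx⟩

theorem exists_affine_fp_range_eq {X : Scheme.{u}} [CompactSpace X] {Z : Set X}
    (hZ : IsLocallyConstructible Z) :
    ∃ (X' : Scheme.{u}) (f : X' ⟶ X), IsAffine X' ∧ LocallyOfFinitePresentation f ∧ Set.range f = Z := by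
  have hU : ∀ x : X, ∃ U : X.Opens, IsAffineOpen U ∧ x ∈ U := fun x => by
    obtain ⟨_, ⟨(U : X.Opens), hU, rfl⟩, hxU, -⟩ :=
      X.isBasis_affineOpens.exists_subset_of_mem_open (mem_univ x) isOpen_univ
    exact ⟨U, hU, hxU⟩
  choose U hU hxU using hU
  obtain ⟨t, ht⟩ := isCompact_univ.elim_finite_subcover (fun x => (U x : Set X)) (fun x => (U x).2)
    fun x _ => mem_iUnion.mpr ⟨x, hxU x⟩
  have hS : ∀ x : X, ∃ S : PrimeSpectrum.ConstructibleSetData Γ(X, U x),
      S.toSet = (hU x).fromSpec ⁻¹' Z := fun x =>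
    PrimeSpectrum.exists_constructibleSetData_iff.mpr
      (hZ.preimage_of_isOpenEmbedding (hU x).fromSpec.isOpenEmbedding).isConstructible
  choose S hS using hS
  let ι := Σ x : (t : Set X), (S x.1 : Finset _)
  let R : ι → Type u := fun i =>
    Localization.Away (Ideal.Quotient.mk (Ideal.span (Set.range i.2.1.g)) i.2.1.f)
  let g : ∀ i : ι, Spec (CommRingCat.of (R i)) ⟶ X := fun i =>
    Spec.map (CommRingCat.ofHom (algebraMap Γ(X, U i.1.1) (R i))) ≫ (hU i.1.1).fromSpec
  refine ⟨∐ fun i : ι => Spec (CommRingCat.of (R i)), Sigma.desc g, inferInstance, ?_, ?_⟩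
  · haveI : IsZariskiLocalAtSource @LocallyOfFinitePresentation.{u} :=
      HasRingHomProperty.instIsZariskiLocalAtSource (Q := @RingHom.FinitePresentation)
    refine IsZariskiLocalAtSource.sigmaDesc (P := @LocallyOfFinitePresentation.{u}) fun i => ?_
    haveI : LocallyOfFinitePresentation (Spec.map (CommRingCat.ofHom (algebraMap Γ(X, U i.1.1) (R i)))) := by
      rw [HasRingHomProperty.Spec_iff (P := @LocallyOfFinitePresentation), CommRingCat.hom_ofHom,
        RingHom.finitePresentation_algebraMap]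
      haveI : Algebra.FinitePresentation Γ(X, U i.1.1) (Γ(X, U i.1.1) ⧸ Ideal.span (Set.range i.2.1.g)) :=
        Algebra.FinitePresentation.quotient (Submodule.fg_span (Set.finite_range _))
      haveI : Algebra.FinitePresentation (Γ(X, U i.1.1) ⧸ Ideal.span (Set.range i.2.1.g)) (R i) :=
        IsLocalization.Away.finitePresentation (Ideal.Quotient.mk (Ideal.span (Set.range i.2.1.g)) i.2.1.f)
      exact Algebra.FinitePresentation.trans _ (Γ(X, U i.1.1) ⧸ Ideal.span (Set.range i.2.1.g)) _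
    infer_instance
  rw [range_sigmaDesc]
  have hr : ∀ i : ι, Set.range (g i) = (hU i.1.1).fromSpec '' i.2.1.toSet := fun i => by
    rw [show (g i : _ → X) = (hU i.1.1).fromSpec ∘ Spec.map (CommRingCat.ofHom (algebraMap Γ(X, U i.1.1) (R i))) from
      funext fun z => Scheme.Hom.comp_apply _ _ z, Set.range_comp]
    refine congrArg _ ?_
    show Set.range (PrimeSpectrum.comap (algebraMap Γ(X, U i.1.1) (R i))) = _
    rw [IsScalarTower.algebraMap_eq Γ(X, U i.1.1) (Γ(X, U i.1.1) ⧸ Ideal.span (Set.range i.2.1.g)) (R i),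
      PrimeSpectrum.comap_comp, Set.range_comp, PrimeSpectrum.localization_away_comap_range (R i)
        (Ideal.Quotient.mk (Ideal.span (Set.range i.2.1.g)) i.2.1.f)]
    rw [← PrimeSpectrum.comap_basicOpen, TopologicalSpace.Opens.coe_comap, ContinuousMap.coe_mk,
      Ideal.Quotient.algebraMap_eq, Set.image_preimage_eq_inter_range,
      range_comap_of_surjective _ _ Ideal.Quotient.mk_surjective,
      PrimeSpectrum.BasicConstructibleSetData.toSet, Set.sdiff_eq_compl_inter,
      PrimeSpectrum.basicOpen_eq_zeroLocus_compl, Ideal.mk_ker, PrimeSpectrum.zeroLocus_span]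
  simp_rw [hr]
  refine subset_antisymm (iUnion_subset fun i => ?_) fun z hz => ?_
  · rintro _ ⟨p, hp, rfl⟩
    have h : p ∈ (S i.1.1).toSet := by
      rw [PrimeSpectrum.ConstructibleSetData.toSet]
      exact mem_biUnion i.2.2 hp
    rw [hS] at h
    exact h
  · obtain ⟨x, hxt, hzx⟩ := mem_iUnion₂.mp (ht (mem_univ z))
    obtain ⟨p, rfl⟩ : z ∈ Set.range (hU x).fromSpec := by rw [IsAffineOpen.range_fromSpec]; exact hzx
    have h : p ∈ (S x).toSet := by rw [hS]; exact hz
    rw [PrimeSpectrum.ConstructibleSetData.toSet] at h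
    obtain ⟨C, hC, hpC⟩ := mem_iUnion₂.mp h
    exact mem_iUnion.mpr ⟨⟨⟨x, hxt⟩, C, hC⟩, mem_image_of_mem _ hpC⟩

end Groth.L06.AffineRange
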