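import Groth.Agent.L18.KerReduced
import Groth.Agent.L18.AmpleOps
import Groth.Agent.L18.AmplePull
import Groth.Agent.L29.LocFree
import Groth.Agent.L00.TensorRestrict
import Groth.Agent.L06.FlatFibre
import Groth.Agent.L07.CIScheme
import Groth.Agent.L16.CohKernel
import Groth.Prelude.Def_ClSub2
import Groth.Prelude.Def_CInt
import Mathlib.AlgebraicGeometry.Morphisms.Proper
import Mathlib.AlgebraicGeometry.Morphisms.Flat
import Mathlib.AlgebraicGeometry.ZariskisMainTheorem
import Mathlib.AlgebraicGeometry.QuasiAffine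

/-!
Closed subsets disjoint from an ample divisor are finite over the base.
-/

set_option autoImplicit false
set_option linter.style.haveILetI false
set_option backward.isDefEq.respectTransparency false
universe u

open CategoryTheory CategoryTheory.Limits AlgebraicGeometry TopologicalSpace Opposite

noncomputable section

namespace Groth.L06.AmpleDisj

variable {X : Scheme.{u}}

/-- Outside its support the ideal module is trivial. -/
theorem idealMod_restrict (I : X.IdealSheafData) (W : X.Opens) (hW : ∀ x ∈ W, x ∉ I.support) :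
    Nonempty ((Scheme.Modules.restrictFunctor W.ι).obj (ClSub.idealMod I) ≅ Coh.structureModule W.toScheme) := by
  have h0 : (Scheme.Modules.restrictFunctor W.ι).map (ClSub.toSubscheme I) = 0 := by
    refine Scheme.Modules.hom_ext _ _ fun V => ?_
    ext m
    have e0 : I.subschemeι ⁻¹ᵁ (W.ι ''ᵁ V) = ⊥ := by
      refine Opens.ext (Set.eq_empty_of_forall_notMem fun z hz => ?_)
      refine hW (I.subschemeι z) (W.opensRange_ι.le (Scheme.Hom.image_le_opensRange W.ι V hz)) ?_
      rw [← SetLike.mem_coe, ← Scheme.IdealSheafData.range_subschemeι]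
      exact ⟨z, rfl⟩
    have : Subsingleton Γ(I.subscheme, I.subschemeι ⁻¹ᵁ (W.ι ''ᵁ V)) := by
      rw [e0]; exact CommRingCat.subsingleton_of_isTerminal I.subscheme.sheaf.isTerminalOfEmpty
    exact @Subsingleton.elim _ this _ _
  exact ⟨PreservesKernel.iso (Scheme.Modules.restrictFunctor W.ι) (ClSub.toSubscheme I) ≪≫
    kernelIsoOfEq h0 ≪≫ kernelZeroIsoSource ≪≫ Scheme.Modules.restrictUnitIso W.ι⟩

/-- A reduced closed subscheme avoiding the divisor is quasi-affine. -/
theorem isQuasiAffine_of_disjoint {Z : Scheme.{u}} (i : Z ⟶ X) [IsClosedImmersion i] [CompactSpace Z]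
    (I : X.IdealSheafData) (L : X.Modules) (hL : ClSub.IsInverseOf L (ClSub.idealMod I)) (hamp : CohB1.IsAmple L)
    (hi : ∀ z, i z ∉ I.support) : Z.IsQuasiAffine := by
  let W : X.Opens := ⟨(I.support : Set X)ᶜ, I.support.isClosed.isOpen_compl⟩
  obtain ⟨eI⟩ := idealMod_restrict I W fun x hx => hx
  obtain ⟨e⟩ := hL
  let eL : L.restrict W.ι ≅ Coh.structureModule W.toScheme :=
    (Groth.L00.Tensor.tensorUnitRight _).symm ≪≫ Groth.L00.Tensor.tensorIso (Iso.refl _) eI.symm ≪≫
      Groth.L00.Tensor.tensorRestrict W.ι L (ClSub.idealMod I) ≪≫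
      (Scheme.Modules.restrictFunctor W.ι).mapIso e ≪≫ Scheme.Modules.restrictUnitIso W.ι
  have hr : Set.range i ⊆ Set.range W.ι := by
    rintro _ ⟨z, rfl⟩
    rw [Scheme.Opens.range_ι]
    exact hi z
  let j := IsOpenImmersion.lift W.ι i hr
  have hj : j ≫ W.ι = i := IsOpenImmersion.lift_fac _ _ _
  let eZ : (Scheme.Modules.pullback i).obj L ≅ Coh.structureModule Z :=
    (Scheme.Modules.pullbackCongr hj.symm).app L ≪≫ ((Scheme.Modules.pullbackComp j W.ι).app L).symm ≪≫
      (Scheme.Modules.pullback j).mapIso (((Scheme.Modules.restrictFunctorIsoPullback W.ι).app L).symm ≪≫ eL) ≪≫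
      Groth.L29.LocFree.pullbackUnitIso j
  exact Groth.L18.Ample.isQuasiAffine_of_isAmple_structureModule
    (Groth.L18.Ample.isAmple_of_iso eZ
      (Groth.L18.Ample.isAmple_pullback_of_isInducing i i.isEmbedding.isInducing hamp))

/-- A quasi-affine scheme proper over an affine one is finite over it. -/
theorem isFinite_of_isQuasiAffine {Z T : Scheme.{u}} [IsAffine T] (g : Z ⟶ T) [IsProper g] [Z.IsQuasiAffine] :
    IsFinite g := by
  have e : Z.toSpecΓ ≫ (Spec.map g.appTop ≫ inv T.toSpecΓ) = g := by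
    rw [← Category.assoc, ← Scheme.toSpecΓ_naturality, Category.assoc, IsIso.hom_inv_id, Category.comp_id]
  haveI : IsProper (Z.toSpecΓ ≫ (Spec.map g.appTop ≫ inv T.toSpecΓ)) := e.symm ▸ inferInstance
  haveI : IsProper Z.toSpecΓ := IsProper.of_comp Z.toSpecΓ (Spec.map g.appTop ≫ inv T.toSpecΓ)
  haveI : IsClosedImmersion Z.toSpecΓ := (IsClosedImmersion.iff_isProper_and_mono _).2 ⟨inferInstance, inferInstance⟩
  haveI : IsAffine Z := isAffine_of_isAffineHom Z.toSpecΓ
  exact IsFinite.iff_isProper_and_isAffineHom.2 ⟨inferInstance, inferInstance⟩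

theorem isClosed_asFiber {A : Type u} [CommRing A] (g : X ⟶ Spec (CommRingCat.of A)) [IsProper g]
    (I : X.IdealSheafData) (L : X.Modules) (hL : ClSub.IsInverseOf L (ClSub.idealMod I)) (hamp : CohB1.IsAmple L)
    (Z : Set X) (hZ : IsClosed Z) (hZI : Disjoint Z (I.support : Set X)) (z : X) (hz : z ∈ Z) :
    IsClosed ({g.asFiber z} : Set ↥(g.fiber (g z))) := by
  let J := Scheme.IdealSheafData.vanishingIdeal (⟨Z, hZ⟩ : Closeds X)
  let i := J.subschemeι
  have hri : Set.range i = Z := by
    rw [Scheme.IdealSheafData.range_subschemeι, Groth.L18.support_vanishingIdeal]; rfl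
  haveI : CompactSpace J.subscheme := QuasiCompact.compactSpace_of_compactSpace (i ≫ g)
  haveI := isQuasiAffine_of_disjoint i I L hL hamp fun t ht => hZI.le_bot ⟨hri.le ⟨t, rfl⟩, ht⟩
  haveI := isFinite_of_isQuasiAffine (i ≫ g)
  have hdisc := (i ≫ g).isDiscrete_preimage_singleton (g z)
  haveI := hdisc.to_subtype
  have key : ∀ w, g w = g z → z ⤳ w → w = z := by
    intro w hw hzw
    obtain ⟨a, ha⟩ : z ∈ Set.range i := hri.ge hz
    obtain ⟨b, hb⟩ : w ∈ Set.range i := hri.ge (hzw.mem_closed hZ hz)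
    have ha' : a ∈ (i ≫ g) ⁻¹' {g z} := by show g (i a) = g z; rw [ha]
    have hb' : b ∈ (i ≫ g) ⁻¹' {g z} := by show g (i b) = g z; rw [hb, hw]
    have hs : a ⤳ b := i.isEmbedding.isInducing.specializes_iff.1 (by rw [ha, hb]; exact hzw)
    have : (⟨a, ha'⟩ : ↥((i ≫ g) ⁻¹' {g z})) ⤳ ⟨b, hb'⟩ := (subtype_specializes_iff _ _).2 hs
    rw [← ha, ← hb, show a = b from congrArg Subtype.val this.eq]
  have e : ({g.asFiber z} : Set ↥(g.fiber (g z))) = g.fiberι (g z) ⁻¹' closure {z} := by
    ext t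
    constructor
    · rintro rfl
      show g.fiberι (g z) (g.asFiber z) ∈ closure {z}
      rw [g.fiberι_asFiber]
      exact subset_closure rfl
    · intro ht
      refine (g.fiberι (g z)).isEmbedding.injective ?_
      rw [g.fiberι_asFiber]
      refine key _ ?_ (specializes_iff_mem_closure.2 ht)
      have : g.fiberι (g z) t ∈ g ⁻¹' {g z} := by rw [← g.range_fiberι]; exact ⟨t, rfl⟩
      exact this
  rw [e]
  exact isClosed_closure.preimage (g.fiberι (g z)).continuous

theorem le_depth {A : Type u} [CommRing A] [IsNoetherianRing A] (g : X ⟶ Spec (CommRingCat.of A))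
    [LocallyOfFiniteType g] [Flat g] (z : X) (n : ℕ∞)
    (h : n ≤ LocCoh.depth ↑(CInt.fiberStalk g z) ↑(CInt.fiberStalk g z)) :
    n ≤ LocCoh.depth (X.presheaf.stalk z) (X.presheaf.stalk z) := by
  haveI : IsLocallyNoetherian X := LocallyOfFiniteType.isLocallyNoetherian g
  obtain ⟨e⟩ := Groth.L07.CIScheme.exists_fiberStalkEquiv g (g z) (g.asFiber z) z (g.fiberι_asFiber z)
  letI := (g.stalkMap z).hom.toAlgebra
  haveI : IsLocalHom (algebraMap ((Spec (CommRingCat.of A)).presheaf.stalk (g z)) (X.presheaf.stalk z)) :=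
    inferInstanceAs (IsLocalHom (g.stalkMap z).hom)
  haveI : Module.Flat ((Spec (CommRingCat.of A)).presheaf.stalk (g z)) (X.presheaf.stalk z) := Flat.stalkMap g z
  haveI : Nontrivial (EGA4.FibRing ((Spec (CommRingCat.of A)).presheaf.stalk (g z)) (X.presheaf.stalk z)) :=
    e.toEquiv.nontrivial
  haveI : IsLocalRing (EGA4.FibRing ((Spec (CommRingCat.of A)).presheaf.stalk (g z)) (X.presheaf.stalk z)) :=
    IsLocalRing.of_surjective' _ Ideal.Quotient.mk_surjective
  refine le_trans ?_ ((le_add_left le_rfl).trans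
    (Groth.L06.FlatFibre.depth_add_le ((Spec (CommRingCat.of A)).presheaf.stalk (g z)) (X.presheaf.stalk z)))
  rw [← Groth.L06.FlatFibre.depth_eq_of_ringEquiv e]
  exact h

end Groth.L06.AmpleDisj
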