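import Groth.Agent.L06.NormalTensorApps
import Groth.Agent.S0543
import Mathlib.RingTheory.AdicCompletion.Algebra
import Mathlib.RingTheory.Henselian
import Mathlib.RingTheory.Localization.BaseChange
import Mathlib.RingTheory.Flat.Localization
import Mathlib.RingTheory.Spectrum.Prime.Topology

/-! Normality of the Zariskization and of the completion for a normal completion map. -/

set_option autoImplicit false
set_option maxSynthPendingDepth 3
set_option linter.style.haveILetI false
noncomputable section
universe u
open TensorProduct

namespace Groth.L06.NormalTensor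

variable (A : Type u) [CommRing A] [IsNoetherianRing A] (J : Ideal A)

theorem isAdicComplete_completion :
    IsAdicComplete (J.map (algebraMap A (AdicCompletion J A))) (AdicCompletion J A) :=
  (IsAdicComplete.map_algebraMap_iff J (AdicCompletion J A)).mpr
    (AdicCompletion.isAdicComplete (IsNoetherian.noetherian J))

theorem map_le_jacobson :
    J.map (algebraMap A (AdicCompletion J A)) ≤ (⊥ : Ideal (AdicCompletion J A)).jacobson :=
  haveI := isAdicComplete_completion A J
  IsAdicComplete.le_jacobson_bot _

theorem isUnit_algebraMap_of_mem {t : A} (ht : Ideal.Quotient.mk J t = 1) :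
    IsUnit (algebraMap A (AdicCompletion J A) t) := by
  have hmem : algebraMap A (AdicCompletion J A) t - 1 ∈ (⊥ : Ideal (AdicCompletion J A)).jacobson := by
    rw [← map_one (algebraMap A (AdicCompletion J A)), ← map_sub]
    exact map_le_jacobson A J (Ideal.mem_map_of_mem _ (Ideal.Quotient.eq.mp (ht.trans (map_one _).symm)))
  have := Ideal.mem_jacobson_bot.mp hmem 1
  rwa [mul_one, sub_add_cancel] at this

variable (hf : EGA4.IsNormalHom A (AdicCompletion J A)) (T : Submonoid A) (hT : T = MonoidHom.mker (Ideal.Quotient.mk J))
include hf hT

theorem isNormalRing_zariskization_iff :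
    EGA4.IsNormalRing (Localization T) ↔ EGA4.IsNormalRing (AdicCompletion J A) := by
  haveI : IsNoetherianRing (AdicCompletion J A) := Groth.Agent.S0543.result A J
  have hunit : ∀ t ∈ T, IsUnit (algebraMap A (AdicCompletion J A) t) := fun t ht => by
    rw [hT] at ht
    exact isUnit_algebraMap_of_mem A J ht
  constructor
  · intro hn
    have h1 : EGA4.IsNormalRing (AdicCompletion J A ⊗[A] Localization T) := isNormalRing_tensor hf (Localization T) hn
    let e := IsLocalization.atUnits (AdicCompletion J A) (Algebra.algebraMapSubmonoid (AdicCompletion J A) T)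
      (by rintro _ ⟨t, ht, rfl⟩; exact hunit t ht) (S := AdicCompletion J A ⊗[A] Localization T)
    exact Groth.L06.NormalAscent.isNormalRing_of_ringEquiv e.symm.toRingEquiv h1
  · intro hn
    haveI := hf.1
    let g : Localization T →+* AdicCompletion J A := IsLocalization.lift (fun t : T => hunit t t.2)
    letI : Algebra (Localization T) (AdicCompletion J A) := g.toAlgebra
    haveI : IsScalarTower A (Localization T) (AdicCompletion J A) :=
      IsScalarTower.of_algebraMap_eq fun a => (IsLocalization.lift_eq (fun t : T => hunit t t.2) a).symm
    haveI : Module.Flat (Localization T) (AdicCompletion J A) :=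
      (Module.flat_iff_of_isLocalization (Localization T) T (AdicCompletion J A)).mpr inferInstance
    haveI : Module.FaithfullyFlat (Localization T) (AdicCompletion J A) := by
      refine (Module.FaithfullyFlat.iff_flat_and_proper_ideal _ _).mpr ⟨inferInstance, fun I hI htop => ?_⟩
      obtain ⟨M, hM, hIM⟩ := Ideal.exists_le_maximal I hI
      let m := M.comap (algebraMap A (Localization T))
      have hmJ : J ≤ m := by
        intro j hj
        by_contra hjm
        obtain ⟨c, i, hi, hci⟩ := hM.exists_inv (x := algebraMap A (Localization T) j) hjm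
        obtain ⟨⟨d, s⟩, hds⟩ := IsLocalization.surj T c
        have h2 : d * j + (-(s : A)) ∈ m := by
          show algebraMap A (Localization T) (d * j + -(s : A)) ∈ M
          rw [map_add, map_mul, map_neg, ← hds]
          rw [show c * algebraMap A (Localization T) ↑s * algebraMap A (Localization T) j + -algebraMap A (Localization T) ↑s =
            -(algebraMap A (Localization T) ↑s * i) by linear_combination algebraMap A (Localization T) ↑s * hci]
          exact M.neg_mem (M.mul_mem_left _ hi)
        have h3 : -(d * j + -(s : A)) ∈ T := by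
          have hmem : ∀ x, x ∈ T ↔ Ideal.Quotient.mk J x = 1 := fun x =>
            (SetLike.ext_iff.mp hT x).trans MonoidHom.mem_mker
          have hs := (hmem _).mp s.2
          refine (hmem _).mpr ?_
          rw [map_neg, map_add, map_mul, map_neg, Ideal.Quotient.eq_zero_iff_mem.mpr hj, mul_zero, zero_add, neg_neg, hs]
        exact hM.ne_top (M.eq_top_of_isUnit_mem (show algebraMap A _ _ ∈ M from m.neg_mem h2)
          (IsLocalization.map_units (Localization T) (⟨_, h3⟩ : T)))
      haveI : m.IsPrime := Ideal.IsPrime.comap _
      let P : Ideal (AdicCompletion J A) :=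
        (m.map (Ideal.Quotient.mk J)).comap (AdicCompletion.evalOneₐ J).toRingHom
      have hP : (1 : AdicCompletion J A) ∈ P := by
        have hle : I • (⊤ : Submodule (Localization T) (AdicCompletion J A)) ≤ P.restrictScalars (Localization T) := by
          refine Submodule.smul_le.mpr fun x hx z _ => ?_
          obtain ⟨a, s, rfl⟩ := IsLocalization.exists_mk'_eq T x
          rw [Submodule.restrictScalars_mem, Algebra.smul_def]
          refine P.mul_mem_right _ ?_
          have hs : IsUnit (algebraMap (Localization T) (AdicCompletion J A) (algebraMap A _ s)) := by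
            rw [← IsScalarTower.algebraMap_apply]; exact hunit s s.2
          refine (Ideal.unit_mul_mem_iff_mem P hs).mp ?_
          rw [← map_mul, IsLocalization.mk'_spec', ← IsScalarTower.algebraMap_apply]
          refine Ideal.mem_map_of_mem (Ideal.Quotient.mk J) ?_
          show algebraMap A (Localization T) a ∈ M
          rw [← IsLocalization.mk'_spec' (Localization T) a s]
          exact M.mul_mem_left _ (hIM hx)
        exact hle (htop.symm ▸ Submodule.mem_top)
      have h1 : Ideal.Quotient.mk J 1 ∈ m.map (Ideal.Quotient.mk J) := by
        rw [map_one, ← map_one (AdicCompletion.evalOneₐ J).toRingHom]; exact hP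
      rw [← Ideal.mem_comap, Ideal.comap_map_of_surjective _ Ideal.Quotient.mk_surjective, ← RingHom.ker_eq_comap_bot,
        Ideal.mk_ker, sup_eq_left.mpr hmJ] at h1
      exact (inferInstance : m.IsPrime).ne_top ((Ideal.eq_top_iff_one _).mpr h1)
    exact Groth.L06.NormalAscent.isNormalRing_of_faithfullyFlat hn

end Groth.L06.NormalTensor

namespace Groth.L06.NormalTensor

variable (A : Type u) [CommRing A] [IsNoetherianRing A] (J : Ideal A)

theorem ker_evalOne_le_jacobson {x : AdicCompletion J A} (hx : AdicCompletion.evalOneₐ J x = 0) :
    x ∈ J.map (algebraMap A (AdicCompletion J A)) := by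
  rw [← AdicCompletion.ker_evalOneₐ_eq_map J (IsNoetherian.noetherian J)]
  exact hx

theorem eq_zero_of_isIdempotentElem {e : AdicCompletion J A} (he : IsIdempotentElem e)
    (hx : AdicCompletion.evalOneₐ J e = 0) : e = 0 := by
  have hu : IsUnit (e * (-1) + 1) :=
    Ideal.mem_jacobson_bot.mp (map_le_jacobson A J (ker_evalOne_le_jacobson A J hx)) (-1)
  refine hu.mul_left_eq_zero.mp ?_
  rw [mul_add, mul_one, ← mul_assoc, he.eq, mul_neg_one, neg_add_cancel]

theorem idem_eq_zero_or_one {S : Type u} [CommRing S] [ConnectedSpace (PrimeSpectrum S)] {e : S}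
    (he : IsIdempotentElem e) : e = 0 ∨ e = 1 := by
  have hc : IsClopen (PrimeSpectrum.basicOpen e : Set (PrimeSpectrum S)) :=
    PrimeSpectrum.isClopen_basicOpen_of_mul_add e (1 - e) he.mul_one_sub_self (add_sub_cancel _ _)
  rcases isClopen_iff.1 hc with h | h
  · left
    refine PrimeSpectrum.basicOpen_injOn_isIdempotentElem he IsIdempotentElem.zero ?_
    refine TopologicalSpace.Opens.ext ?_
    rw [h, PrimeSpectrum.basicOpen_zero]
    rfl
  · right
    refine PrimeSpectrum.basicOpen_injOn_isIdempotentElem he IsIdempotentElem.one ?_
    refine TopologicalSpace.Opens.ext ?_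
    rw [h, PrimeSpectrum.basicOpen_one]
    rfl

theorem connectedSpace_of_idem {S : Type u} [CommRing S] [Nontrivial S]
    (h : ∀ e : S, IsIdempotentElem e → e = 0 ∨ e = 1) : ConnectedSpace (PrimeSpectrum S) := by
  haveI : PreconnectedSpace (PrimeSpectrum S) := by
    refine preconnectedSpace_iff_clopen.mpr fun s hs => ?_
    obtain ⟨e, he, rfl⟩ := PrimeSpectrum.exists_idempotent_basicOpen_eq_of_isClopen hs
    rcases h e he with rfl | rfl
    · exact Or.inl (by simp [PrimeSpectrum.basicOpen_zero])
    · exact Or.inr (by simp [PrimeSpectrum.basicOpen_one])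
  exact { toNonempty := inferInstance }

variable (hJ : J ≠ ⊤) (hf : EGA4.IsNormalHom A (AdicCompletion J A)) (T : Submonoid A)
  (hT : T = MonoidHom.mker (Ideal.Quotient.mk J))
include hJ hf hT

theorem isDomain_completion_iff :
    (IsDomain (AdicCompletion J A) ∧ IsIntegrallyClosed (AdicCompletion J A)) ↔
      ((IsDomain (Localization T) ∧ IsIntegrallyClosed (Localization T)) ∧
        ConnectedSpace (PrimeSpectrum (A ⧸ J))) := by
  haveI : IsNoetherianRing (AdicCompletion J A) := Groth.Agent.S0543.result A J
  haveI : Nontrivial (A ⧸ J) := Ideal.Quotient.nontrivial_iff.mpr hJ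
  haveI : Nontrivial (AdicCompletion J A) := (AdicCompletion.evalOneₐ J).toRingHom.domain_nontrivial
  constructor
  · rintro ⟨hd, hi⟩
    have hnT : EGA4.IsNormalRing (Localization T) :=
      (isNormalRing_zariskization_iff A J hf T hT).mpr normalRing_of_domain
    have hunit : ∀ t ∈ T, IsUnit (algebraMap A (AdicCompletion J A) t) := fun t ht => by
      rw [hT] at ht
      exact isUnit_algebraMap_of_mem A J ht
    haveI hdT : IsDomain (Localization T) := by
      let g : Localization T →+* AdicCompletion J A := IsLocalization.lift (fun t : T => hunit t t.2)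
      haveI : Nontrivial (Localization T) := g.domain_nontrivial
      haveI : NoZeroDivisors (Localization T) := by
        refine Function.Injective.noZeroDivisors g ?_ (map_zero g) (map_mul g)
        refine (injective_iff_map_eq_zero g).mpr fun x hx => ?_
        obtain ⟨a, s, rfl⟩ := IsLocalization.exists_mk'_eq T x
        have ha : algebraMap A (AdicCompletion J A) a = 0 := by
          have := congrArg (· * g (algebraMap A (Localization T) s)) hx
          rwa [← map_mul, IsLocalization.mk'_spec, zero_mul, IsLocalization.lift_eq] at this
        have hall : a ∈ (⨅ i : ℕ, J ^ i • (⊤ : Submodule A A)) := by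
          refine Submodule.mem_iInf _ |>.mpr fun i => ?_
          have := congrArg (fun z => AdicCompletion.eval J A i z) ha
          rw [map_zero] at this
          exact (Submodule.Quotient.mk_eq_zero _).mp this
        obtain ⟨⟨r, hr⟩, hra⟩ := (J.mem_iInf_smul_pow_eq_bot_iff a).mp hall
        refine (IsLocalization.mk'_eq_zero_iff a s).mpr ⟨⟨1 - r, ?_⟩, ?_⟩
        · refine ((SetLike.ext_iff.mp hT _).trans MonoidHom.mem_mker).mpr ?_
          rw [map_sub, map_one, Ideal.Quotient.eq_zero_iff_mem.mpr hr, sub_zero]
        · simp only [Subtype.coe_mk] at hra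
          simp only [smul_eq_mul] at hra
          rw [sub_mul, one_mul, hra, sub_self]
      exact NoZeroDivisors.to_isDomain _
    refine ⟨⟨hdT, IsIntegrallyClosed.of_localization_maximal fun P _ hP => ?_⟩, ?_⟩
    · haveI := hP.isPrime
      exact (hnT P).2
    · haveI := isAdicComplete_completion A J
      refine connectedSpace_of_idem fun e he => ?_
      obtain ⟨a, ha⟩ := AdicCompletion.evalOneₐ_surjective J e
      have hmem : (Polynomial.X ^ 2 - Polynomial.X : Polynomial (AdicCompletion J A)).eval a ∈
          J.map (algebraMap A (AdicCompletion J A)) := by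
        refine ker_evalOne_le_jacobson A J ?_
        simp [ha, sq, he.eq]
      obtain ⟨r, hr, hra⟩ := HenselianRing.is_henselian (I := J.map (algebraMap A (AdicCompletion J A)))
        (Polynomial.X ^ 2 - Polynomial.X) (Polynomial.monic_X_pow_sub (by simp)) a hmem (by
          have h2 : Ideal.Quotient.mk (J.map (algebraMap A (AdicCompletion J A))) ((2 * a - 1) * (2 * a - 1)) = 1 := by
            rw [← map_one (Ideal.Quotient.mk (J.map (algebraMap A (AdicCompletion J A)))), Ideal.Quotient.eq]
            have : (2 * a - 1) * (2 * a - 1) - 1 = 4 * (a ^ 2 - a) := by ring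
            rw [this]
            exact Ideal.mul_mem_left _ _ (by simpa using hmem)
          refine IsUnit.of_mul_eq_one (Ideal.Quotient.mk _ (2 * a - 1)) ?_
          rw [← map_mul, show (Polynomial.X ^ 2 - Polynomial.X : Polynomial (AdicCompletion J A)).derivative.eval a = 2 * a - 1 by simp [one_add_one_eq_two]]
          exact h2)
      have hri : IsIdempotentElem r := by
        have := hr
        simp only [Polynomial.IsRoot, Polynomial.eval_sub, Polynomial.eval_pow, Polynomial.eval_X, sub_eq_zero] at this
        rwa [IsIdempotentElem, ← sq]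
      have hre : AdicCompletion.evalOneₐ J r = e := by
        rw [← ha, ← sub_eq_zero, ← map_sub]
        rw [← AdicCompletion.ker_evalOneₐ_eq_map J (IsNoetherian.noetherian J)] at hra
        exact hra
      rcases IsIdempotentElem.iff_eq_zero_or_one.mp hri with h | h
      · left; rw [← hre, h, map_zero]
      · right; rw [← hre, h, map_one]
  · rintro ⟨⟨hd, hi⟩, hc⟩
    have hn : EGA4.IsNormalRing (AdicCompletion J A) :=
      (isNormalRing_zariskization_iff A J hf T hT).mp normalRing_of_domain
    have htriv : ∀ e : AdicCompletion J A, IsIdempotentElem e → e = 0 ∨ e = 1 := by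
      intro e he
      rcases idem_eq_zero_or_one (he.map (AdicCompletion.evalOneₐ J)) with h | h
      · exact Or.inl (eq_zero_of_isIdempotentElem A J he h)
      · refine Or.inr (sub_eq_zero.mp (eq_zero_of_isIdempotentElem A J he.one_sub (by rw [map_sub, map_one, h, sub_self]))).symm
    have hI := Groth.L06.NormalTensor.idem_of_normal_noetherian hn
    haveI : NoZeroDivisors (AdicCompletion J A) := ⟨fun {a b} hab => by
      obtain ⟨e, he, hea, heb⟩ := hI a b hab
      rcases htriv e he with rfl | rfl
      · left; rw [← hea, zero_mul]
      · right; rw [← heb, one_mul]⟩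
    haveI : IsDomain (AdicCompletion J A) := NoZeroDivisors.to_isDomain _
    exact ⟨inferInstance, IsIntegrallyClosed.of_localization_maximal fun P _ hP => by
      haveI := hP.isPrime
      exact (hn P).2⟩

end Groth.L06.NormalTensor
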