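import Groth.Agent.L06.AndreRegular
import Groth.Agent.L06.GRingTransport
import Groth.Agent.L06.NormalCompletion
import Groth.Agent.S9317
import Groth.Agent.S9294
import Groth.Agent.S9295
import Groth.Agent.S0543
import Mathlib.RingTheory.Etale.Field

/-!
# Consequences of the theorem of André
-/

set_option autoImplicit false
set_option maxSynthPendingDepth 3
set_option linter.style.haveILetI false
universe u

namespace Groth.L06.AndreRegular

open IsLocalRing Groth.L06.FormSmooth
open scoped TensorProduct

/-- Regularity and formal smoothness agree for complete local rings. -/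
theorem isRegularHom_iff {A B : Type u} [CommRing A] [IsLocalRing A] [IsNoetherianRing A]
    [IsAdicComplete (maximalIdeal A) A] [CommRing B] [IsLocalRing B] [IsNoetherianRing B]
    [IsAdicComplete (maximalIdeal B) B] [Algebra A B] [IsLocalHom (algebraMap A B)] :
    CAlg.IsRegularHom A B ↔ CAlgX.IsAdicFormallySmooth A B (maximalIdeal B) :=
  ⟨fun h => (adicSmooth_iff_flat_geomRegular (k := (maximalIdeal A).ResidueField) residueField_surjective).mpr
    ⟨h.1, (h.2 (maximalIdeal A)).2⟩, isRegularHom_of_adicSmooth⟩

/-- André's theorem. -/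
theorem isRegularHom_of_adicSmooth_of_completion {A B : Type u} [CommRing A] [IsLocalRing A] [IsNoetherianRing A]
    [CommRing B] [IsLocalRing B] [IsNoetherianRing B] [Algebra A B] [IsLocalHom (algebraMap A B)]
    (hA : CAlg.IsRegularHom A (AdicCompletion (maximalIdeal A) A))
    (h : CAlgX.IsAdicFormallySmooth A B (maximalIdeal B)) : CAlg.IsRegularHom A B := by
  let Ah := AdicCompletion (maximalIdeal A) A
  let Bh := AdicCompletion (maximalIdeal B) B
  haveI : IsNoetherianRing Ah := Groth.Agent.S0543.result A _
  haveI : IsNoetherianRing Bh := Groth.Agent.S0543.result B _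
  have hmAB : (maximalIdeal A).map (algebraMap A B) ≤ maximalIdeal B := IsLocalRing.map_maximalIdeal_le _
  let ψ := GRingTransport.mapCompletion (algebraMap A B) (maximalIdeal A) (maximalIdeal B) hmAB
  have hψ : ψ.comp (algebraMap A Ah) = (algebraMap B Bh).comp (algebraMap A B) :=
    RingHom.ext fun a => GRingTransport.mapCompletion_algebraMap _ _ _ hmAB a
  letI : Algebra Ah Bh := ψ.toAlgebra
  have hfs := (Groth.Agent.S9317.result (maximalIdeal A) (maximalIdeal B) (IsNoetherian.noetherian _)
    (IsNoetherian.noetherian _) ⟨1, by rw [pow_one]; exact hmAB⟩ ψ hψ).mp h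
  rw [← AdicCompletion.maximalIdeal_eq_map] at hfs
  haveI : IsLocalHom (algebraMap Ah Bh) := ((IsLocalRing.local_hom_TFAE (algebraMap Ah Bh)).out 0 2 rfl rfl).mpr (by
    rw [AdicCompletion.maximalIdeal_eq_map, Ideal.map_map, show (algebraMap Ah Bh).comp (algebraMap A Ah) = _ from hψ,
      ← Ideal.map_map]
    exact (Ideal.map_mono hmAB).trans (AdicCompletion.maximalIdeal_eq_map (R := B)).ge)
  have h1 : CAlg.IsRegularHom Ah Bh := isRegularHom_of_adicSmooth hfs
  haveI : IsScalarTower A Ah Bh := IsScalarTower.of_algebraMap_eq fun a => by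
    rw [IsScalarTower.algebraMap_apply A B Bh]
    exact (DFunLike.congr_fun hψ a).symm
  have h2 : CAlg.IsRegularHom A Bh :=
    Groth.Agent.S9294.result A Ah Bh hA h1 fun p _ => GeomLocal.isNoetherianRing_fiber p
  haveI : Module.FaithfullyFlat B Bh := NormalAscent.faithfullyFlat_cpl B
  exact Groth.Agent.S9295.result A B Bh h2 PrimeSpectrum.comap_surjective_of_faithfullyFlat

/-- A flat local map with trivial special fibre up to a separable extension is adic formally smooth. -/
theorem adicSmooth_of_separable_residue {A B : Type u} [CommRing A] [IsLocalRing A] [IsNoetherianRing A]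
    [CommRing B] [IsLocalRing B] [IsNoetherianRing B] [Algebra A B] [IsLocalHom (algebraMap A B)] [Module.Flat A B]
    (hm : (maximalIdeal A).map (algebraMap A B) = maximalIdeal B)
    [Algebra.IsSeparable (ResidueField A) (ResidueField B)] :
    CAlgX.IsAdicFormallySmooth A B (maximalIdeal B) := by
  have hk : Function.Surjective (algebraMap A (ResidueField A)) := IsLocalRing.residue_surjective
  have hgeo : CAlg.IsGeometricallyRegular (ResidueField A) (ResidueField B) := by
    haveI : Algebra.FormallyEtale (ResidueField A) (ResidueField B) := Algebra.FormallyEtale.of_isSeparable _ _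
    haveI : IsNoetherianRing (ResidueField B) := inferInstance
    exact (adicSmooth_iff_geometricallyRegular (ResidueField A) (ResidueField B)).mp
      (adicSmooth_of_formallySmooth _)
  obtain ⟨e, -⟩ := exists_fibreEquiv (k := ResidueField A) hk (residue B) IsLocalRing.residue_surjective
    (fun a => rfl) ((IsLocalRing.ker_residue).trans hm.symm)
  exact (adicSmooth_iff_flat_geomRegular hk).mpr ⟨inferInstance, geomRegular_congr e.symm hgeo⟩

end Groth.L06.AndreRegular
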