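import Groth.Agent.L06.GeomLocalApp

/-! Geometric properties of fibres tested on finite domains (EGA IV 7.3). -/

set_option autoImplicit false
set_option maxSynthPendingDepth 3
set_option linter.style.haveILetI false
universe u

namespace Groth.L06.FiniteDomains

open IsLocalRing PropLoc
open scoped TensorProduct

theorem exists_finite_domain {A : Type u} [CommRing A] (p : Ideal A) [p.IsPrime] (K : Type u) [Field K]
    [Algebra p.ResidueField K] [Algebra A K] [IsScalarTower A p.ResidueField K] [Module.Finite p.ResidueField K] :
    ∃ A' : Subalgebra A K, Module.Finite A A' ∧ IsFractionRing A' K := by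
  classical
  letI : Algebra (A ⧸ p) K := ((algebraMap p.ResidueField K).comp (algebraMap (A ⧸ p) p.ResidueField)).toAlgebra
  haveI : IsScalarTower (A ⧸ p) p.ResidueField K := IsScalarTower.of_algebraMap_eq' rfl
  haveI : IsScalarTower A (A ⧸ p) K := IsScalarTower.of_algebraMap_eq fun a => by
    rw [IsScalarTower.algebraMap_apply (A ⧸ p) p.ResidueField K, ← IsScalarTower.algebraMap_apply A (A ⧸ p) p.ResidueField,
      ← IsScalarTower.algebraMap_apply A p.ResidueField K]
  let b := Module.finBasis p.ResidueField K
  choose m hm using fun i => IsIntegral.exists_multiple_integral_of_isLocalization (nonZeroDivisors (A ⧸ p)) (b i)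
    (Algebra.IsIntegral.isIntegral (R := p.ResidueField) (b i))
  let sgen : Fin (Module.finrank p.ResidueField K) → K := fun i => m i • b i
  haveI : Algebra.IsIntegral A (A ⧸ p) := Algebra.IsIntegral.of_finite A _
  have hs : ∀ x ∈ Set.range sgen, IsIntegral A x := by
    rintro _ ⟨i, rfl⟩
    exact isIntegral_trans (sgen i) (hm i)
  let A' := Algebra.adjoin A (Set.range sgen)
  letI : CommRing A' := Subalgebra.toCommRing (Algebra.adjoin A (Set.range sgen))
  refine ⟨A', ⟨(Submodule.fg_top _).mpr (fg_adjoin_of_finite (Set.finite_range sgen) hs)⟩,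
    IsFractionRing.of_field A' K (fun z => ?_)⟩
  let F := Subfield.closure (A' : Set K)
  have hAF : ∀ x : A, algebraMap A K x ∈ F := fun x => Subfield.subset_closure (A'.algebraMap_mem x)
  have hκ : ∀ c : p.ResidueField, algebraMap p.ResidueField K c ∈ F := fun c => by
    obtain ⟨x, y, -, rfl⟩ := IsFractionRing.div_surjective (A := A ⧸ p) c
    obtain ⟨x, rfl⟩ := Ideal.Quotient.mk_surjective x
    obtain ⟨y, rfl⟩ := Ideal.Quotient.mk_surjective y
    rw [map_div₀, ← Ideal.Quotient.algebraMap_eq, ← IsScalarTower.algebraMap_apply, ← IsScalarTower.algebraMap_apply,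
      ← IsScalarTower.algebraMap_apply, ← IsScalarTower.algebraMap_apply]
    exact div_mem (hAF x) (hAF y)
  have hb : ∀ i, b i ∈ F := fun i => by
    have hne : algebraMap (A ⧸ p) p.ResidueField (m i : A ⧸ p) ≠ 0 :=
      IsFractionRing.to_map_ne_zero_of_mem_nonZeroDivisors (m i).2
    have heq : sgen i = algebraMap p.ResidueField K (algebraMap (A ⧸ p) p.ResidueField (m i : A ⧸ p)) * b i := by
      show (m i : A ⧸ p) • b i = _
      rw [Algebra.smul_def, IsScalarTower.algebraMap_apply (A ⧸ p) p.ResidueField K]
    rw [show b i = sgen i / algebraMap p.ResidueField K (algebraMap (A ⧸ p) p.ResidueField (m i : A ⧸ p)) by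
      rw [heq, mul_div_cancel_left₀ _ ((map_ne_zero _).mpr hne)]]
    exact div_mem (Subfield.subset_closure (Algebra.subset_adjoin ⟨i, rfl⟩)) (hκ _)
  have hz : z ∈ F := by
    rw [← b.sum_repr z]
    exact sum_mem fun i _ => by rw [Algebra.smul_def]; exact mul_mem (hκ _) (hb i)
  obtain ⟨x, hx, y, hy, rfl⟩ := Subfield.mem_closure_iff.mp hz
  have hcl : Subring.closure (A' : Set K) ≤ A'.toSubring := Subring.closure_le.mpr fun w hw => hw
  exact ⟨⟨x, hcl hx⟩, ⟨y, hcl hy⟩, rfl⟩

theorem finite_residueField_fractionRing {A D : Type u} [CommRing A] [CommRing D] [IsDomain D] [Algebra A D]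
    [Module.Finite A D] (p : Ideal A) [p.IsPrime] [Algebra p.ResidueField (FractionRing D)]
    [IsScalarTower A p.ResidueField (FractionRing D)] : Module.Finite p.ResidueField (FractionRing D) := by
  classical
  obtain ⟨t, ht⟩ := (inferInstance : Module.Finite A D).fg_top
  let S := IntermediateField.adjoin p.ResidueField
    ((algebraMap D (FractionRing D)) '' (t : Set D) : Set (FractionRing D))
  haveI : Algebra.IsIntegral A D := Algebra.IsIntegral.of_finite A D
  haveI : FiniteDimensional p.ResidueField S := by
    haveI : Finite ((algebraMap D (FractionRing D)) '' (t : Set D) : Set (FractionRing D)) :=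
      (t.finite_toSet.image _).to_subtype
    refine IntermediateField.finiteDimensional_adjoin fun x hx => ?_
    obtain ⟨d, -, rfl⟩ := hx
    exact ((Algebra.IsIntegral.isIntegral (R := A) d).map (IsScalarTower.toAlgHom A D (FractionRing D))).tower_top
  have hS : S = ⊤ := eq_top_iff.mpr fun z _ => by
    have hD : ∀ d : D, algebraMap D (FractionRing D) d ∈ S := fun d => by
      have hd : d ∈ Submodule.span A (t : Set D) := ht ▸ Submodule.mem_top
      induction hd using Submodule.span_induction with
      | mem x hx => exact IntermediateField.subset_adjoin _ _ ⟨x, hx, rfl⟩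
      | zero => rw [map_zero]; exact zero_mem _
      | add x y _ _ hx hy => rw [map_add]; exact add_mem hx hy
      | smul a x _ hx =>
        rw [Algebra.smul_def, map_mul, ← IsScalarTower.algebraMap_apply,
          IsScalarTower.algebraMap_apply A p.ResidueField (FractionRing D)]
        exact mul_mem (IntermediateField.algebraMap_mem S _) hx
    obtain ⟨a, b, -, rfl⟩ := IsFractionRing.div_surjective (A := D) z
    exact div_mem (hD a) (hD b)
  exact Module.Finite.equiv (((IntermediateField.equivOfEq hS).trans IntermediateField.topEquiv).toLinearEquiv)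

variable {Q : ∀ (R : Type u) [CommRing R], Prop} (hQ : Good Q)
include hQ

theorem loc_fractionRing_iff {A D C : Type u} [CommRing A] [CommRing D] [IsDomain D] [CommRing C] [Algebra A D]
    [Algebra A C] [IsNoetherianRing (D ⊗[A] C)] (K : Type u) [Field K] [Algebra A K] [Algebra D K]
    [IsScalarTower A D K] [IsFractionRing D K] :
    Loc Q (K ⊗[A] C) ↔ ∀ (q : Ideal (D ⊗[A] C)) [q.IsPrime], q.comap (algebraMap D (D ⊗[A] C)) = ⊥ →
      Q (Localization.AtPrime q) := by
  let T := D ⊗[A] C
  letI : Algebra T (K ⊗[D] T) := Algebra.TensorProduct.rightAlgebra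
  let M := Algebra.algebraMapSubmonoid T (nonZeroDivisors D)
  haveI : IsLocalization M (K ⊗[D] T) := IsLocalization.tensorRight (R := D) (S := T) K (nonZeroDivisors D)
  haveI : IsNoetherianRing (K ⊗[D] T) := IsLocalization.isNoetherianRing M (K ⊗[D] T) inferInstance
  let e : K ⊗[D] T ≃+* K ⊗[A] C := (Algebra.TensorProduct.cancelBaseChange A D D K C).toRingEquiv
  haveI : IsNoetherianRing (K ⊗[A] C) := isNoetherianRing_of_ringEquiv (K ⊗[D] T) e
  constructor
  · intro h q _ hq
    have hd : Disjoint (M : Set T) (q : Set T) := Set.disjoint_left.mpr fun x hx hxq => by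
      obtain ⟨d, hd, rfl⟩ := hx
      have : d ∈ q.comap (algebraMap D T) := hxq
      rw [hq, Ideal.mem_bot] at this
      exact nonZeroDivisors.ne_zero hd this
    let P := q.map (algebraMap T (K ⊗[D] T))
    haveI : P.IsPrime := IsLocalization.isPrime_of_isPrime_disjoint M _ q ‹_› hd
    have hP : P.comap (algebraMap T (K ⊗[D] T)) = q := IsLocalization.comap_map_of_isPrime_disjoint M _ ‹_› hd
    haveI : IsLocalization.AtPrime (Localization.AtPrime P) q := by
      convert IsLocalization.isLocalization_isLocalization_atPrime_isLocalization M (Localization.AtPrime P) P using 2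
      exact hP.symm
    exact hQ.of_equiv (IsLocalization.algEquiv q.primeCompl (Localization.AtPrime P) (Localization.AtPrime q)).toRingEquiv
      (loc_of_ringEquiv hQ e.symm h P)
  · intro h
    refine loc_of_ringEquiv hQ e fun P _ => ?_
    let q := P.comap (algebraMap T (K ⊗[D] T))
    haveI : IsLocalization.AtPrime (Localization.AtPrime P) q :=
      IsLocalization.isLocalization_isLocalization_atPrime_isLocalization M (Localization.AtPrime P) P
    refine hQ.of_equiv (IsLocalization.algEquiv q.primeCompl (Localization.AtPrime q) (Localization.AtPrime P)).toRingEquiv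
      (h q ((Submodule.eq_bot_iff _).mpr fun x hx => ?_))
    by_contra hx0
    have hu : IsUnit (algebraMap T (K ⊗[D] T) (algebraMap D T x)) := IsLocalization.map_units (K ⊗[D] T)
      (⟨_, Algebra.mem_algebraMapSubmonoid_of_mem (⟨x, mem_nonZeroDivisors_of_ne_zero hx0⟩ : nonZeroDivisors D)⟩ : M)
    exact Ideal.IsPrime.ne_top ‹P.IsPrime› (Ideal.eq_top_of_isUnit_mem _ hx hu)

theorem fibres_iff_finite_domains {A C : Type u} [CommRing A] [CommRing C] [IsNoetherianRing C] [Algebra A C] :
    (∀ (p : Ideal A) [p.IsPrime] (K : Type u) [Field K] [Algebra p.ResidueField K],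
        Module.Finite p.ResidueField K → Loc Q (K ⊗[p.ResidueField] p.Fiber C)) ↔
      ∀ (D : Type u) [CommRing D] [IsDomain D] [Algebra A D] [Module.Finite A D] (q : Ideal (D ⊗[A] C)) [q.IsPrime],
        q.comap (algebraMap D (D ⊗[A] C)) = ⊥ → Q (Localization.AtPrime q) := by
  constructor
  · intro h D _ _ _ _
    haveI := GeomLocal.isNoetherianRing_right (A := A) (B := C) (C := D)
    let p := RingHom.ker (algebraMap A D)
    haveI : p.IsPrime := RingHom.ker_isPrime _
    let K := FractionRing D
    letI : Algebra p.ResidueField K := (Ideal.ResidueField.lift p (algebraMap A K) (fun a ha => by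
        rw [RingHom.mem_ker, IsScalarTower.algebraMap_apply A D K, (ha : algebraMap A D a = 0), map_zero])
      (fun a ha => (isUnit_iff_ne_zero.mpr fun h0 => ha (IsFractionRing.injective D K
        (by rw [map_zero, ← IsScalarTower.algebraMap_apply, h0]))))).toAlgebra
    haveI : IsScalarTower A p.ResidueField K := IsScalarTower.of_algebraMap_eq fun a =>
      (Ideal.ResidueField.lift_algebraMap p _ _ _ a).symm
    haveI := finite_residueField_fractionRing (D := D) p
    haveI := GeomLocal.isNoetherianRing_fibre (B := C) p K
    exact (loc_fractionRing_iff hQ (D := D) (C := C) K).mp (loc_of_ringEquiv hQ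
      (Algebra.TensorProduct.cancelBaseChange A p.ResidueField p.ResidueField K C).toRingEquiv (h p K inferInstance))
  · intro h p _ K _ _ hK
    haveI := hK
    letI : Algebra A K := ((algebraMap p.ResidueField K).comp (algebraMap A p.ResidueField)).toAlgebra
    haveI : IsScalarTower A p.ResidueField K := IsScalarTower.of_algebraMap_eq' rfl
    obtain ⟨A', h1, h2⟩ := exists_finite_domain p K
    letI : CommRing A' := A'.toCommRing
    haveI := h1
    haveI := h2
    haveI := GeomLocal.isNoetherianRing_right (A := A) (B := C) (C := A')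
    haveI := Groth.L06.FibreComp.isNoetherianRing_baseChange (B := C) p K
    haveI : IsNoetherianRing (K ⊗[A] C) :=
      isNoetherianRing_of_ringEquiv (C ⊗[A] K) (Algebra.TensorProduct.comm A C K).toRingEquiv
    exact loc_of_ringEquiv hQ (Algebra.TensorProduct.cancelBaseChange A p.ResidueField p.ResidueField K C).toRingEquiv.symm
      ((loc_fractionRing_iff hQ (D := A') (C := C) K).mpr (h A'))

end Groth.L06.FiniteDomains
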