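import Groth.Agent.L06.FormSmoothMain
import Groth.Agent.L06.GeomHom
import Mathlib.RingTheory.Flat.Localization

/-! Regular homomorphisms via adic formal smoothness of the local homomorphisms. -/

set_option autoImplicit false
set_option maxSynthPendingDepth 3
set_option linter.style.haveILetI false
universe u

namespace Groth.L06.FormSmooth

open IsLocalRing PropLoc
open scoped TensorProduct

theorem geomRegular_congr {k F F' : Type u} [Field k] [CommRing F] [CommRing F'] [Algebra k F] [Algebra k F']
    (e : F ≃ₐ[k] F') (h : CAlg.IsGeometricallyRegular k F) : CAlg.IsGeometricallyRegular k F' := fun K _ _ hK => by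
  haveI := h K hK
  exact IsRegularRing.of_ringEquiv (Algebra.TensorProduct.congr (AlgEquiv.refl : K ≃ₐ[k] K) e).toRingEquiv

/-- fibre of a localized map -/
noncomputable def fibreLocEquiv {A B : Type u} [CommRing A] [CommRing B] [Algebra A B] (p : Ideal A) [p.IsPrime]
    [Algebra (Localization.AtPrime p) B] [IsScalarTower A (Localization.AtPrime p) B] :
    p.ResidueField ⊗[Localization.AtPrime p] B ≃ₐ[p.ResidueField] p.Fiber B :=
  haveI := IsLocalization.tensorProduct_compatibleSMul p.primeCompl (Localization.AtPrime p) p.ResidueField B
  Algebra.TensorProduct.equivOfCompatibleSMul A (Localization.AtPrime p) p.ResidueField p.ResidueField B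

theorem adicSmooth_localization_iff (A B : Type u) [CommRing A] [CommRing B] [Algebra A B] [IsNoetherianRing A]
    [IsNoetherianRing B] (p : Ideal A) [p.IsPrime] (q : Ideal B) [q.IsPrime] (hpq : p = q.comap (algebraMap A B)) :
    letI := (Localization.localRingHom p q (algebraMap A B) hpq).toAlgebra
    CAlgX.IsAdicFormallySmooth (Localization.AtPrime p) (Localization.AtPrime q) (maximalIdeal (Localization.AtPrime q)) ↔
      (Module.Flat A (Localization.AtPrime q) ∧ CAlg.IsGeometricallyRegular p.ResidueField (p.Fiber (Localization.AtPrime q))) := by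
  letI := (Localization.localRingHom p q (algebraMap A B) hpq).toAlgebra
  let Ap := Localization.AtPrime p
  let Bq := Localization.AtPrime q
  haveI : IsScalarTower A Ap Bq := IsScalarTower.of_algebraMap_eq fun a => by
    rw [IsScalarTower.algebraMap_apply A B Bq]
    exact (Localization.localRingHom_to_map p q (algebraMap A B) hpq a).symm
  haveI : IsLocalHom (algebraMap Ap Bq) := Localization.isLocalHom_localRingHom _ _ _ _
  show CAlgX.IsAdicFormallySmooth Ap Bq (maximalIdeal Bq) ↔ _
  haveI : IsNoetherianRing Ap := IsLocalization.isNoetherianRing p.primeCompl Ap inferInstance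
  haveI : IsNoetherianRing Bq := IsLocalization.isNoetherianRing q.primeCompl Bq inferInstance
  rw [adicSmooth_iff_flat_geomRegular (k := p.ResidueField) (B := Bq) IsLocalRing.residue_surjective]
  refine and_congr ⟨fun h => ?_, fun h => ?_⟩ ⟨geomRegular_congr (fibreLocEquiv p), geomRegular_congr (fibreLocEquiv p).symm⟩
  · haveI := h
    exact Module.Flat.trans A Ap Bq
  · haveI := h
    exact (Module.flat_iff_of_isLocalization Ap p.primeCompl Bq).mpr h

theorem isRegularHom_iff_adicSmooth (A B : Type u) [CommRing A] [CommRing B] [Algebra A B] [IsNoetherianRing A]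
    [IsNoetherianRing B] : CAlg.IsRegularHom A B ↔
      ∀ (q : Ideal B) [q.IsPrime],
        letI := (Localization.localRingHom (Ideal.comap (algebraMap A B) q) q (algebraMap A B) rfl).toAlgebra
        CAlgX.IsAdicFormallySmooth (Localization.AtPrime (Ideal.comap (algebraMap A B) q))
          (Localization.AtPrime q) (maximalIdeal (Localization.AtPrime q)) := by
  constructor
  · intro h q _
    refine (adicSmooth_localization_iff A B _ q rfl).mpr ?_
    haveI := h.1
    haveI : IsNoetherianRing (Localization.AtPrime q) := IsLocalization.isNoetherianRing q.primeCompl _ inferInstance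
    haveI : Module.Flat A (Localization.AtPrime q) := Module.Flat.trans A B _
    refine ⟨inferInstance, ((GeomHom.isRegularHom_of_geomHom (A := A) (B := Localization.AtPrime q) ?_).2 _).2⟩
    exact GeomHom.comp good_reg (GeomHom.geomHom_reg_of_isRegularHom h) (GeomHom.geomHom_localization q.primeCompl _)
  · intro h
    have h' : ∀ (q : Ideal B) [q.IsPrime] (p : Ideal A) [p.IsPrime], p = q.comap (algebraMap A B) →
        Module.Flat A (Localization.AtPrime q) ∧ CAlg.IsGeometricallyRegular p.ResidueField (p.Fiber (Localization.AtPrime q)) := by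
      intro q _ p _ hpq
      subst hpq
      exact (adicSmooth_localization_iff A B _ q rfl).mp (h q)
    haveI : Module.Flat A B := by
      refine Module.flat_of_isLocalized_maximal B B (fun P => Localization.AtPrime P)
        (fun P => Algebra.linearMap B _) fun P _ => ?_
      exact (h' P _ rfl).1
    refine GeomHom.isRegularHom_of_geomHom fun p _ K _ _ hK => ?_
    haveI := hK
    letI : Algebra A K := ((algebraMap p.ResidueField K).comp (algebraMap A p.ResidueField)).toAlgebra
    haveI : IsScalarTower A p.ResidueField K := IsScalarTower.of_algebraMap_eq' rfl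
    haveI : IsNoetherianRing (B ⊗[A] K) := FibreComp.isNoetherianRing_baseChange p K
    refine loc_of_ringEquiv good_reg (FibreComp.fibreEquivBase (B := B) p K).symm fun P _ => ?_
    let R1 := B ⊗[A] K
    let Q := P.comap (algebraMap B R1)
    have hQp : p = Q.comap (algebraMap A B) := by
      have h1 : (P.comap (Algebra.TensorProduct.includeRight : K →ₐ[A] R1).toRingHom) = ⊥ :=
        ((Ideal.eq_bot_or_top _).resolve_right (Ideal.IsPrime.ne_top (Ideal.IsPrime.comap _)))
      rw [Ideal.comap_comap, ← IsScalarTower.algebraMap_eq,
        ← (Algebra.TensorProduct.includeRight : K →ₐ[A] R1).comp_algebraMap, ← Ideal.comap_comap]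
      erw [h1]
      rw [← RingHom.ker_eq_comap_bot, show algebraMap A K = (algebraMap p.ResidueField K).comp (algebraMap A p.ResidueField) from rfl,
        ← RingHom.comap_ker, (RingHom.injective_iff_ker_eq_bot _).mp (algebraMap p.ResidueField K).injective,
        ← RingHom.ker_eq_comap_bot, Ideal.ker_algebraMap_residueField]
    haveI : IsRegularRing (K ⊗[p.ResidueField] p.Fiber (Localization.AtPrime Q)) := (h' Q p hQp).2 K hK
    let BQ := Localization.AtPrime Q
    haveI : IsLocalization (Algebra.algebraMapSubmonoid R1 Q.primeCompl) (R1 ⊗[B] BQ) :=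
      IsLocalization.tensor (R := B) (S := R1) BQ Q.primeCompl
    let T := R1 ⊗[B] BQ
    haveI : IsRegularRing T := IsRegularRing.of_ringEquiv (R := K ⊗[p.ResidueField] p.Fiber BQ)
      (((FibreComp.fibreEquivBase (B := BQ) p K).trans
        (Algebra.TensorProduct.cancelBaseChange A B B BQ K).toRingEquiv.symm).trans
        (Algebra.TensorProduct.comm B BQ R1).toRingEquiv)
    have hdisj : Disjoint (Algebra.algebraMapSubmonoid R1 Q.primeCompl : Set R1) P := by
      rw [Set.disjoint_left]
      rintro _ ⟨b, hb, rfl⟩ hbP
      exact hb hbP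
    let P' := P.map (algebraMap R1 T)
    haveI : P'.IsPrime := IsLocalization.isPrime_of_isPrime_disjoint _ _ P inferInstance hdisj
    have hcomap : P'.comap (algebraMap R1 T) = P := IsLocalization.comap_map_of_isPrime_disjoint _ _ inferInstance hdisj
    haveI : IsLocalization.AtPrime (Localization.AtPrime P') P := by
      have h1 := IsLocalization.isLocalization_isLocalization_atPrime_isLocalization
        (Algebra.algebraMapSubmonoid R1 Q.primeCompl) (Localization.AtPrime P') P'
      simp only [IsLocalization.AtPrime, Ideal.primeCompl, hcomap] at h1 ⊢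
      exact h1
    haveI : IsRegularLocalRing (Localization.AtPrime P') := IsRegularRing.isRegularLocalRing_localization P'
    exact IsRegularLocalRing.of_ringEquiv
      (IsLocalization.algEquiv P.primeCompl (Localization.AtPrime P') (Localization.AtPrime P)).toRingEquiv

theorem adicSmooth_of_cohen {A B : Type u} [CommRing A] [IsLocalRing A] [IsNoetherianRing A] [CommRing B] [IsLocalRing B]
    [IsNoetherianRing B] [Algebra A B] [IsLocalHom (algebraMap A B)] [Module.Flat A B]
    (hm : (maximalIdeal A).map (algebraMap A B) = maximalIdeal B)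
    [Algebra.IsGeometricallyReduced (ResidueField A) (ResidueField B)] :
    CAlgX.IsAdicFormallySmooth A B (maximalIdeal B) := by
  let k := ResidueField A
  let K := ResidueField B
  have hk : Function.Surjective (algebraMap A k) := residue_surjective
  let F := k ⊗[A] B
  haveI : IsLocalRing F := isLocalRing_fibre hk
  haveI : IsNoetherianRing F := isNoetherianRing_fibre hk
  have hbot : maximalIdeal F = ⊥ := by
    rw [← maximalIdeal_fibre hk, eq_bot_iff, Ideal.map_le_iff_le_comap]
    intro b hb
    rw [← hm, ← ker_includeRight (k := k) hk] at hb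
    exact hb
  let ρ : F →ₐ[k] K := Algebra.TensorProduct.lift (Algebra.ofId k K) (IsScalarTower.toAlgHom A B K) fun _ _ => Commute.all _ _
  have hρ : Function.Bijective ρ := by
    refine ⟨(injective_iff_map_eq_zero ρ).mpr fun z hz => ?_, fun y => ?_⟩
    · have h1 : z ∈ maximalIdeal F := IsLocalRing.le_maximalIdeal (RingHom.ker_ne_top ρ.toRingHom) hz
      rwa [hbot, Ideal.mem_bot] at h1
    · obtain ⟨b, rfl⟩ := residue_surjective y
      exact ⟨1 ⊗ₜ b, by rw [Algebra.TensorProduct.lift_tmul, map_one, one_mul]; rfl⟩
  haveI : IsRegularLocalRing F := IsRegularLocalRing.of_spanFinrank_maximalIdeal_le F (by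
    rw [hbot, Submodule.spanFinrank_bot]
    exact ringKrullDim_nonneg_of_nontrivial)
  let r : F →ₐ[k] ResidueField F := IsScalarTower.toAlgHom k F (ResidueField F)
  have hr : Function.Bijective r := by
    refine ⟨(injective_iff_map_eq_zero r).mpr fun z hz => ?_, residue_surjective⟩
    have h1 : z ∈ maximalIdeal F := (residue_eq_zero_iff z).mp hz
    rwa [hbot, Ideal.mem_bot] at h1
  haveI : Algebra.FormallySmooth k K := formallySmooth_of_geometricallyReduced k K
  haveI : Algebra.FormallySmooth k (ResidueField F) :=
    Algebra.FormallySmooth.of_equiv ((AlgEquiv.ofBijective ρ hρ).symm.trans (AlgEquiv.ofBijective r hr))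
  exact adicSmooth_of_flat_fibre hk adicSmooth_of_regular

end Groth.L06.FormSmooth
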