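import Groth.Agent.L06.FormSmoothAdic
import Mathlib.RingTheory.Flat.EquationalCriterion
import Mathlib.RingTheory.AdicCompletion.Functoriality
import Mathlib.RingTheory.Nakayama
import Mathlib.RingTheory.LocalRing.MaximalIdeal.Basic

/-! Isomorphisms mod `J` lift from formally smooth to flat algebras. -/

set_option autoImplicit false
set_option linter.style.haveILetI false
universe u

namespace Groth.L06.FormSmoothAdic

open IsLocalRing

theorem ker_inf_map_le {A B B' : Type u} [CommRing A] [CommRing B] [CommRing B'] [Algebra A B] [Algebra A B']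
    [Module.Flat A B'] (u : B →ₐ[A] B') (hu : Function.Surjective u) (J : Ideal A) :
    RingHom.ker u ⊓ J.map (algebraMap A B) ≤ J.map (algebraMap A B) * RingHom.ker u := by
  rintro x ⟨hxk, hxJ⟩
  obtain ⟨n, a, b, ha, rfl⟩ : ∃ (n : ℕ) (a : Fin n → A) (b : Fin n → B), (∀ i, a i ∈ J) ∧ x = ∑ i, a i • b i := by
    have hx : x ∈ J • (⊤ : Submodule A B) := by rw [Ideal.smul_top_eq_map]; exact hxJ
    clear hxk hxJ
    refine Submodule.smul_induction_on hx
      (fun r hr m _ => ⟨1, fun _ => r, fun _ => m, fun _ => hr, by simp⟩) fun x y hx hy => ?_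
    obtain ⟨n, a, b, ha, rfl⟩ := hx
    obtain ⟨m, c, d, hc, rfl⟩ := hy
    exact ⟨n + m, Fin.append a c, Fin.append b d, Fin.addCases (by simpa using ha) (by simpa using hc),
        by simp [Fin.sum_univ_add]⟩
  have h0 : ∑ i, a i • u (b i) = 0 := by simpa using (RingHom.mem_ker.mp hxk)
  obtain ⟨k, c, y, hy, hc⟩ := Module.Flat.isTrivialRelation_of_sum_smul_eq_zero (R := A) (M := B') h0
  choose z hz using fun j => hu (y j)
  have hmem : ∀ i, b i - ∑ j, c i j • z j ∈ RingHom.ker u := fun i => by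
    rw [RingHom.mem_ker, map_sub, map_sum, sub_eq_zero]
    simpa [hz] using hy i
  have hsum : ∑ i, a i • b i = ∑ i, algebraMap A B (a i) * (b i - ∑ j, c i j • z j) := by
    simp only [mul_sub, Finset.sum_sub_distrib, ← Algebra.smul_def]
    rw [eq_comm, sub_eq_self]
    simp only [Finset.smul_sum, smul_smul]
    rw [Finset.sum_comm]
    simp only [← Finset.sum_smul, hc, zero_smul, Finset.sum_const_zero]
  rw [hsum]
  exact Ideal.sum_mem _ fun i _ => Ideal.mul_mem_mul (Ideal.mem_map_of_mem _ (ha i)) (hmem i)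

theorem exists_algEquiv_of_equiv_mod {A B B' : Type u} [CommRing A] (J : Ideal A)
    [CommRing B] [IsNoetherianRing B] [IsLocalRing B] [Algebra A B] [CommRing B'] [Algebra A B']
    (hB : J.map (algebraMap A B) ≤ maximalIdeal B) [IsPrecomplete (J.map (algebraMap A B)) B]
    [IsAdicComplete (J.map (algebraMap A B')) B']
    (hfs : EGA41.IsFormallySmoothAdic A J B (J.map (algebraMap A B))) [Module.Flat A B']
    (u₀ : (B ⧸ J.map (algebraMap A B)) ≃ₐ[A] (B' ⧸ J.map (algebraMap A B'))) :
    ∃ u : B ≃ₐ[A] B', ∀ b : B,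
      Ideal.Quotient.mk (J.map (algebraMap A B')) (u b) = u₀ (Ideal.Quotient.mk (J.map (algebraMap A B)) b) := by
  let JB := J.map (algebraMap A B)
  let JB' := J.map (algebraMap A B')
  haveI : IsHausdorff (JB'.map (Ideal.Quotient.mk JB')) (B' ⧸ JB') := by
    rw [Ideal.map_quotient_self]; infer_instance
  let w : B →ₐ[A] B' ⧸ JB' := u₀.toAlgHom.comp (Ideal.Quotient.mkₐ A JB)
  obtain ⟨v, -, hv⟩ := exists_lift_complete (C := B') (𝔠 := JB') hfs ⟨1, by rw [pow_one]⟩ JB' ⟨1, by rw [pow_one]⟩ w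
    ⟨1, by
      rw [pow_one]
      refine Ideal.map_le_iff_le_comap.mpr fun x hx => ?_
      show u₀ (Ideal.Quotient.mk JB x) ∈ JB'.map (Ideal.Quotient.mk JB')
      rw [Ideal.Quotient.eq_zero_iff_mem.mpr hx, map_zero]
      exact Submodule.zero_mem (JB'.map (Ideal.Quotient.mk JB'))⟩
  have hv' : ∀ b, Ideal.Quotient.mk JB' (v b) = u₀ (Ideal.Quotient.mk JB b) := fun b => DFunLike.congr_fun hv b
  have hmap : JB.map v.toRingHom = JB' := by
    show (J.map (algebraMap A B)).map v.toRingHom = _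
    rw [Ideal.map_map, AlgHom.toRingHom_eq_coe, v.comp_algebraMap]
  haveI : IsHausdorff (JB.map v.toRingHom) B' := by rw [hmap]; infer_instance
  have hsurj : Function.Surjective v := surjective_of_mk_map_comp_surjective v.toRingHom (I := JB) (by
    intro z
    obtain ⟨z, rfl⟩ := Ideal.Quotient.mk_surjective z
    obtain ⟨b, hb⟩ := (u₀.surjective.comp Ideal.Quotient.mk_surjective) (Ideal.Quotient.mk JB' z)
    refine ⟨b, Ideal.Quotient.eq.mpr ?_⟩
    rw [hmap]
    exact Ideal.Quotient.eq.mp ((hv' b).trans hb))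
  have hK : RingHom.ker v ≤ JB * RingHom.ker v := fun x hx => ker_inf_map_le v hsurj J ⟨hx, by
    show x ∈ JB
    rw [← Ideal.Quotient.eq_zero_iff_mem]
    refine u₀.injective ?_
    rw [← hv', RingHom.mem_ker.mp hx, map_zero, map_zero]⟩
  have hbot : RingHom.ker v = ⊥ := Submodule.eq_bot_of_le_smul_of_le_jacobson_bot JB _ (IsNoetherian.noetherian _) hK
    (hB.trans (maximalIdeal_le_jacobson _))
  exact ⟨AlgEquiv.ofBijective v ⟨(RingHom.injective_iff_ker_eq_bot _).mpr hbot, hsurj⟩, hv'⟩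

end Groth.L06.FormSmoothAdic
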