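import Groth.Agent.L06.FormSmoothFlatLift
import Groth.Agent.L06.FormSmoothHom
import Groth.Agent.L06.FormSmoothIso
import Groth.Agent.L01.NagataComplete

/-! Flat complete lifts of formally smooth complete algebras over a quotient of the base. -/

set_option autoImplicit false
set_option maxSynthPendingDepth 3
set_option linter.style.haveILetI false
universe u

namespace Groth.L06.FormSmooth

open IsLocalRing
open scoped TensorProduct

theorem exists_surjective_lift {A B C : Type u} [CommRing A] [IsLocalRing A] [CommRing B] [IsLocalRing B]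
    [IsAdicComplete (maximalIdeal B) B] [CommRing C] [IsLocalRing C] [IsNoetherianRing C]
    [IsAdicComplete (maximalIdeal C) C] [Algebra A B] [IsLocalHom (algebraMap A B)] [Algebra A C]
    [IsLocalHom (algebraMap A C)] (hfs : CAlgX.IsAdicFormallySmooth A B (maximalIdeal B)) (J : Ideal A)
    (hJ : J ≤ maximalIdeal A) (u : B →ₐ[A] C ⧸ J.map (algebraMap A C)) (hu : Function.Surjective u) :
    ∃ v : B →ₐ[A] C, Function.Surjective v ∧ ∀ b, Ideal.Quotient.mk (J.map (algebraMap A C)) (v b) = u b := by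
  let 𝔟 := J.map (algebraMap A C)
  have hm : (maximalIdeal A).map (algebraMap A C) ≤ maximalIdeal C := IsLocalRing.map_maximalIdeal_le _
  have h𝔟 : 𝔟 ≤ maximalIdeal C := (Ideal.map_mono hJ).trans hm
  haveI : Nontrivial (C ⧸ 𝔟) := Ideal.Quotient.nontrivial_iff.mpr
    (ne_top_of_le_ne_top (maximalIdeal.isMaximal C).ne_top h𝔟)
  haveI : IsLocalRing (C ⧸ 𝔟) := IsLocalRing.of_surjective' _ Ideal.Quotient.mk_surjective
  have hq : (maximalIdeal C).map (Ideal.Quotient.mk 𝔟) = maximalIdeal (C ⧸ 𝔟) :=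
    IsLocalRing.map_maximalIdeal_of_surjective _ Ideal.Quotient.mk_surjective
  haveI : IsHausdorff ((maximalIdeal C).map (Ideal.Quotient.mk 𝔟)) (C ⧸ 𝔟) := by rw [hq]; infer_instance
  have huq : (maximalIdeal B).map u.toRingHom = (maximalIdeal C).map (Ideal.Quotient.mk 𝔟) :=
    (IsLocalRing.map_maximalIdeal_of_surjective _ hu).trans hq.symm
  obtain ⟨v, -, hv⟩ := Groth.L06.FormSmoothAdic.exists_lift_complete (C := C) (𝔠 := maximalIdeal C)
    (adicSmooth_two_sided_iff.mpr hfs) ⟨1, by rw [pow_one]; exact hm⟩ 𝔟 ⟨1, by rw [pow_one]; exact h𝔟⟩ u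
    ⟨1, by rw [pow_one]; exact huq.le⟩
  have hv' : ∀ b, Ideal.Quotient.mk 𝔟 (v b) = u b := fun b => DFunLike.congr_fun hv b
  refine ⟨v, ?_, hv'⟩
  have h𝔟v : 𝔟 ≤ (maximalIdeal B).map v.toRingHom := by
    refine (Ideal.map_mono hJ).trans ?_
    rw [show algebraMap A C = v.toRingHom.comp (algebraMap A B) from v.comp_algebraMap.symm, ← Ideal.map_map]
    exact Ideal.map_mono (IsLocalRing.map_maximalIdeal_le _)
  have hmax : (maximalIdeal B).map v.toRingHom = maximalIdeal C := by
    have h1 : ((maximalIdeal B).map v.toRingHom).map (Ideal.Quotient.mk 𝔟) = (maximalIdeal C).map (Ideal.Quotient.mk 𝔟) := by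
      rw [Ideal.map_map, ← huq]
      congr 1
      exact RingHom.ext hv'
    have h2 := congrArg (Ideal.comap (Ideal.Quotient.mk 𝔟)) h1
    rw [Ideal.comap_map_of_surjective _ Ideal.Quotient.mk_surjective, Ideal.comap_map_of_surjective _ Ideal.Quotient.mk_surjective,
      ← RingHom.ker_eq_comap_bot, Ideal.mk_ker, sup_eq_left.mpr h𝔟v, sup_eq_left.mpr h𝔟] at h2
    exact h2
  haveI : IsHausdorff ((maximalIdeal B).map v.toRingHom) C := by rw [hmax]; infer_instance
  refine surjective_of_mk_map_comp_surjective v.toRingHom (I := maximalIdeal B) fun z => ?_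
  obtain ⟨c, rfl⟩ := Ideal.Quotient.mk_surjective z
  obtain ⟨b, hb⟩ := hu (Ideal.Quotient.mk 𝔟 c)
  exact ⟨b, Ideal.Quotient.eq.mpr (h𝔟v (Ideal.Quotient.eq.mp ((hv' b).trans hb)))⟩

theorem ker_eq_bot_of_flat {A B C : Type u} [CommRing A] [CommRing B] [IsNoetherianRing B] [IsLocalRing B]
    [CommRing C] [Algebra A B] [Algebra A C] [Module.Flat A C] (J : Ideal A) (u : B →ₐ[A] C)
    (hu : Function.Surjective u) (hJ : J.map (algebraMap A B) ≤ maximalIdeal B)
    (h : RingHom.ker u ≤ J.map (algebraMap A B)) : RingHom.ker u = ⊥ :=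
  Submodule.eq_bot_of_le_smul_of_le_jacobson_bot _ _ (IsNoetherian.noetherian _)
    (fun _ hx => Groth.L06.FormSmoothAdic.ker_inf_map_le u hu J ⟨hx, h hx⟩) (hJ.trans (maximalIdeal_le_jacobson _))

theorem adicSmooth_of_fibre {A B R B₀ k : Type u} [CommRing A] [IsLocalRing A] [IsNoetherianRing A] [CommRing B]
    [IsLocalRing B] [IsNoetherianRing B] [Algebra A B] [IsLocalHom (algebraMap A B)] [Module.Flat A B] [Field k]
    [Algebra A k] (hk : Function.Surjective (algebraMap A k)) [CommRing R] [CommRing B₀] [Algebra R k] [Algebra R B₀]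
    (hgeo : CAlg.IsGeometricallyRegular k (k ⊗[R] B₀)) (π : B →+* k ⊗[R] B₀) (hπ : Function.Surjective π)
    (hc : ∀ a, π (algebraMap A B a) = algebraMap k (k ⊗[R] B₀) (algebraMap A k a))
    (hker : RingHom.ker π = (maximalIdeal A).map (algebraMap A B)) :
    CAlgX.IsAdicFormallySmooth A B (maximalIdeal B) := by
  obtain ⟨e, -⟩ := exists_fibreEquiv hk π hπ hc hker
  exact (adicSmooth_iff_flat_geomRegular hk).mpr ⟨inferInstance, geomRegular_congr e.symm hgeo⟩

end Groth.L06.FormSmooth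

namespace Groth.L06.FormSmooth

open IsLocalRing
open scoped TensorProduct

theorem ker_includeRight_quot {A B : Type u} [CommRing A] [CommRing B] [Algebra A B] (J : Ideal A) :
    RingHom.ker (Algebra.TensorProduct.includeRight : B →ₐ[A] (A ⧸ J) ⊗[A] B) = J.map (algebraMap A B) := by
  ext b
  rw [RingHom.mem_ker, Algebra.TensorProduct.includeRight_apply, ← Algebra.TensorProduct.quotIdealMapEquivQuotTensor_mk,
    map_eq_zero_iff _ (AlgEquiv.injective _), Ideal.Quotient.eq_zero_iff_mem]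

theorem includeRight_quot_surjective {A B : Type u} [CommRing A] [CommRing B] [Algebra A B] (J : Ideal A) :
    Function.Surjective (Algebra.TensorProduct.includeRight : B →ₐ[A] (A ⧸ J) ⊗[A] B) := fun z => by
  obtain ⟨y, rfl⟩ := (Algebra.TensorProduct.quotIdealMapEquivQuotTensor B J).surjective z
  obtain ⟨b, rfl⟩ := Ideal.Quotient.mk_surjective y
  exact ⟨b, (Algebra.TensorProduct.quotIdealMapEquivQuotTensor_mk B J b).symm⟩

variable {A : Type u} [CommRing A] [IsLocalRing A] [IsNoetherianRing A] (J : Ideal A) [IsLocalRing (A ⧸ J)]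
  {B₀ : Type u} [CommRing B₀] [IsLocalRing B₀] [IsNoetherianRing B₀] [Algebra (A ⧸ J) B₀]
  [IsLocalHom (algebraMap (A ⧸ J) B₀)]

set_option maxHeartbeats 800000 in
theorem exists_flat_lift_quotient [IsAdicComplete (maximalIdeal B₀) B₀] (hJ : J ≤ maximalIdeal A)
    (hfs : EGA41.IsFormallySmoothAdic (A ⧸ J) (maximalIdeal (A ⧸ J)) B₀ (maximalIdeal B₀)) :
    ∃ (B : Type u) (_ : CommRing B) (_ : IsLocalRing B) (_ : IsNoetherianRing B) (_ : Algebra A B)
      (_ : IsLocalHom (algebraMap A B)), IsAdicComplete (maximalIdeal B) B ∧ Module.Flat A B ∧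
        CAlgX.IsAdicFormallySmooth A B (maximalIdeal B) ∧ Nonempty ((A ⧸ J) ⊗[A] B ≃ₐ[A ⧸ J] B₀) := by
  let R := A ⧸ J
  let k := ResidueField A
  letI : Algebra R k := (Ideal.Quotient.factor hJ).toAlgebra
  have hkR : Function.Surjective (algebraMap R k) := Ideal.Quotient.factor_surjective hJ
  obtain ⟨hflat, hgeo⟩ := (adicSmooth_iff_flat_geomRegular hkR).mp (adicSmooth_two_sided_iff.mp hfs)
  haveI := hflat
  let 𝔪₀ : Ideal B₀ := (maximalIdeal R).map (algebraMap R B₀)
  have h𝔪₀ : 𝔪₀ ≤ maximalIdeal B₀ := IsLocalRing.map_maximalIdeal_le _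
  haveI : Nontrivial (B₀ ⧸ 𝔪₀) := Ideal.Quotient.nontrivial_iff.mpr
    (ne_top_of_le_ne_top (maximalIdeal.isMaximal B₀).ne_top h𝔪₀)
  haveI : IsLocalRing (B₀ ⧸ 𝔪₀) := IsLocalRing.of_surjective' _ Ideal.Quotient.mk_surjective
  haveI := Groth.L01.NagataComplete.isAdicComplete_quotient 𝔪₀
  let qe : (B₀ ⧸ 𝔪₀) ≃+* k ⊗[R] B₀ := (Ideal.quotEquivOfEq (ker_includeRight (k := k) hkR).symm).trans
    (RingHom.quotientKerEquivOfSurjective (includeRight_surjective B₀ hkR))
  haveI : IsRegularRing (k ⊗[k] (k ⊗[R] B₀)) := hgeo k inferInstance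
  haveI : IsRegularRing (k ⊗[R] B₀) := IsRegularRing.of_ringEquiv (Algebra.TensorProduct.lid k (k ⊗[R] B₀)).toRingEquiv
  haveI : IsRegularRing (B₀ ⧸ 𝔪₀) := IsRegularRing.of_ringEquiv qe.symm
  haveI : IsRegularLocalRing (B₀ ⧸ 𝔪₀) := IsRegularLocalRing.of_isRegularRing_of_isLocalRing _
  letI : Algebra A B₀ := ((algebraMap R B₀).comp (Ideal.Quotient.mk J)).toAlgebra
  haveI : IsScalarTower A R B₀ := IsScalarTower.of_algebraMap_eq' rfl
  have hmA : (maximalIdeal A).map (algebraMap A B₀) = 𝔪₀ := by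
    show (maximalIdeal A).map ((algebraMap R B₀).comp (Ideal.Quotient.mk J)) = 𝔪₀
    rw [← Ideal.map_map, IsLocalRing.map_maximalIdeal_of_surjective _ Ideal.Quotient.mk_surjective]
  haveI : IsLocalHom (algebraMap A B₀) :=
    ((IsLocalRing.local_hom_TFAE (algebraMap A B₀)).out 0 2).mpr (hmA ▸ h𝔪₀)
  obtain ⟨B, _, _, _, _, _, π, hc, hflatB, hπ, hcomm, hker⟩ := exists_flat_lift
    ((Ideal.Quotient.mk 𝔪₀).comp (algebraMap A B₀)) (by rw [← Ideal.map_map, hmA, Ideal.map_quotient_self])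
  haveI := hc
  haveI := hflatB
  have hfsB : CAlgX.IsAdicFormallySmooth A B (maximalIdeal B) := by
    refine adicSmooth_of_fibre (k := k) IsLocalRing.residue_surjective hgeo (qe.toRingHom.comp π)
      (qe.surjective.comp hπ) (fun a => ?_) ?_
    · show qe (π _) = _
      rw [hcomm]
      show (1 : k) ⊗ₜ[R] algebraMap R B₀ (Ideal.Quotient.mk J a) = (residue A a) ⊗ₜ[R] (1 : B₀)
      rw [← Algebra.TensorProduct.tmul_one_eq_one_tmul]
      rfl
    · rw [← hker]
      exact RingHom.ker_comp_of_injective π qe.injective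
  let πA : B →ₐ[A] B₀ ⧸ (maximalIdeal A).map (algebraMap A B₀) :=
    (Ideal.quotientEquivAlgOfEq A hmA.symm).toAlgHom.comp (AlgHom.mk π hcomm)
  obtain ⟨v, hv, hv'⟩ := exists_surjective_lift hfsB (maximalIdeal A) le_rfl πA
    ((Ideal.quotientEquivAlgOfEq A hmA.symm).surjective.comp hπ)
  refine ⟨B, inferInstance, inferInstance, inferInstance, inferInstance, inferInstance, hc, hflatB, hfsB, ?_⟩
  let JB := J.map (algebraMap A B)
  have hJB : JB ≤ maximalIdeal B := (Ideal.map_mono hJ).trans (IsLocalRing.map_maximalIdeal_le _)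
  haveI : Nontrivial (B ⧸ JB) := Ideal.Quotient.nontrivial_iff.mpr
    (ne_top_of_le_ne_top (maximalIdeal.isMaximal B).ne_top hJB)
  haveI : IsLocalRing (B ⧸ JB) := IsLocalRing.of_surjective' _ Ideal.Quotient.mk_surjective
  have hJv : ∀ x ∈ JB, v x = 0 := fun x hx => by
    refine (Ideal.map_le_iff_le_comap.mpr fun a ha => ?_ : JB ≤ RingHom.ker v) hx
    show v (algebraMap A B a) = 0
    rw [AlgHom.commutes, IsScalarTower.algebraMap_apply A R B₀,
      show algebraMap A R a = 0 from Ideal.Quotient.eq_zero_iff_mem.mpr ha, map_zero]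
  let vb : B ⧸ JB →ₐ[R] B₀ := AlgHom.extendScalarsOfSurjective Ideal.Quotient.mk_surjective (Ideal.Quotient.liftₐ JB v hJv)
  have hvb : ∀ b, vb (Ideal.Quotient.mk JB b) = v b := fun b => rfl
  have hvbs : Function.Surjective vb := fun y => by
    obtain ⟨b, rfl⟩ := hv y
    exact ⟨_, hvb b⟩
  have hinj : RingHom.ker vb = ⊥ := by
    refine ker_eq_bot_of_flat (maximalIdeal R) vb hvbs ?_ fun x hx => ?_
    · refine IsLocalRing.le_maximalIdeal fun h => ?_
      have h1 := congrArg (Ideal.map vb.toRingHom) h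
      rw [Ideal.map_map, AlgHom.toRingHom_eq_coe, vb.comp_algebraMap, Ideal.map_top] at h1
      exact (maximalIdeal.isMaximal B₀).ne_top (top_le_iff.mp (h1.ge.trans h𝔪₀))
    · obtain ⟨b, rfl⟩ := Ideal.Quotient.mk_surjective x
      have h1 : π b = 0 := by
        refine (Ideal.quotientEquivAlgOfEq A hmA.symm).injective (((hv' b).symm.trans ?_).trans (map_zero _).symm)
        rw [show v b = 0 from hx, map_zero]
      rw [← RingHom.mem_ker, hker] at h1
      rw [← IsLocalRing.map_maximalIdeal_of_surjective (Ideal.Quotient.mk J) Ideal.Quotient.mk_surjective, Ideal.map_map,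
        show (algebraMap R (B ⧸ JB)).comp (Ideal.Quotient.mk J) = (Ideal.Quotient.mk JB).comp (algebraMap A B) from rfl,
        ← Ideal.map_map]
      exact Ideal.mem_map_of_mem _ h1
  exact ⟨(Algebra.TensorProduct.quotIdealMapEquivQuotTensor B J).symm.trans
    (AlgEquiv.ofBijective vb ⟨(RingHom.injective_iff_ker_eq_bot _).mpr hinj, hvbs⟩)⟩

set_option maxHeartbeats 800000 in
theorem exists_algEquiv_of_flat_lifts (hJ : J ≤ maximalIdeal A)
    (hfs : EGA41.IsFormallySmoothAdic (A ⧸ J) (maximalIdeal (A ⧸ J)) B₀ (maximalIdeal B₀))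
    {B B' : Type u} [CommRing B] [IsLocalRing B] [IsNoetherianRing B] [Algebra A B] [IsLocalHom (algebraMap A B)]
    [IsAdicComplete (maximalIdeal B) B] [Module.Flat A B]
    [CommRing B'] [IsLocalRing B'] [IsNoetherianRing B'] [Algebra A B'] [IsLocalHom (algebraMap A B')]
    [IsAdicComplete (maximalIdeal B') B'] [Module.Flat A B']
    (u : (A ⧸ J) ⊗[A] B ≃ₐ[A ⧸ J] B₀) (u' : (A ⧸ J) ⊗[A] B' ≃ₐ[A ⧸ J] B₀) :
    ∃ v : B ≃ₐ[A] B', (u' : (A ⧸ J) ⊗[A] B' →ₐ[A ⧸ J] B₀).comp
        (Algebra.TensorProduct.map (AlgHom.id (A ⧸ J) (A ⧸ J)) (v : B →ₐ[A] B')) = (u : (A ⧸ J) ⊗[A] B →ₐ[A ⧸ J] B₀) := by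
  let R := A ⧸ J
  let k := ResidueField A
  letI : Algebra R k := (Ideal.Quotient.factor hJ).toAlgebra
  have hkR : Function.Surjective (algebraMap R k) := Ideal.Quotient.factor_surjective hJ
  obtain ⟨hflat, hgeo⟩ := (adicSmooth_iff_flat_geomRegular hkR).mp (adicSmooth_two_sided_iff.mp hfs)
  letI : Algebra A B₀ := ((algebraMap R B₀).comp (Ideal.Quotient.mk J)).toAlgebra
  haveI : IsScalarTower A R B₀ := IsScalarTower.of_algebraMap_eq' rfl
  let JB := J.map (algebraMap A B)
  let mB := (maximalIdeal A).map (algebraMap A B)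
  let πu : B →ₐ[A] B₀ := (u.toAlgHom.restrictScalars A).comp Algebra.TensorProduct.includeRight
  have hπu : Function.Surjective πu := u.surjective.comp (includeRight_quot_surjective J)
  have hkerπu : RingHom.ker πu = JB := (RingHom.ker_comp_of_injective (Algebra.TensorProduct.includeRight : B →ₐ[A] R ⊗[A] B).toRingHom
    u.injective).trans (ker_includeRight_quot J)
  have hfsB : CAlgX.IsAdicFormallySmooth A B (maximalIdeal B) := by
    refine adicSmooth_of_fibre (k := k) IsLocalRing.residue_surjective hgeo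
      ((Algebra.TensorProduct.includeRight : B₀ →ₐ[R] k ⊗[R] B₀).toRingHom.comp πu.toRingHom)
      ((includeRight_surjective B₀ hkR).comp hπu) (fun a => ?_) ?_
    · show (1 : k) ⊗ₜ[R] πu (algebraMap A B a) = (residue A a) ⊗ₜ[R] (1 : B₀)
      rw [AlgHom.commutes]
      show (1 : k) ⊗ₜ[R] algebraMap R B₀ (Ideal.Quotient.mk J a) = _
      rw [← Algebra.TensorProduct.tmul_one_eq_one_tmul]
      rfl
    · rw [← RingHom.comap_ker, ker_includeRight hkR,
        show (maximalIdeal R).map (algebraMap R B₀) = mB.map πu.toRingHom by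
          rw [Ideal.map_map, AlgHom.toRingHom_eq_coe, πu.comp_algebraMap, IsScalarTower.algebraMap_eq A R B₀,
            ← Ideal.map_map, show (maximalIdeal A).map (algebraMap A R) = maximalIdeal R from
              IsLocalRing.map_maximalIdeal_of_surjective _ Ideal.Quotient.mk_surjective],
        Ideal.comap_map_of_surjective πu.toRingHom hπu mB, ← RingHom.ker_eq_comap_bot]
      exact sup_eq_left.mpr (hkerπu.le.trans (Ideal.map_mono hJ))
  let eq' := Algebra.TensorProduct.quotIdealMapEquivQuotTensor B' J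
  let w : B →ₐ[A] B' ⧸ J.map (algebraMap A B') :=
    (eq'.symm.toAlgHom.restrictScalars A).comp ((u'.symm.toAlgHom.restrictScalars A).comp πu)
  obtain ⟨v, hv, hv'⟩ := exists_surjective_lift hfsB J hJ w (eq'.symm.surjective.comp (u'.symm.surjective.comp hπu))
  have hcompat : ∀ b, u' ((1 : R) ⊗ₜ[A] v b) = πu b := fun b => by
    rw [show (1 : R) ⊗ₜ[A] v b = eq' (Ideal.Quotient.mk _ (v b)) from
      (Algebra.TensorProduct.quotIdealMapEquivQuotTensor_mk B' J (v b)).symm, hv']
    show u' (eq' (eq'.symm (u'.symm (πu b)))) = πu b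
    rw [AlgEquiv.apply_symm_apply, AlgEquiv.apply_symm_apply]
  have hinj : RingHom.ker v = ⊥ := by
    refine ker_eq_bot_of_flat J v hv ((Ideal.map_mono hJ).trans (IsLocalRing.map_maximalIdeal_le _)) fun x hx => ?_
    show x ∈ JB
    rw [← hkerπu, RingHom.mem_ker, ← hcompat, RingHom.mem_ker.mp hx, TensorProduct.tmul_zero, map_zero]
  refine ⟨AlgEquiv.ofBijective v ⟨(RingHom.injective_iff_ker_eq_bot _).mpr hinj, hv⟩, AlgHom.ext fun z => ?_⟩
  obtain ⟨b, rfl⟩ := includeRight_quot_surjective J z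
  exact hcompat b

end Groth.L06.FormSmooth
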