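import Groth.Agent.L06.FormSmoothAdic
import Mathlib.Algebra.TrivSqZeroExt.Basic
import Mathlib.RingTheory.Derivation.Basic
import Mathlib.RingTheory.LocalRing.RingHom.Basic
import Mathlib.RingTheory.Filtration

/-! Extending derivations along formally smooth maps to complete rings. -/

set_option autoImplicit false
set_option maxSynthPendingDepth 3
set_option linter.style.haveILetI false
universe u

namespace Groth.L06.FormSmoothAdic

theorem mem_inl_map_iff {B : Type u} [CommRing B] (I : Ideal B) (z : TrivSqZeroExt B B) :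
    z ∈ I.map (TrivSqZeroExt.inlHom B B) ↔ z.fst ∈ I ∧ z.snd ∈ I := by
  constructor
  · intro hz
    induction hz using Submodule.span_induction with
    | mem x hx => obtain ⟨b, hb, rfl⟩ := hx; exact ⟨by simpa using hb, by simp⟩
    | zero => exact ⟨I.zero_mem, I.zero_mem⟩
    | add x y _ _ hx hy => exact ⟨by simpa using add_mem hx.1 hy.1, by simpa using add_mem hx.2 hy.2⟩
    | smul r x _ hx =>
      rw [smul_eq_mul]
      refine ⟨by simpa using I.mul_mem_left r.fst hx.1, ?_⟩
      rw [TrivSqZeroExt.snd_mul, op_smul_eq_smul, smul_eq_mul, smul_eq_mul]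
      exact add_mem (I.mul_mem_left _ hx.2) (I.mul_mem_right _ hx.1)
  · rintro ⟨h1, h2⟩
    rw [← TrivSqZeroExt.inl_fst_add_inr_snd_eq z]
    refine add_mem (Ideal.mem_map_of_mem _ h1) ?_
    rw [show (TrivSqZeroExt.inr z.snd : TrivSqZeroExt B B) = TrivSqZeroExt.inlHom B B z.snd * TrivSqZeroExt.inr 1 by
      ext <;> simp]
    exact Ideal.mul_mem_right _ _ (Ideal.mem_map_of_mem _ h2)

theorem isAdicComplete_tsze {B : Type u} [CommRing B] (I : Ideal B) [h : IsAdicComplete I B] :
    IsAdicComplete (I.map (TrivSqZeroExt.inlHom B B)) (TrivSqZeroExt B B) := by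
  have key : ∀ (n : ℕ) (x y : TrivSqZeroExt B B),
      (x ≡ y [SMOD ((I.map (TrivSqZeroExt.inlHom B B)) ^ n • ⊤ : Ideal (TrivSqZeroExt B B))]) ↔
        x.fst - y.fst ∈ I ^ n ∧ x.snd - y.snd ∈ I ^ n := fun n x y => by
    rw [SModEq.sub_mem, smul_eq_mul, Ideal.mul_top, ← Ideal.map_pow, mem_inl_map_iff]
    simp
  refine { haus' := fun x hx => ?_, prec' := fun f hf => ?_ }
  · refine TrivSqZeroExt.ext (h.haus _ fun n => ?_) (h.haus _ fun n => ?_) <;> rw [SModEq.sub_mem, smul_eq_mul, Ideal.mul_top]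
    · exact ((key n x 0).mp (hx n)).1
    · exact ((key n x 0).mp (hx n)).2
  · obtain ⟨L1, hL1⟩ := h.prec' (fun n => (f n).fst) (fun {m n} hmn => by
      rw [SModEq.sub_mem, smul_eq_mul, Ideal.mul_top]
      exact ((key m _ _).mp (hf hmn)).1)
    obtain ⟨L2, hL2⟩ := h.prec' (fun n => (f n).snd) (fun {m n} hmn => by
      rw [SModEq.sub_mem, smul_eq_mul, Ideal.mul_top]
      exact ((key m _ _).mp (hf hmn)).2)
    refine ⟨TrivSqZeroExt.inl L1 + TrivSqZeroExt.inr L2, fun n => (key n _ _).mpr ?_⟩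
    have h1 := hL1 n
    have h2 := hL2 n
    rw [SModEq.sub_mem, smul_eq_mul, Ideal.mul_top] at h1 h2
    simpa using And.intro h1 h2

open IsLocalRing in
theorem exists_der_extension {A B : Type u} [CommRing A] [CommRing B] [IsLocalRing A] [IsLocalRing B] [IsNoetherianRing B]
    [Algebra A B] [IsLocalHom (algebraMap A B)] [IsAdicComplete (maximalIdeal B) B]
    (hfs : CAlgX.IsAdicFormallySmooth A B (maximalIdeal B)) {i : Algebra ℤ A} {M : Module ℤ A}
    (D : @Derivation ℤ A A _ _ _ i _ M) :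
    ∃ D' : B →+ B, (∀ x y, D' (x * y) = x • D' y + y • D' x) ∧ ∀ a : A, D' (algebraMap A B a) = algebraMap A B (D a) := by
  let f : A →+* TrivSqZeroExt B B :=
    { toFun := fun a => TrivSqZeroExt.inl (algebraMap A B a) + TrivSqZeroExt.inr (algebraMap A B (D a))
      map_one' := by ext <;> simp [D.map_one_eq_zero]
      map_mul' := fun x y => by ext <;> simp [D.leibniz] ; ring
      map_zero' := by ext <;> simp
      map_add' := fun x y => by ext <;> simp }
  letI : Algebra A (TrivSqZeroExt B B) := f.toAlgebra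
  let q : TrivSqZeroExt B B →+* B := (TrivSqZeroExt.fstHom B B B).toRingHom
  let J : Ideal (TrivSqZeroExt B B) := RingHom.ker q
  let 𝔠 := (maximalIdeal B).map (TrivSqZeroExt.inlHom B B)
  haveI := isAdicComplete_tsze (maximalIdeal B)
  have hq : Function.Surjective q := fun b => ⟨TrivSqZeroExt.inl b, rfl⟩
  let e : (TrivSqZeroExt B B ⧸ J) ≃+* B := RingHom.quotientKerEquivOfSurjective hq
  have hc : (𝔠.map (Ideal.Quotient.mk J)) = (maximalIdeal B).map e.symm.toRingHom := by
    rw [Ideal.map_map]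
    congr 1
    exact RingHom.ext fun b => e.injective ((RingEquiv.apply_symm_apply e b).trans rfl).symm
  haveI : IsHausdorff (𝔠.map (Ideal.Quotient.mk J)) (TrivSqZeroExt B B ⧸ J) := ⟨fun x hx => e.injective (by
    rw [map_zero]
    refine IsHausdorff.haus (I := maximalIdeal B) inferInstance _ fun n => ?_
    have h1 := SModEq.sub_mem.mp (hx n)
    rw [sub_zero, smul_eq_mul, Ideal.mul_top, hc, ← Ideal.map_pow] at h1
    obtain ⟨y, hy, hye⟩ := (Ideal.mem_map_iff_of_surjective e.symm.toRingHom e.symm.surjective).mp h1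
    rw [SModEq.sub_mem, sub_zero, smul_eq_mul, Ideal.mul_top, ← hye]
    show e (e.symm y) ∈ _
    rw [e.apply_symm_apply]
    exact hy)⟩
  let u : B →ₐ[A] TrivSqZeroExt B B ⧸ J := AlgHom.mk e.symm.toRingHom fun a => e.injective (by
    show e (e.symm (algebraMap A B a)) = e (Ideal.Quotient.mk J (f a))
    rw [e.apply_symm_apply]
    show algebraMap A B a = q (f a)
    simp [q, f])
  have hB : EGA41.IsFormallySmoothAdic A (maximalIdeal A) B (maximalIdeal B) :=
    of_sqZero fun C _ _ J' hJ' _ w hw => hfs C J' hJ' w hw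
  obtain ⟨v, -, hv⟩ := exists_lift_complete hB (C := TrivSqZeroExt B B) (𝔠 := 𝔠)
    ⟨2, Ideal.map_le_iff_le_comap.mpr fun a ha => by
      show f a ∈ 𝔠
      rw [mem_inl_map_iff]
      have hAB : ∀ x ∈ maximalIdeal A, algebraMap A B x ∈ maximalIdeal B := fun x hx =>
        IsLocalRing.map_maximalIdeal_le _ (Ideal.mem_map_of_mem _ hx)
      refine ⟨by simpa [f] using hAB a (Ideal.pow_le_self two_ne_zero ha), ?_⟩
      suffices h : algebraMap A B (D a) ∈ maximalIdeal B by simpa [f] using h
      rw [pow_two] at ha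
      refine Submodule.mul_induction_on ha (fun x hx y hy => ?_) (fun x y hx hy => by rw [map_add, map_add]; exact add_mem hx hy)
      rw [D.leibniz, map_add, smul_eq_mul, smul_eq_mul, map_mul, map_mul]
      exact add_mem (Ideal.mul_mem_right _ _ (hAB x hx)) (Ideal.mul_mem_right _ _ (hAB y hy))⟩
    J ⟨2, by
      rw [pow_two, Ideal.mul_le]
      intro x hx y hy
      replace hx : x.fst = 0 := hx
      replace hy : y.fst = 0 := hy
      rw [mem_inl_map_iff]
      exact ⟨by simp [hx], by simp [hx, hy]⟩⟩ u ⟨1, by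
      rw [hc, pow_one]⟩
  have hfst : ∀ b, (v b).fst = b := fun b => by
    have h1 := congrArg e (show Ideal.Quotient.mk J (v b) = e.symm b from DFunLike.congr_fun hv b)
    rw [e.apply_symm_apply] at h1
    exact h1
  let D0 : B →+ B := AddMonoidHom.mk' (fun b => (v b).snd) fun x y => by simp
  refine ⟨D0, fun x y => ?_, fun a => ?_⟩
  · show (v (x * y)).snd = x • (v y).snd + y • (v x).snd
    rw [map_mul, TrivSqZeroExt.snd_mul, hfst, hfst, op_smul_eq_smul]
  · show (v (algebraMap A B a)).snd = _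
    rw [v.commutes]
    show (f a).snd = _
    simp [f]

end Groth.L06.FormSmoothAdic
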