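import Groth.Agent.L06.GenericFibre
import Groth.Agent.L06.CompleteGRing
import Groth.Agent.L06.FiniteDomains
import Groth.Agent.L06.FormSmoothLiftQuot
import Groth.Agent.L06.FormSmoothEFT
import Groth.Agent.L06.GeomLocalApp
import Groth.Agent.L06.FormalFibres
import Groth.Agent.L05.Hensel.IntegralDomain
import Groth.Agent.L05.Henselization.BaseChange
import Groth.Agent.L12.PSRing
import Groth.Agent.S5784
import Groth.Agent.S9258
import Groth.Agent.S9405

/-!
# Formally smooth maps of complete Noetherian local rings are regular (André)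
-/

set_option autoImplicit false
set_option maxSynthPendingDepth 3
set_option linter.style.haveILetI false
universe u

namespace Groth.L06.AndreRegular

open IsLocalRing PropLoc Groth.L06.FormSmooth
open scoped TensorProduct

/-- A local finite algebra over a complete Noetherian local ring is complete. -/
theorem finite_local (A D : Type u) [CommRing A] [IsLocalRing A] [IsNoetherianRing A]
    [IsAdicComplete (maximalIdeal A) A] [CommRing D] [Algebra A D] [Module.Finite A D] [IsLocalRing D] :
    IsNoetherianRing D ∧ IsAdicComplete (maximalIdeal D) D ∧ IsLocalHom (algebraMap A D) := by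
  haveI hN : IsNoetherianRing D := IsNoetherianRing.of_finite A D
  haveI : Algebra.IsIntegral A D := Algebra.IsIntegral.of_finite A D
  have hcomap := IsLocalRing.eq_maximalIdeal
    (Ideal.isMaximal_comap_of_isIntegral_of_isMaximal (R := A) (maximalIdeal D))
  have hle : (maximalIdeal A).map (algebraMap A D) ≤ maximalIdeal D := Ideal.map_le_iff_le_comap.mpr hcomap.ge
  haveI hloc : IsLocalHom (algebraMap A D) := ((IsLocalRing.local_hom_TFAE (algebraMap A D)).out 0 2 rfl rfl).mpr hle
  haveI : IsAdicComplete (maximalIdeal A) D := Groth.Agent.S9405.isAdicComplete_of_finite _ D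
  haveI : IsAdicComplete ((maximalIdeal A).map (algebraMap A D)) D :=
    (IsAdicComplete.map_algebraMap_iff _ _).mpr inferInstance
  obtain ⟨N, hN'⟩ := Ideal.exists_pow_le_of_le_radical_of_fg
    (Groth.L05.Henselization.le_radical_map_maximalIdeal A D) (IsNoetherian.noetherian _)
  exact ⟨hN, Groth.Agent.S9405.isAdicComplete_of_pow_le hle hN', hloc⟩

/-- A complete local domain is finite over a complete regular local domain with the same residue field and
enough derivations. -/
theorem exists_base (R : Type u) [CommRing R] [IsDomain R] [IsLocalRing R] [IsNoetherianRing R]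
    [IsAdicComplete (maximalIdeal R) R] :
    ∃ (T : Type u) (_ : CommRing T) (_ : IsDomain T) (_ : IsRegularLocalRing T) (f : T →+* R),
      IsAdicComplete (maximalIdeal T) T ∧ Function.Injective f ∧ f.Finite ∧
        Function.Surjective ((residue R).comp f) ∧
        ∀ (p : ℕ) [Fact p.Prime] [CharP T p], GenericFibre.DerSep T p := by
  obtain ⟨Λ, _, n, f, hΛ, hinj, hfin, hsurj⟩ := Groth.Agent.S0581.result R
  rcases hΛ with hk | hC
  · letI := hk.toField
    haveI : IsDomain (MvPowerSeries (Fin n) Λ) := NoZeroDivisors.to_isDomain _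
    haveI : IsAdicComplete (maximalIdeal Λ) Λ := by
      rw [IsLocalRing.maximalIdeal_eq_bot]
      infer_instance
    haveI : IsRegularRing (MvPowerSeries (Fin n) Λ) := Groth.Agent.S5784.result Λ n
    haveI : IsRegularLocalRing (MvPowerSeries (Fin n) Λ) := IsRegularLocalRing.of_isRegularRing_of_isLocalRing _
    refine ⟨_, inferInstance, inferInstance, inferInstance, f, Groth.L12.isAdicComplete_mvPowerSeries, hinj, hfin,
      hsurj, fun p _ _ => ?_⟩
    haveI : CharP Λ p := (RingHom.charP_iff (algebraMap Λ (MvPowerSeries (Fin n) Λ)) (algebraMap Λ _).injective p).mpr ‹_›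
    intro b hb
    have h := PowSerDer.exists_der_ne Λ p n b hb
    rwa [Subsingleton.elim (MvPowerSeries.instAlgebra (R := ℤ) (A := Λ) (σ := Fin n)) (Ring.toIntAlgebra _)] at h
  · obtain ⟨hd, hdvr, hc, p₀, hp₀, hm⟩ := hC
    haveI := hc
    haveI : IsDomain (MvPowerSeries (Fin n) Λ) := NoZeroDivisors.to_isDomain _
    haveI : IsRegularRing (MvPowerSeries (Fin n) Λ) := Groth.Agent.S5784.result Λ n
    haveI : IsRegularLocalRing (MvPowerSeries (Fin n) Λ) := IsRegularLocalRing.of_isRegularRing_of_isLocalRing _
    refine ⟨_, inferInstance, inferInstance, inferInstance, f, Groth.L12.isAdicComplete_mvPowerSeries, hinj, hfin,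
      hsurj, fun p _ _ => ?_⟩
    exfalso
    haveI : CharP Λ p := (RingHom.charP_iff (MvPowerSeries.C (σ := Fin n) (R := Λ)) MvPowerSeries.C_injective p).mpr ‹_›
    have hne : (p₀ : Λ) ≠ 0 := fun h => IsDiscreteValuationRing.not_a_field Λ (by rw [hm, h, Ideal.span_singleton_eq_bot])
    have hmem : (p₀ : Λ) ∈ IsLocalRing.maximalIdeal Λ := hm ▸ Ideal.mem_span_singleton_self _
    have hcop : Nat.Coprime p₀ p := (Nat.coprime_primes hp₀ Fact.out).mpr fun h => hne (h ▸ CharP.cast_eq_zero Λ p)
    obtain ⟨a, b, hab⟩ := (Nat.isCoprime_iff_coprime.mpr hcop : IsCoprime (p₀ : ℤ) p)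
    have := congrArg (Int.cast : ℤ → Λ) hab
    push_cast at this
    rw [CharP.cast_eq_zero Λ p, mul_zero, add_zero] at this
    exact (IsLocalRing.maximalIdeal.isMaximal Λ).ne_top ((Ideal.eq_top_iff_one _).mpr (this ▸ Ideal.mul_mem_left _ _ hmem))

/-- The generic fibre of a regular algebra to which derivations extend is geometrically regular. -/
theorem geomRegular_generic {T C : Type u} [CommRing T] [IsDomain T] [CommRing C] [Algebra T C] [IsRegularRing C]
    (K : Type u) [Field K] [Algebra T K] [IsFractionRing T K]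
    (hder : ∀ δ : Derivation ℤ T T, ∃ δ' : Derivation ℤ C C, ∀ t, δ' (algebraMap T C t) = algebraMap T C (δ t))
    (hT : ∀ (p : ℕ) [Fact p.Prime] [CharP T p], GenericFibre.DerSep T p) :
    CAlg.IsGeometricallyRegular K (K ⊗[T] C) := by
  haveI : IsRegularRing (K ⊗[T] C) := by
    letI : Algebra C (K ⊗[T] C) := Algebra.TensorProduct.rightAlgebra
    haveI : IsLocalization (Algebra.algebraMapSubmonoid C (nonZeroDivisors T)) (K ⊗[T] C) :=
      IsLocalization.tensorRight (R := T) (S := C) K (nonZeroDivisors T)
    haveI : IsNoetherianRing (K ⊗[T] C) :=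
      IsLocalization.isNoetherianRing (Algebra.algebraMapSubmonoid C (nonZeroDivisors T)) (K ⊗[T] C) inferInstance
    exact loc_reg_iff.mp (loc_localization good_reg (Algebra.algebraMapSubmonoid C (nonZeroDivisors T)) (K ⊗[T] C)
      (loc_reg_iff.mpr ‹IsRegularRing C›))
  obtain ⟨p, hp⟩ := ExpChar.exists K
  cases hp with
  | zero => exact GeomRegField.isGeometricallyRegular_of_charZero
  | prime hprime =>
    haveI := Fact.mk hprime
    haveI : CharP T p := (RingHom.charP_iff (algebraMap T K) (IsFractionRing.injective T K) p).mpr ‹_›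
    exact GeomRegField.isGeometricallyRegular_of_liftSep p (GenericFibre.liftSep_tensor p hder (hT p))

set_option maxHeartbeats 1000000 in
/-- The generic fibre of a formally smooth map from a complete local domain is regular. -/
theorem regular_generic {D E : Type u} [CommRing D] [IsDomain D] [IsLocalRing D] [IsNoetherianRing D]
    [IsAdicComplete (maximalIdeal D) D] [CommRing E] [IsLocalRing E] [IsNoetherianRing E]
    [IsAdicComplete (maximalIdeal E) E] [Algebra D E] [IsLocalHom (algebraMap D E)]
    (hE : CAlgX.IsAdicFormallySmooth D E (maximalIdeal E))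
    (q : Ideal E) [q.IsPrime] (hq : q.comap (algebraMap D E) = ⊥) : QReg (Localization.AtPrime q) := by
  obtain ⟨T, _, _, _, f, hTc, hfinj, hffin, hfsurj, hTsep⟩ := exists_base D
  haveI := hTc
  letI : Algebra T D := f.toAlgebra
  haveI : Module.Finite T D := hffin
  haveI : Algebra.IsIntegral T D := Algebra.IsIntegral.of_finite T D
  haveI hTloc : IsLocalHom (algebraMap T D) := (finite_local T D).2.2
  -- the closed fibre
  let mE := (maximalIdeal D).map (algebraMap D E)
  have hmE : mE ≤ maximalIdeal E := IsLocalRing.map_maximalIdeal_le _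
  haveI : Nontrivial (E ⧸ mE) := Ideal.Quotient.nontrivial_iff.mpr
    (ne_top_of_le_ne_top (maximalIdeal.isMaximal E).ne_top hmE)
  haveI : IsLocalRing (E ⧸ mE) := IsLocalRing.of_surjective' _ Ideal.Quotient.mk_surjective
  haveI := Groth.L01.NagataComplete.isAdicComplete_quotient mE
  let k := ResidueField D
  letI : Algebra k (E ⧸ mE) := (Ideal.quotientMap mE (algebraMap D E) Ideal.le_comap_map).toAlgebra
  haveI : IsScalarTower D k (E ⧸ mE) := IsScalarTower.of_algebraMap_eq fun d => rfl
  have hkD : Function.Surjective (algebraMap D k) := IsLocalRing.residue_surjective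
  obtain ⟨eD, -⟩ := exists_fibreEquiv (k := k) hkD (Ideal.Quotient.mk mE) Ideal.Quotient.mk_surjective
    (fun a => rfl) Ideal.mk_ker
  have hgeo : CAlg.IsGeometricallyRegular k (E ⧸ mE) :=
    geomRegular_congr eD ((adicSmooth_iff_flat_geomRegular hkD).mp hE).2
  haveI : IsRegularRing (k ⊗[k] (E ⧸ mE)) := hgeo k inferInstance
  haveI : IsRegularRing (E ⧸ mE) := IsRegularRing.of_ringEquiv (Algebra.TensorProduct.lid k (E ⧸ mE)).toRingEquiv
  haveI : IsRegularLocalRing (E ⧸ mE) := IsRegularLocalRing.of_isRegularRing_of_isLocalRing _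
  -- the lift over the regular ring
  letI : Algebra T k := ((algebraMap D k).comp (algebraMap T D)).toAlgebra
  haveI : IsScalarTower T D k := IsScalarTower.of_algebraMap_eq' rfl
  have hkT : Function.Surjective (algebraMap T k) := hfsurj
  letI : Algebra T (E ⧸ mE) := ((algebraMap D (E ⧸ mE)).comp (algebraMap T D)).toAlgebra
  haveI : IsScalarTower T D (E ⧸ mE) := IsScalarTower.of_algebraMap_eq' rfl
  have hm0 : ∀ d ∈ maximalIdeal D, algebraMap D (E ⧸ mE) d = 0 := fun d hd =>
    Ideal.Quotient.eq_zero_iff_mem.mpr (Ideal.mem_map_of_mem _ hd)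
  have hf0 : (maximalIdeal T).map (algebraMap T (E ⧸ mE)) = ⊥ := by
    rw [Ideal.map_eq_bot_iff_le_ker]
    exact fun t ht => hm0 _ (IsLocalRing.map_maximalIdeal_le (algebraMap T D) (Ideal.mem_map_of_mem _ ht))
  obtain ⟨C, _, _, _, _, _, π, hCc, hCflat, hπ, hπc, hker⟩ := exists_flat_lift (algebraMap T (E ⧸ mE)) hf0
  haveI := hCc
  haveI := hCflat
  obtain ⟨eT, -⟩ := exists_fibreEquiv (k := k) hkT π hπ (fun a => hπc a) hker
  have hCfs : CAlgX.IsAdicFormallySmooth T C (maximalIdeal C) :=
    (adicSmooth_iff_flat_geomRegular hkT).mpr ⟨hCflat, geomRegular_congr eT.symm hgeo⟩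
  haveI : IsRegularLocalRing (EGA4.FibRing T C) := IsRegularLocalRing.of_ringEquiv
    ((RingHom.quotientKerEquivOfSurjective hπ).symm.trans (Ideal.quotEquivOfEq hker))
  haveI : IsRegularLocalRing C := FormalFibres.regular_of_flat T C
  haveI : IsRegularRing C := loc_reg_iff.mp (good_reg.loc (show QReg C from ‹IsRegularLocalRing C›))
  -- the base change
  let B' := D ⊗[T] C
  letI : Algebra C B' := Algebra.TensorProduct.rightAlgebra
  haveI : Module.Finite C B' :=
    Module.Finite.of_surjective
      ({ toFun := Algebra.TensorProduct.comm T C D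
         map_add' := map_add _
         map_smul' := fun c x => by
           rw [Algebra.smul_def, Algebra.smul_def, map_mul]
           rfl } : C ⊗[T] D →ₗ[C] B')
      (Algebra.TensorProduct.comm T C D).surjective
  haveI : Algebra.IsIntegral C B' := Algebra.IsIntegral.of_finite C B'
  let Φ : B' →ₐ[D] E ⧸ mE :=
    Algebra.TensorProduct.lift (Algebra.ofId D _) (AlgHom.mk π hπc : C →ₐ[T] E ⧸ mE) fun _ _ => Commute.all _ _
  have hΦc : ∀ c, Φ (1 ⊗ₜ c) = π c := fun c => by
    rw [Algebra.TensorProduct.lift_tmul, map_one, one_mul]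
    rfl
  have hΦs : Function.Surjective Φ := fun y => by
    obtain ⟨c, rfl⟩ := hπ y
    exact ⟨_, hΦc c⟩
  have happrox : ∀ z : B', ∃ c : C, z - 1 ⊗ₜ c ∈ (maximalIdeal D).map (algebraMap D B') := by
    intro z
    induction z using TensorProduct.induction_on with
    | zero => exact ⟨0, by simp⟩
    | add x y hx hy =>
      obtain ⟨a, ha⟩ := hx
      obtain ⟨b, hb⟩ := hy
      refine ⟨a + b, ?_⟩
      rw [TensorProduct.tmul_add, add_sub_add_comm]
      exact add_mem ha hb
    | tmul d c =>
      obtain ⟨t, ht⟩ := hfsurj (residue D d)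
      refine ⟨t • c, ?_⟩
      have h1 : d ⊗ₜ[T] c - 1 ⊗ₜ (t • c) = algebraMap D B' (d - algebraMap T D t) * (1 ⊗ₜ c) := by
        rw [Algebra.TensorProduct.algebraMap_apply, Algebra.algebraMap_self, RingHom.id_apply,
          Algebra.TensorProduct.tmul_mul_tmul, mul_one, one_mul, TensorProduct.sub_tmul,
          TensorProduct.tmul_smul, TensorProduct.smul_tmul', Algebra.smul_def, mul_one]
      rw [h1]
      refine Ideal.mul_mem_right _ _ (Ideal.mem_map_of_mem _ ?_)
      exact Ideal.Quotient.eq.mp ht.symm
  have hkerΦ : RingHom.ker Φ = (maximalIdeal D).map (algebraMap D B') := by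
    have hge : (maximalIdeal D).map (algebraMap D B') ≤ RingHom.ker Φ := Ideal.map_le_iff_le_comap.mpr fun d hd => by
      rw [Ideal.mem_comap, RingHom.mem_ker, AlgHom.commutes]
      exact hm0 d hd
    refine le_antisymm (fun z hz => ?_) hge
    obtain ⟨c, hc⟩ := happrox z
    have h1 : π c = 0 := by
      have h2 : Φ (z - 1 ⊗ₜ c) = 0 := hge hc
      rw [map_sub, RingHom.mem_ker.mp hz, hΦc, zero_sub, neg_eq_zero] at h2
      exact h2
    rw [← RingHom.mem_ker, hker] at h1
    have h3 : (1 : D) ⊗ₜ[T] c ∈ (maximalIdeal D).map (algebraMap D B') := by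
      have h4 : algebraMap C B' c ∈ ((maximalIdeal T).map (algebraMap T C)).map (algebraMap C B') :=
        Ideal.mem_map_of_mem _ h1
      rw [Ideal.map_map, show (algebraMap C B').comp (algebraMap T C) = (algebraMap D B').comp (algebraMap T D) from
        RingHom.ext fun t => by
          show (1 : D) ⊗ₜ[T] algebraMap T C t = algebraMap T D t ⊗ₜ[T] (1 : C)
          rw [Algebra.algebraMap_eq_smul_one, Algebra.algebraMap_eq_smul_one, TensorProduct.tmul_smul,
            TensorProduct.smul_tmul'], ← Ideal.map_map] at h4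
      exact Ideal.map_mono (IsLocalRing.map_maximalIdeal_le (algebraMap T D)) h4
    simpa using add_mem hc h3
  have hmax : ∀ M : Ideal B', M.IsMaximal → M = (maximalIdeal (E ⧸ mE)).comap Φ.toRingHom := by
    intro M hM
    haveI := hM
    haveI := Ideal.isMaximal_comap_of_isIntegral_of_isMaximal (R := C) M
    have hMC : M.comap (algebraMap C B') = maximalIdeal C := IsLocalRing.eq_maximalIdeal inferInstance
    have hMT : (M.comap (algebraMap D B')).comap (algebraMap T D) = maximalIdeal T := by
      refine ((maximalIdeal.isMaximal T).eq_of_le (Ideal.IsPrime.ne_top (Ideal.IsPrime.comap _)) fun t ht => ?_).symm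
      have h1 : algebraMap T C t ∈ M.comap (algebraMap C B') :=
        hMC ▸ IsLocalRing.map_maximalIdeal_le (algebraMap T C) (Ideal.mem_map_of_mem _ ht)
      show algebraMap T D t ⊗ₜ[T] (1 : C) ∈ M
      have h2 : (1 : D) ⊗ₜ[T] algebraMap T C t ∈ M := h1
      rwa [Algebra.algebraMap_eq_smul_one, TensorProduct.tmul_smul, TensorProduct.smul_tmul',
        ← Algebra.algebraMap_eq_smul_one] at h2
    haveI : (M.comap (algebraMap D B')).IsMaximal :=
      Ideal.isMaximal_of_isIntegral_of_isMaximal_comap (R := T) _ (hMT ▸ maximalIdeal.isMaximal T)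
    have hMD := IsLocalRing.eq_maximalIdeal (I := M.comap (algebraMap D B')) inferInstance
    have hkM : RingHom.ker Φ.toRingHom ≤ M := hkerΦ.trans_le (Ideal.map_le_iff_le_comap.mpr hMD.ge)
    refine hM.eq_of_le (Ideal.comap_ne_top _ (maximalIdeal.isMaximal _).ne_top) fun x hx => ?_
    refine IsLocalRing.le_maximalIdeal (fun htop => ?_) (Ideal.mem_map_of_mem Φ.toRingHom hx)
    have h1 := congrArg (Ideal.comap Φ.toRingHom) htop
    rw [Ideal.comap_map_of_surjective Φ.toRingHom hΦs, ← RingHom.ker_eq_comap_bot, sup_eq_left.mpr hkM,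
      Ideal.comap_top] at h1
    exact hM.ne_top h1
  haveI : IsLocalRing B' := IsLocalRing.of_unique_max_ideal
    ⟨_, Ideal.comap_isMaximal_of_surjective Φ.toRingHom hΦs (K := maximalIdeal (E ⧸ mE)), fun M hM => hmax M hM⟩
  obtain ⟨_, _, -⟩ := finite_local C B'
  haveI : IsLocalHom (algebraMap D B') := ((IsLocalRing.local_hom_TFAE (algebraMap D B')).out 0 2 rfl rfl).mpr
    (hkerΦ.ge.trans (IsLocalRing.le_maximalIdeal (RingHom.ker_ne_top _)))
  -- the isomorphism
  let u : E →ₐ[D] B' ⧸ (maximalIdeal D).map (algebraMap D B') :=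
    (Ideal.quotientEquivAlgOfEq D hkerΦ).toAlgHom.comp
      ((Ideal.quotientKerAlgEquivOfSurjective hΦs).symm.toAlgHom.comp (Ideal.Quotient.mkₐ D mE))
  have hu : Function.Surjective u := (Ideal.quotientEquivAlgOfEq D hkerΦ).surjective.comp
    ((Ideal.quotientKerAlgEquivOfSurjective hΦs).symm.surjective.comp Ideal.Quotient.mk_surjective)
  obtain ⟨v, hv, hvu⟩ := exists_surjective_lift hE (maximalIdeal D) le_rfl u hu
  have hvinj : Function.Injective v := by
    refine (RingHom.injective_iff_ker_eq_bot _).mpr (ker_eq_bot_of_flat (maximalIdeal D) v hv hmE fun b hb => ?_)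
    have h1 : u b = 0 := by rw [← hvu b, RingHom.mem_ker.mp hb, map_zero]
    have h2 : Ideal.Quotient.mk mE b = 0 :=
      (Ideal.quotientKerAlgEquivOfSurjective hΦs).symm.injective
        ((Ideal.quotientEquivAlgOfEq D hkerΦ).injective (h1.trans (by rw [map_zero, map_zero])))
    exact Ideal.Quotient.eq_zero_iff_mem.mp h2
  let e : B' ≃ₐ[D] E := (AlgEquiv.ofBijective v ⟨hvinj, hv⟩).symm
  refine CompleteGRing.at_equiv good_reg e.toRingEquiv q ?_
  -- the generic fibre over the regular ring
  let L := FractionRing D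
  let K := FractionRing T
  haveI : FaithfulSMul T L :=
    (faithfulSMul_iff_algebraMap_injective T L).mpr (by
      rw [IsScalarTower.algebraMap_eq T D L]
      exact (IsFractionRing.injective D L).comp hfinj)
  letI : Algebra K L := FractionRing.liftAlgebra T L
  haveI := FractionRing.isScalarTower_liftAlgebra T L
  haveI : Module.Finite K L := CompleteGRing.finite_fractionRing (T := T) (D := D) K L
  have hgen : CAlg.IsGeometricallyRegular K (K ⊗[T] C) := geomRegular_generic K
    (fun δ => Groth.Agent.S9258.result T C hCfs δ) hTsep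
  haveI : IsRegularRing (L ⊗[K] (K ⊗[T] C)) := hgen L inferInstance
  haveI : IsRegularRing (L ⊗[T] C) := IsRegularRing.of_ringEquiv (R := L ⊗[K] (K ⊗[T] C))
    (Algebra.TensorProduct.cancelBaseChange T K K L C).toRingEquiv
  refine (FiniteDomains.loc_fractionRing_iff good_reg (A := T) (D := D) (C := C) L).mp (loc_reg_iff.mpr inferInstance) _ ?_
  rw [← hq, Ideal.comap_comap]
  congr 1
  exact RingHom.ext fun d => e.commutes d

set_option maxHeartbeats 1000000 in
/-- Formally smooth maps of complete Noetherian local rings have regular local rings along finite domains. -/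
theorem regular_finite_domains {A B : Type u} [CommRing A] [IsLocalRing A] [IsNoetherianRing A]
    [IsAdicComplete (maximalIdeal A) A] [CommRing B] [IsLocalRing B] [IsNoetherianRing B]
    [IsAdicComplete (maximalIdeal B) B] [Algebra A B] [IsLocalHom (algebraMap A B)]
    (hB : CAlgX.IsAdicFormallySmooth A B (maximalIdeal B))
    (D : Type u) [CommRing D] [IsDomain D] [Algebra A D] [Module.Finite A D] (q : Ideal (D ⊗[A] B)) [q.IsPrime]
    (hq : q.comap (algebraMap D (D ⊗[A] B)) = ⊥) : QReg (Localization.AtPrime q) := by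
  haveI : HenselianLocalRing A := Groth.L05.henselianLocalRing_of_henselianRing
  haveI : IsLocalRing D := Groth.L05.isLocalRing_of_finite_domain (A := A) D
  obtain ⟨_, _, _⟩ := finite_local A D
  let Γ := D ⊗[A] B
  letI : Algebra B Γ := Algebra.TensorProduct.rightAlgebra
  haveI : Module.Finite B Γ :=
    Module.Finite.of_surjective
      ({ toFun := Algebra.TensorProduct.comm A B D
         map_add' := map_add _
         map_smul' := fun c x => by
           rw [Algebra.smul_def, Algebra.smul_def, map_mul]
           rfl } : B ⊗[A] D →ₗ[B] Γ)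
      (Algebra.TensorProduct.comm A B D).surjective
  haveI : IsNoetherianRing Γ := IsNoetherianRing.of_finite B Γ
  haveI : Algebra.IsIntegral B Γ := Algebra.IsIntegral.of_finite B Γ
  obtain ⟨n, hn, hqn⟩ := q.exists_le_maximal (Ideal.IsPrime.ne_top ‹_›)
  haveI := hn
  let G := Localization.AtPrime n
  haveI hGc : IsAdicComplete (maximalIdeal G) G := ((Groth.Agent.S9405.result B Γ).2.2 ⟨n, hn⟩).2
  haveI hGN : IsNoetherianRing G := IsLocalization.isNoetherianRing n.primeCompl G inferInstance
  haveI := Ideal.isMaximal_comap_of_isIntegral_of_isMaximal (R := B) n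
  have hnB : n.comap (algebraMap B Γ) = maximalIdeal B := IsLocalRing.eq_maximalIdeal inferInstance
  haveI : Algebra.IsIntegral A D := Algebra.IsIntegral.of_finite A D
  have hnA : (n.comap (algebraMap D Γ)).comap (algebraMap A D) = maximalIdeal A := by
    refine ((maximalIdeal.isMaximal A).eq_of_le (Ideal.IsPrime.ne_top (Ideal.IsPrime.comap _)) fun a ha => ?_).symm
    have h1 : algebraMap A B a ∈ n.comap (algebraMap B Γ) :=
      hnB ▸ IsLocalRing.map_maximalIdeal_le (algebraMap A B) (Ideal.mem_map_of_mem _ ha)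
    show algebraMap A D a ⊗ₜ[A] (1 : B) ∈ n
    have h2 : (1 : D) ⊗ₜ[A] algebraMap A B a ∈ n := h1
    rwa [Algebra.algebraMap_eq_smul_one, TensorProduct.tmul_smul, TensorProduct.smul_tmul',
      ← Algebra.algebraMap_eq_smul_one] at h2
  haveI : (n.comap (algebraMap D Γ)).IsMaximal :=
    Ideal.isMaximal_of_isIntegral_of_isMaximal_comap (R := A) _ (hnA ▸ maximalIdeal.isMaximal A)
  have hnD : n.comap (algebraMap D Γ) = maximalIdeal D := IsLocalRing.eq_maximalIdeal inferInstance
  let 𝔟 := (maximalIdeal D).map (algebraMap D Γ) ⊔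
    (maximalIdeal B).map (Algebra.TensorProduct.includeRight : B →ₐ[A] Γ).toRingHom
  have h𝔟 : 𝔟.map (algebraMap Γ G) ≤ maximalIdeal G := by
    rw [← Localization.AtPrime.map_eq_maximalIdeal (I := n)]
    exact Ideal.map_mono (sup_le (Ideal.map_le_iff_le_comap.mpr hnD.ge) (Ideal.map_le_iff_le_comap.mpr hnB.ge))
  haveI : IsLocalHom (algebraMap D G) := ((IsLocalRing.local_hom_TFAE (algebraMap D G)).out 0 2 rfl rfl).mpr (by
    rw [IsScalarTower.algebraMap_eq D Γ G, ← Ideal.map_map]
    exact (Ideal.map_mono le_sup_left).trans h𝔟)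
  have hloc : EGA41.IsFormallySmoothAdic Γ 𝔟 G (maximalIdeal G) := by
    intro C _ _ J hJ _ u _
    haveI : Algebra.FormallySmooth Γ G := Algebra.FormallySmooth.of_isLocalization n.primeCompl
    exact Algebra.FormallySmooth.exists_lift J hJ u
  have hG : CAlgX.IsAdicFormallySmooth D G (maximalIdeal G) := adicSmooth_two_sided_iff.mp
    (FormSmoothAdic.trans ⟨1, by rw [pow_one]; exact h𝔟⟩
      (FormSmoothAdic.baseChange (A' := D) ⟨1, by rw [pow_one]; exact IsLocalRing.map_maximalIdeal_le _⟩
        (adicSmooth_two_sided_iff.mpr hB)) hloc)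
  let q' := q.map (algebraMap Γ G)
  haveI : q'.IsPrime := Ideal.isPrime_map_of_isLocalizationAtPrime n hqn
  have hq' : q'.comap (algebraMap Γ G) = q := Ideal.under_map_of_isLocalizationAtPrime n hqn
  have hreg : QReg (Localization.AtPrime q') := regular_generic hG q' (by
    rw [IsScalarTower.algebraMap_eq D Γ G, ← Ideal.comap_comap, hq', hq])
  haveI : IsLocalization.AtPrime (Localization.AtPrime q') q := by
    convert IsLocalization.isLocalization_isLocalization_atPrime_isLocalization n.primeCompl (Localization.AtPrime q') q' using 2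
    exact hq'.symm
  haveI : IsNoetherianRing (Localization.AtPrime q') := IsLocalization.isNoetherianRing q'.primeCompl _ inferInstance
  exact good_reg.of_equiv
    (IsLocalization.algEquiv q.primeCompl (Localization.AtPrime q') (Localization.AtPrime q)).toRingEquiv hreg

/-- Formally smooth maps of complete Noetherian local rings are regular. -/
theorem isRegularHom_of_adicSmooth {A B : Type u} [CommRing A] [IsLocalRing A] [IsNoetherianRing A]
    [IsAdicComplete (maximalIdeal A) A] [CommRing B] [IsLocalRing B] [IsNoetherianRing B]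
    [IsAdicComplete (maximalIdeal B) B] [Algebra A B] [IsLocalHom (algebraMap A B)]
    (hB : CAlgX.IsAdicFormallySmooth A B (maximalIdeal B)) : CAlg.IsRegularHom A B := by
  refine ⟨flat_of_adicSmooth hB, fun p _ => ⟨GeomLocal.isNoetherianRing_fiber p, fun K _ _ hK => ?_⟩⟩
  haveI := hK
  haveI := GeomLocal.isNoetherianRing_fibre (B := B) p K
  exact loc_reg_iff.mp ((FiniteDomains.fibres_iff_finite_domains good_reg).mpr
    (fun D _ _ _ _ q _ hq => regular_finite_domains hB D q hq) p K hK)

end Groth.L06.AndreRegular
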