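import Groth.Agent.L06.FibreDimsOpen

/-! The fibre component dimensions near the generic point of the base. -/

set_option autoImplicit false
set_option maxSynthPendingDepth 3
set_option backward.isDefEq.respectTransparency.types false
set_option backward.isDefEq.respectTransparency false
set_option linter.style.haveILetI false
universe u

open CategoryTheory AlgebraicGeometry TopologicalSpace Topology

namespace Groth.L06.FibreDimsGeneric

open Groth.L07.Equidim Groth.L07.OpenEquiv Groth.L07.EquidimQF Groth.L06.FibreComponentsGeneric Groth.L06.FibreDimsOpen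
open Groth.L22

variable {X Y : Scheme.{u}}

/-- Dimensions of the components of a fibre as a subspace are values of the fibre dimension. -/
theorem exists_fibreDimAt_of_component (f : X ⟶ Y) [LocallyOfFiniteType f] (y : Y)
    {T : Set ↥(⇑f ⁻¹' {y})} (hT : T ∈ irreducibleComponents ↥(⇑f ⁻¹' {y})) :
    ∃ x, f x = y ∧ topologicalKrullDim ↥T = FlatMor.fibreDimAt f x := by
  let e : ↥(f.fiber y) ≃ₜ ↥(⇑f ⁻¹' {y}) :=
    (f.fiberι y).isEmbedding.toHomeomorph.trans (Homeomorph.setCongr (f.range_fiberι y))
  have hmem : e ⁻¹' T ∈ irreducibleComponents ↥(f.fiber y) := by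
    constructor
    · rw [← e.image_symm]; exact hT.1.image _ e.symm.continuous.continuousOn
    · intro C hC hle
      have h2 : T ⊆ e '' C := fun t ht => ⟨e.symm t, hle (show e (e.symm t) ∈ T by simpa using ht), by simp⟩
      have := hT.2 (hC.image e e.continuous.continuousOn) h2
      exact fun c hc => this ⟨c, hc, rfl⟩
  have hdim : topologicalKrullDim ↥T = topologicalKrullDim ↥(e ⁻¹' T) :=
    SchemeDim.topologicalKrullDim_eq_of_isEmbedding (e.isEmbedding.comp IsEmbedding.subtypeVal)
      (by rw [Set.range_comp, Subtype.range_coe, Set.image_preimage_eq _ e.surjective])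
  have h : topologicalKrullDim ↥(e ⁻¹' T) ∈ dims f y := ⟨_, hmem, rfl⟩
  rw [dims_eq] at h
  obtain ⟨x, hx, hxd⟩ := h
  exact ⟨x, hx, hdim.trans hxd.symm⟩

/-- Near the generic point all components of the fibres have the dimension of the generic fibre. -/
theorem exists_open [IsNoetherian Y] [IrreducibleSpace Y] [IrreducibleSpace X] (f : X ⟶ Y)
    [IsDominant f] [LocallyOfFiniteType f] [QuasiCompact f] :
    ∃ U : Y.Opens, genericPoint Y ∈ U ∧ ∀ s ∈ U, ∀ T ∈ irreducibleComponents ↥(⇑f ⁻¹' {s}),
      topologicalKrullDim ↥T = topologicalKrullDim ↥(⇑f ⁻¹' {genericPoint Y}) := by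
  classical
  haveI : IsLocallyNoetherian X := LocallyOfFiniteType.isLocallyNoetherian f
  haveI : LocallyOfFinitePresentation f := LocallyOfFinitePresentation.iff_locallyOfFiniteType.mpr inferInstance
  set η := genericPoint Y
  have hη : ∀ z, z ⤳ η → z = η := fun z hz =>
    (hz.antisymm ((genericPoint_spec Y).specializes trivial)).eq
  have hξ : f (genericPoint X) = η := by
    refine IsGenericPoint.eq ?_ (genericPoint_spec Y)
    simpa [IsGenericPoint] using ((genericPoint_spec X).image f.continuous).def.trans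
      (by rw [Set.image_univ]; exact f.denseRange.closure_range)
  obtain ⟨n, hn⟩ := exists_nat_fibreDimAt f (genericPoint X)
  have hall : ∀ x, f x = η → FlatMor.fibreDimAt f x = (n : WithBot ℕ∞) := fun x hx => by
    obtain ⟨w, -, hfw, hmax, hd⟩ := exists_maximal_fdim_eq f x
    have hwg : genericPoint X = w := hmax _ (hξ.trans (hfw.trans hx).symm) ((genericPoint_spec X).specializes trivial)
    rw [← hd, Groth.L07.OpenFibreDim.fdim_eq_fibreDimAt f w hmax, ← hwg, hn]
  have hdim : topologicalKrullDim ↥(⇑f ⁻¹' {η}) = (n : WithBot ℕ∞) := by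
    rw [← Groth.L06.FibreDimLocConst.dim_fiber]
    refine le_antisymm ((Groth.L07.FibreDim.fiber_dim_le_iff f η _).mpr fun x hx => (hall x hx).le) ?_
    have h := (Groth.L07.FibreDim.fiber_dim_le_iff f η (topologicalKrullDim ↥(f.fiber η))).mp le_rfl _ hξ
    rwa [hn] at h
  let B : Set Y := f.base '' {x : X | FlatMor.fibreDimAt f x = (n : WithBot ℕ∞)}ᶜ
  have hB : IsLocallyConstructible Bᶜ := fun z => by
    have hu := isLocallyConstructible_diff IsLocallyConstructible.univ (isLocallyConstructible_eq f n)
    rw [← Set.compl_eq_univ_sdiff] at hu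
    obtain ⟨U, hU, hUo, h⟩ := (f.isLocallyConstructible_image hu) z
    exact ⟨U, hU, hUo, h.compl⟩
  have hmem : Bᶜ ∈ 𝓝 η := Groth.L07.Count.mem_nhds_of_isLocallyConstructible hB fun z hz => by
    rintro ⟨x, hx, hxz⟩
    exact hx (hall x (hxz.trans (hη z hz)))
  obtain ⟨U, hUB, hU, hηU⟩ := mem_nhds_iff.mp hmem
  refine ⟨⟨U, hU⟩, hηU, fun s hs T hT => ?_⟩
  obtain ⟨x, hx, hxd⟩ := exists_fibreDimAt_of_component f s hT
  rw [hdim, hxd]
  by_contra hne
  exact hUB hs ⟨x, hne, hx⟩

end Groth.L06.FibreDimsGeneric
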