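import Groth.Agent.L02.FibDepth.ConstrResults
import Groth.Agent.L06.FibreDimsGeneric
import Groth.Agent.L06.Constr
import Groth.Agent.L07.PrimaryDecomp
import Groth.Agent.L00.ReducedSub
import Groth.Agent.L20.GenGeomRed
import Groth.Agent.L15.TFCurve.Lattice

/-!
# The associated points of the fibres near the generic point of the base
-/

set_option autoImplicit false
set_option linter.style.haveILetI false
set_option maxSynthPendingDepth 3
set_option backward.isDefEq.respectTransparency.types false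

universe u

open CategoryTheory AlgebraicGeometry Topology TopologicalSpace

namespace Groth.L06.AssGeneric

variable {X S : Scheme.{u}} (f : X ⟶ S)

/-- `z` has no proper generisation inside `C` in its fibre -/
def MaxIn (C : Set X) (z : X) : Prop := z ∈ C ∧ ∀ z' ∈ C, f z' = f z → z' ⤳ z → z' = z

theorem exists_maxIn {C : Set X} (hC : IsClosed C) {z : X} (hz : z ∈ C) :
    ∃ g, MaxIn f C g ∧ f g = f z ∧ g ⤳ z := by
  let T : Set ↥(f.fiber (f z)) := f.fiberι (f z) ⁻¹' C
  have hT : IsClosed T := hC.preimage (f.fiberι (f z)).continuous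
  haveI : QuasiSober ↥T := hT.isClosedEmbedding_subtypeVal.quasiSober
  let w : T := ⟨f.asFiber z, by show f.fiberι (f z) (f.asFiber z) ∈ C; rw [f.fiberι_asFiber]; exact hz⟩
  have hw : f.fiberι (f z) w.1 = z := f.fiberι_asFiber z
  obtain ⟨g, hg⟩ := QuasiSober.sober (isIrreducible_irreducibleComponent (x := w)) isClosed_irreducibleComponent
  have hfib : ∀ v : ↥(f.fiber (f z)), f (f.fiberι (f z) v) = f z := fun v => by
    have := (f.range_fiberι (f z)).subset ⟨v, rfl⟩
    exact this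
  refine ⟨f.fiberι (f z) g.1, ⟨g.2, fun z' hz' hzs hsp => ?_⟩, hfib g.1, ?_⟩
  · obtain ⟨v, rfl⟩ := (f.range_fiberι (f z)).ge (show z' ∈ f ⁻¹' {f z} from hzs.trans (hfib g.1))
    have hsp' : (⟨v, hz'⟩ : T) ⤳ g :=
      IsInducing.subtypeVal.specializes_iff.1 ((f.fiberι (f z)).isEmbedding.isInducing.specializes_iff.1 hsp)
    have hle : irreducibleComponent w ⊆ closure {(⟨v, hz'⟩ : T)} := by
      rw [← hg.def]
      exact closure_minimal (Set.singleton_subset_iff.2 hsp'.mem_closure) isClosed_closure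
    have hge := (irreducibleComponent_mem_irreducibleComponents w).2 isIrreducible_singleton.closure hle
      (subset_closure (Set.mem_singleton (⟨v, hz'⟩ : T)))
    have hsp2 : g ⤳ (⟨v, hz'⟩ : T) := specializes_iff_mem_closure.2 (hg.def.symm ▸ hge)
    exact congrArg (fun t : T => f.fiberι (f z) t.1) (hsp'.antisymm hsp2).eq
  · have h1 : g ⤳ w := specializes_iff_mem_closure.2 (hg.def.symm ▸ mem_irreducibleComponent)
    have h2 := h1.map ((f.fiberι (f z)).continuous.comp continuous_subtype_val)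
    simp only [Function.comp_apply] at h2
    rwa [hw] at h2

section Dim

variable [IsNoetherian S] [IrreducibleSpace S] [LocallyOfFiniteType f] [QuasiCompact f]

theorem dim_closure_maxIn {C : Set X} (hC : IsClosed C) (hCi : IsIrreducible C) {ζ : X} (hζ : IsGenericPoint ζ C)
    (hgen : f ζ = genericPoint S) :
    ∃ U : S.Opens, genericPoint S ∈ U ∧ ∀ s ∈ U, ∀ w : ↥(f.fiber s), MaxIn f C (f.fiberι s w) →
      ∀ v : ↥(f.fiber (genericPoint S)), f.fiberι (genericPoint S) v = ζ →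
        topologicalKrullDim ↥(closure ({w} : Set ↥(f.fiber s))) =
          topologicalKrullDim ↥(closure ({v} : Set ↥(f.fiber (genericPoint S)))) := by
  obtain ⟨W, i, hi, hWr, hrange⟩ := Groth.L00.ReducedSub.exists_reduced C hC.isLocallyClosed
  haveI := hi
  haveI : IsClosedImmersion i := IsClosedImmersion.of_isPreimmersion i (hrange ▸ hC) 
  haveI : IrreducibleSpace W := by
    rw [irreducibleSpace_def]
    haveI : IrreducibleSpace (Set.range i) := Subtype.irreducibleSpace (by rw [hrange]; exact hCi)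
    have h := ((irreducibleSpace_def (Set.range i)).1 inferInstance).image i.isEmbedding.toHomeomorph.symm
      i.isEmbedding.toHomeomorph.symm.continuous.continuousOn
    simp only [Set.top_eq_univ, Set.image_univ, EquivLike.range_eq_univ] at h ⊢
    exact h
  haveI : IsDominant (i ≫ f) := by
    refine ⟨?_⟩
    obtain ⟨ω, hω⟩ := hrange.symm.subset hζ.mem
    intro s
    refine closure_mono (t := Set.range (i ≫ f)) (Set.singleton_subset_iff.2 ⟨ω, ?_⟩)
      ((genericPoint_spec S).specializes trivial).mem_closure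
    show f (i ω) = genericPoint S
    rw [hω, hgen]
  obtain ⟨U, hU, hdim⟩ := Groth.L06.FibreDimsGeneric.exists_open (i ≫ f)
  refine ⟨U, hU, fun s hs w hw v hv => ?_⟩
  -- the fibre of `C` as a subset of the fibre
  have key : ∀ t : S, ∃ e : ↥((i ≫ f) ⁻¹' {t}) → ↥(f.fiberι t ⁻¹' C), IsHomeomorph e := by
    intro t
    have hmem : ∀ p : ↥((i ≫ f) ⁻¹' {t}), i p.1 ∈ Set.range (f.fiberι t) := fun p => by
      rw [f.range_fiberι]; exact p.2
    let g : ↥((i ≫ f) ⁻¹' {t}) → ↥(f.fiber t) := fun p =>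
      (f.fiberι t).isEmbedding.toHomeomorph.symm ⟨i p.1, hmem p⟩
    have hg : ∀ p, f.fiberι t (g p) = i p.1 := fun p =>
      congrArg Subtype.val ((f.fiberι t).isEmbedding.toHomeomorph.apply_symm_apply ⟨i p.1, hmem p⟩)
    have hge : IsEmbedding g :=
      (f.fiberι t).isEmbedding.toHomeomorph.symm.isEmbedding.comp
        ((i.isEmbedding.comp IsEmbedding.subtypeVal).codRestrict _ hmem)
    have hgr : Set.range g = f.fiberι t ⁻¹' C := by
      ext u
      constructor
      · rintro ⟨p, rfl⟩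
        show f.fiberι t (g p) ∈ C
        rw [hg]
        exact hrange.subset ⟨p.1, rfl⟩
      · intro hu
        obtain ⟨p, hp⟩ := hrange.symm.subset hu
        refine ⟨⟨p, ?_⟩, (f.fiberι t).isEmbedding.injective ((hg _).trans hp)⟩
        show f (i p) = t
        rw [hp]
        exact (f.range_fiberι t).subset ⟨u, rfl⟩
    exact ⟨_, (hge.toHomeomorph.trans (Homeomorph.setCongr hgr)).isHomeomorph⟩
  obtain ⟨e, he⟩ := key s
  have hT : IsClosed (f.fiberι s ⁻¹' C) := hC.preimage (f.fiberι s).continuous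
  obtain ⟨Z, hZ, hZd⟩ := (L02.FibDepth.components_iff hT
    (· = topologicalKrullDim ↥(closure ({w} : Set ↥(f.fiber s))))).2 ⟨w, hw.1, fun w' hw' hsp => by
      refine (f.fiberι s).isEmbedding.injective (hw.2 _ hw' ?_ (hsp.map (f.fiberι s).continuous))
      exact ((f.range_fiberι s).subset ⟨w', rfl⟩).trans (Eq.symm ((f.range_fiberι s).subset ⟨w, rfl⟩)), rfl⟩
  let φ := he.homeomorph
  have hcomp : φ ⁻¹' Z ∈ irreducibleComponents ↥((i ≫ f) ⁻¹' {s}) := by
    constructor
    · rw [← φ.image_symm]; exact hZ.1.image _ φ.symm.continuous.continuousOn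
    · intro D hD hle
      have h2 : Z ⊆ φ '' D := fun t ht => ⟨φ.symm t, hle (show φ (φ.symm t) ∈ Z by rw [φ.apply_symm_apply]; exact ht), φ.apply_symm_apply t⟩
      have := hZ.2 (hD.image φ φ.continuous.continuousOn) h2
      exact fun c hc => this ⟨c, hc, rfl⟩
  rw [← hZd, ← ((φ.image (φ ⁻¹' Z)).trans (Homeomorph.setCongr (Set.image_preimage_eq Z φ.surjective))).isHomeomorph.topologicalKrullDim_eq]
  rw [hdim s hs _ hcomp]
  obtain ⟨e', he'⟩ := key (genericPoint S)
  rw [he'.topologicalKrullDim_eq]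
  suffices h : f.fiberι (genericPoint S) ⁻¹' C = closure ({v} : Set ↥(f.fiber (genericPoint S))) by rw [h]
  ext u
  rw [← specializes_iff_mem_closure, ← (f.fiberι (genericPoint S)).isEmbedding.isInducing.specializes_iff, hv,
    Set.mem_preimage, specializes_iff_mem_closure, hζ.def]

end Dim

section Main

open L02.FibDepth

variable [IsNoetherian S] [IrreducibleSpace S] [LocallyOfFiniteType f] [QuasiCompact f]
  [LocallyOfFinitePresentation f] (F : X.Modules) (hF : CohB1.IsFP F)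

theorem delta_maxIn {ζ : X} (hgen : f ζ = genericPoint S) :
    ∃ U : S.Opens, genericPoint S ∈ U ∧ ∀ x, f x ∈ U → MaxIn f (closure {ζ}) x →
      (pd f F hF).δ x = (pd f F hF).δ ζ := by
  obtain ⟨U, hU, h⟩ := dim_closure_maxIn f isClosed_closure isIrreducible_singleton.closure
    (isGenericPoint_closure (x := ζ)) hgen
  refine ⟨U, hU, fun x hx hmax => ?_⟩
  obtain ⟨v, hv⟩ := (f.range_fiberι (genericPoint S)).ge (show ζ ∈ f ⁻¹' {genericPoint S} from hgen)
  have h' := h _ hx (f.asFiber x) (by rw [f.fiberι_asFiber]; exact hmax) v hv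
  rw [dim_closure_fiber f F hF, dim_closure_fiber f F hF, f.fiberι_asFiber, hv] at h'
  exact_mod_cast h'

theorem delta_le {Z : Set X} (hZ : IsClosed Z) :
    ∃ U : S.Opens, genericPoint S ∈ U ∧ ∀ x ∈ Z, f x ∈ U →
      ∃ ζ ∈ Z, f ζ = genericPoint S ∧ (pd f F hF).δ x ≤ (pd f F hF).δ ζ := by
  haveI : IsLocallyNoetherian X := LocallyOfFiniteType.isLocallyNoetherian f
  haveI : CompactSpace X := QuasiCompact.compactSpace_of_compactSpace f
  haveI : IsNoetherian X := {}
  refine Groth.L06.Constr.closed_induction (P := fun Z => ∃ U : S.Opens, genericPoint S ∈ U ∧ ∀ x ∈ Z, f x ∈ U →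
      ∃ ζ ∈ Z, f ζ = genericPoint S ∧ (pd f F hF).δ x ≤ (pd f F hF).δ ζ) ?_ ?_ ?_ hZ
  · exact ⟨⊤, trivial, fun x hx => hx.elim⟩
  · intro C hC hCi _
    obtain ⟨ζ, hζ⟩ := QuasiSober.sober hCi hC
    by_cases hgen : f ζ = genericPoint S
    · obtain ⟨U, hU, h⟩ := delta_maxIn f F hF hgen
      refine ⟨U, hU, fun x hx hxU => ⟨ζ, hζ.mem, hgen, ?_⟩⟩
      obtain ⟨g, hg, hgs, hgx⟩ := exists_maxIn f hC hx
      have := (pd f F hF).δ_le_of_gen hgx hgs
      rw [← h g (hgs ▸ hxU) (hζ.def.symm ▸ hg)]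
      exact this
    · refine ⟨⟨_, (isClosed_closure (s := ({f ζ} : Set S))).isOpen_compl⟩, fun h => hgen ?_,
        fun x hx hxU => absurd ?_ hxU⟩
      · exact (Specializes.antisymm ((genericPoint_spec S).specializes trivial) (specializes_iff_mem_closure.2 h)).eq.symm
      · exact specializes_iff_mem_closure.1 ((specializes_iff_mem_closure.2 (hζ.def.symm ▸ hx)).map f.continuous)
  · rintro A B - - ⟨U, hU, h1⟩ ⟨V, hV, h2⟩
    refine ⟨U ⊓ V, ⟨hU, hV⟩, fun x hx hxU => ?_⟩
    rcases hx with hx | hx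
    · obtain ⟨ζ, hζ, h⟩ := h1 x hx hxU.1; exact ⟨ζ, Or.inl hζ, h⟩
    · obtain ⟨ζ, hζ, h⟩ := h2 x hx hxU.2; exact ⟨ζ, Or.inr hζ, h⟩

/-- the associated points of the generic fibre -/
def AssGen : Set X := {x | x ∈ (pd f F hF).Ass ∧ f x = genericPoint S}

theorem finite_assGen [Coh.IsQCoh F] : (AssGen f F hF).Finite := by
  let η₀ := genericPoint S
  haveI : LocallyOfFiniteType (f.fiberToSpecResidueField η₀) := MorphismProperty.pullback_snd _ _ inferInstance
  haveI : QuasiCompact (f.fiberToSpecResidueField η₀) := MorphismProperty.pullback_snd _ _ inferInstance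
  haveI : IsLocallyNoetherian (f.fiber η₀) :=
    LocallyOfFiniteType.isLocallyNoetherian (f.fiberToSpecResidueField η₀)
  haveI : CompactSpace (f.fiber η₀) := QuasiCompact.compactSpace_of_compactSpace (f.fiberToSpecResidueField η₀)
  refine ((Groth.L07.PrimaryDecomp.finite_ass ((Scheme.Modules.pullback (f.fiberι η₀)).obj F)
    (Groth.L16.AffineBC.isCoh_pullback (f.fiberι η₀) (Groth.L15.TFCurve.isCoh_of_isFP hF))).image
    (f.fiberι η₀)).subset fun x hx => ?_
  obtain ⟨w, hw⟩ := (f.range_fiberι η₀).ge (show x ∈ f ⁻¹' {η₀} from hx.2)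
  refine ⟨w, ?_, hw⟩
  have := (forall_fiber_iff (f := f) (P := fun t w => f.fiberι t w ∈ (pd f F hF).Ass →
    w ∈ AssSch.Ass ((Scheme.Modules.pullback (f.fiberι t)).obj F)) η₀).2 (fun z _ hz => by
      rw [f.fiberι_asFiber] at hz
      exact (mem_ass_fiber_iff f F hF z).2 hz) w
  exact this (hw ▸ hx.1)

theorem exists_open_assDim [Coh.IsQCoh F] :
    ∃ U : S.Opens, genericPoint S ∈ U ∧ ∀ y, f y ∈ U → ∀ j,
      (y ∈ (pd f F hF).AssDim j ↔ ∃ x ∈ AssGen f F hF, (pd f F hF).δ x = j ∧ x ⤳ y) := by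
  classical
  haveI : IsLocallyNoetherian X := LocallyOfFiniteType.isLocallyNoetherian f
  haveI : CompactSpace X := QuasiCompact.compactSpace_of_compactSpace f
  haveI : IsNoetherian X := {}
  let D := pd f F hF
  have hfin := finite_assGen f F hF
  let J : Finset ℕ := hfin.toFinset.image D.δ
  let B : ℕ → Set X := fun j => ⋃ x ∈ {x ∈ AssGen f F hF | D.δ x = j}, closure {x}
  have hBc : ∀ j, IsClosed (B j) := fun j =>
    (hfin.subset (Set.sep_subset _ _)).isClosed_biUnion fun _ _ => isClosed_closure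
  have hA : ∀ j, IsConstructible (D.AssDim j) := fun j =>
    IsLocallyConstructible.isConstructible (isLocallyConstructible_assDim (hasCharts₀_module f F hF) j)
  let Δ : ℕ → Set X := fun j => (D.AssDim j \ B j) ∪ (B j \ D.AssDim j)
  let bad : Set X := {y | ∃ j, j ∉ J ∧ y ∈ D.AssDim j} ∪ ⋃ j ∈ (J : Set ℕ), Δ j
  have hbad : IsConstructible bad :=
    (IsLocallyConstructible.isConstructible
      (isLocallyConstructible_assDim_union (hasCharts₀_module f F hF) (· ∉ J))).union
      (IsConstructible.biUnion J.finite_toSet fun j _ =>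
        ((hA j).sdiff (Groth.L06.Constr.isConstructible_of_isClosed (hBc j))).union
          ((Groth.L06.Constr.isConstructible_of_isClosed (hBc j)).sdiff (hA j)))
  have hgen : ∀ y, f y = genericPoint S → ∀ j, y ∈ D.AssDim j → y ∈ B j ∧ j ∈ J := by
    intro y hy j hj
    obtain ⟨z, hz, hzy, hzf, hzd⟩ := D.mem_AssDim.1 hj
    have hzA : z ∈ AssGen f F hF := ⟨hz, hzf.trans hy⟩
    exact ⟨Set.mem_biUnion (show z ∈ {x ∈ AssGen f F hF | D.δ x = j} from ⟨hzA, hzd⟩) hzy.mem_closure,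
      Finset.mem_image.2 ⟨z, hfin.mem_toFinset.2 hzA, hzd⟩⟩
  have hη : genericPoint S ∉ f '' bad := by
    rintro ⟨y, hy, hyη⟩
    rcases hy with ⟨j, hj, hy⟩ | hy
    · exact hj (hgen y hyη j hy).2
    · obtain ⟨j, -, hy | hy⟩ := Set.mem_iUnion₂.1 hy
      · exact hy.2 (hgen y hyη j hy.1).1
      · obtain ⟨x, ⟨hxA, hxd⟩, hxy⟩ := Set.mem_iUnion₂.1 hy.1
        exact hy.2 (D.mem_AssDim.2 ⟨x, hxA.1, specializes_iff_mem_closure.2 hxy, hxA.2.trans hyη.symm, hxd⟩)
  obtain ⟨O, hO, hOo, hηO⟩ := mem_nhds_iff.1 (Groth.L20.GenGeomRed.mem_nhds_of_isLocallyConstructible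
    (L02.Cons.isLocallyConstructible_compl (f.isLocallyConstructible_image hbad.isLocallyConstructible)) hη)
  refine ⟨⟨O, hOo⟩, hηO, fun y hy j => ?_⟩
  have hy' : y ∉ bad := fun h => hO hy ⟨y, h, rfl⟩
  simp only [bad, Set.mem_union, not_or, Set.mem_iUnion, not_exists] at hy'
  constructor
  · intro h
    have hj : j ∈ J := by by_contra hj; exact hy'.1 ⟨j, hj, h⟩
    by_contra hB
    refine hy'.2 j hj (Or.inl ⟨h, fun hb => hB ?_⟩)
    obtain ⟨x, ⟨hxA, hxd⟩, hxy⟩ := Set.mem_iUnion₂.1 hb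
    exact ⟨x, hxA, hxd, specializes_iff_mem_closure.2 hxy⟩
  · rintro ⟨x, hxA, hxd, hxy⟩
    have hj : j ∈ J := Finset.mem_image.2 ⟨x, hfin.mem_toFinset.2 hxA, hxd⟩
    by_contra h
    exact hy'.2 j hj (Or.inr ⟨Set.mem_biUnion (show x ∈ {x ∈ AssGen f F hF | D.δ x = j} from ⟨hxA, hxd⟩)
      hxy.mem_closure, h⟩)

theorem exists_open_main [Coh.IsQCoh F] :
    ∃ U : S.Opens, genericPoint S ∈ U ∧ ∀ z, f z ∈ U →
      (z ∈ (pd f F hF).Ass ↔ ∃ x ∈ AssGen f F hF, MaxIn f (closure {x}) z) ∧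
      (∀ x ∈ AssGen f F hF, ∀ x' ∈ AssGen f F hF, MaxIn f (closure {x}) z → MaxIn f (closure {x'}) z → x = x') ∧
      (∀ x ∈ AssGen f F hF, MaxIn f (closure {x}) z →
        ((∀ y ∈ (pd f F hF).Ass, f y = f z → y ⤳ z → y = z) ↔ ∀ y ∈ AssGen f F hF, y ⤳ x → y = x)) := by
  classical
  let D := pd f F hF
  have hfin := finite_assGen f F hF
  haveI : Finite (AssGen f F hF) := hfin.to_subtype
  obtain ⟨U₀, hU₀, hAD⟩ := exists_open_assDim f F hF
  choose U₁ hU₁ hmax using fun x : AssGen f F hF => delta_maxIn f F hF x.2.2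
  choose U₂ hU₂ hle using fun p : AssGen f F hF × AssGen f F hF =>
    delta_le f F hF (Z := closure {(p.1 : X)} ∩ closure {(p.2 : X)}) (isClosed_closure.inter isClosed_closure)
  let U : S.Opens := ⟨(U₀ : Set S) ∩ (⋂ x, (U₁ x : Set S)) ∩ ⋂ p, (U₂ p : Set S),
    (U₀.2.inter (isOpen_iInter_of_finite fun x => (U₁ x).2)).inter (isOpen_iInter_of_finite fun p => (U₂ p).2)⟩
  refine ⟨U, ⟨⟨hU₀, Set.mem_iInter.2 hU₁⟩, Set.mem_iInter.2 hU₂⟩, fun z hz => ?_⟩
  obtain ⟨⟨hz0, hz1⟩, hz2⟩ := hz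
  have hd : ∀ x (hx : x ∈ AssGen f F hF), ∀ w, f w = f z → MaxIn f (closure {x}) w → D.δ w = D.δ x :=
    fun x hx w hw hwm => hmax ⟨x, hx⟩ w (hw ▸ Set.mem_iInter.1 hz1 _) hwm
  -- points of the fibre in the closure of an associated point
  have hbd : ∀ x (hx : x ∈ AssGen f F hF), ∀ w, f w = f z → w ∈ closure {x} → D.δ w ≤ D.δ x := by
    intro x hx w hw hwx
    obtain ⟨g, hg, hgs, hgw⟩ := exists_maxIn f isClosed_closure hwx
    exact (D.δ_le_of_gen hgw hgs).trans (hd x hx g (hgs.trans hw) hg).le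
  have hlt : ∀ x (hx : x ∈ AssGen f F hF), ∀ x' (hx' : x' ∈ AssGen f F hF), ¬ x' ⤳ x →
      z ∈ closure {x} → z ∈ closure {x'} → D.δ z < D.δ x := by
    intro x hx x' hx' hne h h'
    obtain ⟨ζ, hζ, hζη, hdle⟩ := hle (⟨x, hx⟩, ⟨x', hx'⟩) z ⟨h, h'⟩ (Set.mem_iInter.1 hz2 _)
    refine lt_of_le_of_lt hdle ?_
    have hsp : x ⤳ ζ := specializes_iff_mem_closure.2 hζ.1
    exact D.strict ζ x hsp (hx.2.trans hζη.symm) fun e => hne (specializes_iff_mem_closure.2 (e ▸ hζ.2))
  have ha : z ∈ D.Ass ↔ ∃ x ∈ AssGen f F hF, MaxIn f (closure {x}) z := by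
    constructor
    · intro h
      obtain ⟨x, hx, hxd, hxz⟩ := (hAD z hz0 (D.δ z)).1 (D.mem_AssDim.2 ⟨z, h, specializes_rfl, rfl, rfl⟩)
      replace hxd : D.δ x = D.δ z := hxd
      refine ⟨x, hx, hxz.mem_closure, fun z' hz' hzf hsp => ?_⟩
      by_contra hne
      have h1 := D.strict z z' hsp hzf hne
      have h2 := hbd x hx z' hzf hz'
      omega
    · rintro ⟨x, hx, hzm⟩
      obtain ⟨w, hw, hwz, hwf, hwd⟩ := D.mem_AssDim.1
        ((hAD z hz0 (D.δ x)).2 ⟨x, hx, rfl, specializes_iff_mem_closure.2 hzm.1⟩)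
      by_contra hn
      have h1 := D.strict z w hwz hwf fun e => hn (e ▸ hw)
      have h2 := hd x hx z rfl hzm
      omega
  refine ⟨ha, fun x hx x' hx' hm hm' => ?_, fun x hx hm => ?_⟩
  · by_contra hne
    by_cases hs : x' ⤳ x
    · have hs' : ¬ x ⤳ x' := fun h => hne (h.antisymm hs).eq
      have := hlt x' hx' x hx hs' hm'.1 hm.1
      have := hd x' hx' z rfl hm'
      omega
    · have := hlt x hx x' hx' hs hm.1 hm'.1
      have := hd x hx z rfl hm
      omega
  · constructor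
    · intro h y hy hyx
      by_contra hne
      have hzy : z ∈ closure {y} :=
        (hyx.trans (specializes_iff_mem_closure.2 hm.1)).mem_closure
      obtain ⟨g, hg, hgs, hgz⟩ := exists_maxIn f isClosed_closure hzy
      have hgA : g ∈ D.Ass := by
        have hg0 : f g ∈ U₀ := hgs ▸ hz0
        obtain ⟨w, hw, hwg, hwf, hwd⟩ := D.mem_AssDim.1
          ((hAD g hg0 (D.δ y)).2 ⟨y, hy, rfl, specializes_iff_mem_closure.2 hg.1⟩)
        by_contra hn
        have h1 := D.strict g w hwg hwf fun e => hn (e ▸ hw)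
        have h2 := hd y hy g hgs hg
        omega
      have e := h g hgA hgs hgz
      have h1 := hd x hx z rfl hm
      have h2 := hd y hy g hgs hg
      have h3 := D.strict x y hyx (hy.2.trans hx.2.symm) hne
      rw [e] at h2
      omega
    · intro h y hy hyf hyz
      by_contra hne
      have h0 := D.strict z y hyz hyf hne
      obtain ⟨x', hx', hxd', hxy'⟩ := (hAD y (hyf ▸ hz0) (D.δ y)).1
        (D.mem_AssDim.2 ⟨y, hy, specializes_rfl, rfl, rfl⟩)
      have h1 := hd x hx z rfl hm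
      by_cases hs : x' ⤳ x
      · replace hxd' : D.δ x' = D.δ y := hxd'
        have e := h x' hx' hs
        rw [e] at hxd'
        omega
      · have := hlt x hx x' hx' hs hm.1 (hxy'.trans hyz).mem_closure
        omega

end Main

end Groth.L06.AssGeneric
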