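import Groth.Agent.L06.J2
import Mathlib.Algebra.DualNumber
import Mathlib.RingTheory.Derivation.Lie
import Mathlib.RingTheory.Derivation.Basic
import Mathlib.Algebra.CharP.Algebra
import Mathlib.Algebra.CharP.Lemmas
import Mathlib.RingTheory.Localization.FractionRing
import Mathlib.Data.Nat.Choose.Dvd
import Mathlib.Data.Nat.Prime.Factorial
import Mathlib.Algebra.CharP.Frobenius

/-! Derivations of the fraction field with bounded denominators. -/

set_option autoImplicit false
set_option linter.style.haveILetI false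
universe u

namespace Groth.L06.BddDer

open TrivSqZeroExt

variable {A K : Type u} [CommRing A] [Field K] [Algebra A K]

/-- the subalgebra `A[1/f]` of `K` -/
def away (f : A) : Subalgebra A K where
  carrier := {x | ∃ (n : ℕ) (s : A), algebraMap A K f ^ n * x = algebraMap A K s}
  mul_mem' := by
    rintro x y ⟨n, s, hs⟩ ⟨m, t, ht⟩
    exact ⟨n + m, s * t, by rw [map_mul, ← hs, ← ht, pow_add]; ring⟩
  add_mem' := by
    rintro x y ⟨n, s, hs⟩ ⟨m, t, ht⟩
    exact ⟨n + m, f ^ m * s + f ^ n * t, by rw [map_add, map_mul, map_mul, ← hs, ← ht, map_pow, map_pow, pow_add]; ring⟩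
  algebraMap_mem' r := ⟨0, r, by simp⟩

theorem away_mono {f g : A} (h : f ∣ g) : away (K := K) f ≤ away g := by
  obtain ⟨c, rfl⟩ := h
  rintro x ⟨n, s, hs⟩
  exact ⟨n, c ^ n * s, by rw [map_mul, map_mul, mul_pow, map_pow, ← hs]; ring⟩

theorem mem_away_of_mul {f : A} {x : K} {n : ℕ} (h : algebraMap A K f ^ n * x ∈ away f) : x ∈ away f := by
  obtain ⟨m, s, hs⟩ := h
  exact ⟨m + n, s, by rw [pow_add, mul_assoc, hs]⟩

/-- bounded denominators -/
def Bdd (A : Type u) [CommRing A] [Algebra A K] (D : Derivation ℤ K K) : Prop :=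
  ∃ f : A, f ≠ 0 ∧ ∀ r : A, D (algebraMap A K r) ∈ away f

theorem mapsTo_away [FaithfulSMul A K] (D : Derivation ℤ K K) {f : A} (hf : f ≠ 0)
    (h : ∀ r : A, D (algebraMap A K r) ∈ away f) {x : K} (hx : x ∈ away f) : D x ∈ away f := by
  obtain ⟨n, s, hs⟩ := hx
  refine mem_away_of_mul (n := n) ?_
  have h1 : D (algebraMap A K f ^ n * x) = algebraMap A K f ^ n * D x + x * D (algebraMap A K (f ^ n)) := by
    rw [D.leibniz, smul_eq_mul, smul_eq_mul, map_pow (algebraMap A K)]
  rw [show algebraMap A K f ^ n * D x = D (algebraMap A K f ^ n * x) - x * D (algebraMap A K (f ^ n)) by rw [h1]; ring, hs]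
  exact sub_mem (h s) (mul_mem ⟨n, s, hs⟩ (h _))

theorem Bdd.bracket [IsDomain A] [FaithfulSMul A K] {D E : Derivation ℤ K K} (hD : Bdd A D) (hE : Bdd A E) : Bdd A ⁅D, E⁆ := by
  obtain ⟨f, hf, h⟩ := hD
  obtain ⟨g, hg, h'⟩ := hE
  have hfg : f * g ≠ 0 := mul_ne_zero hf hg
  have hD' : ∀ r, D (algebraMap A K r) ∈ away (f * g) := fun r => away_mono (dvd_mul_right f g) (h r)
  have hE' : ∀ r, E (algebraMap A K r) ∈ away (f * g) := fun r => away_mono (dvd_mul_left g f) (h' r)
  refine ⟨f * g, hfg, fun r => ?_⟩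
  rw [Derivation.commutator_apply]
  exact sub_mem (mapsTo_away D hfg hD' (hE' r)) (mapsTo_away E hfg hE' (hD' r))

theorem Bdd.smul [IsDomain A] [IsFractionRing A K] {D : Derivation ℤ K K} (hD : Bdd A D) (c : K) : Bdd A (c • D) := by
  obtain ⟨f, hf, h⟩ := hD
  obtain ⟨a, b, hb, rfl⟩ := IsFractionRing.div_surjective (A := A) c
  refine ⟨f * b, mul_ne_zero hf (nonZeroDivisors.ne_zero hb), fun r => ?_⟩
  rw [Derivation.smul_apply, smul_eq_mul]
  refine mul_mem ⟨1, f * a, ?_⟩ (away_mono (dvd_mul_right f b) (h r))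
  have hb0 : algebraMap A K b ≠ 0 := (map_ne_zero_iff _ (IsFractionRing.injective A K)).mpr (nonZeroDivisors.ne_zero hb)
  rw [pow_one, map_mul, map_mul, mul_assoc, mul_div_cancel₀ _ hb0]

theorem Bdd.sub [IsDomain A] {D E : Derivation ℤ K K} (hD : Bdd A D) (hE : Bdd A E) : Bdd A (D - E) := by
  obtain ⟨f, hf, h⟩ := hD
  obtain ⟨g, hg, h'⟩ := hE
  refine ⟨f * g, mul_ne_zero hf hg, fun r => ?_⟩
  rw [Derivation.sub_apply]
  exact sub_mem (away_mono (dvd_mul_right f g) (h r)) (away_mono (dvd_mul_left g f) (h' r))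

theorem Bdd.iterate [IsDomain A] [FaithfulSMul A K] {D : Derivation ℤ K K} (hD : Bdd A D) :
    ∃ f : A, f ≠ 0 ∧ ∀ (n : ℕ) (r : A), D^[n] (algebraMap A K r) ∈ away f := by
  obtain ⟨f, hf, h⟩ := hD
  refine ⟨f, hf, fun n r => ?_⟩
  induction n with
  | zero => exact Subalgebra.algebraMap_mem _ r
  | succ n ih => rw [Function.iterate_succ_apply']; exact mapsTo_away D hf h ih

/-- in characteristic `p` the `p`-th iterate of a derivation is a derivation -/
noncomputable def pPow {K : Type u} [Field K] (p : ℕ) [Fact p.Prime] [CharP K p] (D : Derivation ℤ K K) :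
    Derivation ℤ K K :=
  Derivation.mk' ((D.toLinearMap : Module.End ℤ K) ^ p) fun a b => by
    have hD : ∀ (n : ℕ) (z : K), ((D.toLinearMap : Module.End ℤ K) ^ n) z = D^[n] z := fun n z => by
      rw [Module.End.pow_apply]; rfl
    simp only [hD, smul_eq_mul]
    have hL : ∀ n : ℕ, D^[n] (a * b) = ∑ i ∈ Finset.range (n + 1), (n.choose i : K) * (D^[i] a * D^[n - i] b) := by
      intro n
      induction n with
      | zero => simp
      | succ n ih =>
        rw [Function.iterate_succ_apply', ih, map_sum]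
        have hstep : ∀ i ∈ Finset.range (n + 1), D ((n.choose i : K) * (D^[i] a * D^[n - i] b)) =
            (n.choose i : K) * (D^[i + 1] a * D^[n - i] b) + (n.choose i : K) * (D^[i] a * D^[n + 1 - i] b) := by
          intro i hi
          have hi' : n + 1 - i = n - i + 1 := by have := Finset.mem_range.mp hi; omega
          rw [D.leibniz, D.map_natCast, smul_zero, add_zero, smul_eq_mul, D.leibniz, smul_eq_mul, smul_eq_mul, hi',
            Function.iterate_succ_apply', Function.iterate_succ_apply']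
          ring
        rw [Finset.sum_congr rfl hstep, Finset.sum_add_distrib,
          Finset.sum_range_succ' (fun i => ((n + 1).choose i : K) * (D^[i] a * D^[n + 1 - i] b))]
        simp only [Nat.choose_succ_succ', Nat.cast_add, add_mul, Finset.sum_add_distrib, Nat.choose_zero_right,
          Nat.cast_one, one_mul, Function.iterate_zero_apply, Nat.sub_zero, Nat.add_sub_add_right]
        have key : ∑ i ∈ Finset.range (n + 1), (n.choose (i + 1) : K) * (D^[i + 1] a * D^[n - i] b) + a * D^[n + 1] b =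
            ∑ i ∈ Finset.range (n + 1), (n.choose i : K) * (D^[i] a * D^[n + 1 - i] b) := by
          rw [Finset.sum_range_succ' (fun i => (n.choose i : K) * (D^[i] a * D^[n + 1 - i] b)),
            Finset.sum_range_succ _ n]
          simp [Nat.choose_succ_self]
        rw [← key]
        ring
    have hp : p.Prime := Fact.out
    rw [hL p, Finset.sum_eq_add_of_mem 0 p (Finset.mem_range.mpr (Nat.succ_pos p)) (Finset.mem_range.mpr (Nat.lt_succ_self p)) hp.ne_zero.symm
      (fun i hi hne => by
        have hi' := Finset.mem_range.mp hi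
        rw [(CharP.cast_eq_zero_iff K p _).mpr (hp.dvd_choose_self hne.1 (by omega)), zero_mul])]
    simp
    ring

theorem pPow_apply {K : Type u} [Field K] (p : ℕ) [Fact p.Prime] [CharP K p] (D : Derivation ℤ K K) (x : K) :
    pPow p D x = D^[p] x := by
  show ((D.toLinearMap : Module.End ℤ K) ^ p) x = _
  rw [Module.End.pow_apply]; rfl

theorem Bdd.pPow [IsDomain A] [FaithfulSMul A K] (p : ℕ) [Fact p.Prime] [CharP K p] {D : Derivation ℤ K K}
    (hD : Bdd A D) : Bdd A (BddDer.pPow p D) := by
  obtain ⟨f, hf, h⟩ := hD.iterate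
  exact ⟨f, hf, fun r => by rw [pPow_apply]; exact h p r⟩

/-- derivations separate non `p`-th powers -/
def Sep (A K : Type u) [CommRing A] [Field K] [Algebra A K] (p : ℕ) : Prop :=
  ∀ a : K, (∀ b : K, b ^ p ≠ a) → ∃ D : Derivation ℤ K K, Bdd A D ∧ D a ≠ 0

theorem Sep.exists_one [IsDomain A] [IsFractionRing A K] {p : ℕ} (h : Sep A K p) {a : K} (ha : ∀ b : K, b ^ p ≠ a) :
    ∃ D : Derivation ℤ K K, Bdd A D ∧ D a = 1 := by
  obtain ⟨D, hD, hDa⟩ := h a ha
  exact ⟨(D a)⁻¹ • D, hD.smul _, by rw [Derivation.smul_apply, smul_eq_mul, inv_mul_cancel₀ hDa]⟩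

/-- Jacobson's correspondence in degree one: the common constants of the derivations killing `a` -/
theorem Sep.mem_span [IsDomain A] [IsFractionRing A K] {p : ℕ} [Fact p.Prime] [CharP K p] (h : Sep A K p)
    {a : K} (ha : ∀ b : K, b ^ p ≠ a) {c : K} (hc : ∀ D : Derivation ℤ K K, Bdd A D → D a = 0 → D c = 0) :
    ∃ v : ℕ → K, c = ∑ i ∈ Finset.range p, v i ^ p * a ^ i := by
  classical
  have hp : p.Prime := Fact.out
  obtain ⟨D₀, hD₀, hD₀a⟩ := h.exists_one ha
  have hkill : ∀ i c, (∀ D : Derivation ℤ K K, Bdd A D → D a = 0 → D c = 0) →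
      ∀ D : Derivation ℤ K K, Bdd A D → D a = 0 → D (D₀^[i] c) = 0 := by
    intro i
    induction i with
    | zero => exact fun c hc => hc
    | succ i ih =>
      intro c hc D hD hDa
      rw [Function.iterate_succ_apply']
      have h1 := ih c hc ⁅D, D₀⁆ (hD.bracket hD₀) (by
        rw [Derivation.commutator_apply, hD₀a, hDa, Derivation.map_one_eq_zero, map_zero, sub_zero])
      rwa [Derivation.commutator_apply, ih c hc D hD hDa, map_zero, sub_zero] at h1
  have hker : ∀ c, (∀ D : Derivation ℤ K K, Bdd A D → D a = 0 → D c = 0) → D₀ c = 0 → ∃ b, b ^ p = c := by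
    intro c hc h0
    by_contra hcon
    push Not at hcon
    obtain ⟨D, hD, hDc⟩ := h c hcon
    refine hDc ?_
    have := hc (D - D a • D₀) (hD.sub (hD₀.smul _)) (by
      rw [Derivation.sub_apply, Derivation.smul_apply, hD₀a, smul_eq_mul, mul_one, sub_self])
    rwa [Derivation.sub_apply, Derivation.smul_apply, h0, smul_zero, sub_zero] at this
  have hfr : ∀ (b : K), D₀ (b ^ p) = 0 := fun b => by
    rw [D₀.leibniz_pow, nsmul_eq_mul, CharP.cast_eq_zero, zero_mul]
  have hai : ∀ i, D₀^[i] (a ^ i) = (i.factorial : K) ∧ D₀^[i + 1] (a ^ i) = 0 := by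
    intro i
    induction i with
    | zero => exact ⟨by simp, by simp [Derivation.map_one_eq_zero]⟩
    | succ i ih =>
      have h1 : D₀ (a ^ (i + 1)) = ((i + 1 : ℕ) : K) * a ^ i := by
        rw [D₀.leibniz_pow, hD₀a, Nat.add_sub_cancel, smul_eq_mul, mul_one, nsmul_eq_mul]
      have hlin : ∀ (j : ℕ), D₀^[j] (((i + 1 : ℕ) : K) * a ^ i) = ((i + 1 : ℕ) : K) * D₀^[j] (a ^ i) := by
        intro j
        induction j with
        | zero => rfl
        | succ j ihj =>
          rw [Function.iterate_succ_apply', Function.iterate_succ_apply', ihj, D₀.leibniz, D₀.map_natCast,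
            smul_zero, add_zero, smul_eq_mul]
      refine ⟨?_, ?_⟩
      · rw [Function.iterate_succ_apply, h1, hlin, ih.1, Nat.factorial_succ, Nat.cast_mul]
      · rw [Function.iterate_succ_apply, h1, hlin, ih.2, mul_zero]
  suffices H : ∀ n, n ≤ p → ∀ c, (∀ D : Derivation ℤ K K, Bdd A D → D a = 0 → D c = 0) → D₀^[n] c = 0 →
      ∃ v : ℕ → K, c = ∑ i ∈ Finset.range p, v i ^ p * a ^ i by
    refine H p le_rfl c hc ?_
    have := hc (BddDer.pPow p D₀) (hD₀.pPow p) (by
      rw [pPow_apply]
      obtain ⟨q, hq⟩ : ∃ q, p = q + 2 := ⟨p - 2, by have := hp.two_le; omega⟩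
      rw [hq, Function.iterate_succ_apply, hD₀a, Function.iterate_succ_apply, Derivation.map_one_eq_zero]
      exact (Function.iterate_fixed (map_zero _) q))
    rwa [pPow_apply] at this
  intro n
  induction n with
  | zero => exact fun _ c _ h0 => ⟨fun _ => 0, by simpa [zero_pow hp.ne_zero] using h0⟩
  | succ n ih =>
    intro hn c hc h0
    obtain ⟨b, hb⟩ := hker _ (hkill n c hc) (by rw [← Function.iterate_succ_apply' D₀]; exact h0)
    have hfac : (n.factorial : K) ≠ 0 := by
      rw [Ne, CharP.cast_eq_zero_iff K p, hp.dvd_factorial]; omega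
    let w : K := b / (n.factorial : K)
    have hw : w ^ p * (n.factorial : K) ^ p = b ^ p := by rw [← mul_pow, div_mul_cancel₀ _ hfac]
    have hfp : (n.factorial : K) ^ p = (n.factorial : K) := by
      exact map_natCast (frobenius K p) n.factorial
    have hlin : ∀ (j : ℕ) (x : K), D₀^[j] (w ^ p * x) = w ^ p * D₀^[j] x := by
      intro j x
      induction j with
      | zero => rfl
      | succ j ihj =>
        rw [Function.iterate_succ_apply', Function.iterate_succ_apply', ihj, D₀.leibniz, hfr, smul_zero, add_zero, smul_eq_mul]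
    have hsub : ∀ (j : ℕ) (x y : K), D₀^[j] (x - y) = D₀^[j] x - D₀^[j] y := by
      intro j x y
      induction j with
      | zero => rfl
      | succ j ihj => rw [Function.iterate_succ_apply', Function.iterate_succ_apply', Function.iterate_succ_apply', ihj, map_sub]
    obtain ⟨v, hv⟩ := ih (by omega) (c - w ^ p * a ^ n) (fun D hD hDa => by
        rw [map_sub, hc D hD hDa, D.leibniz, D.leibniz_pow, D.leibniz_pow, hDa]
        simp [nsmul_eq_mul, CharP.cast_eq_zero K p]) (by
        rw [hsub, hlin, (hai n).1, ← hb, sub_eq_zero]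
        conv_rhs => rw [← hfp, hw])
    have hnr : n ∈ Finset.range p := Finset.mem_range.mpr hn
    refine ⟨Function.update v n (v n + w), ?_⟩
    rw [sub_eq_iff_eq_add] at hv
    rw [hv, ← Finset.add_sum_erase _ _ hnr, ← Finset.add_sum_erase _ _ hnr, Function.update_self, add_pow_char (p := p)]
    have : ∑ x ∈ (Finset.range p).erase n, Function.update v n (v n + w) x ^ p * a ^ x = ∑ x ∈ (Finset.range p).erase n, v x ^ p * a ^ x :=
      Finset.sum_congr rfl fun x hx => by rw [Function.update_of_ne (Finset.ne_of_mem_erase hx)]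
    rw [this]; ring

end Groth.L06.BddDer
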