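import Mathlib.LinearAlgebra.TensorProduct.RightExactness
import Mathlib.LinearAlgebra.Dimension.Constructions
import Mathlib.LinearAlgebra.FiniteDimensional.Lemmas
import Mathlib.RingTheory.SimpleModule.Basic
import Mathlib.RingTheory.Ideal.Quotient.Operations
import Mathlib.LinearAlgebra.FiniteDimensional.Basic
import Mathlib.RingTheory.TensorProduct.Basic

/-! Dimension of a quasi-finite algebra over a finite algebra over a field. -/

set_option autoImplicit false
set_option maxSynthPendingDepth 3
set_option linter.style.haveILetI false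

universe u

open TensorProduct

namespace Groth.L06.BddFibAlg

variable {k : Type u} [Field k] {A : Type u} [CommRing A] [Algebra k A]
  {B : Type u} [AddCommGroup B] [Module A B]

/-- The bound on quotients at maximal ideals. -/
def QuotBound (B : Type u) [AddCommGroup B] [Module A B] (n : ℕ) : Prop :=
  ∀ q : Ideal A, q.IsMaximal → Module.Finite (A ⧸ q) ((A ⧸ q) ⊗[A] B) ∧
    Module.finrank (A ⧸ q) ((A ⧸ q) ⊗[A] B) ≤ n

theorem simple_case (n : ℕ) (h : QuotBound (A := A) B n) (q : Ideal A) [hq : q.IsMaximal]
    [Module.Finite k (A ⧸ q)] :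
    Module.Finite k ((A ⧸ q) ⊗[A] B) ∧ Module.finrank k ((A ⧸ q) ⊗[A] B) ≤ n * Module.finrank k (A ⧸ q) := by
  obtain ⟨hf, hn⟩ := h q hq
  letI : Field (A ⧸ q) := Ideal.Quotient.field q
  haveI := hf
  haveI : Module.Finite k ((A ⧸ q) ⊗[A] B) := Module.Finite.trans (A ⧸ q) _
  refine ⟨inferInstance, ?_⟩
  rw [← Module.finrank_mul_finrank k (A ⧸ q) ((A ⧸ q) ⊗[A] B), mul_comm n]
  exact Nat.mul_le_mul_left _ hn

theorem finrank_tensor_le (n : ℕ) (h : QuotBound (A := A) B n) (d : ℕ) :
    ∀ (M : Type u) [AddCommGroup M] [Module A M] [Module k M] [IsScalarTower k A M] [Module.Finite k M],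
      Module.finrank k M ≤ d → Module.Finite k (M ⊗[A] B) ∧ Module.finrank k (M ⊗[A] B) ≤ n * Module.finrank k M := by
  induction d using Nat.strong_induction_on with
  | _ d ih =>
    intro M _ _ _ _ _ hd
    by_cases hM : Subsingleton M
    · haveI : Subsingleton (M ⊗[A] B) := subsingleton_of_forall_eq 0 fun z => by
        induction z using TensorProduct.induction_on with
        | zero => rfl
        | tmul m b => rw [Subsingleton.elim m 0, TensorProduct.zero_tmul]
        | add a b ha hb => rw [ha, hb, add_zero]
      exact ⟨inferInstance, by rw [Module.finrank_zero_of_subsingleton]; exact Nat.zero_le _⟩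
    haveI := not_subsingleton_iff_nontrivial.mp hM
    haveI : Module.Finite A M := Module.Finite.of_restrictScalars_finite k A M
    haveI : Nontrivial (Submodule A M) := inferInstance
    obtain ⟨N, hN, -⟩ := (eq_top_or_exists_le_coatom (⊥ : Submodule A M)).resolve_left bot_ne_top
    haveI : IsSimpleModule A (M ⧸ N) := isSimpleModule_iff_isCoatom.mpr hN
    obtain ⟨q, hq, ⟨e⟩⟩ := isSimpleModule_iff_quot_maximal.mp (inferInstance : IsSimpleModule A (M ⧸ N))
    haveI : Module.Finite k N := Module.Finite.of_injective (N.subtype.restrictScalars k) N.subtype_injective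
    haveI : Module.Finite k (M ⧸ N) := Module.Finite.of_surjective (N.mkQ.restrictScalars k) N.mkQ_surjective
    haveI : Module.Finite k (A ⧸ q) := Module.Finite.equiv (e.restrictScalars k)
    haveI := hq
    have hsum : Module.finrank k (M ⧸ N) + Module.finrank k N = Module.finrank k M := by
      rw [← Submodule.finrank_quotient_add_finrank (N.restrictScalars k)]
      congr 1
    have hpos : 0 < Module.finrank k (M ⧸ N) := by
      haveI := IsSimpleModule.nontrivial A (M ⧸ N)
      exact Module.finrank_pos
    obtain ⟨hNf, hNn⟩ := ih (Module.finrank k N) (by omega) N le_rfl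
    obtain ⟨hQf, hQn⟩ := simple_case (k := k) n h q
    let E : (M ⧸ N) ⊗[A] B ≃ₗ[k] (A ⧸ q) ⊗[A] B := (LinearEquiv.rTensor B e).restrictScalars k
    let f : N ⊗[A] B →ₗ[k] M ⊗[A] B := (LinearMap.rTensor B N.subtype).restrictScalars k
    let g : M ⊗[A] B →ₗ[k] (M ⧸ N) ⊗[A] B := (LinearMap.rTensor B N.mkQ).restrictScalars k
    have hex : LinearMap.ker g = LinearMap.range f := by
      ext z
      exact (rTensor_exact (f := N.subtype) (g := N.mkQ) B (LinearMap.exact_subtype_mkQ N) N.mkQ_surjective z)
    have hg : Function.Surjective g := LinearMap.rTensor_surjective B N.mkQ_surjective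
    haveI := hNf
    haveI := hQf
    haveI : Module.Finite k ((M ⧸ N) ⊗[A] B) := Module.Finite.equiv E.symm
    haveI : Module.Finite k (LinearMap.ker g) := hex ▸ inferInstance
    haveI : Module.Finite k ((M ⊗[A] B) ⧸ LinearMap.ker g) :=
      Module.Finite.equiv (LinearMap.quotKerEquivOfSurjective g hg).symm
    haveI : Module.Finite k (M ⊗[A] B) := Module.Finite.of_submodule_quotient (LinearMap.ker g)
    refine ⟨inferInstance, ?_⟩
    rw [← Submodule.finrank_quotient_add_finrank (LinearMap.ker g),
      (LinearMap.quotKerEquivOfSurjective g hg).finrank_eq, E.finrank_eq, hex, ← hsum, Nat.mul_add]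
    refine add_le_add (hQn.trans (le_of_eq ?_)) (f.finrank_range_le.trans hNn)
    rw [(e.restrictScalars k).finrank_eq]

theorem finrank_le [Module k B] [IsScalarTower k A B] [Module.Finite k A] (n : ℕ) (h : QuotBound (A := A) B n) :
    Module.Finite k B ∧ Module.finrank k B ≤ n * Module.finrank k A := by
  obtain ⟨hf, hn⟩ := finrank_tensor_le (k := k) n h (Module.finrank k A) A le_rfl
  let e : A ⊗[A] B ≃ₗ[k] B := (TensorProduct.lid A B).restrictScalars k
  haveI := hf
  exact ⟨Module.Finite.equiv e, e.finrank_eq ▸ hn⟩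

end Groth.L06.BddFibAlg
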