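import Groth.Agent.L00.BddFib
import Groth.Agent.L00.BddFibPoints
import Groth.Agent.L06.BddFibAlg
import Mathlib.AlgebraicGeometry.Limits
import Mathlib.AlgebraicGeometry.Artinian
import Mathlib.AlgebraicGeometry.Pullbacks
import Mathlib.AlgebraicGeometry.Morphisms.Flat
import Mathlib.AlgebraicGeometry.Morphisms.UnderlyingMap
import Mathlib.RingTheory.Flat.FaithfullyFlat.Algebra

/-! Degrees of fibres: composition, covers, descent along surjective flat maps. -/

set_option autoImplicit false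
set_option maxSynthPendingDepth 3
set_option linter.style.haveILetI false
set_option backward.isDefEq.respectTransparency.types false
set_option backward.isDefEq.respectTransparency false

universe u

open CategoryTheory CategoryTheory.Limits AlgebraicGeometry TensorProduct

noncomputable section

namespace Groth.L06.BddFibDeg

open Groth.L00.BddFib (pt)

variable {k : Type u} [Field k]

theorem spec_iff (C : Type u) [CommRing C] [Algebra k C] (n : ℕ) :
    BddFib.FiniteOfDegLE (CommRingCat.of k) (Spec.map (CommRingCat.ofHom (algebraMap k C))) n ↔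
      Module.Finite k C ∧ Module.finrank k C ≤ n := by
  rw [Groth.L00.BddFib.iff]
  haveI : Flat (Spec.map (CommRingCat.ofHom (algebraMap k C))) := Groth.L00.BddFib.flat_toField _
  constructor
  · rintro ⟨hp, hn⟩
    haveI : Module.Finite k C := RingHom.finite_algebraMap.1 ((IsFinite.SpecMap_iff _).1 hp)
    refine ⟨inferInstance, le_trans (le_of_eq ?_) hn⟩
    rw [Scheme.Hom.finrank_SpecMap_algebraMap]
    simp
  · rintro ⟨hf, hn⟩
    haveI := hf
    haveI : IsFinite (Spec.map (CommRingCat.ofHom (algebraMap k C))) :=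
      (IsFinite.SpecMap_iff _).2 (RingHom.finite_algebraMap.2 hf)
    refine ⟨inferInstance, le_trans (le_of_eq ?_) hn⟩
    rw [Scheme.Hom.finrank_SpecMap_algebraMap]
    simp

theorem discrete {T : Scheme.{u}} (p : T ⟶ Spec (CommRingCat.of k)) (n : ℕ)
    (h : BddFib.FiniteOfDegLE (CommRingCat.of k) p n) : Finite T ∧ DiscreteTopology T := by
  refine ⟨(Groth.L00.BddFib.points p n h).1, ?_⟩
  letI : Algebra k Γ(T, ⊤) := BddFib.secAlgebra (CommRingCat.of k) p
  obtain ⟨hT, hfin, -⟩ := h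
  haveI : Module.Finite k Γ(T, ⊤) := hfin
  haveI : IsArtinianRing Γ(T, ⊤) := IsArtinianRing.of_finite k _
  haveI : DiscreteTopology (Spec Γ(T, ⊤)) := inferInstanceAs (DiscreteTopology (PrimeSpectrum _))
  exact T.isoSpec.hom.homeomorph.symm.discreteTopology

theorem comp_field_affine {T U : Scheme.{u}} [IsAffine T] [IsAffine U] (a : T ⟶ U)
    (p : U ⟶ Spec (CommRingCat.of k)) (n m : ℕ) (ha : BddFib.FibreDegLE a n)
    (hp : BddFib.FiniteOfDegLE (CommRingCat.of k) p m) :
    BddFib.FiniteOfDegLE (CommRingCat.of k) (a ≫ p) (n * m) := by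
  letI : Algebra k Γ(U, ⊤) := BddFib.secAlgebra (CommRingCat.of k) p
  letI : Algebra k Γ(T, ⊤) := BddFib.secAlgebra (CommRingCat.of k) (a ≫ p)
  letI : Algebra Γ(U, ⊤) Γ(T, ⊤) := a.appTop.hom.toAlgebra
  haveI : IsScalarTower k Γ(U, ⊤) Γ(T, ⊤) := IsScalarTower.of_algebraMap_eq fun c => by
    show ((Scheme.ΓSpecIso (CommRingCat.of k)).inv ≫ (a ≫ p).appTop).hom c =
      a.appTop.hom (((Scheme.ΓSpecIso (CommRingCat.of k)).inv ≫ p.appTop).hom c)
    rw [Scheme.Hom.comp_appTop, ← Category.assoc]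
    rfl
  obtain ⟨_, hfin, hm⟩ := hp
  haveI : Module.Finite k Γ(U, ⊤) := hfin
  replace hm : Module.finrank k Γ(U, ⊤) ≤ m := hm
  have hq : Groth.L06.BddFibAlg.QuotBound (A := Γ(U, ⊤)) Γ(T, ⊤) n := by
    intro q hq
    letI : Field (Γ(U, ⊤) ⧸ q) := Ideal.Quotient.field q
    let g := Spec.map (CommRingCat.ofHom (algebraMap Γ(U, ⊤) (Γ(U, ⊤) ⧸ q))) ≫ U.isoSpec.inv
    have h1 := (Groth.L00.BddFib.forall_field_iff a n).1 ha (Γ(U, ⊤) ⧸ q) g
    have sq₀ : IsPullback T.isoSpec.inv (Spec.map (CommRingCat.ofHom (algebraMap Γ(U, ⊤) Γ(T, ⊤)))) a U.isoSpec.inv :=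
      IsPullback.of_horiz_isIso ⟨(Scheme.isoSpec_inv_naturality a).symm⟩
    have sq := (IsPullback.of_hasPullback
      (Spec.map (CommRingCat.ofHom (algebraMap Γ(U, ⊤) (Γ(U, ⊤) ⧸ q))))
      (Spec.map (CommRingCat.ofHom (algebraMap Γ(U, ⊤) Γ(T, ⊤))))).flip.paste_horiz sq₀
    have h2 := Groth.L00.BddFib.of_iso _ sq.isoPullback h1
    rw [sq.isoPullback_hom_snd] at h2
    have h3 := Groth.L00.BddFib.of_iso _ (pullbackSpecIso Γ(U, ⊤) (Γ(U, ⊤) ⧸ q) Γ(T, ⊤)).symm h2
    rw [Iso.symm_hom, pullbackSpecIso_inv_fst'] at h3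
    exact (spec_iff _ n).1 h3
  obtain ⟨hf, hn⟩ := Groth.L06.BddFibAlg.finrank_le (k := k) n hq
  exact ⟨inferInstance, hf, hn.trans (Nat.mul_le_mul_left n hm)⟩

theorem comp_field {T U : Scheme.{u}} (a : T ⟶ U) (p : U ⟶ Spec (CommRingCat.of k)) (n m : ℕ)
    (ha : BddFib.FibreDegLE a n) (hp : BddFib.FiniteOfDegLE (CommRingCat.of k) p m) :
    BddFib.FiniteOfDegLE (CommRingCat.of k) (a ≫ p) (n * m) := by
  obtain ⟨hU, hUd⟩ := discrete p m hp
  have hfib : ∀ y : U, Finite (a ⁻¹' {y}) ∧ DiscreteTopology (a ⁻¹' {y}) := fun y => by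
    obtain ⟨h1, h2⟩ := discrete (k := U.residueField y) (a.fiberToSpecResidueField y) n (ha y)
    exact ⟨Finite.of_equiv _ (a.fiberHomeo y).toEquiv, (a.fiberHomeo y).discreteTopology⟩
  haveI : Finite T := by
    haveI := fun y => (hfib y).1
    refine Finite.of_injective (fun t : T => (⟨a t, t, rfl⟩ : Σ y : U, a ⁻¹' {y})) fun s t h => ?_
    exact congrArg (fun z : Σ y : U, a ⁻¹' {y} => z.2.1) h
  haveI : DiscreteTopology T := by
    rw [discreteTopology_iff_isOpen_singleton]
    intro t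
    haveI := (hfib (a t)).2
    have ho : IsOpen (a ⁻¹' {a t}) := (isOpen_discrete _).preimage a.continuous
    have h1 : IsOpen ({⟨t, rfl⟩} : Set (a ⁻¹' {a t})) := isOpen_discrete _
    simpa using ho.isOpenMap_subtype_val _ h1
  haveI : IsAffine U := hp.1
  exact comp_field_affine a p n m ha hp

theorem comp {X Y Z : Scheme.{u}} (f : X ⟶ Y) (h : Y ⟶ Z) (n m : ℕ) (hf : BddFib.FibreDegLE f n)
    (hh : BddFib.FibreDegLE h m) : BddFib.FibreDegLE (f ≫ h) (n * m) := by
  rw [Groth.L00.BddFib.forall_field_iff]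
  intro k _ g
  have sq₁ := IsPullback.of_hasPullback f (pullback.fst h g)
  have sq := sq₁.paste_vert (IsPullback.of_hasPullback h g)
  have h1 := comp_field (pullback.snd f (pullback.fst h g)) (pullback.snd h g) n m
    (Groth.L00.BddFib.baseChange sq₁ n hf) ((Groth.L00.BddFib.forall_field_iff h m).1 hh k g)
  have h2 := Groth.L00.BddFib.of_iso _ sq.isoPullback.symm h1
  rwa [Iso.symm_hom, sq.isoPullback_inv_snd] at h2

theorem mono {X Y : Scheme.{u}} (f : X ⟶ Y) {n m : ℕ} (h : BddFib.FibreDegLE f n) (hnm : n ≤ m) :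
    BddFib.FibreDegLE f m := fun y => ⟨(h y).1, (h y).2.1, (h y).2.2.trans hnm⟩

theorem opens_field {T : Scheme.{u}} (W : T.Opens) (p : T ⟶ Spec (CommRingCat.of k)) (n : ℕ)
    (hp : BddFib.FiniteOfDegLE (CommRingCat.of k) p n) :
    BddFib.FiniteOfDegLE (CommRingCat.of k) (W.ι ≫ p) n := by
  have := comp_field W.ι p 1 n (Groth.L00.BddFib.immersion W.ι) hp
  rwa [one_mul] at this

theorem cover_field {T : Scheme.{u}} (p : T ⟶ Spec (CommRingCat.of k)) {ι : Type u} [Fintype ι]
    (W : ι → T.Opens) (hcov : ∀ t : T, ∃ i, t ∈ W i) (n : ι → ℕ)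
    (h : ∀ i, BddFib.FiniteOfDegLE (CommRingCat.of k) ((W i).ι ≫ p) (n i)) :
    BddFib.FiniteOfDegLE (CommRingCat.of k) p (∑ i, n i) := by
  have hd := fun i => discrete _ _ (h i)
  haveI : Finite T := by
    haveI := fun i => (hd i).1
    refine Finite.of_surjective (fun z : Σ i, ↥(W i).toScheme => (W z.1).ι z.2) fun t => ?_
    obtain ⟨i, hi⟩ := hcov t
    exact ⟨⟨i, ⟨t, hi⟩⟩, rfl⟩
  haveI : DiscreteTopology T := by
    rw [discreteTopology_iff_isOpen_singleton]
    intro t
    obtain ⟨i, hi⟩ := hcov t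
    haveI := (hd i).2
    have h1 : IsOpen ({⟨t, hi⟩} : Set ↥(W i).toScheme) := isOpen_discrete _
    have h2 := (W i).ι.isOpenEmbedding.isOpenMap _ h1
    rw [Set.image_singleton] at h2
    exact h2
  letI : Algebra k Γ(T, ⊤) := BddFib.secAlgebra (CommRingCat.of k) p
  letI alg : ∀ i, Algebra k Γ((W i).toScheme, ⊤) := fun i => BddFib.secAlgebra (CommRingCat.of k) ((W i).ι ≫ p)
  haveI : ∀ i, Module.Finite k Γ((W i).toScheme, ⊤) := fun i => (h i).2.1
  let r : ∀ i, Γ(T, ⊤) →ₗ[k] Γ((W i).toScheme, ⊤) := fun i =>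
    ({ (W i).ι.appTop.hom with
        commutes' := fun c => by
          show (W i).ι.appTop.hom (((Scheme.ΓSpecIso (CommRingCat.of k)).inv ≫ p.appTop).hom c) =
            ((Scheme.ΓSpecIso (CommRingCat.of k)).inv ≫ ((W i).ι ≫ p).appTop).hom c
          rw [Scheme.Hom.comp_appTop, ← Category.assoc]
          rfl } : Γ(T, ⊤) →ₐ[k] Γ((W i).toScheme, ⊤)).toLinearMap
  have hinj : Function.Injective (LinearMap.pi r) := by
    rw [injective_iff_map_eq_zero]
    intro s hs
    refine TopCat.Sheaf.eq_of_locally_eq' T.sheaf (fun i => (W i).ι ''ᵁ ⊤) ⊤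
      (fun i => homOfLE le_top) ?_ s 0 fun i => ?_
    · intro t _
      obtain ⟨i, hi⟩ := hcov t
      exact TopologicalSpace.Opens.mem_iSup.mpr ⟨i, ⟨⟨t, hi⟩, trivial, rfl⟩⟩
    · have h1 := congrFun hs i
      rw [map_zero]
      exact h1
  refine ⟨inferInstance, Module.Finite.of_injective _ hinj, ?_⟩
  refine (LinearMap.finrank_le_finrank_of_injective hinj).trans ?_
  rw [Module.finrank_pi_fintype]
  exact Finset.sum_le_sum fun i _ => (h i).2.2

theorem cover {X Y : Scheme.{u}} (f : X ⟶ Y) {ι : Type u} [Fintype ι] (V : ι → X.Opens)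
    (hcov : ∀ x : X, ∃ i, x ∈ V i) (n : ι → ℕ) (h : ∀ i, BddFib.FibreDegLE ((V i).ι ≫ f) (n i)) :
    BddFib.FibreDegLE f (∑ i, n i) := by
  rw [Groth.L00.BddFib.forall_field_iff]
  intro k _ g
  refine cover_field (pullback.snd f g) (fun i => pullback.fst f g ⁻¹ᵁ V i) (fun t => hcov _) n fun i => ?_
  have sq := ((isPullback_morphismRestrict (pullback.fst f g) (V i)).flip).paste_horiz (IsPullback.of_hasPullback f g).flip
  have h1 := Groth.L00.BddFib.of_iso _ sq.flip.isoPullback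
    ((Groth.L00.BddFib.forall_field_iff _ (n i)).1 (h i) k g)
  rwa [sq.flip.isoPullback_hom_snd] at h1

theorem app_injective {X Y : Scheme.{u}} (a : X ⟶ Y) [Flat a] [Surjective a] (V : Y.Opens) :
    Function.Injective (a.app V).hom := by
  intro s t hst
  apply TopCat.Presheaf.section_ext Y.sheaf V
  intro y hy
  obtain ⟨x, rfl⟩ := a.surjective y
  have hfl : (a.stalkMap x).hom.Flat := Flat.stalkMap a x
  algebraize [(a.stalkMap x).hom]
  haveI : IsLocalHom (algebraMap (Y.presheaf.stalk (a x)) (X.presheaf.stalk x)) :=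
    inferInstanceAs (IsLocalHom (a.stalkMap x).hom)
  haveI : Module.FaithfullyFlat (Y.presheaf.stalk (a x)) (X.presheaf.stalk x) :=
    Module.FaithfullyFlat.of_flat_of_isLocalHom
  apply FaithfulSMul.algebraMap_injective (Y.presheaf.stalk (a x)) (X.presheaf.stalk x)
  show (a.stalkMap x).hom (Y.presheaf.germ V (a x) hy s) = (a.stalkMap x).hom (Y.presheaf.germ V (a x) hy t)
  rw [Scheme.Hom.germ_stalkMap_apply, Scheme.Hom.germ_stalkMap_apply, hst]

theorem triangle_affine {T U : Scheme.{u}} [IsAffine U] (a : T ⟶ U) [Flat a] [Surjective a]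
    (p : U ⟶ Spec (CommRingCat.of k)) (n : ℕ) (h : BddFib.FiniteOfDegLE (CommRingCat.of k) (a ≫ p) n) :
    BddFib.FiniteOfDegLE (CommRingCat.of k) p n := by
  letI : Algebra k Γ(U, ⊤) := BddFib.secAlgebra (CommRingCat.of k) p
  letI : Algebra k Γ(T, ⊤) := BddFib.secAlgebra (CommRingCat.of k) (a ≫ p)
  haveI : Module.Finite k Γ(T, ⊤) := h.2.1
  let φ : Γ(U, ⊤) →ₐ[k] Γ(T, ⊤) :=
    { a.appTop.hom with
      commutes' := fun c => by
        show a.appTop.hom (((Scheme.ΓSpecIso (CommRingCat.of k)).inv ≫ p.appTop).hom c) =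
          ((Scheme.ΓSpecIso (CommRingCat.of k)).inv ≫ (a ≫ p).appTop).hom c
        rw [Scheme.Hom.comp_appTop, ← Category.assoc]
        rfl }
  have hinj : Function.Injective φ.toLinearMap := app_injective a ⊤
  exact ⟨inferInstance, Module.Finite.of_injective _ hinj,
    (LinearMap.finrank_le_finrank_of_injective hinj).trans h.2.2⟩

theorem triangle_field {T U : Scheme.{u}} (a : T ⟶ U) [Flat a] [Surjective a]
    (p : U ⟶ Spec (CommRingCat.of k)) (n : ℕ) (h : BddFib.FiniteOfDegLE (CommRingCat.of k) (a ≫ p) n) :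
    BddFib.FiniteOfDegLE (CommRingCat.of k) p n := by
  obtain ⟨hT, -⟩ := discrete _ n h
  haveI : Finite U := Finite.of_surjective _ a.surjective
  haveI : DiscreteTopology U := by
    rw [discreteTopology_iff_isOpen_singleton]
    intro x
    obtain ⟨_, ⟨(W : U.Opens), hW, rfl⟩, hxW, -⟩ :=
      U.isBasis_affineOpens.exists_subset_of_mem_open (Set.mem_univ x) isOpen_univ
    haveI : IsAffine W.toScheme := hW
    haveI : Surjective (a ∣_ W) := IsZariskiLocalAtTarget.restrict ‹Surjective a› W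
    haveI : Flat (a ∣_ W) := IsZariskiLocalAtTarget.restrict ‹Flat a› W
    have h1 := opens_field (a ⁻¹ᵁ W) (a ≫ p) n h
    rw [← Category.assoc, ← morphismRestrict_ι, Category.assoc] at h1
    haveI := (discrete _ n (triangle_affine (a ∣_ W) (W.ι ≫ p) n h1)).2
    have h2 : IsOpen ({⟨x, hxW⟩} : Set ↥W.toScheme) := isOpen_discrete _
    have h3 := W.ι.isOpenEmbedding.isOpenMap _ h2
    rw [Set.image_singleton] at h3
    exact h3
  exact triangle_affine a p n h

theorem triangle {X Y Z : Scheme.{u}} (f : X ⟶ Y) (h : Y ⟶ Z) [Flat f] [Surjective f] (n : ℕ)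
    (hg : BddFib.FibreDegLE (f ≫ h) n) : BddFib.FibreDegLE h n := by
  rw [Groth.L00.BddFib.forall_field_iff]
  intro k _ g
  have sq := (IsPullback.of_hasPullback f (pullback.fst h g)).paste_vert (IsPullback.of_hasPullback h g)
  have h1 := Groth.L00.BddFib.of_iso _ sq.isoPullback ((Groth.L00.BddFib.forall_field_iff _ n).1 hg k g)
  rw [sq.isoPullback_hom_snd] at h1
  exact triangle_field (pullback.snd f (pullback.fst h g)) (pullback.snd h g) n h1

theorem of_finLocFree {X Y : Scheme.{u}} (f : X ⟶ Y) [IsFinite f] [Flat f] (d : ℕ)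
    (hd : ∀ y, f.finrank y = d) : BddFib.FibreDegLE f d := by
  intro y
  refine (Groth.L00.BddFib.iff (k := Y.residueField y) (f.fiberToSpecResidueField y) d).2
    ⟨MorphismProperty.pullback_snd (P := (@IsFinite : MorphismProperty Scheme.{u})) _ _ ‹_›, ?_⟩
  have := Scheme.Hom.finrank_of_isPullback _ _ _ _ (IsPullback.of_hasPullback f (Y.fromSpecResidueField y)) (pt (Y.residueField y))
  rw [hd] at this
  exact this.le

end Groth.L06.BddFibDeg
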