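import Groth.Agent.L06.BddFibDeg
import Mathlib.AlgebraicGeometry.Morphisms.QuasiFinite
import Mathlib.AlgebraicGeometry.Morphisms.Etale
import Mathlib.RingTheory.ZariskisMainTheorem
import Mathlib.RingTheory.Etale.Field
import Mathlib.FieldTheory.IsAlgClosed.AlgebraicClosure
import Mathlib.AlgebraicGeometry.Morphisms.FiniteType

/-! Universal bounds for quasi-finite morphisms; étale morphisms with few geometric points. -/

set_option autoImplicit false
set_option maxSynthPendingDepth 3
set_option linter.style.haveILetI false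
set_option backward.isDefEq.respectTransparency.types false
set_option backward.isDefEq.respectTransparency false

universe u

open CategoryTheory CategoryTheory.Limits AlgebraicGeometry TensorProduct

noncomputable section

namespace Groth.L06.BddFibDeg

theorem finite_algebra {R S : Type u} [CommRing R] [CommRing S] [Algebra R S] (m : ℕ)
    (φ : (Fin m → R) →ₗ[R] S) (hφ : Function.Surjective φ) :
    BddFib.FibreDegLE (Spec.map (CommRingCat.ofHom (algebraMap R S))) m := by
  rw [Groth.L00.BddFib.forall_field_iff]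
  intro k _ g
  obtain ⟨ψ, rfl⟩ := Spec.map_surjective g
  letI : Algebra R k := ψ.hom.toAlgebra
  have sq := (IsPullback.of_hasPullback (Spec.map (CommRingCat.ofHom (algebraMap R k)))
    (Spec.map (CommRingCat.ofHom (algebraMap R S)))).flip
  let b : (k ⊗[R] (Fin m → R)) →ₗ[k] k ⊗[R] S := φ.baseChange k
  have hb : Function.Surjective b := LinearMap.lTensor_surjective k hφ
  haveI : Module.Finite k (k ⊗[R] S) := Module.Finite.of_surjective b hb
  have hd : Module.finrank k (k ⊗[R] S) ≤ m := by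
    refine (LinearMap.finrank_le_finrank_of_surjective hb).trans (le_of_eq ?_)
    rw [(TensorProduct.piScalarRight R k k (Fin m)).finrank_eq, Module.finrank_fin_fun]
  have h3 := Groth.L00.BddFib.of_iso _ (pullbackSpecIso R k S) ((spec_iff (k ⊗[R] S) m).2 ⟨inferInstance, hd⟩)
  rw [pullbackSpecIso_hom_fst'] at h3
  have h4 := Groth.L00.BddFib.of_iso _ sq.isoPullback.symm h3
  rwa [Iso.symm_hom, sq.isoPullback_inv_snd] at h4

theorem exists_affine_piece {X Y : Scheme.{u}} (f : X ⟶ Y) [LocallyQuasiFinite f] [LocallyOfFiniteType f]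
    (x : X) : ∃ (W : X.Opens) (m : ℕ), x ∈ W ∧ BddFib.FibreDegLE (W.ι ≫ f) m := by
  classical
  obtain ⟨_, ⟨(U : Y.Opens), hU, rfl⟩, hxU, -⟩ :=
    Y.isBasis_affineOpens.exists_subset_of_mem_open (Set.mem_univ (f x)) isOpen_univ
  replace hU : IsAffineOpen U := hU
  obtain ⟨V, hV, hxV, hVU⟩ := exists_isAffineOpen_mem_and_subset (U := f ⁻¹ᵁ U) hxU
  have e : V ≤ f ⁻¹ᵁ U := hVU
  have hqf : (f.appLE U V e).hom.QuasiFinite := LocallyQuasiFinite.quasiFinite_appLE hU hV e
  have hft : (f.appLE U V e).hom.FiniteType :=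
    HasRingHomProperty.appLE @LocallyOfFiniteType f ‹_› ⟨U, hU⟩ ⟨V, hV⟩ e
  algebraize [(f.appLE U V e).hom]
  let q := hV.primeIdealOf ⟨x, hxV⟩
  obtain ⟨S', hS', r, hrq, hbij⟩ :=
    Algebra.QuasiFiniteAt.exists_fg_and_exists_notMem_and_awayMap_bijective (R := Γ(Y, U)) q.asIdeal
  haveI : Module.Finite Γ(Y, U) S' := ⟨(Submodule.fg_top _).mpr hS'⟩
  obtain ⟨m, φ, hφ⟩ := Module.Finite.exists_fin' Γ(Y, U) S'
  refine ⟨X.basicOpen (r : Γ(X, V)), 1 * 1 * (m * 1), ?_, ?_⟩
  · have hq : q ∈ PrimeSpectrum.basicOpen (r : Γ(X, V)) := hrq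
    rw [← hV.fromSpec_preimage_basicOpen] at hq
    have h := hq
    show x ∈ X.basicOpen (r : Γ(X, V))
    have e' : hV.fromSpec q = x := hV.fromSpec_primeIdealOf ⟨x, hxV⟩
    exact e' ▸ h
  have hD : IsAffineOpen (X.basicOpen (r : Γ(X, V))) := hV.basicOpen _
  haveI : IsLocalization.Away (r : Γ(X, V)) Γ(X, X.basicOpen (r : Γ(X, V))) := hV.isLocalization_basicOpen _
  haveI : IsLocalization.Away (S'.val.toRingHom r) Γ(X, X.basicOpen (r : Γ(X, V))) := hV.isLocalization_basicOpen _
  let j : Localization.Away (S'.val.toRingHom r) ≃ₐ[Γ(X, V)] Γ(X, X.basicOpen (r : Γ(X, V))) :=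
    IsLocalization.algEquiv (Submonoid.powers (S'.val.toRingHom r)) _ _
  let α : Localization.Away r →+* Γ(X, X.basicOpen (r : Γ(X, V))) :=
    j.toRingEquiv.toRingHom.comp (Localization.awayMap S'.val.toRingHom r)
  have hα : Function.Bijective α := j.bijective.comp hbij
  have hcomp : f.appLE U (X.basicOpen (r : Γ(X, V))) ((X.basicOpen_le _).trans e) =
      CommRingCat.ofHom (algebraMap Γ(Y, U) S') ≫ CommRingCat.ofHom (algebraMap S' (Localization.Away r)) ≫
        CommRingCat.ofHom α := by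
    rw [← Scheme.Hom.appLE_map f e (homOfLE (X.basicOpen_le _)).op]
    ext c
    show algebraMap Γ(X, V) Γ(X, X.basicOpen (r : Γ(X, V))) (algebraMap Γ(Y, U) Γ(X, V) c) =
      j (Localization.awayMap S'.val.toRingHom r (algebraMap S' (Localization.Away r) (algebraMap Γ(Y, U) S' c)))
    erw [IsLocalization.map_eq, AlgEquiv.commutes]
    rfl
  have hfact : (X.basicOpen (r : Γ(X, V))).ι ≫ f = (hD.isoSpec.hom ≫ Spec.map (CommRingCat.ofHom α) ≫
      Spec.map (CommRingCat.ofHom (algebraMap S' (Localization.Away r)))) ≫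
        Spec.map (CommRingCat.ofHom (algebraMap Γ(Y, U) S')) ≫ hU.fromSpec := by
    simp only [Category.assoc]
    rw [← Spec.map_comp_assoc, ← Spec.map_comp_assoc, ← hcomp, hU.SpecMap_appLE_fromSpec f hD,
      ← Category.assoc hD.isoSpec.hom, hD.isoSpec_hom_fromSpec]
  rw [hfact]
  haveI : IsIso (CommRingCat.ofHom α) := (ConcreteCategory.isIso_iff_bijective _).mpr hα
  haveI : IsOpenImmersion (Spec.map (CommRingCat.ofHom (algebraMap S' (Localization.Away r)))) :=
    IsOpenImmersion.of_isLocalization r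
  rw [← Category.assoc hD.isoSpec.hom]
  exact comp _ _ _ _ (comp _ _ _ _ (Groth.L00.BddFib.immersion _) (Groth.L00.BddFib.immersion _))
    (comp _ _ _ _ (finite_algebra m φ hφ) (Groth.L00.BddFib.immersion _))

theorem univBounded {X Y : Scheme.{u}} (f : X ⟶ Y) [LocallyQuasiFinite f] [LocallyOfFiniteType f]
    [CompactSpace X] : BddFib.UnivBounded f := by
  choose W m hW hm using exists_affine_piece f
  obtain ⟨t, ht⟩ := isCompact_univ.elim_finite_subcover (fun x => (W x : Set X)) (fun x => (W x).2)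
    (fun x _ => Set.mem_iUnion.mpr ⟨x, hW x⟩)
  refine ⟨_, cover f (fun i : t => W i) (fun x => ?_) (fun i => m i) fun i => hm i⟩
  obtain ⟨i, hi, hxi⟩ := Set.mem_iUnion₂.mp (ht (Set.mem_univ x))
  exact ⟨⟨i, hi⟩, hxi⟩

theorem etale_field {k : Type u} [Field k] [IsAlgClosed k] {T : Scheme.{u}}
    (p : T ⟶ Spec (CommRingCat.of k)) [Etale p] [Finite T] :
    BddFib.FiniteOfDegLE (CommRingCat.of k) p (Nat.card T) := by
  haveI : JacobsonSpace T := LocallyOfFiniteType.jacobsonSpace p
  haveI : DiscreteTopology T := inferInstance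
  haveI : IsAffine T := inferInstance
  letI : Algebra k Γ(T, ⊤) := BddFib.secAlgebra (CommRingCat.of k) p
  haveI : Algebra.Etale k Γ(T, ⊤) := by
    rw [← RingHom.etale_algebraMap]
    show ((Scheme.ΓSpecIso (CommRingCat.of k)).inv ≫ p.appTop).hom.Etale
    rw [CommRingCat.hom_comp]
    exact RingHom.Etale.respectsIso.2 p.appTop.hom (Scheme.ΓSpecIso (CommRingCat.of k)).symm.commRingCatIsoToRingEquiv
      ((HasRingHomProperty.iff_of_isAffine (P := @Etale)).1 ‹Etale p›)
  haveI : Module.Finite k Γ(T, ⊤) := Algebra.FormallyUnramified.finite_of_free k Γ(T, ⊤)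
  obtain ⟨I, hI, Ai, _, _, e, hsep⟩ :=
    (Algebra.FormallyEtale.iff_exists_algEquiv_prod k Γ(T, ⊤)).1 inferInstance
  haveI := Fintype.ofFinite I
  classical
  have hbij : ∀ i, Function.Bijective (algebraMap k (Ai i)) := fun i => by
    haveI := hsep i
    exact IsAlgClosed.algebraMap_bijective_of_isIntegral
  haveI : ∀ i, Module.Finite k (Ai i) := fun i =>
    Module.Finite.of_surjective (Algebra.linearMap k (Ai i)) (hbij i).2
  refine ⟨inferInstance, inferInstance, ?_⟩
  show Module.finrank k Γ(T, ⊤) ≤ Nat.card T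
  rw [e.toLinearEquiv.finrank_eq, Module.finrank_pi_fintype]
  have h1 : ∀ i, Module.finrank k (Ai i) = 1 := fun i => by
    rw [← (LinearEquiv.ofBijective (Algebra.linearMap k (Ai i)) (hbij i)).finrank_eq, Module.finrank_self]
  rw [Finset.sum_congr rfl fun i _ => h1 i, Finset.sum_const, smul_eq_mul, mul_one, Finset.card_univ,
    ← Nat.card_eq_fintype_card]
  let F : I → T := fun i => T.isoSpec.inv
    (PrimeSpectrum.comap ((Pi.evalRingHom Ai i).comp e.toRingEquiv.toRingHom) (⊥ : PrimeSpectrum (Ai i)))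
  refine Nat.card_le_card_of_injective F fun i j hij => ?_
  by_contra hne
  have h2 := congrArg PrimeSpectrum.asIdeal (T.isoSpec.inv.homeomorph.injective hij)
  have h3 : e.symm (Pi.single i 1) ∈ (PrimeSpectrum.comap ((Pi.evalRingHom Ai j).comp e.toRingEquiv.toRingHom)
      (⊥ : PrimeSpectrum (Ai j))).asIdeal := by
    show e (e.symm (Pi.single i 1)) j = 0
    rw [e.apply_symm_apply, Pi.single_eq_of_ne' hne]
  rw [← h2] at h3
  have h4 : e (e.symm (Pi.single i 1)) i = 0 := h3
  rw [e.apply_symm_apply, Pi.single_eq_same] at h4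
  exact one_ne_zero h4

theorem etale {X Y : Scheme.{u}} (f : X ⟶ Y) [Etale f] (n : ℕ)
    (h : ∀ (k : Type u) [Field k] (g : Spec (CommRingCat.of k) ⟶ Y),
      Finite ↥(pullback f g) ∧ Nat.card ↥(pullback f g) ≤ n) : BddFib.FibreDegLE f n := by
  intro y
  let K := AlgebraicClosure (Y.residueField y)
  let q := Spec.map (CommRingCat.ofHom (algebraMap (Y.residueField y) K))
  obtain ⟨hfin, hcard⟩ := h K (q ≫ Y.fromSpecResidueField y)
  haveI := hfin
  have sq : IsPullback (pullback.map f (q ≫ Y.fromSpecResidueField y) f (Y.fromSpecResidueField y) (𝟙 X) q (𝟙 Y)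
      (by simp) (by simp)) (pullback.snd f (q ≫ Y.fromSpecResidueField y)) (f.fiberToSpecResidueField y) q := by
    refine IsPullback.of_right ?_ (pullback.lift_snd _ _ _) (IsPullback.of_hasPullback f _)
    rw [pullback.lift_fst, Category.comp_id]
    exact IsPullback.of_hasPullback f _
  haveI : Etale (pullback.snd f (q ≫ Y.fromSpecResidueField y)) := MorphismProperty.pullback_snd _ _ ‹_›
  have h1 := etale_field (pullback.snd f (q ≫ Y.fromSpecResidueField y))
  exact (Groth.L00.BddFib.iff_of_isPullback (k := Y.residueField y) (f.fiberToSpecResidueField y) q sq n).1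
    ⟨h1.1, h1.2.1, h1.2.2.trans hcard⟩

end Groth.L06.BddFibDeg
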