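import Groth.Agent.L06.Unibranch
import Mathlib.RingTheory.Ideal.MinimalPrime.Basic
import Mathlib.RingTheory.Localization.Ideal
import Mathlib.RingTheory.Localization.Integral
import Mathlib.RingTheory.IntegralClosure.IntegrallyClosed
import Mathlib.RingTheory.Nilpotent.Lemmas

/-!
Geometric unibranchness along integral birational ring maps.
-/

set_option autoImplicit false
set_option maxSynthPendingDepth 3
set_option linter.style.haveILetI false

noncomputable section

universe u

open Groth.L28.Unibranch (toNorm toNorm_isIntegral)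
open Groth.L06.Unibranch (PI isGeomUnibranch_iff isGeomUnibranch_def ringExpChar_of_hom)

namespace Groth.L06.BiratUnibranch

variable {S T : Type u} [CommRing S] [CommRing T]

theorem toNorm_eq_zero_iff [(nilradical T).IsPrime] (t : T) : toNorm T t = 0 ↔ t ∈ nilradical T := by
  haveI : IsDomain (CAlg2.red T) := Ideal.Quotient.isDomain _
  refine ⟨fun h => Ideal.Quotient.eq_zero_iff_mem.1 ?_, fun h => ?_⟩
  · exact IsFractionRing.injective (CAlg2.red T) (FractionRing (CAlg2.red T))
      ((congrArg Subtype.val h).trans (map_zero _).symm)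
  · show algebraMap (CAlg2.red T) (CAlg2.normRed T) (Ideal.Quotient.mk _ t) = 0
    rw [Ideal.Quotient.eq_zero_iff_mem.2 h, map_zero]

theorem pow_sub_pow_mem {N : Type u} [CommRing N] (M : Ideal N) {a b : N} (h : a - b ∈ M) (k : ℕ) :
    a ^ k - b ^ k ∈ M := by
  rw [← Ideal.Quotient.eq] at h ⊢
  rw [map_pow, map_pow, h]

/-- An integral birational map with irreducible source and target. -/
theorem isGeomUnibranch_iff_of_isPrime [IsLocalRing S] (φ : S →+* T) (hint : φ.IsIntegral)
    (hker : RingHom.ker φ ≤ nilradical S) (hT : (nilradical T).IsPrime)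
    (hbir : ∀ x : T, ∃ b a : S, φ b ∉ nilradical T ∧ φ b * x - φ a ∈ nilradical T) :
    CAlg2.IsGeomUnibranch S ↔ ∃ _ : IsLocalRing T, CAlg2.IsGeomUnibranch T ∧ PI φ := by
  haveI := hT
  haveI : IsDomain (CAlg2.red T) := Ideal.Quotient.isDomain _
  let K := FractionRing (CAlg2.red T)
  haveI : IsIntegrallyClosed (CAlg2.normRed T) :=
    integralClosure.isIntegrallyClosedOfFiniteExtension K
  haveI : Nontrivial T := ⟨⟨0, 1, fun h => hT.ne_top ((Ideal.eq_top_iff_one _).2 (h ▸ zero_mem _))⟩⟩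
  let Φ : S →+* CAlg2.normRed T := (toNorm T).comp φ
  have hΦint : Φ.IsIntegral := RingHom.IsIntegral.trans _ _ hint (toNorm_isIntegral T)
  have hΦker : RingHom.ker Φ ≤ nilradical S := fun s hs => by
    rw [RingHom.mem_ker, RingHom.comp_apply, toNorm_eq_zero_iff] at hs
    obtain ⟨n, hn⟩ := mem_nilradical.1 hs
    obtain ⟨m, hm⟩ := mem_nilradical.1 (hker (RingHom.mem_ker.2 ((map_pow φ s n).trans hn)))
    exact mem_nilradical.2 ⟨n * m, by rw [pow_mul]; exact hm⟩
  have hΦbir : ∀ z : CAlg2.normRed T, ∃ b a : S, Φ b ≠ 0 ∧ Φ b * z = Φ a := fun z => by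
    obtain ⟨r₁, r₂, hr₂, hz⟩ := IsFractionRing.div_surjective (A := CAlg2.red T) (z : K)
    obtain ⟨t₁, rfl⟩ := Ideal.Quotient.mk_surjective r₁
    obtain ⟨t₂, rfl⟩ := Ideal.Quotient.mk_surjective r₂
    have ht₂ : t₂ ∉ nilradical T := fun h =>
      nonZeroDivisors.ne_zero hr₂ (Ideal.Quotient.eq_zero_iff_mem.2 h)
    obtain ⟨b₁, a₁, hb₁, h₁⟩ := hbir t₁
    obtain ⟨b₂, a₂, hb₂, h₂⟩ := hbir t₂
    have ha₂ : φ a₂ ∉ nilradical T := fun h =>
      (hT.mem_or_mem ((Submodule.sub_mem_iff_left _ h).1 h₂)).elim hb₂ ht₂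
    refine ⟨b₁ * a₂, a₁ * b₂, fun h => ?_, Subtype.ext ?_⟩
    · rw [RingHom.comp_apply, map_mul, toNorm_eq_zero_iff] at h
      exact (hT.mem_or_mem h).elim hb₁ ha₂
    · show (algebraMap (CAlg2.red T) K (Ideal.Quotient.mk _ (φ (b₁ * a₂)))) * (z : K) =
        algebraMap (CAlg2.red T) K (Ideal.Quotient.mk _ (φ (a₁ * b₂)))
      rw [← Ideal.Quotient.eq, map_mul] at h₁ h₂
      have hne : algebraMap (CAlg2.red T) K (Ideal.Quotient.mk _ t₂) ≠ 0 :=
        IsFractionRing.to_map_ne_zero_of_mem_nonZeroDivisors hr₂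
      rw [← hz, map_mul φ b₁ a₂, map_mul φ a₁ b₂, map_mul (Ideal.Quotient.mk _) (φ b₁), map_mul (Ideal.Quotient.mk _) (φ a₁), ← h₁, ← h₂]
      simp only [map_mul]
      rw [← mul_div_assoc, div_eq_iff hne]
      ring
  rw [isGeomUnibranch_iff Φ hΦint hΦker hΦbir]
  constructor
  · rintro ⟨hN, hPI⟩
    letI := (toNorm T).toAlgebra
    haveI : Algebra.IsIntegral T (CAlg2.normRed T) := ⟨toNorm_isIntegral T⟩
    have key : ∀ P : Ideal T, P.IsMaximal →
        P = (IsLocalRing.maximalIdeal (CAlg2.normRed T)).comap (toNorm T) := fun P hP => by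
      obtain ⟨Q, hQ, hQP⟩ := Ideal.exists_ideal_over_maximal_of_isIntegral (S := CAlg2.normRed T) P fun t ht =>
        nilradical_le_prime P ((toNorm_eq_zero_iff t).1 ht)
      rw [← IsLocalRing.eq_maximalIdeal hQ]
      exact hQP.symm
    haveI hTl : IsLocalRing T := IsLocalRing.of_unique_max_ideal (by
      obtain ⟨P, hP⟩ := Ideal.exists_maximal T
      exact ⟨P, hP, fun P' hP' => (key P' hP').trans (key P hP).symm⟩)
    refine ⟨hTl, isGeomUnibranch_def.2 ⟨⟨inferInstance, hN⟩, fun M hM x => ?_⟩, fun P hP x => ?_⟩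
    · obtain ⟨n, a, ha⟩ := hPI M x
      exact ⟨n, φ a, ha⟩
    · have hPc := key P hP
      let M := IsLocalRing.maximalIdeal (CAlg2.normRed T)
      obtain ⟨n, a, ha⟩ := hPI M (toNorm T x)
      refine ⟨n, a, ?_⟩
      rw [← ringExpChar_of_hom (Ideal.quotientMap M (toNorm T) hPc.le)
        (Ideal.quotientMap_injective' hPc.ge)]
      rw [hPc, Ideal.mem_comap, map_sub, map_pow]
      exact ha
  · rintro ⟨hTl, hgu, hPI⟩
    rw [isGeomUnibranch_def] at hgu
    obtain ⟨⟨-, hN⟩, hPT⟩ := hgu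
    refine ⟨hN, fun M hM x => ?_⟩
    obtain ⟨n, t, ht⟩ := hPT M x
    letI := (toNorm T).toAlgebra
    haveI : Algebra.IsIntegral T (CAlg2.normRed T) := ⟨toNorm_isIntegral T⟩
    haveI hPm : (M.comap (toNorm T)).IsMaximal :=
      Ideal.isMaximal_comap_of_isIntegral_of_isMaximal (R := T) M
    obtain ⟨m, a, ha⟩ := hPI (M.comap (toNorm T)) t
    rw [← ringExpChar_of_hom (Ideal.quotientMap M (toNorm T) le_rfl) Ideal.quotientMap_injective] at ha
    refine ⟨n + m, a, ?_⟩
    rw [Ideal.mem_comap, map_sub, map_pow] at ha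
    have h2 := pow_sub_pow_mem M ht (ringExpChar (CAlg2.normRed T ⧸ M) ^ m)
    rw [← pow_mul, ← pow_add] at h2
    have h3 := Submodule.add_mem M h2 ha
    rwa [sub_add_sub_cancel] at h3

/-- An integral map which is bijective on minimal primes with equal residue fields there. -/
structure Birat (φ : S →+* T) : Prop where
  isIntegral : φ.IsIntegral
  comap_mem : ∀ P ∈ minimalPrimes T, P.comap φ ∈ minimalPrimes S
  exists_over : ∀ p ∈ minimalPrimes S, ∃ P ∈ minimalPrimes T, P.comap φ = p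
  inj : ∀ P ∈ minimalPrimes T, ∀ P' ∈ minimalPrimes T, P.comap φ = P'.comap φ → P = P'
  residue : ∀ P ∈ minimalPrimes T, ∀ x : T, ∃ b a : S, φ b ∉ P ∧ φ b * x - φ a ∈ P

theorem nilradical_eq_of_unique {R : Type u} [CommRing R] {P : Ideal R} (hP : P ∈ minimalPrimes R)
    (h : ∀ P' ∈ minimalPrimes R, P' = P) : nilradical R = P := by
  haveI := hP.1.1
  refine le_antisymm (nilradical_le_prime P) fun x hx => mem_nilradical.2 (nilpotent_iff_mem_prime.2 fun J hJ => ?_)
  obtain ⟨P', hP', hle⟩ := Ideal.exists_minimalPrimes_le (I := ⊥) (J := J) bot_le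
  exact hle (h P' hP' ▸ hx)

theorem eq_nilradical {R : Type u} [CommRing R] (hn : (nilradical R).IsPrime) {P : Ideal R}
    (hP : P ∈ minimalPrimes R) : P = nilradical R :=
  haveI := hP.1.1
  le_antisymm (hP.2 ⟨hn, bot_le⟩ (nilradical_le_prime P)) (nilradical_le_prime P)

theorem exists_minimal (R : Type u) [CommRing R] [Nontrivial R] : ∃ P, P ∈ minimalPrimes R := by
  obtain ⟨P, hP⟩ := Ideal.exists_maximal R
  haveI := hP.isPrime
  obtain ⟨P', hP', -⟩ := Ideal.exists_minimalPrimes_le (I := ⊥) (J := P) bot_le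
  exact ⟨P', hP'⟩

theorem Birat.isGeomUnibranch_iff {φ : S →+* T} (h : Birat φ) [IsLocalRing S] :
    CAlg2.IsGeomUnibranch S ↔ ∃ _ : IsLocalRing T, CAlg2.IsGeomUnibranch T ∧ PI φ := by
  suffices hmain : (nilradical S).IsPrime → (CAlg2.IsGeomUnibranch S ↔ ∃ _ : IsLocalRing T, CAlg2.IsGeomUnibranch T ∧ PI φ) by
    constructor
    · intro hS
      exact (hmain ((Ideal.Quotient.isDomain_iff_prime _).1 hS.1.1)).1 hS
    · intro hT
      obtain ⟨hTl, hgu, hPI⟩ := hT
      have hn : (nilradical T).IsPrime := (Ideal.Quotient.isDomain_iff_prime _).1 hgu.1.1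
      obtain ⟨p, hp⟩ := exists_minimal S
      obtain ⟨P, hP, rfl⟩ := h.exists_over p hp
      have e : nilradical S = P.comap φ := nilradical_eq_of_unique hp fun p' hp' => by
        obtain ⟨P', hP', rfl⟩ := h.exists_over p' hp'
        rw [eq_nilradical hn hP', eq_nilradical hn hP]
      exact (hmain (e ▸ hp.1.1)).2 ⟨hTl, hgu, hPI⟩
  intro hn
  obtain ⟨p, hp⟩ := exists_minimal S
  obtain ⟨P, hP, rfl⟩ := h.exists_over p hp
  have eT : nilradical T = P := nilradical_eq_of_unique hP fun P' hP' =>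
    h.inj P' hP' P hP (by rw [eq_nilradical hn (h.comap_mem P' hP'), eq_nilradical hn (h.comap_mem P hP)])
  refine isGeomUnibranch_iff_of_isPrime φ h.isIntegral (fun s hs => ?_) (eT ▸ hP.1.1) fun x => ?_
  · rw [← eq_nilradical hn hp, Ideal.mem_comap, RingHom.mem_ker.1 hs]
    exact zero_mem _
  · obtain ⟨b, a, hb, hab⟩ := h.residue P hP x
    exact ⟨b, a, eT ▸ hb, eT ▸ hab⟩

section Localization

variable {R : Type u} [CommRing R] (M : Submonoid R) (L : Type u) [CommRing L] [Algebra R L] [IsLocalization M L]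
include M

theorem under_mem_minimalPrimes {Q : Ideal L} (hQ : Q ∈ minimalPrimes L) :
    Q.comap (algebraMap R L) ∈ minimalPrimes R := by
  haveI := hQ.1.1
  refine ⟨⟨Ideal.IsPrime.comap _, bot_le⟩, fun P' hP' hle => ?_⟩
  have hdis : Disjoint (M : Set R) P' :=
    Disjoint.mono_right hle ((IsLocalization.isPrime_iff_isPrime_disjoint M L Q).1 hQ.1.1).2
  have hp := IsLocalization.isPrime_of_isPrime_disjoint M L P' hP'.1 hdis
  have : Ideal.map (algebraMap R L) P' ≤ Q := Ideal.map_le_iff_le_comap.2 hle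
  intro r hr
  have h2 : Q ≤ Ideal.map (algebraMap R L) P' := hQ.2 ⟨hp, bot_le⟩ this
  rw [← IsLocalization.under_map_of_isPrime_disjoint M L hP'.1 hdis]
  exact h2 hr

theorem map_mem_minimalPrimes {P : Ideal R} (hP : P ∈ minimalPrimes R) (hdis : Disjoint (M : Set R) P) :
    Ideal.map (algebraMap R L) P ∈ minimalPrimes L := by
  refine ⟨⟨IsLocalization.isPrime_of_isPrime_disjoint M L P hP.1.1 hdis, bot_le⟩, fun Q hQ hle => ?_⟩
  have h1 : Q.comap (algebraMap R L) ≤ P :=
    (Ideal.comap_mono hle).trans (IsLocalization.under_map_of_isPrime_disjoint M L hP.1.1 hdis).le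
  haveI := hQ.1
  have h2 : P ≤ Q.comap (algebraMap R L) := hP.2 ⟨Ideal.IsPrime.comap _, bot_le⟩ h1
  exact (Ideal.map_le_iff_le_comap.2 h2)

end Localization

/-- Birationality localises. -/
theorem Birat.localize {φ : S →+* T} (h : Birat φ) (M : Submonoid S) (S' T' : Type u) [CommRing S']
    [CommRing T'] [Algebra S S'] [Algebra T T'] [IsLocalization M S'] [IsLocalization (M.map φ) T']
    (ψ : S' →+* T') (hψ : ∀ s, ψ (algebraMap S S' s) = algebraMap T T' (φ s)) : Birat ψ := by
  have hcomp : ψ.comp (algebraMap S S') = (algebraMap T T').comp φ := RingHom.ext hψ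
  have hcomap : ∀ Q : Ideal T', (Q.comap ψ).comap (algebraMap S S') = (Q.comap (algebraMap T T')).comap φ :=
    fun Q => by rw [Ideal.comap_comap, Ideal.comap_comap, hcomp]
  refine ⟨fun z => ?_, fun Q hQ => ?_, fun q hq => ?_, fun Q hQ Q' hQ' e => ?_, fun Q hQ z => ?_⟩
  · obtain ⟨⟨t, _, v, hv, rfl⟩, hz⟩ := IsLocalization.surj (M.map φ) z
    obtain ⟨v', hv'⟩ := isUnit_iff_exists_inv.1 (IsLocalization.map_units S' ⟨v, hv⟩)
    have ht : ψ.IsIntegralElem (algebraMap T T' t) := by
      obtain ⟨f, hf, he⟩ := h.isIntegral t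
      refine ⟨f.map (algebraMap S S'), hf.map _, ?_⟩
      rw [Polynomial.eval₂_map, hcomp, ← Polynomial.hom_eval₂, he, map_zero]
    have hzz : z = algebraMap T T' t * ψ v' := by
      rw [← hz, mul_assoc]
      show z = z * (algebraMap T T' (φ v) * ψ v')
      rw [← hψ, ← map_mul]
      show z = z * ψ (algebraMap S S' v * v')
      rw [hv', map_one, mul_one]
    rw [hzz]
    exact RingHom.IsIntegralElem.mul ψ ht (ψ.isIntegralElem_map)
  · haveI := hQ.1.1
    have h1 := h.comap_mem _ (under_mem_minimalPrimes (M.map φ) T' hQ)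
    rw [← hcomap] at h1
    have h2 := map_mem_minimalPrimes M S' h1
      ((IsLocalization.isPrime_iff_isPrime_disjoint M S' (Q.comap ψ)).1 (Ideal.IsPrime.comap _)).2
    rwa [IsLocalization.map_under M S'] at h2
  · haveI := hq.1.1
    obtain ⟨P, hP, hPq⟩ := h.exists_over _ (under_mem_minimalPrimes M S' hq)
    have hd := ((IsLocalization.isPrime_iff_isPrime_disjoint M S' q).1 hq.1.1).2
    have hdis : Disjoint ((M.map φ : Submonoid T) : Set T) P := by
      rw [Set.disjoint_left]
      rintro _ ⟨s, hs, rfl⟩ hsP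
      refine Set.disjoint_left.1 hd hs ?_
      show s ∈ q.comap (algebraMap S S')
      rw [← hPq]
      exact hsP
    refine ⟨_, map_mem_minimalPrimes (M.map φ) T' hP hdis, ?_⟩
    have e := hcomap (Ideal.map (algebraMap T T') P)
    rw [show (Ideal.map (algebraMap T T') P).comap (algebraMap T T') = P from
      IsLocalization.under_map_of_isPrime_disjoint (M.map φ) T' hP.1.1 hdis, hPq] at e
    exact (IsLocalization.map_under M S' _).symm.trans ((congrArg _ e).trans (IsLocalization.map_under M S' _))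
  · have e' := h.inj _ (under_mem_minimalPrimes (M.map φ) T' hQ) _ (under_mem_minimalPrimes (M.map φ) T' hQ')
      (by rw [← hcomap, ← hcomap, e])
    exact (IsLocalization.map_under (M.map φ) T' Q).symm.trans
      ((congrArg (Ideal.map (algebraMap T T')) e').trans (IsLocalization.map_under (M.map φ) T' Q'))
  · haveI := hQ.1.1
    obtain ⟨⟨t, _, v, hv, rfl⟩, hz⟩ := IsLocalization.surj (M.map φ) z
    obtain ⟨b, a, hb, hab⟩ := h.residue _ (under_mem_minimalPrimes (M.map φ) T' hQ) t
    refine ⟨algebraMap S S' (b * v), algebraMap S S' a, ?_, ?_⟩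
    · rw [hψ, map_mul, map_mul]
      intro hm
      rcases (Ideal.IsPrime.mem_or_mem hQ.1.1 hm) with h1 | h1
      · exact hb h1
      · exact hQ.1.1.ne_top (Ideal.eq_top_of_isUnit_mem _ h1
          (IsLocalization.map_units (M := M.map φ) T' ⟨φ v, v, hv, rfl⟩))
    · rw [Ideal.mem_comap, map_sub, map_mul, ← hz] at hab
      rw [hψ, hψ, map_mul, map_mul]
      convert hab using 1
      show _ = algebraMap T T' (φ b) * (z * algebraMap T T' (φ v)) - _
      ring

end Groth.L06.BiratUnibranch
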