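import Groth.Prelude.Def_EGA4Misc
import Mathlib.AlgebraicGeometry.Morphisms.UniversallyInjective
import Mathlib.FieldTheory.PurelyInseparable.Basic
import Mathlib.FieldTheory.PurelyInseparable.Tower
import Mathlib.AlgebraicGeometry.PullbackCarrier

/-!
Radicial morphisms at a point, in terms of points with values in fields.
-/

set_option autoImplicit false
set_option maxSynthPendingDepth 3
set_option linter.style.haveILetI false
set_option backward.isDefEq.respectTransparency.types false
set_option backward.isDefEq.respectTransparency false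
universe u

open CategoryTheory CategoryTheory.Limits AlgebraicGeometry

namespace Groth.L06.RadicialAt

variable {X Y : Scheme.{u}}

/-- Field-valued points over `y` are determined by their image. -/
def MonoAt (f : X ⟶ Y) (y : Y) : Prop :=
  ∀ (K : Type u) [Field K] (g₁ g₂ : Spec (CommRingCat.of K) ⟶ X), g₁ ≫ f = g₂ ≫ f →
    (g₁ ≫ f) (IsLocalRing.closedPoint K) = y → g₁ = g₂

theorem monoAt_of_isRadicialAt {f : X ⟶ Y} {y : Y} (h : RadPt.IsRadicialAt f y) : MonoAt f y := by
  intro K _ g₁ g₂ hg hy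
  have hy₂ : (g₂ ≫ f) (IsLocalRing.closedPoint K) = y := hg ▸ hy
  obtain ⟨e, h'⟩ := Scheme.SpecToEquivOfField_eq_iff.mp congr((Y.SpecToEquivOfField K) $(hg))
  apply (X.SpecToEquivOfField K).injective
  dsimp [Scheme.SpecToEquivOfField] at e h'
  simp only [Scheme.descResidueField_stalkClosedPointTo_comp] at e h'
  have he : g₁ (IsLocalRing.closedPoint K) = g₂ (IsLocalRing.closedPoint K) :=
    h.1 _ _ (by simpa using hy) (by simpa using hy₂)
  rw [← f.residueFieldMap_congr'_assoc he, CommRingCat.hom_ext_iff] at h'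
  rw [Scheme.SpecToEquivOfField_eq_iff]
  have hfx := h.2 (g₁ (IsLocalRing.closedPoint K)) (by simpa using hy)
  algebraize [(f.residueFieldMap (g₁ (IsLocalRing.closedPoint K))).hom]
  refine ⟨he, CommRingCat.hom_ext ?_⟩
  exact IsPurelyInseparable.injective_comp_algebraMap
    (Y.residueField (f (g₁ (IsLocalRing.closedPoint K)))) (X.residueField (g₁ (IsLocalRing.closedPoint K))) _ h'

theorem isRadicialAt_of_monoAt {f : X ⟶ Y} {y : Y} (h : MonoAt f y) : RadPt.IsRadicialAt f y := by
  refine ⟨fun x x' hx hx' => ?_, fun x hx => ?_⟩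
  · obtain ⟨t, ht₁, ht₂⟩ := Scheme.Pullback.exists_preimage_pullback (f := f) (g := f) x x' (hx.trans hx'.symm)
    let φ := (pullback f f).fromSpecResidueField t
    have := h _ (φ ≫ pullback.fst f f) (φ ≫ pullback.snd f f) (by simp [pullback.condition])
      (by
        show f (pullback.fst f f (φ (IsLocalRing.closedPoint _))) = y
        rw [Scheme.fromSpecResidueField_apply, ht₁, hx])
    rw [← ht₁, ← ht₂, ← Scheme.fromSpecResidueField_apply t (IsLocalRing.closedPoint _)]
    exact congr($(this) (IsLocalRing.closedPoint _))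
  · algebraize [(f.residueFieldMap x).hom]
    rw [RingHom.IsPurelyInseparable, isPurelyInseparable_iff_subsingleton_emb, subsingleton_iff]
    intro σ₁ σ₂
    apply AlgHom.coe_ringHom_injective
    let g₁ := (X.SpecToEquivOfField _).symm ⟨_, CommRingCat.ofHom σ₁.toRingHom⟩
    let g₂ := (X.SpecToEquivOfField _).symm ⟨_, CommRingCat.ofHom σ₂.toRingHom⟩
    have hg : g₁ = g₂ := by
      refine h _ g₁ g₂ ?_ ?_
      · simp only [g₁, g₂, Scheme.SpecToEquivOfField_symm_apply, AlgHom.toRingHom_eq_coe,
          Category.assoc, ← f.SpecMap_residueFieldMap_fromSpecResidueField x, ← Spec.map_comp_assoc]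
        congr 2
        ext a
        simp only [CommRingCat.hom_comp, RingHom.comp_apply]
        exact (AlgHom.commutes σ₁ a).trans (AlgHom.commutes σ₂ a).symm
      · simp [g₁, Scheme.SpecToEquivOfField_symm_apply, hx]
    have h2 := (X.SpecToEquivOfField _).symm.injective hg
    exact congrArg CommRingCat.Hom.hom (eq_of_heq (Sigma.mk.inj h2).2)

theorem isRadicialAt_iff_monoAt {f : X ⟶ Y} {y : Y} : RadPt.IsRadicialAt f y ↔ MonoAt f y :=
  ⟨monoAt_of_isRadicialAt, isRadicialAt_of_monoAt⟩

theorem isRadicialAt_iff_of_isPullback {X' Y' : Scheme.{u}} {f : X ⟶ Y} {h : Y' ⟶ Y} {f' : X' ⟶ Y'}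
    {h' : X' ⟶ X} (sq : IsPullback h' f' f h) (y' : Y') :
    RadPt.IsRadicialAt f (h y') ↔ RadPt.IsRadicialAt f' y' := by
  rw [isRadicialAt_iff_monoAt, isRadicialAt_iff_monoAt]
  constructor
  · intro hf K _ g₁ g₂ hg hy
    refine sq.hom_ext (hf K _ _ ?_ ?_) hg
    · rw [Category.assoc, Category.assoc, sq.w, ← Category.assoc, hg, Category.assoc]
    · rw [Category.assoc, sq.w, ← Category.assoc, Scheme.Hom.comp_apply, hy]
  · intro hf K _ g₁ g₂ hg hy
    obtain ⟨t, ht, hty⟩ := Scheme.Pullback.exists_preimage_pullback (f := g₁ ≫ f) (g := h)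
      (IsLocalRing.closedPoint K) y' hy
    let φ := (pullback (g₁ ≫ f) h).fromSpecResidueField t
    let u := φ ≫ pullback.fst (g₁ ≫ f) h
    let v := φ ≫ pullback.snd (g₁ ≫ f) h
    have hu : ∀ g : Spec (CommRingCat.of K) ⟶ X, g ≫ f = g₁ ≫ f → (u ≫ g) ≫ f = v ≫ h := fun g hgf => by
      rw [Category.assoc, hgf]
      simp [u, v, pullback.condition]
    have key := hf _ (sq.lift (u ≫ g₁) v (hu g₁ rfl)) (sq.lift (u ≫ g₂) v (hu g₂ hg.symm)) (by simp) (by
      rw [sq.lift_snd]
      show pullback.snd (g₁ ≫ f) h (φ (IsLocalRing.closedPoint _)) = y'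
      rw [Scheme.fromSpecResidueField_apply]
      exact hty)
    have h3 : u ≫ g₁ = u ≫ g₂ := by
      have := congr($(key) ≫ h')
      simpa using this
    haveI : Epi u := by
      haveI : Surjective u := ⟨fun z => ⟨IsLocalRing.closedPoint _, Subsingleton.elim _ _⟩⟩
      haveI : Flat u := by
        obtain ⟨ψ, hψ⟩ := Spec.map_surjective u
        rw [← hψ, HasRingHomProperty.Spec_iff (P := @Flat)]
        letI := ψ.hom.toAlgebra
        letI : Field (CommRingCat.of K) := inferInstanceAs (Field K)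
        exact RingHom.flat_algebraMap_iff.mpr (Module.Flat.of_free (R := CommRingCat.of K))
      exact Flat.epi_of_flat_of_surjective u
    exact (cancel_epi u).1 h3

theorem isRadicialAt_comp {Z : Scheme.{u}} {f : X ⟶ Y} {g : Y ⟶ Z} {y : Y}
    (hf : RadPt.IsRadicialAt f y) (hg : RadPt.IsRadicialAt g (g y)) :
    RadPt.IsRadicialAt (f ≫ g) (g y) := by
  rw [isRadicialAt_iff_monoAt] at hf hg ⊢
  intro K _ g₁ g₂ e hy
  have h1 : g₁ ≫ f = g₂ ≫ f := hg K _ _ (by simpa using e) (by simpa using hy)
  refine hf K _ _ h1 ?_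
  have h2 : ((g₁ ≫ f) (IsLocalRing.closedPoint K)) = y := by
    have := (isRadicialAt_iff_monoAt.mpr hg).1
    exact this _ _ (by simpa using hy) rfl
  exact h2

theorem isRadicialAt_of_comp {Z : Scheme.{u}} {f : X ⟶ Y} {g : Y ⟶ Z} {y : Y} [Surjective f]
    (h : RadPt.IsRadicialAt (f ≫ g) (g y)) :
    RadPt.IsRadicialAt f y ∧ RadPt.IsRadicialAt g (g y) := by
  refine ⟨?_, fun y₁ y₂ h₁ h₂ => ?_, fun y₁ h₁ => ?_⟩
  · rw [isRadicialAt_iff_monoAt] at h ⊢
    intro K _ g₁ g₂ e hy
    exact h K g₁ g₂ (by rw [← Category.assoc, e, Category.assoc]) (by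
      rw [← Category.assoc, Scheme.Hom.comp_apply, hy])
  · obtain ⟨x₁, rfl⟩ := f.surjective y₁
    obtain ⟨x₂, rfl⟩ := f.surjective y₂
    rw [h.1 x₁ x₂ (by simpa using h₁) (by simpa using h₂)]
  · obtain ⟨x, rfl⟩ := f.surjective y₁
    have hx := h.2 x (by simpa using h₁)
    rw [Scheme.residueFieldMap_comp] at hx
    letI := (g.residueFieldMap (f x)).hom.toAlgebra
    letI := (f.residueFieldMap x).hom.toAlgebra
    letI : Algebra (Z.residueField (g (f x))) (X.residueField x) :=
      ((f.residueFieldMap x).hom.comp (g.residueFieldMap (f x)).hom).toAlgebra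
    haveI : IsScalarTower (Z.residueField (g (f x))) (Y.residueField (f x)) (X.residueField x) :=
      IsScalarTower.of_algebraMap_eq' rfl
    haveI : IsPurelyInseparable (Z.residueField (g (f x))) (X.residueField x) := hx
    exact (IsPurelyInseparable.tower_bot (Z.residueField (g (f x))) (Y.residueField (f x)) (X.residueField x))

end Groth.L06.RadicialAt
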