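import Groth.Agent.L06.BirationalUnibranch
import Groth.Agent.L06.RadicialAt
import Groth.Agent.L20.FlatGeneric
import Mathlib.AlgebraicGeometry.Morphisms.Integral
import Mathlib.AlgebraicGeometry.AffineScheme
import Mathlib.RingTheory.Ideal.GoingUp

/-!
Geometric unibranchness along integral birational morphisms (EGA IV 6.15.2).
-/

set_option autoImplicit false
set_option maxSynthPendingDepth 3
set_option linter.style.haveILetI false
set_option backward.isDefEq.respectTransparency.types false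

noncomputable section

universe u

open CategoryTheory AlgebraicGeometry TopologicalSpace
open Groth.L06.Unibranch (PI)

namespace Groth.L06.BiratUnibranch

theorem fromSpec_mem_genericPoints_iff {Y : Scheme.{u}} {V : Y.Opens} (hV : IsAffineOpen V)
    (p : PrimeSpectrum Γ(Y, V)) : hV.fromSpec p ∈ genericPoints Y ↔ p.asIdeal ∈ minimalPrimes Γ(Y, V) := by
  rw [Groth.L20.mem_genericPoints_iff]
  have hmem : hV.fromSpec p ∈ V := hV.range_fromSpec.subset ⟨p, rfl⟩
  constructor
  · refine fun h => ⟨⟨p.isPrime, bot_le⟩, fun Q hQ hle => ?_⟩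
    let q : PrimeSpectrum Γ(Y, V) := ⟨Q, hQ.1⟩
    have hqp : q ⤳ p := (PrimeSpectrum.le_iff_specializes _ _).1 hle
    have := hV.fromSpec.isOpenEmbedding.injective (h _ (hqp.map hV.fromSpec.continuous))
    exact (congrArg PrimeSpectrum.asIdeal this).ge
  · intro h w hw
    obtain ⟨q, rfl⟩ : w ∈ Set.range hV.fromSpec := by
      rw [hV.range_fromSpec]
      exact hw.mem_open V.isOpen hmem
    have hqp : q.asIdeal ≤ p.asIdeal := (PrimeSpectrum.le_iff_specializes q p).2
      (hV.fromSpec.isOpenEmbedding.isInducing.specializes_iff.1 hw)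
    exact congrArg hV.fromSpec (PrimeSpectrum.ext (le_antisymm hqp (h.2 ⟨q.isPrime, bot_le⟩ hqp)))

theorem primeIdealOf_fromSpec {Y : Scheme.{u}} {V : Y.Opens} (hV : IsAffineOpen V)
    (p : PrimeSpectrum Γ(Y, V)) (h : hV.fromSpec p ∈ V) : hV.primeIdealOf ⟨hV.fromSpec p, h⟩ = p :=
  hV.fromSpec.isOpenEmbedding.injective (hV.fromSpec_primeIdealOf _)

variable {X Y : Scheme.{u}} (f : X ⟶ Y) {V : Y.Opens} (hV : IsAffineOpen V)

theorem fromSpec_comap [IsIntegralHom f] (P : PrimeSpectrum Γ(X, f ⁻¹ᵁ V)) :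
    f ((hV.preimage f).fromSpec P) = hV.fromSpec (PrimeSpectrum.comap (f.app V).hom P) := by
  have h := hV.SpecMap_appLE_fromSpec f (hV.preimage f) le_rfl
  rw [← Scheme.Hom.app_eq_appLE] at h
  have h2 := congrArg (fun q : Spec Γ(X, f ⁻¹ᵁ V) ⟶ Y => q P) h
  simp only [Scheme.Hom.comp_apply] at h2
  exact h2.symm

theorem comap_primeIdealOf [IsIntegralHom f] (x : X) (hx : f x ∈ V) :
    ((hV.preimage f).primeIdealOf ⟨x, hx⟩).asIdeal.comap (f.app V).hom =
      (hV.primeIdealOf ⟨f x, hx⟩).asIdeal := by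
  refine congrArg PrimeSpectrum.asIdeal
    (hV.fromSpec.isOpenEmbedding.injective (?_ : hV.fromSpec (PrimeSpectrum.comap (f.app V).hom _) = _))
  rw [hV.fromSpec_primeIdealOf, ← fromSpec_comap f hV, (hV.preimage f).fromSpec_primeIdealOf]

include hV in
/-- Birationality on an affine piece. -/
theorem birat_app [IsIntegralHom f] (hf : RadPt.IsBirational f) : Birat (f.app V).hom := by
  obtain ⟨hbij, hres⟩ := hf
  have hU := hV.preimage f
  have hmemU : ∀ P, hU.fromSpec P ∈ f ⁻¹ᵁ V := fun P => hU.range_fromSpec.subset ⟨P, rfl⟩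
  refine ⟨f.isIntegral_app V hV, fun P hP => ?_, fun p hp => ?_, fun P hP P' hP' e => ?_, fun P hP t => ?_⟩
  · have h := hbij.mapsTo ((fromSpec_mem_genericPoints_iff hU ⟨P, hP.1.1⟩).2 hP)
    rw [fromSpec_comap f hV, fromSpec_mem_genericPoints_iff] at h
    exact h
  · obtain ⟨x, hx, hxe⟩ := hbij.surjOn ((fromSpec_mem_genericPoints_iff hV ⟨p, hp.1.1⟩).2 hp)
    have hxU : f x ∈ V := hxe ▸ hV.range_fromSpec.subset ⟨_, rfl⟩
    refine ⟨(hU.primeIdealOf ⟨x, hxU⟩).asIdeal, ?_, ?_⟩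
    · rw [← fromSpec_mem_genericPoints_iff hU, hU.fromSpec_primeIdealOf]
      exact hx
    · rw [comap_primeIdealOf f hV x hxU]
      refine congrArg PrimeSpectrum.asIdeal (hV.fromSpec.isOpenEmbedding.injective ?_ :
        hV.primeIdealOf ⟨f x, hxU⟩ = ⟨p, hp.1.1⟩)
      rw [hV.fromSpec_primeIdealOf]
      exact hxe
  · have h1 : f (hU.fromSpec ⟨P, hP.1.1⟩) = f (hU.fromSpec ⟨P', hP'.1.1⟩) := by
      rw [fromSpec_comap f hV, fromSpec_comap f hV]
      exact congrArg hV.fromSpec (PrimeSpectrum.ext e)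
    exact congrArg PrimeSpectrum.asIdeal (hU.fromSpec.isOpenEmbedding.injective
      (hbij.injOn ((fromSpec_mem_genericPoints_iff hU ⟨P, hP.1.1⟩).2 hP)
        ((fromSpec_mem_genericPoints_iff hU ⟨P', hP'.1.1⟩).2 hP') h1))
  · obtain ⟨z, hz, rfl⟩ : ∃ z : ↥(f ⁻¹ᵁ V), z.1 ∈ genericPoints X ∧ (hU.primeIdealOf z).asIdeal = P := by
      refine ⟨⟨_, hmemU ⟨P, hP.1.1⟩⟩, (fromSpec_mem_genericPoints_iff hU _).2 hP, ?_⟩
      exact congrArg PrimeSpectrum.asIdeal (primeIdealOf_fromSpec hU ⟨P, hP.1.1⟩ _)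
    obtain ⟨z, hzU⟩ := z
    letI := Y.presheaf.algebra_section_stalk (⟨f z, hzU⟩ : V)
    letI := X.presheaf.algebra_section_stalk (⟨z, hzU⟩ : ↥(f ⁻¹ᵁ V))
    haveI : IsLocalization.AtPrime (Y.presheaf.stalk (f z)) (hV.primeIdealOf ⟨f z, hzU⟩).asIdeal :=
      hV.isLocalization_stalk ⟨f z, hzU⟩
    haveI : IsLocalization.AtPrime (X.presheaf.stalk z) (hU.primeIdealOf ⟨z, hzU⟩).asIdeal :=
      hU.isLocalization_stalk ⟨z, hzU⟩
    obtain ⟨w, hw⟩ := ((hres (f z) (hbij.mapsTo hz)).2 z rfl).2 (X.residue z (algebraMap _ _ t))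
    obtain ⟨w, rfl⟩ := Y.residue_surjective (f z) w
    obtain ⟨a, b, rfl⟩ := IsLocalization.exists_mk'_eq (hV.primeIdealOf ⟨f z, hzU⟩).asIdeal.primeCompl w
    refine ⟨b, a, fun hb => b.2 ?_, ?_⟩
    · exact (comap_primeIdealOf f hV z hzU).le hb
    · rw [← IsLocalization.AtPrime.to_map_mem_maximal_iff (X.presheaf.stalk z) (hU.primeIdealOf ⟨z, hzU⟩).asIdeal,
        ← IsLocalRing.residue_eq_zero_iff]
      have e1 : (f.stalkMap z).hom (algebraMap _ _ (b : Γ(Y, V))) = algebraMap _ _ ((f.app V).hom b) :=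
        Scheme.Hom.germ_stalkMap_apply f V z hzU _
      have e2 : (f.stalkMap z).hom (algebraMap _ _ a) = algebraMap _ _ ((f.app V).hom a) :=
        Scheme.Hom.germ_stalkMap_apply f V z hzU _
      have e3 : (X.residue z).hom ((f.stalkMap z).hom (IsLocalization.mk' _ a b)) = (X.residue z).hom (algebraMap _ _ t) :=
        (congr($(Scheme.residue_residueFieldMap f z) (IsLocalization.mk' _ a b))).symm.trans hw
      show (X.residue z).hom (algebraMap _ _ ((f.app V).hom b * t - (f.app V).hom a)) = 0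
      rw [map_sub, map_mul, map_sub, map_mul, ← e1, ← e2, ← e3, ← map_mul, ← map_mul, mul_comm (algebraMap _ _ (b : Γ(Y, V))),
        IsLocalization.mk'_spec, sub_self]

theorem ringExpChar_ne_zero (R : Type u) [CommRing R] [IsDomain R] : ringExpChar R ≠ 0 := by
  haveI := ringExpChar.expChar R
  exact (expChar_pos R _).ne'

theorem residueFieldMap_isPurelyInseparable_iff (x : X) :
    (f.residueFieldMap x).hom.IsPurelyInseparable ↔ PI (f.stalkMap x).hom := by
  letI := (f.residueFieldMap x).hom.toAlgebra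
  haveI := ringExpChar.expChar (X.residueField x)
  haveI : ExpChar (Y.residueField (f x)) (ringExpChar (X.residueField x)) :=
    RingHom.expChar (f.residueFieldMap x).hom (f.residueFieldMap x).hom.injective _
  show IsPurelyInseparable (Y.residueField (f x)) (X.residueField x) ↔ _
  rw [isPurelyInseparable_iff_pow_mem (Y.residueField (f x)) (ringExpChar (X.residueField x))]
  constructor
  · intro h P hP t
    obtain rfl : P = IsLocalRing.maximalIdeal (X.presheaf.stalk x) := IsLocalRing.eq_maximalIdeal hP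
    obtain ⟨n, c, hc⟩ := h ((X.residue x).hom t)
    obtain ⟨a, rfl⟩ := Y.residue_surjective (f x) c
    refine ⟨n, a, ?_⟩
    rw [← IsLocalRing.residue_eq_zero_iff, map_sub, map_pow, sub_eq_zero]
    exact hc.symm.trans congr($(Scheme.residue_residueFieldMap f x) a)
  · intro h c
    obtain ⟨t, rfl⟩ := X.residue_surjective x c
    obtain ⟨n, a, ha⟩ := h (IsLocalRing.maximalIdeal (X.presheaf.stalk x)) t
    rw [← IsLocalRing.residue_eq_zero_iff, map_sub, map_pow, sub_eq_zero] at ha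
    exact ⟨n, (Y.residue (f x)).hom a, congr($(Scheme.residue_residueFieldMap f x) a).trans ha.symm⟩

/-- Where the fibre is a single point the local map is a localisation of an affine piece. -/
theorem isGeomUnibranch_iff_of_fibre [IsIntegralHom f] (hf : RadPt.IsBirational f) (x : X)
    (huniq : ∀ x', f x' = f x → x' = x) :
    CAlg2.IsGeomUnibranch (Y.presheaf.stalk (f x)) ↔
      CAlg2.IsGeomUnibranch (X.presheaf.stalk x) ∧ (f.residueFieldMap x).hom.IsPurelyInseparable := by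
  obtain ⟨V, hV, hxV, -⟩ := exists_isAffineOpen_mem_and_subset (X := Y) (x := f x) (U := ⊤) trivial
  have hU := hV.preimage f
  letI := Y.presheaf.algebra_section_stalk (⟨f x, hxV⟩ : V)
  letI := X.presheaf.algebra_section_stalk (⟨x, hxV⟩ : ↥(f ⁻¹ᵁ V))
  let q := (hV.primeIdealOf ⟨f x, hxV⟩).asIdeal
  let P := (hU.primeIdealOf ⟨x, hxV⟩).asIdeal
  haveI : IsLocalization.AtPrime (Y.presheaf.stalk (f x)) q := hV.isLocalization_stalk ⟨f x, hxV⟩
  haveI : IsLocalization.AtPrime (X.presheaf.stalk x) P := hU.isLocalization_stalk ⟨x, hxV⟩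
  have hPq : P.comap (f.app V).hom = q := comap_primeIdealOf f hV x hxV
  have hone : ∀ P' : Ideal Γ(X, f ⁻¹ᵁ V), P'.IsPrime → P'.comap (f.app V).hom = q → P' = P := fun P' hP' e => by
    have h1 : hU.fromSpec ⟨P', hP'⟩ = x := by
      refine huniq _ ?_
      rw [fromSpec_comap f hV,
        show PrimeSpectrum.comap (f.app V).hom ⟨P', hP'⟩ = hV.primeIdealOf ⟨f x, hxV⟩ from PrimeSpectrum.ext e]
      exact hV.fromSpec_primeIdealOf _
    exact congrArg PrimeSpectrum.asIdeal (hU.fromSpec.isOpenEmbedding.injective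
      (h1.trans (hU.fromSpec_primeIdealOf ⟨x, hxV⟩).symm))
  haveI : IsLocalization (q.primeCompl.map (f.app V).hom) (X.presheaf.stalk x) := by
    refine (IsLocalization.iff_of_le_of_exists_dvd (q.primeCompl.map (f.app V).hom) P.primeCompl ?_ ?_).2 inferInstance
    · rintro _ ⟨v, hv, rfl⟩ hvP
      exact hv (hPq ▸ hvP)
    · intro u hu
      obtain ⟨v, hv, t, ht⟩ := Groth.L06.Unibranch.exists_mul_eq_map (f.app V).hom (f.isIntegral_app V hV) q hone hu
      exact ⟨_, ⟨v, hv, rfl⟩, t, (mul_comm t u ▸ ht).symm⟩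
  have hb := (birat_app f hV hf).localize q.primeCompl (Y.presheaf.stalk (f x)) (X.presheaf.stalk x)
    (f.stalkMap x).hom fun s => Scheme.Hom.germ_stalkMap_apply f V x hxV s
  rw [hb.isGeomUnibranch_iff, residueFieldMap_isPurelyInseparable_iff]
  exact ⟨fun ⟨_, h⟩ => h, fun h => ⟨inferInstance, h⟩⟩

theorem injective_over_of_isGeomUnibranch [IsIntegralHom f] (hf : RadPt.IsBirational f) (y : Y)
    (hy : CAlg2.IsGeomUnibranch (Y.presheaf.stalk y)) (x x' : X) (hx : f x = y) (hx' : f x' = y) : x = x' := by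
  obtain ⟨V, hV, hyV, -⟩ := exists_isAffineOpen_mem_and_subset (X := Y) (x := y) (U := ⊤) trivial
  have hU := hV.preimage f
  letI := Y.presheaf.algebra_section_stalk (⟨y, hyV⟩ : V)
  let q := (hV.primeIdealOf ⟨y, hyV⟩).asIdeal
  haveI : IsLocalization.AtPrime (Y.presheaf.stalk y) q := hV.isLocalization_stalk ⟨y, hyV⟩
  let M := q.primeCompl.map (f.app V).hom
  let T' := Localization M
  let ψ : Y.presheaf.stalk y →+* T' := IsLocalization.map T' (f.app V).hom
    (q.primeCompl.le_comap_map)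
  have hψ : ∀ s, ψ (algebraMap _ _ s) = algebraMap _ T' ((f.app V).hom s) := fun s => IsLocalization.map_eq _ s
  have hb := (birat_app f hV hf).localize q.primeCompl (Y.presheaf.stalk y) T' ψ hψ
  obtain ⟨hT', -, -⟩ := hb.isGeomUnibranch_iff.1 hy
  have key : ∀ z, ∀ (hz : f z = y), ∃ hzV : f z ∈ V,
      Ideal.map (algebraMap _ T') (hU.primeIdealOf ⟨z, hzV⟩).asIdeal = IsLocalRing.maximalIdeal T' ∧
      (Ideal.map (algebraMap _ T') (hU.primeIdealOf ⟨z, hzV⟩).asIdeal).comap (algebraMap _ T') =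
        (hU.primeIdealOf ⟨z, hzV⟩).asIdeal := by
    rintro z rfl
    refine ⟨hyV, ?_⟩
    let P := (hU.primeIdealOf ⟨z, hyV⟩).asIdeal
    have hPq : P.comap (f.app V).hom = q := comap_primeIdealOf f hV z hyV
    have hdis : Disjoint (M : Set Γ(X, f ⁻¹ᵁ V)) P := by
      rw [Set.disjoint_left]
      rintro _ ⟨v, hv, rfl⟩ hvP
      exact hv (hPq ▸ hvP)
    haveI := IsLocalization.isPrime_of_isPrime_disjoint M T' P (hU.primeIdealOf ⟨z, hyV⟩).isPrime hdis
    have hc : (Ideal.map (algebraMap _ T') P).comap (algebraMap _ T') = P :=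
      IsLocalization.under_map_of_isPrime_disjoint M T' (hU.primeIdealOf ⟨z, hyV⟩).isPrime hdis
    refine ⟨?_, hc⟩
    refine IsLocalRing.eq_maximalIdeal (Ideal.isMaximal_of_isIntegral_of_isMaximal_comap' ψ hb.isIntegral _ ?_)
    have e : ((Ideal.map (algebraMap _ T') P).comap ψ).comap (algebraMap Γ(Y, V) _) = q := by
      rw [Ideal.comap_comap, RingHom.ext hψ (f := ψ.comp (algebraMap Γ(Y, V) _))
        (g := (algebraMap _ T').comp (f.app V).hom), ← Ideal.comap_comap, hc, hPq]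
    have e2 : (Ideal.map (algebraMap _ T') P).comap ψ = IsLocalRing.maximalIdeal (Y.presheaf.stalk (f z)) := by
      rw [← IsLocalization.map_under q.primeCompl (Y.presheaf.stalk (f z)) ((Ideal.map (algebraMap _ T') P).comap ψ),
        ← IsLocalization.map_under q.primeCompl (Y.presheaf.stalk (f z)) (IsLocalRing.maximalIdeal _)]
      refine congrArg _ (e.trans (IsLocalization.AtPrime.under_maximalIdeal (Y.presheaf.stalk (f z)) q).symm)
    rw [e2]
    exact IsLocalRing.maximalIdeal.isMaximal _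
  obtain ⟨hV₁, h₁, c₁⟩ := key x hx
  obtain ⟨hV₂, h₂, c₂⟩ := key x' hx'
  have e : hU.primeIdealOf ⟨x, hV₁⟩ = hU.primeIdealOf ⟨x', hV₂⟩ := PrimeSpectrum.ext (by rw [← c₁, h₁, ← c₂, h₂])
  exact (hU.fromSpec_primeIdealOf ⟨x, hV₁⟩).symm.trans ((congrArg hU.fromSpec e).trans (hU.fromSpec_primeIdealOf ⟨x', hV₂⟩))

theorem surjective_of_isBirational [IsIntegralHom f] (hf : RadPt.IsBirational f) : Function.Surjective f := by
  intro y
  obtain ⟨η, hη, hs⟩ := Groth.L20.exists_genericPoint_specializes y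
  obtain ⟨x, -, rfl⟩ := hf.1.surjOn hη
  obtain ⟨x', -, rfl⟩ := f.isClosedMap.specializingMap hs
  exact ⟨x', rfl⟩

theorem isGeomUnibranch_iff_isRadicialAt [IsIntegralHom f] (hf : RadPt.IsBirational f) (y : Y) :
    CAlg2.IsGeomUnibranch (Y.presheaf.stalk y) ↔
      (RadPt.IsRadicialAt f y ∧ ∀ x : X, f x = y → CAlg2.IsGeomUnibranch (X.presheaf.stalk x)) := by
  constructor
  · intro hy
    have hinj := injective_over_of_isGeomUnibranch f hf y hy
    refine ⟨⟨hinj, ?_⟩, ?_⟩
    · rintro x rfl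
      exact ((isGeomUnibranch_iff_of_fibre f hf x fun x' h => hinj x' x h rfl).1 hy).2
    · rintro x rfl
      exact ((isGeomUnibranch_iff_of_fibre f hf x fun x' h => hinj x' x h rfl).1 hy).1
  · rintro ⟨⟨hinj, hpi⟩, hX⟩
    obtain ⟨x, rfl⟩ := surjective_of_isBirational f hf y
    exact (isGeomUnibranch_iff_of_fibre f hf x fun x' h => hinj x' x h rfl).2 ⟨hX x rfl, hpi x rfl⟩

theorem isGeomUnibranch_iff_universallyInjective [IsIntegralHom f] (hf : RadPt.IsBirational f) :
    (∀ y : Y, CAlg2.IsGeomUnibranch (Y.presheaf.stalk y)) ↔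
      ((∀ x : X, CAlg2.IsGeomUnibranch (X.presheaf.stalk x)) ∧ UniversallyInjective f) := by
  have h13 : UniversallyInjective f ↔ Function.Injective f ∧ ∀ x, (f.residueFieldMap x).hom.IsPurelyInseparable :=
    (tfae_universallyInjective f).out 0 2
  simp only [isGeomUnibranch_iff_isRadicialAt f hf, h13]
  refine ⟨fun h => ⟨fun x => (h (f x)).2 x rfl, fun x x' e => (h (f x)).1.1 x x' rfl e.symm,
    fun x => (h (f x)).1.2 x rfl⟩, ?_⟩
  rintro ⟨hX, hi, hp⟩ y
  exact ⟨⟨fun x x' e e' => hi (e.trans e'.symm), fun x _ => hp x⟩, fun x _ => hX x⟩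

end Groth.L06.BiratUnibranch
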