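import Groth.Prelude.Def_CAlg2
import Groth.Prelude.Def_Hensel
import Groth.Agent.L07.BrnchCompl.Compl
import Groth.Agent.L07.BrnchCompl.DimOne
import Groth.Agent.L23.BranchTensor
import Groth.Agent.L05.Henselization.Noeth
import Groth.Agent.L05.Henselization.Strict
import Groth.Agent.L05.HensTensor.WEHens
import Groth.Agent.L05.StrictGalois.Union
import Groth.Agent.L20.StrictHensWE
import Groth.Agent.L20.WeaklyEtaleStalk
import Groth.Agent.L03.RegularFiniteExt
import Groth.Agent.S9242
import Groth.Agent.S0512
import Mathlib.RingTheory.Ideal.KrullsHeightTheorem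
import Mathlib.Tactic.TFAE

/-!
# Dimensions of branches: normalization, henselizations, completion
-/

set_option autoImplicit false
set_option maxSynthPendingDepth 3
set_option linter.style.haveILetI false

universe u

open IsLocalRing TensorProduct Groth.L05.Henselization

noncomputable section

namespace Groth.L06.C2Branches

/-- Every component has dimension at least 2. -/
def Two (R : Type u) [CommRing R] : Prop := ∀ p ∈ minimalPrimes R, (2 : WithBot ℕ∞) ≤ ringKrullDim (R ⧸ p)

theorem dim_quot_le_of_map_eq (S B : Type u) [CommRing S] [IsLocalRing S] [IsNoetherianRing S] [CommRing B]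
    [IsLocalRing B] [IsNoetherianRing B] [Algebra S B]
    (hm : (maximalIdeal S).map (algebraMap S B) = maximalIdeal B) :
    ringKrullDim B ≤ ringKrullDim S := by
  haveI : (maximalIdeal B).LiesOver (maximalIdeal S) := ⟨((maximalIdeal.isMaximal S).eq_of_le
    (Ideal.comap_ne_top _ (maximalIdeal.isMaximal B).ne_top) (Ideal.map_le_iff_le_comap.1 hm.le))⟩
  have h := Ideal.height_le_height_add_of_liesOver (maximalIdeal S) (maximalIdeal B)
  have h0 : ((maximalIdeal B).map (Ideal.Quotient.mk ((maximalIdeal S).map (algebraMap S B)))).height = 0 := by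
    have e : (maximalIdeal B).map (Ideal.Quotient.mk ((maximalIdeal S).map (algebraMap S B))) = ⊥ := by
      rw [hm]
      exact Ideal.map_quotient_self _
    haveI : IsDomain (B ⧸ (maximalIdeal S).map (algebraMap S B)) := by
      rw [hm]; infer_instance
    rw [e]
    exact Ideal.height_bot
  rw [h0, add_zero] at h
  rw [← IsLocalRing.maximalIdeal_height_eq_ringKrullDim, ← IsLocalRing.maximalIdeal_height_eq_ringKrullDim]
  exact WithBot.coe_le_coe.2 h

theorem dim_le_of_radical (S B : Type u) [CommRing S] [CommRing B] [Algebra S B] [Module.FaithfullyFlat S B]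
    (I : Ideal S) (J : Ideal B) (hJ : J ≤ (I.map (algebraMap S B)).radical) :
    ringKrullDim (S ⧸ I) ≤ ringKrullDim (B ⧸ J) := by
  refine iSup_le fun l => ?_
  let l' : LTSeries (PrimeSpectrum S) := l.map (PrimeSpectrum.comap (Ideal.Quotient.mk I))
    (RingHom.strictMono_comap_of_surjective Ideal.Quotient.mk_surjective)
  obtain ⟨⟨Q, hQ⟩, hQl⟩ := PrimeSpectrum.comap_surjective_of_faithfullyFlat (B := B) l'.last
  haveI : Q.IsPrime := hQ
  haveI : Q.LiesOver l'.last.asIdeal := ⟨(congrArg PrimeSpectrum.asIdeal hQl).symm⟩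
  obtain ⟨L, hL, -, hLmap⟩ := Ideal.exists_ltSeries_of_hasGoingDown (R := S) (S := B) l' Q
  have hmem : ∀ i, I.map (algebraMap S B) ≤ (L i).asIdeal := fun i => by
    have : PrimeSpectrum.comap (algebraMap S B) (L i) ∈ l'.toList := by
      rw [← hLmap]
      exact List.mem_map_of_mem (RelSeries.mem_toList.2 ⟨i, rfl⟩)
    obtain ⟨j, hj⟩ := RelSeries.mem_toList.1 this
    rw [Ideal.map_le_iff_le_comap]
    intro a ha
    have h1 : a ∈ (PrimeSpectrum.comap (algebraMap S B) (L i)).asIdeal := by
      rw [← hj]
      show Ideal.Quotient.mk I a ∈ (l j).asIdeal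
      rw [Ideal.Quotient.eq_zero_iff_mem.2 ha]
      exact zero_mem _
    exact h1
  have hJL : ∀ i, J ≤ (L i).asIdeal := fun i => hJ.trans ((L i).2.radical_le_iff.2 (hmem i))
  have hle : (l.length : WithBot ℕ∞) ≤ Order.krullDim (PrimeSpectrum.zeroLocus (J : Set B)) := by
    let M : LTSeries (PrimeSpectrum.zeroLocus (J : Set B)) :=
      { length := L.length
        toFun := fun i => ⟨L i, hJL i⟩
        step := fun i => L.step i }
    have h := Order.LTSeries.length_le_krullDim M
    rwa [show M.length = l.length from hL] at h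
  exact hle.trans (ringKrullDim_quotient J).ge

theorem quot_local (R : Type u) [CommRing R] [IsLocalRing R] (I : Ideal R) (h : I ≠ ⊤) : IsLocalRing (R ⧸ I) := by
  haveI := Ideal.Quotient.nontrivial_iff.mpr h
  exact IsLocalRing.of_surjective' (Ideal.Quotient.mk I) Ideal.Quotient.mk_surjective

theorem dim_atPrime_eq (N T : Type u) [CommRing N] [CommRing T] [Algebra N T] [Algebra.WeaklyEtale N T]
    (hincomp : ∀ P Q : Ideal T, P.IsPrime → Q.IsPrime → P ≤ Q →
      P.comap (algebraMap N T) = Q.comap (algebraMap N T) → P = Q) (M : Ideal T) [M.IsPrime] :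
    ringKrullDim (Localization.AtPrime M) = ringKrullDim (Localization.AtPrime (M.comap (algebraMap N T))) := by
  let n := M.comap (algebraMap N T)
  letI : Algebra (Localization.AtPrime n) (Localization.AtPrime M) :=
    (Localization.localRingHom n M (algebraMap N T) rfl).toAlgebra
  haveI : IsLocalHom (algebraMap (Localization.AtPrime n) (Localization.AtPrime M)) :=
    Localization.isLocalHom_localRingHom n M _ rfl
  haveI : IsScalarTower N (Localization.AtPrime n) (Localization.AtPrime M) :=
    IsScalarTower.of_algebraMap_eq fun x => by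
      rw [RingHom.algebraMap_toAlgebra, Localization.localRingHom_to_map,
        IsScalarTower.algebraMap_apply N T (Localization.AtPrime M)]
  haveI : Algebra.WeaklyEtale (Localization.AtPrime n) (Localization.AtPrime M) :=
    Groth.L20.weaklyEtale_of_isLocalization (A := N) (B := T) n.primeCompl M.primeCompl _ _
  haveI : Module.FaithfullyFlat (Localization.AtPrime n) (Localization.AtPrime M) := faithfullyFlat_of_flat_local
  refine le_antisymm ?_ (le_ringKrullDim_of_faithfullyFlat _ _)
  refine Order.krullDim_le_of_strictMono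
    (fun Q => PrimeSpectrum.comap (algebraMap (Localization.AtPrime n) (Localization.AtPrime M)) Q)
    fun Q₁ Q₂ hlt => lt_of_le_of_ne (Ideal.comap_mono hlt.le) fun heq => hlt.ne (PrimeSpectrum.ext ?_)
  have hT := hincomp (Q₁.asIdeal.comap (algebraMap T (Localization.AtPrime M)))
    (Q₂.asIdeal.comap (algebraMap T (Localization.AtPrime M))) (Ideal.comap_isPrime _ _) (Ideal.comap_isPrime _ _)
    (Ideal.comap_mono hlt.le) (by
      rw [Ideal.comap_comap, Ideal.comap_comap, ← IsScalarTower.algebraMap_eq N T (Localization.AtPrime M),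
        IsScalarTower.algebraMap_eq N (Localization.AtPrime n) (Localization.AtPrime M), ← Ideal.comap_comap,
        ← Ideal.comap_comap]
      exact congrArg (fun z : PrimeSpectrum _ => z.asIdeal.comap (algebraMap N (Localization.AtPrime n))) heq)
  rw [← IsLocalization.map_comap M.primeCompl _ Q₁.asIdeal, ← IsLocalization.map_comap M.primeCompl _ Q₂.asIdeal]
  exact congrArg (Ideal.map _) hT

variable (A : Type u) [CommRing A] [IsNoetherianRing A] [IsLocalRing A]
variable (S : Type u) [CommRing S] [IsLocalRing S] [Algebra A S] [IsLocalHom (algebraMap A S)]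
variable [hS : Hensel.IsHenselization A S]

include hS in
theorem two_completion_iff : Two S ↔ Two (AdicCompletion (maximalIdeal A) A) := by
  haveI : HenselianLocalRing S := hS.henselian
  obtain ⟨ψ, hψ⟩ := Groth.L07.BrnchCompl.exists_psi A S
  obtain ⟨hSn, hBn, hflat, hm, hloc, -⟩ := Groth.L07.BrnchCompl.hens_data A S ψ hψ
  letI := ψ.toAlgebra
  haveI := hSn
  haveI := hBn
  haveI := hflat
  haveI := hloc
  haveI : Module.FaithfullyFlat S (AdicCompletion (maximalIdeal A) A) :=
    Module.FaithfullyFlat.of_flat_of_isLocalHom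
  set B := AdicCompletion (maximalIdeal A) A with hB
  constructor
  · intro h q hq
    by_contra hlt
    rw [not_le] at hlt
    haveI := hq.isPrime
    haveI := quot_local B q hq.isPrime.ne_top
    have hne : ringKrullDim (B ⧸ q) ≠ 0 := by
      intro h0
      obtain ⟨p, hp, -⟩ := Ideal.exists_minimalPrimes_le (I := (⊥ : Ideal S)) (J := maximalIdeal S) bot_le
      have h2 := (h p hp).trans ((ringKrullDim_quotient_le p).trans (le_ringKrullDim_of_faithfullyFlat S B))
      have hqm : q = maximalIdeal B := by
        haveI : Ring.KrullDimLE 0 (B ⧸ q) := Ring.krullDimLE_iff.mpr h0.le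
        have hmax : (⊥ : Ideal (B ⧸ q)).IsMaximal := Ideal.IsPrime.isMaximal' Ideal.isPrime_bot
        have hc := Ideal.comap_isMaximal_of_surjective (K := (⊥ : Ideal (B ⧸ q))) _ Ideal.Quotient.mk_surjective
        rw [← RingHom.ker_eq_comap_bot, Ideal.mk_ker] at hc
        exact IsLocalRing.eq_maximalIdeal hc
      have hB0 : ringKrullDim B ≤ 0 := by
        rw [← Nat.cast_zero, ← Ring.krullDimLE_iff]
        refine Ring.KrullDimLE.mk₀ fun P hP => ?_
        have : q ≤ P := by
          obtain ⟨Q, hQ, hQP⟩ := Ideal.exists_minimalPrimes_le (I := (⊥ : Ideal B)) (J := P) bot_le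
          have : Q = q := le_antisymm (hqm ▸ le_maximalIdeal hQ.isPrime.ne_top)
            (hq.2 ⟨hQ.isPrime, bot_le⟩ (hqm ▸ le_maximalIdeal hQ.isPrime.ne_top))
          exact this ▸ hQP
        rw [show P = maximalIdeal B from le_antisymm (le_maximalIdeal hP.ne_top) (hqm ▸ this)]
        exact maximalIdeal.isMaximal B
      have := h2.trans hB0
      norm_cast at this
    have h1 : ringKrullDim (B ⧸ q) = 1 := by
      have h0 : (0 : WithBot ℕ∞) ≤ ringKrullDim (B ⧸ q) := ringKrullDim_nonneg_of_nontrivial
      revert hlt hne h0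
      generalize ringKrullDim (B ⧸ q) = d
      intro hlt hne h0
      induction d using WithBot.recBotCoe with
      | bot => simp at h0
      | coe d =>
        induction d using ENat.recTopCoe with
        | top => exact absurd hlt (not_lt.2 (WithBot.coe_le_coe.2 le_top))
        | coe d =>
          change ((d : ℕ) : WithBot ℕ∞) < ((2 : ℕ) : WithBot ℕ∞) at hlt
          change ((d : ℕ) : WithBot ℕ∞) ≠ ((0 : ℕ) : WithBot ℕ∞) at hne
          change ((d : ℕ) : WithBot ℕ∞) = ((1 : ℕ) : WithBot ℕ∞)
          norm_cast at hlt hne ⊢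
          omega
    obtain ⟨q', hq', hrad⟩ := Groth.Agent.S9242.result A S ψ hψ q hq h1
    exact not_le.2 hlt ((h q' hq').trans (dim_le_of_radical S B q' q hrad.ge))
  · intro h p hp
    haveI := hp.isPrime
    obtain ⟨q, hq, hqp⟩ := Groth.L07.BrnchCompl.surjOn (S := S) (B := B) hp
    have hle : p.map (algebraMap S B) ≤ q := Ideal.map_le_iff_le_comap.2 hqp.ge
    refine (h q hq).trans ((ringKrullDim_le_of_surjective (Ideal.Quotient.factor hle)
      (Ideal.Quotient.factor_surjective hle)).trans ?_)
    haveI := quot_local S p hp.isPrime.ne_top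
    haveI := quot_local B (p.map (algebraMap S B)) (ne_top_of_le_ne_top hq.isPrime.ne_top hle)
    refine dim_quot_le_of_map_eq (S ⧸ p) (B ⧸ p.map (algebraMap S B)) ?_
    rw [← IsLocalRing.map_maximalIdeal_of_surjective (Ideal.Quotient.mk p) Ideal.Quotient.mk_surjective,
      ← IsLocalRing.map_maximalIdeal_of_surjective (Ideal.Quotient.mk (p.map (algebraMap S B)))
        Ideal.Quotient.mk_surjective, ← hm, Ideal.map_map, Ideal.map_map]
    rfl

include hS in
theorem two_strict_iff (S' : Type u) [CommRing S'] [IsLocalRing S'] [Algebra A S']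
    [IsLocalHom (algebraMap A S')] [Hensel.IsStrictHenselization A S'] : Two S ↔ Two S' := by
  haveI : HenselianLocalRing S := hS.henselian
  obtain ⟨T, _, _, _, _, hT⟩ := exists_isStrictHenselization S
  letI : Algebra A T := ((algebraMap S T).comp (algebraMap A S)).toAlgebra
  haveI : IsScalarTower A S T := IsScalarTower.of_algebraMap_eq' rfl
  haveI : IsLocalHom (algebraMap A T) := RingHom.isLocalHom_comp _ _
  haveI : Algebra.WeaklyEtale A S :=
    Groth.L27.IndEtale.weaklyEtale A S (isIndEtale_of_isHenselization A S)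
  haveI : Algebra.WeaklyEtale S T :=
    Groth.L27.IndEtale.weaklyEtale S T (isIndEtale_of_isStrictHenselization S T)
  haveI : Algebra.WeaklyEtale A T := Algebra.WeaklyEtale.trans A S T
  haveI : HenselianLocalRing T := hT.henselian
  haveI : IsSepClosed (ResidueField T) := hT.isSepClosure.sep_closed
  haveI := Groth.L05.HensTensor.isStrictHenselization_of_weaklyEtale A T
  obtain ⟨e⟩ := Groth.L05.HensTensor.exists_algEquiv_of_isStrictHenselization (R := A) (S := T) (S' := S')
  letI : Algebra S S' := (e.toRingEquiv.toRingHom.comp (algebraMap S T)).toAlgebra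
  haveI : IsLocalHom e.toRingEquiv.toRingHom := ⟨fun x hx => by simpa using hx.map e.symm⟩
  haveI : IsLocalHom (algebraMap S S') := RingHom.isLocalHom_comp _ _
  haveI hST : Hensel.IsStrictHenselization S S' :=
    Groth.L20.StrictHensWE.isStrictHenselization_of_ringEquiv S T S' e.toRingEquiv rfl
  haveI : Algebra.IsIntegral S S' := Groth.L05.StrictGalois.isIntegral_strict (hS := hST)
  haveI : Module.Flat S S' := flat_of_isStrictHenselization S S'
  have key : ∀ p' ∈ minimalPrimes S', ringKrullDim (S' ⧸ p') = ringKrullDim (S ⧸ p'.comap (algebraMap S S')) := by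
    intro p' _
    exact (Groth.L03.RegularFiniteExt.ringKrullDim_eq_of_integral (A := S ⧸ p'.comap (algebraMap S S'))
      (B := S' ⧸ p') Ideal.quotientMap_injective).symm
  constructor
  · intro h p' hp'
    rw [key p' hp']
    exact h _ (Groth.L07.BrnchCompl.mapsTo S S' hp')
  · intro h p hp
    obtain ⟨p', hp', rfl⟩ := Groth.L07.BrnchCompl.surjOn (S := S) (B := S') hp
    rw [← key p' hp']
    exact h p' hp'

include hS in
omit [IsNoetherianRing A] in
theorem eq_of_le_of_comap_eq {P Q : Ideal S} [P.IsPrime] [Q.IsPrime] (h : P ≤ Q)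
    (hc : P.comap (algebraMap A S) = Q.comap (algebraMap A S)) : P = Q := by
  obtain ⟨e⟩ := henselization_algEquiv A S
  have he : Function.Surjective e.toAlgHom.toRingHom := e.surjective
  refine Ideal.comap_injective_of_surjective _ he ?_
  refine Groth.L05.Henselization.eq_of_le_of_comap_eq (Ideal.comap_mono h) ?_
  rw [Ideal.comap_comap, Ideal.comap_comap,
    show e.toAlgHom.toRingHom.comp (algebraMap A _) = algebraMap A S from e.toAlgHom.comp_algebraMap]
  exact hc

include hS in
set_option maxHeartbeats 800000 in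
theorem two_norm_iff (N : Type u) [CommRing N] [Algebra A N] [Algebra.IsIntegral A N]
    (hnor : ∀ (n : Ideal N) [n.IsPrime],
      IsDomain (Localization.AtPrime n) ∧ IsIntegrallyClosed (Localization.AtPrime n))
    (hbij : Set.BijOn (fun P : Ideal (N ⊗[A] S) =>
        P.comap (Algebra.TensorProduct.includeRight : S →ₐ[A] N ⊗[A] S).toRingHom)
      (minimalPrimes (N ⊗[A] S)) (minimalPrimes S)) :
    (∀ m' : MaximalSpectrum N, (2 : WithBot ℕ∞) ≤ ringKrullDim (Localization.AtPrime m'.asIdeal)) ↔ Two S := by
  haveI : HenselianLocalRing S := hS.henselian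
  haveI := flat_of_isHenselization A S
  haveI : Algebra.WeaklyEtale A S :=
    Groth.L27.IndEtale.weaklyEtale A S (isIndEtale_of_isHenselization A S)
  haveI : Module.FaithfullyFlat A S := faithfullyFlat_of_flat_local
  let T := N ⊗[A] S
  let iS : S →+* T := (Algebra.TensorProduct.includeRight : S →ₐ[A] T).toRingHom
  letI : Algebra S T := iS.toAlgebra
  haveI : IsScalarTower A S T := IsScalarTower.of_algebraMap_eq fun a =>
    ((Algebra.TensorProduct.includeRight : S →ₐ[A] T).commutes a).symm
  haveI : Algebra.IsIntegral S T := ⟨fun z => by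
    induction z using TensorProduct.induction_on with
    | zero => exact isIntegral_zero
    | add x y hx hy => exact hx.add hy
    | tmul n s =>
      rw [show n ⊗ₜ[A] s = (n ⊗ₜ[A] (1 : S)) * (1 ⊗ₜ[A] s) by
        rw [Algebra.TensorProduct.tmul_mul_tmul, mul_one, one_mul]]
      exact ((Algebra.IsIntegral.isIntegral (R := A) n).map
        (Algebra.TensorProduct.includeLeft : N →ₐ[A] T)).tower_top.mul
        (isIntegral_algebraMap (R := S) (A := T) (x := s))⟩
  have hincomp : ∀ P Q : Ideal T, P.IsPrime → Q.IsPrime → P ≤ Q →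
      P.comap (algebraMap N T) = Q.comap (algebraMap N T) → P = Q := by
    intro P Q hP hQ hle he
    haveI := hP
    haveI := hQ
    have hA : (P.comap (algebraMap S T)).comap (algebraMap A S) = (Q.comap (algebraMap S T)).comap (algebraMap A S) := by
      rw [Ideal.comap_comap, Ideal.comap_comap, ← IsScalarTower.algebraMap_eq, IsScalarTower.algebraMap_eq A N T,
        ← Ideal.comap_comap, ← Ideal.comap_comap, he]
    have h1 := eq_of_le_of_comap_eq A S (Ideal.comap_mono hle) hA
    by_contra hne
    exact (Ideal.IsIntegral.comap_lt_comap (A := T) (lt_of_le_of_ne hle hne)).ne h1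
  have key : ∀ (P : Ideal T), P ∈ minimalPrimes T → ∀ (M : Ideal T) [M.IsMaximal], P ≤ M →
      ringKrullDim (S ⧸ P.comap (algebraMap S T)) =
        ringKrullDim (Localization.AtPrime (M.comap (algebraMap N T))) := by
    intro P hP M _ hPM
    haveI := hP.isPrime
    rw [Groth.L03.RegularFiniteExt.ringKrullDim_eq_of_integral (A := S ⧸ P.comap (algebraMap S T)) (B := T ⧸ P)
      Ideal.quotientMap_injective]
    have hiff : ∀ Q : PrimeSpectrum T, P ≤ Q.asIdeal ↔ Q.asIdeal ≤ M := by
      intro Q
      constructor
      · intro h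
        obtain ⟨M', hM', hle⟩ := Q.asIdeal.exists_le_maximal Q.2.ne_top
        rwa [(Groth.L23.Branch.existsUnique_maximal_ge A S N P).unique ⟨‹M.IsMaximal›, hPM⟩ ⟨hM', h.trans hle⟩]
      · intro h
        obtain ⟨P', hP', hle⟩ := Ideal.exists_minimalPrimes_le (I := (⊥ : Ideal T)) (J := Q.asIdeal) bot_le
        rwa [(Groth.L23.Branch.existsUnique_minimalPrime_le_tensor A S N hnor M).unique ⟨hP, hPM⟩
          ⟨hP', hle.trans h⟩]
    have e : ringKrullDim (T ⧸ P) = ringKrullDim (Localization.AtPrime M) := by
      rw [ringKrullDim_quotient]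
      refine Order.krullDim_eq_of_orderIso ?_
      refine OrderIso.trans ?_ (IsLocalization.AtPrime.primeSpectrumOrderIso (Localization.AtPrime M) M).symm
      exact
        { toFun := fun Q => ⟨Q.1, (hiff Q.1).1 Q.2⟩
          invFun := fun Q => ⟨Q.1, (hiff Q.1).2 Q.2⟩
          left_inv := fun Q => rfl
          right_inv := fun Q => rfl
          map_rel_iff' := Iff.rfl }
    rw [e]
    exact dim_atPrime_eq N T hincomp M
  constructor
  · intro h p hp
    obtain ⟨P, hP, rfl⟩ := hbij.surjOn hp
    haveI := hP.isPrime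
    obtain ⟨M, hM, hPM⟩ := P.exists_le_maximal hP.isPrime.ne_top
    haveI := hM
    have hmS : (M.comap (algebraMap S T)).IsMaximal := Ideal.isMaximal_comap_of_isIntegral_of_isMaximal M
    have hn : (M.comap (algebraMap N T)).IsMaximal := by
      have hmA : (maximalIdeal S).comap (algebraMap A S) = maximalIdeal A :=
        ((IsLocalRing.local_hom_TFAE (algebraMap A S)).out 0 4).mp ‹IsLocalHom (algebraMap A S)›
      refine Ideal.isMaximal_of_isIntegral_of_isMaximal_comap (R := A) _ ?_
      rw [Ideal.comap_comap, ← IsScalarTower.algebraMap_eq, IsScalarTower.algebraMap_eq A S T, ← Ideal.comap_comap,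
        IsLocalRing.eq_maximalIdeal hmS, hmA]
      exact maximalIdeal.isMaximal A
    show _ ≤ ringKrullDim (S ⧸ P.comap (algebraMap S T))
    rw [key P hP M hPM]
    exact h ⟨_, hn⟩
  · intro h m'
    obtain ⟨n, hn⟩ := m'
    haveI := hn
    haveI : Module.FaithfullyFlat N T := inferInstance
    obtain ⟨Q, hQ⟩ := PrimeSpectrum.comap_surjective_of_faithfullyFlat (A := N) (B := T) ⟨n, hn.isPrime⟩
    obtain ⟨M, hM, hQM⟩ := Q.asIdeal.exists_le_maximal Q.2.ne_top
    haveI := hM
    have hMn : M.comap (algebraMap N T) = n := (hn.eq_of_le (Ideal.comap_ne_top _ hM.ne_top)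
      ((congrArg PrimeSpectrum.asIdeal hQ).ge.trans (Ideal.comap_mono hQM))).symm
    obtain ⟨P, hP, hPM⟩ := Ideal.exists_minimalPrimes_le (I := (⊥ : Ideal T)) (J := M) bot_le
    subst hMn
    show _ ≤ ringKrullDim (Localization.AtPrime (M.comap (algebraMap N T)))
    rw [← key P hP M hPM]
    exact h _ (hbij.mapsTo hP)

include hS in
theorem two_normRed_iff :
    (∀ m' : MaximalSpectrum (CAlg2.normRed A), (2 : WithBot ℕ∞) ≤ ringKrullDim (Localization.AtPrime m'.asIdeal)) ↔
      Two S := by
  haveI : Algebra.IsIntegral A (CAlg2.normRed A) := Branches.isIntegral_normRed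
  haveI := flat_of_isHenselization A S
  exact two_norm_iff A S (CAlg2.normRed A)
    (fun n _ => Groth.L23.Branch.isNormal_normRed A (minimalPrimes.finite_of_isNoetherianRing A) n)
    (Groth.L23.Branch.bijOn_minimalPrimes_tensor A S)

end Groth.L06.C2Branches
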