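import Groth.Prelude.Def_EGA4b
import Groth.Agent.L03.CMAffine
import Groth.Agent.L03.FibreLocalDim
import Groth.Agent.L22.FibreSemicont
import Groth.Agent.L12.CMTransfer
import Mathlib.RingTheory.TensorProduct.Quotient
import Mathlib.RingTheory.LocalRing.ResidueField.Fiber
import Mathlib.RingTheory.Spectrum.Prime.RingHom

/-! Openness, in a vanishing locus, of fibrewise regularity of a sequence for Cohen–Macaulay fibres. -/

set_option autoImplicit false
set_option maxSynthPendingDepth 3
set_option linter.style.haveILetI false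
universe u

open CategoryTheory AlgebraicGeometry TensorProduct IsLocalRing

namespace Groth.L06.CMFibreRegLocus

/-! ### Local dimensions on affine schemes over a field -/

theorem localDim_eq_iSup (k T : Type u) [Field k] [CommRing T] [Algebra k T] [Algebra.FiniteType k T]
    (Q : PrimeSpectrum T) :
    FlatMor.localDim (PrimeSpectrum T) Q = ⨆ η : {η : PrimeSpectrum T // η ⤳ Q}, ringKrullDim (T ⧸ η.1.asIdeal) := by
  letI : (Spec (CommRingCat.of T)).Over (Spec (CommRingCat.of k)) :=
    ⟨Spec.map (CommRingCat.ofHom (algebraMap k T))⟩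
  haveI : LocallyOfFiniteType (Spec (CommRingCat.of T) ↘ Spec (CommRingCat.of k)) :=
    (HasRingHomProperty.Spec_iff (P := @LocallyOfFiniteType)).2 (RingHom.finiteType_algebraMap.2 inferInstance)
  refine (Groth.L22.FibreSemicont.localDim_eq_iSup k (X := Spec (CommRingCat.of T)) Q).trans ?_
  refine iSup_congr fun η => ?_
  rw [← PrimeSpectrum.topologicalKrullDim_eq_ringKrullDim]
  refine (Groth.L22.SchemeDim.topologicalKrullDim_eq_of_isEmbedding
    (PrimeSpectrum.isClosedEmbedding_comap_of_surjective _ _ Ideal.Quotient.mk_surjective).isEmbedding ?_)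
  rw [range_comap_of_surjective _ _ Ideal.Quotient.mk_surjective, Ideal.mk_ker]
  exact (PrimeSpectrum.closure_singleton η.1).symm

theorem localDim_le_iff (k T : Type u) [Field k] [CommRing T] [Algebra k T] [Algebra.FiniteType k T]
    (J : Ideal T) (Q : PrimeSpectrum (T ⧸ J)) (n : WithBot ℕ∞) :
    FlatMor.localDim (PrimeSpectrum (T ⧸ J)) Q ≤ n ↔
      ∀ q₀ ∈ J.minimalPrimes, q₀ ≤ Q.asIdeal.comap (Ideal.Quotient.mk J) → ringKrullDim (T ⧸ q₀) ≤ n := by
  rw [localDim_eq_iSup k, iSup_le_iff]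
  constructor
  · intro h q₀ hq₀ hle
    haveI := hq₀.1.1
    let η : PrimeSpectrum (T ⧸ J) := ⟨q₀.map (Ideal.Quotient.mk J),
      Ideal.map_isPrime_of_surjective Ideal.Quotient.mk_surjective (Ideal.mk_ker.le.trans hq₀.1.2)⟩
    have := h ⟨η, (PrimeSpectrum.le_iff_specializes η Q).1 ((Ideal.map_mono hle).trans Ideal.map_comap_le)⟩
    rwa [← ringKrullDim_eq_of_ringEquiv (DoubleQuot.quotQuotEquivQuotOfLE hq₀.1.2)]
  · rintro h ⟨η, hη⟩
    have hJ : J ≤ η.asIdeal.comap (Ideal.Quotient.mk J) := fun a ha => by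
      rw [Ideal.mem_comap, Ideal.Quotient.eq_zero_iff_mem.2 ha]; exact zero_mem _
    obtain ⟨q₀, hq₀, hle⟩ := Ideal.exists_minimalPrimes_le hJ
    refine le_trans ?_ (h q₀ hq₀ (hle.trans (Ideal.comap_mono ((PrimeSpectrum.le_iff_specializes η Q).2 hη))))
    rw [← ringKrullDim_eq_of_ringEquiv (RingHom.quotientKerEquivOfSurjective
      (f := (Ideal.Quotient.mk η.asIdeal).comp (Ideal.Quotient.mk J))
      (Ideal.Quotient.mk_surjective.comp Ideal.Quotient.mk_surjective))]
    refine ringKrullDim_le_of_surjective (Ideal.Quotient.factor ?_) (Ideal.Quotient.factor_surjective _)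
    rw [← RingHom.comap_ker, Ideal.mk_ker]
    exact hle

/-- The criterion for regularity of a sequence in a localisation of an equidimensional CM affine algebra. -/
theorem isRegular_iff (k T : Type u) [Field k] [CommRing T] [Algebra k T] [Algebra.FiniteType k T]
    [LocCoh.IsCohenMacaulayRing T] (d : ℕ) (heq : ∀ P ∈ minimalPrimes T, ringKrullDim (T ⧸ P) = d)
    (Q : Ideal T) [Q.IsPrime] (f : List T) (hf : Ideal.ofList f ≤ Q) (A : Type u) [CommRing A]
    [Algebra T A] [IsLocalization.AtPrime A Q] :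
    RingTheory.Sequence.IsRegular A (f.map (algebraMap T A)) ↔
      ∀ q₀ ∈ (Ideal.ofList f).minimalPrimes, q₀ ≤ Q → ringKrullDim (T ⧸ q₀) + f.length ≤ d := by
  classical
  haveI : IsNoetherianRing T := Algebra.FiniteType.isNoetherianRing k T
  haveI : IsLocalRing A := IsLocalization.AtPrime.isLocalRing A Q
  haveI : IsNoetherianRing A := IsLocalization.isNoetherianRing Q.primeCompl A inferInstance
  let e := IsLocalization.algEquiv Q.primeCompl (Localization.AtPrime Q) A
  have hcm : LocCoh.IsCohenMacaulayLocalRing A := by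
    haveI : LocCoh.IsCohenMacaulayLocalRing (Localization.AtPrime Q) :=
      LocCoh.IsCohenMacaulayRing.isCohenMacaulayLocalRing_localization Q
    refine { supportDim_eq_depth := ?_ }
    exact Groth.L12.CMTransfer.isCM_of_semilinear e.toRingEquiv e.toRingEquiv.toAddEquiv
      (fun a x => map_mul e a x) LocCoh.IsCohenMacaulayLocalRing.supportDim_eq_depth
  haveI : LocCoh.IsCohenMacaulayRing A := Groth.L04.isCohenMacaulayRing_of_local A
  set xs := f.map (algebraMap T A)
  have hJ : Ideal.ofList xs = (Ideal.ofList f).map (algebraMap T A) := (Ideal.map_ofList _ f).symm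
  have hmem : ∀ x ∈ xs, x ∈ maximalIdeal A := by
    intro x hx
    obtain ⟨y, hy, rfl⟩ := List.mem_map.1 hx
    exact (IsLocalization.AtPrime.to_map_mem_maximal_iff A Q y).2 (hf (Ideal.subset_span hy))
  have hne : Ideal.ofList xs ≠ ⊤ :=
    ne_top_of_le_ne_top (maximalIdeal.isMaximal A).ne_top (Ideal.span_le.2 hmem)
  have hreg : RingTheory.Sequence.IsRegular A xs ↔ (f.length : ℕ∞) ≤ (Ideal.ofList xs).height := by
    rw [← Groth.L04.isCohenMacaulayRing_iff_height.1 inferInstance _ hne]
    have hlen : xs.length = f.length := List.length_map _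
    constructor
    · intro h
      rw [(Groth.L04.idealDepth_eq_length_iff xs hmem).2 h.toIsWeaklyRegular, hlen]
    · intro h
      refine ⟨(Groth.L04.idealDepth_eq_length_iff xs hmem).1
        (le_antisymm (Groth.L04.idealDepth_ofList_le_length xs hmem) (by rw [hlen]; exact h)), ?_⟩
      rw [smul_eq_mul, Ideal.mul_top]
      exact hne.symm
  rw [hreg, hJ, Ideal.height_eq_inf_minimalPrimes, le_iInf₂_iff]
  constructor
  · intro h q₀ hq₀ hle
    haveI := hq₀.1.1
    obtain ⟨ht, e', hht, he', hsum⟩ := Groth.L03.CMAffine.height_add_dim k d heq q₀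
    have hdis : Disjoint (Q.primeCompl : Set T) (q₀ : Set T) := Set.disjoint_left.2 fun a ha ha' => ha (hle ha')
    let P := q₀.map (algebraMap T A)
    haveI : P.IsPrime := IsLocalization.isPrime_of_isPrime_disjoint Q.primeCompl A q₀ inferInstance hdis
    have hP : P ∈ ((Ideal.ofList f).map (algebraMap T A)).minimalPrimes := by
      refine ⟨⟨inferInstance, Ideal.map_mono hq₀.1.2⟩, fun R hR hRP => ?_⟩
      haveI := hR.1
      have h1 : q₀ ≤ R.comap (algebraMap T A) := hq₀.2 ⟨Ideal.IsPrime.comap _, Ideal.map_le_iff_le_comap.1 hR.2⟩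
        ((Ideal.comap_mono hRP).trans (IsLocalization.comap_map_of_isPrime_disjoint Q.primeCompl A ‹q₀.IsPrime› hdis).le)
      exact Ideal.map_le_iff_le_comap.2 h1
    have h2 := h P hP
    rw [IsLocalization.height_map_of_disjoint Q.primeCompl q₀ hdis, hht] at h2
    have h3 : f.length ≤ ht := by exact_mod_cast h2
    rw [he']
    exact_mod_cast (by omega : e' + f.length ≤ d)
  · intro h P hP
    haveI := hP.1.1
    obtain ⟨-, hd'⟩ := (IsLocalization.isPrime_iff_isPrime_disjoint Q.primeCompl A P).1 hP.1.1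
    have hle : P.comap (algebraMap T A) ≤ Q := fun a ha => by_contra fun haQ =>
      Set.disjoint_left.1 hd' haQ ha
    obtain ⟨q₀, hq₀, hq₀P⟩ := Ideal.exists_minimalPrimes_le (Ideal.map_le_iff_le_comap.1 hP.1.2)
    haveI := hq₀.1.1
    obtain ⟨ht, e', hht, he', hsum⟩ := Groth.L03.CMAffine.height_add_dim k d heq q₀
    have h2 := h q₀ hq₀ (hq₀P.trans hle)
    rw [he'] at h2
    have h3 : e' + f.length ≤ d := by exact_mod_cast h2
    have h4 : P.height = (P.comap (algebraMap T A)).height := by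
      conv_lhs => rw [← IsLocalization.map_under Q.primeCompl A P]
      exact IsLocalization.height_map_of_disjoint Q.primeCompl _ hd'
    rw [h4]
    refine le_trans ?_ (Ideal.height_mono hq₀P)
    rw [hht]
    exact_mod_cast (by omega : f.length ≤ ht)

/-! ### The fibre local ring as a localisation of the fibre -/

section FibLoc

variable {R S : Type u} [CommRing R] [CommRing S] [Algebra R S]

theorem exists_fibLoc_localization (p : Ideal R) [p.IsPrime] (q : Ideal S) [q.IsPrime] (hp : q.comap (algebraMap R S) = p)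
    (Q : Ideal (p.Fiber S)) [Q.IsPrime]
    (hQ : Q.comap Algebra.TensorProduct.includeRight.toRingHom = q) :
    ∃ χ : p.Fiber S →+* EGA4.FibLocRing R S q,
      (@IsLocalization.AtPrime _ _ (EGA4.FibLocRing R S q) _ χ.toAlgebra Q _) ∧
      ∀ s, χ ((1 : p.ResidueField) ⊗ₜ[R] s) = algebraMap S (EGA4.FibLocRing R S q) s := by
  subst hp
  set p := q.comap (algebraMap R S)
  let B := EGA4.FibLocRing R S q
  have hker : p ≤ RingHom.ker (algebraMap R B) := fun a ha => by
    rw [RingHom.mem_ker, IsScalarTower.algebraMap_apply R (Localization.AtPrime q) B,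
      Ideal.Quotient.algebraMap_eq, Ideal.Quotient.eq_zero_iff_mem]
    exact Ideal.mem_map_of_mem _ ha
  have hunit : ∀ s ∉ q, IsUnit (algebraMap S B s) := fun s hs => by
    rw [IsScalarTower.algebraMap_apply S (Localization.AtPrime q) B]
    exact (IsLocalization.map_units (Localization.AtPrime q) (⟨s, hs⟩ : q.primeCompl)).map _
  have hunitR : p.primeCompl ≤ (IsUnit.submonoid B).comap (algebraMap R B) := fun a ha => by
    show IsUnit (algebraMap R B a)
    rw [IsScalarTower.algebraMap_apply R S B]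
    exact hunit _ ha
  let κ : p.ResidueField →ₐ[R] B := Ideal.ResidueField.liftₐ p (Algebra.ofId R B) hker hunitR
  let χ : p.Fiber S →ₐ[R] B := Algebra.TensorProduct.lift κ (IsScalarTower.toAlgHom R S B) fun _ _ => Commute.all _ _
  have hχ : ∀ s, χ ((1 : p.ResidueField) ⊗ₜ[R] s) = algebraMap S B s := fun s => by simp [χ]
  refine ⟨χ.toRingHom, ?_, hχ⟩
  letI : Algebra (p.Fiber S) B := χ.toRingHom.toAlgebra
  have hQ' : ∀ s, ((1 : p.ResidueField) ⊗ₜ[R] s : p.Fiber S) ∈ Q ↔ s ∈ q := fun s => Ideal.ext_iff.1 hQ s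
  have hfrac : ∀ x : p.Fiber S, ∃ (r : R) (s : S), r ∉ p ∧ (x ∉ Q → s ∉ q) ∧
      algebraMap R (p.Fiber S) r * x = (1 : p.ResidueField) ⊗ₜ[R] s := fun x => by
    obtain ⟨r, hr, s, h⟩ := Ideal.Fiber.exists_smul_eq_one_tmul p x
    rw [Algebra.smul_def] at h
    refine ⟨r, s, hr, fun hx hs => ?_, h⟩
    rcases Ideal.IsPrime.mem_or_mem ‹Q.IsPrime› (show algebraMap R (p.Fiber S) r * x ∈ Q by rw [h]; exact (hQ' s).2 hs)
      with h' | h'
    · have hr' : algebraMap R (p.Fiber S) r = (1 : p.ResidueField) ⊗ₜ[R] algebraMap R S r := by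
        rw [← Algebra.TensorProduct.includeRight.commutes r]; rfl
      rw [hr'] at h'
      exact hr ((hQ' _).1 h')
    · exact hx h'
  refine ⟨fun ⟨x, hx⟩ => ?_, fun z => ?_, fun {x y} hxy => ?_⟩
  · obtain ⟨r, s, hr, hs, h⟩ := hfrac x
    have h1 : χ (algebraMap R (p.Fiber S) r) * χ x = algebraMap S B s := by rw [← map_mul, h, hχ]
    have h2 := hunit s (hs hx)
    rw [← h1] at h2
    exact (IsUnit.mul_iff.1 h2).2
  · obtain ⟨z, rfl⟩ := Ideal.Quotient.mk_surjective z
    obtain ⟨⟨a, t⟩, ht⟩ := IsLocalization.surj q.primeCompl z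
    refine ⟨((1 : p.ResidueField) ⊗ₜ[R] a, ⟨(1 : p.ResidueField) ⊗ₜ[R] (t : S), fun h => t.2 ((hQ' _).1 h)⟩), ?_⟩
    show Ideal.Quotient.mk _ z * χ _ = χ _
    rw [hχ, hχ, IsScalarTower.algebraMap_apply S (Localization.AtPrime q) B,
      IsScalarTower.algebraMap_apply S (Localization.AtPrime q) B, Ideal.Quotient.algebraMap_eq, ← map_mul, ht]
  · obtain ⟨r, s, hr, -, h⟩ := hfrac (x - y)
    have h1 : algebraMap S B s = 0 := by
      rw [← hχ, ← h, map_mul, map_sub, show χ x = χ y from hxy, sub_self, mul_zero]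
    rw [IsScalarTower.algebraMap_apply S (Localization.AtPrime q) B, Ideal.Quotient.algebraMap_eq,
      Ideal.Quotient.eq_zero_iff_mem, IsScalarTower.algebraMap_eq R S (Localization.AtPrime q), ← Ideal.map_map,
      IsLocalization.algebraMap_mem_map_algebraMap_iff q.primeCompl] at h1
    obtain ⟨t, ht, hts⟩ := h1
    have h2 : ∀ m ∈ p.map (algebraMap R S), ((1 : p.ResidueField) ⊗ₜ[R] m : p.Fiber S) = 0 := fun m hm => by
      have hle : p.map (algebraMap R S) ≤ RingHom.ker (Algebra.TensorProduct.includeRight : S →ₐ[R] p.Fiber S).toRingHom := by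
        rw [Ideal.map_le_iff_le_comap]
        intro a ha
        rw [Ideal.mem_comap, RingHom.mem_ker]
        show (Algebra.TensorProduct.includeRight : S →ₐ[R] p.Fiber S) (algebraMap R S a) = 0
        rw [AlgHom.commutes, IsScalarTower.algebraMap_apply R p.ResidueField (p.Fiber S),
          Ideal.algebraMap_residueField_eq_zero.2 ha, map_zero]
      exact hle hm
    refine ⟨⟨(1 : p.ResidueField) ⊗ₜ[R] t * algebraMap R (p.Fiber S) r, ?_⟩, ?_⟩
    · intro hmem
      rcases Ideal.IsPrime.mem_or_mem ‹Q.IsPrime› hmem with h' | h'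
      · exact ht ((hQ' _).1 h')
      · rw [← Algebra.TensorProduct.includeRight.commutes r] at h'
        exact hr ((hQ' _).1 h')
    · refine sub_eq_zero.1 ?_
      show (1 : p.ResidueField) ⊗ₜ[R] t * algebraMap R (p.Fiber S) r * x -
        (1 : p.ResidueField) ⊗ₜ[R] t * algebraMap R (p.Fiber S) r * y = 0
      rw [← mul_sub, mul_assoc, h, Algebra.TensorProduct.tmul_mul_tmul, mul_one]
      exact h2 _ hts

end FibLoc

/-- **Openness in the vanishing locus.** -/
theorem main (R S : Type u) [CommRing R] [CommRing S]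
    [Algebra R S] [Algebra.FiniteType R S] (d : ℕ)
    (hCM : ∀ p : PrimeSpectrum R, LocCoh.IsCohenMacaulayRing (p.asIdeal.Fiber S))
    (heq : ∀ p : PrimeSpectrum R, ∀ P ∈ minimalPrimes (p.asIdeal.Fiber S),
      ringKrullDim (p.asIdeal.Fiber S ⧸ P) = (d : WithBot ℕ∞))
    (f : List S) :
    ∃ U : Set (PrimeSpectrum S), IsOpen U ∧ ∀ q : PrimeSpectrum S, Ideal.ofList f ≤ q.asIdeal →
      (q ∈ U ↔ RingTheory.Sequence.IsRegular (EGA4.FibLocRing R S q.asIdeal)
        (f.map (algebraMap S (EGA4.FibLocRing R S q.asIdeal)))) := by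
  classical
  let S' := S ⧸ Ideal.ofList f
  let g := Groth.L03.FibreLocalDim.f R S'
  haveI : LocallyOfFiniteType g :=
    (HasRingHomProperty.Spec_iff (P := @LocallyOfFiniteType)).2 (RingHom.finiteType_algebraMap.2 inferInstance)
  let V : Set (PrimeSpectrum S') :=
    if f.length ≤ d then {w : Spec (CommRingCat.of S') | FlatMor.fibreDimAt g w ≤ ((d - f.length : ℕ) : WithBot ℕ∞)} else ∅
  have hV : IsOpen V := by
    show IsOpen (ite _ _ _)
    split
    · exact Groth.L07.FibreDim.isOpen_fibreDimAt_le g (d - f.length)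
    · exact isOpen_empty
  have hemb := PrimeSpectrum.isClosedEmbedding_comap_of_surjective S' (Ideal.Quotient.mk (Ideal.ofList f))
    Ideal.Quotient.mk_surjective
  obtain ⟨U, hU, hUV⟩ := hemb.isEmbedding.isInducing.isOpen_iff.1 hV
  refine ⟨U, hU, fun q hq => ?_⟩
  let q' : PrimeSpectrum S' := ⟨q.asIdeal.map (Ideal.Quotient.mk (Ideal.ofList f)),
    Ideal.map_isPrime_of_surjective Ideal.Quotient.mk_surjective (Ideal.mk_ker.le.trans hq)⟩
  have hq' : PrimeSpectrum.comap (Ideal.Quotient.mk (Ideal.ofList f)) q' = q := PrimeSpectrum.ext (by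
    show (q.asIdeal.map _).comap _ = q.asIdeal
    rw [Ideal.comap_map_of_surjective' _ Ideal.Quotient.mk_surjective, Ideal.mk_ker, sup_eq_left.2 hq])
  have hUq : q ∈ U ↔ q' ∈ V := by
    conv_lhs => rw [← hq']
    rw [← hUV]; rfl
  rw [hUq]
  -- the fibres
  let p : PrimeSpectrum R := PrimeSpectrum.comap (algebraMap R S) q
  have hp' : PrimeSpectrum.comap (algebraMap R S') q' = p := by
    show _ = PrimeSpectrum.comap (algebraMap R S) q
    conv_rhs => rw [← hq']
    rfl
  let T := p.asIdeal.Fiber S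
  let k := p.asIdeal.ResidueField
  haveI := hCM p
  haveI : Algebra.FiniteType k T := inferInstance
  let Q' : PrimeSpectrum (p.asIdeal.Fiber S') := PrimeSpectrum.preimageHomeomorphFiber R S' p ⟨q', hp'⟩
  have hQ'c : PrimeSpectrum.comap Algebra.TensorProduct.includeRight.toRingHom Q' = q' :=
    congrArg Subtype.val ((PrimeSpectrum.preimageHomeomorphFiber R S' p).symm_apply_apply ⟨q', hp'⟩)
  let J : Ideal T := (Ideal.ofList f).map (Algebra.TensorProduct.includeRight : S →ₐ[R] T)
  let e : p.asIdeal.Fiber S' ≃ₐ[k] T ⧸ J := Algebra.TensorProduct.tensorQuotientEquiv (R := R) k S k (Ideal.ofList f)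
  let Qb : PrimeSpectrum (T ⧸ J) := PrimeSpectrum.comap e.symm.toRingEquiv.toRingHom Q'
  let Q : Ideal T := Qb.asIdeal.comap (Ideal.Quotient.mk J)
  have hQc : Q.comap Algebra.TensorProduct.includeRight.toRingHom = q.asIdeal := by
    ext s
    rw [← congrArg PrimeSpectrum.asIdeal hq', ← hQ'c]
    show e.symm (Ideal.Quotient.mk J ((1 : k) ⊗ₜ[R] s)) ∈ Q'.asIdeal ↔ ((1 : k) ⊗ₜ[R] Ideal.Quotient.mk _ s) ∈ Q'.asIdeal
    rw [show e.symm (Ideal.Quotient.mk J ((1 : k) ⊗ₜ[R] s)) = (1 : k) ⊗ₜ[R] Ideal.Quotient.mk _ s from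
      Algebra.TensorProduct.tensorQuotientEquiv_symm_apply_tmul _ _ _ _ _ _]
  have hdim : FlatMor.fibreDimAt g q' = FlatMor.localDim (PrimeSpectrum (T ⧸ J)) Qb := by
    have h1 := Groth.L03.FibreLocalDim.localDim_fiber_eq p Q'
    rw [Groth.L03.FibreLocalDim.symm_eq_comap, hQ'c] at h1
    rw [← h1]
    exact (Groth.L03.FibreLocalDim.localDim_homeomorph (PrimeSpectrum.homeomorphOfRingEquiv e.toRingEquiv) Q').symm
  obtain ⟨χ, hloc, hχ⟩ := exists_fibLoc_localization p.asIdeal q.asIdeal rfl Q hQc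
  letI : Algebra T (EGA4.FibLocRing R S q.asIdeal) := χ.toAlgebra
  haveI : IsLocalization.AtPrime (EGA4.FibLocRing R S q.asIdeal) Q := hloc
  let fT := f.map fun s => ((1 : k) ⊗ₜ[R] s : T)
  have hfT : Ideal.ofList fT = J := (Ideal.map_ofList (Algebra.TensorProduct.includeRight : S →ₐ[R] T).toRingHom f).symm
  have hfQ : Ideal.ofList fT ≤ Q := by
    rw [hfT, Ideal.map_le_iff_le_comap]; exact hq.trans hQc.ge
  have hmap : f.map (algebraMap S (EGA4.FibLocRing R S q.asIdeal)) = fT.map (algebraMap T _) := by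
    rw [List.map_map]
    exact List.map_congr_left fun s _ => (hχ s).symm
  rw [hmap, isRegular_iff k T d (heq p) Q fT hfQ, hfT, List.length_map]
  show q' ∈ ite _ _ _ ↔ _
  by_cases hd : f.length ≤ d
  · rw [if_pos hd]
    show FlatMor.fibreDimAt g q' ≤ _ ↔ _
    rw [hdim, localDim_le_iff k T J Qb]
    refine forall₂_congr fun q₀ hq₀ => imp_congr_right fun _ => ?_
    haveI := hq₀.1.1
    obtain ⟨h, e', -, he', -⟩ := Groth.L03.CMAffine.height_add_dim k d (heq p) q₀
    rw [he']
    constructor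
    · intro h1
      have h2 : e' ≤ d - f.length := by exact_mod_cast h1
      exact_mod_cast (by omega : e' + f.length ≤ d)
    · intro h1
      have h2 : e' + f.length ≤ d := by exact_mod_cast h1
      exact_mod_cast (by omega : e' ≤ d - f.length)
  · rw [if_neg hd]
    refine iff_of_false (Set.notMem_empty _) fun h => ?_
    obtain ⟨q₀, hq₀, hle⟩ := Ideal.exists_minimalPrimes_le (I := J) (J := Q) (hfT ▸ hfQ)
    haveI := hq₀.1.1
    obtain ⟨h', e', -, he', -⟩ := Groth.L03.CMAffine.height_add_dim k d (heq p) q₀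
    have h2 := h q₀ hq₀ hle
    rw [he'] at h2
    have h3 : e' + f.length ≤ d := by exact_mod_cast h2
    omega

end Groth.L06.CMFibreRegLocus
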