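import Groth.Agent.L02.CMMor.BaseChange
import Groth.Agent.L02.CMMor.Locus
import Groth.Agent.L03.FibreLocalDim
import Mathlib.AlgebraicGeometry.Morphisms.Flat

/-! Cohen–Macaulay fibre rings give Cohen–Macaulay points of the morphism of spectra. -/

set_option autoImplicit false
set_option maxSynthPendingDepth 3
set_option linter.style.haveILetI false
set_option backward.isDefEq.respectTransparency.types false
set_option backward.isDefEq.respectTransparency false

universe u

open CategoryTheory AlgebraicGeometry IsLocalRing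

namespace Groth.L06.CMFibreSpec

open Groth.L03.FibreLocalDim (f)

theorem quot_equiv {A A' B B' : Type u} [CommRing A] [CommRing A'] [CommRing B] [CommRing B'] [IsLocalRing A]
    [IsLocalRing A'] (ψ : A →+* B) (ψ' : A' →+* B') (a : A ≃+* A') (b : B ≃+* B')
    (h : ∀ x, b (ψ x) = ψ' (a x)) :
    Nonempty ((B' ⧸ (maximalIdeal A').map ψ') ≃+* (B ⧸ (maximalIdeal A).map ψ)) := by
  refine ⟨(Ideal.quotientEquiv _ _ b ?_).symm⟩
  have hm : maximalIdeal A' = (maximalIdeal A).map (a : A →+* A') := by
    apply IsLocalRing.eq_maximalIdeal ?_ |>.symm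
    exact Ideal.IsMaximal.map_bijective (a : A →+* A') a.bijective (IsLocalRing.maximalIdeal.isMaximal A)
  rw [hm, Ideal.map_map, Ideal.map_map]
  congr 1
  ext x
  exact (h x).symm

theorem isCMAt_spec {R S : Type u} [CommRing R] [CommRing S] [Algebra R S] [Module.Flat R S]
    (hCM : ∀ p : PrimeSpectrum R, LocCoh.IsCohenMacaulayRing (p.asIdeal.Fiber S)) (q : PrimeSpectrum S) :
    MoreMor.IsCMAt (f R S) q := by
  let p := PrimeSpectrum.comap (algebraMap R S) q
  haveI : Flat (f R S) := by
    rw [HasRingHomProperty.Spec_iff (P := @Flat)]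
    exact RingHom.flat_algebraMap_iff.2 inferInstance
  rw [← L02.CMMor.grpd_isCMAt_iff]
  refine ⟨Flat.stalkMap (f R S) q, ?_⟩
  haveI : q.asIdeal.LiesOver p.asIdeal := ⟨rfl⟩
  obtain ⟨Q, hQ, ⟨e⟩⟩ := L02.CMMor.exists_fibre_local_equiv p.asIdeal q.asIdeal (B := S)
  have h1 := L02.CMMor.cm_of_ringEquiv e ((hCM p).isCohenMacaulayLocalRing_localization Q)
  let I := Scheme.arrowStalkMapSpecIso (CommRingCat.ofHom (algebraMap R S)) q
  let a := (Arrow.leftFunc.mapIso I).commRingCatIsoToRingEquiv
  let b := (Arrow.rightFunc.mapIso I).commRingCatIsoToRingEquiv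
  obtain ⟨e'⟩ := quot_equiv (((f R S).stalkMap q).hom)
    (Localization.localRingHom p.asIdeal q.asIdeal (algebraMap R S) rfl) a b
    (fun x => (congr($(I.hom.w) x)).symm)
  refine L02.CMMor.cm_of_ringEquiv ((Ideal.quotEquivOfEq ?_).trans e') h1
  rw [← IsLocalization.AtPrime.map_eq_maximalIdeal p.asIdeal (Localization.AtPrime p.asIdeal), Ideal.map_map]
  congr 1
  ext r
  exact (Localization.localRingHom_to_map p.asIdeal q.asIdeal (algebraMap R S) rfl r).trans
    (IsScalarTower.algebraMap_apply R S (Localization.AtPrime q.asIdeal) r).symm |>.symm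

end Groth.L06.CMFibreSpec
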