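import Groth.Agent.L04.CMLoc
import Groth.Agent.L04.SupportLoc
import Groth.Agent.L06.SupportDim
import Mathlib.RingTheory.Ideal.AssociatedPrime.Localization

/-! Dimension formula for Cohen–Macaulay modules (EGA 0IV 16.5.9, 16.5.10). -/

set_option autoImplicit false
set_option maxSynthPendingDepth 3
set_option linter.all false
universe u
open IsLocalRing RingTheory.Sequence

namespace Groth.L06.CMModDim

variable {A : Type u} [CommRing A] [IsLocalRing A] [IsNoetherianRing A] {M : Type u} [AddCommGroup M]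
  [Module A M] [Module.Finite A M]

theorem quot_strict {P p : PrimeSpectrum A} (h : P < p) :
    ringKrullDim (A ⧸ p.asIdeal) < ringKrullDim (A ⧸ P.asIdeal) := by
  have e : ∀ q : PrimeSpectrum A, ringKrullDim (A ⧸ q.asIdeal) = (Order.coheight q : WithBot ℕ∞) := fun q => by
    rw [ringKrullDim_quotient, Order.coheight_eq_krullDim_Ici]
    exact Order.krullDim_eq_of_orderIso (OrderIso.setCongr _ _ (Set.ext fun x => Iff.rfl))
  rw [e, e]
  refine WithBot.coe_lt_coe.2 (Order.coheight_strictAnti h ?_)
  exact WithBot.coe_lt_coe.1 ((Order.coheight_le_krullDim p).trans_lt ringKrullDim_lt_top)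

theorem supportDim_quotient_prime {p : PrimeSpectrum A} (hp : p ∈ Module.support A M) :
    Module.supportDim A (M ⧸ (p.asIdeal • (⊤ : Submodule A M))) = ringKrullDim (A ⧸ p.asIdeal) := by
  rw [Groth.L06.SupportDim.supportDim_quotient_smul, sup_eq_right.2 (Module.mem_support_iff_of_finite.1 hp)]

/-- concatenation of chains -/
theorem add_localized_le {p : PrimeSpectrum A} (hp : p ∈ Module.support A M) :
    ringKrullDim (A ⧸ p.asIdeal) +
      Module.supportDim (Localization.AtPrime p.asIdeal) (LocalizedModule p.asIdeal.primeCompl M) ≤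
        Module.supportDim A M := by
  set S := Module.support A M
  let x : S := ⟨p, hp⟩
  have h1 : ringKrullDim (A ⧸ p.asIdeal) ≤ (Order.coheight x : WithBot ℕ∞) := by
    rw [ringKrullDim_quotient, Order.coheight_eq_krullDim_Ici]
    refine Order.krullDim_le_of_strictMono (fun q => ⟨⟨q.1, Module.mem_support_mono ?_ hp⟩, ?_⟩) ?_
    · exact q.2
    · exact q.2
    · exact fun a b hab => hab
  have h2 : Module.supportDim (Localization.AtPrime p.asIdeal) (LocalizedModule p.asIdeal.primeCompl M) ≤
      (Order.height x : WithBot ℕ∞) := by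
    rw [Order.height_eq_krullDim_Iic]
    refine Order.krullDim_le_of_strictMono (fun q => ⟨⟨PrimeSpectrum.comap (algebraMap A _) q.1,
      (Groth.L04.support_localization p.asIdeal q.1).1 q.2⟩, ?_⟩) ?_
    · intro a ha
      by_contra hap
      exact q.1.isPrime.ne_top (Ideal.eq_top_of_isUnit_mem _ ha
        (IsLocalization.map_units _ (⟨a, hap⟩ : p.asIdeal.primeCompl)))
    · intro a b hab
      refine lt_of_le_of_ne (Ideal.comap_mono hab.le) fun heq => hab.ne (Subtype.ext ?_)
      exact PrimeSpectrum.localization_comap_injective (Localization.AtPrime p.asIdeal) p.asIdeal.primeCompl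
        (congrArg (fun z => z.1.1) heq)
  haveI : Nonempty S := ⟨x⟩
  refine (add_le_add h1 h2).trans ?_
  rw [add_comm, ← WithBot.coe_add, Module.supportDim, Order.krullDim_eq_iSup_height_add_coheight_of_nonempty]
  exact WithBot.coe_le_coe.2 (le_iSup (fun a : S => Order.height a + Order.coheight a) x)

theorem nums (hM : LocCoh.IsCohenMacaulayModule A M) {p : PrimeSpectrum A} (hp : p ∈ Module.support A M) :
    ∃ d r n : ℕ, ringKrullDim (A ⧸ p.asIdeal) = d ∧ LocCoh.idealDepth p.asIdeal M = r ∧
      Module.supportDim A M = n ∧ d + r = n := by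
  haveI := Groth.L04.nontrivial_of_isCohenMacaulayModule hM
  have h := Groth.L04.supportDim_eq_add_idealDepth p.isPrime.ne_top hM
  rw [supportDim_quotient_prime hp] at h
  haveI : Nontrivial (A ⧸ p.asIdeal) := Ideal.Quotient.nontrivial_iff.2 p.isPrime.ne_top
  obtain ⟨d, hd⟩ := Groth.L06.SupportDim.exists_dim_eq_natCast (I := p.asIdeal) p.isPrime.ne_top
  obtain ⟨r, hr⟩ := ENat.ne_top_iff_exists.1 (Groth.L04.idealDepth_ne_top (M := M) (I := p.asIdeal)
    (Groth.L04.smul_top_ne_top_of_nontrivial p.isPrime.ne_top))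
  refine ⟨d, r, d + r, hd, hr.symm, ?_, rfl⟩
  rw [h, hd, ← hr]
  norm_cast

theorem dim_formula (hM : LocCoh.IsCohenMacaulayModule A M) {p : PrimeSpectrum A} (hp : p ∈ Module.support A M) :
    Module.supportDim A M = Module.supportDim A (M ⧸ (p.asIdeal • (⊤ : Submodule A M))) +
      Module.supportDim (Localization.AtPrime p.asIdeal) (LocalizedModule p.asIdeal.primeCompl M) := by
  obtain ⟨d, r, n, hd, hr, hn, hdr⟩ := nums hM hp
  haveI := Groth.L04.nontrivial_of_isCohenMacaulayModule hM
  haveI : Nontrivial (LocalizedModule p.asIdeal.primeCompl M) := Module.mem_support_iff.1 hp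
  haveI : Module.Finite (Localization.AtPrime p.asIdeal) (LocalizedModule p.asIdeal.primeCompl M) :=
    Module.Finite.of_isLocalizedModule p.asIdeal.primeCompl (LocalizedModule.mkLinearMap p.asIdeal.primeCompl M)
  have hle := add_localized_le hp
  rw [hd, hn] at hle
  have hge : (r : WithBot ℕ∞) ≤
      Module.supportDim (Localization.AtPrime p.asIdeal) (LocalizedModule p.asIdeal.primeCompl M) := by
    obtain ⟨rs, hlen, hrs, hI⟩ := Groth.L04.exists_of_le_idealDepth (n := r)
      (Groth.L04.smul_top_ne_top_of_nontrivial p.isPrime.ne_top) hr.ge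
    have h2 := hrs.of_isLocalizedModule (Localization.AtPrime p.asIdeal) p.asIdeal.primeCompl
      (LocalizedModule.mkLinearMap p.asIdeal.primeCompl M)
    have h3 := Groth.L04.length_le_idealDepth (I := maximalIdeal (Localization.AtPrime p.asIdeal)) h2 (fun z hz => by
      obtain ⟨z, hz', rfl⟩ := List.mem_map.1 hz
      exact (IsLocalization.AtPrime.to_map_mem_maximal_iff _ p.asIdeal z).2 (hI z hz'))
    rw [List.length_map, hlen] at h3
    exact le_trans (WithBot.coe_le_coe.2 h3) Groth.L04.depth_le_supportDim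
  rw [supportDim_quotient_prime hp, hd, hn]
  refine le_antisymm ?_ hle
  refine le_trans ?_ (add_le_add le_rfl hge)
  exact_mod_cast hdr.ge

theorem sequences (hM : LocCoh.IsCohenMacaulayModule A M) {p : PrimeSpectrum A} (hp : p ∈ Module.support A M) (r : ℕ)
    (hr : Module.supportDim A (M ⧸ (p.asIdeal • (⊤ : Submodule A M))) + r = Module.supportDim A M) :
    (∃ xs : List A, xs.length = r ∧ (∀ x ∈ xs, x ∈ p.asIdeal) ∧ IsWeaklyRegular M xs) ∧
      ∀ xs : List A, xs.length = r → (∀ x ∈ xs, x ∈ p.asIdeal) → IsWeaklyRegular M xs →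
        Module.supportDim A (M ⧸ (Ideal.ofList xs • (⊤ : Submodule A M))) =
            Module.supportDim A (M ⧸ (p.asIdeal • (⊤ : Submodule A M))) ∧
          Module.supportDim A (M ⧸ (p.asIdeal • (⊤ : Submodule A M))) = ringKrullDim (A ⧸ p.asIdeal) ∧
          p.asIdeal ∈ associatedPrimes A (M ⧸ (Ideal.ofList xs • (⊤ : Submodule A M))) ∧
          ∀ q ∈ associatedPrimes A (M ⧸ (Ideal.ofList xs • (⊤ : Submodule A M))), q ≤ p.asIdeal → q = p.asIdeal := by
  haveI := Groth.L04.nontrivial_of_isCohenMacaulayModule hM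
  obtain ⟨d, r', n, hd, hr', hn, hdr⟩ := nums hM hp
  rw [supportDim_quotient_prime hp, hd, hn] at hr
  have hrr : d + r = n := by exact_mod_cast hr
  obtain rfl : r = r' := by omega
  refine ⟨?_, fun xs hlen hxs hreg => ?_⟩
  · obtain ⟨rs, h1, h2, h3⟩ := Groth.L04.exists_of_le_idealDepth (n := r)
      (Groth.L04.smul_top_ne_top_of_nontrivial p.isPrime.ne_top) hr'.ge
    exact ⟨rs, h1, h3, h2⟩
  have hxm : ∀ x ∈ xs, x ∈ maximalIdeal A := fun x hx => le_maximalIdeal p.isPrime.ne_top (hxs x hx)
  set M' := M ⧸ (Ideal.ofList xs • (⊤ : Submodule A M))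
  have hCM := Groth.L04.isCohenMacaulayModule_quotient_ofList hM hreg hxm
  haveI := Groth.L04.nontrivial_of_isCohenMacaulayModule hCM
  have h1 := Groth.L04.supportDim_quotient_ofList_add hreg hxm
  rw [hlen, hn] at h1
  obtain ⟨m, hm⟩ : ∃ m : ℕ, Module.supportDim A M' = m := by
    rw [Groth.L06.SupportDim.supportDim_eq_quotient]
    exact Groth.L06.SupportDim.exists_dim_eq_natCast (fun h => by
      have : (1 : A) ∈ Module.annihilator A M' := h ▸ Submodule.mem_top
      obtain ⟨y, hy⟩ := exists_ne (0 : M')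
      exact hy (by simpa using Module.mem_annihilator.1 this y))
  rw [hm] at h1
  have hmd : m + r = n := by exact_mod_cast h1
  obtain rfl : m = d := by omega
  have hpM' : p ∈ Module.support A M' := by
    rw [Module.support_quotient]
    exact ⟨hp, (PrimeSpectrum.mem_zeroLocus _ _).2 (Ideal.span_le.2 hxs)⟩
  have heq : ∀ q ∈ associatedPrimes A M', q ≤ p.asIdeal → q = p.asIdeal := by
    intro q hq hqp
    haveI := hq.isPrime
    by_contra hne
    have hlt := quot_strict (P := ⟨q, inferInstance⟩) (p := p)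
      (lt_of_le_of_ne hqp fun h => hne (congrArg PrimeSpectrum.asIdeal h))
    rw [show ringKrullDim (A ⧸ q) = _ from Groth.L04.ringKrullDim_quotient_eq_supportDim_of_isCM hCM hq, hm, hd] at hlt
    exact lt_irrefl _ hlt
  refine ⟨?_, supportDim_quotient_prime hp, ?_, heq⟩
  · rw [supportDim_quotient_prime hp, hd, hm]
  · obtain ⟨Q, hQ, hQp⟩ := Ideal.exists_minimalPrimes_le (J := p.asIdeal) (Module.mem_support_iff_of_finite.1 hpM')
    have hass := Module.associatedPrimes.minimalPrimes_annihilator_subset_associatedPrimes A M' hQ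
    exact heq Q hass hQp ▸ hass

end Groth.L06.CMModDim
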