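import Groth.Prelude.Def_W4stktopologysheavesDim
import Mathlib.Topology.Sets.Closeds
import Mathlib.Topology.LocallyClosed
import Mathlib.Data.ENat.Lattice

/-! Codimension and catenary spaces. -/

set_option linter.style.haveILetI false

universe u

namespace Groth.L06.Catenary

open TopologicalSpace

variable {X : Type u} [TopologicalSpace X]

/-- Saturated series. -/
def Saturated {α : Type*} [Preorder α] (s : LTSeries α) : Prop :=
  ∀ i : Fin s.length, s (Fin.castSucc i) ⋖ s (Fin.succ i)

theorem le_codim {Y : IrreducibleCloseds X} {T : Set X} (s : LTSeries (IrreducibleCloseds X))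
    (h1 : s.head = Y) (h2 : (s.last : Set X) ⊆ T) : (s.length : ℕ∞) ≤ PtTop.codim Y T :=
  le_iSup₂ (f := fun (s : LTSeries (IrreducibleCloseds X))
    (_ : s.head = Y ∧ (s.last : Set X) ⊆ T) => (s.length : ℕ∞)) s ⟨h1, h2⟩

theorem codim_le {Y : IrreducibleCloseds X} {T : Set X} {n : ℕ∞}
    (h : ∀ s : LTSeries (IrreducibleCloseds X), s.head = Y → (s.last : Set X) ⊆ T → (s.length : ℕ∞) ≤ n) :
    PtTop.codim Y T ≤ n :=
  iSup₂_le fun s hs => h s hs.1 hs.2

theorem exists_saturated_chain {Y Y' : IrreducibleCloseds X} (h : Y ≤ Y')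
    (hfin : PtTop.codim Y (Y' : Set X) ≠ ⊤) :
    ∃ s : LTSeries (IrreducibleCloseds X), s.head = Y ∧ s.last = Y' ∧ Saturated s ∧
      (s.length : ℕ∞) = PtTop.codim Y (Y' : Set X) := by
  let I := {s : LTSeries (IrreducibleCloseds X) // s.head = Y ∧ (s.last : Set X) ⊆ (Y' : Set X)}
  haveI : Nonempty I := ⟨⟨RelSeries.singleton _ Y, RelSeries.head_singleton Y,
    by rw [RelSeries.last_singleton]; exact h⟩⟩
  have he : PtTop.codim Y (Y' : Set X) = ⨆ s : I, (s.1.length : ℕ∞) := iSup_subtype'
  obtain ⟨⟨s, hs1, hs2⟩, hs⟩ := ENat.exists_eq_iSup_of_lt_top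
    (f := fun s : I => (s.1.length : ℕ∞)) (he ▸ lt_top_iff_ne_top.mpr hfin)
  rw [← he] at hs
  have no_longer : ∀ t : LTSeries (IrreducibleCloseds X), t.head = Y → t.last ≤ Y' → t.length ≤ s.length := by
    intro t h1 h2
    have := le_codim t h1 (T := (Y' : Set X)) h2
    rw [← hs] at this
    exact_mod_cast this
  have hlast : s.last = Y' := by
    by_contra hne
    have hlt : s.last < Y' := lt_of_le_of_ne hs2 hne
    have := no_longer (s.snoc Y' hlt) (by simp [hs1]) (by simp)
    simp at this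
  refine ⟨s, hs1, hlast, fun i => ⟨s.step i, fun Z h1 h2 => ?_⟩, hs⟩
  let t₁ : LTSeries (IrreducibleCloseds X) := RelSeries.snoc (s.take i.castSucc) Z (by
    simp only [RelSeries.last_take]; exact h1)
  let t₂ : LTSeries (IrreducibleCloseds X) := RelSeries.cons (s.drop i.succ) Z (by
    simp only [RelSeries.head_drop]; exact h2)
  have hc : t₁.last = t₂.head := by simp [t₁, t₂]
  have := no_longer (RelSeries.smash t₁ t₂ hc) (by simp [t₁, hs1]) (by simp [t₂, hlast])
  simp [t₁, t₂] at this
  omega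

theorem one_eq_codim_of_covBy {a b : IrreducibleCloseds X} (h : a ⋖ b) :
    PtTop.codim a (b : Set X) = 1 := by
  refine le_antisymm (codim_le fun s h1 h2 => ?_) ?_
  · by_contra hlt
    have hlen : 2 ≤ s.length := by
      rcases Nat.lt_or_ge s.length 2 with hl | hl
      · exact absurd (by exact_mod_cast Nat.lt_succ_iff.mp hl) hlt
      · exact hl
    refine h.2 (c := s ⟨1, by omega⟩) ?_ ?_
    · rw [← h1]; exact s.strictMono (show (0 : Fin _) < ⟨1, by omega⟩ from Nat.zero_lt_one)
    · refine lt_of_lt_of_le (s.strictMono (show (⟨1, by omega⟩ : Fin _) < Fin.last _ from ?_)) h2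
      exact Fin.lt_def.mpr (by simp; omega)
  · exact le_codim ((RelSeries.singleton _ a).snoc b (by simpa using h.1)) (by simp) (by simp)

theorem codim_self (a : IrreducibleCloseds X) : PtTop.codim a (a : Set X) = 0 := by
  refine le_antisymm (codim_le fun s h1 h2 => ?_) bot_le
  rcases Nat.eq_zero_or_pos s.length with h | h
  · simp [h]
  · have : a < s.last := h1 ▸ s.strictMono (show (0 : Fin _) < Fin.last _ from Fin.lt_def.mpr (by simpa using h))
    exact absurd (this.trans_le h2) (lt_irrefl a)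

theorem saturated_smash {α : Type*} [Preorder α] {p q : LTSeries α} (hc : p.last = q.head)
    (hp : Saturated p) (hq : Saturated q) : Saturated (RelSeries.smash p q hc) := by
  intro i
  refine Fin.addCases (fun j => ?_) (fun j => ?_) i
  · exact (congrArg₂ (· ⋖ ·) (RelSeries.smash_castAdd hc j) (RelSeries.smash_succ_castAdd hc j)).mpr (hp j)
  · exact (congrArg₂ (· ⋖ ·) (RelSeries.smash_natAdd hc j) (RelSeries.smash_succ_natAdd hc j)).mpr (hq j)

/-- The pairwise condition in the definition of a catenary space. -/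
def CatPair (T T' : IrreducibleCloseds X) : Prop :=
  PtTop.codim T (T' : Set X) ≠ ⊤ ∧
    ∀ s : LTSeries (IrreducibleCloseds X), s.head = T → s.last = T' → Saturated s →
      (s.length : ℕ∞) = PtTop.codim T (T' : Set X)

theorem isCatenarySpace_iff : PtTop.IsCatenarySpace X ↔
    ∀ T T' : IrreducibleCloseds X, T ≤ T' → CatPair T T' := Iff.rfl

variable {S : Type u} [TopologicalSpace S]

theorem catPair_iff_of_orderEmbedding (e : IrreducibleCloseds S ↪o IrreducibleCloseds X)
    {a b : IrreducibleCloseds S} (hconv : ∀ W, e a ≤ W → W ≤ e b → W ∈ Set.range e) :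
    CatPair a b ↔ CatPair (e a) (e b) := by
  have fwd : ∀ s : LTSeries (IrreducibleCloseds S), ∃ t : LTSeries (IrreducibleCloseds X),
      t.length = s.length ∧ t.head = e s.head ∧ t.last = e s.last ∧
      (s.head = a → s.last ≤ b → Saturated s → Saturated t) := by
    intro s
    refine ⟨s.map e e.strictMono, rfl, rfl, rfl, fun hha hlb hsat i => ⟨(s.map e e.strictMono).step i, fun Z h1 h2 => ?_⟩⟩
    have hlo : e a ≤ Z := by
      refine le_trans ?_ h1.le
      exact e.monotone (hha ▸ s.monotone (Fin.zero_le _))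
    have hhi : Z ≤ e b := h2.le.trans (e.monotone ((s.monotone (Fin.le_last _)).trans hlb))
    obtain ⟨Z', rfl⟩ := hconv Z hlo hhi
    exact (hsat i).2 (e.lt_iff_lt.mp h1) (e.lt_iff_lt.mp h2)
  have bwd : ∀ t : LTSeries (IrreducibleCloseds X), t.head = e a → t.last ≤ e b →
      ∃ s : LTSeries (IrreducibleCloseds S), s.length = t.length ∧ s.head = a ∧ e s.last = t.last ∧
        (Saturated t → Saturated s) := by
    intro t hh hl
    have : ∀ i, ∃ z, e z = t i := fun i =>
      hconv (t i) (hh ▸ t.monotone (Fin.zero_le i)) ((t.monotone (Fin.le_last i)).trans hl)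
    choose z hz using this
    refine ⟨⟨t.length, z, fun i => e.lt_iff_lt.mp (by rw [hz, hz]; exact t.step i)⟩, rfl,
      e.injective (by rw [← hh]; exact hz 0), hz _, fun hsat i => ⟨?_, fun Z h1 h2 => ?_⟩⟩
    · exact e.lt_iff_lt.mp (by rw [hz, hz]; exact t.step i)
    · have h1' : t (Fin.castSucc i) < e Z := by rw [← hz]; exact e.lt_iff_lt.mpr h1
      have h2' : e Z < t i.succ := by rw [← hz]; exact e.lt_iff_lt.mpr h2
      exact (hsat i).2 h1' h2'
  have hc : PtTop.codim a (b : Set S) = PtTop.codim (e a) (e b : Set X) := by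
    refine le_antisymm (codim_le fun s h1 h2 => ?_) (codim_le fun t h1 h2 => ?_)
    · obtain ⟨t, hl, hh, hla, -⟩ := fwd s
      rw [← hl]
      exact le_codim t (hh.trans (congrArg e h1)) (by rw [hla]; exact e.monotone (a := s.last) (b := b) h2)
    · obtain ⟨s, hl, hh, hla, -⟩ := bwd t h1 h2
      rw [← hl]
      exact le_codim s hh (e.le_iff_le.mp (hla.trans_le h2))
  constructor
  · rintro ⟨h1, h2⟩
    refine ⟨hc ▸ h1, fun t hh hl hsat => ?_⟩
    obtain ⟨s, hlen, hh', hl', hs⟩ := bwd t hh hl.le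
    rw [← hlen, ← hc]
    exact h2 s hh' (e.injective (hl'.trans hl)) (hs hsat)
  · rintro ⟨h1, h2⟩
    refine ⟨hc ▸ h1, fun s hh hl hsat => ?_⟩
    obtain ⟨t, hlen, hh', hl', ht⟩ := fwd s
    rw [← hlen, hc]
    exact h2 t (hh'.trans (congrArg e hh)) (hl'.trans (congrArg e hl)) (ht hh hl.le hsat)

/-- Closure in `X` of an irreducible closed subset of a subspace. -/
def closureEmb (S : Set X) : IrreducibleCloseds S ↪o IrreducibleCloseds X :=
  OrderEmbedding.ofMapLEIff
    (fun Z => ⟨closure (Subtype.val '' (Z : Set S)),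
      (Z.isIrreducible.image _ continuous_subtype_val.continuousOn).closure, isClosed_closure⟩)
    fun Z Z' => by
      refine ⟨fun h z hz => ?_, fun h => closure_mono (Set.image_mono h)⟩
      have : (z : X) ∈ closure (Subtype.val '' (Z' : Set S)) := h (subset_closure ⟨z, hz, rfl⟩)
      rw [← closure_subtype, Z'.isClosed.closure_eq] at this
      exact this

theorem coe_closureEmb {S : Set X} (Z : IrreducibleCloseds S) :
    (closureEmb S Z : Set X) = closure (Subtype.val '' (Z : Set S)) := rfl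

theorem mem_range_closureEmb {S : Set X} (hS : IsLocallyClosed S) {W : IrreducibleCloseds X}
    (hne : ((W : Set X) ∩ S).Nonempty) (hWS : (W : Set X) ⊆ closure S) :
    W ∈ Set.range (closureEmb S) := by
  have hSU : coborder S ∩ closure S = S := coborder_inter_closure
  have hU : IsOpen (coborder S) := hS.isOpen_coborder
  have hWU : (W : Set X) ∩ coborder S ⊆ S := fun x hx => hSU ▸ ⟨hx.2, hWS hx.1⟩
  have hneU : ((W : Set X) ∩ coborder S).Nonempty := hne.mono fun x hx => ⟨hx.1, subset_coborder hx.2⟩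
  have hirr : IsIrreducible (Subtype.val ⁻¹' (W : Set X) : Set S) := by
    refine ⟨?_, fun A B hA hB ⟨a, ha, haA⟩ ⟨b, hb, hbB⟩ => ?_⟩
    · obtain ⟨x, hx⟩ := hne; exact ⟨⟨x, hx.2⟩, hx.1⟩
    obtain ⟨A', hA', rfl⟩ := isOpen_induced_iff.mp hA
    obtain ⟨B', hB', rfl⟩ := isOpen_induced_iff.mp hB
    obtain ⟨x, hxW, hx1, hx2⟩ := W.isIrreducible.2 (coborder S ∩ A') (coborder S ∩ B')
      (hU.inter hA') (hU.inter hB') ⟨a, ha, subset_coborder a.2, haA⟩ ⟨b, hb, subset_coborder b.2, hbB⟩
    exact ⟨⟨x, hWU ⟨hxW, hx1.1⟩⟩, hxW, hx1.2, hx2.2⟩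
  refine ⟨⟨_, hirr, W.isClosed.preimage continuous_subtype_val⟩, IrreducibleCloseds.ext ?_⟩
  rw [coe_closureEmb]
  change closure (Subtype.val '' (Subtype.val ⁻¹' (W : Set X))) = (W : Set X)
  refine subset_antisymm (closure_minimal (by rintro _ ⟨z, hz, rfl⟩; exact hz) W.isClosed) ?_
  refine (subset_closure_inter_of_isPreirreducible_of_isOpen W.isIrreducible.2 hU hneU).trans (closure_mono ?_)
  intro x hx
  exact ⟨⟨x, hWU hx⟩, hx.1, rfl⟩

theorem catPair_closureEmb_iff {S : Set X} (hS : IsLocallyClosed S) (a b : IrreducibleCloseds S) :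
    CatPair a b ↔ CatPair (closureEmb S a) (closureEmb S b) := by
  refine catPair_iff_of_orderEmbedding _ fun W h1 h2 => mem_range_closureEmb hS ?_ ?_
  · obtain ⟨z, hz⟩ := a.isIrreducible.1
    exact ⟨z, h1 (subset_closure ⟨z, hz, rfl⟩), z.2⟩
  · exact (SetLike.coe_subset_coe.mpr h2).trans (closure_mono (by rintro _ ⟨z, -, rfl⟩; exact z.2))

end Groth.L06.Catenary
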