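import Groth.Prelude.Def_EGA4b
import Mathlib.RingTheory.Ideal.AssociatedPrime.Localization
import Mathlib.RingTheory.Ideal.AssociatedPrime.Finiteness
import Mathlib.RingTheory.Localization.LocalizationLocalization
import Mathlib.RingTheory.IntegralClosure.IsIntegralClosure.Basic
import Mathlib.RingTheory.Localization.Integral

set_option autoImplicit false
set_option linter.style.haveILetI false
universe u

namespace Groth.L06

open EGA4

/-- an element integral over a domain has a denominator outside every prime with normal local ring -/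
theorem exists_denom_of_normal {R : Type u} [CommRing R] [IsDomain R] (x : FractionRing R)
    (hx : IsIntegral R x) (P : Ideal R) [P.IsPrime] [IsIntegrallyClosed (Localization.AtPrime P)] :
    ∃ s ∉ P, ∃ r : R, algebraMap R (FractionRing R) s * x = algebraMap R (FractionRing R) r := by
  have hx' : IsIntegral (Localization.AtPrime P) x := hx.tower_top
  obtain ⟨y, hy⟩ := IsIntegrallyClosed.isIntegral_iff.mp hx'
  obtain ⟨⟨r, s⟩, hrs⟩ := IsLocalization.surj P.primeCompl y
  refine ⟨s, s.2, r, ?_⟩
  rw [← hy, IsScalarTower.algebraMap_apply R (Localization.AtPrime P) (FractionRing R) s,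
    IsScalarTower.algebraMap_apply R (Localization.AtPrime P) (FractionRing R) r, ← map_mul,
    mul_comm, hrs]

/-- local rings of a localization -/
theorem normal_localization_iff {A : Type u} [CommRing A] (q : Ideal A) [q.IsPrime]
    (P : Ideal (Localization.AtPrime q)) [P.IsPrime]
    (h : IsIntegrallyClosed (Localization.AtPrime (P.comap (algebraMap A (Localization.AtPrime q))))) :
    IsIntegrallyClosed (Localization.AtPrime P) :=
  IsIntegrallyClosed.of_equiv (IsLocalization.localizationLocalizationAtPrimeIsoLocalization q.primeCompl P).toRingEquiv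

theorem mem_norLocus_of_le {A : Type u} [CommRing A] {P q : PrimeSpectrum A} (h : P.asIdeal ≤ q.asIdeal)
    (hq : q ∈ norLocus A) : P ∈ norLocus A := by
  obtain ⟨hd, hc⟩ := hq
  let P' := P.asIdeal.map (algebraMap A (Localization.AtPrime q.asIdeal))
  haveI hP' : P'.IsPrime := Ideal.isPrime_map_of_isLocalizationAtPrime q.asIdeal h
  have hcomap : P'.comap (algebraMap A (Localization.AtPrime q.asIdeal)) = P.asIdeal :=
    Ideal.under_map_of_isLocalizationAtPrime q.asIdeal h
  have e := (IsLocalization.localizationLocalizationAtPrimeIsoLocalization q.asIdeal.primeCompl P').toRingEquiv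
  have hne : (P'.primeCompl : Submonoid _) ≤ nonZeroDivisors (Localization.AtPrime q.asIdeal) :=
    le_nonZeroDivisors_of_noZeroDivisors (not_not_intro (P'.zero_mem))
  haveI : IsDomain (Localization.AtPrime P') := IsLocalization.isDomain_localization hne
  haveI : IsIntegrallyClosed (Localization.AtPrime P') :=
    isIntegrallyClosed_of_isLocalization (Localization.AtPrime P') P'.primeCompl hne
  have h2 : (⟨P'.comap (algebraMap A (Localization.AtPrime q.asIdeal)), inferInstance⟩ : PrimeSpectrum A)
      ∈ norLocus A :=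
    ⟨e.toMulEquiv.isDomain (Localization.AtPrime P'), IsIntegrallyClosed.of_equiv e.symm⟩
  have h3 : (⟨P'.comap (algebraMap A (Localization.AtPrime q.asIdeal)), inferInstance⟩ : PrimeSpectrum A) = P :=
    PrimeSpectrum.ext hcomap
  rwa [h3] at h2

/-- Normality at `q` from normality at the primes below `q` which avoid `f` or are associated to `A/fA`. -/
theorem isIntegrallyClosed_of_ass {A : Type u} [CommRing A] [IsNoetherianRing A] (q : Ideal A) [q.IsPrime]
    [IsDomain (Localization.AtPrime q)] (f : A) (hf : algebraMap A (Localization.AtPrime q) f ≠ 0)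
    (h : ∀ (P : Ideal A) [P.IsPrime], P ≤ q →
      (f ∉ P ∨ P ∈ associatedPrimes A (A ⧸ Ideal.span {f})) → IsIntegrallyClosed (Localization.AtPrime P)) :
    IsIntegrallyClosed (Localization.AtPrime q) := by
  let R := Localization.AtPrime q
  let g : R := algebraMap A R f
  let i := algebraMap R (FractionRing R)
  have hi : Function.Injective i := IsFractionRing.injective R (FractionRing R)
  have key : ∀ (P : Ideal R) [P.IsPrime], (g ∉ P ∨ P.comap (algebraMap A R) ∈ associatedPrimes A (A ⧸ Ideal.span {f})) →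
      ∀ x : FractionRing R, IsIntegral R x → ∃ s ∉ P, ∃ r : R, i s * x = i r := by
    intro P hP hor x hx
    haveI := normal_localization_iff q P (h _ (by
      have := IsLocalRing.le_maximalIdeal hP.ne_top
      exact (Ideal.comap_mono this).trans (le_of_eq (Localization.AtPrime.under_maximalIdeal))) hor)
    exact exists_denom_of_normal x hx P
  refine (isIntegrallyClosed_iff (FractionRing R)).mpr fun {x} hx => ?_
  have hpow : ∃ n : ℕ, ∃ r : R, i (g ^ n) * x = i r := by
    let J : Ideal R := (LinearMap.range (Algebra.linearMap R (FractionRing R))).comap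
      (LinearMap.toSpanSingleton R (FractionRing R) x)
    have hJ : ∀ s : R, s ∈ J ↔ ∃ r : R, i s * x = i r := fun s => by
      simp only [J, Submodule.mem_comap, LinearMap.mem_range, LinearMap.toSpanSingleton_apply,
        Algebra.linearMap_apply, Algebra.smul_def]
      exact ⟨fun ⟨r, hr⟩ => ⟨r, hr.symm⟩, fun ⟨r, hr⟩ => ⟨r, hr.symm⟩⟩
    have : g ∈ J.radical := by
      rw [Ideal.radical_eq_sInf]
      refine Submodule.mem_sInf.mpr fun P ⟨hJP, hP⟩ => ?_
      by_contra hg
      obtain ⟨s, hs, hr⟩ := key P (Or.inl hg) x hx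
      exact hs (hJP ((hJ s).mpr hr))
    obtain ⟨n, hn⟩ := this
    exact ⟨n, (hJ _).mp hn⟩
  obtain ⟨n, r, hn⟩ := hpow
  induction n generalizing x r with
  | zero => exact ⟨r, by simpa [i] using hn.symm⟩
  | succ n ih =>
    by_cases hc : r ∈ Ideal.span {g}
    · obtain ⟨r', rfl⟩ := Ideal.mem_span_singleton'.mp hc
      refine ih hx r' (mul_left_cancel₀ (a := i g) ((map_ne_zero_iff _ hi).mpr hf) ?_)
      rw [← mul_assoc, ← map_mul, ← pow_succ', hn, map_mul, mul_comm]
    exfalso
    have hne : Ideal.Quotient.mk (Ideal.span {g}) r ≠ 0 := fun h0 => hc (Ideal.Quotient.eq_zero_iff_mem.mp h0)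
    obtain ⟨P, hP, hle⟩ := exists_le_isAssociatedPrime_of_isNoetherianRing R (Ideal.Quotient.mk (Ideal.span {g}) r) hne
    haveI := hP.isPrime
    obtain ⟨-, y, hy⟩ := isAssociatedPrime_iff.mp hP
    obtain ⟨y, rfl⟩ := Ideal.Quotient.mk_surjective y
    obtain ⟨⟨a, t⟩, hat⟩ := IsLocalization.surj q.primeCompl y
    have hmem : ∀ b : A, algebraMap A R b ∈ P ↔ algebraMap A R (b * a) ∈ Ideal.span {g} := fun b => by
      rw [hy, Submodule.mem_colon_singleton, Submodule.mem_bot, ← Ideal.Quotient.mk_eq_mk, ← Submodule.Quotient.mk_smul,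
        Submodule.Quotient.mk_eq_zero, smul_eq_mul, map_mul, ← hat, ← mul_assoc,
        Ideal.mul_unit_mem_iff_mem _ (IsLocalization.map_units R t)]
    have hass : P.comap (algebraMap A R) ∈ associatedPrimes A (A ⧸ Ideal.span {f}) := by
      have hden : ∀ b : A, b ∈ P.comap (algebraMap A R) → ∃ s ∉ q, s * b * a ∈ Ideal.span {f} := fun b hb => by
        have := (hmem b).mp hb
        rw [show Ideal.span {g} = (Ideal.span {f}).map (algebraMap A R) by rw [Ideal.map_span, Set.image_singleton],
          IsLocalization.algebraMap_mem_map_algebraMap_iff q.primeCompl] at this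
        obtain ⟨s, hs, hsm⟩ := this
        exact ⟨s, hs, by rwa [mul_assoc]⟩
      choose! s hs hsm using hden
      obtain ⟨T, hT⟩ := IsNoetherian.noetherian (P.comap (algebraMap A R))
      classical
      let t0 := ∏ b ∈ T, s b
      have ht0 : t0 ∉ q := fun h0 => by
        obtain ⟨b, hb, hbq⟩ := (Ideal.IsPrime.prod_mem_iff (p := q)).mp h0
        exact hs b (hT ▸ Submodule.subset_span hb) hbq
      refine isAssociatedPrime_iff.mpr ⟨inferInstance, Ideal.Quotient.mk _ (t0 * a), le_antisymm ?_ ?_⟩
      · rw [← hT, Submodule.span_le]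
        intro b hb
        rw [SetLike.mem_coe, Submodule.mem_colon_singleton, Submodule.mem_bot, ← Ideal.Quotient.mk_eq_mk,
          ← Submodule.Quotient.mk_smul, Submodule.Quotient.mk_eq_zero, smul_eq_mul]
        obtain ⟨c, hc⟩ := Finset.dvd_prod_of_mem s hb
        have := Ideal.mul_mem_left (Ideal.span {f}) c (hsm b (hT ▸ Submodule.subset_span hb))
        convert this using 1
        simp only [t0, hc]; ring
      · intro b hb
        rw [Submodule.mem_colon_singleton, Submodule.mem_bot, ← Ideal.Quotient.mk_eq_mk,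
          ← Submodule.Quotient.mk_smul, Submodule.Quotient.mk_eq_zero, smul_eq_mul] at hb
        rw [Ideal.mem_comap, hmem]
        have h' := Ideal.mem_map_of_mem (algebraMap A R) hb
        rw [Ideal.map_span, Set.image_singleton, show b * (t0 * a) = t0 * (b * a) by ring, map_mul] at h'
        exact (Ideal.unit_mul_mem_iff_mem _ (IsLocalization.map_units R (⟨t0, ht0⟩ : q.primeCompl))).mp h'
    have hint : IsIntegral R (i (g ^ n) * x) := isIntegral_algebraMap.mul hx
    obtain ⟨s, hsP, r', hs⟩ := key P (Or.inr hass) _ hint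
    refine hsP (hle ?_)
    rw [Submodule.mem_colon_singleton, Submodule.mem_bot, ← Ideal.Quotient.mk_eq_mk,
      ← Submodule.Quotient.mk_smul, Submodule.Quotient.mk_eq_zero, smul_eq_mul]
    refine Ideal.mem_span_singleton'.mpr ⟨r', hi ?_⟩
    rw [map_mul, map_mul, ← hs, ← hn, map_pow, map_pow]
    ring

/-- The normal locus is open as soon as it contains a neighbourhood of each of its minimal points. -/
theorem isOpen_norLocus_of_minimal {A : Type u} [CommRing A] [IsNoetherianRing A]
    (h : ∀ p : PrimeSpectrum A, p.asIdeal ∈ minimalPrimes A → p ∈ norLocus A →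
        ∃ U : Set (PrimeSpectrum A), IsOpen U ∧ p ∈ U ∧ U ⊆ norLocus A) :
    IsOpen (norLocus A) := by
  classical
  refine isOpen_iff_forall_mem_open.mpr fun q hq => ?_
  haveI := hq.1
  let K : Ideal A := RingHom.ker (algebraMap A (Localization.AtPrime q.asIdeal))
  haveI hK : K.IsPrime := RingHom.ker_isPrime _
  have hker : ∀ a : A, a ∈ K ↔ ∃ s : q.asIdeal.primeCompl, (s : A) * a = 0 := fun a => by
    rw [RingHom.mem_ker, IsLocalization.map_eq_zero_iff q.asIdeal.primeCompl]
  have hKq : K ≤ q.asIdeal := fun a ha => by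
    obtain ⟨s, hs⟩ := (hker a).mp ha
    exact (q.isPrime.mem_or_mem (hs ▸ q.asIdeal.zero_mem)).resolve_left s.2
  have hmin : K ∈ minimalPrimes A := ⟨⟨hK, bot_le⟩, fun P hP hPK a ha => by
    obtain ⟨s, hs⟩ := (hker a).mp ha
    exact (hP.1.mem_or_mem (hs ▸ P.zero_mem)).resolve_left fun hsP => s.2 (hKq (hPK hsP))⟩
  obtain ⟨U, hU, hKU, hUN⟩ := h ⟨K, hK⟩ hmin (mem_norLocus_of_le hKq hq)
  obtain ⟨_, ⟨f, rfl⟩, hfK, hfU⟩ := PrimeSpectrum.isTopologicalBasis_basic_opens.exists_subset_of_mem_open hKU hU
  obtain ⟨T, hT⟩ := IsNoetherian.noetherian K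
  have hex : ∀ b ∈ T, ∃ s : q.asIdeal.primeCompl, (s : A) * b = 0 := fun b hb => (hker b).mp (hT ▸ Submodule.subset_span hb)
  choose! s hs using hex
  let s0 : q.asIdeal.primeCompl := ∏ b ∈ T, s b
  have hs0 : ∀ a ∈ K, (s0 : A) * a = 0 := by
    intro a ha
    rw [← hT] at ha
    induction ha using Submodule.span_induction with
    | mem b hb =>
      obtain ⟨c, hc⟩ := Finset.dvd_prod_of_mem s hb
      rw [show (s0 : A) = (s b : A) * c from congrArg Subtype.val hc, mul_comm (s b : A), mul_assoc, hs b hb, mul_zero]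
    | zero => rw [mul_zero]
    | add a b _ _ ha hb => rw [mul_add, ha, hb, add_zero]
    | smul c a _ ha => rw [smul_eq_mul, mul_left_comm, ha, mul_zero]
  let B : Set (Ideal A) := {P ∈ associatedPrimes A (A ⧸ Ideal.span {f}) | ¬ P ≤ q.asIdeal}
  have hB : B.Finite := (associatedPrimes.finite A (A ⧸ Ideal.span {f})).subset (Set.sep_subset _ _)
  refine ⟨(PrimeSpectrum.basicOpen (s0 : A) : Set _) \ ⋃ P ∈ B, PrimeSpectrum.zeroLocus (P : Set A), ?_,
    (PrimeSpectrum.basicOpen (s0 : A)).isOpen.sdiff (hB.isClosed_biUnion fun P _ => PrimeSpectrum.isClosed_zeroLocus _), ?_⟩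
  · rintro q' ⟨hsq', hq'B⟩
    have hsq : (s0 : A) ∉ q'.asIdeal := hsq'
    have hKq' : K ≤ q'.asIdeal := fun a ha =>
      (q'.isPrime.mem_or_mem (hs0 a ha ▸ q'.asIdeal.zero_mem)).resolve_left hsq
    have hker' : ∀ a : A, algebraMap A (Localization.AtPrime q'.asIdeal) a = 0 → a ∈ K := fun a ha => by
      obtain ⟨t, ht⟩ := (IsLocalization.map_eq_zero_iff q'.asIdeal.primeCompl _ a).mp ha
      exact (hK.mem_or_mem (ht ▸ K.zero_mem)).resolve_left fun h' => t.2 (hKq' h')
    have hker'' : ∀ a ∈ K, algebraMap A (Localization.AtPrime q'.asIdeal) a = 0 := fun a ha =>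
      (IsLocalization.map_eq_zero_iff q'.asIdeal.primeCompl _ a).mpr ⟨⟨s0, hsq⟩, hs0 a ha⟩
    haveI : IsDomain (Localization.AtPrime q'.asIdeal) := by
      haveI : NoZeroDivisors (Localization.AtPrime q'.asIdeal) := ⟨fun {x y} hxy => by
        obtain ⟨⟨a, t⟩, hat⟩ := IsLocalization.surj q'.asIdeal.primeCompl x
        obtain ⟨⟨b, t'⟩, hbt⟩ := IsLocalization.surj q'.asIdeal.primeCompl y
        have : algebraMap A (Localization.AtPrime q'.asIdeal) (a * b) = 0 := by
          rw [map_mul, ← hat, ← hbt, mul_mul_mul_comm, hxy, zero_mul]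
        refine (hK.mem_or_mem (hker' _ this)).imp (fun h' => ?_) (fun h' => ?_)
        · exact (IsLocalization.map_units _ t).mul_left_eq_zero.mp (hat.trans (hker'' _ h'))
        · exact (IsLocalization.map_units _ t').mul_left_eq_zero.mp (hbt.trans (hker'' _ h'))⟩
      exact NoZeroDivisors.to_isDomain _
    refine ⟨inferInstance, isIntegrallyClosed_of_ass q'.asIdeal f (fun h0 => hfK (hker' f h0)) fun P hP hle hor => ?_⟩
    rcases hor with hf | hP'
    · exact (hUN (hfU (show (⟨P, hP⟩ : PrimeSpectrum A) ∈ PrimeSpectrum.basicOpen f from hf))).2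
    · by_cases hPq : P ≤ q.asIdeal
      · exact (mem_norLocus_of_le (P := ⟨P, hP⟩) hPq hq).2
      · exact absurd (Set.mem_biUnion (show P ∈ B from ⟨hP', hPq⟩) (show q' ∈ PrimeSpectrum.zeroLocus (P : Set A) from hle)) hq'B
  · refine ⟨s0.2, ?_⟩
    simp only [Set.mem_iUnion, not_exists]
    exact fun P hP hq' => hP.2 hq'

end Groth.L06
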