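import Groth.Agent.L07.RegularQuotient
import Groth.Agent.L06.NormalTensorApps
import Mathlib.RingTheory.TensorProduct.Quotient

/-! The completion of a quotient as a base change, and formal fibres of quotients. -/

set_option autoImplicit false
set_option maxSynthPendingDepth 3
set_option linter.style.haveILetI false
noncomputable section
universe u
open TensorProduct IsLocalRing

namespace Groth.L06.CplQuotient

variable {A : Type u} [CommRing A] [IsLocalRing A] [IsNoetherianRing A]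

theorem exists_completionQuotEquiv_compat {S : Type u} [CommRing S] [IsLocalRing S] [IsNoetherianRing S]
    (p : A →+* S) (hp : Function.Surjective p) :
    ∃ e : (AdicCompletion (maximalIdeal A) A ⧸ (RingHom.ker p).map
      (algebraMap A (AdicCompletion (maximalIdeal A) A))) ≃+* AdicCompletion (maximalIdeal S) S,
      ∀ w, e (Ideal.Quotient.mk _ (algebraMap A _ w)) = algebraMap S _ (p w) := by
  haveI := Groth.L01.AnalUnram.isNoetherianRing_completion A
  haveI := Groth.L01.AnalUnram.isNoetherianRing_completion S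
  set Ah := AdicCompletion (maximalIdeal A) A
  set Sh := AdicCompletion (maximalIdeal S) S
  set I' := (RingHom.ker p).map (algebraMap A Ah)
  have hI'le : I' ≤ maximalIdeal Ah := by
    rw [← Groth.L01.AnalUnram.completion_map_maximalIdeal]
    exact Ideal.map_mono (le_maximalIdeal (RingHom.ker_ne_top p))
  haveI : IsLocalRing (Ah ⧸ I') := Groth.L01.isLocalRing_quotient
    (ne_top_of_le_ne_top (maximalIdeal.isMaximal Ah).ne_top hI'le)
  haveI := Groth.L01.NagataComplete.isAdicComplete_quotient I'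
  have hmS : (maximalIdeal A).map p = maximalIdeal S := IsLocalRing.map_maximalIdeal_of_surjective p hp
  have hcA : (maximalIdeal A).map (algebraMap A Ah) = maximalIdeal Ah :=
    Groth.L01.AnalUnram.completion_map_maximalIdeal A
  have hcS : (maximalIdeal S).map (algebraMap S Sh) = maximalIdeal Sh :=
    Groth.L01.AnalUnram.completion_map_maximalIdeal S
  have hmQ : (maximalIdeal Ah).map (Ideal.Quotient.mk I') = maximalIdeal (Ah ⧸ I') :=
    IsLocalRing.map_maximalIdeal_of_surjective _ Ideal.Quotient.mk_surjective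
  let f : A →+* Sh := (algebraMap S Sh).comp p
  obtain ⟨φ, hφ, hφm⟩ := Groth.L01.CompletionExt.exists_extend f (by rw [← Ideal.map_map, hmS, hcS])
  have hφI : ∀ z ∈ I', φ z = 0 := by
    intro z hz
    refine (Ideal.map_le_iff_le_comap.mpr fun w hw => ?_ : I' ≤ RingHom.ker φ) hz
    rw [Ideal.mem_comap, RingHom.mem_ker, hφ]
    show algebraMap S Sh (p w) = 0
    rw [RingHom.mem_ker.mp hw, map_zero]
  let Φ := Ideal.Quotient.lift I' φ hφI
  let g₀ : A ⧸ RingHom.ker p →+* Ah ⧸ I' := Ideal.Quotient.lift (RingHom.ker p)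
    ((Ideal.Quotient.mk I').comp (algebraMap A Ah))
    fun w hw => Ideal.Quotient.eq_zero_iff_mem.mpr (Ideal.mem_map_of_mem _ hw)
  let g : S →+* Ah ⧸ I' := g₀.comp (RingHom.quotientKerEquivOfSurjective hp).symm.toRingHom
  have hg : ∀ w, g (p w) = Ideal.Quotient.mk I' (algebraMap A Ah w) := fun w => by
    have h1 : (RingHom.quotientKerEquivOfSurjective hp).symm (p w) = Ideal.Quotient.mk _ w :=
      RingHom.quotientKerEquivOfSurjective_symm_apply hp w
    show g₀ ((RingHom.quotientKerEquivOfSurjective hp).symm (p w)) = _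
    rw [h1]
    rfl
  have hgm : (maximalIdeal S).map g ≤ maximalIdeal (Ah ⧸ I') := by
    rw [← hmS, Ideal.map_map, show g.comp p = (Ideal.Quotient.mk I').comp (algebraMap A Ah) from RingHom.ext hg,
      ← Ideal.map_map, hcA, hmQ]
  obtain ⟨Ψ, hΨ, hΨm⟩ := Groth.L01.CompletionExt.exists_extend g hgm
  have hΦm : (maximalIdeal (Ah ⧸ I')).map Φ ≤ maximalIdeal Sh := by
    rw [← hmQ, Ideal.map_map, Ideal.Quotient.lift_comp_mk]
    exact hφm
  have h1 : Φ.comp Ψ = RingHom.id Sh := by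
    refine Groth.L01.CompletionExt.ext_of_hausdorff _ _ ?_ (Ideal.map_id _).le fun s => ?_
    · rw [← Ideal.map_map]
      exact (Ideal.map_mono hΨm).trans hΦm
    · obtain ⟨w, rfl⟩ := hp s
      show Φ (Ψ (algebraMap S Sh (p w))) = algebraMap S Sh (p w)
      rw [hΨ, hg]
      exact hφ w
  have h2 : Ψ.comp φ = Ideal.Quotient.mk I' := by
    refine Groth.L01.CompletionExt.ext_of_hausdorff _ _ ?_ hmQ.le fun w => ?_
    · rw [← Ideal.map_map]
      exact (Ideal.map_mono hφm).trans hΨm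
    · show Ψ (φ (algebraMap A Ah w)) = _
      rw [hφ]
      show Ψ (algebraMap S Sh (p w)) = _
      rw [hΨ, hg]
  exact ⟨RingEquiv.ofRingHom Φ Ψ h1 (Ideal.Quotient.ringHom_ext (by
    rw [RingHom.comp_assoc, Ideal.Quotient.lift_comp_mk, h2]; rfl)), fun w => hφ w⟩

theorem exists_cplTensorEquiv (I : Ideal A) [Nontrivial (A ⧸ I)] :
    Nonempty (((A ⧸ I) ⊗[A] EGA4.Cpl A) ≃ₐ[A ⧸ I] EGA4.Cpl (A ⧸ I)) := by
  haveI : IsLocalRing (A ⧸ I) := IsLocalRing.of_surjective' (Ideal.Quotient.mk I) Ideal.Quotient.mk_surjective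
  obtain ⟨e, he⟩ := exists_completionQuotEquiv_compat (Ideal.Quotient.mk I) Ideal.Quotient.mk_surjective
  let f : (A ⧸ I) ⊗[A] EGA4.Cpl A ≃ₐ[A] EGA4.Cpl A ⧸ I.map (algebraMap A (EGA4.Cpl A)) :=
    (Algebra.TensorProduct.comm A (A ⧸ I) (EGA4.Cpl A)).trans
      ((Algebra.TensorProduct.quotIdealMapEquivTensorQuot (EGA4.Cpl A) I).restrictScalars A).symm
  let g : (A ⧸ I) ⊗[A] EGA4.Cpl A ≃+* EGA4.Cpl (A ⧸ I) :=
    f.toRingEquiv.trans ((Ideal.quotEquivOfEq (by rw [Ideal.mk_ker])).trans e)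
  refine ⟨AlgEquiv.ofRingEquiv (f := g) fun x => ?_⟩
  obtain ⟨w, rfl⟩ := Ideal.Quotient.mk_surjective x
  have : algebraMap (A ⧸ I) ((A ⧸ I) ⊗[A] EGA4.Cpl A) (Ideal.Quotient.mk I w) = algebraMap A _ w :=
    (IsScalarTower.algebraMap_apply A (A ⧸ I) _ w).symm
  rw [this]
  show e (Ideal.quotEquivOfEq _ (f (algebraMap A _ w))) = _
  rw [AlgEquiv.commutes]
  exact he w

theorem formalFibre_quotient_normal (hA : EGA4.HasGeomNormalFormalFibres A) (I : Ideal A) [Nontrivial (A ⧸ I)] :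
    EGA4.HasGeomNormalFormalFibres (A ⧸ I) := by
  haveI : IsNoetherianRing (EGA4.Cpl A) := Groth.L01.AnalUnram.isNoetherianRing_completion A
  obtain ⟨e⟩ := exists_cplTensorEquiv I
  have hh : EGA4.IsNormalHom A (EGA4.Cpl A) := ⟨AdicCompletion.flat_of_isNoetherian _, hA⟩
  obtain ⟨-, hfib⟩ := Groth.L06.NormalTensor.isNormalHom_baseChange hh (A ⧸ I)
  intro p _ k' _ _ hk
  let e2 : p.Fiber ((A ⧸ I) ⊗[A] EGA4.Cpl A) ≃ₐ[p.ResidueField] EGA4.formalFibre (A ⧸ I) p :=
    Algebra.TensorProduct.congr AlgEquiv.refl e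
  exact Groth.L06.NormalAscent.isNormalRing_of_ringEquiv
    (Algebra.TensorProduct.congr (AlgEquiv.refl : k' ≃ₐ[k'] k') e2).toRingEquiv (hfib p k' hk)

end Groth.L06.CplQuotient
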