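import Mathlib.Topology.Compactness.Compact
import Mathlib.Topology.Separation.Hausdorff

set_option autoImplicit false

/-!
Shrinking finitely many opens around a compact subset which is Hausdorff in the ambient space.
-/

namespace Groth.L06.CechShrink

open Set

variable {X : Type*} [TopologicalSpace X]

/-- Any two distinct points of `Z` have disjoint open neighbourhoods in `X`. -/
def Sep (Z : Set X) : Prop :=
  ∀ z ∈ Z, ∀ z' ∈ Z, z ≠ z' → ∃ A B : Set X, IsOpen A ∧ IsOpen B ∧ z ∈ A ∧ z' ∈ B ∧ Disjoint A B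

variable {Z : Set X}

theorem exists_separated_point (hZ : Sep Z) {z : X} (hz : z ∈ Z) {L : Set X} (hL : IsCompact L)
    (hLZ : L ⊆ Z) (hzL : z ∉ L) :
    ∃ A B : Set X, IsOpen A ∧ IsOpen B ∧ z ∈ A ∧ L ⊆ B ∧ Disjoint A B := by
  refine hL.induction_on (p := fun L => ∃ A B : Set X, IsOpen A ∧ IsOpen B ∧ z ∈ A ∧ L ⊆ B ∧ Disjoint A B)
    ⟨univ, ∅, isOpen_univ, isOpen_empty, trivial, subset_rfl, disjoint_empty _⟩
    (fun s t hst ⟨A, B, h1, h2, h3, h4, h5⟩ => ⟨A, B, h1, h2, h3, hst.trans h4, h5⟩)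
    (fun s t ⟨A, B, h1, h2, h3, h4, h5⟩ ⟨A', B', h1', h2', h3', h4', h5'⟩ =>
      ⟨A ∩ A', B ∪ B', h1.inter h1', h2.union h2', ⟨h3, h3'⟩, union_subset_union h4 h4',
        disjoint_union_right.mpr ⟨h5.mono_left inter_subset_left, h5'.mono_left inter_subset_right⟩⟩)
    fun y hy => ?_
  obtain ⟨A, B, h1, h2, h3, h4, h5⟩ := hZ z hz y (hLZ hy) fun h => hzL (h ▸ hy)
  exact ⟨B, mem_nhdsWithin_of_mem_nhds (h2.mem_nhds h4), A, B, h1, h2, h3, subset_rfl, h5⟩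

theorem exists_separated (hZ : Sep Z) {K L : Set X} (hK : IsCompact K) (hKZ : K ⊆ Z)
    (hL : IsCompact L) (hLZ : L ⊆ Z) (hd : Disjoint K L) :
    ∃ A B : Set X, IsOpen A ∧ IsOpen B ∧ K ⊆ A ∧ L ⊆ B ∧ Disjoint A B := by
  refine hK.induction_on (p := fun K => ∃ A B : Set X, IsOpen A ∧ IsOpen B ∧ K ⊆ A ∧ L ⊆ B ∧ Disjoint A B)
    ⟨∅, univ, isOpen_empty, isOpen_univ, subset_rfl, subset_univ _, empty_disjoint _⟩
    (fun s t hst ⟨A, B, h1, h2, h3, h4, h5⟩ => ⟨A, B, h1, h2, hst.trans h3, h4, h5⟩)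
    (fun s t ⟨A, B, h1, h2, h3, h4, h5⟩ ⟨A', B', h1', h2', h3', h4', h5'⟩ =>
      ⟨A ∪ A', B ∩ B', h1.union h1', h2.inter h2', union_subset_union h3 h3', subset_inter h4 h4',
        disjoint_union_left.mpr ⟨h5.mono_right inter_subset_left, h5'.mono_right inter_subset_right⟩⟩)
    fun y hy => ?_
  obtain ⟨A, B, h1, h2, h3, h4, h5⟩ :=
    exists_separated_point hZ (hKZ hy) hL hLZ (disjoint_left.mp hd hy)
  exact ⟨A, mem_nhdsWithin_of_mem_nhds (h1.mem_nhds h3), A, B, h1, h2, subset_rfl, h4, h5⟩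

theorem isCompact_iInter (hZ : Sep Z) {n : ℕ} (K : Fin (n + 1) → Set X) (hK : ∀ l, IsCompact (K l))
    (hKZ : ∀ l, K l ⊆ Z) : IsCompact (⋂ l, K l) := by
  have key : ∀ l, ∀ y ∈ K 0, y ∉ K l → ∃ O : Set X, IsOpen O ∧ y ∈ O ∧ Disjoint O (K l) := by
    intro l y hy hyl
    obtain ⟨A, B, h1, h2, h3, h4, h5⟩ := exists_separated_point hZ (hKZ 0 hy) (hK l) (hKZ l) hyl
    exact ⟨A, h1, h3, h5.mono_right h4⟩
  rw [show (⋂ l, K l) = K 0 ∩ (⋃₀ {O : Set X | IsOpen O ∧ ∃ l, Disjoint O (K l)})ᶜ from ?_]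
  · exact (hK 0).inter_right (isOpen_sUnion fun O hO => hO.1).isClosed_compl
  ext y
  simp only [mem_iInter, mem_inter_iff, mem_compl_iff, mem_sUnion, mem_ofPred_eq, not_exists, not_and]
  refine ⟨fun h => ⟨h 0, fun O hO hyO => ?_⟩, fun ⟨h0, h⟩ l => by_contra fun hl => ?_⟩
  · obtain ⟨-, l, hl⟩ := hO
    exact disjoint_left.mp hl hyO (h l)
  · obtain ⟨O, hO, hyO, hd⟩ := key l y h0 hl
    exact h O ⟨hO, l, hd⟩ hyO

theorem exists_opens_iInter_subset (hZ : Sep Z) : ∀ (n : ℕ) (K : Fin n → Set X),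
    (∀ l, IsCompact (K l)) → (∀ l, K l ⊆ Z) → ∀ W : Set X, IsOpen W → (⋂ l, K l) ⊆ W →
    ∃ O : Fin n → Set X, (∀ l, IsOpen (O l)) ∧ (∀ l, K l ⊆ O l) ∧ (⋂ l, O l) ⊆ W := by
  intro n
  induction n with
  | zero => exact fun K _ _ W _ h => ⟨K, fun l => l.elim0, fun l => l.elim0, h⟩
  | succ n ih =>
    intro K hK hKZ W hW h
    rcases Nat.eq_zero_or_pos n with rfl | hn
    · refine ⟨fun _ => W, fun _ => hW, fun l => fun y hy => h ?_, iInter_subset _ 0⟩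
      exact mem_iInter.mpr fun l' => (show l = l' from Fin.ext (by omega)) ▸ hy
    obtain ⟨m, rfl⟩ : ∃ m, n = m + 1 := ⟨n - 1, by omega⟩
    let R := ⋂ l : Fin (m + 1), K l.succ
    have hR : IsCompact R := isCompact_iInter hZ _ (fun l => hK _) fun l => hKZ _
    obtain ⟨A, B, hA, hB, hKA, hRB, hAB⟩ := exists_separated hZ (K := K 0 \ W) ((hK 0).diff hW)
      (sdiff_subset.trans (hKZ 0)) hR ((iInter_subset _ 0).trans (hKZ _))
      (disjoint_left.mpr fun y hy hyR => hy.2 (h (mem_iInter.mpr (Fin.cases hy.1 (mem_iInter.mp hyR)))))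
    obtain ⟨O, hO, hKO, hOB⟩ := ih (fun l => K l.succ) (fun l => hK _) (fun l => hKZ _) B hB hRB
    refine ⟨Fin.cons (W ∪ A) O, ?_, ?_, ?_⟩
    · refine Fin.cases ?_ ?_
      · rw [Fin.cons_zero]; exact hW.union hA
      · intro l; rw [Fin.cons_succ]; exact hO l
    · refine Fin.cases ?_ ?_
      · rw [Fin.cons_zero]
        intro y hy
        by_cases hyW : y ∈ W
        · exact Or.inl hyW
        · exact Or.inr (hKA ⟨hy, hyW⟩)
      · intro l; rw [Fin.cons_succ]; exact hKO l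
    · intro y hy
      have hy' := mem_iInter.mp hy
      have hB' : y ∈ B := hOB (mem_iInter.mpr fun l => by have := hy' l.succ; rwa [Fin.cons_succ] at this)
      have h0 := hy' 0
      rw [Fin.cons_zero] at h0
      exact h0.resolve_right fun hyA => disjoint_left.mp hAB hyA hB'

/-- The main shrinking lemma. -/
theorem exists_shrink (hsep : Sep Z) (hZ : IsCompact Z) {ι : Type*} (U : ι → Set X)
    (hU : ∀ i, IsOpen (U i)) (hcov : Z ⊆ ⋃ i, U i) (p : ℕ) (W : (Fin (p + 1) → ι) → Set X)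
    (hWo : ∀ t, IsOpen (W t)) (hWZ : ∀ t, W t ∩ Z = (⋂ l, U (t l)) ∩ Z) :
    ∃ (V K : ι → Set X), (∀ i, IsOpen (V i)) ∧ (∀ i, IsCompact (K i)) ∧ (∀ i, K i ⊆ U i ∩ Z) ∧
      (∀ i, K i ⊆ V i) ∧ (Z ⊆ ⋃ i, K i) ∧ (∀ i, V i ⊆ U i) ∧ (∀ i, closure (V i) ∩ Z ⊆ U i) ∧
      (∀ t : Fin (p + 1) → ι, (⋂ l, V (t l)) ⊆ W t) := by
  classical
  have hpt : ∀ z : Z, ∃ (i : ι) (A : Set X), IsOpen A ∧ z.1 ∈ A ∧ closure A ∩ Z ⊆ U i := fun z => by
    obtain ⟨i, hi⟩ := mem_iUnion.mp (hcov z.2)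
    obtain ⟨A, B, h1, h2, h3, h4, h5⟩ := exists_separated_point hsep z.2 (hZ.diff (hU i)) sdiff_subset
      (fun h => h.2 hi)
    refine ⟨i, A, h1, h3, fun y hy => by_contra fun hyU => ?_⟩
    exact disjoint_left.mp (h5.closure_left h2) hy.1 (h4 ⟨hy.2, hyU⟩)
  choose α A hAo hzA hAU using hpt
  obtain ⟨T, hT⟩ := hZ.elim_finite_subcover A hAo fun z hz => mem_iUnion.mpr ⟨⟨z, hz⟩, hzA _⟩
  let K : ι → Set X := fun i => ⋃ z ∈ T.filter (fun z => α z = i), Z ∩ closure (A z)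
  have hKc : ∀ i, IsCompact (K i) := fun i =>
    (T.filter _).isCompact_biUnion fun z _ => hZ.inter_right isClosed_closure
  have hKU : ∀ i, K i ⊆ U i ∩ Z := fun i => iUnion₂_subset fun z hz y hy =>
    ⟨(Finset.mem_filter.mp hz).2 ▸ hAU z ⟨hy.2, hy.1⟩, hy.1⟩
  have hKcov : Z ⊆ ⋃ i, K i := fun y hy => by
    obtain ⟨z, hz, hyz⟩ := mem_iUnion₂.mp (hT hy)
    exact mem_iUnion.mpr ⟨α z, mem_biUnion (Finset.mem_filter.mpr ⟨hz, rfl⟩) ⟨hy, subset_closure hyz⟩⟩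
  have hsepK : ∀ i, ∃ P : Set X, IsOpen P ∧ K i ⊆ P ∧ closure P ∩ Z ⊆ U i := fun i => by
    obtain ⟨P, B, h1, h2, h3, h4, h5⟩ := exists_separated hsep (hKc i) (fun y hy => (hKU i hy).2)
      (hZ.diff (hU i)) sdiff_subset (disjoint_left.mpr fun y hy h => h.2 (hKU i hy).1)
    exact ⟨P, h1, h3, fun y hy => by_contra fun hyU =>
      disjoint_left.mp (h5.closure_left h2) hy.1 (h4 ⟨hy.2, hyU⟩)⟩
  choose P hPo hKP hPU using hsepK
  let I₀ : Finset ι := T.image α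
  have hK0 : ∀ i ∉ I₀, K i = ∅ := fun i hi => eq_empty_of_forall_notMem fun y hy => by
    obtain ⟨z, hz, -⟩ := mem_iUnion₂.mp hy
    exact hi (Finset.mem_image.mpr ⟨z, (Finset.mem_filter.mp hz).1, (Finset.mem_filter.mp hz).2⟩)
  have htup : ∀ t : Fin (p + 1) → I₀, ∃ O : Fin (p + 1) → Set X, (∀ l, IsOpen (O l)) ∧
      (∀ l, K (t l) ⊆ O l) ∧ (⋂ l, O l) ⊆ W (fun l => t l) := fun t =>
    exists_opens_iInter_subset hsep (p + 1) _ (fun l => hKc _) (fun l y hy => (hKU _ hy).2) _ (hWo _)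
      fun y hy => by
        have h : y ∈ (⋂ l, U (t l)) ∩ Z :=
          ⟨mem_iInter.mpr fun l => (hKU _ (mem_iInter.mp hy l)).1, (hKU _ (mem_iInter.mp hy 0)).2⟩
        rw [← hWZ] at h
        exact h.1
  choose O hOo hKO hOW using htup
  let V : ι → Set X := fun i =>
    if i ∈ I₀ then U i ∩ P i ∩ ⋂ (t : Fin (p + 1) → I₀) (l : Fin (p + 1)) (_ : (t l : ι) = i), O t l else ∅
  have hVU : ∀ i, V i ⊆ U i ∩ P i := fun i => by
    by_cases hi : i ∈ I₀ <;> simp only [V, hi, if_true, if_false]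
    · exact inter_subset_left
    · exact empty_subset _
  refine ⟨V, K, fun i => ?_, hKc, hKU, fun i => ?_, hKcov, fun i => (hVU i).trans inter_subset_left,
    fun i => (inter_subset_inter_left _ (closure_mono ((hVU i).trans inter_subset_right))).trans (hPU i),
    fun t => ?_⟩
  · by_cases hi : i ∈ I₀ <;> simp only [V, hi, if_true, if_false]
    · exact ((hU i).inter (hPo i)).inter
        (isOpen_iInter_of_finite fun t => isOpen_iInter_of_finite fun l => isOpen_iInter_of_finite fun _ => hOo t l)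
    · exact isOpen_empty
  · intro y hy
    by_cases hi : i ∈ I₀
    · simp only [V, hi, if_true]
      refine ⟨⟨(hKU i hy).1, hKP i hy⟩, mem_iInter.mpr fun t => mem_iInter.mpr fun l => mem_iInter.mpr fun h => ?_⟩
      exact hKO t l (h.symm ▸ hy)
    · rw [hK0 i hi] at hy; exact absurd hy (notMem_empty _)
  · intro y hy
    have hmem : ∀ l, t l ∈ I₀ := fun l => by_contra fun h => by
      have := mem_iInter.mp hy l
      simp only [V, h, if_false] at this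
      exact notMem_empty _ this
    have := hOW (fun l => ⟨t l, hmem l⟩)
    refine this (mem_iInter.mpr fun l => ?_)
    have := mem_iInter.mp hy l
    simp only [V, hmem l, if_true] at this
    exact mem_iInter.mp (mem_iInter.mp (mem_iInter.mp this.2 (fun l => ⟨t l, hmem l⟩)) l) rfl

end Groth.L06.CechShrink
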