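import Groth.Prelude.Def_Exal2
import Groth.Prelude.Def_Exal3
import Mathlib.RingTheory.Smooth.Basic
import Mathlib.Algebra.Module.Injective
import Mathlib.Algebra.Module.Projective
import Mathlib.LinearAlgebra.TensorProduct.RightExactness

/-! The characteristic homomorphism of an extension which is trivial over the base. -/

set_option autoImplicit false
set_option maxSynthPendingDepth 3
set_option linter.style.haveILetI false
universe u v

namespace Groth.L06.CharHom

open TensorProduct

attribute [local instance] Exal.opModule Exal.isCentralScalar_opModule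

section Kinv
variable {R : Type u} {S M : Type v} [CommRing R] [CommRing S] [Algebra R S] [AddCommGroup M] [Module S M]
variable (X : Exal.Ext R S M)

theorem incl_smul (e : X.E) (z : M) : X.incl (X.proj e • z) = e * X.incl z :=
  (X.isExtension.mul_incl e z).symm

theorem proj_incl (z : M) : X.proj (X.incl z) = 0 := (X.isExtension.exact _).2 ⟨z, rfl⟩

theorem eq_of_incl {y z : M} (h : X.incl y = X.incl z) : y = z := X.isExtension.incl_injective h

theorem kerLift_incl (z : M) (h : X.proj (X.incl z) = 0) : X.kerLift (X.incl z) h = z :=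
  eq_of_incl X (X.incl_kerLift _ h)

end Kinv

variable {A : Type u} {B C L : Type v} [CommRing A] [CommRing B] [CommRing C] [Algebra A B] [Algebra B C]
  [Algebra A C] [IsScalarTower A B C] [AddCommGroup L] [Module C L]

/-- A ring section of the projection, compatible with the maps from `A`. -/
structure IsSection (X : Exal.Ext B C L) (σ : C →+* X.E) : Prop where
  proj : ∀ c, X.proj (σ c) = c
  base : ∀ a : A, σ (algebraMap A C a) = algebraMap B X.E (algebraMap A B a)

theorem exists_section (X : Exal.Ext B C L) (hX : X.IsTrivialOver A) :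
    ∃ σ : C →+* X.E, IsSection (A := A) X σ := by
  obtain ⟨s, hs⟩ := hX
  exact ⟨s.toRingHom, ⟨hs, fun a => s.commutes a⟩⟩

theorem isTrivialOver_of_section (X : Exal.Ext B C L) (σ : C →+* X.E) (h : IsSection (A := A) X σ) :
    X.IsTrivialOver A :=
  ⟨AlgHom.mk (R := A) (B := X.RestrictCarrier A) σ h.base, h.proj⟩

theorem exists_section_of_formallySmooth [Algebra.FormallySmooth A C] (X : Exal.Ext B C L) :
    X.IsTrivialOver A := by
  let E := X.RestrictCarrier A
  let π : E →ₐ[A] C := (X.restrictBase A).proj
  have hπ : Function.Surjective π := X.isExtension.proj_surjective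
  have h2 : RingHom.ker π ^ 2 = ⊥ := by
    rw [pow_two, eq_bot_iff, Ideal.mul_le]
    intro x hx y hy
    obtain ⟨a, rfl⟩ := (X.isExtension.exact x).1 hx
    obtain ⟨b, rfl⟩ := (X.isExtension.exact y).1 hy
    rw [Ideal.mem_bot]
    show X.incl a * X.incl b = 0
    rw [X.isExtension.mul_incl, proj_incl, zero_smul, map_zero]
  let e := Ideal.quotientKerAlgEquivOfSurjective hπ
  obtain ⟨g, hg⟩ := Algebra.FormallySmooth.comp_surjective A C (RingHom.ker π) h2 e.symm.toAlgHom
  refine ⟨g, fun c => ?_⟩
  have h := congrArg e (DFunLike.congr_fun hg c)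
  simp at h
  exact h

section Der
variable [Module B L] [IsScalarTower B C L] [Module A L] [IsScalarTower A C L] [IsScalarTower A B L]
variable (X : Exal.Ext B C L) (σ : C →+* X.E) (h : IsSection (A := A) X σ)

theorem proj_defect (hp : ∀ c, X.proj (σ c) = c) (e : X.E) : X.proj (e - σ (X.proj e)) = 0 := by
  rw [map_sub, hp, sub_self]

/-- The `L`-component of an element. -/
noncomputable def ell (hp : ∀ c, X.proj (σ c) = c) (e : X.E) : L := X.kerLift _ (proj_defect X σ hp e)

theorem incl_ell (hp : ∀ c, X.proj (σ c) = c) (e : X.E) : X.incl (ell X σ hp e) = e - σ (X.proj e) :=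
  X.incl_kerLift _ _

theorem ell_add (hp : ∀ c, X.proj (σ c) = c) (x y : X.E) : ell X σ hp (x + y) = ell X σ hp x + ell X σ hp y :=
  eq_of_incl X (by rw [map_add, incl_ell, incl_ell, incl_ell]; simp only [map_add]; ring)

theorem ell_mul (hp : ∀ c, X.proj (σ c) = c) (x y : X.E) :
    ell X σ hp (x * y) = X.proj x • ell X σ hp y + X.proj y • ell X σ hp x := eq_of_incl X (by
  rw [map_add, incl_smul, incl_smul, incl_ell, incl_ell, incl_ell]
  have hsq : (x - σ (X.proj x)) * (y - σ (X.proj y)) = 0 := by
    rw [← incl_ell X σ hp y, X.isExtension.mul_incl, proj_defect X σ hp x, zero_smul, map_zero]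
  rw [map_mul, map_mul]
  linear_combination -hsq)

theorem ell_incl (hp : ∀ c, X.proj (σ c) = c) (z : L) : ell X σ hp (X.incl z) = z :=
  eq_of_incl X (by rw [incl_ell, proj_incl, map_zero, sub_zero])

include h

theorem ell_base (a : A) : ell X σ h.proj (algebraMap B X.E (algebraMap A B a)) = 0 :=
  eq_of_incl X (by rw [incl_ell, AlgHom.commutes, ← IsScalarTower.algebraMap_apply A B C, h.base, sub_self, map_zero])

/-- The derivation `B → L` attached to a section. -/
noncomputable def der : Derivation A B L :=
  Derivation.mk'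
    { toFun := fun b => ell X σ h.proj (algebraMap B X.E b)
      map_add' := fun x y => by rw [map_add, ell_add]
      map_smul' := fun a x => by
        rw [Algebra.smul_def, map_mul, ell_mul, ell_base X σ h, smul_zero, add_zero, AlgHom.commutes,
          ← IsScalarTower.algebraMap_apply A B C, IsScalarTower.algebraMap_smul, RingHom.id_apply] }
    (fun x y => by
      show ell X σ h.proj (algebraMap B X.E (x * y)) = _
      rw [map_mul, ell_mul, AlgHom.commutes, AlgHom.commutes, IsScalarTower.algebraMap_smul,
        IsScalarTower.algebraMap_smul]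
      rfl)

theorem incl_der (b : B) : X.incl (der X σ h b) = algebraMap B X.E b - σ (algebraMap B C b) := by
  show X.incl (ell X σ h.proj (algebraMap B X.E b)) = _
  rw [incl_ell, AlgHom.commutes]

/-- Its `C`-linear form on `C ⊗ Ω_{B/A}`. -/
noncomputable def phi : C ⊗[B] Ω[B⁄A] →ₗ[C] L := (der X σ h).liftKaehlerDifferential.liftBaseChange C

theorem phi_tmul_D (c : C) (b : B) : phi X σ h (c ⊗ₜ KaehlerDifferential.D A B b) = c • der X σ h b := by
  rw [phi, LinearMap.liftBaseChange_tmul, Derivation.liftKaehlerDifferential_comp_D]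

omit h in
/-- `deltaL` is `C`-linear. -/
theorem deltaL_smul (c : C) (z : L) : X.deltaL A (c • z) = c • X.deltaL A z := by
  obtain ⟨e, rfl⟩ := X.isExtension.proj_surjective c
  let e' : X.CharCarrier A := e
  have hmul : X.inclC A (X.proj e • z) = e' * X.inclC A z := incl_smul X e z
  show (1 : C) ⊗ₜ[X.CharCarrier A] KaehlerDifferential.D A (X.CharCarrier A) (X.inclC A (X.proj e • z)) =
    X.proj e • ((1 : C) ⊗ₜ[X.CharCarrier A] KaehlerDifferential.D A (X.CharCarrier A) (X.inclC A z))
  rw [hmul, Derivation.leibniz, TensorProduct.tmul_add, TensorProduct.tmul_smul, TensorProduct.tmul_smul,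
    TensorProduct.smul_tmul', TensorProduct.smul_tmul' (X.inclC A z) (1 : C), TensorProduct.smul_tmul' (X.proj e),
    Algebra.smul_def, Algebra.smul_def, show algebraMap (X.CharCarrier A) C (X.inclC A z) = 0 from proj_incl X z,
    zero_mul, TensorProduct.zero_tmul, add_zero]
  rfl

theorem baseChange_sub_deltaL :
    ∀ z : C ⊗[B] Ω[B⁄A], KaehlerDifferential.mapBaseChange A B C z = 0 →
      X.baseChangeToMiddle A z = X.deltaL A (phi X σ h z) := by
  let E := X.CharCarrier A
  let σ' : C →+* E := σ
  have hproj : ∀ c, algebraMap E C (σ' c) = c := h.proj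
  let Dσ : Derivation A C (C ⊗[E] Ω[E⁄A]) := Derivation.mk'
    { toFun := fun c => (1 : C) ⊗ₜ[E] KaehlerDifferential.D A E (σ' c)
      map_add' := fun x y => by simp only [map_add, TensorProduct.tmul_add]
      map_smul' := fun a x => by
        rw [RingHom.id_apply, Algebra.smul_def, map_mul, show σ' (algebraMap A C a) = algebraMap A E a from h.base a,
          ← Algebra.smul_def, Derivation.map_smul, TensorProduct.tmul_smul] }
    (fun x y => by
      show (1 : C) ⊗ₜ[E] KaehlerDifferential.D A E (σ' (x * y)) =
        x • ((1 : C) ⊗ₜ[E] KaehlerDifferential.D A E (σ' y)) + y • ((1 : C) ⊗ₜ[E] KaehlerDifferential.D A E (σ' x))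
      rw [map_mul, Derivation.leibniz, TensorProduct.tmul_add, TensorProduct.tmul_smul, TensorProduct.tmul_smul,
        ← IsScalarTower.algebraMap_smul C (σ' x), ← IsScalarTower.algebraMap_smul C (σ' y), hproj, hproj])
  let S : Ω[C⁄A] →ₗ[C] C ⊗[E] Ω[E⁄A] := Dσ.liftKaehlerDifferential
  have hkey : ∀ z : C ⊗[B] Ω[B⁄A],
      X.baseChangeToMiddle A z = S (KaehlerDifferential.mapBaseChange A B C z) + X.deltaL A (phi X σ h z) := by
    intro z
    induction z using TensorProduct.induction_on with
    | zero => simp
    | add x y hx hy => simp only [map_add, hx, hy]; abel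
    | tmul c w =>
      induction (KaehlerDifferential.span_range_derivation A B ▸ Submodule.mem_top :
          w ∈ Submodule.span B (Set.range (KaehlerDifferential.D A B))) using Submodule.span_induction generalizing c with
      | mem y hy =>
        obtain ⟨b, rfl⟩ := hy
        rw [phi_tmul_D, KaehlerDifferential.mapBaseChange_tmul, KaehlerDifferential.map_D, map_smul, deltaL_smul,
          Derivation.liftKaehlerDifferential_comp_D]
        show (c : C) ⊗ₜ[E] KaehlerDifferential.map A A B E (KaehlerDifferential.D A B b) =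
          c • ((1 : C) ⊗ₜ[E] KaehlerDifferential.D A E (σ' (algebraMap B C b))) +
            c • ((1 : C) ⊗ₜ[E] KaehlerDifferential.D A E (X.inclC A (der X σ h b)))
        rw [← smul_add, ← TensorProduct.tmul_add, ← map_add, TensorProduct.smul_tmul', smul_eq_mul, mul_one,
          KaehlerDifferential.map_D,
          show X.inclC A (der X σ h b) = algebraMap B E b - σ' (algebraMap B C b) from incl_der X σ h b,
          add_sub_cancel]
      | zero => simp
      | add a b _ _ ha hb => simp only [TensorProduct.tmul_add, map_add, ha, hb]; abel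
      | smul r a _ ha => rw [← TensorProduct.smul_tmul]; exact ha _
  intro z hz
  rw [hkey z, hz, map_zero, zero_add]

theorem deltaL_injective : Function.Injective (X.deltaL A) := by
  let E := X.CharCarrier A
  letI : Module E L := Module.compHom L (algebraMap E C)
  haveI : IsScalarTower E C L := IsScalarTower.of_algebraMap_smul fun _ _ => rfl
  haveI : IsScalarTower A E L := IsScalarTower.of_algebraMap_smul fun a z => by
    show algebraMap E C (algebraMap A E a) • z = a • z
    rw [← IsScalarTower.algebraMap_apply, IsScalarTower.algebraMap_smul]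
  let l : E → L := fun e => ell X σ h.proj e
  let R₀ : Derivation A E L := Derivation.mk'
    { toFun := l
      map_add' := fun x y => ell_add X σ h.proj x y
      map_smul' := fun a x => by
        rw [RingHom.id_apply, Algebra.smul_def]
        show ell X σ h.proj (algebraMap B X.E (algebraMap A B a) * (show X.E from x)) = a • ell X σ h.proj x
        rw [ell_mul, ell_base X σ h, smul_zero, add_zero, AlgHom.commutes, ← IsScalarTower.algebraMap_apply A B C,
          IsScalarTower.algebraMap_smul] }
    (fun x y => ell_mul X σ h.proj x y)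
  intro y z hyz
  have hR : ∀ w : L, R₀.liftKaehlerDifferential.liftBaseChange C (X.deltaL A w) = w := fun w => by
    show R₀.liftKaehlerDifferential.liftBaseChange C ((1 : C) ⊗ₜ[E] KaehlerDifferential.D A E (X.inclC A w)) = w
    rw [LinearMap.liftBaseChange_tmul, one_smul, Derivation.liftKaehlerDifferential_comp_D]
    exact ell_incl X σ h.proj w
  rw [← hR y, hyz, hR]

theorem isCharHom_phi : X.IsCharHom A ((phi X σ h) ∘ₗ (EGA41.imperfection A B C).subtype) :=
  fun z => (baseChange_sub_deltaL X σ h z z.2).symm

theorem charHom_eq {χ : EGA41.imperfection A B C →ₗ[C] L} (hχ : X.IsCharHom A χ) (z : EGA41.imperfection A B C) :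
    χ z = phi X σ h z :=
  deltaL_injective X σ h ((hχ z).trans (baseChange_sub_deltaL X σ h z z.2))

omit h in
/-- Extensions whose derivations differ by a derivation of `C` are equivalent. -/
theorem equiv_of_der {Y : Exal.Ext B C L} {τ : C →+* Y.E} (h : IsSection (A := A) X σ)
    (g : IsSection (A := A) Y τ) (δ : Derivation A C L)
    (hδ : ∀ b : B, der X σ h b = der Y τ g b + δ (algebraMap B C b)) : Nonempty (X.Equiv Y) := by
  let ℓ : X.E → L := ell X σ h.proj
  have hℓ : ∀ e, X.incl (ℓ e) = e - σ (X.proj e) := incl_ell X σ h.proj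
  let f : X.E → Y.E := fun e => τ (X.proj e) + Y.incl (ℓ e - δ (X.proj e))
  have hℓ_add : ∀ x y, ℓ (x + y) = ℓ x + ℓ y := ell_add X σ h.proj
  have hℓ_mul : ∀ x y, ℓ (x * y) = X.proj x • ℓ y + X.proj y • ℓ x := ell_mul X σ h.proj
  have hf_proj : ∀ e, Y.proj (f e) = X.proj e := fun e => by
    simp only [f, map_add, g.proj, proj_incl, add_zero]
  have hf_incl : ∀ z, f (X.incl z) = Y.incl z := fun z => by
    have h1 : ℓ (X.incl z) = z := eq_of_incl X (by rw [hℓ, proj_incl, map_zero, sub_zero])
    simp only [f, proj_incl, map_zero, h1, sub_zero, zero_add]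
  have hf_mul : ∀ x y, f (x * y) = f x * f y := fun x y => by
    simp only [f, map_mul X.proj, map_mul τ, hℓ_mul, Derivation.leibniz]
    have hsq : Y.incl (ℓ x - δ (X.proj x)) * Y.incl (ℓ y - δ (X.proj y)) = 0 := by
      rw [Y.isExtension.mul_incl, proj_incl, zero_smul, map_zero]
    have hx := Y.isExtension.mul_incl (τ (X.proj x)) (ℓ y - δ (X.proj y))
    have hy := Y.isExtension.mul_incl (τ (X.proj y)) (ℓ x - δ (X.proj x))
    rw [g.proj] at hx hy
    rw [show X.proj x • ℓ y + X.proj y • ℓ x - (X.proj x • δ (X.proj y) + X.proj y • δ (X.proj x)) =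
      X.proj x • (ℓ y - δ (X.proj y)) + X.proj y • (ℓ x - δ (X.proj x)) by simp only [smul_sub]; abel, map_add, ← hx, ← hy]
    linear_combination -hsq
  have hf_B : ∀ b, f (algebraMap B X.E b) = algebraMap B Y.E b := fun b => by
    have h1 : ℓ (algebraMap B X.E b) = der X σ h b := eq_of_incl X (by rw [hℓ, incl_der, AlgHom.commutes])
    simp only [f, h1, hδ b, AlgHom.commutes, add_sub_cancel_right, incl_der]
    ring
  let F : X.E →ₐ[B] Y.E :=
    { toFun := f
      map_one' := by rw [← map_one (algebraMap B X.E), hf_B, map_one]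
      map_mul' := hf_mul
      map_zero' := by rw [← map_zero (algebraMap B X.E), hf_B, map_zero]
      map_add' := fun x y => by
        simp only [f, map_add X.proj, map_add τ, hℓ_add, map_add δ]
        rw [show ℓ x + ℓ y - (δ (X.proj x) + δ (X.proj y)) = (ℓ x - δ (X.proj x)) + (ℓ y - δ (X.proj y)) by abel, map_add]
        ring
      commutes' := hf_B }
  have hinj : Function.Injective F := by
    refine (injective_iff_map_eq_zero F).mpr fun e he => ?_
    have h0 : X.proj e = 0 := by rw [← hf_proj e, show f e = 0 from he, map_zero]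
    obtain ⟨z, rfl⟩ := (X.isExtension.exact e).1 h0
    have h1 : Y.incl z = Y.incl 0 := by rw [← hf_incl, map_zero]; exact he
    rw [eq_of_incl Y h1, map_zero]
  have hsurj : Function.Surjective F := fun y => by
    obtain ⟨e, he⟩ := X.isExtension.proj_surjective (Y.proj y)
    have h0 : Y.proj (y - f e) = 0 := by rw [map_sub, hf_proj, he, sub_self]
    obtain ⟨z, hz⟩ := (Y.isExtension.exact _).1 h0
    refine ⟨e + X.incl z, ?_⟩
    rw [map_add]
    show f e + f (X.incl z) = y
    rw [hf_incl, hz]
    ring
  exact ⟨⟨AlgEquiv.ofBijective F ⟨hinj, hsurj⟩, hf_proj, hf_incl⟩⟩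

end Der

end Groth.L06.CharHom
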