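import Groth.Agent.L06.CharHom
import Mathlib.RingTheory.Smooth.Kaehler
import Mathlib.RingTheory.Kaehler.JacobiZariski

/-! Injectivity and surjectivity of the characteristic homomorphism, and the infinitesimal extension. -/

set_option autoImplicit false
set_option maxSynthPendingDepth 3
set_option linter.style.haveILetI false
universe u v

namespace Groth.L06.CharHom

open TensorProduct

attribute [local instance] Exal.opModule Exal.isCentralScalar_opModule

section Gen
variable {A : Type u} {B C L : Type v} [CommRing A] [CommRing B] [CommRing C] [Algebra A B] [Algebra B C]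
  [Algebra A C] [IsScalarTower A B C] [AddCommGroup L] [Module C L]

theorem kaehler_C_induction {P : C ⊗[B] Ω[B⁄A] → Prop} (h0 : P 0) (hadd : ∀ x y, P x → P y → P (x + y))
    (hD : ∀ (c : C) (b : B), P (c ⊗ₜ KaehlerDifferential.D A B b)) : ∀ z, P z := by
  intro z
  induction z using TensorProduct.induction_on with
  | zero => exact h0
  | add x y hx hy => exact hadd x y hx hy
  | tmul c w =>
    induction (KaehlerDifferential.span_range_derivation A B ▸ Submodule.mem_top :
        w ∈ Submodule.span B (Set.range (KaehlerDifferential.D A B))) using Submodule.span_induction generalizing c with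
    | mem y hy => obtain ⟨b, rfl⟩ := hy; exact hD c b
    | zero => rw [TensorProduct.tmul_zero]; exact h0
    | add a b _ _ ha hb => rw [TensorProduct.tmul_add]; exact hadd _ _ (ha c) (hb c)
    | smul r a _ ha => rw [← TensorProduct.smul_tmul]; exact ha _

/-- A map vanishing on the imperfection module extends to `Ω_{C/A}`. -/
theorem exists_extend
    (hh : Module.Injective C L ∨
      ∃ s : Ω[C⁄B] →ₗ[C] Ω[C⁄A], ∀ ω : Ω[C⁄B], KaehlerDifferential.map A B C C (s ω) = ω)
    (Φ : C ⊗[B] Ω[B⁄A] →ₗ[C] L) (hΦ : ∀ z ∈ EGA41.imperfection A B C, Φ z = 0) :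
    ∃ ψ : Ω[C⁄A] →ₗ[C] L, ∀ z, ψ (KaehlerDifferential.mapBaseChange A B C z) = Φ z := by
  let m := KaehlerDifferential.mapBaseChange A B C
  let g : LinearMap.range m →ₗ[C] L :=
    ((LinearMap.ker m).liftQ Φ fun z hz => hΦ z hz) ∘ₗ m.quotKerEquivRange.symm.toLinearMap
  have hg : ∀ z, g ⟨m z, ⟨z, rfl⟩⟩ = Φ z := fun z => by
    have h1 : m.quotKerEquivRange.symm ⟨m z, ⟨z, rfl⟩⟩ = Submodule.Quotient.mk z := by
      rw [LinearEquiv.symm_apply_eq]
      rfl
    show ((LinearMap.ker m).liftQ Φ fun z hz => hΦ z hz) (m.quotKerEquivRange.symm ⟨m z, ⟨z, rfl⟩⟩) = Φ z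
    rw [h1]
    rfl
  rcases hh with hinj | ⟨s, hs⟩
  · haveI := hinj
    obtain ⟨ψ, hψ⟩ := Module.Injective.extension_property C L _ _ (LinearMap.range m).subtype Subtype.val_injective g
    exact ⟨ψ, fun z => (LinearMap.congr_fun hψ ⟨m z, ⟨z, rfl⟩⟩).trans (hg z)⟩
  · let π : Ω[C⁄A] →ₗ[C] Ω[C⁄A] := LinearMap.id - s ∘ₗ KaehlerDifferential.map A B C C
    have hπ : ∀ ω, π ω ∈ LinearMap.range m := fun ω => by
      refine (KaehlerDifferential.exact_mapBaseChange_map A B C _).mp ?_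
      show KaehlerDifferential.map A B C C (ω - s (KaehlerDifferential.map A B C C ω)) = 0
      rw [map_sub, hs, sub_self]
    refine ⟨g ∘ₗ π.codRestrict _ hπ, fun z => ?_⟩
    show g (π.codRestrict _ hπ (m z)) = Φ z
    rw [← hg z]
    congr 1
    refine Subtype.ext ?_
    show m z - s (KaehlerDifferential.map A B C C (m z)) = m z
    rw [(KaehlerDifferential.exact_mapBaseChange_map A B C _).mpr ⟨z, rfl⟩, map_zero, sub_zero]

theorem equiv_of_charHom
    (hh : Module.Injective C L ∨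
      ∃ s : Ω[C⁄B] →ₗ[C] Ω[C⁄A], ∀ ω : Ω[C⁄B], KaehlerDifferential.map A B C C (s ω) = ω)
    (X Y : Exal.Ext B C L) (hX : X.IsTrivialOver A) (hY : Y.IsTrivialOver A)
    (χ : EGA41.imperfection A B C →ₗ[C] L) (hXχ : X.IsCharHom A χ) (hYχ : Y.IsCharHom A χ) :
    Nonempty (X.Equiv Y) := by
  letI : Module B L := Module.compHom L (algebraMap B C)
  letI : Module A L := Module.compHom L (algebraMap A C)
  haveI : IsScalarTower B C L := IsScalarTower.of_algebraMap_smul fun _ _ => rfl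
  haveI : IsScalarTower A C L := IsScalarTower.of_algebraMap_smul fun _ _ => rfl
  haveI : IsScalarTower A B L := IsScalarTower.of_algebraMap_smul fun a z => by
    show algebraMap B C (algebraMap A B a) • z = algebraMap A C a • z
    rw [← IsScalarTower.algebraMap_apply]
  obtain ⟨σ, hσ⟩ := exists_section X hX
  obtain ⟨τ, hτ⟩ := exists_section Y hY
  obtain ⟨ψ, hψ⟩ := exists_extend (A := A) (B := B) hh (phi X σ hσ - phi Y τ hτ) fun z hz => by
    rw [LinearMap.sub_apply, ← charHom_eq X σ hσ hXχ ⟨z, hz⟩, ← charHom_eq Y τ hτ hYχ ⟨z, hz⟩, sub_self]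
  refine equiv_of_der X σ hσ hτ (ψ.compDer (KaehlerDifferential.D A C)) fun b => ?_
  have h1 := hψ ((1 : C) ⊗ₜ[B] KaehlerDifferential.D A B b)
  rw [KaehlerDifferential.mapBaseChange_tmul, one_smul, KaehlerDifferential.map_D, LinearMap.sub_apply, phi_tmul_D,
    phi_tmul_D, one_smul, one_smul] at h1
  show der X σ hσ b = der Y τ hτ b + ψ (KaehlerDifferential.D A C (algebraMap B C b))
  rw [h1]; abel

theorem exists_of_extend (χ : EGA41.imperfection A B C →ₗ[C] L) (φ : C ⊗[B] Ω[B⁄A] →ₗ[C] L)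
    (hφ : ∀ z : EGA41.imperfection A B C, φ z = χ z) :
    ∃ X : Exal.Ext B C L, X.IsTrivialOver A ∧ X.IsCharHom A χ := by
  letI : Module B L := Module.compHom L (algebraMap B C)
  letI : Module A L := Module.compHom L (algebraMap A C)
  haveI : IsScalarTower B C L := IsScalarTower.of_algebraMap_smul fun _ _ => rfl
  haveI : IsScalarTower A C L := IsScalarTower.of_algebraMap_smul fun _ _ => rfl
  haveI : IsScalarTower A B L := IsScalarTower.of_algebraMap_smul fun a z => by
    show algebraMap B C (algebraMap A B a) • z = algebraMap A C a • z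
    rw [← IsScalarTower.algebraMap_apply]
  let d : Derivation A B L :=
    ((φ.restrictScalars B).comp (TensorProduct.mk B C (Ω[B⁄A]) 1)).compDer (KaehlerDifferential.D A B)
  have hd : ∀ b, d b = φ ((1 : C) ⊗ₜ[B] KaehlerDifferential.D A B b) := fun b => rfl
  let X : Exal.Ext B C L := Exal.Ext.ofDerivation (C := C) d
  let σ : C →+* X.E := TrivSqZeroExt.inlHom C L
  have hσ : IsSection (A := A) X σ := by
    refine ⟨fun c => rfl, fun a => ?_⟩
    show TrivSqZeroExt.inl (algebraMap A C a) =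
      TrivSqZeroExt.inl (algebraMap B C (algebraMap A B a)) + TrivSqZeroExt.inr (d (algebraMap A B a))
    rw [← IsScalarTower.algebraMap_apply, Derivation.map_algebraMap, TrivSqZeroExt.inr_zero, add_zero]
  refine ⟨X, isTrivialOver_of_section X σ hσ, ?_⟩
  have hder : ∀ b, der X σ hσ b = d b := fun b => eq_of_incl X (by
    rw [incl_der]
    show TrivSqZeroExt.inl (algebraMap B C b) + TrivSqZeroExt.inr (d b) - TrivSqZeroExt.inl (algebraMap B C b) =
      TrivSqZeroExt.inr (d b)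
    rw [add_sub_cancel_left])
  have hphi : ∀ z, phi X σ hσ z = φ z := kaehler_C_induction (by simp) (fun x y hx hy => by simp [hx, hy])
    fun c b => by
      rw [phi_tmul_D, hder, hd, ← map_smul, TensorProduct.smul_tmul', smul_eq_mul, mul_one]
  have hχ : χ = (phi X σ hσ) ∘ₗ (EGA41.imperfection A B C).subtype :=
    LinearMap.ext fun z => ((hphi z).trans (hφ z)).symm
  rw [hχ]
  exact isCharHom_phi X σ hσ

theorem exists_charHom
    (hh : Module.Injective C L ∨
      ∃ r : C ⊗[B] Ω[B⁄A] →ₗ[C] EGA41.imperfection A B C, ∀ z : EGA41.imperfection A B C, r z = z)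
    (χ : EGA41.imperfection A B C →ₗ[C] L) :
    ∃ X : Exal.Ext B C L, X.IsTrivialOver A ∧ X.IsCharHom A χ := by
  rcases hh with hinj | ⟨r, hr⟩
  · haveI := hinj
    obtain ⟨φ, hφ⟩ := Module.Injective.extension_property C L _ _ (EGA41.imperfection A B C).subtype Subtype.val_injective χ
    exact exists_of_extend χ φ fun z => LinearMap.congr_fun hφ z
  · exact exists_of_extend χ (χ ∘ₗ r) fun z => by rw [LinearMap.comp_apply, hr]

theorem splittings [Algebra.FormallySmooth A C] [Module.Projective C Ω[C⁄B]] :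
    (∃ r : C ⊗[B] Ω[B⁄A] →ₗ[C] EGA41.imperfection A B C, ∀ z : EGA41.imperfection A B C, r z = z) ∧
      ∃ s : Ω[C⁄B] →ₗ[C] Ω[C⁄A], ∀ ω : Ω[C⁄B], KaehlerDifferential.map A B C C (s ω) = ω := by
  let p := KaehlerDifferential.map A B C C
  let m := KaehlerDifferential.mapBaseChange A B C
  obtain ⟨s, hs⟩ := Module.projective_lifting_property p LinearMap.id (KaehlerDifferential.map_surjective A B C)
  have hs' : ∀ ω, p (s ω) = ω := fun ω => LinearMap.congr_fun hs ω
  let π : Ω[C⁄A] →ₗ[C] Ω[C⁄A] := LinearMap.id - s ∘ₗ p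
  have hπ : ∀ ω, π ω ∈ LinearMap.range m := fun ω => by
    refine (KaehlerDifferential.exact_mapBaseChange_map A B C _).mp ?_
    show p (ω - s (p ω)) = 0
    rw [map_sub, hs', sub_self]
  obtain ⟨t, ht⟩ := Module.projective_lifting_property m.rangeRestrict (π.codRestrict _ hπ)
    (LinearMap.surjective_rangeRestrict m)
  have ht' : ∀ ω, m (t ω) = π ω := fun ω => congrArg Subtype.val (LinearMap.congr_fun ht ω)
  refine ⟨⟨(LinearMap.id - t ∘ₗ m).codRestrict (EGA41.imperfection A B C) (fun z => ?hmem), fun z => Subtype.ext ?hval⟩, s, hs'⟩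
  case hmem =>
    show m (z - t (m z)) = 0
    rw [map_sub, ht']
    show m z - (m z - s (p (m z))) = 0
    rw [(KaehlerDifferential.exact_mapBaseChange_map A B C _).mpr ⟨z, rfl⟩, map_zero, sub_zero, sub_self]
  case hval =>
    show (z : C ⊗[B] Ω[B⁄A]) - t (m z) = z
    rw [show m z = 0 from z.2, map_zero, sub_zero]

end Gen

section Inf
variable {Λ : Type u} {B : Type v} [CommRing Λ] [CommRing B] [Algebra Λ B] (K : Ideal B)
  (σ : (B ⧸ K) →+* (Exal.Ext.infinitesimal K).E) (h : IsSection (A := Λ) (Exal.Ext.infinitesimal K) σ)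

theorem tower₁ : IsScalarTower Λ (B ⧸ K) K.Cotangent :=
  IsScalarTower.of_algebraMap_smul fun a z => by
    rw [IsScalarTower.algebraMap_apply Λ B (B ⧸ K), IsScalarTower.algebraMap_smul, IsScalarTower.algebraMap_smul]

theorem surj_mk (z : (B ⧸ K) ⊗[B] Ω[B⁄Λ]) (hz : KaehlerDifferential.mapBaseChange Λ B (B ⧸ K) z = 0) :
    ∃ x : K, (1 : B ⧸ K) ⊗ₜ[B] KaehlerDifferential.D Λ B (x : B) = z := by
  obtain ⟨y, rfl⟩ := (KaehlerDifferential.exact_kerCotangentToTensor_mapBaseChange Λ B (B ⧸ K)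
    Ideal.Quotient.mk_surjective z).mp hz
  obtain ⟨⟨x, hx⟩, rfl⟩ := Ideal.toCotangent_surjective _ y
  exact ⟨⟨x, Ideal.Quotient.eq_zero_iff_mem.mp (RingHom.mem_ker.mp hx)⟩, rfl⟩

theorem mapBaseChange_D {x : B} (hx : x ∈ K) :
    KaehlerDifferential.mapBaseChange Λ B (B ⧸ K) ((1 : B ⧸ K) ⊗ₜ[B] KaehlerDifferential.D Λ B x) = 0 := by
  rw [KaehlerDifferential.mapBaseChange_tmul, one_smul, KaehlerDifferential.map_D,
    show algebraMap B (B ⧸ K) x = 0 from Ideal.Quotient.eq_zero_iff_mem.mpr hx, map_zero]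

theorem tmul_D_eq_zero {x : B} (hx : x ∈ K ^ 2) :
    (1 : B ⧸ K) ⊗ₜ[B] KaehlerDifferential.D Λ B x = 0 := by
  rw [pow_two] at hx
  refine Submodule.mul_induction_on hx (fun a ha b hb => ?_) fun a b ha hb => by
    rw [map_add, TensorProduct.tmul_add, ha, hb, add_zero]
  rw [Derivation.leibniz, TensorProduct.tmul_add, ← TensorProduct.smul_tmul, ← TensorProduct.smul_tmul,
    Algebra.smul_def, Algebra.smul_def, show algebraMap B (B ⧸ K) a = 0 from Ideal.Quotient.eq_zero_iff_mem.mpr ha,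
    show algebraMap B (B ⧸ K) b = 0 from Ideal.Quotient.eq_zero_iff_mem.mpr hb]
  simp

theorem phi_tmul_mem [IsScalarTower Λ (B ⧸ K) K.Cotangent] [IsScalarTower Λ B K.Cotangent] (x : K) :
    phi (Exal.Ext.infinitesimal K) σ h ((1 : B ⧸ K) ⊗ₜ[B] KaehlerDifferential.D Λ B (x : B)) = K.toCotangent x := by
  rw [phi_tmul_D, one_smul]
  refine eq_of_incl (Exal.Ext.infinitesimal K) ?_
  rw [incl_der, show algebraMap B (B ⧸ K) (x : B) = 0 from Ideal.Quotient.eq_zero_iff_mem.mpr x.2, map_zero, sub_zero]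
  rfl

theorem phi_injOn [IsScalarTower Λ (B ⧸ K) K.Cotangent] [IsScalarTower Λ B K.Cotangent]
    (z : (B ⧸ K) ⊗[B] Ω[B⁄Λ]) (hz : KaehlerDifferential.mapBaseChange Λ B (B ⧸ K) z = 0)
    (h0 : phi (Exal.Ext.infinitesimal K) σ h z = 0) : z = 0 := by
  obtain ⟨x, rfl⟩ := surj_mk K z hz
  rw [phi_tmul_mem, Ideal.toCotangent_eq_zero] at h0
  exact tmul_D_eq_zero K h0

end Inf

section Tower
variable {Λ : Type u} {A B : Type v} [CommRing Λ] [CommRing A] [CommRing B] [Algebra Λ A] [Algebra Λ B]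
  [Algebra A B] [IsScalarTower Λ A B] (K : Ideal B)

/-- `C ⊗_A Ω_{A/Λ} → C ⊗_B Ω_{B/Λ}`. -/
noncomputable def gmap : (B ⧸ K) ⊗[A] Ω[A⁄Λ] →ₗ[B ⧸ K] (B ⧸ K) ⊗[B] Ω[B⁄Λ] :=
  ((KaehlerDifferential.mapBaseChange Λ A B).baseChange (B ⧸ K)) ∘ₗ
    (TensorProduct.AlgebraTensorModule.cancelBaseChange A B (B ⧸ K) (B ⧸ K) Ω[A⁄Λ]).symm.toLinearMap

theorem gmap_tmul_D (c : B ⧸ K) (a : A) :
    gmap (Λ := Λ) K (c ⊗ₜ[A] KaehlerDifferential.D Λ A a) = c ⊗ₜ[B] KaehlerDifferential.D Λ B (algebraMap A B a) := by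
  simp [gmap, TensorProduct.AlgebraTensorModule.cancelBaseChange_symm_tmul, KaehlerDifferential.mapBaseChange_tmul]

theorem mapBaseChange_gmap : ∀ z : (B ⧸ K) ⊗[A] Ω[A⁄Λ],
    KaehlerDifferential.mapBaseChange Λ B (B ⧸ K) (gmap K z) = KaehlerDifferential.mapBaseChange Λ A (B ⧸ K) z :=
  kaehler_C_induction (by simp) (fun x y hx hy => by simp [map_add, hx, hy]) fun c a => by
    rw [gmap_tmul_D, KaehlerDifferential.mapBaseChange_tmul, KaehlerDifferential.mapBaseChange_tmul,
      KaehlerDifferential.map_D, KaehlerDifferential.map_D, ← IsScalarTower.algebraMap_apply]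

variable (htriv : ((Exal.Ext.infinitesimal K).restrictBase A).IsTrivialOver Λ)
include htriv

theorem charHom_tower (χ : EGA41.imperfection Λ A (B ⧸ K) →ₗ[B ⧸ K] K.Cotangent)
    (hχ : ((Exal.Ext.infinitesimal K).restrictBase A).IsCharHom Λ χ) :
    (∀ z, χ z = 0 ↔ gmap K (z : (B ⧸ K) ⊗[A] Ω[A⁄Λ]) = 0) ∧
      ∀ (x : B) (hx : x ∈ K), K.toCotangent ⟨x, hx⟩ ∈ LinearMap.range χ ↔
        (1 : B ⧸ K) ⊗ₜ[B] KaehlerDifferential.D A B x = (0 : (B ⧸ K) ⊗[B] Ω[B⁄A]) := by
  haveI := tower₁ (Λ := Λ) K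
  haveI := tower₁ (Λ := A) K
  haveI : IsScalarTower Λ B K.Cotangent := inferInstance
  haveI : IsScalarTower Λ A K.Cotangent := IsScalarTower.of_algebraMap_smul fun a z => by
    rw [← IsScalarTower.algebraMap_smul B (algebraMap Λ A a), ← IsScalarTower.algebraMap_apply,
      IsScalarTower.algebraMap_smul]
  let XB := Exal.Ext.infinitesimal K
  let XA := XB.restrictBase A
  obtain ⟨σ, hA⟩ := exists_section XA htriv
  have hB : IsSection (A := Λ) XB σ :=
    ⟨hA.proj, fun l => (hA.base l).trans (congrArg (algebraMap B XB.E) (IsScalarTower.algebraMap_apply Λ A B l).symm)⟩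
  have hphi : ∀ z, phi XA σ hA z = phi XB σ hB (gmap K z) :=
    kaehler_C_induction (by simp) (fun x y hx hy => by simp [map_add, hx, hy]) fun c a => by
      rw [gmap_tmul_D, phi_tmul_D, phi_tmul_D]
      congr 1
  have hχ' : ∀ z : EGA41.imperfection Λ A (B ⧸ K), χ z = phi XB σ hB (gmap K (z : (B ⧸ K) ⊗[A] Ω[A⁄Λ])) := fun z => (charHom_eq XA σ hA hχ z).trans (hphi z)
  have hU : ∀ z : EGA41.imperfection Λ A (B ⧸ K),
      KaehlerDifferential.mapBaseChange Λ B (B ⧸ K) (gmap K (z : (B ⧸ K) ⊗[A] Ω[A⁄Λ])) = 0 :=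
    fun z => (mapBaseChange_gmap K _).trans z.2
  refine ⟨fun z => ⟨fun h0 => phi_injOn K σ hB _ (hU z) ((hχ' z).symm.trans h0), fun h0 => by rw [hχ', h0, map_zero]⟩,
    fun x hx => ?_⟩
  have hpush : ∀ w : (B ⧸ K) ⊗[A] Ω[A⁄Λ], (KaehlerDifferential.map Λ A B B).baseChange (B ⧸ K) (gmap K w) = 0 :=
    kaehler_C_induction (by simp) (fun x y hx hy => by simp [map_add, hx, hy]) fun c a => by
      rw [gmap_tmul_D, LinearMap.baseChange_tmul, KaehlerDifferential.map_D, Algebra.algebraMap_self, RingHom.id_apply,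
        Derivation.map_algebraMap, TensorProduct.tmul_zero]
  have himg : (KaehlerDifferential.map Λ A B B).baseChange (B ⧸ K) ((1 : B ⧸ K) ⊗ₜ[B] KaehlerDifferential.D Λ B x) =
      (1 : B ⧸ K) ⊗ₜ[B] KaehlerDifferential.D A B x := by
    rw [LinearMap.baseChange_tmul, KaehlerDifferential.map_D, Algebra.algebraMap_self, RingHom.id_apply]
  constructor
  · rintro ⟨z, hz⟩
    rw [hχ', ← phi_tmul_mem K σ hB ⟨x, hx⟩] at hz
    have h1 : gmap K (z : (B ⧸ K) ⊗[A] Ω[A⁄Λ]) = (1 : B ⧸ K) ⊗ₜ[B] KaehlerDifferential.D Λ B x := by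
      refine sub_eq_zero.mp (phi_injOn K σ hB _ ?_ ?_)
      · rw [map_sub, hU, mapBaseChange_D K hx, sub_self]
      · rw [map_sub, hz, sub_self]
    rw [← himg, ← h1, hpush]
  · intro h0
    rw [← himg] at h0
    have hex := lTensor_exact (B ⧸ K) (KaehlerDifferential.exact_mapBaseChange_map Λ A B)
      (KaehlerDifferential.map_surjective Λ A B)
    obtain ⟨w, hw⟩ := (hex _).mp h0
    let z := TensorProduct.AlgebraTensorModule.cancelBaseChange A B (B ⧸ K) (B ⧸ K) Ω[A⁄Λ] w
    have hgz : gmap K z = (1 : B ⧸ K) ⊗ₜ[B] KaehlerDifferential.D Λ B x := by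
      show (KaehlerDifferential.mapBaseChange Λ A B).baseChange (B ⧸ K)
        ((TensorProduct.AlgebraTensorModule.cancelBaseChange A B (B ⧸ K) (B ⧸ K) Ω[A⁄Λ]).symm z) = _
      rw [LinearEquiv.symm_apply_apply]
      exact hw
    have hz : z ∈ EGA41.imperfection Λ A (B ⧸ K) := by
      show KaehlerDifferential.mapBaseChange Λ A (B ⧸ K) z = 0
      rw [← mapBaseChange_gmap, hgz, mapBaseChange_D K hx]
    exact ⟨⟨z, hz⟩, by rw [hχ', hgz, phi_tmul_mem K σ hB ⟨x, hx⟩]⟩

end Tower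

theorem gmap_injective_of_formallySmooth {Λ : Type u} {A B : Type v} [CommRing Λ] [CommRing A] [CommRing B]
    [Algebra Λ A] [Algebra Λ B] [Algebra A B] [IsScalarTower Λ A B] [Algebra.FormallySmooth A B] (K : Ideal B) :
    Function.Injective (gmap (Λ := Λ) (A := A) K) := by
  let m := KaehlerDifferential.mapBaseChange Λ A B
  let p := KaehlerDifferential.map Λ A B B
  have hinj : Function.Injective m := by
    refine (injective_iff_map_eq_zero m).mpr fun w hw => ?_
    obtain ⟨y, rfl⟩ := (Algebra.H1Cotangent.exact_δ_mapBaseChange Λ A B w).mp hw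
    rw [Subsingleton.elim y 0, map_zero]
  obtain ⟨s, hs⟩ := Module.projective_lifting_property p LinearMap.id (KaehlerDifferential.map_surjective Λ A B)
  let π : Ω[B⁄Λ] →ₗ[B] Ω[B⁄Λ] := LinearMap.id - s ∘ₗ p
  have hπ : ∀ ω, π ω ∈ LinearMap.range m := fun ω => by
    refine (KaehlerDifferential.exact_mapBaseChange_map Λ A B _).mp ?_
    show p (ω - s (p ω)) = 0
    rw [map_sub, show p (s (p ω)) = p ω from LinearMap.congr_fun hs (p ω), sub_self]
  let r : Ω[B⁄Λ] →ₗ[B] B ⊗[A] Ω[A⁄Λ] := (LinearEquiv.ofInjective m hinj).symm.toLinearMap ∘ₗ π.codRestrict _ hπ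
  have hr : r ∘ₗ m = LinearMap.id := LinearMap.ext fun w => by
    show (LinearEquiv.ofInjective m hinj).symm (π.codRestrict _ hπ (m w)) = w
    rw [LinearEquiv.symm_apply_eq]
    refine Subtype.ext ?_
    show m w - s (p (m w)) = m w
    rw [(KaehlerDifferential.exact_mapBaseChange_map Λ A B _).mpr ⟨w, rfl⟩, map_zero, sub_zero]
  have hbc : Function.Injective (m.baseChange (B ⧸ K)) := by
    refine Function.LeftInverse.injective (g := r.baseChange (B ⧸ K)) fun w => ?_
    rw [← LinearMap.comp_apply, ← LinearMap.baseChange_comp, hr, LinearMap.baseChange_id, LinearMap.id_apply]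
  exact hbc.comp (LinearEquiv.injective _)

end Groth.L06.CharHom
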