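import Groth.Agent.L13.CodimOneIso
import Mathlib.AlgebraicGeometry.Morphisms.ClosedImmersion
import Mathlib.AlgebraicGeometry.Morphisms.FiniteType
import Mathlib.RingTheory.Nilpotent.Lemmas

/-!
# Being a closed immersion can be tested after a bijective closed base change
-/

set_option autoImplicit false
set_option maxSynthPendingDepth 3
set_option linter.style.haveILetI false
set_option backward.isDefEq.respectTransparency.types false

universe u

open CategoryTheory CategoryTheory.Limits AlgebraicGeometry TensorProduct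

namespace Groth.L06.ClosedImmBij

theorem algebraMap_surjective_of_mod_nil {R A : Type u} [CommRing R] [CommRing A] [Algebra R A]
    [hft : Algebra.FiniteType R A] (I : Ideal R) (hI : I ≤ nilradical R)
    (h : ∀ a : A, ∃ r : R, a - algebraMap R A r ∈ I.map (algebraMap R A)) :
    Function.Surjective (algebraMap R A) := by
  classical
  obtain ⟨s, hs⟩ := hft.out
  choose r hr using h
  have hfin : ∀ a : A, ∃ T : Finset R, (T : Set R) ⊆ I ∧
      a - algebraMap R A (r a) ∈ (Ideal.span (T : Set R)).map (algebraMap R A) := fun a => by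
    obtain ⟨T', hT', ha⟩ := Submodule.mem_span_finite_of_mem_span (hr a)
    obtain ⟨T, hT, hTT'⟩ := Finset.subset_set_image_iff.mp hT'
    refine ⟨T, hT, ?_⟩
    rw [Ideal.map_span, ← Finset.coe_image, hTT']
    exact ha
  choose T hT hTr using hfin
  let J : Ideal R := Ideal.span ((s.biUnion T : Finset R) : Set R)
  have hJI : J ≤ I := Ideal.span_le.mpr fun x hx => by
    obtain ⟨a, -, hx⟩ := Finset.mem_biUnion.mp hx
    exact hT a hx
  obtain ⟨n, hn⟩ := Ideal.FG.isNilpotent_iff_le_nilradical (I := J)
    ⟨s.biUnion T, rfl⟩ |>.mpr (hJI.trans hI)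
  let q : A →ₐ[R] A ⧸ J.map (algebraMap R A) := Ideal.Quotient.mkₐ R _
  have hbot : ∀ a : A, q a ∈ (⊥ : Subalgebra R (A ⧸ J.map (algebraMap R A))) := fun a => by
    have hle : Algebra.adjoin R (s : Set A) ≤ (⊥ : Subalgebra R (A ⧸ J.map (algebraMap R A))).comap q :=
      Algebra.adjoin_le fun x hx => by
        refine Algebra.mem_bot.mpr ⟨r x, ?_⟩
        rw [← q.commutes]
        refine (Ideal.Quotient.eq.mpr ?_).symm
        refine Ideal.map_mono (Ideal.span_mono ?_) (hTr x)
        intro y hy
        exact Finset.mem_biUnion.mpr ⟨x, hx, hy⟩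
    exact hle (hs.symm ▸ Algebra.mem_top)
  let N : Submodule R A := LinearMap.range (Algebra.linearMap R A)
  have h1 : (⊤ : Submodule R A) ≤ N ⊔ J • ⊤ := fun a _ => by
    obtain ⟨c, hc⟩ := Algebra.mem_bot.mp (hbot a)
    rw [← q.commutes] at hc
    have h2 : a - algebraMap R A c ∈ J.map (algebraMap R A) := Ideal.Quotient.eq.mp hc.symm
    rw [← Submodule.restrictScalars_mem R, ← Ideal.smul_top_eq_map] at h2
    rw [← add_sub_cancel (algebraMap R A c) a]
    exact Submodule.add_mem_sup ⟨c, rfl⟩ h2
  have h2 : ∀ m : ℕ, (⊤ : Submodule R A) ≤ N ⊔ J ^ m • ⊤ := by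
    intro m
    induction m with
    | zero => rw [pow_zero, Submodule.one_smul]; exact le_sup_right
    | succ m ih =>
      refine ih.trans (sup_le le_sup_left ?_)
      refine (Submodule.smul_mono le_rfl h1).trans ?_
      rw [Submodule.smul_sup, ← Submodule.smul_assoc, pow_succ]
      exact sup_le (Submodule.smul_le_right.trans le_sup_left) le_sup_right
  intro a
  have h3 := h2 n (Submodule.mem_top : a ∈ (⊤ : Submodule R A))
  rw [hn] at h3
  simpa [N] using h3

theorem surjective_of_isClosedImmersion_baseChange {R A R' : CommRingCat.{u}} (φ : R ⟶ A)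
    (hφ : φ.hom.FiniteType) (ψ : R ⟶ R') (hψ : Function.Surjective ψ.hom)
    (hnil : RingHom.ker ψ.hom ≤ nilradical R)
    (h : IsClosedImmersion (pullback.snd (Spec.map φ) (Spec.map ψ))) :
    Function.Surjective φ.hom := by
  algebraize [φ.hom, ψ.hom]
  haveI : Algebra.FiniteType R A := hφ
  have h' : IsClosedImmersion (Spec.map (CommRingCat.ofHom
      (Algebra.TensorProduct.includeRight : (R' : Type u) →ₐ[R] A ⊗[R] R').toRingHom)) := by
    rw [AlgHom.toRingHom_eq_coe, ← pullbackSpecIso_inv_snd R A R']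
    haveI : IsClosedImmersion (pullback.snd (Spec.map (CommRingCat.ofHom (algebraMap R A)))
        (Spec.map (CommRingCat.ofHom (algebraMap R R')))) := h
    infer_instance
  have hsurj : Function.Surjective
      (Algebra.TensorProduct.includeRight : (R' : Type u) →ₐ[R] A ⊗[R] R') :=
    by
    have h1 := (isClosedImmersion_iff_isAffineHom.1 h').2 ⊤ (isAffineOpen_top _)
    intro c
    obtain ⟨b, hb⟩ := h1 ((Scheme.ΓSpecIso (CommRingCat.of (A ⊗[R] R'))).inv c)
    refine ⟨(Scheme.ΓSpecIso (CommRingCat.of R')).hom b, ?_⟩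
    have h2 := congrArg (fun k => k.hom b) (Scheme.ΓSpecIso_naturality (CommRingCat.ofHom
      (Algebra.TensorProduct.includeRight : (R' : Type u) →ₐ[R] A ⊗[R] R').toRingHom))
    refine Eq.trans h2.symm ?_
    show (Scheme.ΓSpecIso (CommRingCat.of (A ⊗[R] R'))).hom _ = c
    erw [hb]
    exact (Scheme.ΓSpecIso (CommRingCat.of (A ⊗[R] R'))).commRingCatIsoToRingEquiv.apply_symm_apply c
  refine algebraMap_surjective_of_mod_nil (RingHom.ker ψ.hom) hnil fun a => ?_
  obtain ⟨c, hc⟩ := hsurj (a ⊗ₜ[R] 1)
  obtain ⟨r, rfl⟩ := hψ c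
  refine ⟨r, ?_⟩
  let g₀ : (R' : Type u) →+* A ⧸ (RingHom.ker ψ.hom).map (algebraMap R A) :=
    ψ.hom.liftOfSurjective hψ ⟨(Ideal.Quotient.mk _).comp (algebraMap R A), fun x hx =>
      Ideal.Quotient.eq_zero_iff_mem.mpr (Ideal.mem_map_of_mem _ hx)⟩
  let g : (R' : Type u) →ₐ[R] A ⧸ (RingHom.ker ψ.hom).map (algebraMap R A) :=
    { g₀ with commutes' := fun x => RingHom.liftOfRightInverse_comp_apply _ _ _ _ x }
  let L : A ⊗[R] R' →ₐ[R] A ⧸ (RingHom.ker ψ.hom).map (algebraMap R A) :=
    Algebra.TensorProduct.lift (Ideal.Quotient.mkₐ R _) g fun x y => Commute.all _ _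
  have h1 := congrArg L hc
  rw [Algebra.TensorProduct.includeRight_apply, Algebra.TensorProduct.lift_tmul,
    Algebra.TensorProduct.lift_tmul, map_one, map_one, one_mul, mul_one,
    show ψ.hom r = algebraMap R R' r from rfl, AlgHom.commutes] at h1
  exact Ideal.Quotient.eq.mp h1.symm

theorem main {X S S' : Scheme.{u}} (f : X ⟶ S) (i : S' ⟶ S) [IsClosedImmersion i]
    (hi : Function.Bijective i) [LocallyOfFiniteType f] [QuasiCompact f]
    [IsClosedImmersion (pullback.snd f i)] : IsClosedImmersion f := by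
  haveI : Surjective i := ⟨hi.2⟩
  let a := pullback.fst f i
  haveI : IsClosedImmersion a := MorphismProperty.pullback_fst _ _ ‹_›
  haveI : Surjective a := MorphismProperty.pullback_fst _ _ ‹_›
  let e : ↑(pullback f i) ≃ₜ ↑X := a.isClosedEmbedding.toIsEmbedding.toHomeomorphOfSurjective a.surjective
  have hf : Topology.IsClosedEmbedding f := by
    have h : (f : X → S) = ((pullback.snd f i ≫ i : pullback f i ⟶ S) : ↑(pullback f i) → S) ∘ e.symm := by
      funext x
      rw [Function.comp_apply, ← pullback.condition, Scheme.Hom.comp_apply]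
      exact congrArg f (e.apply_symm_apply x).symm
    rw [h]
    exact (pullback.snd f i ≫ i).isClosedEmbedding.comp e.symm.isClosedEmbedding
  haveI : IsAffineHom f := isAffineHom_of_isInducing f hf.isInducing hf.isClosed_range
  refine isClosedImmersion_iff_isAffineHom.mpr ⟨inferInstance, fun V hV => ?_⟩
  have hU := hV.preimage f
  have hV' := hV.preimage i
  have hψ : Function.Surjective (i.app V).hom :=
    (isClosedImmersion_iff_isAffineHom.mp ‹IsClosedImmersion i›).2 V hV
  have sqi := Groth.Agent.L13.CodimOne.isPullback_fromSpec i hV hV'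
  haveI : Surjective (Spec.map (i.app V)) := MorphismProperty.of_isPullback sqi ‹Surjective i›
  have hnil : RingHom.ker (i.app V).hom ≤ nilradical Γ(S, V) := fun x hx => by
    rw [nilradical_eq_sInf, Submodule.mem_sInf]
    intro P hP
    obtain ⟨q, hq⟩ := (Spec.map (i.app V)).surjective ⟨P, hP⟩
    have hq' : P = q.asIdeal.comap (i.app V).hom := (congrArg PrimeSpectrum.asIdeal hq).symm
    rw [hq', Ideal.mem_comap, RingHom.mem_ker.mp hx]
    exact zero_mem _
  have hφ : (f.app V).hom.FiniteType := by
    rw [Scheme.Hom.app_eq_appLE]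
    exact HasRingHomProperty.appLE @LocallyOfFiniteType f ‹_› ⟨V, hV⟩ ⟨_, hU⟩ _
  refine surjective_of_isClosedImmersion_baseChange (f.app V) hφ (i.app V) hψ hnil ?_
  have sq1 := (IsPullback.of_hasPullback (Spec.map (f.app V)) (Spec.map (i.app V))).paste_horiz
    (Groth.Agent.L13.CodimOne.isPullback_fromSpec f hV hU)
  rw [← sqi.w] at sq1
  let t : pullback (Spec.map (f.app V)) (Spec.map (i.app V)) ⟶ pullback f i :=
    pullback.lift (pullback.fst _ _ ≫ hU.fromSpec) (pullback.snd _ _ ≫ hV'.fromSpec)
      (by rw [sq1.w, Category.assoc])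
  have sq2 : IsPullback t (pullback.snd (Spec.map (f.app V)) (Spec.map (i.app V)))
      (pullback.snd f i) hV'.fromSpec := by
    refine IsPullback.of_right ?_ (pullback.lift_snd _ _ _) (IsPullback.of_hasPullback f i)
    rw [pullback.lift_fst]
    exact sq1
  exact MorphismProperty.of_isPullback sq2 ‹IsClosedImmersion (pullback.snd f i)›

end Groth.L06.ClosedImmBij
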