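import Groth.Agent.L06.FormSmooth
import Groth.Prelude.Def_Found
import Mathlib.RingTheory.Kaehler.Basic
import Mathlib.RingTheory.Kaehler.TensorProduct
import Mathlib.Algebra.DualNumber
import Mathlib.Algebra.Field.ZMod
import Mathlib.LinearAlgebra.Dual.Lemmas
import Mathlib.RingTheory.RegularLocalRing.Polynomial
import Mathlib.RingTheory.AdjoinRoot
import Mathlib.FieldTheory.KummerPolynomial

/-! Adic formal smoothness over a field is geometric regularity (EGA 0_IV 22.5.8). -/

set_option autoImplicit false
set_option linter.style.haveILetI false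
universe u

namespace Groth.L06.FormSmooth

open IsLocalRing
open scoped TensorProduct

/-- the prime subfield is perfect -/
theorem perfectField_bot (k : Type u) [Field k] : PerfectField (⊥ : Subfield k) := by
  rcases CharP.exists' k with hz | ⟨p, hp, hpK⟩
  · infer_instance
  · haveI := hp
    haveI : Finite (⊥ : Subfield k) := by
      have h1 : (⊥ : Subfield k) ≤ (ZMod.castHom dvd_rfl k : ZMod p →+* k).fieldRange := bot_le
      exact Set.Finite.to_subtype ((Set.finite_range _).subset h1)
    infer_instance

theorem formallySmooth_bot_field (k L : Type u) [Field k] [Field L] [Algebra (⊥ : Subfield k) L] :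
    Algebra.FormallySmooth (⊥ : Subfield k) L :=
  haveI := perfectField_bot k
  Groth.L03.FieldFS.formallySmooth_of_perfectField _ L

theorem regular_of_adicSmooth_field {k A : Type u} [Field k] [CommRing A] [IsLocalRing A] [IsNoetherianRing A]
    [Algebra k A] (h : CAlgX.IsAdicFormallySmooth k A (maximalIdeal A)) : IsRegularLocalRing A := by
  haveI : IsScalarTower (⊥ : Subfield k) k A := inferInstance
  haveI := formallySmooth_bot_field k k
  haveI := formallySmooth_bot_field k (ResidueField A)
  exact regular_of_adicSmooth (k := (⊥ : Subfield k)) (comp_base (F := (⊥ : Subfield k)) _ h)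

theorem isGeometricallyRegular_of_adicSmooth {k A : Type u} [Field k] [CommRing A] [IsLocalRing A] [IsNoetherianRing A]
    [Algebra k A] (h : CAlgX.IsAdicFormallySmooth k A (maximalIdeal A)) : CAlg.IsGeometricallyRegular k A := by
  intro k' _ _ hk'
  haveI := hk'
  haveI : IsNoetherianRing (A ⊗[k] k') := IsNoetherianRing.of_finite A _
  haveI : IsNoetherianRing (k' ⊗[k] A) :=
    isNoetherianRing_of_ringEquiv (A ⊗[k] k') (Algebra.TensorProduct.comm k A k').toRingEquiv
  refine RegularRing.isRegularRing_of_maximal fun n _ => ?_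
  have hn : maximalIdeal A ≤ n.comap (Algebra.TensorProduct.includeRight (R := k) (A := k') (B := A)).toRingHom := by
    let c := (Algebra.TensorProduct.comm k A k').toRingEquiv
    haveI : (n.comap c.toRingHom).IsMaximal := Ideal.comap_isMaximal_of_surjective _ c.surjective
    haveI : Algebra.IsIntegral A (A ⊗[k] k') := Algebra.IsIntegral.of_finite _ _
    have h1 : ((n.comap c.toRingHom).comap (algebraMap A (A ⊗[k] k'))).IsMaximal :=
      Ideal.isMaximal_comap_of_isIntegral_of_isMaximal _
    rw [Ideal.comap_comap] at h1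
    rw [show (Algebra.TensorProduct.includeRight (R := k) (A := k') (B := A)).toRingHom =
      c.toRingHom.comp (algebraMap A (A ⊗[k] k')) from RingHom.ext fun x => rfl]
    exact (IsLocalRing.eq_maximalIdeal h1).ge
  exact regular_of_adicSmooth_field (baseChange_localization (k' := k') _ h n hn)

/-- an element outside the square of the maximal ideal is detected by a derivation (equal characteristic) -/
theorem exists_der_of_notMem_sq {S : Type u} [CommRing S] [IsLocalRing S] {k : Type u} [Field k] [Algebra k S]
    {G : S} (hG : G ∉ maximalIdeal S ^ 2) (hGm : G ∈ maximalIdeal S) :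
    ∃ δ : Derivation ℤ S (S ⧸ maximalIdeal S ^ 2),
      (∀ s, δ s ∈ (maximalIdeal S).map (Ideal.Quotient.mk (maximalIdeal S ^ 2))) ∧
      δ G = Ideal.Quotient.mk _ G ∧ δ G ≠ 0 := by
  haveI := formallySmooth_bot_field k (ResidueField S)
  obtain ⟨φ, hφ⟩ := exists_section (k := (⊥ : Subfield k)) (A := S) 1
  let M1 := (maximalIdeal S).map (Ideal.Quotient.mk (maximalIdeal S ^ 2))
  have hmem : ∀ s, Ideal.Quotient.mk _ s - φ (residue S s) ∈ M1 := fun s => mem_image φ.toRingHom hφ s
  have hM : ∀ u ∈ M1, ∀ v ∈ M1, u * v = 0 := fun u hu v hv => by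
    have := Ideal.mul_mem_mul hu hv
    rwa [← pow_two, ← Ideal.map_pow, Ideal.map_quotient_self, Ideal.mem_bot] at this
  let f : S →+ S ⧸ maximalIdeal S ^ 2 :=
    AddMonoidHom.mk' (fun s => Ideal.Quotient.mk _ s - φ (residue S s)) (fun a b => by simp only [map_add]; ring)
  refine ⟨Derivation.mk' f.toIntLinearMap fun a b => ?_, hmem, ?_⟩
  · show Ideal.Quotient.mk _ (a * b) - φ (residue S (a * b)) = a • f b + b • f a
    rw [Algebra.smul_def, Algebra.smul_def, map_mul, map_mul, map_mul]
    show _ = Ideal.Quotient.mk _ a * (Ideal.Quotient.mk _ b - φ (residue S b)) + Ideal.Quotient.mk _ b * (Ideal.Quotient.mk _ a - φ (residue S a))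
    linear_combination (-1 : S ⧸ maximalIdeal S ^ 2) * hM _ (hmem a) _ (hmem b)
  · have h0 : residue S G = 0 := (residue_eq_zero_iff G).mpr hGm
    have h1 : f G = Ideal.Quotient.mk _ G := by
      show Ideal.Quotient.mk _ G - φ (residue S G) = _
      rw [h0, map_zero, sub_zero]
    refine ⟨h1, ?_⟩
    show f G ≠ 0
    rw [h1, Ne, Ideal.Quotient.eq_zero_iff_mem]
    exact hG

theorem notMem_sq_of_regular_quotient {S : Type u} [CommRing S] [IsRegularLocalRing S] {F : S} (hF0 : F ≠ 0)
    (h : IsRegularLocalRing (S ⧸ Ideal.span {F})) : F ∉ maximalIdeal S ^ 2 := by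
  intro hF
  obtain ⟨d, hd⟩ := Groth.L01.exists_dim_eq_nat (R := S)
  obtain ⟨l₁, l₂, hlen, hgen, hI⟩ := Groth.L01.exists_lists_of_regular_quotient d S hd _ h
  have hsp : (maximalIdeal S).spanFinrank = d := by
    have := (isRegularLocalRing_iff S).mp ‹_›
    rw [hd] at this
    exact_mod_cast this
  have h1 : maximalIdeal S ≤ Ideal.ofList l₂ ⊔ maximalIdeal S ^ 2 := by
    conv_lhs => rw [← hgen, Ideal.ofList_append, ← hI, sup_comm]
    exact sup_le_sup_left ((Ideal.span_singleton_le_iff_mem _).mpr hF) _
  have h2 := Groth.L01.maximalIdeal_le_of_le_sup_sq h1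
  have h3 : maximalIdeal S = Ideal.ofList l₂ :=
    le_antisymm h2 (by rw [← hgen, Ideal.ofList_append]; exact le_sup_right)
  have h4 := Groth.L01.spanFinrank_ofList_le l₂
  rw [← h3, hsp] at h4
  rw [List.length_append] at hlen
  have h5 : l₁ = [] := List.length_eq_zero_iff.mp (by omega)
  rw [h5, Ideal.ofList_nil, Ideal.span_singleton_eq_bot] at hI
  exact hF0 hI

/-- the map on differentials at the closed point -/
noncomputable def diffMap (k A : Type u) [CommRing k] [CommRing A] [IsLocalRing A] [Algebra k A] :
    ResidueField A ⊗[k] Ω[k⁄ℤ] →ₗ[ResidueField A] ResidueField A ⊗[A] Ω[A⁄ℤ] :=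
  LinearMap.liftBaseChange (ResidueField A)
    (((TensorProduct.mk A (ResidueField A) (Ω[A⁄ℤ]) 1).restrictScalars k).comp (KaehlerDifferential.map ℤ ℤ k A))

theorem diffMap_tmul (k A : Type u) [CommRing k] [CommRing A] [IsLocalRing A] [Algebra k A] (c : ResidueField A) (a : k) :
    diffMap k A (c ⊗ₜ KaehlerDifferential.D ℤ k a) = c ⊗ₜ KaehlerDifferential.D ℤ A (algebraMap k A a) := by
  show LinearMap.liftBaseChange (ResidueField A) _ _ = _
  rw [LinearMap.liftBaseChange_tmul]
  show c • ((1 : ResidueField A) ⊗ₜ[A] KaehlerDifferential.map ℤ ℤ k A (KaehlerDifferential.D ℤ k a)) = _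
  rw [KaehlerDifferential.map_D, TensorProduct.smul_tmul', smul_eq_mul, mul_one]

theorem injective_diffMap_iff (k A : Type u) [CommRing k] [CommRing A] [IsLocalRing A] [Algebra k A] :
    Function.Injective ((KaehlerDifferential.mapBaseChange ℤ k A).lTensor (ResidueField A)) ↔
      Function.Injective (diffMap k A) := by
  let e := TensorProduct.AlgebraTensorModule.cancelBaseChange k A A (ResidueField A) (Ω[k⁄ℤ])
  have h : ∀ x, (KaehlerDifferential.mapBaseChange ℤ k A).lTensor (ResidueField A) x = diffMap k A (e x) := by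
    intro x
    induction x using TensorProduct.induction_on with
    | zero => simp
    | add a b ha hb => simp only [map_add, ha, hb]
    | tmul c y =>
      induction y using TensorProduct.induction_on with
      | zero => simp
      | add a b ha hb => simp only [TensorProduct.tmul_add, map_add, ha, hb]
      | tmul a w =>
        rw [LinearMap.lTensor_tmul, KaehlerDifferential.mapBaseChange_tmul,
          TensorProduct.AlgebraTensorModule.cancelBaseChange_tmul]
        show _ = LinearMap.liftBaseChange (ResidueField A) _ _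
        rw [LinearMap.liftBaseChange_tmul]
        show _ = (a • c) • ((1 : ResidueField A) ⊗ₜ[A] KaehlerDifferential.map ℤ ℤ k A w)
        rw [TensorProduct.smul_tmul', smul_eq_mul, mul_one, ← TensorProduct.smul_tmul]
  exact ⟨fun hi x y hxy => by
    have := hi (a₁ := e.symm x) (a₂ := e.symm y) (by rw [h, h, e.apply_symm_apply, e.apply_symm_apply, hxy])
    exact e.symm.injective this, fun hi x y hxy => e.injective (hi (by rw [← h, ← h, hxy]))⟩

end Groth.L06.FormSmooth
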