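import Groth.Agent.L06.FormSmoothAdic
import Groth.Agent.L06.FormSmoothField
import Groth.Agent.L06.SepKaehler
import Mathlib.RingTheory.Unramified.Basic
import Mathlib.RingTheory.Nakayama

/-! Uniqueness of coefficient fields. -/

set_option autoImplicit false
set_option maxSynthPendingDepth 3
set_option linter.style.haveILetI false
universe u

namespace Groth.L06.CoeffUnique

open IsLocalRing

theorem exists_der (K : Type u) [Field K] (h : ¬ Subsingleton (Ω[K⁄ℤ])) :
    ∃ δ : K →+ K, (∀ y z, δ (y * z) = y * δ z + z * δ y) ∧ δ 1 = 0 ∧ (∀ r : (⊥ : Subfield K), δ r = 0) ∧ ∃ x, δ x ≠ 0 := by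
  obtain ⟨w, hw⟩ : ∃ w : Ω[K⁄ℤ], w ≠ 0 := by
    by_contra hcon
    exact h ⟨fun a b => by rw [not_not.mp (not_exists.mp hcon a), not_not.mp (not_exists.mp hcon b)]⟩
  obtain ⟨φ, hφ⟩ : ∃ φ : Ω[K⁄ℤ] →ₗ[K] K, φ w ≠ 0 := by
    by_contra hcon
    exact hw ((Module.forall_dual_apply_eq_zero_iff K w).mp fun φ => not_not.mp (not_exists.mp hcon φ))
  let δ : Derivation ℤ K K := φ.compDer (KaehlerDifferential.D ℤ K)
  refine ⟨AddMonoidHom.mk' (fun x => δ x) fun a b => map_add δ a b, fun y z => ?_, δ.map_one_eq_zero,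
    fun r => Groth.L06.SepKaehler.der_bot_eq_zero δ r, ?_⟩
  · exact δ.leibniz y z
  · by_contra hcon
    refine hφ ?_
    have h1 : φ = 0 := Derivation.liftKaehlerDifferential_unique _ _ (Derivation.ext fun x => not_not.mp (not_exists.mp hcon x))
    rw [h1, LinearMap.zero_apply]

variable {C : Type u} [CommRing C] [IsLocalRing C] [IsNoetherianRing C] [IsAdicComplete (maximalIdeal C) C]

theorem eq_of_subsingleton (u v : ResidueField C →+* C) (h : ∀ x, residue C (v x) = residue C (u x))
    [Subsingleton (Ω[ResidueField C⁄ℤ])] : v = u := by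
  haveI : Algebra.FormallyUnramified ℤ (ResidueField C) := ⟨inferInstance⟩
  refine RingHom.ext fun x => sub_eq_zero.mp (IsHausdorff.haus (I := maximalIdeal C) inferInstance _ fun n => ?_)
  rw [SModEq.sub_mem, sub_zero, smul_eq_mul, Ideal.mul_top]
  refine Ideal.Quotient.eq.mp ?_
  let J := (maximalIdeal C).map (Ideal.Quotient.mk (maximalIdeal C ^ n))
  have hJ : IsNilpotent J := ⟨n, by
    show J ^ n = ⊥
    rw [← Ideal.map_pow, Ideal.map_quotient_self]⟩
  let g : (ResidueField C →+* C) → (ResidueField C →ₐ[ℤ] C ⧸ maximalIdeal C ^ n) :=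
    fun w => ((Ideal.Quotient.mk (maximalIdeal C ^ n)).comp w).toIntAlgHom
  have key := Algebra.FormallyUnramified.lift_unique (R := ℤ) J hJ (g v) (g u)
    (AlgHom.ext fun y => Ideal.Quotient.eq.mpr (by
      show Ideal.Quotient.mk _ (v y) - Ideal.Quotient.mk _ (u y) ∈ J
      rw [← map_sub]
      refine Ideal.mem_map_of_mem _ ?_
      rw [← residue_eq_zero_iff, map_sub, h, sub_self]))
  exact DFunLike.congr_fun key x

theorem subsingleton_of_unique (hm : maximalIdeal C ≠ ⊥) (u : ResidueField C →+* C) (hu : ∀ x, residue C (u x) = x)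
    (huniq : ∀ v : ResidueField C →+* C, (∀ x, residue C (v x) = x) → v = u) : Subsingleton (Ω[ResidueField C⁄ℤ]) := by
  by_contra hne
  obtain ⟨δ, hleib, hδ1, hδbot, x₀, hx₀⟩ := exists_der (ResidueField C) hne
  obtain ⟨a, ha, ha2⟩ : ∃ a ∈ maximalIdeal C, a ∉ maximalIdeal C ^ 2 := by
    by_contra hcon
    refine hm (Submodule.eq_bot_of_le_smul_of_le_jacobson_bot (maximalIdeal C) (maximalIdeal C) (IsNoetherian.noetherian _)
      (fun y hy => ?_) (IsLocalRing.maximalIdeal_le_jacobson _))
    rw [smul_eq_mul, ← pow_two]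
    exact by_contra fun hy2 => hcon ⟨y, hy, hy2⟩
  let M2 := maximalIdeal C ^ 2
  let q : C →+* C ⧸ M2 := Ideal.Quotient.mk M2
  have hq2 : ∀ y z : C, y ∈ maximalIdeal C → z ∈ maximalIdeal C → q (y * z) = 0 := fun y z hy hz =>
    Ideal.Quotient.eq_zero_iff_mem.mpr (by rw [show M2 = maximalIdeal C * maximalIdeal C from pow_two _]; exact Ideal.mul_mem_mul hy hz)
  let t : ResidueField C → C ⧸ M2 := fun x => q (u x + a * u (δ x))
  let v₁ : ResidueField C →+* C ⧸ M2 :=
    { toFun := t
      map_one' := by simp only [t, map_one, hδ1, map_zero, mul_zero, add_zero]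
      map_mul' := fun y z => by
        show q (u (y * z) + a * u (δ (y * z))) = q (u y + a * u (δ y)) * q (u z + a * u (δ z))
        rw [← map_mul q]
        refine Ideal.Quotient.eq.mpr ?_
        simp only [hleib, map_add, map_mul]
        rw [show u y * u z + a * (u y * u (δ z) + u z * u (δ y)) - (u y + a * u (δ y)) * (u z + a * u (δ z)) =
          (-(u (δ y) * u (δ z))) * (a * a) by ring]
        refine Ideal.mul_mem_left _ _ ?_
        rw [show M2 = maximalIdeal C * maximalIdeal C from pow_two _]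
        exact Ideal.mul_mem_mul ha ha
      map_zero' := by simp only [t, map_zero, mul_zero, add_zero]
      map_add' := fun y z => by simp only [t, map_add, mul_add, map_mul]; ring }
  let A := (⊥ : Subfield (ResidueField C))
  letI : Algebra A C := (u.comp A.subtype).toAlgebra
  haveI : Algebra.FormallySmooth A (ResidueField C) := Groth.L06.FormSmooth.formallySmooth_bot_field _ _
  have hB : EGA41.IsFormallySmoothAdic A ⊥ (ResidueField C) ⊥ := fun D _ _ J hJ _ w _ =>
    ⟨Algebra.FormallySmooth.lift J hJ w, Algebra.FormallySmooth.comp_lift J hJ w⟩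
  let c := (maximalIdeal C).map (Ideal.Quotient.mk M2)
  haveI : IsHausdorff c (C ⧸ M2) := ⟨fun y hy => by
    have h1 := SModEq.sub_mem.mp (hy 2)
    rw [sub_zero, smul_eq_mul, Ideal.mul_top, ← Ideal.map_pow, Ideal.map_quotient_self] at h1
    exact h1⟩
  let v1 : ResidueField C →ₐ[A] C ⧸ M2 := AlgHom.mk v₁ fun r => by
    show q (u (r : ResidueField C) + a * u (δ (r : ResidueField C))) = q (u r)
    rw [hδbot, map_zero, mul_zero, add_zero]
  obtain ⟨v, -, hv⟩ := Groth.L06.FormSmoothAdic.exists_lift_complete hB (C := C) (𝔠 := maximalIdeal C)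
    ⟨1, by rw [pow_one, Ideal.map_bot]; exact bot_le⟩ M2 ⟨1, by rw [pow_one]; exact Ideal.pow_le_self two_ne_zero⟩ v1
    ⟨1, by rw [pow_one, Ideal.map_bot]; exact bot_le⟩
  have hvu : ∀ x, Ideal.Quotient.mk M2 (v x) = q (u x + a * u (δ x)) := fun x => DFunLike.congr_fun hv x
  have h := huniq v.toRingHom fun x => by
    have h1 : v x - u x ∈ maximalIdeal C := by
      have h2 := Ideal.pow_le_self two_ne_zero (Ideal.Quotient.eq.mp (hvu x))
      have h3 := add_mem h2 (Ideal.mul_mem_right (u (δ x)) _ ha)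
      convert h3 using 1
      ring
    rw [← residue_eq_zero_iff, map_sub, hu, sub_eq_zero] at h1
    exact h1
  have h1 := hvu x₀
  rw [show v x₀ = u x₀ from RingHom.congr_fun h x₀, Ideal.Quotient.eq] at h1
  have hunit : IsUnit (u (δ x₀)) := (Ne.isUnit hx₀).map u
  refine ha2 ((Ideal.mul_unit_mem_iff_mem M2 hunit).mp ?_)
  rw [show a * u (δ x₀) = -(u x₀ - (u x₀ + a * u (δ x₀))) by ring]
  exact neg_mem h1

end Groth.L06.CoeffUnique
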