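import Groth.Agent.L17.ComplSquare
import Groth.Agent.L20.ClosedNhd.Basic
import Mathlib.AlgebraicGeometry.Morphisms.Proper
import Mathlib.AlgebraicGeometry.Noetherian
import Mathlib.RingTheory.Filtration

/-!
Completions along inverse image ideals: levelwise closed immersions and isomorphisms spread out to an open
neighbourhood of the support.
-/

set_option autoImplicit false
set_option linter.style.haveILetI false
set_option backward.isDefEq.respectTransparency false
universe u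

open CategoryTheory CategoryTheory.Limits AlgebraicGeometry TopologicalSpace

noncomputable section

namespace Groth.L06.ComplNear

theorem image_preimage_of_le {X : Scheme.{u}} {V G : X.Opens} (h : V ≤ G) : G.ι ''ᵁ (G.ι ⁻¹ᵁ V) = V := by
  rw [G.ι.image_preimage_eq_opensRange_inf, G.opensRange_ι, inf_eq_right.2 h]

/-- Properties local at the target restrict to smaller opens. -/
theorem restrict_of_le {X Y : Scheme.{u}} {P : MorphismProperty Scheme.{u}} [IsZariskiLocalAtTarget P] (f : X ⟶ Y)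
    {W V : Y.Opens} (hWV : W ≤ V) (hV : P (f ∣_ V)) : P (f ∣_ W) := by
  have := IsZariskiLocalAtTarget.restrict hV (V.ι ⁻¹ᵁ W)
  rwa [P.arrow_mk_iso_iff (morphismRestrictRestrict f V _), image_preimage_of_le hWV] at this

variable {X Y Z : Scheme.{u}} (f : X ⟶ Y) (𝓚 : Y.IdealSheafData) (hc : FSch.PowCompat f (𝓚.comap f) 𝓚)

theorem range_completionToX (n : ℕ) :
    Set.range (FSch.completionToX Y 𝓚 n) = (𝓚.support : Set Y) := by
  show Set.range (𝓚 ^ (n + 1)).subschemeι = _
  rw [Scheme.IdealSheafData.range_subschemeι, Scheme.IdealSheafData.support_pow_succ]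

/-- A property stable under base change passes from a neighbourhood of the support to all levels. -/
theorem level_of_restrict (P : MorphismProperty Scheme.{u}) [P.IsStableUnderBaseChange] (W : Y.Opens)
    (hW : (𝓚.support : Set Y) ⊆ W) (hP : P (f ∣_ W)) (n : ℕ) :
    P ((FSch.completionMap f (𝓚.comap f) 𝓚 hc : FSch.Hom _ _).app n) := by
  have hr : Set.range (FSch.completionToX Y 𝓚 n) ⊆ Set.range W.ι := by
    rw [range_completionToX, Scheme.Opens.range_ι]
    exact hW
  let j := IsOpenImmersion.lift W.ι _ hr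
  have hj : j ≫ W.ι = FSch.completionToX Y 𝓚 n := IsOpenImmersion.lift_fac _ _ _
  have H := (Groth.L17.ComplSquare.isPullback_level f 𝓚 hc n).flip
  have R := isPullback_morphismRestrict f W
  obtain ⟨k, hk1, hk2⟩ : ∃ k, k ≫ (f ∣_ W) =
      (FSch.completionMap f (𝓚.comap f) 𝓚 hc : FSch.Hom _ _).app n ≫ j ∧
      k ≫ (f ⁻¹ᵁ W).ι = FSch.completionToX X (𝓚.comap f) n :=
    have hw : ((FSch.completionMap f (𝓚.comap f) 𝓚 hc : FSch.Hom _ _).app n ≫ j) ≫ W.ι =
        FSch.completionToX X (𝓚.comap f) n ≫ f := by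
      rw [Category.assoc, hj]; exact H.w
    ⟨R.lift _ _ hw, R.lift_fst _ _ hw, R.lift_snd _ _ hw⟩
  rw [← hj, ← hk2] at H
  exact MorphismProperty.of_isPullback (IsPullback.of_bot H hk1.symm R).flip hP

/-- If the completion at level zero is a closed immersion, so is the morphism near every point of the support. -/
theorem exists_closed_nhd [IsProper f]
    (h0 : IsClosedImmersion ((FSch.completionMap f (𝓚.comap f) 𝓚 hc : FSch.Hom _ _).app 0))
    (y : Y) (hy : y ∈ 𝓚.support) : ∃ V : Y.Opens, y ∈ V ∧ IsClosedImmersion (f ∣_ V) := by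
  haveI := h0
  let ι := FSch.completionToX Y 𝓚 0
  haveI : IsClosedImmersion ι := inferInstanceAs (IsClosedImmersion (𝓚 ^ (0 + 1)).subschemeι)
  have hfib : IsEmpty ↥(ι.fiber y) ∨ IsIso (ι.fiberToSpecResidueField y) :=
    ((Groth.L20.ClosedNhd.exists_closed_nhd_iff ι y).1 ⟨⊤, trivial, inferInstance⟩).1
  obtain ⟨j, hj⟩ : ∃ j : Spec (Y.residueField y) ⟶ (FSch.completionAlong Y 𝓚).X 0,
      j ≫ ι = Y.fromSpecResidueField y := by
    rcases hfib with hem | hiso
    · obtain ⟨t, ht⟩ : y ∈ Set.range ι := by rw [range_completionToX]; exact hy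
      have : t ∈ Set.range (ι.fiberι y) := by rw [Scheme.Hom.range_fiberι]; exact ht
      exact (hem.false this.choose).elim
    · haveI := hiso
      refine ⟨inv (ι.fiberToSpecResidueField y) ≫ ι.fiberι y, ?_⟩
      rw [Category.assoc, IsIso.inv_comp_eq]
      exact pullback.condition
  have H := Groth.L17.ComplSquare.isPullback_level f 𝓚 hc 0
  have P := IsPullback.of_hasPullback f (Y.fromSpecResidueField y)
  obtain ⟨k, hk1, hk2⟩ : ∃ k, k ≫ FSch.completionToX X (𝓚.comap f) 0 = pullback.fst f (Y.fromSpecResidueField y) ∧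
      k ≫ (FSch.completionMap f (𝓚.comap f) 𝓚 hc : FSch.Hom _ _).app 0 =
        pullback.snd f (Y.fromSpecResidueField y) ≫ j :=
    have hw : pullback.fst f (Y.fromSpecResidueField y) ≫ f =
        (pullback.snd f (Y.fromSpecResidueField y) ≫ j) ≫ ι := by
      rw [Category.assoc, hj]; exact pullback.condition
    ⟨H.lift _ _ hw, H.lift_fst _ _ hw, H.lift_snd _ _ hw⟩
  have P' : IsPullback (k ≫ FSch.completionToX X (𝓚.comap f) 0) (pullback.snd f (Y.fromSpecResidueField y)) f
      (j ≫ ι) := by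
    rw [hk1, hj]; exact P
  haveI : IsClosedImmersion (f.fiberToSpecResidueField y) :=
    MorphismProperty.of_isPullback (P := @IsClosedImmersion) (IsPullback.of_right P' hk2 H) h0
  refine (Groth.L20.ClosedNhd.exists_closed_nhd_iff f y).2 ⟨?_, ⊤, trivial, inferInstance⟩
  refine or_iff_not_imp_left.2 fun hne => ?_
  rw [not_isEmpty_iff] at hne
  haveI : Subsingleton ↥(Spec (Y.residueField y)) := inferInstanceAs (Subsingleton (PrimeSpectrum (Y.residueField y)))
  haveI : Surjective (f.fiberToSpecResidueField y) := ⟨fun z => ⟨hne.some, Subsingleton.elim _ _⟩⟩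
  haveI : IsReduced (Spec (Y.residueField y)) := inferInstance
  exact isIso_of_isClosedImmersion_of_surjective _

/-- If all levels of the completion are isomorphisms, so is the morphism near every point of the support. -/
theorem exists_iso_nhd [IsProper f] [IsLocallyNoetherian Y]
    (hn : ∀ n : ℕ, IsIso ((FSch.completionMap f (𝓚.comap f) 𝓚 hc : FSch.Hom _ _).app n))
    (y : Y) (hy : y ∈ 𝓚.support) : ∃ V : Y.Opens, y ∈ V ∧ IsIso (f ∣_ V) := by
  classical
  haveI := hn
  obtain ⟨V, hyV, hV⟩ := exists_closed_nhd f 𝓚 hc inferInstance y hy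
  obtain ⟨W, hW, hyW, hWV⟩ := exists_isAffineOpen_mem_and_subset (x := y) (U := V) hyV
  haveI : IsNoetherianRing Γ(Y, W) := IsLocallyNoetherian.component_noetherian ⟨W, hW⟩
  let K : Ideal Γ(Y, W) := f.ker.ideal ⟨W, hW⟩
  let I : Ideal Γ(Y, W) := 𝓚.ideal ⟨W, hW⟩
  have hker : ∀ n : ℕ, f.ker ≤ 𝓚 ^ (n + 1) := fun n => by
    have e : (inv ((FSch.completionMap f (𝓚.comap f) 𝓚 hc : FSch.Hom _ _).app n) ≫
        FSch.completionToX X (𝓚.comap f) n) ≫ f = FSch.completionToX Y 𝓚 n := by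
      rw [Category.assoc, ← Groth.L17.ComplSquare.app_toX f 𝓚 (𝓚.comap f) hc n, IsIso.inv_hom_id_assoc]
    have h1 := Scheme.Hom.le_ker_comp (inv ((FSch.completionMap f (𝓚.comap f) 𝓚 hc : FSch.Hom _ _).app n) ≫
        FSch.completionToX X (𝓚.comap f) n) f
    rw [e] at h1
    exact h1.trans (Scheme.IdealSheafData.ker_subschemeι (𝓚 ^ (n + 1))).le
  have hKI : ∀ k ∈ K, ∃ r ∈ I, r * k = k := fun k hk => by
    have hmem : k ∈ (⨅ i : ℕ, I ^ i • ⊤ : Submodule Γ(Y, W) Γ(Y, W)) := by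
      rw [Submodule.mem_iInf]
      intro i
      rcases i with _ | i
      · simp
      · have h1 := hker i ⟨W, hW⟩ hk
        rw [Scheme.IdealSheafData.ideal_pow, Pi.pow_apply] at h1
        simpa using h1
    obtain ⟨r, hr⟩ := (I.mem_iInf_smul_pow_eq_bot_iff k).1 hmem
    exact ⟨r, r.2, hr⟩
  choose r hrI hr using hKI
  obtain ⟨S, hS⟩ := IsNoetherian.noetherian K
  let s : Γ(Y, W) := ∏ k ∈ S.attach, (1 - r k.1 (hS ▸ Submodule.subset_span k.2))
  have hsK : ∀ k ∈ K, s * k = 0 := by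
    intro k hk
    rw [← hS] at hk
    induction hk using Submodule.span_induction with
    | mem g hg =>
      obtain ⟨c, hc'⟩ : (1 - r g (hS ▸ Submodule.subset_span hg)) ∣ s :=
        Finset.dvd_prod_of_mem (fun k : {k // k ∈ S} => 1 - r k.1 (hS ▸ Submodule.subset_span k.2))
          (S.mem_attach ⟨g, hg⟩)
      rw [hc', mul_right_comm, sub_mul, one_mul, hr, sub_self, zero_mul]
    | zero => exact mul_zero s
    | add g g' _ _ h h' => rw [mul_add, h, h', add_zero]
    | smul c g _ h => rw [smul_eq_mul, mul_left_comm, h, mul_zero]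
  have hzero := (Scheme.IdealSheafData.mem_support_iff_of_mem (U := ⟨W, hW⟩) hyW).1 hy
  rw [Scheme.mem_zeroLocus_iff] at hzero
  let D := Y.basicOpen s
  have hyD : y ∈ D := by
    rw [Scheme.mem_basicOpen _ _ _ hyW, map_prod]
    refine prod_mem (S := IsUnit.submonoid _) fun k _ => ?_
    show IsUnit ((Y.presheaf.germ W y hyW) (1 - _))
    rw [map_sub, map_one]
    refine (IsLocalRing.isUnit_or_isUnit_one_sub_self _).resolve_left fun hu => ?_
    exact hzero _ (hrI k.1 (hS ▸ Submodule.subset_span k.2)) ((Scheme.mem_basicOpen _ _ _ hyW).2 hu)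
  refine ⟨D, hyD, ?_⟩
  have hDV : D ≤ V := (Y.basicOpen_le s).trans hWV
  haveI : IsClosedImmersion (f ∣_ D) :=
    restrict_of_le (P := @IsClosedImmersion) f hDV hV
  haveI : IsAffine D.toScheme := hW.basicOpen s
  have hD0 : f.ker.ideal (Y.affineBasicOpen (U := ⟨W, hW⟩) s) = ⊥ := by
    rw [← f.ker.map_ideal_basicOpen ⟨W, hW⟩ s, Ideal.map_eq_bot_iff_le_ker]
    intro k hk
    haveI := hW.isLocalization_basicOpen s
    show algebraMap Γ(Y, W) Γ(Y, D) k = 0
    exact (IsLocalization.map_eq_zero_iff (Submonoid.powers s) _ _).2 ⟨⟨s, 1, pow_one s⟩, hsK k hk⟩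
  have hinj : Function.Injective (f.app D) := by
    refine (RingHom.injective_iff_ker_eq_bot _).2 ?_
    exact (Scheme.Hom.ker_apply f (Y.affineBasicOpen (U := ⟨W, hW⟩) s)).symm.trans hD0
  refine IsClosedImmersion.isIso_iff_ker_eq_bot.2 (Scheme.IdealSheafData.ext_of_isAffine ?_)
  rw [Scheme.Hom.ker_apply, Scheme.IdealSheafData.ideal_bot, Pi.bot_apply, ← RingHom.injective_iff_ker_eq_bot,
    morphismRestrict_app, CommRingCat.hom_comp, RingHom.coe_comp]
  refine ((ConcreteCategory.bijective_of_isIso (X.presheaf.map _)).1).comp ?_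
  show Function.Injective (f.app (D.ι ''ᵁ ⊤))
  rw [D.ι_image_top]
  exact hinj

/-- Gluing along the support, and shrinking to the base. -/
theorem exists_base_open (P : MorphismProperty Scheme.{u}) [IsZariskiLocalAtTarget P] (h : Y ⟶ Z) [IsProper h]
    (S : Set Z) (key : ∀ y : Y, h y ∈ S → ∃ V : Y.Opens, y ∈ V ∧ P (f ∣_ V)) :
    ∃ U : Z.Opens, S ⊆ U ∧ P (f ∣_ h ⁻¹ᵁ U) := by
  choose V hyV hV using key
  let G : Y.Opens := ⨆ (y : Y) (e : h y ∈ S), V y e
  have hle : ∀ p : {y : Y // h y ∈ S}, V p.1 p.2 ≤ G := fun p =>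
    le_iSup_of_le p.1 (le_iSup (fun e => V p.1 e) p.2)
  have hG : P (f ∣_ G) := by
    refine IsZariskiLocalAtTarget.of_iSup_eq_top (P := P)
      (fun p : {y : Y // h y ∈ S} => G.ι ⁻¹ᵁ V p.1 p.2) (top_unique fun q _ => ?_) fun p => ?_
    · obtain ⟨y, hy⟩ := Opens.mem_iSup.1 q.2
      obtain ⟨e, he⟩ := Opens.mem_iSup.1 hy
      exact Opens.mem_iSup.2 ⟨⟨y, e⟩, he⟩
    · refine (P.arrow_mk_iso_iff (morphismRestrictRestrict f G _)).2 ?_
      rw [image_preimage_of_le (hle p)]
      exact hV p.1 p.2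
  let U : Z.Opens := ⟨(h '' (G : Set Y)ᶜ)ᶜ, (h.isClosedMap _ G.2.isClosed_compl).isOpen_compl⟩
  refine ⟨U, ?_, ?_⟩
  · rintro z hz ⟨y, hy, rfl⟩
    exact hy (Opens.mem_iSup.2 ⟨y, Opens.mem_iSup.2 ⟨hz, hyV y hz⟩⟩)
  · exact restrict_of_le (P := P) f
      (fun y hy => by_contra fun hn => hy ⟨y, hn, rfl⟩) hG

theorem mem_support_comap (h : Y ⟶ Z) (𝓙 : Z.IdealSheafData) (y : Y) :
    y ∈ (𝓙.comap h).support ↔ h y ∈ 𝓙.support := by
  rw [Scheme.IdealSheafData.support_comap]
  rfl

theorem closedImmersion_iff [IsLocallyNoetherian Z] (g : X ⟶ Z) (h : Y ⟶ Z) [IsProper g] [IsProper h]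
    (w : f ≫ h = g) (𝓙 : Z.IdealSheafData) (hc : FSch.PowCompat f (𝓙.comap g) (𝓙.comap h)) :
    (∀ n : ℕ, IsClosedImmersion
        ((FSch.completionMap f (𝓙.comap g) (𝓙.comap h) hc : FSch.Hom _ _).app n)) ↔
      ∃ U : Z.Opens, (𝓙.support : Set Z) ⊆ U ∧ IsClosedImmersion (f ∣_ h ⁻¹ᵁ U) := by
  subst w
  haveI : IsProper f := IsProper.of_comp f h
  revert hc
  rw [Scheme.IdealSheafData.comap_comp]
  intro hc
  constructor
  · intro hn
    exact exists_base_open f @IsClosedImmersion h _ fun y hy =>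
      exists_closed_nhd f _ hc (hn 0) y ((mem_support_comap h 𝓙 y).2 hy)
  · rintro ⟨U, hU, hP⟩ n
    exact level_of_restrict f _ hc @IsClosedImmersion (h ⁻¹ᵁ U)
      (fun y hy => hU ((mem_support_comap h 𝓙 y).1 hy)) hP n

theorem iso_iff [IsLocallyNoetherian Z] (g : X ⟶ Z) (h : Y ⟶ Z) [IsProper g] [IsProper h]
    (w : f ≫ h = g) (𝓙 : Z.IdealSheafData) (hc : FSch.PowCompat f (𝓙.comap g) (𝓙.comap h)) :
    (∀ n : ℕ, IsIso ((FSch.completionMap f (𝓙.comap g) (𝓙.comap h) hc : FSch.Hom _ _).app n)) ↔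
      ∃ U : Z.Opens, (𝓙.support : Set Z) ⊆ U ∧ IsIso (f ∣_ h ⁻¹ᵁ U) := by
  subst w
  haveI : IsProper f := IsProper.of_comp f h
  haveI : IsLocallyNoetherian Y := LocallyOfFiniteType.isLocallyNoetherian h
  revert hc
  rw [Scheme.IdealSheafData.comap_comp]
  intro hc
  constructor
  · intro hn
    exact exists_base_open f (MorphismProperty.isomorphisms Scheme) h _ fun y hy =>
      exists_iso_nhd f _ hc hn y ((mem_support_comap h 𝓙 y).2 hy)
  · rintro ⟨U, hU, hP⟩ n
    exact level_of_restrict f _ hc (MorphismProperty.isomorphisms Scheme) (h ⁻¹ᵁ U)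
      (fun y hy => hU ((mem_support_comap h 𝓙 y).1 hy)) hP n

end Groth.L06.ComplNear
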