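import Groth.Agent.L06.LimitPreservingCond
import Groth.Agent.L06.RelFPModules
import Groth.Agent.L19.LimMod.FlatExact
import Mathlib.AlgebraicGeometry.Sites.Fpqc
import Mathlib.RingTheory.Flat.Basic

/-!
# Fpqc descent of the conditions "zero", "epimorphism", "monomorphism" and "isomorphism"
-/

set_option autoImplicit false
set_option maxSynthPendingDepth 3
set_option linter.style.haveILetI false
set_option backward.isDefEq.respectTransparency.types false
set_option backward.isDefEq.respectTransparency false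

universe u v

open CategoryTheory CategoryTheory.Limits AlgebraicGeometry Opposite TopologicalSpace TensorProduct

noncomputable section

namespace Groth.L06.CondSheaf

open Groth.L06.LimitPreservingCond (ModProp Stable of_factor zeros)

/-- A flat base change kills a module only if no prime of the target lies over its support. -/
theorem eq_zero_of_tensor {A : Type u} [CommRing A] {N : Type u} [AddCommGroup N] [Module A N] (n : N)
    (h : ∀ P : Ideal A, P.IsMaximal → ∃ (B : Type u) (_ : CommRing B) (_ : Algebra A B) (_ : Module.Flat A B)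
      (q : Ideal B), q.IsPrime ∧ q.comap (algebraMap A B) = P ∧ (1 : B) ⊗ₜ[A] n = 0) : n = 0 := by
  let φ : A →ₗ[A] N := LinearMap.toSpanSingleton A N n
  have hI : LinearMap.ker φ = ⊤ := by
    by_contra hne
    obtain ⟨P, hP, hle⟩ := Ideal.exists_le_maximal _ hne
    obtain ⟨B, _, _, _, q, hq, hqP, h0⟩ := h P hP
    let φ' : A ⧸ LinearMap.ker φ →ₗ[A] N := (LinearMap.ker φ).liftQ φ le_rfl
    have hinj : Function.Injective (φ'.lTensor B) := Module.Flat.lTensor_preserves_injective_linearMap φ'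
      (LinearMap.ker_eq_bot.1 (Submodule.ker_liftQ_eq_bot' _ φ rfl))
    have h1 : (1 : B) ⊗ₜ[A] (Submodule.Quotient.mk 1 : A ⧸ LinearMap.ker φ) = 0 := hinj (by
      rw [map_zero, LinearMap.lTensor_tmul]
      show (1 : B) ⊗ₜ φ 1 = 0
      rw [show φ 1 = n from one_smul A n, h0])
    let ψ : A ⧸ LinearMap.ker φ →ₗ[A] B ⧸ q :=
      (LinearMap.ker φ).liftQ (Algebra.linearMap A (B ⧸ q)) fun a ha => LinearMap.mem_ker.2
        (Ideal.Quotient.eq_zero_iff_mem.2 (show algebraMap A B a ∈ q from by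
          rw [← Ideal.mem_comap, hqP]; exact hle ha))
    have h2 := congrArg (TensorProduct.lift ((Algebra.lsmul A A (B ⧸ q)).toLinearMap.comp
      (Ideal.Quotient.mkₐ A q).toLinearMap |>.compl₂ ψ)) h1
    simp [ψ] at h2
    change Ideal.Quotient.mk q (algebraMap A B 1) = 0 at h2
    rw [map_one] at h2
    exact hq.ne_top ((Ideal.eq_top_iff_one q).2 (Ideal.Quotient.eq_zero_iff_mem.1 h2))
  have : (1 : A) ∈ LinearMap.ker φ := hI ▸ Submodule.mem_top
  simpa [φ] using this

variable {X S : Scheme.{u}}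

/-- A jointly surjective family of flat morphisms detects the zero modules. -/
theorem isZero_of_pullback {W : Scheme.{u}} {ι : Type v} {Z : ι → Scheme.{u}} (p : ∀ i, Z i ⟶ W)
    [∀ i, Flat (p i)] (hs : ∀ x : W, ∃ i, x ∈ Set.range (p i)) (M : W.Modules) [Coh.IsQCoh M]
    (h : ∀ i, IsZero ((Scheme.Modules.pullback (p i)).obj M)) : IsZero M := by
  rw [IsZero.iff_id_eq_zero]
  refine Groth.L16.AffineBC.hom_ext_affine _ _ fun U hU m => ?_
  show m = (0 : M ⟶ M).app U m
  rw [show m = 0 from ?_, map_zero]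
  refine eq_zero_of_tensor (A := Γ(W, U)) m fun P hP => ?_
  let Q : PrimeSpectrum Γ(W, U) := ⟨P, hP.isPrime⟩
  obtain ⟨i, z, hz⟩ := hs (hU.fromSpec Q)
  have hzU : z ∈ p i ⁻¹ᵁ U := by
    show p i z ∈ (U : Set W)
    rw [hz, ← hU.range_fromSpec]
    exact Set.mem_range_self Q
  obtain ⟨_, ⟨V, hV, rfl⟩, hzV, hVU⟩ :=
    (Z i).isBasis_affineOpens.exists_subset_of_mem_open hzU (p i ⁻¹ᵁ U).2
  letI := ((p i).appLE U V hVU).hom.toAlgebra
  have hflat : Module.Flat Γ(W, U) Γ(Z i, V) :=
    RingHom.flat_algebraMap_iff.1 ((p i).flat_appLE hU hV hVU)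
  refine ⟨Γ(Z i, V), inferInstance, inferInstance, hflat, (hV.primeIdealOf ⟨z, hzV⟩).asIdeal,
    (hV.primeIdealOf ⟨z, hzV⟩).isPrime, ?_, ?_⟩
  · have h1 : hU.fromSpec (Spec.map ((p i).appLE U V hVU) (hV.primeIdealOf ⟨z, hzV⟩)) = hU.fromSpec Q := by
      rw [← Scheme.Hom.comp_apply, hU.SpecMap_appLE_fromSpec _ hV, Scheme.Hom.comp_apply,
        hV.fromSpec_primeIdealOf, hz]
    exact congrArg PrimeSpectrum.asIdeal (hU.fromSpec.isOpenEmbedding.injective h1)
  · obtain ⟨e⟩ := Groth.L06.RelFPModules.sections_pullback (p i) M hV hU hVU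
    apply e.injective
    rw [map_zero]
    exact congr(($((IsZero.iff_id_eq_zero _).1 (h i))).app V (e ((1 : Γ(Z i, V)) ⊗ₜ m)))

theorem mono_of_pullback {W : Scheme.{u}} {ι : Type v} {Z : ι → Scheme.{u}} (p : ∀ i, Z i ⟶ W)
    [∀ i, Flat (p i)] (hs : ∀ x : W, ∃ i, x ∈ Set.range (p i)) {A B : W.Modules} [Coh.IsQCoh A] [Coh.IsQCoh B]
    (v : A ⟶ B) (h : ∀ i, Mono ((Scheme.Modules.pullback (p i)).map v)) : Mono v := by
  haveI : Coh.IsQCoh (kernel v) := Groth.L29.DC.isQCoh_kernel' v inferInstance inferInstance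
  exact Preadditive.mono_of_isZero_kernel _
    (isZero_of_pullback p hs _ fun i => (Groth.L19.LimMod.mono_map_iff (p i) v).1 (h i))

theorem epi_of_pullback {W : Scheme.{u}} {ι : Type v} {Z : ι → Scheme.{u}} (p : ∀ i, Z i ⟶ W)
    [∀ i, Flat (p i)] (hs : ∀ x : W, ∃ i, x ∈ Set.range (p i)) {A B : W.Modules} [Coh.IsQCoh A] [Coh.IsQCoh B]
    (v : A ⟶ B) (h : ∀ i, Epi ((Scheme.Modules.pullback (p i)).map v)) : Epi v := by
  haveI : Coh.IsQCoh (cokernel v) := Groth.L29.DC.isQCoh_cokernel' v inferInstance inferInstance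
  exact Preadditive.epi_of_isZero_cokernel _
    (isZero_of_pullback p hs _ fun i => (Groth.L19.LimMod.epi_map_iff (p i) v).1 (h i))

theorem eq_zero_of_pullback {W : Scheme.{u}} {ι : Type v} {Z : ι → Scheme.{u}} (p : ∀ i, Z i ⟶ W)
    [∀ i, Flat (p i)] (hs : ∀ x : W, ∃ i, x ∈ Set.range (p i)) {A B : W.Modules} [Coh.IsQCoh A] [Coh.IsQCoh B]
    (v : A ⟶ B) (h : ∀ i, (Scheme.Modules.pullback (p i)).map v = 0) : v = 0 := by
  haveI : Coh.IsQCoh (cokernel v) := Groth.L29.DC.isQCoh_cokernel' v inferInstance inferInstance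
  have hm : Mono (cokernel.π v) := mono_of_pullback p hs _ fun i => by
    haveI := Groth.L19.LimMod.preservesColimits_pullback (p i)
    haveI := Groth.L19.LimMod.additive_pullback (p i)
    haveI : IsIso ((Scheme.Modules.pullback (p i)).map (cokernel.π v)) :=
      CokernelCofork.IsColimit.isIso_π _
        (CokernelCofork.mapIsColimit (CokernelCofork.ofπ _ (cokernel.condition v)) (cokernelIsCokernel v)
          (Scheme.Modules.pullback (p i))) (h i)
    infer_instance
  rw [← cancel_mono (cokernel.π v), cokernel.condition, zero_comp]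

/-- The property descends along jointly surjective families of flat morphisms. -/
def Reflects (Φ : ModProp.{u}) : Prop :=
  ∀ {W : Scheme.{u}} {ι : Type (u + 1)} {Z : ι → Scheme.{u}} (p : ∀ i, Z i ⟶ W) [∀ i, Flat (p i)]
    (_ : ∀ x : W, ∃ i, x ∈ Set.range (p i)) {A B : W.Modules} [Coh.IsQCoh A] [Coh.IsQCoh B] (v : A ⟶ B),
    (∀ i, Φ (Z i) ((Scheme.Modules.pullback (p i)).map v)) → Φ W v

theorem reflects_zeros : Reflects zeros.{u} := by
  intro W ι Z p _ hs A B _ _ v h
  exact eq_zero_of_pullback p hs v h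

theorem reflects_epis : Reflects (fun Z : Scheme.{u} => MorphismProperty.epimorphisms Z.Modules) :=
  by intro W ι Z p _ hs A B _ _ v h; exact epi_of_pullback p hs v h

theorem reflects_isos : Reflects (fun Z : Scheme.{u} => MorphismProperty.isomorphisms Z.Modules) :=
  by
    intro W ι Z p _ hs A B _ _ v h
    have h' : ∀ i, IsIso ((Scheme.Modules.pullback (p i)).map v) := h
    haveI := mono_of_pullback p hs v fun i => by haveI := h' i; infer_instance
    haveI := epi_of_pullback p hs v fun i => by haveI := h' i; infer_instance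
    exact isIso_of_mono_of_epi v

/-- The sheaf condition for a stable condition on schemes over `S`. -/
theorem isSheaf_genPSp (K : Precoverage Scheme.{u}) (P : Over S → Prop)
    (hP : ∀ ⦃T T₀ : Over S⦄ (_ : T ⟶ T₀), P T₀ → P T)
    (hK : ∀ {Y : Scheme.{u}} (R : Presieve Y), R ∈ K Y → ∀ {Y' : Scheme.{u}} (g : Y' ⟶ Y) (h : Y' ⟶ S),
      (∀ (Z : Scheme.{u}) (k : Z ⟶ Y'), (Sieve.generate R).pullback g k → P (Over.mk (k ≫ h))) → P (Over.mk h)) :
    Presheaf.IsSheaf (QuotSh.J K S) (FlatFun.genPSp S P) := by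
  have key : ∀ {Y : Scheme.{u}} (V : Sieve Y), K.Saturate Y V → ∀ {Y' : Scheme.{u}} (g : Y' ⟶ Y) (h : Y' ⟶ S),
      (∀ (Z : Scheme.{u}) (k : Z ⟶ Y'), V.pullback g k → P (Over.mk (k ≫ h))) → P (Over.mk h) := by
    intro Y V hV
    induction hV with
    | of Y R hR => exact hK R hR
    | top Y =>
      intro Y' g h hk
      have := hk _ (𝟙 Y') trivial
      rwa [Category.id_comp] at this
    | pullback Y V _ Y₁ f ih =>
      intro Y' g h hk
      exact ih (g ≫ f) h (fun Z k hk' => hk Z k (by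
        show V ((k ≫ g) ≫ f)
        rw [Category.assoc]
        exact hk'))
    | transitive Y V R _ _ ihV ihR =>
      intro Y' g h hk
      refine ihV g h fun Z k hkV => ?_
      refine ihR hkV (𝟙 Z) (k ≫ h) fun Z' k' hk' => ?_
      have h1 : R ((k' ≫ 𝟙 Z) ≫ k ≫ g) := hk'
      rw [Category.comp_id, ← Category.assoc] at h1
      rw [← Category.assoc]
      exact hk Z' (k' ≫ k) h1
  rw [isSheaf_iff_isSheaf_of_type]
  intro T V hV x _
  have hV' : Sieve.overEquiv T V ∈ K.toGrothendieck T.left := (K.toGrothendieck.mem_over_iff V).1 hV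
  have hT : P (Over.mk T.hom) := key _ hV' (𝟙 _) T.hom fun Z k hk => by
    have hk' : Sieve.overEquiv T V k := by
      have h1 : Sieve.overEquiv T V (k ≫ 𝟙 _) := hk
      rwa [Category.comp_id] at h1
    exact (FlatFun.genPSp_nonempty_iff_of_stable P hP _).1 ⟨x _ ((Sieve.overEquiv_iff V k).1 hk')⟩
  obtain ⟨y⟩ := FlatFun.genPSp_nonempty_of P (T := T) hT
  exact ⟨y, fun Z g hg => Subsingleton.elim _ _, fun y' _ => Subsingleton.elim _ _⟩

/-- The conditions on base changes are fpqc sheaves. -/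
theorem isSheaf (Φ : ModProp.{u}) [∀ Z : Scheme.{u}, (Φ Z).RespectsIso] (hΦ : Stable Φ) (hr : Reflects Φ)
    (f : X ⟶ S) {F G : X.Modules} [Coh.IsQCoh F] [Coh.IsQCoh G] (u : F ⟶ G) :
    Presheaf.IsSheaf (QuotSh.J Scheme.fpqcPrecoverage S)
      (FlatFun.genPSp S (fun T => Φ _ ((Scheme.Modules.pullback (pullback.fst f T.hom)).map u))) := by
  refine isSheaf_genPSp Scheme.fpqcPrecoverage _ (fun T T₀ k h => ?_) fun {Y} R hR {Y'} g h hk => ?_
  · exact of_factor Φ hΦ (pullback.map f T.hom f T₀.hom (𝟙 _) k.left (𝟙 _) (by simp) (by simp [Over.w k]))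
      (pullback.fst f T₀.hom) (by simp) u h
  · let s : pullback f h ⟶ Y := pullback.snd f h ≫ g
    obtain ⟨ι, Z, p, hp⟩ := (R.pullbackArrows s).exists_eq_ofArrows
    have hmem : Presieve.ofArrows Z p ∈ Scheme.precoverage @Flat (pullback f h) :=
      hp ▸ Scheme.propQCPrecoverage_le_precoverage (P := @Flat) _ (Precoverage.pullbackArrows_mem s hR)
    obtain ⟨hsurj, hflat⟩ := (Scheme.ofArrows_mem_precoverage_iff _).1 hmem
    haveI : ∀ i, Flat (p i) := hflat
    haveI : Coh.IsQCoh ((Scheme.Modules.pullback (pullback.fst f (Over.mk h).hom)).obj F) :=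
      Groth.L19.LimMod.isQCoh_pullback (pullback.fst f h) F
    haveI : Coh.IsQCoh ((Scheme.Modules.pullback (pullback.fst f (Over.mk h).hom)).obj G) :=
      Groth.L19.LimMod.isQCoh_pullback (pullback.fst f h) G
    refine hr p hsurj _ fun i => ?_
    have hi : (Sieve.generate R).pullback g (p i ≫ pullback.snd f h) := by
      have h1 : (Sieve.generate R).pullback s (p i) := by
        rw [← Sieve.pullbackArrows_comm]
        exact ⟨Z i, 𝟙 _, p i, hp ▸ Presieve.ofArrows.mk i, Category.id_comp _⟩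
      show (Sieve.generate R) ((p i ≫ pullback.snd f h) ≫ g)
      rw [Category.assoc]
      exact h1
    have hPi := hk _ _ hi
    refine (Groth.L06.LimitPreservingCond.map_map_iff Φ (p i) (pullback.fst f h) rfl u).2 ?_
    exact of_factor Φ hΦ (pullback.lift (p i ≫ pullback.fst f h) (𝟙 (Z i))
        (show _ = 𝟙 _ ≫ (p i ≫ pullback.snd f h) ≫ h by
          rw [Category.id_comp, Category.assoc, Category.assoc, pullback.condition]))
      (pullback.fst f ((p i ≫ pullback.snd f h) ≫ h)) (pullback.lift_fst _ _ _) u hPi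

/-- Injectivity is fpqc local on the base. -/
theorem mono_iff (f : X ⟶ S) {F G : X.Modules} [Coh.IsQCoh F] [Coh.IsQCoh G] (u : F ⟶ G) (T : Over S)
    {ι : Type u} (Ti : ι → Over S) (g : ∀ i, Ti i ⟶ T)
    (hcov : Presieve.ofArrows (fun i => (Ti i).left) (fun i => (g i).left) ∈ Scheme.fpqcPrecoverage T.left) :
    Mono ((Scheme.Modules.pullback (pullback.fst f T.hom)).map u) ↔
      ∀ i, Mono ((Scheme.Modules.pullback (pullback.fst f (Ti i).hom)).map u) := by
  obtain ⟨hsurj, hflat⟩ := (Scheme.ofArrows_mem_precoverage_iff _).1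
    (Scheme.propQCPrecoverage_le_precoverage (P := @Flat) _ hcov)
  let p : ∀ i, pullback f (Ti i).hom ⟶ pullback f T.hom := fun i =>
    pullback.map f (Ti i).hom f T.hom (𝟙 _) (g i).left (𝟙 _) (by simp) (by simp [Over.w (g i)])
  have hsq : ∀ i, IsPullback (p i) (pullback.snd f (Ti i).hom) (pullback.snd f T.hom) (g i).left := fun i => by
    refine IsPullback.of_right ?_ (by simp [p]) (IsPullback.of_hasPullback f T.hom)
    rw [Over.w (g i), show p i ≫ pullback.fst f T.hom = pullback.fst f (Ti i).hom by simp [p]]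
    exact IsPullback.of_hasPullback f (Ti i).hom
  haveI : ∀ i, Flat (p i) := fun i => MorphismProperty.of_isPullback (P := @Flat) (hsq i).flip (hflat i)
  have hs : ∀ x : (pullback f T.hom : Scheme.{u}), ∃ i, x ∈ Set.range (p i) := fun x => by
    obtain ⟨i, y, hy⟩ := hsurj (pullback.snd f T.hom x)
    obtain ⟨z, hz, -⟩ := Scheme.exists_preimage_of_isPullback (hsq i) x y hy.symm
    exact ⟨i, z, hz⟩
  haveI := Groth.L19.LimMod.isQCoh_pullback (pullback.fst f T.hom) F
  haveI := Groth.L19.LimMod.isQCoh_pullback (pullback.fst f T.hom) G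
  have hiff : ∀ i, Mono ((Scheme.Modules.pullback (p i)).map ((Scheme.Modules.pullback (pullback.fst f T.hom)).map u)) ↔
      Mono ((Scheme.Modules.pullback (pullback.fst f (Ti i).hom)).map u) := fun i =>
    Groth.L06.LimitPreservingCond.map_map_iff (fun Z => MorphismProperty.monomorphisms Z.Modules) (p i)
      (pullback.fst f T.hom) (by simp [p]) u
  refine ⟨fun h i => (hiff i).1 ?_, fun h => mono_of_pullback p hs _ fun i => (hiff i).2 (h i)⟩
  haveI := h
  haveI := Groth.L29.RelPC.preservesFiniteLimits_pullback (p i)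
  infer_instance

end Groth.L06.CondSheaf
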