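import Groth.Prelude.Def_W4stkflatp2Cpct
import Mathlib.AlgebraicGeometry.Morphisms.Immersion
import Mathlib.AlgebraicGeometry.Morphisms.Proper
import Mathlib.CategoryTheory.Localization.CalculusOfFractions

/-!
# Compactifications: calculus of fractions and localization
-/

set_option autoImplicit false
set_option maxSynthPendingDepth 3
set_option linter.style.haveILetI false
set_option backward.isDefEq.respectTransparency.types false
set_option backward.isDefEq.respectTransparency false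

universe v₁ v₂ u₁ u₂ u

open CategoryTheory CategoryTheory.Limits AlgebraicGeometry

namespace Groth.L06.CpctLoc

section Criterion

variable {C : Type u₁} [Category.{v₁} C] {D : Type u₂} [Category.{v₂} D]

/-- A criterion for being a localization, with a right calculus of fractions. -/
theorem isLocalization_of (L : C ⥤ D) (W : MorphismProperty C) [W.HasRightCalculusOfFractions]
    (hinv : W.IsInvertedBy L) (hess : L.EssSurj)
    (hfull : ∀ (X Y : C) (g : L.obj X ⟶ L.obj Y),
      ∃ (Z : C) (s : Z ⟶ X) (_ : W s) (f : Z ⟶ Y), L.map s ≫ g = L.map f)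
    (hfaith : ∀ (X Y : C) (f₁ f₂ : X ⟶ Y), L.map f₁ = L.map f₂ →
      ∃ (Z : C) (s : Z ⟶ X) (_ : W s), s ≫ f₁ = s ≫ f₂) :
    L.IsLocalization W := by
  let F := Localization.Construction.lift L hinv
  have hF : W.Q ⋙ F = L := Localization.Construction.fac L hinv
  have hFobj : ∀ X : C, F.obj (W.Q.obj X) = L.obj X := fun X => Functor.congr_obj hF X
  have hFmap : ∀ {X Y : C} (f : X ⟶ Y),
      F.map (W.Q.map f) = eqToHom (hFobj X) ≫ L.map f ≫ eqToHom (hFobj Y).symm :=
    fun f => Functor.congr_hom hF f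
  have : F.Faithful := ⟨by
    intro A A' a b hab
    obtain ⟨X, rfl⟩ := (Localization.Construction.objEquiv W).surjective A
    obtain ⟨Y, rfl⟩ := (Localization.Construction.objEquiv W).surjective A'
    change W.Q.obj X ⟶ W.Q.obj Y at a b
    obtain ⟨φ, rfl⟩ := Localization.exists_rightFraction W.Q W a
    obtain ⟨ψ, rfl⟩ := Localization.exists_rightFraction W.Q W b
    refine (MorphismProperty.RightFraction.map_eq_iff W.Q W φ ψ).2 ?_
    obtain ⟨ρ, hρ⟩ := (MorphismProperty.LeftFraction.mk φ.s ψ.s ψ.hs).exists_rightFraction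
    change ρ.s ≫ φ.s = ρ.f ≫ ψ.s at hρ
    have e1 := congrArg F.map (φ.map_s_comp_map W.Q (Localization.inverts W.Q W))
    have e2 := congrArg F.map (ψ.map_s_comp_map W.Q (Localization.inverts W.Q W))
    rw [F.map_comp, hab] at e1
    rw [F.map_comp] at e2
    have e : L.map (ρ.s ≫ φ.f) = L.map (ρ.f ≫ ψ.f) := by
      have h1 := congrArg (fun t => F.map (W.Q.map ρ.s) ≫ t) e1
      have h2 := congrArg (fun t => F.map (W.Q.map ρ.f) ≫ t) e2
      simp only [← Category.assoc, ← F.map_comp, ← W.Q.map_comp, hρ] at h1 h2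
      have h3 := h1.symm.trans h2
      rw [hFmap, hFmap] at h3
      simpa using h3
    obtain ⟨Z, t, ht, hte⟩ := hfaith _ _ _ _ e
    refine ⟨Z, t ≫ ρ.s, t ≫ ρ.f, by simp only [Category.assoc, hρ],
      by simpa only [Category.assoc] using hte, ?_⟩
    exact W.comp_mem _ _ (W.comp_mem _ _ ht ρ.hs) φ.hs⟩
  have : F.Full := ⟨fun {A A'} g => by
    obtain ⟨X, rfl⟩ := (Localization.Construction.objEquiv W).surjective A
    obtain ⟨Y, rfl⟩ := (Localization.Construction.objEquiv W).surjective A'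
    change F.obj (W.Q.obj X) ⟶ F.obj (W.Q.obj Y) at g
    obtain ⟨Z, s, hs, f, h⟩ := hfull X Y (eqToHom (hFobj X).symm ≫ g ≫ eqToHom (hFobj Y))
    have := Localization.inverts W.Q W s hs
    refine ⟨inv (W.Q.map s) ≫ W.Q.map f, ?_⟩
    rw [← cancel_epi (F.map (W.Q.map s)), ← F.map_comp, IsIso.hom_inv_id_assoc, hFmap, hFmap, ← h]
    simp⟩
  have : F.EssSurj := ⟨fun d => ⟨W.Q.obj (L.objPreimage d),
    ⟨eqToIso (hFobj _) ≪≫ L.objObjPreimageIso d⟩⟩⟩
  have hE : F.IsEquivalence := { }
  exact ⟨hinv, hE⟩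

end Criterion

variable {S : Scheme.{u}}

open Cpct

theorem restr_ι {A B : Pair S} (f : A ⟶ B) :
    restr f ≫ B.U.ι = A.U.ι ≫ (Pair.Hom.bar f).left :=
  Scheme.Hom.resLE_comp_ι _ _

theorem restr_comp {A B C : Pair S} (f : A ⟶ B) (g : B ⟶ C) :
    restr (f ≫ g) = restr f ≫ restr g :=
  congrArg CommaMorphism.left (openOver.map_comp f g)

theorem restr_id (A : Pair S) : restr (𝟙 A) = 𝟙 _ :=
  congrArg CommaMorphism.left (openOver.map_id A)

/-- A proper morphism to `A.bar` which is an isomorphism over `A.U` on the open `U`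
gives a morphism of pairs in `isoOpen`. -/
theorem exists_mod (A : Pair S) {D : Scheme.{u}} (p : D ⟶ A.bar.left) [IsProper p]
    (U : D.Opens) (hU : U ≤ p ⁻¹ᵁ A.U) (l : (A.U : Scheme.{u}) ⟶ D) (hl : l ≫ p = A.U.ι)
    (hlU : Set.range l ⊆ U) (h : p.resLE A.U U hU ≫ l = U.ι) :
    ∃ hc : IsCompact (U : Set D),
      isoOpen S (X := (⟨Over.mk (p ≫ A.bar.hom), U,
          by haveI := A.isProper; exact inferInstanceAs (IsProper (p ≫ A.bar.hom)), hc⟩ : Pair S))
        (Y := A) ⟨Over.homMk p rfl, fun x hx => hU hx⟩ := by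
  let q := IsOpenImmersion.lift U.ι l (by rwa [Scheme.Opens.range_ι])
  have hq : q ≫ U.ι = l := IsOpenImmersion.lift_fac _ _ _
  have h1 : q ≫ p.resLE A.U U hU = 𝟙 _ := by
    rw [← cancel_mono A.U.ι, Category.assoc, Scheme.Hom.resLE_comp_ι, ← Category.assoc, hq, hl,
      Category.id_comp]
  have h2 : p.resLE A.U U hU ≫ q = 𝟙 _ := by
    rw [← cancel_mono U.ι, Category.assoc, hq, h, Category.id_comp]
  have hiso : IsIso (p.resLE A.U U hU) := ⟨q, h2, h1⟩
  have : CompactSpace (A.U : Scheme.{u}) := isCompact_iff_compactSpace.mp A.isCompact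
  have hc : CompactSpace (U : Scheme.{u}) :=
    (Scheme.homeoOfIso (asIso (p.resLE A.U U hU)).symm).compactSpace
  exact ⟨isCompact_iff_compactSpace.mpr hc, hiso⟩

theorem exists_equalizer {A B : Pair S} (f g : A ⟶ B) (h : restr f = restr g) :
    ∃ (A' : Pair S) (t : A' ⟶ A), isoOpen S t ∧ t ≫ f = t ≫ g := by
  haveI := B.isProper
  let F := (Pair.Hom.bar f).left
  let G := (Pair.Hom.bar g).left
  have hw : F ≫ B.bar.hom = G ≫ B.bar.hom :=
    (Over.w (Pair.Hom.bar f)).trans (Over.w (Pair.Hom.bar g)).symm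
  let d := pullback.lift F G hw
  let p := pullback.fst d (pullback.diagonal B.bar.hom)
  have e1 : p ≫ F = pullback.snd d (pullback.diagonal B.bar.hom) := by
    simpa [d, p] using congrArg (fun t => t ≫ pullback.fst B.bar.hom B.bar.hom)
      (pullback.condition (f := d) (g := pullback.diagonal B.bar.hom))
  have e2 : p ≫ G = pullback.snd d (pullback.diagonal B.bar.hom) := by
    simpa [d, p] using congrArg (fun t => t ≫ pullback.snd B.bar.hom B.bar.hom)
      (pullback.condition (f := d) (g := pullback.diagonal B.bar.hom))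
  have hfg : A.U.ι ≫ F = A.U.ι ≫ G := by
    rw [← restr_ι, ← restr_ι, h]
  let l : (A.U : Scheme.{u}) ⟶ pullback d (pullback.diagonal B.bar.hom) :=
    pullback.lift A.U.ι (A.U.ι ≫ F) (by
      apply pullback.hom_ext <;> simp [d, hfg])
  have hl : l ≫ p = A.U.ι := pullback.lift_fst _ _ _
  obtain ⟨hc, hW⟩ := exists_mod A p (p ⁻¹ᵁ A.U) le_rfl l hl
    (by
      rintro _ ⟨a, rfl⟩
      show p (l a) ∈ A.U
      rw [← Scheme.Hom.comp_apply, hl]
      exact a.2)
    (by
      apply pullback.hom_ext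
      · rw [Category.assoc, hl, Scheme.Hom.resLE_comp_ι]
      · rw [Category.assoc, pullback.lift_snd, Scheme.Hom.resLE_comp_ι_assoc, e1])
  refine ⟨_, _, hW, ?_⟩
  refine Pair.Hom.ext ?_
  apply Over.OverMorphism.ext
  exact e1.trans e2.symm

theorem exists_ore {A B C : Pair S} (f : A ⟶ B) (s : C ⟶ B) (hs : isoOpen S s) :
    ∃ (A' : Pair S) (t : A' ⟶ A) (_ : isoOpen S t) (g : A' ⟶ C), t ≫ f = g ≫ s := by
  haveI := B.isProper
  haveI := C.isProper
  haveI : IsIso (restr s) := hs
  let F := (Pair.Hom.bar f).left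
  let s' := (Pair.Hom.bar s).left
  haveI : IsProper (s' ≫ B.bar.hom) := by
    rw [Over.w (Pair.Hom.bar s)]; exact C.isProper
  haveI : IsProper s' := IsProper.of_comp s' B.bar.hom
  let p := pullback.fst F s'
  let r := pullback.snd F s'
  let l : (A.U : Scheme.{u}) ⟶ pullback F s' :=
    pullback.lift A.U.ι (restr f ≫ inv (restr s) ≫ C.U.ι) (by
      rw [Category.assoc, Category.assoc, ← restr_ι s, IsIso.inv_hom_id_assoc, restr_ι])
  have hl : l ≫ p = A.U.ι := pullback.lift_fst _ _ _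
  have hlr : l ≫ r = restr f ≫ inv (restr s) ≫ C.U.ι := pullback.lift_snd _ _ _
  obtain ⟨hc, hW⟩ := exists_mod A p (p ⁻¹ᵁ A.U ⊓ r ⁻¹ᵁ C.U) inf_le_left l hl
    (by
      rintro _ ⟨a, rfl⟩
      refine ⟨?_, ?_⟩
      · show p (l a) ∈ A.U
        rw [← Scheme.Hom.comp_apply, hl]
        exact a.2
      · show r (l a) ∈ C.U
        rw [← Scheme.Hom.comp_apply, hlr]
        exact (inv (restr s) (restr f a)).2)
    (by
      apply pullback.hom_ext
      · rw [Category.assoc, hl, Scheme.Hom.resLE_comp_ι]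
      · rw [Category.assoc, hlr]
        have key : p.resLE A.U (p ⁻¹ᵁ A.U ⊓ r ⁻¹ᵁ C.U) inf_le_left ≫ restr f =
            r.resLE C.U (p ⁻¹ᵁ A.U ⊓ r ⁻¹ᵁ C.U) inf_le_right ≫ restr s := by
          rw [← cancel_mono B.U.ι, Category.assoc, Category.assoc, restr_ι, restr_ι,
            Scheme.Hom.resLE_comp_ι_assoc, Scheme.Hom.resLE_comp_ι_assoc, pullback.condition]
        rw [← Category.assoc, key, Category.assoc, IsIso.hom_inv_id_assoc,
          Scheme.Hom.resLE_comp_ι])
  refine ⟨_, _, hW, ⟨Over.homMk r ?_, fun x hx => hx.2⟩, ?_⟩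
  · show r ≫ C.bar.hom = p ≫ A.bar.hom
    rw [← Over.w (Pair.Hom.bar s), ← Over.w (Pair.Hom.bar f), ← Category.assoc, ← Category.assoc,
      pullback.condition]
  · refine Pair.Hom.ext ?_
    apply Over.OverMorphism.ext
    exact pullback.condition

instance : (isoOpen S).IsMultiplicative where
  id_mem A := by
    show IsIso (restr (𝟙 A))
    rw [restr_id]; infer_instance
  comp_mem f g (hf : IsIso (restr f)) (hg : IsIso (restr g)) := by
    show IsIso (restr (f ≫ g))
    rw [restr_comp]; infer_instance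

instance : (isoOpen S).HasRightCalculusOfFractions where
  exists_rightFraction X Y φ := by
    obtain ⟨A', t, ht, g, h⟩ := exists_ore φ.f φ.s φ.hs
    exact ⟨⟨t, ht, g⟩, h⟩
  ext X Y Y' f₁ f₂ s hs h := by
    haveI : IsIso (restr s) := hs
    have e : restr f₁ = restr f₂ := by
      rw [← cancel_mono (restr s), ← restr_comp, ← restr_comp, h]
    obtain ⟨X', t, ht, h'⟩ := exists_equalizer f₁ f₂ e
    exact ⟨X', t, ht, h'⟩

theorem exists_graph [QuasiSeparatedSpace S] {A B : Pair S}
    (u : (openFunctor S).obj A ⟶ (openFunctor S).obj B) :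
    ∃ (A' : Pair S) (s : A' ⟶ A) (_ : isoOpen S s) (f : A' ⟶ B),
      (openFunctor S).map s ≫ u = (openFunctor S).map f := by
  haveI := A.isProper
  haveI := B.isProper
  let u' : (A.U : Scheme.{u}) ⟶ B.U := u.hom.left
  have hu : u' ≫ B.U.ι ≫ B.bar.hom = A.U.ι ≫ A.bar.hom := Over.w u.hom
  let h : (A.U : Scheme.{u}) ⟶ pullback A.bar.hom B.bar.hom :=
    pullback.lift A.U.ι (u' ≫ B.U.ι) (by rw [Category.assoc, hu])
  have hh : h ≫ pullback.fst A.bar.hom B.bar.hom = A.U.ι := pullback.lift_fst _ _ _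
  have hh' : h ≫ pullback.snd A.bar.hom B.bar.hom = u' ≫ B.U.ι := pullback.lift_snd _ _ _
  haveI : IsImmersion (h ≫ pullback.fst A.bar.hom B.bar.hom) := by rw [hh]; infer_instance
  haveI : IsImmersion h := IsImmersion.of_comp h (pullback.fst A.bar.hom B.bar.hom)
  haveI : QuasiSeparatedSpace A.bar.left := quasiSeparatedSpace_of_quasiSeparated A.bar.hom
  haveI : QuasiCompact (h ≫ pullback.fst A.bar.hom B.bar.hom) := by
    rw [hh]
    haveI : CompactSpace (A.U : Scheme.{u}) := isCompact_iff_compactSpace.mp A.isCompact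
    exact quasiCompact_of_compactSpace A.U.ι
  haveI : QuasiCompact h := QuasiCompact.of_comp h (pullback.fst A.bar.hom B.bar.hom)
  let p := h.imageι ≫ pullback.fst A.bar.hom B.bar.hom
  let r := h.imageι ≫ pullback.snd A.bar.hom B.bar.hom
  have hl : h.toImage ≫ p = A.U.ι := by simp [p, hh]
  have hr : h.toImage ≫ r = u' ≫ B.U.ι := by simp [r, hh']
  have hU : h.toImage.opensRange ≤ p ⁻¹ᵁ A.U := by
    rintro _ ⟨a, rfl⟩
    show p (h.toImage a) ∈ A.U
    rw [← Scheme.Hom.comp_apply, hl]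
    exact a.2
  have hres : h.toImage.isoOpensRange.hom ≫ p.resLE A.U h.toImage.opensRange hU = 𝟙 _ := by
    rw [← cancel_mono A.U.ι, Category.assoc, Scheme.Hom.resLE_comp_ι, ← Category.assoc,
      Scheme.Hom.isoOpensRange_hom_ι, hl, Category.id_comp]
  obtain ⟨hc, hW⟩ := exists_mod A p h.toImage.opensRange hU h.toImage hl Set.Subset.rfl
    (by
      rw [← cancel_epi h.toImage.isoOpensRange.hom, Scheme.Hom.isoOpensRange_hom_ι,
        ← Category.assoc, hres, Category.id_comp])
  have hB : ∀ x ∈ h.toImage.opensRange, r x ∈ B.U := by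
    rintro _ ⟨a, rfl⟩
    rw [← Scheme.Hom.comp_apply, hr]
    exact (u' a).2
  refine ⟨_, _, hW, ⟨Over.homMk r ?_, hB⟩, ?_⟩
  · show r ≫ B.bar.hom = p ≫ A.bar.hom
    simp [p, r, pullback.condition]
  · refine ObjectProperty.hom_ext _ (Over.OverMorphism.ext ?_)
    show p.resLE A.U h.toImage.opensRange hU ≫ u' = r.resLE B.U h.toImage.opensRange hB
    rw [← cancel_mono B.U.ι, ← cancel_epi h.toImage.isoOpensRange.hom, ← Category.assoc,
      ← Category.assoc, hres, Category.id_comp, Scheme.Hom.resLE_comp_ι,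
      Scheme.Hom.isoOpensRange_hom_ι_assoc, hr]

theorem openFunctor_isLocalization [QuasiSeparatedSpace S] :
    (openFunctor S).IsLocalization (isoOpen S) := by
  refine isLocalization_of _ _ (fun A B s hs => ?_) ⟨fun d => ?_⟩ (fun A B u => exists_graph u)
    (fun A B f g h => ?_)
  · haveI : IsIso (restr s) := hs
    haveI : IsIso ((Over.forget S).map ((openFunctor S).map s).hom) := hs
    haveI : IsIso ((openFunctor S).map s).hom := isIso_of_reflects_iso _ (Over.forget S)
    haveI : IsIso ((ObjectProperty.ι (IsCompactifyable S)).map ((openFunctor S).map s)) :=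
      inferInstanceAs (IsIso ((openFunctor S).map s).hom)
    exact isIso_of_reflects_iso _ (ObjectProperty.ι (IsCompactifyable S))
  · obtain ⟨A, ⟨e⟩⟩ := d.property
    exact ⟨A, ⟨ObjectProperty.isoMk _ e⟩⟩
  · have e : restr f = restr g :=
      congrArg (fun t => CommaMorphism.left (InducedCategory.Hom.hom t)) h
    obtain ⟨A', t, ht, h'⟩ := exists_equalizer f g e
    exact ⟨A', t, ht, h'⟩

end Groth.L06.CpctLoc
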