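import Groth.Agent.L06.GRingTransport
import Groth.Agent.L06.FiniteDomains
import Groth.Agent.S0543
import Groth.Agent.S0544

/-! The completion of a finite algebra at the primes over a given prime (EGA 0 7.7, Stacks 07N9). -/

set_option autoImplicit false
set_option maxSynthPendingDepth 3
set_option linter.style.haveILetI false
universe u

namespace Groth.L06.CplFinite

open IsLocalRing PropLoc
open scoped TensorProduct

variable {A : Type u} [CommRing A] [IsNoetherianRing A] (p : Ideal A) [p.IsPrime]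
variable {D : Type u} [CommRing D] [Algebra A D]

/-- elements of `D ⊗ Â` are approximated by `d / s` -/
theorem exists_approx (γ : D ⊗[A] EGA4.Cpl (Localization.AtPrime p)) (k : ℕ) :
    ∃ s ∉ p, ∃ d : D, s • γ - d ⊗ₜ 1 ∈
      ((maximalIdeal (EGA4.Cpl (Localization.AtPrime p))).map
        (Algebra.TensorProduct.includeRight (R := A) (A := D) (B := EGA4.Cpl (Localization.AtPrime p))).toRingHom) ^ k := by
  induction γ using TensorProduct.induction_on with
  | zero => exact ⟨1, p.one_notMem, 0, by simp⟩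
  | add x y hx hy =>
    obtain ⟨s, hs, d, hd⟩ := hx
    obtain ⟨t, ht, e, he⟩ := hy
    refine ⟨s * t, fun h => (Ideal.IsPrime.mem_or_mem ‹p.IsPrime› h).elim hs ht, t • d + s • e, ?_⟩
    have h : (s * t) • (x + y) - (t • d + s • e) ⊗ₜ[A] (1 : EGA4.Cpl (Localization.AtPrime p)) =
        algebraMap A _ t * (s • x - d ⊗ₜ 1) + algebraMap A _ s * (t • y - e ⊗ₜ 1) := by
      rw [TensorProduct.add_tmul, ← TensorProduct.smul_tmul', ← TensorProduct.smul_tmul']
      simp only [Algebra.smul_def, map_mul]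
      ring
    rw [h]
    exact add_mem (Ideal.mul_mem_left _ _ hd) (Ideal.mul_mem_left _ _ he)
  | tmul d c =>
    obtain ⟨q, hq⟩ : ∃ q : Localization.AtPrime p, c - algebraMap _ (EGA4.Cpl (Localization.AtPrime p)) q ∈
        (maximalIdeal (EGA4.Cpl (Localization.AtPrime p))) ^ k := by
      obtain ⟨q, hq⟩ := Ideal.Quotient.mk_surjective (AdicCompletion.evalₐ (maximalIdeal (Localization.AtPrime p)) k c)
      refine ⟨q, ?_⟩
      rw [AdicCompletion.maximalIdeal_eq_map, ← Ideal.map_pow, ← Submodule.restrictScalars_mem (Localization.AtPrime p),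
        ← Ideal.smul_top_eq_map, AdicCompletion.pow_smul_top_eq_ker_eval (IsNoetherian.noetherian _), LinearMap.mem_ker]
      have h0 : AdicCompletion.evalₐ (maximalIdeal (Localization.AtPrime p)) k
          (c - algebraMap _ (EGA4.Cpl (Localization.AtPrime p)) q) = 0 := by
        rw [map_sub, AlgHom.commutes, ← hq]
        exact sub_self _
      rw [← AdicCompletion.factor_evalₐ_eq_eval (maximalIdeal (Localization.AtPrime p)) _
        (by rw [smul_eq_mul, Ideal.mul_top]), h0, map_zero]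
    obtain ⟨⟨a, s⟩, hqs⟩ := IsLocalization.surj p.primeCompl q
    refine ⟨s, s.2, a • d, ?_⟩
    have h : (s : A) • (d ⊗ₜ[A] c) - (a • d) ⊗ₜ 1 =
        (d ⊗ₜ (1 : EGA4.Cpl (Localization.AtPrime p))) * (1 ⊗ₜ (((s : A) • c) - algebraMap A _ a)) := by
      rw [Algebra.TensorProduct.tmul_mul_tmul, mul_one, one_mul, TensorProduct.tmul_sub, TensorProduct.tmul_smul,
        Algebra.algebraMap_eq_smul_one, TensorProduct.smul_tmul]
    rw [h]
    refine Ideal.mul_mem_left _ _ ?_
    rw [← Ideal.map_pow]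
    refine Ideal.mem_map_of_mem _ ?_
    have h2 : (s : A) • c - algebraMap A (EGA4.Cpl (Localization.AtPrime p)) a =
        algebraMap A (EGA4.Cpl (Localization.AtPrime p)) s * (c - algebraMap _ (EGA4.Cpl (Localization.AtPrime p)) q) := by
      rw [mul_sub, ← Algebra.smul_def, IsScalarTower.algebraMap_apply A (Localization.AtPrime p) (EGA4.Cpl (Localization.AtPrime p)) s,
        ← map_mul, mul_comm, hqs, ← IsScalarTower.algebraMap_apply]
    rw [h2]
    exact Ideal.mul_mem_left _ _ hq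

variable [Module.Finite A D]

/-- maximal ideals of `D ⊗ Â` lie over `p` and are determined by their trace on `D` -/
theorem maximal_spec (n : Ideal (D ⊗[A] EGA4.Cpl (Localization.AtPrime p))) [n.IsMaximal] :
    (maximalIdeal (EGA4.Cpl (Localization.AtPrime p))).map
        (Algebra.TensorProduct.includeRight (R := A) (A := D) (B := EGA4.Cpl (Localization.AtPrime p))).toRingHom ≤ n ∧
      (n.comap (algebraMap D (D ⊗[A] EGA4.Cpl (Localization.AtPrime p)))).comap (algebraMap A D) = p := by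
  haveI := GeomLocal.isMaximal_comap_right (A := A) (B := EGA4.Cpl (Localization.AtPrime p)) (C := D) n
  have h1 := IsLocalRing.eq_maximalIdeal
    ‹(n.comap (Algebra.TensorProduct.includeRight (R := A) (A := D) (B := EGA4.Cpl (Localization.AtPrime p))).toRingHom).IsMaximal›
  refine ⟨Ideal.map_le_iff_le_comap.mpr h1.ge, ?_⟩
  rw [Ideal.comap_comap, ← IsScalarTower.algebraMap_eq,
    ← AlgHom.comp_algebraMap (Algebra.TensorProduct.includeRight (R := A) (A := D) (B := EGA4.Cpl (Localization.AtPrime p))),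
    ← Ideal.comap_comap]
  rw [show n.comap ((Algebra.TensorProduct.includeRight (R := A) (A := D) (B := EGA4.Cpl (Localization.AtPrime p))) :
      EGA4.Cpl (Localization.AtPrime p) →+* D ⊗[A] EGA4.Cpl (Localization.AtPrime p)) = maximalIdeal _ from h1,
    IsScalarTower.algebraMap_eq A (Localization.AtPrime p) (EGA4.Cpl (Localization.AtPrime p)), ← Ideal.comap_comap,
    ((IsLocalRing.local_hom_TFAE (algebraMap (Localization.AtPrime p) (EGA4.Cpl (Localization.AtPrime p)))).out 0 4 rfl rfl).mp inferInstance]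
  exact Localization.AtPrime.under_maximalIdeal

theorem maximal_ext (n n' : Ideal (D ⊗[A] EGA4.Cpl (Localization.AtPrime p))) [n.IsMaximal] [n'.IsMaximal]
    (h : n.comap (algebraMap D _) = n'.comap (algebraMap D (D ⊗[A] EGA4.Cpl (Localization.AtPrime p)))) : n = n' := by
  refine (Ideal.IsMaximal.eq_of_le ‹n.IsMaximal› (Ideal.IsMaximal.ne_top ‹_›) fun γ hγ => ?_)
  obtain ⟨hn, -⟩ := maximal_spec p n
  obtain ⟨hn', hp'⟩ := maximal_spec p n'
  obtain ⟨s, hs, d, hd⟩ := exists_approx p γ 1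
  rw [pow_one] at hd
  have hd1 : d ⊗ₜ (1 : EGA4.Cpl (Localization.AtPrime p)) ∈ n := by
    have := sub_mem (show s • γ ∈ n by rw [Algebra.smul_def]; exact Ideal.mul_mem_left _ _ hγ) (hn hd)
    simpa using this
  have hd2 : d ⊗ₜ (1 : EGA4.Cpl (Localization.AtPrime p)) ∈ n' := by
    have h' : d ∈ n.comap (algebraMap D (D ⊗[A] EGA4.Cpl (Localization.AtPrime p))) := hd1
    rw [h] at h'
    exact h'
  have hsγ : s • γ ∈ n' := by simpa using add_mem (hn' hd) hd2
  rw [Algebra.smul_def] at hsγ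
  refine (Ideal.IsPrime.mem_or_mem (inferInstance : n'.IsPrime) hsγ).resolve_left fun h' => hs ?_
  rw [← hp', Ideal.comap_comap, ← IsScalarTower.algebraMap_eq]
  exact h'

set_option maxHeartbeats 1000000 in
/-- the local ring of `D ⊗ Â` over `P` is the completion of `D` at `P` -/
theorem exists_equiv (P : Ideal D) [P.IsPrime] (hP : P.comap (algebraMap A D) = p) :
    ∃ (n : Ideal (D ⊗[A] EGA4.Cpl (Localization.AtPrime p))) (_ : n.IsMaximal),
      n.comap (algebraMap D _) = P ∧ ∃ e : Localization.AtPrime n ≃+* EGA4.Cpl (Localization.AtPrime P),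
        ∀ d : D, e (algebraMap (D ⊗[A] EGA4.Cpl (Localization.AtPrime p)) _ (d ⊗ₜ 1)) =
          algebraMap D (EGA4.Cpl (Localization.AtPrime P)) d := by
  haveI : IsNoetherianRing D := IsNoetherianRing.of_finite A D
  let Ap := Localization.AtPrime p
  let DP := Localization.AtPrime P
  let φ : Ap →+* DP := Localization.localRingHom p P (algebraMap A D) hP.symm
  have hφ : (maximalIdeal Ap).map φ ≤ maximalIdeal DP := by
    haveI := Localization.isLocalHom_localRingHom p P (algebraMap A D) hP.symm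
    exact IsLocalRing.map_maximalIdeal_le φ
  let ψ := GRingTransport.mapCompletion φ (maximalIdeal Ap) (maximalIdeal DP) hφ
  have hψ : ∀ a : A, ψ (algebraMap A (EGA4.Cpl Ap) a) = algebraMap A (EGA4.Cpl DP) a := fun a => by
    rw [IsScalarTower.algebraMap_apply A Ap (EGA4.Cpl Ap)]
    refine (GRingTransport.mapCompletion_algebraMap φ _ _ hφ _).trans ?_
    rw [Localization.localRingHom_to_map]
    rfl
  haveI : IsScalarTower A D (EGA4.Cpl DP) := IsScalarTower.of_algebraMap_eq fun a => rfl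
  let ψA : EGA4.Cpl Ap →ₐ[A] EGA4.Cpl DP := { ψ with commutes' := hψ }
  let f : D ⊗[A] EGA4.Cpl Ap →ₐ[D] EGA4.Cpl DP :=
    Algebra.TensorProduct.lift (Algebra.ofId D (EGA4.Cpl DP)) ψA fun _ _ => Commute.all _ _
  haveI hnA : IsNoetherianRing (EGA4.Cpl Ap) := Groth.Agent.S0543.result Ap _
  haveI hnD : IsNoetherianRing (EGA4.Cpl DP) := Groth.Agent.S0543.result DP _
  let n := (maximalIdeal (EGA4.Cpl DP)).comap f.toRingHom
  have hfC : ∀ d : D, f (d ⊗ₜ 1) = algebraMap D (EGA4.Cpl DP) d := fun d =>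
    (Algebra.TensorProduct.lift_tmul ..).trans (by rw [map_one, mul_one]; rfl)
  have hmD : maximalIdeal (EGA4.Cpl DP) = (maximalIdeal DP).map (algebraMap DP (EGA4.Cpl DP)) :=
    AdicCompletion.maximalIdeal_eq_map
  have hnP : n.comap (algebraMap D (D ⊗[A] EGA4.Cpl Ap)) = P := by
    ext d
    show f (d ⊗ₜ 1) ∈ maximalIdeal (EGA4.Cpl DP) ↔ _
    rw [hfC, IsScalarTower.algebraMap_apply D DP (EGA4.Cpl DP)]
    refine (?_ : _ ↔ algebraMap D DP d ∈ maximalIdeal DP).trans (IsLocalization.AtPrime.to_map_mem_maximal_iff DP P d)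
    rw [IsLocalRing.mem_maximalIdeal, IsLocalRing.mem_maximalIdeal, mem_nonunits_iff, mem_nonunits_iff]
    exact not_congr ⟨fun h => isUnit_of_map_unit (algebraMap DP (EGA4.Cpl DP)) _ h, fun h => h.map _⟩
  have hm : (maximalIdeal (EGA4.Cpl Ap)).map
      (Algebra.TensorProduct.includeRight (R := A) (A := D) (B := EGA4.Cpl Ap)).toRingHom ≤ n := by
    rw [Ideal.map_le_iff_le_comap]
    intro c hc
    show f (1 ⊗ₜ c) ∈ maximalIdeal (EGA4.Cpl DP)
    rw [show f (1 ⊗ₜ c) = ψ c from (Algebra.TensorProduct.lift_tmul ..).trans (by rw [map_one, one_mul]; rfl)]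
    have h1 : (maximalIdeal (EGA4.Cpl Ap)).map ψ ≤ maximalIdeal (EGA4.Cpl DP) := by
      rw [AdicCompletion.maximalIdeal_eq_map, Ideal.map_map, hmD]
      rw [show ψ.comp (algebraMap Ap (EGA4.Cpl Ap)) = (algebraMap DP (EGA4.Cpl DP)).comp φ from
        RingHom.ext fun x => GRingTransport.mapCompletion_algebraMap φ _ _ hφ x, ← Ideal.map_map]
      exact Ideal.map_mono hφ
    exact h1 (Ideal.mem_map_of_mem _ hc)
  haveI : n.IsPrime := Ideal.IsPrime.comap _
  haveI : n.IsMaximal := by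
    let c := (Algebra.TensorProduct.comm A (EGA4.Cpl Ap) D).toRingEquiv
    haveI : Algebra.IsIntegral (EGA4.Cpl Ap) (EGA4.Cpl Ap ⊗[A] D) := Algebra.IsIntegral.of_finite _ _
    haveI : (n.comap c.toRingHom).IsPrime := Ideal.IsPrime.comap _
    haveI : (n.comap c.toRingHom).IsMaximal := by
      refine Ideal.isMaximal_of_isIntegral_of_isMaximal_comap (R := EGA4.Cpl Ap) _ ?_
      rw [Ideal.comap_comap]
      have hle := Ideal.map_le_iff_le_comap.mp hm
      rw [show c.toRingHom.comp (algebraMap (EGA4.Cpl Ap) (EGA4.Cpl Ap ⊗[A] D)) =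
        (Algebra.TensorProduct.includeRight (R := A) (A := D) (B := EGA4.Cpl Ap)).toRingHom from RingHom.ext fun x => rfl]
      rw [← (maximalIdeal.isMaximal (EGA4.Cpl Ap)).eq_of_le (Ideal.IsPrime.ne_top (Ideal.IsPrime.comap _)) hle]
      exact maximalIdeal.isMaximal _
    have h2 := Ideal.map_comap_of_surjective c.toRingHom c.surjective n
    rw [← h2]
    exact Ideal.map_isMaximal_of_equiv c
  haveI hΓ : IsNoetherianRing (D ⊗[A] EGA4.Cpl Ap) := GeomLocal.isNoetherianRing_right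
  have hf_ms : ∀ k, (n ^ k).map f.toRingHom ≤ maximalIdeal (EGA4.Cpl DP) ^ k := fun k => by
    rw [Ideal.map_pow]; exact Ideal.pow_right_mono Ideal.map_comap_le k
  have hcD : ∀ (k : ℕ) (x : DP), algebraMap DP (EGA4.Cpl DP) x ∈ maximalIdeal (EGA4.Cpl DP) ^ k →
      x ∈ maximalIdeal DP ^ k := by
    intro k x hx
    rw [hmD, ← Ideal.map_pow, ← Submodule.restrictScalars_mem DP, ← Ideal.smul_top_eq_map,
      AdicCompletion.pow_smul_top_eq_ker_eval (IsNoetherian.noetherian _), LinearMap.mem_ker,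
      ← AdicCompletion.factor_evalₐ_eq_eval (maximalIdeal DP) _ (by rw [smul_eq_mul, Ideal.mul_top]),
      AlgHom.commutes, Ideal.Quotient.algebraMap_eq, Ideal.Quotient.factor_mk, Ideal.Quotient.eq_zero_iff_mem,
      smul_eq_mul, Ideal.mul_top] at hx
    exact hx
  -- surjectivity
  letI : Algebra (EGA4.Cpl Ap) (EGA4.Cpl DP) := ψ.toAlgebra
  have hf1 : ∀ c, f (1 ⊗ₜ c) = ψ c := fun c =>
    (Algebra.TensorProduct.lift_tmul ..).trans (by rw [map_one, one_mul]; rfl)
  let S : Submodule (EGA4.Cpl Ap) (EGA4.Cpl DP) :=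
    { carrier := Set.range f
      add_mem' := by rintro _ _ ⟨x, rfl⟩ ⟨y, rfl⟩; exact ⟨x + y, map_add f x y⟩
      zero_mem' := ⟨0, map_zero f⟩
      smul_mem' := by
        rintro c _ ⟨x, rfl⟩
        exact ⟨(1 ⊗ₜ c) * x, by rw [map_mul, hf1]; rfl⟩ }
  have hdense : ∀ (x : EGA4.Cpl DP) (k : ℕ), ∃ γ, x - f γ ∈ maximalIdeal (EGA4.Cpl DP) ^ k := by
    intro x k
    obtain ⟨q, hq⟩ := Ideal.Quotient.mk_surjective (AdicCompletion.evalₐ (maximalIdeal DP) k x)
    have hxq : x - algebraMap DP (EGA4.Cpl DP) q ∈ maximalIdeal (EGA4.Cpl DP) ^ k := by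
      rw [hmD, ← Ideal.map_pow, ← Submodule.restrictScalars_mem DP, ← Ideal.smul_top_eq_map,
        AdicCompletion.pow_smul_top_eq_ker_eval (IsNoetherian.noetherian _), LinearMap.mem_ker]
      have h0 : AdicCompletion.evalₐ (maximalIdeal DP) k (x - algebraMap DP (EGA4.Cpl DP) q) = 0 := by
        rw [map_sub, AlgHom.commutes, ← hq]
        exact sub_self _
      rw [← AdicCompletion.factor_evalₐ_eq_eval (maximalIdeal DP) _ (by rw [smul_eq_mul, Ideal.mul_top]), h0, map_zero]
    obtain ⟨⟨d, σ⟩, hdσ⟩ := IsLocalization.surj P.primeCompl q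
    have hσn : (σ : D) ⊗ₜ[A] (1 : EGA4.Cpl Ap) ∉ n := fun h => σ.2 (by
      have h' : (σ : D) ∈ n.comap (algebraMap D (D ⊗[A] EGA4.Cpl Ap)) := h
      rw [hnP] at h'
      exact h')
    obtain ⟨γ, hγ⟩ : ∃ γ, γ * ((σ : D) ⊗ₜ[A] (1 : EGA4.Cpl Ap)) - 1 ∈ n ^ k := by
      obtain ⟨γ, m, hm', hsum⟩ := Ideal.IsMaximal.exists_inv ‹n.IsMaximal› hσn
      refine ⟨γ * ∑ i ∈ Finset.range k, m ^ i, ?_⟩
      have hγ : γ * ((σ : D) ⊗ₜ[A] (1 : EGA4.Cpl Ap)) = 1 - m := eq_sub_of_add_eq hsum
      rw [mul_right_comm, hγ, mul_neg_geom_sum]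
      simpa using Ideal.pow_mem_pow hm' k
    refine ⟨γ * (d ⊗ₜ 1), ?_⟩
    have h1 := hf_ms k (Ideal.mem_map_of_mem f.toRingHom hγ)
    rw [map_sub, map_mul, map_one] at h1
    change f γ * f ((σ : D) ⊗ₜ 1) - 1 ∈ _ at h1
    have hxq' : x - f (γ * (d ⊗ₜ 1)) =
        (x - algebraMap DP (EGA4.Cpl DP) q) - algebraMap DP (EGA4.Cpl DP) q * (f γ * f ((σ : D) ⊗ₜ 1) - 1) := by
      rw [map_mul, hfC, hfC, IsScalarTower.algebraMap_apply D DP (EGA4.Cpl DP) d,
        IsScalarTower.algebraMap_apply D DP (EGA4.Cpl DP) σ, ← hdσ, map_mul]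
      ring
    rw [hxq']
    exact sub_mem hxq (Ideal.mul_mem_left _ _ h1)
  have hmc : (maximalIdeal Ap).map φ = p.map (algebraMap A DP) := by
    rw [← Localization.AtPrime.map_eq_maximalIdeal, Ideal.map_map]
    exact congrArg (fun g => Ideal.map g p) (RingHom.ext fun a => by
      rw [RingHom.comp_apply, Localization.localRingHom_to_map]; rfl)
  obtain ⟨N, hN⟩ : ∃ N, maximalIdeal DP ^ N ≤ (maximalIdeal Ap).map φ := by
    refine Ideal.exists_pow_le_of_le_radical_of_fg ?_ (IsNoetherian.noetherian _)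
    rw [Ideal.radical_eq_sInf]
    refine le_sInf fun R ⟨hR, hRp⟩ => ?_
    haveI := hRp
    haveI : (R.comap (algebraMap D DP)).IsPrime := Ideal.IsPrime.comap _
    have hle : R.comap (algebraMap D DP) ≤ P := by
      intro z hz
      exact (IsLocalization.AtPrime.to_map_mem_maximal_iff DP P z).mp (IsLocalRing.le_maximalIdeal hRp.ne_top hz)
    haveI : Algebra.IsIntegral A D := Algebra.IsIntegral.of_finite A D
    have heq : R.comap (algebraMap D DP) = P := by
      refine le_antisymm hle fun z hz => ?_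
      by_contra hzR
      have hlt := Ideal.comap_lt_comap_of_integral_mem_sdiff hle ⟨hz, hzR⟩ (Algebra.IsIntegral.isIntegral (R := A) z)
      rw [hP] at hlt
      refine not_le_of_gt hlt fun a ha => ?_
      show algebraMap D DP (algebraMap A D a) ∈ R
      rw [← IsScalarTower.algebraMap_apply]
      exact hR (hmc ▸ Ideal.mem_map_of_mem _ ha)
    rw [← Localization.AtPrime.map_eq_maximalIdeal, Ideal.map_le_iff_le_comap, heq]
  have hmS : maximalIdeal (EGA4.Cpl DP) ^ N ≤ (maximalIdeal (EGA4.Cpl Ap)).map ψ := by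
    have h' : (maximalIdeal (EGA4.Cpl Ap)).map ψ = ((maximalIdeal Ap).map φ).map (algebraMap DP (EGA4.Cpl DP)) := by
      rw [AdicCompletion.maximalIdeal_eq_map, Ideal.map_map,
        show ψ.comp (algebraMap Ap (EGA4.Cpl Ap)) = (algebraMap DP (EGA4.Cpl DP)).comp φ from
          RingHom.ext fun x => GRingTransport.mapCompletion_algebraMap φ _ _ hφ x, ← Ideal.map_map]
    rw [h', hmD, ← Ideal.map_pow]
    exact Ideal.map_mono hN
  have hsup : ⊤ ≤ S ⊔ maximalIdeal (EGA4.Cpl Ap) • (⊤ : Submodule (EGA4.Cpl Ap) (EGA4.Cpl DP)) := by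
    intro x _
    obtain ⟨γ, hγ⟩ := hdense x N
    refine Submodule.mem_sup.mpr ⟨f γ, ⟨γ, rfl⟩, x - f γ, ?_, add_sub_cancel _ _⟩
    rw [Ideal.smul_top_eq_map, Submodule.restrictScalars_mem]
    exact hmS hγ
  haveI : Module.Finite (EGA4.Cpl Ap) (EGA4.Cpl DP) := by
    haveI : IsHausdorff (maximalIdeal (EGA4.Cpl Ap)) (EGA4.Cpl DP) := by
      refine ⟨fun z hz => ?_⟩
      rw [← Submodule.mem_bot (EGA4.Cpl DP), ← Ideal.iInf_pow_eq_bot_of_isLocalRing (maximalIdeal (EGA4.Cpl DP))
        (maximalIdeal.isMaximal _).ne_top, Submodule.mem_iInf]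
      intro i
      have h := SModEq.zero.mp (hz i)
      rw [Ideal.smul_top_eq_map, Submodule.restrictScalars_mem, Ideal.map_pow] at h
      refine Ideal.pow_right_mono ?_ i h
      rw [Ideal.map_le_iff_le_comap]
      intro c hc
      have := hm (Ideal.mem_map_of_mem _ hc)
      rw [Ideal.mem_comap, RingHom.algebraMap_toAlgebra, ← hf1]
      exact this
    refine Groth.Agent.S0544.result (EGA4.Cpl Ap) (maximalIdeal _) (EGA4.Cpl DP) ?_
    haveI : Module.Finite (EGA4.Cpl Ap) (EGA4.Cpl Ap ⊗[A] D) := inferInstance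
    let g : EGA4.Cpl Ap ⊗[A] D →ₗ[EGA4.Cpl Ap]
        (EGA4.Cpl DP ⧸ maximalIdeal (EGA4.Cpl Ap) • (⊤ : Submodule (EGA4.Cpl Ap) (EGA4.Cpl DP))) :=
      { toFun := fun z => Submodule.Quotient.mk (f (Algebra.TensorProduct.comm A (EGA4.Cpl Ap) D z))
        map_add' := fun x y => by simp only [map_add, Submodule.Quotient.mk_add]
        map_smul' := fun c x => by
          rw [RingHom.id_apply, show c • x = algebraMap _ (EGA4.Cpl Ap ⊗[A] D) c * x from Algebra.smul_def c x, map_mul, map_mul,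
            ← Submodule.Quotient.mk_smul]
          congr 1
          rw [show (Algebra.TensorProduct.comm A (EGA4.Cpl Ap) D) (algebraMap (EGA4.Cpl Ap) (EGA4.Cpl Ap ⊗[A] D) c) = 1 ⊗ₜ c from rfl,
            hf1]
          rfl }
    refine Module.Finite.of_surjective g fun z => ?_
    obtain ⟨x, rfl⟩ := Submodule.Quotient.mk_surjective _ z
    obtain ⟨_, ⟨γ, rfl⟩, w, hw, hsum⟩ := Submodule.mem_sup.mp (hsup (Submodule.mem_top (x := x)))
    refine ⟨(Algebra.TensorProduct.comm A (EGA4.Cpl Ap) D).symm γ, ?_⟩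
    show Submodule.Quotient.mk (f ((Algebra.TensorProduct.comm A (EGA4.Cpl Ap) D) _)) = _
    rw [AlgEquiv.apply_symm_apply, Submodule.Quotient.eq, ← hsum, sub_add_cancel_left]
    exact neg_mem hw
  have hsurj : Function.Surjective f := fun x => by
    have h : (⊤ : Submodule (EGA4.Cpl Ap) (EGA4.Cpl DP)) ≤ S :=
      Submodule.le_of_le_smul_of_le_jacobson_bot Module.Finite.fg_top (IsLocalRing.maximalIdeal_le_jacobson _) hsup
    exact h (Submodule.mem_top (x := x))
  -- localization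
  have hu : ∀ y : n.primeCompl, IsUnit (f.toRingHom y) := fun y => IsLocalRing.notMem_maximalIdeal.mp y.2
  let F : Localization.AtPrime n →+* EGA4.Cpl DP := IsLocalization.lift hu
  have hF : ∀ γ, F (algebraMap _ _ γ) = f γ := fun γ => IsLocalization.lift_eq hu γ
  haveI : IsNoetherianRing (Localization.AtPrime n) :=
    IsLocalization.isNoetherianRing n.primeCompl _ inferInstance
  have hinj : Function.Injective F := by
    refine (injective_iff_map_eq_zero F).mpr fun z hz => ?_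
    obtain ⟨γ, y, rfl⟩ := IsLocalization.exists_mk'_eq n.primeCompl z
    have hfγ : f γ = 0 := by
      have h1 := congrArg F (IsLocalization.mk'_spec (Localization.AtPrime n) γ y)
      rw [map_mul, hz, zero_mul, hF] at h1
      exact h1.symm
    rw [IsLocalization.mk'_eq_mul_mk'_one]
    suffices h0 : algebraMap (D ⊗[A] EGA4.Cpl Ap) (Localization.AtPrime n) γ = 0 by rw [h0, zero_mul]
    rw [← Submodule.mem_bot (Localization.AtPrime n), ← Ideal.iInf_pow_eq_bot_of_isLocalRing (maximalIdeal (Localization.AtPrime n))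
      (maximalIdeal.isMaximal _).ne_top, Submodule.mem_iInf]
    intro k
    rw [← Localization.AtPrime.map_eq_maximalIdeal (I := n), ← Ideal.map_pow,
      IsLocalization.algebraMap_mem_map_algebraMap_iff n.primeCompl]
    obtain ⟨s, hs, d, hd⟩ := exists_approx p γ k
    have hd' : s • γ - d ⊗ₜ (1 : EGA4.Cpl Ap) ∈ n ^ k := Ideal.pow_right_mono hm k hd
    have hfd : algebraMap D (EGA4.Cpl DP) d ∈ maximalIdeal (EGA4.Cpl DP) ^ k := by
      have h1 := hf_ms k (Ideal.mem_map_of_mem f.toRingHom hd')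
      rw [Algebra.smul_def, map_sub, map_mul] at h1
      change f _ * f γ - f (d ⊗ₜ 1) ∈ _ at h1
      rwa [hfγ, mul_zero, zero_sub, neg_mem_iff, hfC] at h1
    rw [IsScalarTower.algebraMap_apply D DP (EGA4.Cpl DP)] at hfd
    have hdk := hcD k _ hfd
    rw [← Localization.AtPrime.map_eq_maximalIdeal (I := P), ← Ideal.map_pow,
      IsLocalization.algebraMap_mem_map_algebraMap_iff P.primeCompl] at hdk
    obtain ⟨σ, hσ, hσd⟩ := hdk
    refine ⟨(σ ⊗ₜ 1) * algebraMap A _ s, ?_, ?_⟩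
    · intro h
      rcases Ideal.IsPrime.mem_or_mem ‹n.IsPrime› h with h | h
      · have h' : σ ∈ n.comap (algebraMap D (D ⊗[A] EGA4.Cpl Ap)) := h
        rw [hnP] at h'
        exact hσ h'
      · apply hs
        rw [← hP, ← hnP, Ideal.comap_comap, ← IsScalarTower.algebraMap_eq]
        exact h
    · have h2 : σ ⊗ₜ[A] (1 : EGA4.Cpl Ap) * d ⊗ₜ 1 ∈ n ^ k := by
        rw [Algebra.TensorProduct.tmul_mul_tmul, mul_one]
        have h3 : (P ^ k).map (algebraMap D (D ⊗[A] EGA4.Cpl Ap)) ≤ n ^ k := by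
          rw [Ideal.map_pow]
          exact Ideal.pow_right_mono (Ideal.map_le_iff_le_comap.mpr hnP.ge) k
        exact h3 (Ideal.mem_map_of_mem _ hσd)
      have h4 : σ ⊗ₜ[A] (1 : EGA4.Cpl Ap) * algebraMap A _ s * γ =
          σ ⊗ₜ[A] (1 : EGA4.Cpl Ap) * (s • γ - d ⊗ₜ 1) + σ ⊗ₜ[A] (1 : EGA4.Cpl Ap) * d ⊗ₜ 1 := by
        rw [Algebra.smul_def]; ring
      rw [h4]
      exact add_mem (Ideal.mul_mem_left _ _ hd') h2
  refine ⟨n, inferInstance, hnP, RingEquiv.ofBijective F ⟨hinj, fun x => ?_⟩, fun d => (hF _).trans (hfC d)⟩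
  obtain ⟨γ, rfl⟩ := hsurj x
  exact ⟨_, hF γ⟩

end Groth.L06.CplFinite
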