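import Mathlib.RingTheory.AdicCompletion.AsTensorProduct
import Mathlib.RingTheory.AdicCompletion.Algebra
import Mathlib.RingTheory.AdicCompletion.RingHom
import Mathlib.RingTheory.Spectrum.Maximal.Defs
import Mathlib.RingTheory.Jacobson.Ideal
import Mathlib.RingTheory.Ideal.GoingUp
import Mathlib.RingTheory.Finiteness.Ideal
import Mathlib.RingTheory.Noetherian.Basic

/-! Completion of a finite algebra over a semi-local ring at its Jacobson radical. -/

set_option autoImplicit false
set_option maxSynthPendingDepth 3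
set_option linter.style.haveILetI false
noncomputable section
universe u
open TensorProduct

namespace Groth.L06.CplFiniteSemi

variable (A : Type u) [CommRing A] [IsNoetherianRing A]
  (C : Type u) [CommRing C] [Algebra A C] [Module.Finite A C]

theorem exists_equiv (m : Ideal A) (J : Ideal C) (hle0 : m.map (algebraMap A C) ≤ J) {k : ℕ} (hk : 0 < k)
    (hkle : J ^ k ≤ m.map (algebraMap A C)) :
    ∃ Φ : AdicCompletion m A ⊗[A] C →ₐ[A] AdicCompletion J C, Function.Bijective Φ ∧
      ∀ c : C, Φ (1 ⊗ₜ c) = algebraMap C (AdicCompletion J C) c := by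
  have hmJ : ∀ n, m ^ n ≤ (J ^ n).comap (algebraMap A C) := fun n => by
    rw [← Ideal.map_le_iff_le_comap, Ideal.map_pow]
    exact Ideal.pow_right_mono hle0 n
  let f : (n : ℕ) → AdicCompletion m A →ₐ[A] C ⧸ J ^ n := fun n =>
    (Ideal.quotientMapₐ (J ^ n) (Algebra.ofId A C) (hmJ n)).comp (AdicCompletion.evalₐ m n)
  have hfmk : ∀ (n : ℕ) (a : AdicCompletion.AdicCauchySequence m A),
      f n (AdicCompletion.mk m A a) = Ideal.Quotient.mk (J ^ n) (algebraMap A C (a.val n)) := fun n a => by
    show Ideal.quotientMapₐ (J ^ n) (Algebra.ofId A C) (hmJ n) (AdicCompletion.evalₐ m n (AdicCompletion.mk m A a)) = _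
    rw [AdicCompletion.evalₐ_mk]
    rfl
  have hf : ∀ {i j : ℕ} (hle : i ≤ j), (Ideal.Quotient.factorPow J hle).comp (f j).toRingHom = (f i).toRingHom := by
    intro i j hle
    refine RingHom.ext fun x => ?_
    obtain ⟨a, rfl⟩ := AdicCompletion.mk_surjective m A x
    show Ideal.Quotient.factorPow J hle (f j (AdicCompletion.mk m A a)) = f i (AdicCompletion.mk m A a)
    rw [hfmk, hfmk]
    have h2 := congrArg (Ideal.quotientMap (J ^ i) (algebraMap A C) (hmJ i)) (AdicCompletion.Ideal.mk_eq_mk m hle a)
    rw [Ideal.quotientMap_mk, Ideal.quotientMap_mk] at h2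
    exact h2
  let g : AdicCompletion m A →+* AdicCompletion J C := AdicCompletion.liftRingHom J (fun n => (f n).toRingHom) hf
  have hg : ∀ n x, AdicCompletion.evalₐ J n (g x) = f n x := fun n x => AdicCompletion.evalₐ_liftRingHom J _ hf n x
  let G : AdicCompletion m A →ₐ[A] AdicCompletion J C :=
    { g with
      commutes' := fun r => AdicCompletion.ext_evalₐ fun n => by
        show AdicCompletion.evalₐ J n (g (algebraMap A _ r)) = _
        rw [hg, AlgHom.commutes, IsScalarTower.algebraMap_apply A C (AdicCompletion J C), AlgHom.commutes]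
        rfl }
  let Φ : AdicCompletion m A ⊗[A] C →ₐ[A] AdicCompletion J C :=
    Algebra.TensorProduct.lift G (IsScalarTower.toAlgHom A C (AdicCompletion J C)) fun _ _ => Commute.all _ _
  have hsub : ∀ n, (m ^ n • ⊤ : Submodule A C) ≤ (J ^ n).restrictScalars A := fun n => by
    refine Submodule.smul_le.mpr fun a ha c _ => ?_
    rw [Submodule.restrictScalars_mem, Algebra.smul_def]
    exact Ideal.mul_mem_right _ _ (hmJ n ha)
  let π : (n : ℕ) → (C ⧸ (m ^ n • ⊤ : Submodule A C)) →ₗ[A] C ⧸ J ^ n := fun n =>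
    Submodule.liftQ _ ((Ideal.Quotient.mkₐ A (J ^ n)).toLinearMap) (fun c hc => by
      rw [LinearMap.mem_ker]
      exact Ideal.Quotient.eq_zero_iff_mem.mpr (hsub n hc))
  have hrel : ∀ n z, AdicCompletion.evalₐ J n (Φ z) = π n ((AdicCompletion.ofTensorProduct m C z).val n) := by
    intro n z
    induction z using TensorProduct.induction_on with
    | zero => simp only [map_zero]; exact (map_zero (π n)).symm
    | tmul x c =>
      obtain ⟨a, rfl⟩ := AdicCompletion.mk_surjective m A x
      rw [Algebra.TensorProduct.lift_tmul, map_mul]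
      show AdicCompletion.evalₐ J n (g _) * AdicCompletion.evalₐ J n (algebraMap C _ c) = _
      rw [hg, AlgHom.commutes, hfmk, AdicCompletion.ofTensorProduct_tmul, Ideal.Quotient.algebraMap_eq]
      show _ = π n (Submodule.Quotient.mk (a.val n • c))
      rw [← map_mul, ← Algebra.smul_def]
      rfl
    | add x y hx hy =>
      rw [map_add, map_add, hx, hy, map_add, AdicCompletion.val_add_apply, map_add]
  have hb := AdicCompletion.ofTensorProduct_bijective_of_finite_of_isNoetherian m C
  have hJm : ∀ n, (J ^ (k * n)).restrictScalars A ≤ (m ^ n • ⊤ : Submodule A C) := fun n c hc => by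
    rw [Ideal.smul_top_eq_map, Submodule.restrictScalars_mem, Ideal.map_pow]
    rw [Submodule.restrictScalars_mem, pow_mul] at hc
    exact Ideal.pow_right_mono hkle n hc
  have hinj : Function.Injective Φ := by
    refine (injective_iff_map_eq_zero Φ).mpr fun z hz => hb.1 ?_
    rw [map_zero]
    refine AdicCompletion.ext fun n => ?_
    have h1 := hrel (k * n) z
    rw [hz, map_zero] at h1
    obtain ⟨c, hc⟩ := Submodule.Quotient.mk_surjective _ ((AdicCompletion.ofTensorProduct m C z).val (k * n))
    rw [← hc] at h1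
    have h2 : c ∈ J ^ (k * n) := Ideal.Quotient.eq_zero_iff_mem.mp h1.symm
    have hle : n ≤ k * n := Nat.le_mul_of_pos_left n hk
    rw [← AdicCompletion.transitionMap_comp_eval_apply m C hle (AdicCompletion.ofTensorProduct m C z)] at *
    show AdicCompletion.transitionMap m C hle ((AdicCompletion.ofTensorProduct m C z).val (k * n)) = 0
    rw [← hc]
    exact (Submodule.Quotient.mk_eq_zero _).mpr (hJm n h2)
  have hsurj : Function.Surjective Φ := by
    intro y
    obtain ⟨b, rfl⟩ := AdicCompletion.mk_surjective J C y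
    have hcauchy : AdicCompletion.IsAdicCauchy m C fun n => b.val (k * n) := fun {i j} hle => by
      refine SModEq.sub_mem.mpr (hJm i ?_)
      have := SModEq.sub_mem.mp (b.property (Nat.mul_le_mul_left k hle))
      rw [smul_eq_mul, Ideal.mul_top] at this
      exact this
    obtain ⟨z, hz⟩ := hb.2 (AdicCompletion.mk m C ⟨_, hcauchy⟩)
    refine ⟨z, AdicCompletion.ext_evalₐ fun n => ?_⟩
    rw [hrel, hz, AdicCompletion.evalₐ_mk]
    show Ideal.Quotient.mk (J ^ n) (b.val (k * n)) = _
    rw [Ideal.Quotient.eq]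
    have := SModEq.sub_mem.mp (b.property (Nat.le_mul_of_pos_left n hk)).symm
    rw [smul_eq_mul, Ideal.mul_top] at this
    exact this
  refine ⟨Φ, ⟨hinj, hsurj⟩, fun c => ?_⟩
  rw [Algebra.TensorProduct.lift_tmul, map_one, one_mul]
  rfl

theorem map_jacobson_le : (⊥ : Ideal A).jacobson.map (algebraMap A C) ≤ (⊥ : Ideal C).jacobson := by
  refine le_sInf fun M hM => Ideal.map_le_iff_le_comap.mpr ?_
  haveI := hM.2
  exact sInf_le ⟨bot_le, Ideal.isMaximal_comap_of_isIntegral_of_isMaximal (R := A) M⟩

theorem exists_pow_le [Finite (MaximalSpectrum A)] :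
    ∃ k, 0 < k ∧ (⊥ : Ideal C).jacobson ^ k ≤ (⊥ : Ideal A).jacobson.map (algebraMap A C) := by
  classical
  haveI : IsNoetherianRing C := IsNoetherianRing.of_finite A C
  have hrad : (⊥ : Ideal C).jacobson ≤ ((⊥ : Ideal A).jacobson.map (algebraMap A C)).radical := by
    rw [Ideal.radical_eq_sInf]
    refine le_sInf fun P hP => sInf_le ⟨bot_le, ?_⟩
    haveI := hP.2
    haveI := Fintype.ofFinite (MaximalSpectrum A)
    have hinf : (Finset.univ : Finset (MaximalSpectrum A)).inf MaximalSpectrum.asIdeal ≤ P.comap (algebraMap A C) := by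
      refine le_trans ?_ (Ideal.map_le_iff_le_comap.mp hP.1)
      exact le_sInf fun M hM => Finset.inf_le (f := MaximalSpectrum.asIdeal) (Finset.mem_univ (⟨M, hM.2⟩ : MaximalSpectrum A))
    obtain ⟨M, -, hM⟩ := (Ideal.IsPrime.inf_le' (inferInstance : (P.comap (algebraMap A C)).IsPrime)).mp hinf
    have heq : M.asIdeal = P.comap (algebraMap A C) := M.isMaximal.eq_of_le Ideal.IsPrime.ne_top' hM
    exact Ideal.isMaximal_of_isIntegral_of_isMaximal_comap (R := A) P (heq ▸ M.isMaximal)
  obtain ⟨k, hk⟩ := Ideal.exists_pow_le_of_le_radical_of_fg hrad (IsNoetherian.noetherian _)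
  exact ⟨k + 1, k.succ_pos, (Ideal.pow_le_pow_right k.le_succ).trans hk⟩

end Groth.L06.CplFiniteSemi
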