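import Groth.Prelude.Def_EGA41
import Groth.Agent.L12.PSRing
import Mathlib.RingTheory.AdicCompletion.Algebra
import Mathlib.RingTheory.Kaehler.Basic
import Mathlib.RingTheory.Ideal.Cotangent
import Mathlib.RingTheory.MvPowerSeries.Derivative
import Mathlib.Algebra.TrivSqZeroExt.Basic
import Mathlib.LinearAlgebra.TensorProduct.Quotient

/-! Completed modules of differentials. -/

set_option autoImplicit false
set_option maxSynthPendingDepth 3
set_option linter.style.haveILetI false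
universe u

namespace Groth.L06.CplKaehler

open scoped TensorProduct

section module

variable {B : Type u} [CommRing B] (I : Ideal B) {N : Type u} [AddCommGroup N] [Module B N]

theorem pow_step {r : ℕ} (g : Fin r → N) (hg : Submodule.span B (Set.range g) ⊔ I • (⊤ : Submodule B N) = ⊤)
    (n : ℕ) {z : N} (hz : z ∈ I ^ n • (⊤ : Submodule B N)) :
    ∃ c : Fin r → B, (∀ j, c j ∈ I ^ n) ∧ z - ∑ j, c j • g j ∈ I ^ (n + 1) • (⊤ : Submodule B N) := by
  rw [← hg, Submodule.smul_sup, ← Submodule.smul_assoc, smul_eq_mul, ← pow_succ] at hz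
  obtain ⟨w, hw, w', hw', rfl⟩ := Submodule.mem_sup.mp hz
  have key : ∀ w ∈ I ^ n • Submodule.span B (Set.range g), ∃ c : Fin r → B, (∀ j, c j ∈ I ^ n) ∧ w = ∑ j, c j • g j := by
    intro w hw
    refine Submodule.smul_induction_on hw (fun a ha v hv => ?_) (fun x y ⟨c, hc, hx⟩ ⟨d, hd, hy⟩ => ?_)
    · obtain ⟨c, hc⟩ := (Submodule.mem_span_range_iff_exists_fun B).mp hv
      refine ⟨fun j => a * c j, fun j => Ideal.mul_mem_right _ _ ha, ?_⟩
      rw [← hc, Finset.smul_sum]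
      exact Finset.sum_congr rfl fun j _ => smul_smul _ _ _
    · refine ⟨c + d, fun j => add_mem (hc j) (hd j), ?_⟩
      rw [hx, hy, ← Finset.sum_add_distrib]
      exact Finset.sum_congr rfl fun j _ => (add_smul _ _ _).symm
  obtain ⟨c, hc, rfl⟩ := key w hw
  exact ⟨c, hc, by rwa [add_sub_cancel_left]⟩

/-- `b ↦ ∑ b j • g j` into the completion -/
noncomputable def linMap {r : ℕ} (g : Fin r → N) : (Fin r → B) →ₗ[B] AdicCompletion I N :=
  (AdicCompletion.of I N).comp (Fintype.linearCombination B g)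

theorem val_linMap {r : ℕ} (g : Fin r → N) (b : Fin r → B) (n : ℕ) :
    (linMap I g b).val n = Submodule.Quotient.mk (∑ j, b j • g j) := by
  show (AdicCompletion.of I N (Fintype.linearCombination B g b)).val n = _
  rw [Fintype.linearCombination_apply]
  rfl

theorem linMap_surjective [IsAdicComplete I B] {r : ℕ} (g : Fin r → N)
    (hg : Submodule.span B (Set.range g) ⊔ I • (⊤ : Submodule B N) = ⊤) : Function.Surjective (linMap I g) := by
  intro x
  obtain ⟨c, rfl⟩ := AdicCompletion.mk_surjective I N x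
  let Q : ℕ → (Fin r → B) → Prop := fun n b => c n - ∑ j, b j • g j ∈ I ^ n • (⊤ : Submodule B N)
  have step : ∀ n (b : Fin r → B), Q n b → ∃ b', Q (n + 1) b' ∧ ∀ j, b' j - b j ∈ I ^ n := by
    intro n b hb
    have h1 : c n - c (n + 1) ∈ I ^ n • (⊤ : Submodule B N) := SModEq.sub_mem.mp (c.2 (Nat.le_succ n))
    obtain ⟨d, hd, hd'⟩ := pow_step I g hg n (z := c (n + 1) - ∑ j, b j • g j) (by
      rw [show c (n + 1) - ∑ j, b j • g j = (c n - ∑ j, b j • g j) - (c n - c (n + 1)) by abel]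
      exact sub_mem hb h1)
    refine ⟨b + d, ?_, fun j => by simpa using hd j⟩
    show c (n + 1) - ∑ j, (b + d) j • g j ∈ _
    simp only [Pi.add_apply, add_smul, Finset.sum_add_distrib]
    rwa [← sub_sub]
  choose next hnext hnext' using step
  let seq : ∀ n, {b // Q n b} := fun n => Nat.rec (motive := fun n => {b // Q n b})
    ⟨0, by show _ ∈ _; rw [pow_zero, Ideal.one_eq_top, Submodule.top_smul]; trivial⟩
    (fun n b => ⟨next n b.1 b.2, hnext n b.1 b.2⟩) n
  have hcauchy : ∀ j m n, m ≤ n → (seq n).1 j - (seq m).1 j ∈ I ^ m := by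
    intro j m n h
    induction n, h using Nat.le_induction with
    | base => rw [sub_self]; exact zero_mem _
    | succ n hmn ih =>
      rw [← sub_add_sub_cancel ((seq (n + 1)).1 j) ((seq n).1 j)]
      exact add_mem (Ideal.pow_le_pow_right hmn (hnext' n _ _ j)) ih
  have hlim : ∀ j, ∃ L : B, ∀ n, (seq n).1 j - L ∈ I ^ n := fun j => by
    obtain ⟨L, hL⟩ := IsPrecomplete.prec (I := I) (M := B) inferInstance (f := fun n => (seq n).1 j) fun {m n} hmn => by
      rw [SModEq.sub_mem, smul_eq_mul, Ideal.mul_top, ← neg_sub]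
      exact neg_mem (hcauchy j m n hmn)
    exact ⟨L, fun n => by simpa [SModEq.sub_mem] using hL n⟩
  choose L hL using hlim
  refine ⟨L, AdicCompletion.ext fun n => ?_⟩
  rw [val_linMap]
  show Submodule.Quotient.mk _ = Submodule.Quotient.mk (c n)
  rw [eq_comm, Submodule.Quotient.eq,
    show c n - ∑ j, L j • g j = (c n - ∑ j, (seq n).1 j • g j) + ∑ j, ((seq n).1 j - L j) • g j by
      simp only [sub_smul, Finset.sum_sub_distrib]; abel]
  exact add_mem (seq n).2 (Submodule.sum_mem _ fun j _ => Submodule.smul_mem_smul (hL j n) trivial)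

theorem finite_completion [IsAdicComplete I B] {r : ℕ} (g : Fin r → N)
    (hg : Submodule.span B (Set.range g) ⊔ I • (⊤ : Submodule B N) = ⊤) : Module.Finite B (AdicCompletion I N) :=
  Module.Finite.of_surjective (linMap I g) (linMap_surjective I g hg)

theorem free_completion [IsAdicComplete I B] [Nontrivial B] {r : ℕ} (g : Fin r → N)
    (hg : Submodule.span B (Set.range g) ⊔ I • (⊤ : Submodule B N) = ⊤)
    (hind : ∀ (n : ℕ) (b : Fin r → B), ∑ j, b j • g j ∈ I ^ n • (⊤ : Submodule B N) → ∀ j, b j ∈ I ^ n) :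
    Module.Finite B (AdicCompletion I N) ∧ Module.Free B (AdicCompletion I N) ∧
      Module.finrank B (AdicCompletion I N) = r := by
  have hinj : Function.Injective (linMap I g) := (injective_iff_map_eq_zero _).mpr fun b hb => funext fun j => by
    refine IsHausdorff.haus (I := I) inferInstance _ fun n => ?_
    rw [SModEq.sub_mem, sub_zero, smul_eq_mul, Ideal.mul_top]
    refine hind n b ?_ j
    have h1 : (linMap I g b).val n = 0 := by rw [hb]; rfl
    rw [val_linMap] at h1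
    exact (Submodule.Quotient.mk_eq_zero _).mp h1
  let e := LinearEquiv.ofBijective _ ⟨hinj, linMap_surjective I g hg⟩
  exact ⟨finite_completion I g hg, Module.Free.of_equiv e, by rw [← e.finrank_eq, Module.finrank_fin_fun]⟩

theorem subsingleton_completion_iff :
    Subsingleton (AdicCompletion I N) ↔ ∀ n, I ^ n • (⊤ : Submodule B N) = ⊤ := by
  constructor
  · intro h n
    refine Submodule.eq_top_iff'.mpr fun z => ?_
    have h1 := congrArg (fun x => x.val n) (Subsingleton.elim (AdicCompletion.of I N z) 0)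
    exact (Submodule.Quotient.mk_eq_zero _).mp h1
  · intro h
    refine ⟨fun x y => AdicCompletion.ext fun n => ?_⟩
    haveI : Subsingleton (N ⧸ (I ^ n • ⊤ : Submodule B N)) := Submodule.Quotient.subsingleton_iff.mpr (h n)
    exact Subsingleton.elim _ _

end module

section kaehler

variable {A B : Type u} [CommRing A] [CommRing B] [Algebra A B] (I : Ideal B)

theorem der_pow_mem {L : Type u} [AddCommGroup L] [Module B L] [Module A L] (D : Derivation A B L) (n : ℕ) :
    ∀ x ∈ I ^ (n + 1), D x ∈ I ^ n • (⊤ : Submodule B L) := by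
  induction n with
  | zero => intro x _; rw [pow_zero, Ideal.one_eq_top, Submodule.top_smul]; trivial
  | succ n ih =>
    intro x hx
    rw [pow_succ] at hx
    refine Submodule.mul_induction_on hx (fun a ha b hb => ?_) (fun a b ha hb => by rw [map_add]; exact add_mem ha hb)
    rw [D.leibniz]
    refine add_mem (Submodule.smul_mem_smul ha trivial) ?_
    rw [pow_succ', ← smul_eq_mul I, Submodule.smul_assoc]
    exact Submodule.smul_mem_smul hb (ih a ha)

theorem mem_smul_top_of_tmul_eq_zero {N : Type u} [AddCommGroup N] [Module B N] {z : N}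
    (h : (1 : B ⧸ I) ⊗ₜ[B] z = 0) : z ∈ I • (⊤ : Submodule B N) := by
  rw [← Submodule.Quotient.mk_eq_zero, ← TensorProduct.quotTensorEquivQuotSMul_mk_one_tmul I z]
  exact (congrArg _ h).trans (map_zero _)

theorem exists_generators [Module.Finite (B ⧸ I) (Ω[B ⧸ I⁄A])] [Module.Finite (B ⧸ I) I.Cotangent] :
    ∃ (r : ℕ) (g : Fin r → Ω[B⁄A]), Submodule.span B (Set.range g) ⊔ I • (⊤ : Submodule B (Ω[B⁄A])) = ⊤ := by
  classical
  haveI : Module.Finite B (Ω[B ⧸ I⁄A]) := Module.Finite.trans (B ⧸ I) _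
  haveI : Module.Finite B I.Cotangent := Module.Finite.trans (B ⧸ I) _
  obtain ⟨s, w, hw⟩ := Module.Finite.exists_fin (R := B) (M := Ω[B ⧸ I⁄A])
  obtain ⟨t, v, hv⟩ := Module.Finite.exists_fin (R := B) (M := I.Cotangent)
  choose g hg using fun i => KaehlerDifferential.map_surjective_of_surjective A A B (B ⧸ I) Ideal.Quotient.mk_surjective (w i)
  choose e he using fun i => I.toCotangent_surjective (v i)
  refine ⟨s + t, Fin.append g fun i => KaehlerDifferential.D A B (e i : B), ?_⟩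
  let T := Submodule.span B (Set.range (Fin.append g fun i => KaehlerDifferential.D A B (e i : B))) ⊔ I • (⊤ : Submodule B (Ω[B⁄A]))
  have hgT : ∀ i, g i ∈ T := fun i => Submodule.mem_sup_left (Submodule.subset_span ⟨i.castAdd t, Fin.append_left _ _ i⟩)
  have hIT : ∀ z ∈ I • (⊤ : Submodule B (Ω[B⁄A])), z ∈ T := fun z hz => Submodule.mem_sup_right hz
  have hxT : ∀ x : I, KaehlerDifferential.D A B (x : B) ∈ T := by
    intro x
    obtain ⟨c, hc⟩ := (Submodule.mem_span_range_iff_exists_fun B).mp (show I.toCotangent x ∈ Submodule.span B (Set.range v) by rw [hv]; exact Submodule.mem_top)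
    have h1 : (x : B) - ∑ i, c i * (e i : B) ∈ I ^ 2 := by
      have h2 : I.toCotangent x = I.toCotangent (∑ i, c i • e i) := by
        rw [map_sum, ← hc]
        exact Finset.sum_congr rfl fun i _ => by rw [map_smul, he]
      rw [Ideal.toCotangent_eq, AddSubmonoidClass.coe_finsetSum] at h2
      exact h2
    rw [← sub_add_cancel (x : B) (∑ i, c i * (e i : B)), map_add, map_sum]
    refine add_mem (hIT _ (by simpa [pow_one] using der_pow_mem I (KaehlerDifferential.D A B) 1 _ h1)) (Submodule.sum_mem _ fun i _ => ?_)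
    rw [Derivation.leibniz]
    exact add_mem (Submodule.smul_mem _ _ (Submodule.mem_sup_left (Submodule.subset_span ⟨i.natAdd s, Fin.append_right _ _ i⟩)))
      (hIT _ (Submodule.smul_mem_smul (e i).2 trivial))
  refine Submodule.eq_top_iff'.mpr fun z => ?_
  obtain ⟨b, hb⟩ := (Submodule.mem_span_range_iff_exists_fun B).mp
    (show KaehlerDifferential.map A A B (B ⧸ I) z ∈ Submodule.span B (Set.range w) by rw [hw]; exact Submodule.mem_top)
  let z0 := z - ∑ i, b i • g i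
  have hz0 : KaehlerDifferential.mapBaseChange A B (B ⧸ I) ((1 : B ⧸ I) ⊗ₜ[B] z0) = 0 := by
    rw [KaehlerDifferential.mapBaseChange_tmul, one_smul, map_sub, map_sum, sub_eq_zero, ← hb]
    exact Finset.sum_congr rfl fun i _ => by rw [map_smul, hg]
  obtain ⟨c, hc⟩ := (KaehlerDifferential.exact_kerCotangentToTensor_mapBaseChange A B (B ⧸ I) Ideal.Quotient.mk_surjective _).mp hz0
  obtain ⟨⟨x, hx⟩, rfl⟩ := Ideal.toCotangent_surjective _ c
  rw [KaehlerDifferential.kerCotangentToTensor_toCotangent] at hc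
  have hxI : x ∈ I := Ideal.Quotient.eq_zero_iff_mem.mp hx
  have h3 : z0 - KaehlerDifferential.D A B x ∈ T := hIT _ (mem_smul_top_of_tmul_eq_zero I (by
    rw [TensorProduct.tmul_sub, ← hc, sub_self]))
  have h4 : z0 ∈ T := by simpa using add_mem h3 (hxT ⟨x, hxI⟩)
  have h5 : z = z0 + ∑ i, b i • g i := (sub_add_cancel _ _).symm
  rw [h5]
  exact add_mem h4 (Submodule.sum_mem _ fun i _ => Submodule.smul_mem _ _ (hgT i))

theorem finite_completedKaehler [IsAdicComplete I B] [Module.Finite (B ⧸ I) (Ω[B ⧸ I⁄A])]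
    [Module.Finite (B ⧸ I) I.Cotangent] : Module.Finite B (AdicCompletion I (Ω[B⁄A])) := by
  obtain ⟨r, g, hg⟩ := exists_generators (A := A) I
  exact finite_completion I g hg

theorem eq_top_of_D_mem {T : Submodule B (Ω[B⁄A])} (h : ∀ b, KaehlerDifferential.D A B b ∈ T) : T = ⊤ :=
  top_le_iff.mp ((KaehlerDifferential.span_range_derivation A B).symm.trans_le
    (Submodule.span_le.mpr (Set.range_subset_iff.mpr h)))

/-- equal lifts when differentials vanish mod `𝔟` -/
theorem eq_of_top {E : Type u} [CommRing E] [Algebra A E] (J : Ideal E) (hJ : IsNilpotent J) {m : ℕ}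
    (hΩ : I ^ m • (⊤ : Submodule B (Ω[B⁄A])) = ⊤) (v₁ v₂ : B →ₐ[A] E) (h1 : ∀ x ∈ I ^ m, v₁ x = 0)
    (h : ∀ b, Ideal.Quotient.mk J (v₁ b) = Ideal.Quotient.mk J (v₂ b)) : v₁ = v₂ := by
  have key : ∀ j, 1 ≤ j → ∀ b, v₁ b - v₂ b ∈ J ^ j := by
    intro j hj
    induction j, hj using Nat.le_induction with
    | base => exact fun b => by rw [pow_one]; exact Ideal.Quotient.eq.mp (h b)
    | succ j hj ih =>
      let q := Ideal.Quotient.mk (J ^ (j + 1))
      letI : Algebra B (E ⧸ J ^ (j + 1)) := (q.comp v₁.toRingHom).toAlgebra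
      haveI : IsScalarTower A B (E ⧸ J ^ (j + 1)) := IsScalarTower.of_algebraMap_eq fun a => by
        show q (algebraMap A E a) = q (v₁ (algebraMap A B a))
        rw [v₁.commutes]
      let D : Derivation A B (E ⧸ J ^ (j + 1)) := Derivation.mk'
        (((Ideal.Quotient.mkₐ A _).comp v₁).toLinearMap - ((Ideal.Quotient.mkₐ A _).comp v₂).toLinearMap) fun a b => by
          show q (v₁ (a * b)) - q (v₂ (a * b)) = q (v₁ a) * (q (v₁ b) - q (v₂ b)) + q (v₁ b) * (q (v₁ a) - q (v₂ a))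
          have h0 : q ((v₁ a - v₂ a) * (v₁ b - v₂ b)) = 0 := Ideal.Quotient.eq_zero_iff_mem.mpr
            (Ideal.pow_le_pow_right (show j + 1 ≤ j + j by omega) (pow_add J j j ▸ Ideal.mul_mem_mul (ih a) (ih b)))
          simp only [map_mul, map_sub] at h0 ⊢
          linear_combination (-1 : E ⧸ J ^ (j + 1)) * h0
      intro b
      have hb : KaehlerDifferential.D A B b ∈ I ^ m • (⊤ : Submodule B (Ω[B⁄A])) := by rw [hΩ]; exact Submodule.mem_top
      have h3 := Submodule.mem_map_of_mem (f := D.liftKaehlerDifferential) hb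
      rw [Submodule.map_smul'', Derivation.liftKaehlerDifferential_comp_D] at h3
      have h4 : ∀ w ∈ I ^ m • Submodule.map D.liftKaehlerDifferential ⊤, w = 0 := fun w hw =>
        Submodule.smul_induction_on hw (fun a ha y _ => by
          show q (v₁ a) * y = 0
          rw [h1 a ha, map_zero, zero_mul]) (fun x y hx hy => by rw [hx, hy, add_zero])
      exact Ideal.Quotient.eq.mp (sub_eq_zero.mp (h4 _ h3))
  obtain ⟨n, hn⟩ := hJ
  refine AlgHom.ext fun b => sub_eq_zero.mp ?_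
  have h5 := Ideal.pow_le_pow_right (show n ≤ n + 1 by omega) (key (n + 1) (by omega) b)
  rwa [hn] at h5

theorem der_zero_of_unique {A B : Type u} [CommRing A] [CommRing B] [Algebra A B] (𝔞 : Ideal A) (𝔟 : Ideal B)
    (hAB : ∃ k : ℕ, (𝔞 ^ k).map (algebraMap A B) ≤ 𝔟) (n : ℕ)
    (h : ∀ (E : Type u) [CommRing E] [Algebra A E], (∃ k : ℕ, (𝔞 ^ k).map (algebraMap A E) = ⊥) →
      ∀ J : Ideal E, IsNilpotent J → ∀ v₁ v₂ : B →ₐ[A] E,
        (∃ m : ℕ, ∀ x ∈ 𝔟 ^ m, v₁ x = 0) → (∃ m : ℕ, ∀ x ∈ 𝔟 ^ m, v₂ x = 0) →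
        (∀ b : B, Ideal.Quotient.mk J (v₁ b) = Ideal.Quotient.mk J (v₂ b)) → v₁ = v₂)
    {Q : Type u} [AddCommGroup Q] [Module B Q] [Module A Q] [IsScalarTower A B Q] [Module Bᵐᵒᵖ Q] [IsCentralScalar B Q]
    (Dq : Derivation A B Q) (hQ : ∀ b ∈ 𝔟 ^ n, ∀ y : Q, b • y = 0) (b : B) : Dq b = 0 := by
  have hQ' : ∀ x ∈ 𝔟 ^ (n + 1), ∀ y : Q, x • y = 0 := fun x hx => hQ x (Ideal.pow_le_pow_right (Nat.le_succ n) hx)
  have hD : ∀ x ∈ 𝔟 ^ (n + 1), Dq x = 0 := fun x hx =>
    Submodule.smul_induction_on (der_pow_mem 𝔟 Dq n x hx) (fun c hc y _ => hQ c hc y)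
      (fun x y hx hy => by rw [hx, hy, add_zero])
  let i1 : B →ₐ[A] TrivSqZeroExt B Q := IsScalarTower.toAlgHom A B (TrivSqZeroExt B Q)
  let i2 : B →ₐ[A] TrivSqZeroExt B Q :=
    { toFun := fun a => TrivSqZeroExt.inl a + TrivSqZeroExt.inr (Dq a)
      map_one' := by rw [Dq.map_one_eq_zero, TrivSqZeroExt.inr_zero, add_zero, TrivSqZeroExt.inl_one]
      map_mul' := fun a b => by ext <;> simp [Dq.leibniz, add_comm]
      map_zero' := by rw [map_zero, TrivSqZeroExt.inr_zero, add_zero, TrivSqZeroExt.inl_zero]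
      map_add' := fun a b => by
        rw [map_add, TrivSqZeroExt.inl_add, TrivSqZeroExt.inr_add]; abel
      commutes' := fun a => by
        rw [Dq.map_algebraMap, TrivSqZeroExt.inr_zero, add_zero]; rfl }
  let K0 : Ideal (TrivSqZeroExt B Q) := (𝔟 ^ (n + 1)).map (TrivSqZeroExt.inlHom B Q)
  let q : TrivSqZeroExt B Q →ₐ[A] TrivSqZeroExt B Q ⧸ K0 := Ideal.Quotient.mkₐ A K0
  obtain ⟨k, hk⟩ := hAB
  let J0 : Ideal (TrivSqZeroExt B Q) := RingHom.ker (TrivSqZeroExt.fstHom B B Q).toRingHom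
  have hJ : IsNilpotent (J0.map (Ideal.Quotient.mk K0)) := ⟨2, by
    show (J0.map (Ideal.Quotient.mk K0)) ^ 2 = ⊥
    rw [← Ideal.map_pow, eq_bot_iff, Ideal.map_le_iff_le_comap]
    intro z hz
    rw [show z = 0 from ?_]
    · exact zero_mem _
    · rw [pow_two] at hz
      refine Submodule.mul_induction_on hz (fun a (ha : a.fst = 0) c (hc : c.fst = 0) => ?_)
        (fun a b ha hb => by rw [ha, hb, add_zero])
      ext <;> simp [ha, hc]⟩
  have hv1 : ∀ x ∈ 𝔟 ^ (n + 1), q (i1 x) = 0 := fun x hx => Ideal.Quotient.eq_zero_iff_mem.mpr (Ideal.mem_map_of_mem _ hx)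
  have hkey := h (TrivSqZeroExt B Q ⧸ K0) ⟨k * (n + 1), by
      rw [eq_bot_iff, Ideal.map_le_iff_le_comap]
      intro a ha
      show q (algebraMap A (TrivSqZeroExt B Q) a) ∈ (⊥ : Ideal (TrivSqZeroExt B Q ⧸ K0))
      rw [← i1.commutes, hv1 _ ?_]
      · exact zero_mem _
      · have h1 := Ideal.mem_map_of_mem (algebraMap A B) ha
        rw [pow_mul, Ideal.map_pow] at h1
        exact Ideal.pow_right_mono hk _ h1⟩
    (J0.map (Ideal.Quotient.mk K0)) hJ (q.comp i1) (q.comp i2) ⟨n + 1, hv1⟩ ⟨n + 1, fun x hx => by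
      show q (i1 x + TrivSqZeroExt.inr (Dq x)) = 0
      rw [hD x hx, TrivSqZeroExt.inr_zero, add_zero, hv1 x hx]⟩ fun b => by
      refine Ideal.Quotient.eq.mpr ?_
      show Ideal.Quotient.mk K0 (i1 b) - Ideal.Quotient.mk K0 (i1 b + TrivSqZeroExt.inr (Dq b)) ∈ _
      rw [← map_sub]
      refine Ideal.mem_map_of_mem _ ?_
      show (TrivSqZeroExt.inl b - (TrivSqZeroExt.inl b + TrivSqZeroExt.inr (Dq b)) : TrivSqZeroExt B Q).fst = 0
      simp
  have h1 : (i1 b - (i1 b + TrivSqZeroExt.inr (Dq b))) ∈ K0 := Ideal.Quotient.eq.mp (DFunLike.congr_fun hkey b)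
  rw [sub_add_cancel_left] at h1
  have h2 : ∀ z ∈ K0, z.fst ∈ 𝔟 ^ (n + 1) ∧ z.snd = 0 := by
    intro z hz
    induction hz using Submodule.span_induction with
    | mem y hy => obtain ⟨a, ha, rfl⟩ := hy; exact ⟨ha, rfl⟩
    | zero => exact ⟨zero_mem _, rfl⟩
    | add a b _ _ ha hb => exact ⟨add_mem ha.1 hb.1, by rw [TrivSqZeroExt.snd_add, ha.2, hb.2, add_zero]⟩
    | smul c y _ hy =>
      rw [smul_eq_mul, TrivSqZeroExt.snd_mul, TrivSqZeroExt.fst_mul, op_smul_eq_smul, hy.2, smul_zero, zero_add,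
        hQ' _ hy.1]
      exact ⟨Ideal.mul_mem_left _ _ hy.1, rfl⟩
  simpa using (h2 _ h1).2

theorem top_of_unique {A B : Type u} [CommRing A] [CommRing B] [Algebra A B] (𝔞 : Ideal A) (𝔟 : Ideal B)
    (hAB : ∃ k : ℕ, (𝔞 ^ k).map (algebraMap A B) ≤ 𝔟) (n : ℕ)
    (h : ∀ (E : Type u) [CommRing E] [Algebra A E], (∃ k : ℕ, (𝔞 ^ k).map (algebraMap A E) = ⊥) →
      ∀ J : Ideal E, IsNilpotent J → ∀ v₁ v₂ : B →ₐ[A] E,
        (∃ m : ℕ, ∀ x ∈ 𝔟 ^ m, v₁ x = 0) → (∃ m : ℕ, ∀ x ∈ 𝔟 ^ m, v₂ x = 0) →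
        (∀ b : B, Ideal.Quotient.mk J (v₁ b) = Ideal.Quotient.mk J (v₂ b)) → v₁ = v₂) :
    𝔟 ^ n • (⊤ : Submodule B (Ω[B⁄A])) = ⊤ := by
  letI : Module Bᵐᵒᵖ (Ω[B⁄A] ⧸ (𝔟 ^ n • ⊤ : Submodule B (Ω[B⁄A]))) := Module.compHom _ ((RingHom.id B).fromOpposite mul_comm)
  haveI : IsCentralScalar B (Ω[B⁄A] ⧸ (𝔟 ^ n • ⊤ : Submodule B (Ω[B⁄A]))) := ⟨fun _ _ => rfl⟩
  refine eq_top_of_D_mem fun b => ?_
  refine (Submodule.Quotient.mk_eq_zero _).mp ?_
  exact der_zero_of_unique 𝔞 𝔟 hAB n h ((𝔟 ^ n • ⊤ : Submodule B (Ω[B⁄A])).mkQ.compDer (KaehlerDifferential.D A B))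
    (fun c hc y => by
      obtain ⟨y, rfl⟩ := Submodule.Quotient.mk_surjective _ y
      exact (Submodule.Quotient.mk_eq_zero _).mpr (Submodule.smul_mem_smul hc trivial)) b

theorem formallyUnramified_iff {A B : Type u} [CommRing A] [CommRing B] [Algebra A B] (𝔞 : Ideal A) (𝔟 : Ideal B)
    (hAB : ∃ k : ℕ, (𝔞 ^ k).map (algebraMap A B) ≤ 𝔟) :
    (∀ (E : Type u) [CommRing E] [Algebra A E], (∃ k : ℕ, (𝔞 ^ k).map (algebraMap A E) = ⊥) →
      ∀ J : Ideal E, IsNilpotent J → ∀ v₁ v₂ : B →ₐ[A] E,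
        (∃ m : ℕ, ∀ x ∈ 𝔟 ^ m, v₁ x = 0) → (∃ m : ℕ, ∀ x ∈ 𝔟 ^ m, v₂ x = 0) →
        (∀ b : B, Ideal.Quotient.mk J (v₁ b) = Ideal.Quotient.mk J (v₂ b)) → v₁ = v₂) ↔
    Subsingleton (AdicCompletion 𝔟 (Ω[B⁄A])) := by
  rw [subsingleton_completion_iff]
  exact ⟨fun h n => top_of_unique 𝔞 𝔟 hAB n h,
    fun h E _ _ _ J hJ v₁ v₂ ⟨m, hm⟩ _ h12 => eq_of_top 𝔟 J hJ (h m) v₁ v₂ hm h12⟩

theorem smul_top_eq_iff {A B : Type u} [CommRing A] [CommRing B] [Algebra A B] (𝔪 : Ideal A) :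
    (∀ n, (𝔪.map (algebraMap A B)) ^ n • (⊤ : Submodule B (Ω[B⁄A])) = ⊤) ↔
      Subsingleton (Ω[B ⧸ 𝔪.map (algebraMap A B)⁄A ⧸ 𝔪]) := by
  let 𝔟 := 𝔪.map (algebraMap A B)
  have hsurj : Function.Surjective (KaehlerDifferential.map A (A ⧸ 𝔪) B (B ⧸ 𝔟)) :=
    KaehlerDifferential.map_surjective_of_surjective A (A ⧸ 𝔪) B (B ⧸ 𝔟) Ideal.Quotient.mk_surjective
  have hk : ∀ z ∈ 𝔟 • (⊤ : Submodule B (Ω[B⁄A])), KaehlerDifferential.map A (A ⧸ 𝔪) B (B ⧸ 𝔟) z = 0 := fun z hz =>
    Submodule.smul_induction_on hz (fun a ha y _ => by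
      rw [map_smul, ← algebraMap_smul (B ⧸ 𝔟) a, Ideal.Quotient.algebraMap_eq, Ideal.Quotient.eq_zero_iff_mem.mpr ha, zero_smul])
      (fun x y hx hy => by rw [map_add, hx, hy, add_zero])
  constructor
  · intro h
    have h1 : 𝔟 • (⊤ : Submodule B (Ω[B⁄A])) = ⊤ := by rw [← pow_one 𝔟]; exact h 1
    exact ⟨fun a b => by
      obtain ⟨a, rfl⟩ := hsurj a
      obtain ⟨b, rfl⟩ := hsurj b
      rw [hk a (by rw [h1]; exact Submodule.mem_top), hk b (by rw [h1]; exact Submodule.mem_top)]⟩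
  · intro h
    let Q := Ω[B⁄A] ⧸ (𝔟 • ⊤ : Submodule B (Ω[B⁄A]))
    let Dq : Derivation A B Q := (𝔟 • ⊤ : Submodule B (Ω[B⁄A])).mkQ.compDer (KaehlerDifferential.D A B)
    have hQ : ∀ (b : B) (y : Q), b ∈ 𝔟 → b • y = 0 := fun b y hb => by
      obtain ⟨y, rfl⟩ := Submodule.Quotient.mk_surjective _ y
      exact (Submodule.Quotient.mk_eq_zero _).mpr (Submodule.smul_mem_smul hb trivial)
    letI : Module (B ⧸ 𝔟) Q := Module.IsTorsionBySet.module fun y b => hQ b.1 y b.2
    letI : Module (A ⧸ 𝔪) Q := Module.compHom Q (algebraMap (A ⧸ 𝔪) (B ⧸ 𝔟))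
    haveI : IsScalarTower (A ⧸ 𝔪) (B ⧸ 𝔟) Q := IsScalarTower.of_algebraMap_smul fun _ _ => rfl
    have hD0 : ∀ x ∈ 𝔟, Dq x = 0 := by
      intro x hx
      induction hx using Submodule.span_induction with
      | mem y hy => obtain ⟨a, _, rfl⟩ := hy; exact Dq.map_algebraMap a
      | zero => exact map_zero Dq
      | add a b _ _ ha hb => rw [map_add, ha, hb, add_zero]
      | smul c y hy' hy => rw [smul_eq_mul, Dq.leibniz, hy, smul_zero, zero_add, hQ y _ hy']
    let f : B ⧸ 𝔟 →ₗ[A] Q := ((𝔟.restrictScalars A).liftQ Dq.toLinearMap fun x hx => hD0 x hx).comp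
      (Submodule.Quotient.restrictScalarsEquiv A 𝔟).symm.toLinearMap
    have hf : ∀ z, f (Ideal.Quotient.mk 𝔟 z) = Dq z := fun _ => rfl
    have hl : ∀ (c : B) (y : Q), Ideal.Quotient.mk 𝔟 c • y = c • y := fun _ _ => rfl
    let D' : Derivation (A ⧸ 𝔪) (B ⧸ 𝔟) Q := Derivation.mk'
      { toFun := f
        map_add' := map_add f
        map_smul' := fun a z => by
          obtain ⟨a, rfl⟩ := Ideal.Quotient.mk_surjective a
          obtain ⟨z, rfl⟩ := Ideal.Quotient.mk_surjective z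
          show f (Ideal.Quotient.mk 𝔪 a • Ideal.Quotient.mk 𝔟 z) = Ideal.Quotient.mk 𝔟 (algebraMap A B a) • f (Ideal.Quotient.mk 𝔟 z)
          rw [Algebra.smul_def, show algebraMap (A ⧸ 𝔪) (B ⧸ 𝔟) (Ideal.Quotient.mk 𝔪 a) * Ideal.Quotient.mk 𝔟 z = Ideal.Quotient.mk 𝔟 (algebraMap A B a * z) from rfl]
          rw [hf, hf, hl, Dq.leibniz, Dq.map_algebraMap, smul_zero, add_zero] }
      fun x y => by
        obtain ⟨x, rfl⟩ := Ideal.Quotient.mk_surjective x
        obtain ⟨y, rfl⟩ := Ideal.Quotient.mk_surjective y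
        show f (Ideal.Quotient.mk 𝔟 x * Ideal.Quotient.mk 𝔟 y) = Ideal.Quotient.mk 𝔟 x • f (Ideal.Quotient.mk 𝔟 y) + Ideal.Quotient.mk 𝔟 y • f (Ideal.Quotient.mk 𝔟 x)
        rw [← map_mul, hf, hf, hf, hl, hl, Dq.leibniz]
    have h1 : 𝔟 • (⊤ : Submodule B (Ω[B⁄A])) = ⊤ := by
      refine eq_top_of_D_mem fun b => ?_
      refine (Submodule.Quotient.mk_eq_zero _).mp ?_
      show Dq b = 0
      rw [← hf b]
      show D' (Ideal.Quotient.mk 𝔟 b) = 0
      rw [← Derivation.liftKaehlerDifferential_comp_D D', Subsingleton.elim (KaehlerDifferential.D _ _ _) 0, map_zero]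
    intro n
    induction n with
    | zero => rw [pow_zero, Ideal.one_eq_top, Submodule.top_smul]
    | succ n ih => rw [pow_succ, ← smul_eq_mul, Submodule.smul_assoc, h1, ih]

theorem formallyUnramified_deduced_iff {A B : Type u} [CommRing A] [CommRing B] [Algebra A B] (𝔪 : Ideal A) :
    (∀ (E : Type u) [CommRing E] [Algebra A E], (∃ k : ℕ, (𝔪 ^ k).map (algebraMap A E) = ⊥) →
      ∀ J : Ideal E, IsNilpotent J → ∀ v₁ v₂ : B →ₐ[A] E,
        (∀ b : B, Ideal.Quotient.mk J (v₁ b) = Ideal.Quotient.mk J (v₂ b)) → v₁ = v₂) ↔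
    Subsingleton (Ω[B ⧸ 𝔪.map (algebraMap A B)⁄A ⧸ 𝔪]) := by
  rw [← smul_top_eq_iff, ← subsingleton_completion_iff,
    ← formallyUnramified_iff 𝔪 (𝔪.map (algebraMap A B)) ⟨1, by rw [pow_one]⟩]
  constructor
  · exact fun h E _ _ hE J hJ v₁ v₂ _ _ h12 => h E hE J hJ v₁ v₂ h12
  · intro h E _ _ hE J hJ v₁ v₂ h12
    obtain ⟨k, hk⟩ := hE
    have hkill : ∀ v : B →ₐ[A] E, ∀ x ∈ (𝔪.map (algebraMap A B)) ^ k, v x = 0 := fun v x hx => by
      rw [← Ideal.map_pow] at hx
      have h1 := Ideal.mem_map_of_mem v.toRingHom hx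
      rwa [Ideal.map_map, show v.toRingHom.comp (algebraMap A B) = algebraMap A E from v.comp_algebraMap, hk, Ideal.mem_bot] at h1
    exact h E ⟨k, hk⟩ J hJ v₁ v₂ ⟨k, hkill v₁⟩ ⟨k, hkill v₂⟩ h12

end kaehler

section powerSeries

open IsLocalRing

/-- criterion with dual derivations -/
theorem free_of_dual {k B : Type u} [CommRing k] [CommRing B] [Nontrivial B] [Algebra k B] (I : Ideal B) [IsAdicComplete I B]
    {r : ℕ} (x : Fin r → B) (D : Fin r → Derivation k B B) (hD : ∀ i j, D j (x i) = if i = j then 1 else 0)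
    (hg : ∀ f : B, ∃ q, f - q ∈ I ^ 2 ∧ KaehlerDifferential.D k B q ∈ Submodule.span B (Set.range fun j => KaehlerDifferential.D k B (x j))) :
    Module.Finite B (AdicCompletion I (Ω[B⁄k])) ∧ Module.Free B (AdicCompletion I (Ω[B⁄k])) ∧
      Module.finrank B (AdicCompletion I (Ω[B⁄k])) = r := by
  refine free_completion I (fun j => KaehlerDifferential.D k B (x j)) ?_ fun n b hb j => ?_
  · refine eq_top_of_D_mem fun f => ?_
    obtain ⟨q, h2, hq⟩ := hg f
    show KaehlerDifferential.D k B f ∈ _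
    rw [← sub_add_cancel f q, map_add]
    exact add_mem (Submodule.mem_sup_right (by simpa [pow_one] using der_pow_mem I (KaehlerDifferential.D k B) 1 _ h2))
      (Submodule.mem_sup_left hq)
  · have h1 := Submodule.mem_map_of_mem (f := (D j).liftKaehlerDifferential) hb
    rw [Submodule.map_smul''] at h1
    have h2 := Submodule.smul_mono le_rfl le_top h1
    rw [smul_eq_mul, Ideal.mul_top, map_sum] at h2
    rw [Finset.sum_eq_single j (fun i _ hij => by
      rw [map_smul, Derivation.liftKaehlerDifferential_comp_D, hD, if_neg hij, smul_zero])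
      (fun h => absurd (Finset.mem_univ j) h), map_smul, Derivation.liftKaehlerDifferential_comp_D,
      hD, if_pos rfl, smul_eq_mul, mul_one] at h2
    exact h2

theorem poly_mem_span {k B : Type u} [CommRing k] [CommRing B] [Algebra k B] {σ : Type*} (φ : MvPolynomial σ k →ₐ[k] B)
    (q : MvPolynomial σ k) :
    KaehlerDifferential.D k B (φ q) ∈ Submodule.span B (Set.range fun j => KaehlerDifferential.D k B (φ (MvPolynomial.X j))) := by
  induction q using MvPolynomial.induction_on with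
  | C c =>
    rw [← MvPolynomial.algebraMap_eq, AlgHom.commutes, Derivation.map_algebraMap]
    exact zero_mem _
  | add q q' hq hq' => rw [map_add, map_add]; exact add_mem hq hq'
  | mul_X q i hq =>
    rw [map_mul, Derivation.leibniz]
    exact add_mem (Submodule.smul_mem _ _ (Submodule.subset_span ⟨i, rfl⟩)) (Submodule.smul_mem _ _ hq)

end powerSeries

end Groth.L06.CplKaehler
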