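import Groth.Agent.L06.CplKaehlerRank
import Groth.Agent.L01.NagataComplete
import Mathlib.RingTheory.LocalRing.Module
import Mathlib.RingTheory.Support
import Mathlib.RingTheory.DedekindDomain.Basic

/-! Generators of completed differentials at a prime. -/

set_option autoImplicit false
set_option maxSynthPendingDepth 3
set_option linter.style.haveILetI false
universe u

namespace Groth.L06.CplKaehlerGen

open IsLocalRing Groth.L06.CplKaehlerUniv Groth.L06.CplKaehlerRank
open scoped TensorProduct

/-- a spanning family of a fibre spans near the prime -/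
theorem exists_smul_mem {A M : Type u} [CommRing A] [AddCommGroup M] [Module A M] [Module.Finite A M]
    (P : PrimeSpectrum A) (N : Submodule A M)
    (hN : Submodule.span P.asIdeal.ResidueField ((fun z => (1 : P.asIdeal.ResidueField) ⊗ₜ[A] z) '' (N : Set M)) = ⊤) :
    ∃ s ∉ P.asIdeal, ∀ z : M, s • z ∈ N := by
  have h1 : Subsingleton (P.asIdeal.ResidueField ⊗[A] (M ⧸ N)) := by
    refine subsingleton_of_forall_eq 0 fun y => ?_
    obtain ⟨x, rfl⟩ : ∃ x, N.mkQ.baseChange P.asIdeal.ResidueField x = y := LinearMap.lTensor_surjective _ N.mkQ_surjective y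
    induction (show x ∈ _ from hN ▸ Submodule.mem_top) using Submodule.span_induction with
    | mem z hz =>
      obtain ⟨z, hz, rfl⟩ := hz
      rw [LinearMap.baseChange_tmul, Submodule.mkQ_apply, (Submodule.Quotient.mk_eq_zero N).mpr hz, TensorProduct.tmul_zero]
    | zero => exact map_zero _
    | add a b _ _ ha hb => rw [map_add, ha, hb, add_zero]
    | smul r a _ ha => rw [map_smul, ha, smul_zero]
  have h2 : P ∉ Module.support A (M ⧸ N) := fun h =>
    not_nontrivial_iff_subsingleton.mpr h1 ((Module.mem_support_iff_nontrivial_residueField_tensorProduct _).mp h)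
  rw [Module.support_eq_zeroLocus, PrimeSpectrum.mem_zeroLocus, SetLike.coe_subset_coe] at h2
  obtain ⟨s, hs, hsp⟩ := SetLike.not_le_iff_exists.mp h2
  exact ⟨s, hsp, fun z => (Submodule.Quotient.mk_eq_zero N).mp (by
    rw [Submodule.Quotient.mk_smul]; exact Module.mem_annihilator.mp hs _)⟩

theorem exists_finset_fibre {A M : Type u} [CommRing A] [AddCommGroup M] [Module A M] [Module.Finite A M]
    (p : Ideal A) [p.IsPrime] :
    ∃ g : Fin (Module.finrank p.ResidueField (p.ResidueField ⊗[A] M)) → M,
      ∃ s ∉ p, ∀ z : M, s • z ∈ Submodule.span A (Set.range g) := by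
  classical
  let V := p.ResidueField ⊗[A] M
  have hspan : Submodule.span p.ResidueField (Set.range fun z : M => (1 : p.ResidueField) ⊗ₜ[A] z) = ⊤ := by
    refine Submodule.eq_top_iff'.mpr fun x => ?_
    induction x using TensorProduct.induction_on with
    | zero => exact zero_mem _
    | add a b ha hb => exact add_mem ha hb
    | tmul c w =>
      have := Submodule.smul_mem (Submodule.span p.ResidueField (Set.range fun z : M => (1 : p.ResidueField) ⊗ₜ[A] z)) c
        (Submodule.subset_span ⟨w, rfl⟩)
      rwa [TensorProduct.smul_tmul', smul_eq_mul, mul_one] at this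
  obtain ⟨b, hb, hsp, hli⟩ := exists_linearIndependent p.ResidueField (Set.range fun z : M => (1 : p.ResidueField) ⊗ₜ[A] z)
  let bas : Module.Basis b p.ResidueField (p.ResidueField ⊗[A] M) :=
    Module.Basis.mk hli (by rw [Subtype.range_coe, hsp, hspan])
  haveI : Fintype b := @Fintype.ofFinite _ (Module.Finite.finite_basis bas)
  choose gg hgg using fun i : b => hb i.2
  let e : Fin (Module.finrank p.ResidueField (p.ResidueField ⊗[A] M)) ≃ b :=
    (finCongr (Module.finrank_eq_card_basis bas)).trans (Fintype.equivFin b).symm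
  refine ⟨fun i => gg (e i), exists_smul_mem ⟨p, inferInstance⟩ _ (eq_top_iff.mpr (hspan.ge.trans ?_))⟩
  rw [← hsp]
  refine Submodule.span_mono fun v hv => ⟨gg ⟨v, hv⟩, Submodule.subset_span ⟨e.symm ⟨v, hv⟩, by simp⟩, hgg ⟨v, hv⟩⟩

set_option linter.unusedSectionVars false

variable (k A : Type u) [Field k] [CommRing A] [IsLocalRing A] [IsNoetherianRing A] [Algebra k A]
  [IsAdicComplete (maximalIdeal A) A] [Module.Finite k (ResidueField A)]

/-- complete local domain with finite residue field -/
theorem dim_le_finrank_generic [IsDomain A] (L : Type u) [Field L] [Algebra A L] [IsFractionRing A L]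
    [Algebra k L] [IsScalarTower k A L] :
    Module.Finite L (L ⊗[A] Om k A) ∧ ringKrullDim A ≤ (Module.finrank L (L ⊗[A] Om k A) : WithBot ℕ∞) := by
  classical
  obtain ⟨n, x, N, hx, hN, hn⟩ := Groth.L01.CohenFinite.exists_sop (R := A) ⊥ bot_le
  rw [sup_bot_eq] at hN
  replace hn : (n : WithBot ℕ∞) = ringKrullDim A := hn.trans (ringKrullDim_eq_of_ringEquiv (RingEquiv.quotientBot A))
  obtain ⟨alg, hT, -, hfin, -⟩ := exists_powerSeries_finite (k := k) x hx N hN
  letI := alg
  haveI := hT
  haveI := hfin
  have hinj : Function.Injective (algebraMap (MvPowerSeries (Fin n) k) A) := by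
    rw [RingHom.injective_iff_ker_eq_bot, RingHom.ker_eq_comap_bot]
    refine (dim_quotient_le (k := k) (⊥ : Ideal A)).2 ?_
    rw [hn]
    exact ringKrullDim_eq_of_ringEquiv (RingEquiv.quotientBot A)
  letI : Algebra (MvPowerSeries (Fin n) k) L := ((algebraMap A L).comp (algebraMap _ A)).toAlgebra
  haveI : IsScalarTower (MvPowerSeries (Fin n) k) A L := IsScalarTower.of_algebraMap_eq fun _ => rfl
  haveI : IsScalarTower k (MvPowerSeries (Fin n) k) L := IsScalarTower.of_algebraMap_eq fun c => by
    show algebraMap k L c = algebraMap A L (algebraMap _ A (algebraMap k _ c))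
    rw [← IsScalarTower.algebraMap_apply k _ A, ← IsScalarTower.algebraMap_apply]
  haveI : FaithfulSMul (MvPowerSeries (Fin n) k) L :=
    (faithfulSMul_iff_algebraMap_injective _ _).mpr ((IsFractionRing.injective A L).comp hinj)
  letI : Algebra (FractionRing (MvPowerSeries (Fin n) k)) L := FractionRing.liftAlgebra _ L
  haveI : IsScalarTower k (FractionRing (MvPowerSeries (Fin n) k)) L := IsScalarTower.of_algebraMap_eq fun c => by
    rw [IsScalarTower.algebraMap_apply k (MvPowerSeries (Fin n) k) (FractionRing (MvPowerSeries (Fin n) k)),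
      ← IsScalarTower.algebraMap_apply (MvPowerSeries (Fin n) k) (FractionRing (MvPowerSeries (Fin n) k)) L,
      ← IsScalarTower.algebraMap_apply]
  obtain ⟨h1, h2⟩ := le_finrank (k := k) (n := n) L A (FractionRing (MvPowerSeries (Fin n) k))
  exact ⟨h1, by rw [← hn]; exact_mod_cast h2⟩

/-- `Ω̂_A → Ω̂_{A/q}` -/
theorem exists_map_quotient (q : Ideal A) [IsLocalRing (A ⧸ q)] [IsAdicComplete (maximalIdeal (A ⧸ q)) (A ⧸ q)]
    [Algebra.EssFiniteType k (ResidueField (A ⧸ q))] :
    ∃ f : Om k A →ₗ[A] Om k (A ⧸ q), Function.Surjective f ∧ ∀ a, f (dhat k A a) = dhat k (A ⧸ q) (Ideal.Quotient.mk q a) := by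
  haveI := finite_om k (A ⧸ q)
  haveI : Module.Finite A (Om k (A ⧸ q)) := Module.Finite.trans (A ⧸ q) _
  let D : Derivation k A (Om k (A ⧸ q)) := Derivation.mk'
    { toFun := fun a => dhat k (A ⧸ q) (Ideal.Quotient.mk q a)
      map_add' := fun a b => by rw [map_add, map_add]
      map_smul' := fun c a => by
        rw [RingHom.id_apply, show Ideal.Quotient.mk q (c • a) = c • Ideal.Quotient.mk q a from rfl, Derivation.map_smul] }
    fun a b => by
      show dhat k (A ⧸ q) (Ideal.Quotient.mk q (a * b)) = _
      rw [map_mul, Derivation.leibniz]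
      rfl
  obtain ⟨f, hf⟩ := exists_lift k A D
  refine ⟨f, ?_, hf⟩
  rw [← LinearMap.range_eq_top]
  refine Submodule.eq_top_iff'.mpr fun z => ?_
  induction (show z ∈ _ from span_range_dhat k (A ⧸ q) ▸ Submodule.mem_top) using Submodule.span_induction with
  | mem y hy =>
    obtain ⟨b, rfl⟩ := hy
    obtain ⟨a, rfl⟩ := Ideal.Quotient.mk_surjective b
    exact ⟨dhat k A a, hf a⟩
  | zero => exact zero_mem _
  | add a b _ _ ha hb => exact add_mem ha hb
  | smul c y _ hy =>
    obtain ⟨c, rfl⟩ := Ideal.Quotient.mk_surjective c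
    rw [← Ideal.Quotient.algebraMap_eq, algebraMap_smul]
    exact Submodule.smul_mem _ _ hy

/-- `dim A/q ≤` number of generators at `p ⊇ q`. -/
theorem dim_quotient_le_rank (p q : Ideal A) [p.IsPrime] [q.IsPrime] (hqp : q ≤ p) :
    ringKrullDim (A ⧸ q) ≤ (Module.finrank p.ResidueField (p.ResidueField ⊗[A] Om k A) : WithBot ℕ∞) := by
  classical
  haveI : Nontrivial (A ⧸ q) := Ideal.Quotient.nontrivial_iff.mpr ‹q.IsPrime›.ne_top
  haveI : IsLocalRing (A ⧸ q) := IsLocalRing.of_surjective' _ Ideal.Quotient.mk_surjective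
  haveI : IsAdicComplete (maximalIdeal (A ⧸ q)) (A ⧸ q) := Groth.L01.NagataComplete.isAdicComplete_quotient q
  haveI : IsLocalHom (Ideal.Quotient.mk q) := IsLocalHom.of_surjective _ Ideal.Quotient.mk_surjective
  haveI : Module.Finite k (ResidueField (A ⧸ q)) := by
    refine Module.Finite.of_surjective
      ({ toFun := IsLocalRing.ResidueField.map (Ideal.Quotient.mk q)
         map_add' := map_add _
         map_smul' := fun c z => by
           obtain ⟨z, rfl⟩ := residue_surjective z
           rw [RingHom.id_apply, show c • residue A z = residue A (c • z) from rfl, ResidueField.map_residue,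
             ResidueField.map_residue]
           rfl } : ResidueField A →ₗ[k] ResidueField (A ⧸ q)) fun z => ?_
    obtain ⟨z, rfl⟩ := residue_surjective z
    obtain ⟨z, rfl⟩ := Ideal.Quotient.mk_surjective z
    exact ⟨residue A z, ResidueField.map_residue _ z⟩
  haveI := finite_om k A
  obtain ⟨f, hf, -⟩ := exists_map_quotient k A q
  obtain ⟨g, s, hs, hgs⟩ := exists_finset_fibre (M := Om k A) p
  let L := FractionRing (A ⧸ q)
  obtain ⟨h1, h2⟩ := dim_le_finrank_generic k (A ⧸ q) L
  refine h2.trans (Nat.cast_le.mpr ?_)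
  let ψ : (Fin (Module.finrank p.ResidueField (p.ResidueField ⊗[A] Om k A)) → L) →ₗ[L] L ⊗[A ⧸ q] Om k (A ⧸ q) :=
    Fintype.linearCombination L fun i => 1 ⊗ₜ f (g i)
  refine le_of_le_of_eq (LinearMap.finrank_le_finrank_of_surjective (f := ψ) ?_) (Module.finrank_fin_fun L)
  rw [← LinearMap.range_eq_top]
  refine Submodule.eq_top_iff'.mpr fun z => ?_
  induction z using TensorProduct.induction_on with
  | zero => exact zero_mem _
  | add a b ha hb => exact add_mem ha hb
  | tmul c w =>
    obtain ⟨v, rfl⟩ := hf w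
    have hsL : algebraMap (A ⧸ q) L (Ideal.Quotient.mk q s) ≠ 0 := by
      rw [Ne, map_eq_zero_iff _ (IsFractionRing.injective (A ⧸ q) L), Ideal.Quotient.eq_zero_iff_mem]
      exact fun h => hs (hqp h)
    have h3 : ∀ y ∈ Submodule.span A (Set.range g), ∀ c : L, c ⊗ₜ[A ⧸ q] f y ∈ LinearMap.range ψ := by
      intro y hy
      induction hy using Submodule.span_induction with
      | mem y hy =>
        obtain ⟨i, rfl⟩ := hy
        exact fun c => ⟨Pi.single i c, by simp [ψ, Fintype.linearCombination_apply_single, TensorProduct.smul_tmul', smul_eq_mul]⟩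
      | zero => intro c; rw [map_zero, TensorProduct.tmul_zero]; exact zero_mem _
      | add a b _ _ ha hb => intro c; rw [map_add, TensorProduct.tmul_add]; exact add_mem (ha c) (hb c)
      | smul r a _ ha =>
        intro c
        rw [map_smul, ← algebraMap_smul (A ⧸ q) r, ← TensorProduct.smul_tmul]
        exact ha _
    have h4 := h3 _ (hgs v) (c * (algebraMap (A ⧸ q) L (Ideal.Quotient.mk q s))⁻¹)
    rwa [map_smul, ← algebraMap_smul (A ⧸ q) s, ← TensorProduct.smul_tmul, Algebra.smul_def, Ideal.Quotient.algebraMap_eq, mul_comm c, ← mul_assoc,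
      mul_inv_cancel₀ hsL, one_mul] at h4

end Groth.L06.CplKaehlerGen
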