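import Groth.Agent.L06.CplKaehler
import Groth.Agent.L01.CohenFinite
import Mathlib.RingTheory.AdicCompletion.Functoriality
import Mathlib.RingTheory.Filtration
import Mathlib.RingTheory.LocalRing.ResidueField.Basic

/-! The universal property of completed differentials. -/

set_option autoImplicit false
set_option maxSynthPendingDepth 3
set_option linter.style.haveILetI false
universe u

namespace Groth.L06.CplKaehlerUniv

open IsLocalRing
open scoped TensorProduct

section complete

variable {A : Type u} [CommRing A] [IsLocalRing A] [IsNoetherianRing A]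

theorem of_bijective [IsAdicComplete (maximalIdeal A) A] (M : Type u) [AddCommGroup M] [Module A M] [Module.Finite A M] :
    Function.Bijective (AdicCompletion.of (maximalIdeal A) M) := by
  refine ⟨(injective_iff_map_eq_zero _).mpr fun z hz => ?_, fun x => ?_⟩
  · have h : z ∈ (⨅ i : ℕ, maximalIdeal A ^ i • ⊤ : Submodule A M) := Submodule.mem_iInf _ |>.mpr fun i => by
      have h1 : (AdicCompletion.of (maximalIdeal A) M z).val i = 0 := by rw [hz]; rfl
      exact (Submodule.Quotient.mk_eq_zero _).mp h1
    rwa [Ideal.iInf_pow_smul_eq_bot_of_isLocalRing _ (maximalIdeal.isMaximal A).ne_top, Submodule.mem_bot] at h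
  · obtain ⟨r, g, hg⟩ := Module.Finite.exists_fin (R := A) (M := M)
    obtain ⟨b, hb⟩ := Groth.L06.CplKaehler.linMap_surjective (maximalIdeal A) g (by rw [hg, top_sup_eq]) x
    exact ⟨_, hb⟩

end complete

section universal

variable (k A : Type u) [CommRing k] [CommRing A] [IsLocalRing A] [Algebra k A]

/-- the completed module of differentials -/
abbrev Om : Type u := AdicCompletion (maximalIdeal A) (Ω[A⁄k])

/-- the completed differential -/
noncomputable def dhat : Derivation k A (Om k A) :=
  (AdicCompletion.of (maximalIdeal A) (Ω[A⁄k])).compDer (KaehlerDifferential.D k A)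

theorem dhat_apply (a : A) :
    dhat k A a = AdicCompletion.of (maximalIdeal A) (Ω[A⁄k]) (KaehlerDifferential.D k A a) := rfl

variable [IsNoetherianRing A] [IsAdicComplete (maximalIdeal A) A] [Algebra.EssFiniteType k (ResidueField A)]

theorem finite_om : Module.Finite A (Om k A) := by
  haveI : Algebra.EssFiniteType k (A ⧸ maximalIdeal A) := ‹Algebra.EssFiniteType k (ResidueField A)›
  haveI : Module.Finite A (maximalIdeal A) := Module.Finite.iff_fg.mpr ((isNoetherianRing_iff_ideal_fg A).mp inferInstance _)
  haveI : Module.Finite A (maximalIdeal A).Cotangent := Module.Finite.of_surjective _ (maximalIdeal A).toCotangent_surjective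
  haveI : Module.Finite (A ⧸ maximalIdeal A) (maximalIdeal A).Cotangent := Module.Finite.of_restrictScalars_finite A _ _
  exact Groth.L06.CplKaehler.finite_completedKaehler (maximalIdeal A)

theorem span_range_dhat : Submodule.span A (Set.range (dhat k A)) = ⊤ := by
  haveI : Algebra.EssFiniteType k (A ⧸ maximalIdeal A) := ‹Algebra.EssFiniteType k (ResidueField A)›
  haveI : Module.Finite A (maximalIdeal A) := Module.Finite.iff_fg.mpr ((isNoetherianRing_iff_ideal_fg A).mp inferInstance _)
  haveI : Module.Finite A (maximalIdeal A).Cotangent := Module.Finite.of_surjective _ (maximalIdeal A).toCotangent_surjective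
  haveI : Module.Finite (A ⧸ maximalIdeal A) (maximalIdeal A).Cotangent := Module.Finite.of_restrictScalars_finite A _ _
  obtain ⟨r, g, hg⟩ := Groth.L06.CplKaehler.exists_generators (A := k) (maximalIdeal A)
  refine Submodule.eq_top_iff'.mpr fun x => ?_
  obtain ⟨b, rfl⟩ := Groth.L06.CplKaehler.linMap_surjective (maximalIdeal A) g hg x
  have h1 : Fintype.linearCombination A g b ∈ Submodule.span A (Set.range (KaehlerDifferential.D k A)) := by
    rw [KaehlerDifferential.span_range_derivation]; trivial
  have h2 := Submodule.mem_map_of_mem (f := AdicCompletion.of (maximalIdeal A) (Ω[A⁄k])) h1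
  rw [Submodule.map_span, ← Set.range_comp] at h2
  exact h2

omit [IsNoetherianRing A] [IsAdicComplete (maximalIdeal A) A] [Algebra.EssFiniteType k (ResidueField A)] in
theorem exists_lift [IsNoetherianRing A] [IsAdicComplete (maximalIdeal A) A] {M : Type u} [AddCommGroup M] [Module A M]
    [Module k M] [IsScalarTower k A M] [Module.Finite A M] (D : Derivation k A M) :
    ∃ l : Om k A →ₗ[A] M, ∀ a, l (dhat k A a) = D a := by
  let e := LinearEquiv.ofBijective _ (of_bijective (A := A) M)
  refine ⟨e.symm.toLinearMap.comp ((AdicCompletion.map (maximalIdeal A) D.liftKaehlerDifferential).restrictScalars A), fun a => ?_⟩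
  rw [LinearMap.comp_apply, LinearEquiv.coe_coe, LinearEquiv.symm_apply_eq, LinearMap.restrictScalars_apply, dhat_apply,
    AdicCompletion.map_of, Derivation.liftKaehlerDifferential_comp_D]
  rfl

/-- uniqueness -/
theorem hom_ext {M : Type u} [AddCommGroup M] [Module A M] (l l' : Om k A →ₗ[A] M)
    (h : ∀ a, l (dhat k A a) = l' (dhat k A a)) : l = l' :=
  LinearMap.ext_on_range (span_range_dhat k A) h

omit [Algebra.EssFiniteType k (ResidueField A)] in
/-- lifting derivations whose restriction to a subring over which `A` is finite is bounded -/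
theorem exists_lift_of_bounded (R : Type u) [CommRing R] [Algebra R A] [Module.Finite R A]
    {M : Type u} [AddCommGroup M] [Module A M] [Module k M] [IsScalarTower k A M] (D : Derivation k A M)
    (N₀ : Submodule A M) (hN : N₀.FG) (hR : ∀ r : R, D (algebraMap R A r) ∈ N₀) :
    ∃ l : Om k A →ₗ[A] M, ∀ a, l (dhat k A a) = D a := by
  obtain ⟨m, b, hb⟩ := Module.Finite.exists_fin (R := R) (M := A)
  let N : Submodule A M := N₀ ⊔ Submodule.span A (Set.range fun i => D (b i))
  have hmem : ∀ a, D a ∈ N := by
    intro a
    obtain ⟨c, hc⟩ := (Submodule.mem_span_range_iff_exists_fun R).mp (show a ∈ Submodule.span R (Set.range b) by rw [hb]; trivial)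
    rw [← hc, map_sum]
    refine Submodule.sum_mem _ fun i _ => ?_
    rw [Algebra.smul_def, D.leibniz]
    exact add_mem (Submodule.smul_mem _ _ (Submodule.mem_sup_right (Submodule.subset_span ⟨i, rfl⟩)))
      (Submodule.smul_mem _ _ (Submodule.mem_sup_left (hR _)))
  haveI : Module.Finite A N := Module.Finite.iff_fg.mpr (hN.sup (Submodule.fg_span (Set.finite_range _)))
  let D' : Derivation k A N := Derivation.mk'
    { toFun := fun a => ⟨D a, hmem a⟩
      map_add' := fun x y => Subtype.ext (map_add D x y)
      map_smul' := fun c x => Subtype.ext (D.map_smul c x) }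
    fun x y => Subtype.ext (D.leibniz x y)
  obtain ⟨l, hl⟩ := exists_lift k A D'
  exact ⟨N.subtype.comp l, fun a => congrArg Subtype.val (hl a)⟩

end universal

section powerSeries

variable {k : Type u} [Field k] {r : ℕ}

/-- a derivation of a power series ring into a separated module is determined by the variables -/
theorem der_powerSeries_eq {M : Type u} [AddCommGroup M] [Module (MvPowerSeries (Fin r) k) M] [Module k M]
    [IsScalarTower k (MvPowerSeries (Fin r) k) M] [IsHausdorff (maximalIdeal (MvPowerSeries (Fin r) k)) M]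
    (D D' : Derivation k (MvPowerSeries (Fin r) k) M) (h : ∀ j, D (MvPowerSeries.X j) = D' (MvPowerSeries.X j))
    (f : MvPowerSeries (Fin r) k) : D f = D' f := by
  classical
  refine sub_eq_zero.mp (IsHausdorff.haus (I := maximalIdeal (MvPowerSeries (Fin r) k)) inferInstance _ fun n => ?_)
  rw [SModEq.sub_mem, sub_zero]
  have hp : ∀ q : MvPolynomial (Fin r) k, (D - D') (q : MvPowerSeries (Fin r) k) = 0 := by
    intro q
    induction q using MvPolynomial.induction_on with
    | C c =>
      rw [MvPolynomial.coe_C, show (MvPowerSeries.C c : MvPowerSeries (Fin r) k) = algebraMap k _ c from rfl, Derivation.map_algebraMap]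
    | add q q' hq hq' => rw [MvPolynomial.coe_add, map_add, hq, hq', add_zero]
    | mul_X q i hq =>
      rw [MvPolynomial.coe_mul, MvPolynomial.coe_X, Derivation.leibniz, hq, Derivation.sub_apply, h i, sub_self,
        smul_zero, smul_zero, add_zero]
  have h2 : f - ((MvPowerSeries.truncTotal (n + 1) f : MvPolynomial (Fin r) k) : MvPowerSeries (Fin r) k) ∈
      maximalIdeal (MvPowerSeries (Fin r) k) ^ (n + 1) :=
    Ideal.pow_right_mono Groth.L12.span_X_le_maximalIdeal (n + 1) (Groth.L12.sub_truncTotal_mem f (n + 1))
  rw [show D f - D' f = (D - D') (f - ((MvPowerSeries.truncTotal (n + 1) f : MvPolynomial (Fin r) k) : MvPowerSeries (Fin r) k)) by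
    rw [map_sub (D - D'), hp, sub_zero]; rfl]
  exact Groth.L06.CplKaehler.der_pow_mem _ _ n _ h2

variable (A : Type u) [CommRing A] [IsLocalRing A] [IsNoetherianRing A] [IsAdicComplete (maximalIdeal A) A]
  [Algebra k A] [Algebra.EssFiniteType k (ResidueField A)]
  [Algebra (MvPowerSeries (Fin r) k) A] [IsScalarTower k (MvPowerSeries (Fin r) k) A] [Module.Finite (MvPowerSeries (Fin r) k) A]

/-- the differentials of the parameters -/
noncomputable def dX (j : Fin r) : Om k A := dhat k A (algebraMap (MvPowerSeries (Fin r) k) A (MvPowerSeries.X j))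

/-- `Ω̂_{A/k}/(dT) = Ω_{A/k[[T]]}`. -/
theorem exists_quotient_equiv :
    ∃ e : (Om k A ⧸ Submodule.span A (Set.range (dX A (k := k) (r := r)))) ≃ₗ[A] Ω[A⁄MvPowerSeries (Fin r) k],
      ∀ a, e (Submodule.Quotient.mk (dhat k A a)) = KaehlerDifferential.D (MvPowerSeries (Fin r) k) A a := by
  haveI := finite_om k A
  let P := Submodule.span A (Set.range (dX A (k := k) (r := r)))
  let D0 : Derivation k A (Om k A ⧸ P) := P.mkQ.compDer (dhat k A)
  haveI : Module.Finite (MvPowerSeries (Fin r) k) (Om k A ⧸ P) := Module.Finite.trans A _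
  haveI : IsHausdorff (maximalIdeal (MvPowerSeries (Fin r) k)) (Om k A ⧸ P) :=
    IsHausdorff.mk fun z hz => by
      have h : z ∈ (⨅ i : ℕ, maximalIdeal (MvPowerSeries (Fin r) k) ^ i • ⊤ : Submodule (MvPowerSeries (Fin r) k) (Om k A ⧸ P)) :=
        Submodule.mem_iInf _ |>.mpr fun i => SModEq.zero.mp (hz i)
      rwa [Ideal.iInf_pow_smul_eq_bot_of_isLocalRing _ (maximalIdeal.isMaximal _).ne_top, Submodule.mem_bot] at h
  have h0 : ∀ f, D0 (algebraMap (MvPowerSeries (Fin r) k) A f) = 0 := by
    intro f
    have := der_powerSeries_eq (D0.compAlgebraMap (MvPowerSeries (Fin r) k)) 0 (fun j => by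
      show Submodule.Quotient.mk (dX A j) = (0 : Om k A ⧸ P)
      exact (Submodule.Quotient.mk_eq_zero P).mpr (Submodule.subset_span ⟨j, rfl⟩)) f
    exact this
  let DR : Derivation (MvPowerSeries (Fin r) k) A (Om k A ⧸ P) := Derivation.mk'
    { toFun := fun a => D0 a
      map_add' := map_add D0
      map_smul' := fun f a => by
        rw [Algebra.smul_def, D0.leibniz, h0, smul_zero, add_zero, RingHom.id_apply, algebraMap_smul] }
    fun a b => D0.leibniz a b
  haveI : Module.Finite A (Ω[A⁄MvPowerSeries (Fin r) k]) := inferInstance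
  obtain ⟨l, hl⟩ := exists_lift k A ((KaehlerDifferential.D (MvPowerSeries (Fin r) k) A).restrictScalars k)
  have hlP : P ≤ LinearMap.ker l := Submodule.span_le.mpr (by
    rintro _ ⟨j, rfl⟩
    exact (hl _).trans ((KaehlerDifferential.D (MvPowerSeries (Fin r) k) A).map_algebraMap _))
  refine ⟨LinearEquiv.ofLinearMap (P.liftQ l hlP) DR.liftKaehlerDifferential ?_ ?_, fun a => hl a⟩
  · refine Derivation.liftKaehlerDifferential_unique _ _ (Derivation.ext fun a => ?_)
    show P.liftQ l hlP (DR.liftKaehlerDifferential (KaehlerDifferential.D _ A a)) = KaehlerDifferential.D _ A a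
    rw [Derivation.liftKaehlerDifferential_comp_D]
    exact hl a
  · refine Submodule.linearMap_qext _ (hom_ext k A _ _ fun a => ?_)
    show DR.liftKaehlerDifferential (l (dhat k A a)) = Submodule.Quotient.mk (dhat k A a)
    rw [hl]
    exact Derivation.liftKaehlerDifferential_comp_D DR a

end powerSeries

end Groth.L06.CplKaehlerUniv
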