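import Groth.Agent.L06.FormSmoothLiftQuot
import Groth.Agent.L06.IAdic
import Groth.Agent.S0543
import Groth.Agent.S0544
import Groth.Prelude.Def_EGA4b
import Mathlib.RingTheory.Smooth.Basic

/-!
# Lifting finite maps between smooth algebras to the completions
-/

set_option autoImplicit false
set_option maxSynthPendingDepth 3
set_option linter.style.haveILetI false
universe u

namespace Groth.L06.CplLiftHom

theorem main (V : Type u) [CommRing V] [IsNoetherianRing V] (I : Ideal V)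
    (A C : Type u) [CommRing A] [Algebra V A] [Algebra.FiniteType V A] [Algebra.FormallySmooth V A]
    [CommRing C] [Algebra V C] [Algebra.FiniteType V C]
    (φ₀ : (A ⧸ I.map (algebraMap V A)) →ₐ[V] (C ⧸ I.map (algebraMap V C)))
    (hφ₀ : φ₀.toRingHom.Finite) :
    ∃ φ : AdicCompletion (I.map (algebraMap V A)) A →ₐ[V] AdicCompletion (I.map (algebraMap V C)) C,
      φ.toRingHom.Finite ∧
      (AdicCompletion.evalOneₐ (I.map (algebraMap V C))).toRingHom.comp φ.toRingHom =
        φ₀.toRingHom.comp (AdicCompletion.evalOneₐ (I.map (algebraMap V A))).toRingHom := by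
  let IA := I.map (algebraMap V A)
  let IC := I.map (algebraMap V C)
  let Ah := AdicCompletion IA A
  let Ch := AdicCompletion IC C
  haveI : IsNoetherianRing A := Algebra.FiniteType.isNoetherianRing V A
  haveI : IsNoetherianRing C := Algebra.FiniteType.isNoetherianRing V C
  have hfA : IA.FG := IsNoetherian.noetherian _
  have hfC : IC.FG := IsNoetherian.noetherian _
  let 𝔠 : Ideal Ch := IC.map (algebraMap C Ch)
  haveI : IsAdicComplete 𝔠 Ch := (IsAdicComplete.map_algebraMap_iff _ _).mpr (AdicCompletion.isAdicComplete hfC)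
  have h𝔠 : 𝔠 = I.map (algebraMap V Ch) := by
    rw [IsScalarTower.algebraMap_eq V C Ch, ← Ideal.map_map]
  let e1 : Ch →ₐ[V] C ⧸ IC := (AdicCompletion.evalOneₐ IC).restrictScalars V
  have he1 : Function.Surjective e1 := AdicCompletion.evalOneₐ_surjective IC
  have hker : RingHom.ker e1 = 𝔠 := AdicCompletion.ker_evalOneₐ_eq_map IC hfC
  let ε : (C ⧸ IC) ≃ₐ[V] Ch ⧸ 𝔠 :=
    (Ideal.quotientKerAlgEquivOfSurjective he1).symm.trans (Ideal.quotientEquivAlgOfEq V hker)
  have hε : ∀ x, ε (e1 x) = Ideal.Quotient.mk 𝔠 x := fun x => by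
    show Ideal.quotientEquivAlgOfEq V hker ((Ideal.quotientKerAlgEquivOfSurjective he1).symm (e1 x)) = _
    rw [← Ideal.quotientKerAlgEquivOfSurjective_mk he1 x, AlgEquiv.symm_apply_apply]
    rfl
  let u : A →ₐ[V] Ch ⧸ 𝔠 := ε.toAlgHom.comp (φ₀.comp (Ideal.Quotient.mkₐ V IA))
  haveI : IsHausdorff (𝔠.map (Ideal.Quotient.mk 𝔠)) (Ch ⧸ 𝔠) := by
    rw [Ideal.map_quotient_self]; infer_instance
  have hsm : EGA41.IsFormallySmoothAdic V ⊥ A ⊥ := fun D _ _ J hJ _ w _ => Algebra.FormallySmooth.exists_lift J hJ w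
  obtain ⟨v, -, hv⟩ := FormSmoothAdic.exists_lift_complete (C := Ch) (𝔠 := 𝔠) hsm
    ⟨1, by rw [pow_one, Ideal.map_bot]; exact bot_le⟩ 𝔠 ⟨1, by rw [pow_one]⟩ u
    ⟨1, by rw [pow_one, Ideal.map_bot]; exact bot_le⟩
  have hv' : ∀ a, Ideal.Quotient.mk 𝔠 (v a) = u a := fun a => DFunLike.congr_fun hv a
  have hvI : IA.map v.toRingHom = 𝔠 := by
    rw [Ideal.map_map, h𝔠]
    congr 1
    exact v.comp_algebraMap
  have hkill : ∀ n, ∀ a ∈ IA ^ n, AdicCompletion.evalₐ IC n (v a) = 0 := by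
    intro n a ha
    have h1 := Ideal.mem_map_of_mem v.toRingHom ha
    rw [Ideal.map_pow, hvI, ← Ideal.map_pow] at h1
    exact (IAdic.mem_map_pow_iff IC n _).mp h1
  let g : (n : ℕ) → A ⧸ IA ^ n →ₐ[V] C ⧸ IC ^ n := fun n =>
    Ideal.Quotient.liftₐ (IA ^ n) (((AdicCompletion.evalₐ IC n).restrictScalars V).comp v) (hkill n)
  let f : (n : ℕ) → Ah →ₐ[V] C ⧸ IC ^ n := fun n =>
    (g n).comp ((AdicCompletion.evalₐ IA n).restrictScalars V)
  have hf : ∀ {m n : ℕ} (hle : m ≤ n),
      (Ideal.Quotient.factorₐ V (Ideal.pow_le_pow_right hle)).comp (f n) = f m := fun {m n} hle => by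
    refine AlgHom.ext fun x => ?_
    obtain ⟨c, rfl⟩ := AdicCompletion.mk_surjective IA A x
    show Ideal.Quotient.factor (Ideal.pow_le_pow_right hle) (g n (AdicCompletion.evalₐ IA n (AdicCompletion.mk IA A c))) =
      g m (AdicCompletion.evalₐ IA m (AdicCompletion.mk IA A c))
    rw [AdicCompletion.evalₐ_mk, AdicCompletion.evalₐ_mk]
    show Ideal.Quotient.factor (Ideal.pow_le_pow_right hle) (AdicCompletion.evalₐ IC n (v (c n))) =
      AdicCompletion.evalₐ IC m (v (c m))
    have h1 := c.2 hle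
    rw [SModEq.sub_mem, smul_eq_mul, Ideal.mul_top] at h1
    have h2 := hkill m _ h1
    rw [map_sub, map_sub, sub_eq_zero] at h2
    rw [h2]
    obtain ⟨d, hd⟩ := AdicCompletion.mk_surjective IC C (v (c n))
    rw [← hd, AdicCompletion.evalₐ_mk, AdicCompletion.evalₐ_mk, Ideal.Quotient.factor_mk, Ideal.Quotient.eq]
    have h3 := d.2 hle
    rw [SModEq.sub_mem, smul_eq_mul, Ideal.mul_top] at h3
    rw [← neg_mem_iff, neg_sub]
    exact h3
  let φ : Ah →ₐ[V] Ch := AdicCompletion.liftAlgHom IC f hf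
  have hφa : ∀ a, φ (algebraMap A Ah a) = v a := fun a => AdicCompletion.ext_evalₐ fun n => by
    rw [AdicCompletion.evalₐ_liftAlgHom]
    show g n (AdicCompletion.evalₐ IA n (algebraMap A Ah a)) = _
    rw [AlgHom.commutes]
    rfl
  -- the first stage
  have hone : ∀ x, e1 (φ x) = φ₀ (AdicCompletion.evalOneₐ IA x) := by
    intro x
    obtain ⟨a, ha⟩ := IAdic.exists_approx IA 1 x
    rw [pow_one, ← AdicCompletion.ker_evalOneₐ_eq_map IA hfA] at ha
    have h1 : e1 (φ (x - algebraMap A Ah a)) = 0 := by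
      rw [← RingHom.mem_ker, hker]
      have h2 : x - algebraMap A Ah a ∈ IA.map (algebraMap A Ah) := by
        rwa [← AdicCompletion.ker_evalOneₐ_eq_map IA hfA]
      have h3 := Ideal.mem_map_of_mem φ.toRingHom h2
      rw [Ideal.map_map, show φ.toRingHom.comp (algebraMap A Ah) = v.toRingHom from RingHom.ext hφa, hvI] at h3
      exact h3
    rw [map_sub, map_sub, hφa, sub_eq_zero] at h1
    have h4 : AdicCompletion.evalOneₐ IA x = Ideal.Quotient.mk IA a := by
      rw [RingHom.mem_ker, map_sub, sub_eq_zero] at ha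
      exact ha.trans ((AdicCompletion.evalOneₐ IA).commutes a)
    rw [h1, h4]
    exact ε.injective ((hε (v a)).trans (hv' a))
  refine ⟨φ, ?_, RingHom.ext hone⟩
  -- finiteness
  letI : Algebra Ah Ch := φ.toRingHom.toAlgebra
  haveI : IsAdicComplete (IA.map (algebraMap A Ah)) Ah :=
    (IsAdicComplete.map_algebraMap_iff _ _).mpr (AdicCompletion.isAdicComplete hfA)
  have hI' : (IA.map (algebraMap A Ah)).map (algebraMap Ah Ch) = 𝔠 := by
    rw [Ideal.map_map, show (algebraMap Ah Ch).comp (algebraMap A Ah) = v.toRingHom from RingHom.ext hφa, hvI]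
  haveI : IsHausdorff (IA.map (algebraMap A Ah)) Ch :=
    IsHausdorff.map_algebraMap_iff.mp (by rw [hI']; infer_instance)
  have hfin : ((Ideal.Quotient.mk 𝔠).comp φ.toRingHom).Finite := by
    rw [show (Ideal.Quotient.mk 𝔠).comp φ.toRingHom =
      ε.toRingEquiv.toRingHom.comp (φ₀.toRingHom.comp (AdicCompletion.evalOneₐ IA).toRingHom) from
      RingHom.ext fun x => ((hε (φ x)).symm.trans (congrArg ε (hone x)))]
    exact (RingHom.Finite.of_surjective _ ε.surjective).comp
      (hφ₀.comp (RingHom.Finite.of_surjective _ (AdicCompletion.evalOneₐ_surjective IA)))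
  haveI : Module.Finite Ah (Ch ⧸ 𝔠) := hfin
  refine Groth.Agent.S0544.result Ah (IA.map (algebraMap A Ah)) Ch ?_
  exact Module.Finite.equiv ((Submodule.quotEquivOfEq _ _ (by rw [Ideal.smul_top_eq_map, hI'])) ≪≫ₗ
    Submodule.Quotient.restrictScalarsEquiv Ah 𝔠).symm

end Groth.L06.CplLiftHom
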