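import Groth.Agent.L06.IAdic
import Groth.Agent.L06.PropInstances
import Groth.Agent.L06.FormalFibres
import Groth.Agent.L06.GRingFT
import Groth.Agent.S0600
import Groth.Agent.S5785

/-!
# Completions of excellent normal rings
-/

set_option autoImplicit false
set_option maxSynthPendingDepth 3
set_option linter.style.haveILetI false
universe u

namespace Groth.L06.CplSurj

open PropLoc
open scoped TensorProduct

/-- The map of completions along a surjection is surjective when the ideal upstairs maps onto the one downstairs. -/
theorem mapCompletion_surjective {R R' : Type u} [CommRing R] [CommRing R'] (φ : R →+* R') (hφ : Function.Surjective φ)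
    (I : Ideal R) (J : Ideal R') (h : I.map φ = J) : Function.Surjective (GRingTransport.mapCompletion φ I J h.le) := by
  subst h
  intro y
  obtain ⟨c, rfl⟩ := AdicCompletion.mk_surjective _ R' y
  have hstep : ∀ n, ∃ d ∈ I ^ n, φ d = c (n + 1) - c n := fun n => by
    have h1 := c.2 n.le_succ
    rw [SModEq.sub_mem, smul_eq_mul, Ideal.mul_top, ← neg_mem_iff, neg_sub, ← Ideal.map_pow,
      Ideal.mem_map_iff_of_surjective φ hφ] at h1
    exact h1
  choose d hd hdc using hstep
  obtain ⟨x₀, hx₀⟩ := hφ (c 0)
  let x : ℕ → R := fun n => x₀ + ∑ i ∈ Finset.range n, d i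
  have hx : ∀ n, φ (x n) = c n := by
    intro n
    induction n with
    | zero => simp [x, hx₀]
    | succ n ih =>
      have hxs : x (n + 1) = x n + d n := by simp [x, Finset.sum_range_succ, add_assoc]
      rw [hxs, map_add, ih, hdc]
      ring
  refine ⟨AdicCompletion.mk I R ⟨x, fun {m n} hmn => ?_⟩, AdicCompletion.ext_evalₐ fun n => ?_⟩
  · rw [SModEq.sub_mem, smul_eq_mul, Ideal.mul_top]
    induction n, hmn using Nat.le_induction with
    | base => simp
    | succ n hmn ih =>
      have hxs : x (n + 1) = x n + d n := by simp [x, Finset.sum_range_succ, add_assoc]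
      rw [hxs, show x m - (x n + d n) = (x m - x n) - d n by ring]
      exact sub_mem ih (Ideal.pow_le_pow_right hmn (hd n))
  · rw [GRingTransport.evalₐ_mapCompletion φ I _ le_rfl n _ (x n) (AdicCompletion.evalₐ_mk ..), AdicCompletion.evalₐ_mk, hx]

/-- Completions of localizations of normal G-rings are normal. -/
theorem isNormalRing_completion {B : Type u} [CommRing B] (hG : CAlg.IsGRing B) (hB : Loc QNor B) (I : Ideal B) :
    EGA4.IsNormalRing (AdicCompletion I B) := by
  haveI := hG.1
  haveI : IsNoetherianRing (AdicCompletion I B) := Groth.Agent.S0543.result B I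
  have h := Groth.Agent.S0600.result B hG I
  haveI := h.1
  refine loc_nor_iff.mp (good_nor.ascend hB fun p _ => ?_)
  haveI : IsRegularRing (p.ResidueField ⊗[p.ResidueField] p.Fiber (AdicCompletion I B)) :=
    (h.2 p).2 p.ResidueField inferInstance
  haveI : IsRegularRing (p.Fiber (AdicCompletion I B)) := IsRegularRing.of_ringEquiv
    (Algebra.TensorProduct.lid p.ResidueField (p.Fiber (AdicCompletion I B))).toRingEquiv
  exact loc_nor_iff.mpr (Groth.L06.FormalFibres.isNormalRing_of_isRegularRing _)

theorem main (A : Type u) [CommRing A] [IsDomain A] [IsIntegrallyClosed A] (hexc : EGA4.IsExcellent A)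
    (hreg : ∃ (R : Type u) (_ : CommRing R) (_ : IsRegularRing R) (φ : R →+* A), Function.Surjective φ)
    (I : Ideal A) (f : A) :
    EGA4.IsNormalRing (AdicCompletion (I.map (algebraMap A (Localization.Away f))) (Localization.Away f)) ∧
      ∃ (R' : Type u) (_ : CommRing R') (_ : IsRegularRing R')
        (ψ : R' →+* AdicCompletion (I.map (algebraMap A (Localization.Away f))) (Localization.Away f)),
          Function.Surjective ψ := by
  obtain ⟨hN, -, hG, -⟩ := hexc
  haveI := hN
  have hA : Loc QNor A := by
    intro p _
    exact ⟨IsLocalization.isDomain_localization p.primeCompl_le_nonZeroDivisors,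
      isIntegrallyClosed_of_isLocalization _ p.primeCompl p.primeCompl_le_nonZeroDivisors⟩
  refine ⟨isNormalRing_completion (GRingFT.isGRing_localization (Submonoid.powers f) _ hG)
    (loc_localization good_nor (Submonoid.powers f) _ hA) _, ?_⟩
  obtain ⟨R, _, _, φ, hφ⟩ := hreg
  obtain ⟨g, rfl⟩ := hφ f
  let χ : Localization.Away g →+* Localization.Away (φ g) := Localization.awayMap φ g
  have hχ : Function.Surjective χ := by
    intro z
    obtain ⟨a, ⟨s, n, hn⟩, rfl⟩ := IsLocalization.exists_mk'_eq (Submonoid.powers (φ g)) z
    obtain ⟨r, rfl⟩ := hφ a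
    refine ⟨IsLocalization.mk' (Localization.Away g) r (⟨g ^ n, n, rfl⟩ : Submonoid.powers g), ?_⟩
    have h1 := congrArg χ (IsLocalization.mk'_spec (Localization.Away g) r (⟨g ^ n, n, rfl⟩ : Submonoid.powers g))
    have hc : ∀ x, χ (algebraMap R _ x) = algebraMap A _ (φ x) := fun x => IsLocalization.map_eq _ x
    rw [map_mul, hc, hc] at h1
    refine IsLocalization.eq_mk'_iff_mul_eq.mpr ?_
    show χ _ * algebraMap A _ s = _
    subst hn
    dsimp only at h1 ⊢
    rw [map_pow φ] at h1
    exact h1
  haveI : IsRegularRing (Localization.Away g) :=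
    loc_reg_iff.mp (loc_localization good_reg (Submonoid.powers g) _ (loc_reg_iff.mpr ‹IsRegularRing R›))
  let J := I.map (algebraMap A (Localization.Away (φ g)))
  exact ⟨_, inferInstance, Groth.Agent.S5785.result (Localization.Away g) (J.comap χ), _,
    mapCompletion_surjective χ hχ _ J (Ideal.map_comap_of_surjective χ hχ J)⟩

end Groth.L06.CplSurj
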