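import Groth.Agent.L06.FormSmoothLift
import Groth.Agent.L07.AvramovDiagram
import Groth.Agent.L01.CompletionExt
import Mathlib.RingTheory.AdicCompletion.AsTensorProduct
import Mathlib.RingTheory.RingHom.Flat
import Mathlib.RingTheory.Flat.FaithfullyFlat.Algebra

/-! Adically formally smooth local homomorphisms of Noetherian local rings are flat. -/

set_option autoImplicit false
set_option maxSynthPendingDepth 3
set_option linter.style.haveILetI false
universe u

namespace Groth.L06.FormSmooth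

open IsLocalRing
open scoped TensorProduct

/-- factor `A → B → B̂` through a flat algebra which surjects onto the completion -/
theorem exists_flat_factor (A B : Type u) [CommRing A] [CommRing B] [IsLocalRing A] [IsNoetherianRing A]
    [IsLocalRing B] [IsNoetherianRing B] [Algebra A B] [IsLocalHom (algebraMap A B)] :
    ∃ (T : Type u) (_ : CommRing T) (_ : IsLocalRing T) (_ : IsNoetherianRing T) (_ : Algebra A T)
      (π : T →ₐ[A] AdicCompletion (maximalIdeal B) B),
      IsAdicComplete (maximalIdeal T) T ∧ Module.Flat A T ∧ Function.Surjective π := by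
  haveI := Groth.L01.AnalUnram.isNoetherianRing_completion A
  haveI := Groth.L01.AnalUnram.isNoetherianRing_completion B
  let Ah := AdicCompletion (maximalIdeal A) A
  let Bh := AdicCompletion (maximalIdeal B) B
  obtain ⟨f, hf, hfm⟩ := Groth.L01.CompletionExt.exists_extend ((algebraMap B Bh).comp (algebraMap A B)) (by
    rw [← Ideal.map_map, ← Groth.L01.AnalUnram.completion_map_maximalIdeal (R := B)]
    exact Ideal.map_mono (IsLocalRing.map_maximalIdeal_le (algebraMap A B)))
  letI : Algebra Ah Bh := f.toAlgebra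
  haveI : IsLocalHom (algebraMap Ah Bh) := ((IsLocalRing.local_hom_TFAE (algebraMap Ah Bh)).out 0 2).mpr hfm
  obtain ⟨D⟩ := Groth.L07.AvramovDiagram.nonempty_diagram (A := Ah) (B := Bh)
  let I : Ideal D.R := RingHom.ker D.p
  let IS : Ideal D.S := I.map (algebraMap D.R D.S)
  let T0 := D.S ⧸ IS
  have hISle : IS ≤ maximalIdeal D.S := (Ideal.map_mono (IsLocalRing.le_maximalIdeal (RingHom.ker_ne_top D.p))).trans
    (IsLocalRing.map_maximalIdeal_le (algebraMap D.R D.S))
  haveI : Nontrivial T0 := Ideal.Quotient.nontrivial_iff.mpr fun h =>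
    (IsLocalRing.maximalIdeal.isMaximal D.S).ne_top (top_le_iff.mp (h.ge.trans hISle))
  haveI : IsLocalRing T0 := IsLocalRing.of_surjective' _ Ideal.Quotient.mk_surjective
  let e : (D.R ⧸ I) ≃+* Ah := RingHom.quotientKerEquivOfSurjective D.surjP
  let g : (D.R ⧸ I) →+* T0 := Ideal.quotientMap IS (algebraMap D.R D.S) Ideal.le_comap_map
  have hg : g.Flat := by
    show (algebraMap (D.R ⧸ I) T0).Flat
    rw [RingHom.flat_algebraMap_iff]
    haveI : Module.Flat (D.R ⧸ I) ((D.R ⧸ I) ⊗[D.R] D.S) := inferInstance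
    exact Module.Flat.of_linearEquiv (Algebra.TensorProduct.quotIdealMapEquivQuotTensor D.S I).toLinearEquiv
  have hq : IS ≤ RingHom.ker D.q := Ideal.map_le_iff_le_comap.mpr fun r hr => by
    show D.q (algebraMap D.R D.S r) = 0
    rw [D.comm, show D.p r = 0 from hr, map_zero]
  let q0 : T0 →+* Bh := Ideal.Quotient.lift IS D.q fun x hx => hq hx
  have hq0 : Function.Surjective q0 := fun y => by
    obtain ⟨x, rfl⟩ := D.surjQ y
    exact ⟨Ideal.Quotient.mk IS x, rfl⟩
  let h0 : A →+* T0 := (g.comp e.symm.toRingHom).comp (algebraMap A Ah)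
  have hh0 : h0.Flat := by
    refine RingHom.Flat.comp ?_ (RingHom.Flat.comp (RingHom.Flat.of_bijective e.symm.bijective) hg)
    rw [RingHom.flat_algebraMap_iff]
    infer_instance
  have hcomm : ∀ a, q0 (h0 a) = algebraMap B Bh (algebraMap A B a) := fun a => by
    obtain ⟨r, hr⟩ := D.surjP (algebraMap A Ah a)
    have h1 : e.symm (algebraMap A Ah a) = Ideal.Quotient.mk I r := by
      rw [RingEquiv.symm_apply_eq, ← hr]
      rfl
    show q0 (g (e.symm (algebraMap A Ah a))) = _
    rw [h1]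
    show D.q (algebraMap D.R D.S r) = _
    rw [D.comm, hr]
    exact hf a
  haveI : IsNoetherianRing T0 := inferInstance
  haveI := Groth.L01.AnalUnram.isNoetherianRing_completion T0
  let T := AdicCompletion (maximalIdeal T0) T0
  obtain ⟨π, hπ, -⟩ := Groth.L01.CompletionExt.exists_extend q0 (Ideal.map_le_iff_le_comap.mpr fun x hx => by
    show q0 x ∈ maximalIdeal Bh
    intro hu
    exact (mem_maximalIdeal x).mp hx (by
      haveI : IsLocalHom q0 := IsLocalHom.of_surjective q0 hq0
      exact isUnit_of_map_unit q0 x hu))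
  letI : Algebra A T0 := h0.toAlgebra
  haveI : Module.Flat A T0 := hh0
  haveI : Module.Flat A T := Module.Flat.trans A T0 T
  refine ⟨T, inferInstance, inferInstance, inferInstance, inferInstance,
    AlgHom.mk π (fun a => (hπ (h0 a)).trans ((hcomm a).trans (IsScalarTower.algebraMap_apply A B Bh a).symm)),
    inferInstance, inferInstance, fun y => ?_⟩
  obtain ⟨x, rfl⟩ := hq0 y
  exact ⟨algebraMap T0 T x, hπ x⟩

set_option maxHeartbeats 800000 in
/-- formal smoothness lifts `B → B̂` through surjections from complete algebras -/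
theorem exists_retract {A B T : Type u} [CommRing A] [CommRing B] [CommRing T] [Algebra A B] [Algebra A T]
    [IsLocalRing B] [IsNoetherianRing B] [IsLocalRing T] [IsAdicComplete (maximalIdeal T) T]
    (h : CAlgX.IsAdicFormallySmooth A B (maximalIdeal B))
    (π : T →ₐ[A] AdicCompletion (maximalIdeal B) B) (hπ : Function.Surjective π) :
    ∃ g : B →ₐ[A] T, ∀ b, π (g b) = algebraMap B (AdicCompletion (maximalIdeal B) B) b := by
  let Bh := AdicCompletion (maximalIdeal B) B
  let n := maximalIdeal T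
  let Q : Ideal Bh := maximalIdeal Bh
  have hnQ : n.map π.toRingHom = Q := by
    haveI := Ideal.comap_isMaximal_of_surjective π.toRingHom hπ (K := Q)
    show (maximalIdeal T).map π.toRingHom = Q
    rw [← IsLocalRing.eq_maximalIdeal this]
    exact Ideal.map_comap_of_surjective _ hπ _
  have hQ : (maximalIdeal B).map (algebraMap B Bh) = Q := Groth.L01.AnalUnram.completion_map_maximalIdeal B
  let ι : B →ₐ[A] Bh := IsScalarTower.toAlgHom A B Bh
  let Θty := fun j => {θ : B →ₐ[A] T ⧸ n ^ (j + 1) // (∃ M, ∀ x ∈ maximalIdeal B ^ M, θ x = 0) ∧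
    ∀ b, ∃ t, θ b = Ideal.Quotient.mk _ t ∧ π t - ι b ∈ Q ^ (j + 1)}
  have base : Nonempty (Θty 0) := by
    have H : n ^ 1 ≤ (Q ^ 1).comap π.toRingHom := Ideal.map_le_iff_le_comap.mp
      (by rw [pow_one, pow_one]; exact hnQ.le)
    let p : (T ⧸ n ^ 1) →ₐ[A] Bh ⧸ Q ^ 1 := Ideal.quotientMapₐ (Q ^ 1) π H
    have hp : Function.Bijective p := by
      refine ⟨Ideal.quotientMap_injective' (f := π.toRingHom) (H := H) ?_, Ideal.quotientMap_surjective (f := π.toRingHom) (H := H) hπ⟩
      rw [pow_one, pow_one]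
      refine le_of_eq (IsLocalRing.eq_maximalIdeal ?_)
      exact Ideal.comap_isMaximal_of_surjective π.toRingHom hπ
    let e := AlgEquiv.ofBijective p hp
    refine ⟨⟨e.symm.toAlgHom.comp ((Ideal.Quotient.mkₐ A (Q ^ 1)).comp ι), ⟨1, fun x hx => ?_⟩, fun b => ?_⟩⟩
    · show e.symm (Ideal.Quotient.mk (Q ^ 1) (ι x)) = 0
      rw [Ideal.Quotient.eq_zero_iff_mem.mpr, map_zero]
      rw [pow_one] at hx ⊢
      exact hQ ▸ Ideal.mem_map_of_mem _ hx
    · obtain ⟨t, ht⟩ := Ideal.Quotient.mk_surjective (e.symm (Ideal.Quotient.mk (Q ^ 1) (ι b)))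
      refine ⟨t, ht.symm, Ideal.Quotient.eq.mp ?_⟩
      have h1 := congrArg e ht
      rw [AlgEquiv.apply_symm_apply] at h1
      exact h1
  have step : ∀ j (θ : Θty j), ∃ θ' : Θty (j + 1), ∀ b,
      Ideal.Quotient.factor (Ideal.pow_le_pow_right (Nat.le_succ (j + 1))) (θ'.1 b) = θ.1 b := by
    intro j ⟨θ, ⟨M, hM⟩, hθ⟩
    let L : Ideal T := n ^ (j + 1) ⊓ (Q ^ (j + 1 + 1)).comap π.toRingHom
    have hle : n ^ (j + 1 + 1) ≤ L := le_inf (Ideal.pow_le_pow_right (Nat.le_succ _))
      (Ideal.map_le_iff_le_comap.mp (by rw [Ideal.map_pow, hnQ]))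
    let J : Ideal (T ⧸ n ^ (j + 1 + 1)) := L.map (Ideal.Quotient.mkₐ A (n ^ (j + 1 + 1)))
    have hJ : J ^ 2 = ⊥ := by
      rw [← le_bot_iff, ← Ideal.map_pow]
      refine (Ideal.map_mono ((Ideal.pow_right_mono inf_le_left 2).trans ?_)).trans
        (le_of_eq (Ideal.map_quotient_self _))
      rw [← pow_mul]
      exact Ideal.pow_le_pow_right (by omega)
    let Φ : (T ⧸ L) →ₐ[A] (T ⧸ n ^ (j + 1)) × (Bh ⧸ Q ^ (j + 1 + 1)) :=
      (Ideal.Quotient.factorₐ A (inf_le_left : L ≤ _)).prod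
        (Ideal.quotientMapₐ (Q ^ (j + 1 + 1)) π (inf_le_right : L ≤ _))
    have hΦ : Function.Injective Φ := by
      refine (injective_iff_map_eq_zero Φ).mpr fun z hz => ?_
      obtain ⟨t, rfl⟩ := Ideal.Quotient.mk_surjective z
      exact Ideal.Quotient.eq_zero_iff_mem.mpr ⟨Ideal.Quotient.eq_zero_iff_mem.mp (congrArg Prod.fst hz),
        Ideal.mem_comap.mpr (Ideal.Quotient.eq_zero_iff_mem.mp (show Ideal.Quotient.mk (Q ^ (j + 1 + 1)) (π t) = 0 from congrArg Prod.snd hz))⟩
    let T' : B →ₐ[A] (T ⧸ n ^ (j + 1)) × (Bh ⧸ Q ^ (j + 1 + 1)) :=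
      θ.prod ((Ideal.Quotient.mkₐ A _).comp ι)
    have hT : ∀ b, T' b ∈ Φ.range := by
      intro b
      obtain ⟨t, ht, htb⟩ := hθ b
      have h1 : π t - ι b ∈ (n ^ (j + 1)).map π.toRingHom := by rw [Ideal.map_pow, hnQ]; exact htb
      obtain ⟨u, hu, hue⟩ := (Ideal.mem_map_iff_of_surjective π.toRingHom hπ).mp h1
      refine ⟨Ideal.Quotient.mk L (t - u), Prod.ext ?_ ?_⟩
      · show Ideal.Quotient.mk (n ^ (j + 1)) (t - u) = θ b
        rw [map_sub, Ideal.Quotient.eq_zero_iff_mem.mpr hu, sub_zero, ht]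
      · show Ideal.Quotient.mk (Q ^ (j + 1 + 1)) (π (t - u)) = Ideal.Quotient.mk _ (ι b)
        rw [map_sub π, show π u = π t - ι b from hue, sub_sub_cancel]
    let eT := AlgEquiv.ofInjective Φ hΦ
    let ψ0 : B →ₐ[A] T ⧸ L := eT.symm.toAlgHom.comp (T'.codRestrict Φ.range hT)
    have hψ0 : ∀ b, Φ (ψ0 b) = T' b := fun b =>
      congrArg Subtype.val (eT.apply_symm_apply ⟨T' b, hT b⟩)
    let eL := DoubleQuot.quotQuotEquivQuotOfLEₐ A hle
    let ψ : B →ₐ[A] (T ⧸ n ^ (j + 1 + 1)) ⧸ J := eL.symm.toAlgHom.comp ψ0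
    have hkill : ∀ x ∈ maximalIdeal B ^ (M + (j + 1 + 1)), ψ x = 0 := fun x hx => by
      show eL.symm (ψ0 x) = 0
      rw [show ψ0 x = 0 from hΦ ?_, map_zero]
      rw [hψ0, map_zero]
      refine Prod.ext (hM x (Ideal.pow_le_pow_right (Nat.le_add_right _ _) hx)) (Ideal.Quotient.eq_zero_iff_mem.mpr ?_)
      rw [← hQ, ← Ideal.map_pow]
      exact Ideal.mem_map_of_mem _ (Ideal.pow_le_pow_right (Nat.le_add_left _ _) hx)
    obtain ⟨χ, hχ⟩ := h _ J hJ ψ ⟨_, hkill⟩
    have hχΦ : ∀ b t, χ b = Ideal.Quotient.mk _ t → Φ (Ideal.Quotient.mk L t) = T' b := fun b t ht => by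
      have h1 : Ideal.Quotient.mk J (χ b) = eL.symm (ψ0 b) := DFunLike.congr_fun hχ b
      have h2 := congrArg eL h1
      rw [AlgEquiv.apply_symm_apply, ht] at h2
      rw [← hψ0, ← h2]
      rfl
    have hχk : ∀ x ∈ maximalIdeal B ^ (M + (j + 1 + 1)), χ x ∈ J := fun x hx => by
      rw [← Ideal.Quotient.eq_zero_iff_mem]
      exact (DFunLike.congr_fun hχ x).trans (hkill x hx)
    refine ⟨⟨χ, ⟨(M + (j + 1 + 1)) + (M + (j + 1 + 1)), fun x hx => ?_⟩, fun b => ?_⟩, fun b => ?_⟩
    · rw [pow_add] at hx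
      refine Submodule.mul_induction_on hx (fun b hb c hc => ?_) (fun y z hy hz => by rw [map_add, hy, hz, add_zero])
      have h1 := Ideal.mul_mem_mul (hχk b hb) (hχk c hc)
      rwa [← pow_two, hJ, Ideal.mem_bot, ← map_mul] at h1
    · obtain ⟨t, ht⟩ := Ideal.Quotient.mk_surjective (χ b)
      exact ⟨t, ht.symm, Ideal.Quotient.eq.mp (congrArg Prod.snd (hχΦ b t ht.symm))⟩
    · obtain ⟨t, ht⟩ := Ideal.Quotient.mk_surjective (χ b)
      show Ideal.Quotient.factor _ (χ b) = θ b
      rw [← ht]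
      exact congrArg Prod.fst (hχΦ b t ht.symm)
  choose next hnext using step
  let Θ : ∀ j, Θty j := fun j => Nat.rec (motive := Θty) base.some (fun j θ => next j θ) j
  have ha : StrictMono fun j : ℕ => j + 1 := strictMono_nat_of_lt_succ fun j => by omega
  have hc : ∀ {m : ℕ}, (Ideal.Quotient.factorPow n (ha.monotone m.le_succ)).comp (Θ (m + 1)).1.toRingHom =
      (Θ m).1.toRingHom := fun {m} => RingHom.ext fun b => hnext m (Θ m) b
  let g : B →+* T := IsAdicComplete.StrictMono.liftRingHom n ha (fun j => (Θ j).1.toRingHom) hc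
  have hg : ∀ j b, Ideal.Quotient.mk (n ^ (j + 1)) (g b) = (Θ j).1 b := fun j b =>
    IsAdicComplete.StrictMono.mk_liftRingHom n ha (fun j => (Θ j).1.toRingHom) hc (n := j) b
  have hgA : ∀ a, g (algebraMap A B a) = algebraMap A T a := fun a => by
    refine sub_eq_zero.mp (IsHausdorff.haus (I := n) inferInstance _ fun j => ?_)
    rw [SModEq.zero, smul_eq_mul, Ideal.mul_top]
    refine Ideal.pow_le_pow_right (Nat.le_succ j) (Ideal.Quotient.eq.mp ?_)
    rw [hg, AlgHom.commutes]
    rfl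
  refine ⟨AlgHom.mk g hgA, fun b => sub_eq_zero.mp (IsHausdorff.haus (I := Q) inferInstance _ fun j => ?_)⟩
  rw [SModEq.zero, smul_eq_mul, Ideal.mul_top]
  refine Ideal.pow_le_pow_right (Nat.le_succ j) ?_
  obtain ⟨t, ht, htb⟩ := (Θ j).2.2 b
  have h1 : π (g b) - π t ∈ Q ^ (j + 1) := by
    rw [← map_sub, ← hnQ, ← Ideal.map_pow]
    exact Ideal.mem_map_of_mem π.toRingHom (Ideal.Quotient.eq.mp ((hg j b).trans ht))
  show π (g b) - ι b ∈ _
  rw [← sub_add_sub_cancel (π (g b)) (π t) (ι b)]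
  exact add_mem h1 htb

/-- adically formally smooth local homomorphisms are flat -/
theorem flat_of_adicSmooth {A B : Type u} [CommRing A] [CommRing B] [IsLocalRing A] [IsNoetherianRing A]
    [IsLocalRing B] [IsNoetherianRing B] [Algebra A B] [IsLocalHom (algebraMap A B)]
    (h : CAlgX.IsAdicFormallySmooth A B (maximalIdeal B)) : Module.Flat A B := by
  obtain ⟨T, _, _, _, _, π, hc, hflat, hπ⟩ := exists_flat_factor A B
  haveI := hc
  haveI := hflat
  obtain ⟨g, hg⟩ := exists_retract h π hπ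
  let Bh := AdicCompletion (maximalIdeal B) B
  haveI := Groth.L01.CompletionExt.faithfullyFlat B
  refine Module.Flat.iff_lTensor_preserves_injective_linearMap.mpr fun N N' _ _ _ _ f hf => ?_
  refine (injective_iff_map_eq_zero _).mpr fun z hz => ?_
  have h1 : g.toLinearMap.rTensor N z = 0 := by
    refine Module.Flat.lTensor_preserves_injective_linearMap f hf ?_
    rw [map_zero, ← LinearMap.comp_apply, LinearMap.lTensor_comp_rTensor, ← LinearMap.rTensor_comp_lTensor,
      LinearMap.comp_apply, hz, map_zero]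
  have h2 : (IsScalarTower.toAlgHom A B Bh).toLinearMap.rTensor N z = 0 := by
    have : (IsScalarTower.toAlgHom A B Bh).toLinearMap = π.toLinearMap ∘ₗ g.toLinearMap :=
      LinearMap.ext fun b => (hg b).symm
    rw [this, LinearMap.rTensor_comp, LinearMap.comp_apply, h1, map_zero]
  have key : ∀ w : B ⊗[A] N, TensorProduct.AlgebraTensorModule.cancelBaseChange A B B Bh N ((1 : Bh) ⊗ₜ[B] w) =
      (IsScalarTower.toAlgHom A B Bh).toLinearMap.rTensor N w := fun w => by
    induction w using TensorProduct.induction_on with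
    | zero => rw [TensorProduct.tmul_zero, map_zero, map_zero]
    | tmul b m =>
      rw [TensorProduct.AlgebraTensorModule.cancelBaseChange_tmul, LinearMap.rTensor_tmul]
      show (b • (1 : Bh)) ⊗ₜ[A] m = algebraMap B Bh b ⊗ₜ[A] m
      rw [Algebra.smul_def, mul_one]
    | add x y hx hy => rw [TensorProduct.tmul_add, map_add, hx, hy, map_add]
  rw [← key, LinearEquiv.map_eq_zero_iff] at h2
  exact Module.FaithfullyFlat.tensorProduct_mk_injective (A := B) (B := Bh) (B ⊗[A] N)
    (h2.trans (map_zero (TensorProduct.mk B Bh (B ⊗[A] N) 1)).symm)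

end Groth.L06.FormSmooth
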