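import Groth.Agent.L06.DerLift
import Groth.Agent.L06.GeomLocalApp
import Mathlib.FieldTheory.Galois.Basic
import Mathlib.FieldTheory.PurelyInseparable.Basic
import Mathlib.FieldTheory.Normal.Closure
import Mathlib.RingTheory.Etale.Field

/-! Geometric regularity over fields from liftable derivations, and in characteristic zero. -/

set_option autoImplicit false
set_option maxSynthPendingDepth 3
set_option linter.style.haveILetI false
universe u

namespace Groth.L06.GeomRegField

open scoped TensorProduct
open PropLoc DerLift

theorem isNoetherianRing_left {K L R : Type u} [Field K] [Field L] [Algebra K L] [CommRing R] [Algebra K R]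
    [IsNoetherianRing R] [Module.Finite K L] : IsNoetherianRing (L ⊗[K] R) := by
  haveI : IsNoetherianRing (R ⊗[K] L) := IsNoetherianRing.of_finite R _
  exact isNoetherianRing_of_ringEquiv (R ⊗[K] L) (Algebra.TensorProduct.comm K R L).toRingEquiv

/-- a purely inseparable extension with a `p`-th root step -/
theorem exists_root {K L : Type u} [Field K] [Field L] [Algebra K L] (p : ℕ) [Fact p.Prime] [CharP K p]
    [IsPurelyInseparable K L] (h : Module.finrank K L ≠ 1) :
    ∃ (t : L) (a : K), t ^ p = algebraMap K L a ∧ (∀ b : K, b ^ p ≠ a) ∧ t ∉ (algebraMap K L).range := by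
  classical
  haveI : ExpChar K p := ExpChar.prime Fact.out
  haveI : CharP L p := charP_of_injective_algebraMap (algebraMap K L).injective p
  obtain ⟨x, hx⟩ : ∃ x : L, x ∉ (algebraMap K L).range := by
    by_contra hc
    push Not at hc
    apply h
    have htb : (⊤ : IntermediateField K L) = ⊥ := eq_bot_iff.mpr fun z _ => IntermediateField.mem_bot.mpr (hc z)
    rw [← IntermediateField.finrank_top' (F := K) (E := L), htb, IntermediateField.finrank_bot]
  have hex : ∃ n, x ^ p ^ n ∈ (algebraMap K L).range := IsPurelyInseparable.pow_mem K p x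
  obtain ⟨m, hm⟩ : ∃ m, Nat.find hex = m + 1 := by
    refine ⟨Nat.find hex - 1, ?_⟩
    have : Nat.find hex ≠ 0 := fun h0 => by
      have := Nat.find_spec hex
      rw [h0, pow_zero, pow_one] at this
      exact hx this
    omega
  obtain ⟨a, ha⟩ := Nat.find_spec hex
  have hmin := Nat.find_min hex (show m < Nat.find hex by omega)
  refine ⟨x ^ p ^ m, a, by rw [← pow_mul, ← pow_succ, ← hm, ha], fun b hb => hmin ⟨b, ?_⟩, hmin⟩
  refine frobenius_inj L p ?_
  show algebraMap K L b ^ p = (x ^ p ^ m) ^ p
  rw [← map_pow, hb, ha, ← pow_mul, ← pow_succ, ← hm]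

theorem regular_of_purelyInseparable (p : ℕ) [Fact p.Prime] : ∀ (n : ℕ) (K R L : Type u) [Field K] [CommRing R] [Algebra K R]
    [Field L] [Algebra K L] [CharP K p] [IsPurelyInseparable K L] [Module.Finite K L] [IsRegularRing R],
    LiftSep K R p → Module.finrank K L ≤ n → IsRegularRing (L ⊗[K] R) := by
  intro n
  induction n with
  | zero =>
    intro K R L _ _ _ _ _ _ _ _ _ _ hle
    have := Module.finrank_pos (R := K) (M := L)
    omega
  | succ n ih =>
    intro K R L _ _ _ _ _ _ _ _ _ hsep hle
    by_cases h1 : Module.finrank K L = 1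
    · let e : K ≃ₐ[K] L := AlgEquiv.ofBijective (Algebra.ofId K L)
        ⟨(algebraMap K L).injective, fun x => IntermediateField.mem_bot.mp
          ((IntermediateField.bot_eq_top_of_finrank_adjoin_eq_one fun y => by
            have h2 := IntermediateField.finrank_top' (F := K) (E := L)
            exact le_antisymm ((IntermediateField.finrank_le_of_le_right le_top).trans_eq (h2.trans h1))
              Module.finrank_pos) ▸ IntermediateField.mem_top : x ∈ (⊥ : IntermediateField K L))⟩
      exact IsRegularRing.of_ringEquiv (R := R)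
        ((Algebra.TensorProduct.lid K R).symm.trans (Algebra.TensorProduct.congr e AlgEquiv.refl)).toRingEquiv
    obtain ⟨t, a, ht, ha, htK⟩ := exists_root p h1
    let K1 : IntermediateField K L := IntermediateField.adjoin K {t}
    let t1 : K1 := ⟨t, IntermediateField.mem_adjoin_simple_self K t⟩
    have ht1 : t1 ^ p = algebraMap K K1 a := Subtype.ext ht
    have htop : Algebra.adjoin K {t1} = ⊤ := by
      refine eq_top_iff.mpr fun z _ => ?_
      have hz : (z : L) ∈ Algebra.adjoin K {t} := by
        have := z.2
        rw [← IntermediateField.mem_toSubalgebra,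
          IntermediateField.adjoin_simple_toSubalgebra_of_isAlgebraic (Algebra.IsAlgebraic.isAlgebraic t)] at this
        exact this
      rw [Algebra.adjoin_singleton_eq_range_aeval] at hz ⊢
      obtain ⟨P, hP⟩ := hz
      exact ⟨P, Subtype.ext ((Polynomial.aeval_algHom_apply K1.val t1 P).symm.trans hP)⟩
    haveI : CharP K1 p := charP_of_injective_algebraMap (algebraMap K K1).injective p
    haveI : IsPurelyInseparable K1 L := IsPurelyInseparable.tower_top K K1 L
    haveI : Module.Finite K1 L := Module.Finite.of_restrictScalars_finite K K1 L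
    haveI := regular_step p t1 a ht1 ha htop hsep
    have hlt : Module.finrank K1 L ≤ n := by
      have hmul := Module.finrank_mul_finrank K K1 L
      have h2 : 1 < Module.finrank K K1 := by
        have h3 := Module.finrank_pos (R := K) (M := K1)
        by_contra h4
        have h5 : K1 = ⊥ := IntermediateField.finrank_eq_one_iff.mp (by omega)
        exact htK (IntermediateField.mem_bot.mp (h5 ▸ IntermediateField.mem_adjoin_simple_self K t))
      nlinarith
    by_cases hR : Nontrivial R
    · haveI : CharP R p := charP_of_injective_algebraMap (algebraMap K R).injective p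
      haveI := ih K1 (K1 ⊗[K] R) L (liftSep_step p t1 a ht1 ha htop hsep) hlt
      exact IsRegularRing.of_ringEquiv (R := L ⊗[K1] (K1 ⊗[K] R))
        (Algebra.TensorProduct.cancelBaseChange K K1 K1 L R).toRingEquiv
    · haveI : Subsingleton R := not_nontrivial_iff_subsingleton.mp hR
      haveI : Subsingleton (L ⊗[K] R) := subsingleton_of_zero_eq_one (by
        rw [Algebra.TensorProduct.one_def, Subsingleton.elim (1 : R) 0, TensorProduct.tmul_zero])
      haveI : IsNoetherianRing (L ⊗[K] R) := inferInstance
      exact loc_reg_iff.mp fun q _ => absurd (Subsingleton.elim q ⊤) (Ideal.IsPrime.ne_top ‹_›)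

theorem loc_reg_of_isArtinianRing (R : Type u) [CommRing R] [IsArtinianRing R] [IsReduced R] : Loc QReg R := by
  intro q _
  haveI : IsArtinianRing (Localization.AtPrime q) := IsArtinianRing.localization_artinian q.primeCompl _
  haveI : IsReduced (Localization.AtPrime q) := inferInstance
  letI : Field (Localization.AtPrime q) := (IsArtinianRing.isField_of_isReduced_of_isLocalRing _).toField
  show IsRegularLocalRing (Localization.AtPrime q)
  infer_instance

theorem regular_of_separable (K R L : Type u) [Field K] [CommRing R] [Algebra K R] [Field L] [Algebra K L]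
    [Algebra.IsSeparable K L] [Module.Finite K L] [IsRegularRing R] : IsRegularRing (L ⊗[K] R) := by
  haveI : IsNoetherianRing (R ⊗[K] L) := IsNoetherianRing.of_finite R _
  haveI := isNoetherianRing_left (K := K) (L := L) (R := R)
  refine loc_reg_iff.mp (loc_of_ringEquiv good_reg (Algebra.TensorProduct.comm K R L).toRingEquiv
    (good_reg.ascend (loc_reg_iff.mpr ‹IsRegularRing R›) fun q _ => ?_))
  haveI : Algebra.FormallyEtale K L := Algebra.FormallyEtale.of_isSeparable K L
  haveI : IsArtinianRing (q.Fiber (R ⊗[K] L)) := IsArtinianRing.of_finite q.ResidueField _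
  haveI : IsReduced (q.Fiber (R ⊗[K] L)) := Algebra.FormallyUnramified.isReduced_of_field q.ResidueField _
  exact loc_reg_of_isArtinianRing _

theorem regular_descend_field {K L N R : Type u} [Field K] [Field L] [Field N] [Algebra K L] [Algebra K N] [Algebra L N]
    [IsScalarTower K L N] [Module.Finite K N] [Module.Finite K L] [CommRing R] [Algebra K R] [IsNoetherianRing R]
    (h : IsRegularRing (N ⊗[K] R)) : IsRegularRing (L ⊗[K] R) := by
  haveI := isNoetherianRing_left (K := K) (L := L) (R := R)
  haveI := isNoetherianRing_left (K := K) (L := N) (R := R)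
  haveI : Module.Finite L N := Module.Finite.of_restrictScalars_finite K L N
  haveI : IsNoetherianRing ((L ⊗[K] R) ⊗[L] N) := IsNoetherianRing.of_finite (L ⊗[K] R) _
  refine loc_reg_iff.mp (good_reg.descend (S := (L ⊗[K] R) ⊗[L] N) (loc_of_ringEquiv good_reg
    (((Algebra.TensorProduct.cancelBaseChange K L L N R).symm.toRingEquiv).trans
      (Algebra.TensorProduct.comm L N (L ⊗[K] R)).toRingEquiv) (loc_reg_iff.mpr h)))

theorem isPurelyInseparable_fixedField {K N : Type u} [Field K] [Field N] [Algebra K N] [Module.Finite K N] [Normal K N] :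
    IsPurelyInseparable K (IntermediateField.fixedField (⊤ : Subgroup (N ≃ₐ[K] N))) := by
  haveI : Algebra.IsIntegral K (IntermediateField.fixedField (⊤ : Subgroup (N ≃ₐ[K] N))) := Algebra.IsIntegral.of_finite _ _
  refine ⟨inferInstance, fun x hx => ?_⟩
  have hx' : IsSeparable K (x : N) := IsSeparable.map (IntermediateField.fixedField (⊤ : Subgroup (N ≃ₐ[K] N))).val Subtype.val_injective hx
  have hroots : ∀ y ∈ (minpoly K (x : N)).aroots N, y = (x : N) := by
    intro y hy
    obtain ⟨hne, hev⟩ := Polynomial.mem_aroots.mp hy
    obtain ⟨σ, hσ⟩ := minpoly.exists_algEquiv_of_root (Algebra.IsAlgebraic.isAlgebraic (x : N)) hev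
    have h' : σ (x : N) = (x : N) := x.2 ⟨σ, trivial⟩
    exact σ.injective (hσ.trans h'.symm)
  have hdeg : (minpoly K (x : N)).natDegree = 1 := by
    have hint : IsIntegral K (x : N) := Algebra.IsIntegral.isIntegral _
    have hnd : ((minpoly K (x : N)).aroots N).Nodup := Polynomial.nodup_roots (Polynomial.Separable.map hx')
    have hcard : ((minpoly K (x : N)).aroots N).card = (minpoly K (x : N)).natDegree := by
      rw [← Polynomial.natDegree_map (algebraMap K N)]
      exact (Polynomial.Splits.natDegree_eq_card_roots (Normal.splits ‹_› (x : N))).symm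
    have hle : ((minpoly K (x : N)).aroots N).card ≤ 1 := by
      classical
      rw [← Multiset.toFinset_card_of_nodup hnd]
      refine Finset.card_le_one.mpr fun y hy z hz => ?_
      rw [hroots y (Multiset.mem_toFinset.mp hy), hroots z (Multiset.mem_toFinset.mp hz)]
    have := minpoly.natDegree_pos hint
    omega
  obtain ⟨c, hc⟩ := minpoly.natDegree_eq_one_iff.mp hdeg
  exact ⟨c, Subtype.ext hc⟩

theorem isGeometricallyRegular_of_liftSep {K R : Type u} [Field K] [CommRing R] [Algebra K R] [IsRegularRing R]
    (p : ℕ) [Fact p.Prime] [CharP K p] (h : LiftSep K R p) : CAlg.IsGeometricallyRegular K R := by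
  intro L _ _ hL
  haveI := hL
  let Ω := AlgebraicClosure L
  let N := IntermediateField.normalClosure K L Ω
  haveI : Normal K Ω := normal_iff.mpr fun x => ⟨(Algebra.IsIntegral.trans L).isIntegral x, IsAlgClosed.splits _⟩
  haveI : Normal K N := normalClosure.normal K L Ω
  haveI : FiniteDimensional K N := normalClosure.is_finiteDimensional K L Ω
  let j : L →ₐ[K] N := (IsScalarTower.toAlgHom K L Ω).codRestrict N.toSubalgebra fun x =>
    AlgHom.fieldRange_le_normalClosure (IsScalarTower.toAlgHom K L Ω) ⟨x, rfl⟩
  letI : Algebra L N := j.toRingHom.toAlgebra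
  haveI : IsScalarTower K L N := IsScalarTower.of_algebraMap_eq fun x => (j.commutes x).symm
  let F := IntermediateField.fixedField (⊤ : Subgroup (N ≃ₐ[K] N))
  haveI : IsPurelyInseparable K F := isPurelyInseparable_fixedField
  haveI : Module.Finite F N := Module.Finite.of_restrictScalars_finite K F N
  haveI : IsGalois F N := IsGalois.of_fixed_field N (⊤ : Subgroup (N ≃ₐ[K] N))
  haveI := regular_of_purelyInseparable p _ K R F h le_rfl
  haveI := regular_of_separable F (F ⊗[K] R) N
  refine regular_descend_field (N := N) ?_
  exact IsRegularRing.of_ringEquiv (R := N ⊗[F] (F ⊗[K] R)) (Algebra.TensorProduct.cancelBaseChange K F F N R).toRingEquiv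

theorem isGeometricallyRegular_of_charZero {K R : Type u} [Field K] [CommRing R] [Algebra K R] [IsRegularRing R]
    [CharZero K] : CAlg.IsGeometricallyRegular K R := by
  intro L _ _ hL
  haveI := hL
  haveI : Algebra.IsSeparable K L := Algebra.IsSeparable.of_integral K L
  exact regular_of_separable K R L

end Groth.L06.GeomRegField
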