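import Groth.Agent.L06.J2
import Groth.Agent.L22.AffineDim
import Mathlib.RingTheory.QuasiFinite.Basic
import Mathlib.RingTheory.DedekindDomain.Basic

set_option autoImplicit false
set_option linter.style.haveILetI false
universe u

namespace Groth.L06.J2

theorem dimensionLEOne_of_finite {A : Type u} [CommRing A] (hdim : ringKrullDim A ≤ 1) (A' : Type u) [CommRing A']
    [IsDomain A'] [Algebra A A'] [Module.Finite A A'] : Ring.DimensionLEOne A' := by
  letI : Algebra (A ⧸ RingHom.ker (algebraMap A A')) A' := (RingHom.kerLift (algebraMap A A')).toAlgebra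
  haveI : IsScalarTower A (A ⧸ RingHom.ker (algebraMap A A')) A' := IsScalarTower.of_algebraMap_eq fun a => rfl
  haveI : Algebra.IsIntegral A A' := Algebra.IsIntegral.of_finite A A'
  haveI : Algebra.IsIntegral (A ⧸ RingHom.ker (algebraMap A A')) A' := Algebra.IsIntegral.tower_top A
  have h : ringKrullDim A' ≤ 1 := by
    rw [Groth.L22.AffineDim.ringKrullDim_eq_of_isIntegral (R := A ⧸ RingHom.ker (algebraMap A A')) (RingHom.kerLift_injective _)]
    exact (ringKrullDim_quotient_le _).trans hdim
  haveI : Ring.KrullDimLE 1 A' := Ring.krullDimLE_iff.mpr (by exact_mod_cast h)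
  exact ⟨fun {p} hne hp => Ring.krullDimLE_one_iff_of_noZeroDivisors.mp inferInstance p hne hp⟩

end Groth.L06.J2
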