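import Groth.Agent.L06.LfpDense
import Groth.Agent.L02.Misc.STD
import Mathlib.AlgebraicGeometry.Morphisms.FlatMono

/-!
A separated flat morphism which is an isomorphism over a dense open is an open immersion.
-/

set_option autoImplicit false
set_option maxSynthPendingDepth 3
set_option linter.style.haveILetI false

universe u

open CategoryTheory CategoryTheory.Limits AlgebraicGeometry

namespace Groth.L06.DenseIsoOpenImm

theorem mono_of_dense {X S : Scheme.{u}} (f : X ⟶ S) [IsSeparated f] [Flat f] (U : S.Opens)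
    [QuasiCompact U.ι] [IsSchemeTheoreticallyDominant U.ι] [Mono (f ∣_ U)] : Mono f := by
  haveI : Flat (pullback.fst f f) := MorphismProperty.pullback_fst _ _ ‹Flat f›
  let g := pullback.fst f f ≫ f
  let V := g ⁻¹ᵁ U
  haveI : IsSchemeTheoreticallyDominant V.ι :=
    IsSchemeTheoreticallyDominant.of_isPullback (isPullback_morphismRestrict g U)
  have hcond : ∀ (h : pullback f f ⟶ X), h ≫ f = g →
      ∃ t : (V : Scheme) ⟶ (f ⁻¹ᵁ U : Scheme), t ≫ (f ⁻¹ᵁ U).ι = V.ι ≫ h ∧ t ≫ f ∣_ U = g ∣_ U := by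
    intro h hh
    have hr : Set.range (V.ι ≫ h) ⊆ Set.range (f ⁻¹ᵁ U).ι := by
      rw [Scheme.Opens.range_ι]
      rintro _ ⟨x, rfl⟩
      show f (h (V.ι x)) ∈ U
      rw [← Scheme.Hom.comp_apply, hh]
      exact x.2
    refine ⟨IsOpenImmersion.lift (f ⁻¹ᵁ U).ι (V.ι ≫ h) hr, IsOpenImmersion.lift_fac _ _ _, ?_⟩
    rw [← cancel_mono U.ι, Category.assoc, morphismRestrict_ι, IsOpenImmersion.lift_fac_assoc,
      morphismRestrict_ι, Category.assoc, hh]
  obtain ⟨t₁, h₁, h₁'⟩ := hcond (pullback.fst f f) rfl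
  obtain ⟨t₂, h₂, h₂'⟩ := hcond (pullback.snd f f) (pullback.condition.symm)
  have ht : t₁ = t₂ := by rw [← cancel_mono (f ∣_ U), h₁', h₂']
  have hV : (V.ι ≫ pullback.fst f f) ≫ pullback.diagonal f = V.ι := by
    apply pullback.hom_ext
    · simp
    · rw [Category.assoc, pullback.diagonal_snd, Category.comp_id, ← h₁, ht, h₂]
  haveI : IsSchemeTheoreticallyDominant (pullback.diagonal f) := by
    refine ⟨le_bot_iff.1 ?_⟩
    rw [← V.ι.ker_eq_bot]
    conv_rhs => rw [← hV]
    exact Scheme.Hom.le_ker_comp _ _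
  haveI := Groth.L02.STD.isIso_of_closedImmersion_of_dominant (pullback.diagonal f)
  exact (pullback.isIso_diagonal_iff f).mp inferInstance

theorem isOpenImmersion_of_dense {X S : Scheme.{u}} (f : X ⟶ S) [IsSeparated f] [LocallyOfFiniteType f]
    [Flat f] (U : S.Opens) [QuasiCompact U.ι] [IsSchemeTheoreticallyDominant U.ι] [IsIso (f ∣_ U)] :
    IsOpenImmersion f := by
  haveI := Groth.L06.LfpDense.locallyOfFinitePresentation_of_dense f U
  haveI := mono_of_dense f U
  exact IsOpenImmersion.of_flat_of_mono f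

end Groth.L06.DenseIsoOpenImm
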