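import Groth.Agent.L06.InsepJ0
import Groth.Agent.L06.PropInstances
import Mathlib.RingTheory.RegularLocalRing.Polynomial
import Mathlib.RingTheory.Unramified.Field
import Mathlib.RingTheory.TensorProduct.Maps

/-! Regularity after inseparable base change from liftable derivations. -/

set_option autoImplicit false
set_option maxSynthPendingDepth 3
set_option linter.style.haveILetI false
universe u

namespace Groth.L06.DerLift

open scoped TensorProduct
open Polynomial

/-- derivations on the two factors give a derivation on the tensor product -/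
theorem exists_tensor_der {T M N : Type u} [CommRing T] [CommRing M] [CommRing N] [Algebra T M] [Algebra T N]
    (δ : Derivation ℤ T T) (DM : Derivation ℤ M M) (hM : ∀ c, DM (algebraMap T M c) = algebraMap T M (δ c))
    (DN : Derivation ℤ N N) (hN : ∀ c, DN (algebraMap T N c) = algebraMap T N (δ c)) :
    ∃ D : Derivation ℤ (M ⊗[T] N) (M ⊗[T] N), ∀ m n, D (m ⊗ₜ n) = DM m ⊗ₜ n + m ⊗ₜ DN n := by
  let g : M →+ N →+ M ⊗[T] N :=
    { toFun := fun m =>
        { toFun := fun n => DM m ⊗ₜ n + m ⊗ₜ DN n
          map_zero' := by simp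
          map_add' := fun x y => by simp only [map_add, TensorProduct.tmul_add]; abel }
      map_zero' := by ext n; simp
      map_add' := fun x y => by ext n; simp [TensorProduct.add_tmul]; abel }
  let f : M ⊗[T] N →+ M ⊗[T] N := TensorProduct.liftAddHom g fun c m n => by
    show DM (c • m) ⊗ₜ[T] n + (c • m) ⊗ₜ DN n = DM m ⊗ₜ (c • n) + m ⊗ₜ DN (c • n)
    have h1 : DM (c • m) = c • DM m + δ c • m := by
      rw [show c • m = algebraMap T M c * m from Algebra.smul_def c m, DM.leibniz, hM, smul_eq_mul, smul_eq_mul, Algebra.smul_def, Algebra.smul_def, mul_comm m]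
    have h2 : DN (c • n) = c • DN n + δ c • n := by
      rw [show c • n = algebraMap T N c * n from Algebra.smul_def c n, DN.leibniz, hN, smul_eq_mul, smul_eq_mul, Algebra.smul_def, Algebra.smul_def, mul_comm n]
    rw [h1, h2, TensorProduct.add_tmul, TensorProduct.tmul_add]
    simp only [TensorProduct.smul_tmul', TensorProduct.tmul_smul]
    abel
  have hf : ∀ m n, f (m ⊗ₜ n) = DM m ⊗ₜ n + m ⊗ₜ DN n := fun m n => rfl
  refine ⟨Derivation.mk' f.toIntLinearMap fun x y => ?_, hf⟩
  show f (x * y) = x • f y + y • f x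
  induction x using TensorProduct.induction_on with
  | zero => simp
  | add x x' h h' => rw [add_mul, map_add, h, h', map_add]; simp only [smul_eq_mul]; ring
  | tmul m n =>
    induction y using TensorProduct.induction_on with
    | zero => simp
    | add y y' h h' => rw [mul_add, map_add, h, h', map_add]; simp only [smul_eq_mul]; ring
    | tmul m' n' =>
      simp only [Algebra.TensorProduct.tmul_mul_tmul, hf, smul_eq_mul, mul_add, DM.leibniz, DN.leibniz,
        TensorProduct.add_tmul, TensorProduct.tmul_add, mul_comm n' n, mul_comm m' m, mul_comm m' (DM m),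
        mul_comm n' (DN n)]
      simp only [mul_comm]
      abel

/-- in characteristic `p` the `p`-th iterate of a derivation is a derivation -/
noncomputable def pPow {K : Type u} [CommRing K] (p : ℕ) [Fact p.Prime] [CharP K p] (D : Derivation ℤ K K) :
    Derivation ℤ K K :=
  Derivation.mk' ((D.toLinearMap : Module.End ℤ K) ^ p) fun a b => by
    have hD : ∀ (n : ℕ) (z : K), ((D.toLinearMap : Module.End ℤ K) ^ n) z = D^[n] z := fun n z => by
      rw [Module.End.pow_apply]; rfl
    simp only [hD, smul_eq_mul]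
    have hL : ∀ n : ℕ, D^[n] (a * b) = ∑ i ∈ Finset.range (n + 1), (n.choose i : K) * (D^[i] a * D^[n - i] b) := by
      intro n
      induction n with
      | zero => simp
      | succ n ih =>
        rw [Function.iterate_succ_apply', ih, map_sum]
        have hstep : ∀ i ∈ Finset.range (n + 1), D ((n.choose i : K) * (D^[i] a * D^[n - i] b)) =
            (n.choose i : K) * (D^[i + 1] a * D^[n - i] b) + (n.choose i : K) * (D^[i] a * D^[n + 1 - i] b) := by
          intro i hi
          have hi' : n + 1 - i = n - i + 1 := by have := Finset.mem_range.mp hi; omega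
          rw [D.leibniz, D.map_natCast, smul_zero, add_zero, smul_eq_mul, D.leibniz, smul_eq_mul, smul_eq_mul, hi',
            Function.iterate_succ_apply', Function.iterate_succ_apply']
          ring
        rw [Finset.sum_congr rfl hstep, Finset.sum_add_distrib,
          Finset.sum_range_succ' (fun i => ((n + 1).choose i : K) * (D^[i] a * D^[n + 1 - i] b))]
        simp only [Nat.choose_succ_succ', Nat.cast_add, add_mul, Finset.sum_add_distrib, Nat.choose_zero_right,
          Nat.cast_one, one_mul, Function.iterate_zero_apply, Nat.sub_zero, Nat.add_sub_add_right]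
        have key : ∑ i ∈ Finset.range (n + 1), (n.choose (i + 1) : K) * (D^[i + 1] a * D^[n - i] b) + a * D^[n + 1] b =
            ∑ i ∈ Finset.range (n + 1), (n.choose i : K) * (D^[i] a * D^[n + 1 - i] b) := by
          rw [Finset.sum_range_succ' (fun i => (n.choose i : K) * (D^[i] a * D^[n + 1 - i] b)),
            Finset.sum_range_succ _ n]
          simp [Nat.choose_succ_self]
        rw [← key]
        ring
    have hp : p.Prime := Fact.out
    rw [hL p, Finset.sum_eq_add_of_mem 0 p (Finset.mem_range.mpr (Nat.succ_pos p)) (Finset.mem_range.mpr (Nat.lt_succ_self p)) hp.ne_zero.symm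
      (fun i hi hne => by
        have hi' := Finset.mem_range.mp hi
        rw [(CharP.cast_eq_zero_iff K p _).mpr (hp.dvd_choose_self hne.1 (by omega)), zero_mul])]
    simp
    ring

theorem pPow_apply {K : Type u} [CommRing K] (p : ℕ) [Fact p.Prime] [CharP K p] (D : Derivation ℤ K K) (x : K) :
    pPow p D x = D^[p] x := by
  show ((D.toLinearMap : Module.End ℤ K) ^ p) x = _
  rw [Module.End.pow_apply]; rfl

variable {K : Type u} [Field K] {R : Type u} [CommRing R] [Algebra K R]

variable (R) in
/-- the derivation lifts to `R` -/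
def Lift (D : Derivation ℤ K K) : Prop :=
  ∃ DR : Derivation ℤ R R, ∀ c, DR (algebraMap K R c) = algebraMap K R (D c)

theorem Lift.zero : Lift R (0 : Derivation ℤ K K) := ⟨0, fun c => by simp⟩

theorem Lift.smul {D : Derivation ℤ K K} (h : Lift R D) (c : K) : Lift R (c • D) := by
  obtain ⟨DR, h⟩ := h
  exact ⟨algebraMap K R c • DR, fun x => by
    rw [Derivation.smul_apply, Derivation.smul_apply, h, smul_eq_mul, smul_eq_mul, map_mul]⟩

theorem Lift.sub {D E : Derivation ℤ K K} (h : Lift R D) (h' : Lift R E) : Lift R (D - E) := by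
  obtain ⟨DR, h⟩ := h
  obtain ⟨ER, h'⟩ := h'
  exact ⟨DR - ER, fun x => by rw [Derivation.sub_apply, Derivation.sub_apply, h, h', map_sub]⟩

theorem Lift.bracket {D E : Derivation ℤ K K} (h : Lift R D) (h' : Lift R E) : Lift R ⁅D, E⁆ := by
  obtain ⟨DR, h⟩ := h
  obtain ⟨ER, h'⟩ := h'
  exact ⟨⁅DR, ER⁆, fun x => by
    rw [Derivation.commutator_apply, Derivation.commutator_apply, h', h, h, h', map_sub]⟩

theorem Lift.pPow (p : ℕ) [Fact p.Prime] [CharP K p] [CharP R p] {D : Derivation ℤ K K} (h : Lift R D) :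
    Lift R (DerLift.pPow p D) := by
  obtain ⟨DR, h⟩ := h
  refine ⟨DerLift.pPow p DR, fun x => ?_⟩
  rw [pPow_apply, pPow_apply]
  have : ∀ n, DR^[n] (algebraMap K R x) = algebraMap K R (D^[n] x) := fun n => by
    induction n with
    | zero => rfl
    | succ n ih => rw [Function.iterate_succ_apply', Function.iterate_succ_apply', ih, h]
  exact this p

variable (K R) in
/-- liftable derivations separate non `p`-th powers -/
def LiftSep (p : ℕ) : Prop :=
  ∀ a : K, (∀ b : K, b ^ p ≠ a) → ∃ D : Derivation ℤ K K, Lift R D ∧ D a ≠ 0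

theorem LiftSep.exists_one {p : ℕ} (h : LiftSep K R p) {a : K} (ha : ∀ b : K, b ^ p ≠ a) :
    ∃ D : Derivation ℤ K K, Lift R D ∧ D a = 1 := by
  obtain ⟨D, hD, hDa⟩ := h a ha
  exact ⟨(D a)⁻¹ • D, hD.smul _, by rw [Derivation.smul_apply, smul_eq_mul, inv_mul_cancel₀ hDa]⟩

theorem LiftSep.mem_span {p : ℕ} [Fact p.Prime] [CharP K p] [CharP R p] (h : LiftSep K R p)
    {a : K} (ha : ∀ b : K, b ^ p ≠ a) {c : K} (hc : ∀ D : Derivation ℤ K K, Lift R D → D a = 0 → D c = 0) :
    ∃ v : ℕ → K, c = ∑ i ∈ Finset.range p, v i ^ p * a ^ i := by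
  classical
  have hp : p.Prime := Fact.out
  obtain ⟨D₀, hD₀, hD₀a⟩ := h.exists_one ha
  have hkill : ∀ i c, (∀ D : Derivation ℤ K K, Lift R D → D a = 0 → D c = 0) →
      ∀ D : Derivation ℤ K K, Lift R D → D a = 0 → D (D₀^[i] c) = 0 := by
    intro i
    induction i with
    | zero => exact fun c hc => hc
    | succ i ih =>
      intro c hc D hD hDa
      rw [Function.iterate_succ_apply']
      have h1 := ih c hc ⁅D, D₀⁆ (hD.bracket hD₀) (by
        rw [Derivation.commutator_apply, hD₀a, hDa, Derivation.map_one_eq_zero, map_zero, sub_zero])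
      rwa [Derivation.commutator_apply, ih c hc D hD hDa, map_zero, sub_zero] at h1
  have hker : ∀ c, (∀ D : Derivation ℤ K K, Lift R D → D a = 0 → D c = 0) → D₀ c = 0 → ∃ b, b ^ p = c := by
    intro c hc h0
    by_contra hcon
    push Not at hcon
    obtain ⟨D, hD, hDc⟩ := h c hcon
    refine hDc ?_
    have := hc (D - D a • D₀) (hD.sub (hD₀.smul _)) (by
      rw [Derivation.sub_apply, Derivation.smul_apply, hD₀a, smul_eq_mul, mul_one, sub_self])
    rwa [Derivation.sub_apply, Derivation.smul_apply, h0, smul_zero, sub_zero] at this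
  have hfr : ∀ (b : K), D₀ (b ^ p) = 0 := fun b => by
    rw [D₀.leibniz_pow, nsmul_eq_mul, CharP.cast_eq_zero, zero_mul]
  have hai : ∀ i, D₀^[i] (a ^ i) = (i.factorial : K) ∧ D₀^[i + 1] (a ^ i) = 0 := by
    intro i
    induction i with
    | zero => exact ⟨by simp, by simp [Derivation.map_one_eq_zero]⟩
    | succ i ih =>
      have h1 : D₀ (a ^ (i + 1)) = ((i + 1 : ℕ) : K) * a ^ i := by
        rw [D₀.leibniz_pow, hD₀a, Nat.add_sub_cancel, smul_eq_mul, mul_one, nsmul_eq_mul]
      have hlin : ∀ (j : ℕ), D₀^[j] (((i + 1 : ℕ) : K) * a ^ i) = ((i + 1 : ℕ) : K) * D₀^[j] (a ^ i) := by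
        intro j
        induction j with
        | zero => rfl
        | succ j ihj =>
          rw [Function.iterate_succ_apply', Function.iterate_succ_apply', ihj, D₀.leibniz, D₀.map_natCast,
            smul_zero, add_zero, smul_eq_mul]
      refine ⟨?_, ?_⟩
      · rw [Function.iterate_succ_apply, h1, hlin, ih.1, Nat.factorial_succ, Nat.cast_mul]
      · rw [Function.iterate_succ_apply, h1, hlin, ih.2, mul_zero]
  suffices H : ∀ n, n ≤ p → ∀ c, (∀ D : Derivation ℤ K K, Lift R D → D a = 0 → D c = 0) → D₀^[n] c = 0 →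
      ∃ v : ℕ → K, c = ∑ i ∈ Finset.range p, v i ^ p * a ^ i by
    refine H p le_rfl c hc ?_
    have := hc (DerLift.pPow p D₀) (hD₀.pPow p) (by
      rw [pPow_apply]
      obtain ⟨q, hq⟩ : ∃ q, p = q + 2 := ⟨p - 2, by have := hp.two_le; omega⟩
      rw [hq, Function.iterate_succ_apply, hD₀a, Function.iterate_succ_apply, Derivation.map_one_eq_zero]
      exact (Function.iterate_fixed (map_zero _) q))
    rwa [pPow_apply] at this
  intro n
  induction n with
  | zero => exact fun _ c _ h0 => ⟨fun _ => 0, by simpa [zero_pow hp.ne_zero] using h0⟩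
  | succ n ih =>
    intro hn c hc h0
    obtain ⟨b, hb⟩ := hker _ (hkill n c hc) (by rw [← Function.iterate_succ_apply' D₀]; exact h0)
    have hfac : (n.factorial : K) ≠ 0 := by
      rw [Ne, CharP.cast_eq_zero_iff K p, hp.dvd_factorial]; omega
    let w : K := b / (n.factorial : K)
    have hw : w ^ p * (n.factorial : K) ^ p = b ^ p := by rw [← mul_pow, div_mul_cancel₀ _ hfac]
    have hfp : (n.factorial : K) ^ p = (n.factorial : K) := by
      exact map_natCast (frobenius K p) n.factorial
    have hlin : ∀ (j : ℕ) (x : K), D₀^[j] (w ^ p * x) = w ^ p * D₀^[j] x := by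
      intro j x
      induction j with
      | zero => rfl
      | succ j ihj =>
        rw [Function.iterate_succ_apply', Function.iterate_succ_apply', ihj, D₀.leibniz, hfr, smul_zero, add_zero, smul_eq_mul]
    have hsub : ∀ (j : ℕ) (x y : K), D₀^[j] (x - y) = D₀^[j] x - D₀^[j] y := by
      intro j x y
      induction j with
      | zero => rfl
      | succ j ihj => rw [Function.iterate_succ_apply', Function.iterate_succ_apply', Function.iterate_succ_apply', ihj, map_sub]
    obtain ⟨v, hv⟩ := ih (by omega) (c - w ^ p * a ^ n) (fun D hD hDa => by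
        rw [map_sub, hc D hD hDa, D.leibniz, D.leibniz_pow, D.leibniz_pow, hDa]
        simp [nsmul_eq_mul, CharP.cast_eq_zero K p]) (by
        rw [hsub, hlin, (hai n).1, ← hb, sub_eq_zero]
        conv_rhs => rw [← hfp, hw])
    have hnr : n ∈ Finset.range p := Finset.mem_range.mpr hn
    refine ⟨Function.update v n (v n + w), ?_⟩
    rw [sub_eq_iff_eq_add] at hv
    rw [hv, ← Finset.add_sum_erase _ _ hnr, ← Finset.add_sum_erase _ _ hnr, Function.update_self, add_pow_char (p := p)]
    have : ∑ x ∈ (Finset.range p).erase n, Function.update v n (v n + w) x ^ p * a ^ x = ∑ x ∈ (Finset.range p).erase n, v x ^ p * a ^ x :=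
      Finset.sum_congr rfl fun x hx => by rw [Function.update_of_ne (Finset.ne_of_mem_erase hx)]
    rw [this]; ring


theorem regularLocal_quotient_span {S : Type u} [CommRing S] [IsNoetherianRing S] (F : S) (M' : Ideal (S ⧸ Ideal.span {F}))
    [M'.IsPrime]
    (h : IsRegularLocalRing (Localization.AtPrime (M'.comap (Ideal.Quotient.mk (Ideal.span {F}))) ⧸
      Ideal.span {algebraMap S (Localization.AtPrime (M'.comap (Ideal.Quotient.mk (Ideal.span {F})))) F})) :
    IsRegularLocalRing (Localization.AtPrime M') := by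
  let J := Ideal.span ({F} : Set S)
  let M := M'.comap (Ideal.Quotient.mk J)
  let RM := Localization.AtPrime M
  have hJ : J.map (algebraMap S RM) = Ideal.span {algebraMap S RM F} := by
    rw [Ideal.map_span, Set.image_singleton]
  have hsub' : Algebra.algebraMapSubmonoid (S ⧸ J) M.primeCompl = M'.primeCompl := by
    refine SetLike.ext fun z => ⟨?_, fun hz => ?_⟩
    · rintro ⟨a, ha, rfl⟩; exact ha
    · obtain ⟨a, rfl⟩ := Ideal.Quotient.mk_surjective z
      exact ⟨a, hz, rfl⟩
  haveI : IsLocalization.AtPrime (RM ⧸ J.map (algebraMap S RM)) M' := by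
    show IsLocalization M'.primeCompl _
    rw [← hsub']
    infer_instance
  haveI : IsRegularLocalRing (RM ⧸ Ideal.span {algebraMap S RM F}) := h
  haveI : IsRegularLocalRing (RM ⧸ J.map (algebraMap S RM)) := IsRegularLocalRing.of_ringEquiv (Ideal.quotEquivOfEq hJ).symm
  exact IsRegularLocalRing.of_ringEquiv
    (IsLocalization.algEquiv M'.primeCompl (RM ⧸ J.map (algebraMap S RM)) (Localization.AtPrime M')).toRingEquiv

/-- an element whose derivative is a unit at `Q` is not in the square of the maximal ideal -/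
theorem notMem_sq_of_der {S : Type u} [CommRing S] (Q : Ideal S) [Q.IsPrime] (D : Derivation ℤ S S) {F : S}
    (hF : F ∈ Q) (hD : D F ∉ Q) :
    algebraMap S (Localization.AtPrime Q) F ∉ IsLocalRing.maximalIdeal (Localization.AtPrime Q) ^ 2 := by
  intro hm
  rw [← Localization.AtPrime.map_eq_maximalIdeal, ← Ideal.map_pow,
    IsLocalization.algebraMap_mem_map_algebraMap_iff Q.primeCompl] at hm
  obtain ⟨s, hs, hsF⟩ := hm
  have hD2 : ∀ z ∈ Q ^ 2, D z ∈ Q := by
    intro z hz
    rw [pow_two] at hz
    refine Submodule.mul_induction_on hz (fun x hx y hy => ?_) fun x y hx hy => by rw [map_add]; exact add_mem hx hy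
    rw [D.leibniz, smul_eq_mul, smul_eq_mul]
    exact add_mem (Ideal.mul_mem_right _ _ hx) (Ideal.mul_mem_right _ _ hy)
  have h1 := hD2 _ hsF
  rw [D.leibniz, smul_eq_mul, smul_eq_mul] at h1
  have h2 : s * D F ∈ Q := (Ideal.add_mem_iff_left Q (Ideal.mul_mem_right _ _ hF)).mp h1
  exact (Ideal.IsPrime.mem_or_mem ‹Q.IsPrime› h2).elim hs hD

variable (R) in
theorem exists_polynomial_der {D : Derivation ℤ R R} :
    ∃ D' : Derivation ℤ R[X] R[X], D' X = 0 ∧ ∀ r, D' (C r) = C (D r) := by
  let f : R[X] →+ R[X] :=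
    { toFun := fun P => ⟨AddMonoidAlgebra.ofCoeff (P.toFinsupp.coeff.mapRange D (map_zero D))⟩
      map_zero' := by ext n; simp [Polynomial.coeff]
      map_add' := fun P Q => by ext n; simp [Polynomial.coeff] }
  have hf : ∀ P n, (f P).coeff n = D (P.coeff n) := fun P n => by simp [f, Polynomial.coeff]
  refine ⟨Derivation.mk' f.toIntLinearMap fun P Q => ?_, ?_, fun r => ?_⟩
  · show f (P * Q) = P • f Q + Q • f P
    rw [smul_eq_mul, smul_eq_mul, mul_comm Q (f P)]
    ext n
    simp only [hf, coeff_add, coeff_mul, map_sum, D.leibniz, smul_eq_mul, ← Finset.sum_add_distrib]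
    exact Finset.sum_congr rfl fun x _ => by ring
  · show f X = 0
    ext n
    rw [hf, coeff_zero, coeff_X]
    split <;> simp
  · show f (C r) = C (D r)
    ext n
    rw [hf, coeff_C, coeff_C]
    split <;> simp

section Step

variable (p : ℕ) [Fact p.Prime] [CharP K p] {L : Type u} [Field L] [Algebra K L] (t : L) (a : K)
  (ht : t ^ p = algebraMap K L a) (ha : ∀ b : K, b ^ p ≠ a) (htop : Algebra.adjoin K {t} = ⊤)
include ht ha htop

theorem regular_step [IsRegularRing R] (h : LiftSep K R p) : IsRegularRing (L ⊗[K] R) := by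
  haveI : IsNoetherianRing R[X] := Polynomial.isNoetherianRing
  haveI : IsNoetherianRing (L ⊗[K] R) := by
    haveI : Module.Finite K L := by
      rw [Module.finite_def, ← Algebra.top_toSubmodule, ← htop]
      exact (show IsIntegral K t from IsIntegral.of_pow (Fact.out : p.Prime).pos (by rw [ht]; exact isIntegral_algebraMap)).fg_adjoin_singleton
    haveI : IsNoetherianRing (R ⊗[K] L) := IsNoetherianRing.of_finite R _
    exact isNoetherianRing_of_ringEquiv (R ⊗[K] L) (Algebra.TensorProduct.comm K R L).toRingEquiv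
  let F : R[X] := X ^ p - C (algebraMap K R a)
  let iR : R →+* L ⊗[K] R := (Algebra.TensorProduct.includeRight (R := K) (A := L) (B := R)).toRingHom
  let π : R[X] →+* L ⊗[K] R := Polynomial.eval₂RingHom iR (t ⊗ₜ 1)
  have hπC : ∀ r, π (C r) = 1 ⊗ₜ r := fun r => Polynomial.eval₂_C _ _
  have hπX : π X = t ⊗ₜ 1 := Polynomial.eval₂_X _ _
  have hπs : Function.Surjective π := by
    intro z
    induction z using TensorProduct.induction_on with
    | zero => exact ⟨0, map_zero π⟩
    | add x y hx hy => obtain ⟨x, rfl⟩ := hx; obtain ⟨y, rfl⟩ := hy; exact ⟨x + y, map_add π _ _⟩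
    | tmul l r =>
      have hl : l ∈ Algebra.adjoin K {t} := htop ▸ Algebra.mem_top
      suffices ∃ P, π P = l ⊗ₜ (1 : R) by
        obtain ⟨P, hP⟩ := this
        exact ⟨P * C r, by rw [map_mul, hP, hπC, Algebra.TensorProduct.tmul_mul_tmul, mul_one, one_mul]⟩
      induction hl using Algebra.adjoin_induction with
      | mem z hz => obtain rfl : z = t := hz; exact ⟨X, hπX⟩
      | algebraMap c => exact ⟨C (algebraMap K R c), by rw [hπC, Algebra.algebraMap_eq_smul_one, Algebra.algebraMap_eq_smul_one, TensorProduct.smul_tmul]⟩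
      | add x y _ _ hx hy => obtain ⟨P, hP⟩ := hx; obtain ⟨Q, hQ⟩ := hy; exact ⟨P + Q, by rw [map_add, hP, hQ, TensorProduct.add_tmul]⟩
      | mul x y _ _ hx hy => obtain ⟨P, hP⟩ := hx; obtain ⟨Q, hQ⟩ := hy; exact ⟨P * Q, by rw [map_mul, hP, hQ, Algebra.TensorProduct.tmul_mul_tmul, mul_one]⟩
  have hπF : π F = 0 := by
    rw [map_sub, map_pow, hπX, hπC, Algebra.TensorProduct.tmul_pow, one_pow, ht, Algebra.algebraMap_eq_smul_one,
      Algebra.algebraMap_eq_smul_one, TensorProduct.smul_tmul, sub_self]
  -- the inverse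
  let P0 : K[X] := X ^ p - C a
  haveI : Fact (Irreducible P0) := ⟨X_pow_sub_C_irreducible_of_prime Fact.out ha⟩
  let φ : AdjoinRoot P0 →ₐ[K] L := AdjoinRoot.liftAlgHom P0 (Algebra.ofId K L) t (by
    rw [eval₂_sub, eval₂_X_pow, eval₂_C]
    show t ^ p - algebraMap K L a = 0
    rw [ht, sub_self])
  have hφ : Function.Bijective φ := by
    refine ⟨(φ : AdjoinRoot P0 →+* L).injective, fun z => ?_⟩
    have hz : z ∈ φ.range := by
      refine Algebra.adjoin_le ?_ (htop.symm ▸ Algebra.mem_top : z ∈ Algebra.adjoin K {t})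
      rintro _ rfl
      exact ⟨AdjoinRoot.root P0, AdjoinRoot.liftAlgHom_root ..⟩
    exact hz
  let e := AlgEquiv.ofBijective φ hφ
  let J := Ideal.span ({F} : Set R[X])
  let g : AdjoinRoot P0 →ₐ[K] R[X] ⧸ J := AdjoinRoot.liftAlgHom P0 (Algebra.ofId K _) (Ideal.Quotient.mk J X) (by
    rw [eval₂_sub, eval₂_X_pow, eval₂_C]
    show (Ideal.Quotient.mk J X) ^ p - Ideal.Quotient.mk J (algebraMap K R[X] a) = 0
    rw [← map_pow, ← map_sub, Ideal.Quotient.eq_zero_iff_mem, show algebraMap K R[X] a = C (algebraMap K R a) from rfl]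
    exact Ideal.mem_span_singleton_self F)
  let ψ : L ⊗[K] R →ₐ[K] R[X] ⧸ J := Algebra.TensorProduct.lift (g.comp e.symm.toAlgHom)
    ((Ideal.Quotient.mkₐ K J).comp (IsScalarTower.toAlgHom K R R[X])) fun _ _ => Commute.all _ _
  have hψ : ∀ P, ψ (π P) = Ideal.Quotient.mk J P := by
    refine RingHom.congr_fun (f := ψ.toRingHom.comp π) (g := Ideal.Quotient.mk J) (Polynomial.ringHom_ext (fun r => ?_) ?_)
    · show ψ (π (C r)) = _
      rw [hπC]
      exact (Algebra.TensorProduct.lift_tmul ..).trans (by rw [map_one, one_mul]; rfl)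
    · show ψ (π X) = _
      rw [hπX]
      refine (Algebra.TensorProduct.lift_tmul ..).trans ?_
      rw [map_one, mul_one]
      show g (e.symm t) = _
      rw [show e.symm t = AdjoinRoot.root P0 from e.injective (by
        rw [e.apply_symm_apply]; show t = φ (AdjoinRoot.root P0); exact (AdjoinRoot.liftAlgHom_root ..).symm)]
      exact AdjoinRoot.liftAlgHom_root ..
  have hker : RingHom.ker π = J := le_antisymm
    (fun P hP => Ideal.Quotient.eq_zero_iff_mem.mp (by rw [← hψ, show π P = 0 from hP, map_zero]))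
    ((Ideal.span_singleton_le_iff_mem _).mpr hπF)
  let eπ : (R[X] ⧸ J) ≃+* L ⊗[K] R := (Ideal.quotEquivOfEq hker).symm.trans (RingHom.quotientKerEquivOfSurjective hπs)
  refine PropLoc.loc_reg_iff.mp (PropLoc.loc_of_ringEquiv PropLoc.good_reg eπ fun M' _ => ?_)
  obtain ⟨D, ⟨DR, hDR⟩, hDa⟩ := h.exists_one ha
  obtain ⟨D', hX, hC⟩ := exists_polynomial_der R (D := DR)
  let M := M'.comap (Ideal.Quotient.mk J)
  have hFM : F ∈ M := by
    rw [Ideal.mem_comap, Ideal.Quotient.eq_zero_iff_mem.mpr (Ideal.mem_span_singleton_self F)]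
    exact M'.zero_mem
  have hFm : algebraMap R[X] (Localization.AtPrime M) F ∈ IsLocalRing.maximalIdeal (Localization.AtPrime M) :=
    (IsLocalization.AtPrime.to_map_mem_maximal_iff _ M F).mpr hFM
  haveI : CharP R[X] p := by
    haveI : Nontrivial (R[X] ⧸ J) := Ideal.Quotient.nontrivial_iff.mpr fun htop' =>
      Ideal.IsPrime.ne_top ‹M'.IsPrime› (eq_top_iff.mpr fun x _ => by
        obtain ⟨x, rfl⟩ := Ideal.Quotient.mk_surjective x
        rw [Ideal.Quotient.eq_zero_iff_mem.mpr (htop' ▸ Submodule.mem_top)]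
        exact M'.zero_mem)
    haveI : Nontrivial R[X] := (Ideal.Quotient.mk J).domain_nontrivial
    exact charP_of_injective_algebraMap (algebraMap K R[X]).injective p
  have hDF : D' F ∉ M := by
    rw [map_sub, D'.leibniz_pow, hX, hC, hDR, hDa]
    simp only [smul_zero, zero_sub, map_one]
    rw [Ideal.neg_mem_iff]
    exact fun h1 => Ideal.IsPrime.ne_top (inferInstance : M.IsPrime) ((Ideal.eq_top_iff_one _).mpr h1)
  haveI : IsRegularLocalRing (Localization.AtPrime M) := IsRegularRing.isRegularLocalRing_localization M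
  exact regularLocal_quotient_span F M' (Groth.L01.regular_quotient_of_notMem_sq hFm (notMem_sq_of_der M D' hFM hDF)).1

theorem liftSep_step [CharP R p] (h : LiftSep K R p) : LiftSep L (L ⊗[K] R) p := by
  haveI : CharP L p := charP_of_injective_algebraMap (algebraMap K L).injective p
  intro c hc
  have hp : p.Prime := Fact.out
  have hlift : ∀ {D : Derivation ℤ K K}, Lift R D → ∀ D' : Derivation ℤ L L,
      (∀ z, D' (algebraMap K L z) = algebraMap K L (D z)) → Lift (L ⊗[K] R) D' := fun {D} hD D' h' => by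
    obtain ⟨DR, hDR⟩ := hD
    obtain ⟨E, hE⟩ := exists_tensor_der (M := L) (N := R) D D' h' DR hDR
    refine ⟨E, fun z => ?_⟩
    show E (z ⊗ₜ 1) = (D' z) ⊗ₜ[K] (1 : R)
    rw [hE, Derivation.map_one_eq_zero, TensorProduct.tmul_zero, add_zero]
  haveI : IsFractionRing K K := inferInstance
  obtain ⟨D₁, h₁, h₁t⟩ := InsepJ0.exists_extension (A := K) p t a (by simpa using ht) (by simpa using ha) htop 0 (Derivation.zero_apply _) 1
  have hb₁ : Lift (L ⊗[K] R) D₁ := hlift Lift.zero D₁ h₁
  by_cases hc1 : D₁ c = 0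
  swap
  · exact ⟨D₁, hb₁, hc1⟩
  have hQ : ∀ Q : K[X], D₁ (aeval t Q) = aeval t (derivative Q) := fun Q => by
    induction Q using Polynomial.induction_on' with
    | add P Q hP hQ => rw [map_add, map_add, derivative_add, map_add, hP, hQ]
    | monomial n b =>
      rw [aeval_monomial, derivative_monomial, aeval_monomial, D₁.leibniz, D₁.leibniz_pow, h₁, h₁t, Derivation.zero_apply,
        map_zero, smul_zero, add_zero, smul_eq_mul, map_mul, map_natCast, nsmul_eq_mul, smul_eq_mul, mul_one, mul_assoc]
  obtain ⟨Q, rfl⟩ : ∃ Q, aeval t Q = c := by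
    have : c ∈ Algebra.adjoin K {t} := htop ▸ Algebra.mem_top
    rw [Algebra.adjoin_singleton_eq_range_aeval] at this
    exact this
  have hmin : minpoly K t = X ^ p - C a := by
    simpa using InsepJ0.minpoly_eq (A := K) p t a (by simpa using ht) (by simpa using ha) htop
  let Rp := Q %ₘ minpoly K t
  have hdeg : Rp.natDegree < p := by
    have hm : (X ^ p - C a).natDegree = p := natDegree_X_pow_sub_C
    show (Q %ₘ minpoly K t).natDegree < p
    rw [hmin]
    refine lt_of_lt_of_eq (natDegree_modByMonic_lt Q (monic_X_pow_sub_C _ hp.ne_zero) fun h1 => ?_) hm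
    have := congrArg Polynomial.natDegree h1
    rw [hm, natDegree_one] at this
    exact hp.ne_zero this
  have hR : aeval t Q = aeval t Rp := (Polynomial.aeval_modByMonic_eq_self_of_root (minpoly.aeval K t)).symm
  have hder : derivative Rp = 0 := by
    by_contra hne
    have hle := Polynomial.natDegree_le_of_dvd (minpoly.dvd K t (show aeval t (derivative Rp) = 0 by rw [← hQ, ← hR, hc1])) hne
    rw [hmin, natDegree_X_pow_sub_C] at hle
    have := natDegree_derivative_le Rp
    omega
  obtain ⟨c0, hc0⟩ : ∃ c0, Rp = C c0 := by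
    refine ⟨Rp.coeff 0, Polynomial.ext fun n => ?_⟩
    rcases n with _ | n
    · rw [coeff_C_zero]
    · rw [coeff_C_succ]
      by_cases hn : n + 1 < p
      · have := congrArg (fun P => Polynomial.coeff P n) hder
        simp only [coeff_derivative, coeff_zero] at this
        refine (mul_eq_zero.mp this).resolve_right ?_
        intro h0
        rw [← Nat.cast_add_one, CharP.cast_eq_zero_iff K p] at h0
        exact (fun hdvd => absurd (Nat.le_of_dvd (Nat.succ_pos n) hdvd) (by omega)) h0
      · exact coeff_eq_zero_of_natDegree_lt (by omega)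
  rw [hR, hc0, aeval_C] at hc ⊢
  by_cases hex : ∃ D : Derivation ℤ K K, Lift R D ∧ D a = 0 ∧ D c0 ≠ 0
  · obtain ⟨D, hD, hDa, hDc⟩ := hex
    obtain ⟨D', h', h't⟩ := InsepJ0.exists_extension (A := K) p t a (by simpa using ht) (by simpa using ha) htop D (by simpa using hDa) 0
    exact ⟨D', hlift hD D' h', by rw [h']; exact (map_ne_zero (algebraMap K L)).mpr hDc⟩
  · exfalso
    push Not at hex
    obtain ⟨v, hv⟩ := h.mem_span ha hex
    refine hc (∑ i ∈ Finset.range p, algebraMap K L (v i) * t ^ i) ?_
    rw [hv, map_sum, sum_pow_char p]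
    refine Finset.sum_congr rfl fun i _ => ?_
    rw [mul_pow, map_mul, map_pow, map_pow, ← pow_mul, mul_comm i p, pow_mul, ht]

end Step

end Groth.L06.DerLift
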