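import Groth.Agent.L07.GeomReducedDescent
import Groth.Agent.L07.SyntApprox
import Groth.Prelude.Def_RegImm
import Mathlib.AlgebraicGeometry.Morphisms.FinitePresentation
import Mathlib.AlgebraicGeometry.Morphisms.Flat
import Mathlib.Algebra.Category.Ring.Constructions
import Mathlib.RingTheory.Extension.Presentation.Core

/-!
# Morphisms of affine schemes as base changes from finite type over the integers
-/

set_option autoImplicit false
set_option maxSynthPendingDepth 3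
set_option linter.style.haveILetI false
set_option backward.isDefEq.respectTransparency.types false
set_option backward.isDefEq.respectTransparency false

universe u

open CategoryTheory CategoryTheory.Limits AlgebraicGeometry TensorProduct

noncomputable section

namespace Groth.L06.DescendFiniteTypeInt

/-- A flat algebra of finite presentation has a flat model over a finitely generated subring. -/
theorem exists_flat_model_fg (A B : Type u) [CommRing A] [CommRing B] [Algebra A B]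
    [Algebra.FinitePresentation A B] [Module.Flat A B] :
    ∃ (A₁ : Subalgebra ℤ A) (B₁ : Type u) (_ : CommRing B₁) (_ : Algebra A₁ B₁),
      A₁.FG ∧ Algebra.FiniteType A₁ B₁ ∧ Module.Flat A₁ B₁ ∧ Nonempty (A ⊗[A₁] B₁ ≃ₐ[A] B) := by
  classical
  let P := Algebra.Presentation.ofFinitePresentation A B
  let A₀ := Algebra.adjoin ℤ P.coeffs
  haveI : P.HasCoeffs A₀ := ⟨by
    intro x hx
    exact ⟨⟨x, Algebra.subset_adjoin hx⟩, rfl⟩⟩
  have hA₀ : A₀.FG := ⟨P.finite_coeffs.toFinset, by simp [A₀]⟩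
  let B₀ := P.ModelOfHasCoeffs A₀
  let e₀ : A ⊗[A₀] B₀ ≃ₐ[A] B := P.tensorModelOfHasCoeffsEquiv A₀
  obtain ⟨d, n, R₀, _, K, ⟨em⟩⟩ := Groth.L07.FlatDescent.exists_model (A₀ := A₀) (B₀ := B₀) B₀
  obtain ⟨eA⟩ := Groth.L07.FlatDescent.exists_modelEquiv K em A
  haveI : Module.Flat A (A ⊗[A₀] B₀) := Module.Flat.of_linearEquiv e₀.toLinearEquiv
  haveI : Module.Flat A (Groth.L07.FlatDescent.MC A K) := Module.Flat.of_linearEquiv eA.symm
  obtain ⟨S, hS, hflat⟩ := Groth.L07.FlatDescent.exists_fg_stage K A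
  obtain ⟨T, hT⟩ := hS
  let A₁ : Subalgebra ℤ A := A₀ ⊔ Algebra.adjoin ℤ (T : Set A)
  have hA₁ : A₁.FG := hA₀.sup ⟨T, rfl⟩
  letI : Algebra A₀ A₁ := (Subalgebra.inclusion (le_sup_left : A₀ ≤ A₁)).toRingHom.toAlgebra
  haveI : IsScalarTower A₀ A₁ A := IsScalarTower.of_algebraMap_eq fun _ => rfl
  have hmem : ∀ x ∈ S, x ∈ A₁ := fun x hx => by
    rw [← hT] at hx
    induction hx using Algebra.adjoin_induction with
    | mem x hx => exact (le_sup_right : _ ≤ A₁) (Algebra.subset_adjoin hx)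
    | algebraMap r => exact (le_sup_left : _ ≤ A₁) (r.1).2
    | add x y _ _ hx hy => exact add_mem hx hy
    | mul x y _ _ hx hy => exact mul_mem hx hy
  let χ : S →+* A₁ := S.val.toRingHom.codRestrict A₁ fun x => hmem x.1 x.2
  letI : Algebra S A₁ := χ.toAlgebra
  haveI : IsScalarTower R₀ A₀ A₁ := IsScalarTower.of_algebraMap_eq fun _ => rfl
  haveI : IsScalarTower R₀ S A₁ := IsScalarTower.of_algebraMap_eq fun _ => rfl
  haveI : Module.Flat A₁ (Groth.L07.FlatDescent.MC A₁ K) := Groth.L07.FlatDescent.flat_MC_of_flat K (A := S)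
  obtain ⟨e₁⟩ := Groth.L07.FlatDescent.exists_modelEquiv K em A₁
  refine ⟨A₁, A₁ ⊗[A₀] B₀, inferInstance, inferInstance, hA₁, inferInstance,
    Module.Flat.of_linearEquiv e₁, ⟨?_⟩⟩
  exact (Algebra.TensorProduct.cancelBaseChange A₀ A₁ A A B₀).trans e₀

theorem finiteType_gamma_spec (A₀ : Type u) [CommRing A₀] [Algebra.FiniteType ℤ A₀] :
    Algebra.FiniteType ℤ Γ(Spec (CommRingCat.of A₀), ⊤) :=
  Algebra.FiniteType.of_surjective (Scheme.ΓSpecIso (CommRingCat.of A₀)).inv.hom.toIntAlgHom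
    (ConcreteCategory.bijective_of_isIso (Scheme.ΓSpecIso (CommRingCat.of A₀)).inv).2

/-- A model of the ring map gives a cartesian square. -/
theorem isPullback_of_model {X S : Scheme.{u}} (f : X ⟶ S) {A B A₀ B₀ : Type u} [CommRing A] [CommRing B]
    [CommRing A₀] [CommRing B₀] [Algebra A B] [Algebra A₀ A] [Algebra A₀ B₀]
    (eX : X ≅ Spec (CommRingCat.of B)) (eS : S ≅ Spec (CommRingCat.of A))
    (w : eX.hom ≫ Spec.map (CommRingCat.ofHom (algebraMap A B)) = f ≫ eS.hom)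
    (e : A ⊗[A₀] B₀ ≃ₐ[A] B) :
    ∃ (g : S ⟶ Spec (CommRingCat.of A₀)) (g' : X ⟶ Spec (CommRingCat.of B₀)),
      IsPullback g' f (Spec.map (CommRingCat.ofHom (algebraMap A₀ B₀))) g := by
  have h0 := isPullback_SpecMap_of_isPushout _ _ _ _ (CommRingCat.isPushout_tensorProduct A₀ A B₀)
  let eB : Spec (CommRingCat.of B) ≅ Spec (CommRingCat.of (A ⊗[A₀] B₀)) :=
    Scheme.Spec.mapIso e.toRingEquiv.toCommRingCatIso.op
  refine ⟨eS.hom ≫ Spec.map (CommRingCat.ofHom (algebraMap A₀ A)),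
    (eX ≪≫ eB).hom ≫ Spec.map (CommRingCat.ofHom
      (Algebra.TensorProduct.includeRight : B₀ →ₐ[A₀] A ⊗[A₀] B₀).toRingHom), h0.flip.of_iso (eX ≪≫ eB).symm (Iso.refl _) eS.symm (Iso.refl _) ?_ ?_ ?_ ?_⟩
  · exact (Category.comp_id _).trans (Iso.inv_hom_id_assoc (eX ≪≫ eB) _).symm
  · have h1 : eB.inv ≫ Spec.map (CommRingCat.ofHom (algebraMap A B)) =
        Spec.map (CommRingCat.ofHom (algebraMap A (A ⊗[A₀] B₀))) := by
      show Spec.map _ ≫ Spec.map _ = Spec.map _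
      rw [← Spec.map_comp]
      congr 1
      ext a
      exact e.symm.commutes a
    show _ ≫ eS.inv = (eX ≪≫ eB).inv ≫ f
    rw [Iso.trans_inv, Category.assoc, ← cancel_mono eS.hom, Category.assoc, Category.assoc, Category.assoc, ← w,
      Iso.inv_hom_id, Category.comp_id, Iso.inv_hom_id_assoc, h1]
    rfl
  · simp
  · exact (Category.comp_id _).trans (Iso.inv_hom_id_assoc eS _).symm

theorem exists_model_fp {X S : Scheme.{u}} (f : X ⟶ S) [IsAffine X] [IsAffine S] [LocallyOfFinitePresentation f] :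
    ∃ (X₀ S₀ : Scheme.{u}) (f₀ : X₀ ⟶ S₀) (g : S ⟶ S₀) (g' : X ⟶ X₀), IsAffine X₀ ∧ IsAffine S₀ ∧
      IsPullback g' f f₀ g ∧ Algebra.FiniteType ℤ Γ(S₀, ⊤) ∧ LocallyOfFiniteType f₀ := by
  letI := f.appTop.hom.toAlgebra
  haveI : Algebra.FinitePresentation Γ(S, ⊤) Γ(X, ⊤) :=
    (HasRingHomProperty.iff_of_isAffine (P := @LocallyOfFinitePresentation)).1 inferInstance
  let P := Algebra.Presentation.ofFinitePresentation Γ(S, ⊤) Γ(X, ⊤)
  let A₀ := Algebra.adjoin ℤ P.coeffs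
  haveI : P.HasCoeffs A₀ := ⟨by
    intro x hx
    exact ⟨⟨x, Algebra.subset_adjoin hx⟩, rfl⟩⟩
  have hA₀ : A₀.FG := ⟨P.finite_coeffs.toFinset, by simp [A₀]⟩
  haveI : Algebra.FiniteType ℤ A₀ := A₀.fg_iff_finiteType.mp hA₀
  let B₀ := P.ModelOfHasCoeffs A₀
  obtain ⟨g, g', hg⟩ := isPullback_of_model f X.isoSpec S.isoSpec (Scheme.isoSpec_hom_naturality f)
    (P.tensorModelOfHasCoeffsEquiv A₀)
  exact ⟨_, _, _, g, g', inferInstance, inferInstance, hg, finiteType_gamma_spec _,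
    (HasRingHomProperty.Spec_iff (P := @LocallyOfFiniteType)).2 (RingHom.finiteType_algebraMap.2 inferInstance)⟩

theorem exists_model_flat {X S : Scheme.{u}} (f : X ⟶ S) [IsAffine X] [IsAffine S] [LocallyOfFinitePresentation f]
    [Flat f] :
    ∃ (X₀ S₀ : Scheme.{u}) (f₀ : X₀ ⟶ S₀) (g : S ⟶ S₀) (g' : X ⟶ X₀), IsAffine X₀ ∧ IsAffine S₀ ∧
      IsPullback g' f f₀ g ∧ Algebra.FiniteType ℤ Γ(S₀, ⊤) ∧ LocallyOfFiniteType f₀ ∧ Flat f₀ := by
  letI := f.appTop.hom.toAlgebra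
  haveI : Algebra.FinitePresentation Γ(S, ⊤) Γ(X, ⊤) :=
    (HasRingHomProperty.iff_of_isAffine (P := @LocallyOfFinitePresentation)).1 inferInstance
  haveI : Module.Flat Γ(S, ⊤) Γ(X, ⊤) :=
    RingHom.flat_algebraMap_iff.1 ((HasRingHomProperty.iff_of_isAffine (P := @Flat)).1 inferInstance)
  obtain ⟨A₁, B₁, _, _, hA₁, hft, hfl, ⟨e⟩⟩ := exists_flat_model_fg Γ(S, ⊤) Γ(X, ⊤)
  haveI : Algebra.FiniteType ℤ A₁ := A₁.fg_iff_finiteType.mp hA₁
  obtain ⟨g, g', hg⟩ := isPullback_of_model f X.isoSpec S.isoSpec (Scheme.isoSpec_hom_naturality f) e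
  exact ⟨_, _, _, g, g', inferInstance, inferInstance, hg, finiteType_gamma_spec _,
    (HasRingHomProperty.Spec_iff (P := @LocallyOfFiniteType)).2 (RingHom.finiteType_algebraMap.2 hft),
    (HasRingHomProperty.Spec_iff (P := @Flat)).2 (RingHom.flat_algebraMap_iff.2 hfl)⟩

/-- Base change of a presentation. -/
theorem exists_relGCIRing_equiv {R₀ R : Type u} [CommRing R₀] [CommRing R] [Algebra R₀ R] {n c : ℕ}
    (F₀ : Fin c → MvPolynomial (Fin n) R₀) (F : Fin c → MvPolynomial (Fin n) R)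
    (hF : ∀ i, MvPolynomial.map (algebraMap R₀ R) (F₀ i) = F i) :
    Nonempty (R ⊗[R₀] Synt.RelGCIRing R₀ n c F₀ ≃ₐ[R] Synt.RelGCIRing R n c F) := by
  let I := Ideal.span (Set.range F)
  let I₀ := Ideal.span (Set.range F₀)
  let mk := Ideal.Quotient.mkₐ R I
  let mk₀ := Ideal.Quotient.mkₐ R₀ I₀
  let β : MvPolynomial (Fin n) R₀ →ₐ[R₀] Synt.RelGCIRing R n c F :=
    MvPolynomial.aeval fun i => mk (MvPolynomial.X i)
  have hβ : ∀ p, β p = mk (MvPolynomial.map (algebraMap R₀ R) p) := fun p => by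
    have : β.toRingHom = mk.toRingHom.comp (MvPolynomial.map (algebraMap R₀ R)) :=
      MvPolynomial.ringHom_ext
        (fun a => by
          show β (MvPolynomial.C a) = mk (MvPolynomial.map (algebraMap R₀ R) (MvPolynomial.C a))
          rw [MvPolynomial.map_C, show β (MvPolynomial.C a) = algebraMap R₀ _ a from β.commutes a,
            IsScalarTower.algebraMap_apply R₀ R (Synt.RelGCIRing R n c F) a]
          exact (mk.commutes _).symm)
        (fun i => by
          show β (MvPolynomial.X i) = mk (MvPolynomial.map (algebraMap R₀ R) (MvPolynomial.X i))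
          rw [MvPolynomial.map_X]
          exact MvPolynomial.aeval_X _ i)
    exact DFunLike.congr_fun this p
  have hβI : ∀ p ∈ I₀, β p = 0 := fun p hp => by
    induction hp using Submodule.span_induction with
    | mem x hx =>
      obtain ⟨i, rfl⟩ := hx
      rw [hβ, hF]
      exact Ideal.Quotient.eq_zero_iff_mem.2 (Ideal.subset_span ⟨i, rfl⟩)
    | zero => exact map_zero _
    | add x y _ _ hx hy => rw [map_add, hx, hy, add_zero]
    | smul a x _ hx => rw [smul_eq_mul, map_mul, hx, mul_zero]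
  let φ : R ⊗[R₀] Synt.RelGCIRing R₀ n c F₀ →ₐ[R] Synt.RelGCIRing R n c F :=
    Algebra.TensorProduct.lift (Algebra.ofId R _) (Ideal.Quotient.liftₐ I₀ β hβI) (fun _ _ => Commute.all _ _)
  let γ : MvPolynomial (Fin n) R →ₐ[R] R ⊗[R₀] Synt.RelGCIRing R₀ n c F₀ :=
    MvPolynomial.aeval fun i => 1 ⊗ₜ mk₀ (MvPolynomial.X i)
  have hγ : ∀ p, γ (MvPolynomial.map (algebraMap R₀ R) p) = 1 ⊗ₜ mk₀ p := fun p => by
    show MvPolynomial.aeval _ (MvPolynomial.map (algebraMap R₀ R) p) = _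
    rw [MvPolynomial.aeval_map_algebraMap]
    have : (MvPolynomial.aeval fun i => (1 : R) ⊗ₜ[R₀] mk₀ (MvPolynomial.X i)) =
        Algebra.TensorProduct.includeRight.comp mk₀ :=
      MvPolynomial.algHom_ext fun i => MvPolynomial.aeval_X _ i
    rw [this]
    rfl
  have hγI : ∀ p ∈ I, γ p = 0 := fun p hp => by
    induction hp using Submodule.span_induction with
    | mem x hx =>
      obtain ⟨i, rfl⟩ := hx
      rw [← hF, hγ, show mk₀ (F₀ i) = 0 from Ideal.Quotient.eq_zero_iff_mem.2 (Ideal.subset_span ⟨i, rfl⟩),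
        TensorProduct.tmul_zero]
    | zero => exact map_zero _
    | add x y _ _ hx hy => rw [map_add, hx, hy, add_zero]
    | smul a x _ hx => rw [smul_eq_mul, map_mul, hx, mul_zero]
  let ψ : Synt.RelGCIRing R n c F →ₐ[R] R ⊗[R₀] Synt.RelGCIRing R₀ n c F₀ := Ideal.Quotient.liftₐ I γ hγI
  refine ⟨AlgEquiv.ofAlgHom φ ψ ?_ ?_⟩
  · refine Ideal.Quotient.algHom_ext _ (MvPolynomial.algHom_ext fun i => ?_)
    show φ (γ (MvPolynomial.X i)) = mk (MvPolynomial.X i)
    rw [MvPolynomial.aeval_X]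
    show algebraMap R _ 1 * β (MvPolynomial.X i) = _
    rw [map_one, one_mul]
    exact MvPolynomial.aeval_X _ i
  · refine Algebra.TensorProduct.ext' fun r z => ?_
    obtain ⟨p, rfl⟩ := Ideal.Quotient.mk_surjective z
    show ψ (algebraMap R _ r * β p) = r ⊗ₜ mk₀ p
    rw [map_mul, hβ, AlgHom.commutes, show ψ (mk (MvPolynomial.map (algebraMap R₀ R) p)) =
      γ (MvPolynomial.map (algebraMap R₀ R) p) from rfl, hγ, Algebra.TensorProduct.algebraMap_apply,
      Algebra.TensorProduct.tmul_mul_tmul, mul_one, one_mul]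
    rfl

theorem exists_model_syntomic {X S : Scheme.{u}} (f : X ⟶ S) (hf : Synt.IsStandardSyntomic f) :
    ∃ (X₀ S₀ : Scheme.{u}) (f₀ : X₀ ⟶ S₀) (g : S ⟶ S₀) (g' : X ⟶ X₀), IsAffine X₀ ∧ IsAffine S₀ ∧
      IsPullback g' f f₀ g ∧ Algebra.FiniteType ℤ Γ(S₀, ⊤) ∧ LocallyOfFiniteType f₀ ∧
        Synt.IsStandardSyntomic f₀ := by
  obtain ⟨R, _, n, c, F, hF, e₁, e₂, w⟩ := hf
  obtain ⟨R₀, F₀, hft, hmap, hF₀⟩ := Groth.L07.SyntApprox.exists_descent R F hF
  obtain ⟨e⟩ := exists_relGCIRing_equiv F₀ F hmap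
  obtain ⟨g, g', hg⟩ := isPullback_of_model f e₁ e₂ w e
  exact ⟨_, _, _, g, g', inferInstance, inferInstance, hg, finiteType_gamma_spec _,
    (HasRingHomProperty.Spec_iff (P := @LocallyOfFiniteType)).2 (RingHom.finiteType_algebraMap.2 inferInstance),
    R₀, inferInstance, n, c, F₀, hF₀, Iso.refl _, Iso.refl _, (Category.id_comp _).trans (Category.comp_id _).symm⟩

end Groth.L06.DescendFiniteTypeInt
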