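import Mathlib.RingTheory.Smooth.Kaehler
import Mathlib.RingTheory.Smooth.Field
import Mathlib.RingTheory.Flat.Basic
import Mathlib.LinearAlgebra.TensorProduct.Quotient
import Mathlib.LinearAlgebra.TensorProduct.Basis
import Mathlib.RingTheory.Ideal.Cotangent
import Mathlib.FieldTheory.Perfect
import Mathlib.Algebra.Field.ULift
import Mathlib.Algebra.Field.ZMod
import Groth.Agent.L03.FieldFS

/-! Differentials detect the cotangent space modulo `p`. -/

set_option autoImplicit false
set_option maxSynthPendingDepth 3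
noncomputable section
universe u
open TensorProduct KaehlerDifferential

namespace Groth.L06.DiffCot

/-- If the residue map `A ⧸ I → C` has a section, `1 ⊗ dx = 0` forces `x ∈ I`. -/
theorem mem_of_D_eq_zero {Λ A C : Type*} [CommRing Λ] [CommRing A] [CommRing C] [Algebra Λ A] [Algebra A C]
    [Algebra Λ C] [IsScalarTower Λ A C] (hsurj : Function.Surjective (algebraMap A C))
    {I : Ideal A} (hI : RingHom.ker (algebraMap A C) ^ 2 ≤ I) (hIJ : I ≤ RingHom.ker (algebraMap A C))
    (s : C →ₐ[Λ] A ⧸ I) (hs : ∀ (c : C) (a : A), Ideal.Quotient.mk I a = s c → algebraMap A C a = c)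
    {x : A} (hx : x ∈ RingHom.ker (algebraMap A C))
    (h0 : (1 : C) ⊗ₜ[A] D Λ A x = 0) : x ∈ I := by
  let J := RingHom.ker (algebraMap A C)
  let K : Submodule A (A ⧸ I) := Submodule.map (Submodule.mkQ (I : Submodule A A)) (J : Submodule A A)
  have hmem : ∀ a : A, Ideal.Quotient.mk I a - s (algebraMap A C a) ∈ K := by
    intro a
    obtain ⟨b, hb⟩ := Ideal.Quotient.mk_surjective (s (algebraMap A C a))
    refine ⟨a - b, ?_, ?_⟩
    · show a - b ∈ J
      rw [RingHom.mem_ker, map_sub, hs _ _ hb, sub_self]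
    · rw [Submodule.mkQ_apply, Submodule.Quotient.mk_sub, ← hb]; rfl
  have hJK : ∀ a ∈ J, ∀ k : K, a • k = 0 := by
    rintro a ha ⟨k, b, hb, rfl⟩
    refine Subtype.ext ?_
    show a • Submodule.mkQ I b = 0
    rw [← map_smul, Submodule.mkQ_apply, Submodule.Quotient.mk_eq_zero]
    refine hI ?_
    rw [pow_two]
    exact Ideal.mul_mem_mul ha hb
  have hmul : ∀ u v : K, (u : A ⧸ I) * (v : A ⧸ I) = 0 := by
    rintro ⟨_, a, ha, rfl⟩ v
    have := congrArg Subtype.val (hJK a ha v)
    rwa [Submodule.coe_smul, Submodule.coe_zero, Algebra.smul_def] at this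
  let dl : A →ₗ[Λ] K :=
    { toFun := fun a => ⟨Ideal.Quotient.mk I a - s (algebraMap A C a), hmem a⟩
      map_add' := fun a b => Subtype.ext (by
        show _ = _ + _
        simp only [map_add]; ring)
      map_smul' := fun l a => Subtype.ext (by
        show Ideal.Quotient.mk I (l • a) - s (algebraMap A C (l • a)) = l • (Ideal.Quotient.mk I a - s (algebraMap A C a))
        rw [smul_sub]
        congr 1
        rw [Algebra.algebraMap_eq_smul_one, smul_assoc, ← Algebra.algebraMap_eq_smul_one, map_smul]) }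
  let d : Derivation Λ A K := Derivation.mk' dl (fun a b => Subtype.ext (by
    show Ideal.Quotient.mk I (a * b) - s (algebraMap A C (a * b)) =
      a • (Ideal.Quotient.mk I b - s (algebraMap A C b)) + b • (Ideal.Quotient.mk I a - s (algebraMap A C a))
    have h := hmul ⟨_, hmem a⟩ ⟨_, hmem b⟩
    simp only [map_mul, Algebra.smul_def, Ideal.Quotient.algebraMap_eq] at h ⊢
    linear_combination (-1 : A ⧸ I) * h))
  have hdx : D Λ A x ∈ J • (⊤ : Submodule A Ω[A⁄Λ]) := by
    let e : (A ⧸ J) ≃ₗ[A] C := (Ideal.quotientKerAlgEquivOfSurjective (f := Algebra.ofId A C) hsurj).toLinearEquiv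
    have h1 : (Ideal.Quotient.mk J 1) ⊗ₜ[A] D Λ A x = (0 : (A ⧸ J) ⊗[A] Ω[A⁄Λ]) := by
      apply (TensorProduct.congr e (LinearEquiv.refl A Ω[A⁄Λ])).injective
      rw [TensorProduct.congr_tmul, map_zero, map_one]
      convert h0 using 2
      · exact map_one (Ideal.quotientKerAlgEquivOfSurjective (f := Algebra.ofId A C) hsurj)
      · rfl
    have h2 := congrArg (TensorProduct.quotTensorEquivQuotSMul Ω[A⁄Λ] J) h1
    rw [map_zero, TensorProduct.quotTensorEquivQuotSMul_mk_tmul, one_smul, Submodule.Quotient.mk_eq_zero] at h2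
    exact h2
  have hlift : ∀ w ∈ J • (⊤ : Submodule A Ω[A⁄Λ]), d.liftKaehlerDifferential w = 0 := by
    intro w hw
    refine Submodule.smul_induction_on hw (fun a ha z _ => ?_) (fun u v hu hv => ?_)
    · rw [map_smul, hJK a ha]
    · rw [map_add, hu, hv, add_zero]
  have h3 := congrArg Subtype.val ((d.liftKaehlerDifferential_comp_D x).symm.trans (hlift _ hdx))
  change Ideal.Quotient.mk I x - s (algebraMap A C x) = 0 at h3
  rw [RingHom.mem_ker.mp hx, map_zero, sub_zero] at h3
  exact Ideal.Quotient.eq_zero_iff_mem.mp h3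

/-- A field of characteristic `p` is formally smooth over `𝔽_p`. -/
theorem formallySmooth_prime (k L : Type u) [Field k] [Field L] [Algebra k L] [PerfectField k] :
    Algebra.FormallySmooth k L :=
  Groth.L03.FieldFS.formallySmooth_of_forall_fg k L fun L₀ h => by
    haveI : Algebra.EssFiniteType k L₀ := IntermediateField.essFiniteType_iff.2 h
    infer_instance

/-- For a surjection `A → C` onto a field of characteristic `p`, the kernel of `J → C ⊗ Ω_{A/ℤ}` lies in
`J² + pA`. -/
theorem mem_of_D_eq_zero_of_charP {A C : Type u} [CommRing A] [Field C] [Algebra A C]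
    (hsurj : Function.Surjective (algebraMap A C)) (p : ℕ) [Fact p.Prime] [CharP C p]
    {x : A} (hx : x ∈ RingHom.ker (algebraMap A C)) (h0 : (1 : C) ⊗ₜ[A] D ℤ A x = 0) :
    x ∈ RingHom.ker (algebraMap A C) ^ 2 ⊔ Ideal.span {(p : A)} := by
  let J := RingHom.ker (algebraMap A C)
  let I : Ideal A := J ^ 2 ⊔ Ideal.span {(p : A)}
  have hIJ : I ≤ J := sup_le (Ideal.pow_le_self two_ne_zero) ((Ideal.span_singleton_le_iff_mem _).mpr (by
    rw [RingHom.mem_ker, map_natCast, CharP.cast_eq_zero]))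
  haveI : Nontrivial (A ⧸ I) := Ideal.Quotient.nontrivial_iff.mpr
    (fun h => RingHom.ker_ne_top (algebraMap A C) (top_le_iff.mp (h ▸ hIJ)))
  haveI : CharP (A ⧸ I) p := (CharP.charP_iff_prime_eq_zero Fact.out).mpr (by
    rw [← map_natCast (Ideal.Quotient.mk I) p, Ideal.Quotient.eq_zero_iff_mem]
    exact Ideal.mem_sup_right (Ideal.mem_span_singleton_self _))
  let eF : ULift.{u} (ZMod p) →+* ZMod p := (ULift.ringEquiv (R := ZMod p)).toRingHom
  letI : Algebra (ULift.{u} (ZMod p)) C := ((ZMod.castHom dvd_rfl C).comp eF).toAlgebra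
  letI : Algebra (ULift.{u} (ZMod p)) (A ⧸ I) := ((ZMod.castHom dvd_rfl (A ⧸ I)).comp eF).toAlgebra
  let q : (A ⧸ I) →ₐ[ULift.{u} (ZMod p)] C :=
    { Ideal.Quotient.lift I (algebraMap A C) (fun a ha => RingHom.mem_ker.mp (hIJ ha)) with
      commutes' := fun z => DFunLike.congr_fun
        (RingHom.ext_zmod ((Ideal.Quotient.lift I (algebraMap A C) (fun a ha => RingHom.mem_ker.mp (hIJ ha))).comp (ZMod.castHom dvd_rfl (A ⧸ I))) (ZMod.castHom dvd_rfl C)) (eF z) }
  have hq : Function.Surjective q := fun c => by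
    obtain ⟨a, ha⟩ := hsurj c
    exact ⟨Ideal.Quotient.mk I a, ha⟩
  have hn : IsNilpotent (RingHom.ker (q : (A ⧸ I) →+* C)) := by
    refine ⟨2, ?_⟩
    have : RingHom.ker (q : (A ⧸ I) →+* C) = J.map (Ideal.Quotient.mk I) := Ideal.ker_quotient_lift _ (fun a ha => RingHom.mem_ker.mp (hIJ ha))
    rw [this, ← Ideal.map_pow, Ideal.zero_eq_bot, eq_bot_iff]
    exact (Ideal.map_mono le_sup_left).trans (Ideal.map_quotient_self I).le
  haveI := formallySmooth_prime (ULift.{u} (ZMod p)) C
  let s := Algebra.FormallySmooth.liftOfSurjective (AlgHom.id _ C) q hq hn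
  let sZ : C →ₐ[ℤ] A ⧸ I := s.toRingHom.toIntAlgHom
  refine mem_of_D_eq_zero hsurj (show J ^ 2 ≤ I from le_sup_left) hIJ sZ (fun c a ha => ?_) hx h0
  have h1 : q (s c) = c := Algebra.FormallySmooth.liftOfSurjective_apply (AlgHom.id _ C) q hq hn c
  calc algebraMap A C a = q (Ideal.Quotient.mk I a) := rfl
    _ = q (s c) := congrArg q ha
    _ = c := h1

end Groth.L06.DiffCot
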