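import Groth.Agent.L06.DiffCotMain
import Groth.Agent.L13.Wild.MRBasis
import Mathlib.RingTheory.Ideal.GoingUp
import Mathlib.RingTheory.Algebraic.Integral
import Mathlib.Algebra.CharP.Lemmas

/-! `A[T]/(T_i^p + p G_i - f_i)`: locality and the cotangent criterion. -/

set_option autoImplicit false
set_option maxSynthPendingDepth 3
noncomputable section
universe u
open TensorProduct KaehlerDifferential IsLocalRing

namespace Groth.L06.DiffCot

variable {A : Type u} [CommRing A] {r : ℕ}

/-- the relations -/
def relJ (p : ℕ) (G : Fin r → MvPolynomial (Fin r) A) (f : Fin r → A) : Ideal (MvPolynomial (Fin r) A) :=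
  Ideal.span (Set.range fun i => MvPolynomial.X i ^ p + (p : MvPolynomial (Fin r) A) * G i - MvPolynomial.C (f i))

variable (p : ℕ) [Fact p.Prime] (G : Fin r → MvPolynomial (Fin r) A) (f : Fin r → A)

theorem exists_pow_sub_mem [IsLocalRing A] (hp : (p : A) ∈ maximalIdeal A)
    (x : MvPolynomial (Fin r) A ⧸ relJ p G f) :
    ∃ a : A, x ^ p - algebraMap A (MvPolynomial (Fin r) A ⧸ relJ p G f) a ∈
      (maximalIdeal A).map (algebraMap A (MvPolynomial (Fin r) A ⧸ relJ p G f)) := by
  let π := Ideal.Quotient.mk (relJ p G f)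
  let I := (maximalIdeal A).map (algebraMap A (MvPolynomial (Fin r) A ⧸ relJ p G f))
  have hpI : (p : MvPolynomial (Fin r) A ⧸ relJ p G f) ∈ I := by
    rw [← map_natCast (algebraMap A (MvPolynomial (Fin r) A ⧸ relJ p G f))]
    exact Ideal.mem_map_of_mem _ hp
  obtain ⟨q, rfl⟩ := Ideal.Quotient.mk_surjective x
  induction q using MvPolynomial.induction_on with
  | C a =>
    refine ⟨a ^ p, ?_⟩
    rw [map_pow]
    show π (MvPolynomial.C a) ^ p - π (MvPolynomial.C a) ^ p ∈ _
    rw [sub_self]; exact zero_mem _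
  | add q q' hq hq' =>
    obtain ⟨a, ha⟩ := hq
    obtain ⟨b, hb⟩ := hq'
    refine ⟨a + b, ?_⟩
    obtain ⟨s, hs⟩ := (Commute.all (π q) (π q')).exists_add_pow_prime_eq (Fact.out (p := p.Prime))
    rw [map_add π, hs, map_add]
    have := add_mem (add_mem ha hb) (I.mul_mem_right (π q * π q' * s) hpI)
    convert this using 1
    ring
  | mul_X q i hq =>
    obtain ⟨a, ha⟩ := hq
    refine ⟨a * f i, ?_⟩
    have h1 : π (MvPolynomial.X i) ^ p - π (MvPolynomial.C (f i)) ∈ I := by
      have h0 : π (MvPolynomial.X i ^ p + (p : MvPolynomial (Fin r) A) * G i - MvPolynomial.C (f i)) = 0 :=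
        Ideal.Quotient.eq_zero_iff_mem.mpr (Ideal.subset_span ⟨i, rfl⟩)
      simp only [map_sub, map_add, map_mul, map_pow, map_natCast] at h0
      have : π (MvPolynomial.X i) ^ p - π (MvPolynomial.C (f i)) = (p : MvPolynomial (Fin r) A ⧸ relJ p G f) * (- π (G i)) := by
        linear_combination h0
      rw [this]
      exact I.mul_mem_right _ hpI
    have := add_mem (I.mul_mem_right (π (MvPolynomial.X i) ^ p) ha) (I.mul_mem_left (π (MvPolynomial.C a)) h1)
    convert this using 1
    show π (q * MvPolynomial.X i) ^ p - π (MvPolynomial.C (a * f i)) =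
      (π q ^ p - π (MvPolynomial.C a)) * π (MvPolynomial.X i) ^ p + π (MvPolynomial.C a) * (π (MvPolynomial.X i) ^ p - π (MvPolynomial.C (f i)))
    simp only [map_mul, mul_pow]
    ring

theorem isLocalRing_quot [IsLocalRing A] (hp : (p : A) ∈ maximalIdeal A)
    [Nontrivial (MvPolynomial (Fin r) A ⧸ relJ p G f)]
    [Algebra.IsIntegral A (MvPolynomial (Fin r) A ⧸ relJ p G f)] :
    IsLocalRing (MvPolynomial (Fin r) A ⧸ relJ p G f) := by
  let B := MvPolynomial (Fin r) A ⧸ relJ p G f
  have hcomap : ∀ (M : Ideal B), M.IsMaximal → M.comap (algebraMap A B) = maximalIdeal A := fun M hM => by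
    haveI := hM
    exact IsLocalRing.eq_maximalIdeal (Ideal.isMaximal_comap_of_isIntegral_of_isMaximal M)
  have key : ∀ (M : Ideal B), M.IsMaximal → ∀ (x : B) (a : A),
      x ^ p - algebraMap A B a ∈ (maximalIdeal A).map (algebraMap A B) → (x ∈ M ↔ a ∈ maximalIdeal A) := by
    intro M hM x a hxa
    have hxa' : x ^ p - algebraMap A B a ∈ M :=
      Ideal.map_le_iff_le_comap.mpr (hcomap M hM).ge hxa
    rw [← hcomap M hM, Ideal.mem_comap]
    constructor
    · intro hx
      have := sub_mem (M.pow_mem_of_mem hx p (Fact.out (p := p.Prime)).pos) hxa'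
      rwa [sub_sub_cancel] at this
    · intro ha
      refine hM.isPrime.mem_of_pow_mem p ?_
      have := add_mem hxa' ha
      rwa [sub_add_cancel] at this
  obtain ⟨M, hM⟩ := Ideal.exists_maximal B
  refine IsLocalRing.of_unique_max_ideal ⟨M, hM, fun M' hM' => Ideal.ext fun x => ?_⟩
  obtain ⟨a, ha⟩ := exists_pow_sub_mem p G f hp x
  exact (key M' hM' x a ha).trans (key M hM x a ha).symm

theorem cotangent_criterion [IsLocalRing A] [IsNoetherianRing A] [CharP (ResidueField A) p]
    (hp : (p : A) ∈ maximalIdeal A ^ 2)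
    [IsLocalRing (MvPolynomial (Fin r) A ⧸ relJ p G f)]
    [Algebra.IsIntegral A (MvPolynomial (Fin r) A ⧸ relJ p G f)] :
    Module.finrank (ResidueField A) (CotangentSpace A) =
        Module.finrank (ResidueField (MvPolynomial (Fin r) A ⧸ relJ p G f)) (CotangentSpace (MvPolynomial (Fin r) A ⧸ relJ p G f)) ↔
      LinearIndependent (ResidueField A) (fun i => (1 : ResidueField A) ⊗ₜ[A] D ℤ A (f i)) := by
  let B := MvPolynomial (Fin r) A ⧸ relJ p G f
  let π : MvPolynomial (Fin r) A →+* B := Ideal.Quotient.mk _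
  letI : Algebra (MvPolynomial (Fin r) A) (ResidueField B) := ((residue B).comp π).toAlgebra
  letI : Algebra A (ResidueField B) := (((residue B).comp π).comp MvPolynomial.C).toAlgebra
  haveI : IsScalarTower A (MvPolynomial (Fin r) A) (ResidueField B) := IsScalarTower.of_algebraMap_eq fun _ => rfl
  have hm : ∀ a ∈ maximalIdeal A, algebraMap A (ResidueField B) a = 0 := fun a ha => by
    show residue B (algebraMap A B a) = 0
    rw [residue_eq_zero_iff]
    haveI : ((maximalIdeal B).comap (algebraMap A B)).IsMaximal := Ideal.isMaximal_comap_of_isIntegral_of_isMaximal _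
    exact (IsLocalRing.eq_maximalIdeal this).ge ha
  letI : Algebra (ResidueField A) (ResidueField B) :=
    (Ideal.Quotient.lift (maximalIdeal A) (algebraMap A (ResidueField B)) hm).toAlgebra
  haveI : IsScalarTower A (ResidueField A) (ResidueField B) := IsScalarTower.of_algebraMap_eq fun _ => rfl
  haveI : CharP (ResidueField B) p :=
    charP_of_injective_algebraMap (algebraMap (ResidueField A) (ResidueField B)).injective p
  exact finrank_cotangent_iff (C := ResidueField B) p (residue_surjective.comp Ideal.Quotient.mk_surjective) hp π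
    Ideal.Quotient.mk_surjective rfl
    (fun i => MvPolynomial.X i ^ p + (p : MvPolynomial (Fin r) A) * G i - MvPolynomial.C (f i))
    Ideal.mk_ker f (fun i => delta_pPoly p _ _ _)

end Groth.L06.DiffCot
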