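import Groth.Agent.L06.DiffCotBase
import Mathlib.RingTheory.Localization.AtPrime.Basic
import Mathlib.RingTheory.Polynomial.Basic
import Mathlib.RingTheory.Ideal.Height

/-! `dim (n/n²) = dim (m/m²) + r` for `n` maximal in `A[T₁..T_r]` over `m`, and the criterion for quotients. -/

set_option autoImplicit false
set_option maxSynthPendingDepth 3
noncomputable section
universe u
open TensorProduct KaehlerDifferential IsLocalRing

namespace Groth.L06.DiffCot

variable {A : Type u} [CommRing A] [IsLocalRing A] [IsNoetherianRing A]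

theorem finrank_W_local (p : ℕ) [Fact p.Prime] [CharP (ResidueField A) p] (hp : (p : A) ∈ maximalIdeal A ^ 2) :
    Module.finrank (ResidueField A) (W A (ResidueField A)) =
      Module.finrank (ResidueField A) (CotangentSpace A) := by
  have hk : RingHom.ker (algebraMap A (ResidueField A)) = maximalIdeal A := Ideal.mk_ker
  rw [finrank_W (R := A) (C := ResidueField A) p residue_surjective (by rw [hk]; exact hp) (RingHom.id A)
    residue_surjective (by rfl) (fun y hy => ⟨y, by rw [hk]; exact hy, by simp⟩) ∅ (Set.empty_subset _)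
    (fun x _ => by rw [hk, Ideal.span_empty, sup_bot_eq]; rfl)]
  rw [Set.image_empty, Submodule.span_empty, finrank_bot, add_zero]

variable {r : ℕ} {C : Type u} [Field C]
  [Algebra (MvPolynomial (Fin r) A) C] [Algebra A C] [Algebra (ResidueField A) C]
  [IsScalarTower A (MvPolynomial (Fin r) A) C] [IsScalarTower A (ResidueField A) C]

theorem C_mem_ker {a : A} (ha : a ∈ maximalIdeal A) :
    MvPolynomial.C a ∈ RingHom.ker (algebraMap (MvPolynomial (Fin r) A) C) := by
  rw [RingHom.mem_ker, ← MvPolynomial.algebraMap_eq, ← IsScalarTower.algebraMap_apply,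
    IsScalarTower.algebraMap_apply A (ResidueField A) C, ResidueField.algebraMap_eq,
    residue_eq_zero_iff _ |>.mpr ha, map_zero]

theorem natCast_mem_sq (p : ℕ) (hp : (p : A) ∈ maximalIdeal A ^ 2) :
    (p : MvPolynomial (Fin r) A) ∈ RingHom.ker (algebraMap (MvPolynomial (Fin r) A) C) ^ 2 := by
  have h : (maximalIdeal A).map (MvPolynomial.C : A →+* MvPolynomial (Fin r) A) ≤
      RingHom.ker (algebraMap (MvPolynomial (Fin r) A) C) := Ideal.map_le_iff_le_comap.mpr fun a ha => C_mem_ker ha
  refine Ideal.pow_right_mono h 2 ?_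
  rw [← Ideal.map_pow, ← map_natCast (MvPolynomial.C : A →+* MvPolynomial (Fin r) A)]
  exact Ideal.mem_map_of_mem _ hp

theorem charP_residue (p : ℕ) [CharP C p] : CharP (ResidueField A) p :=
  RingHom.charP (algebraMap (ResidueField A) C) (algebraMap (ResidueField A) C).injective p

variable (p : ℕ) [Fact p.Prime] [CharP C p]

theorem finrank_W_poly (hsurj : Function.Surjective (algebraMap (MvPolynomial (Fin r) A) C))
    (hp : (p : A) ∈ maximalIdeal A ^ 2) :
    Module.finrank C (W (MvPolynomial (Fin r) A) C) =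
      Module.finrank (ResidueField A) (CotangentSpace A) + r := by
  haveI := charP_residue (A := A) (C := C) p
  let ρ : MvPolynomial (Fin r) A →+* MvPolynomial (Fin r) (ResidueField A) := MvPolynomial.map (residue A)
  have hρ : Function.Surjective ρ := MvPolynomial.map_surjective _ residue_surjective
  set n := RingHom.ker (algebraMap (MvPolynomial (Fin r) A) C) with hn
  haveI : n.IsMaximal := RingHom.ker_isMaximal_of_surjective _ hsurj
  have hkρ : RingHom.ker ρ = Ideal.span ((MvPolynomial.C : A →+* MvPolynomial (Fin r) A) '' (maximalIdeal A : Set A)) := by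
    rw [MvPolynomial.ker_map, IsLocalRing.ker_residue]
    rfl
  have hle : RingHom.ker ρ ≤ n := by
    rw [hkρ, Ideal.span_le]
    rintro _ ⟨a, ha, rfl⟩
    exact C_mem_ker ha
  let nb := n.map ρ
  have hc : nb.comap ρ = n := by
    rw [Ideal.comap_map_of_surjective ρ hρ, ← RingHom.ker_eq_comap_bot, sup_eq_left.mpr hle]
  haveI : nb.IsMaximal := (Ideal.map_eq_top_or_isMaximal_of_surjective ρ hρ ‹n.IsMaximal›).resolve_left
    (fun h => Ideal.IsMaximal.ne_top ‹n.IsMaximal› (by rw [← hc]; show (n.map ρ).comap ρ = ⊤; rw [h, Ideal.comap_top]))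
  let L := Localization.AtPrime nb
  haveI : IsRegularLocalRing L := IsRegularRing.isRegularLocalRing_localization nb
  have hL : Module.finrank (ResidueField L) (CotangentSpace L) = r := by
    rw [← spanFinrank_maximalIdeal_eq_finrank_cotangentSpace]
    have h : ((maximalIdeal L).spanFinrank : WithBot ℕ∞) = ringKrullDim L := IsRegularLocalRing.spanFinrank_maximalIdeal
    rw [IsLocalization.AtPrime.ringKrullDim_eq_height nb L, height_mvPolynomial (ResidueField A) r nb] at h
    exact_mod_cast h
  let θ : MvPolynomial (Fin r) A →+* L := (algebraMap (MvPolynomial (Fin r) (ResidueField A)) L).comp ρ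
  have hmem : ∀ x, θ x ∈ maximalIdeal L ↔ x ∈ n := fun x => by
    rw [← hc, Ideal.mem_comap]
    exact IsLocalization.AtPrime.to_map_mem_maximal_iff L nb (ρ x)
  have hres : Function.Surjective ((residue L).comp θ) := by
    intro v
    obtain ⟨y, rfl⟩ := residue_surjective v
    obtain ⟨z, hz⟩ := (IsLocalization.AtPrime.equivQuotMaximalIdeal nb L).surjective (Ideal.Quotient.mk _ y)
    obtain ⟨z, rfl⟩ := Ideal.Quotient.mk_surjective z
    obtain ⟨x, rfl⟩ := hρ z
    rw [IsLocalization.AtPrime.equivQuotMaximalIdeal_apply_mk] at hz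
    exact ⟨x, hz⟩
  have hker : RingHom.ker ((residue L).comp θ) = n := Ideal.ext fun x => by
    rw [RingHom.mem_ker, RingHom.comp_apply, residue_eq_zero_iff, hmem]
  have hsq : ∀ z, algebraMap (MvPolynomial (Fin r) (ResidueField A)) L z ∈ maximalIdeal L ^ 2 ↔ z ∈ nb ^ 2 := fun z => by
    rw [← Ideal.Quotient.eq_zero_iff_mem, ← IsLocalization.AtPrime.equivQuotMaximalIdealPow_apply_mk (p := nb),
      EmbeddingLike.map_eq_zero_iff, Ideal.Quotient.eq_zero_iff_mem]
  have hcot : ∀ y ∈ maximalIdeal L, ∃ x ∈ n, θ x - y ∈ maximalIdeal L ^ 2 := by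
    intro y hy
    obtain ⟨z, hz⟩ := (IsLocalization.AtPrime.equivQuotMaximalIdealPow nb L 2).surjective (Ideal.Quotient.mk _ y)
    obtain ⟨z, rfl⟩ := Ideal.Quotient.mk_surjective z
    obtain ⟨x, rfl⟩ := hρ z
    rw [IsLocalization.AtPrime.equivQuotMaximalIdealPow_apply_mk, Ideal.Quotient.eq] at hz
    refine ⟨x, (hmem x).mp ?_, hz⟩
    have := add_mem (Ideal.pow_le_self two_ne_zero hz) hy
    rwa [sub_add_cancel] at this
  have h2 : ∀ x ∈ n, θ x ∈ maximalIdeal L ^ 2 ↔
      x ∈ n ^ 2 ⊔ Ideal.span ((MvPolynomial.C : A →+* MvPolynomial (Fin r) A) '' (maximalIdeal A : Set A)) := by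
    intro x _
    show algebraMap _ L (ρ x) ∈ maximalIdeal L ^ 2 ↔ _
    rw [hsq, show nb ^ 2 = (n ^ 2).map ρ from (Ideal.map_pow _ _ _).symm, ← hkρ,
      ← Ideal.mem_comap, Ideal.comap_map_of_surjective ρ hρ, ← RingHom.ker_eq_comap_bot]
  rw [finrank_W (R := MvPolynomial (Fin r) A) (C := C) p hsurj (natCast_mem_sq p hp) θ hres hker hcot _
    (hkρ ▸ Ideal.subset_span |>.trans (hkρ ▸ hle)) h2, hL, add_comm]
  congr 1
  have himg : delta (MvPolynomial (Fin r) A) C '' ((MvPolynomial.C : A →+* MvPolynomial (Fin r) A) '' (maximalIdeal A : Set A)) =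
      beta A r C '' (delta A (ResidueField A) '' (RingHom.ker (algebraMap A (ResidueField A)) : Set A)) := by
    rw [Set.image_image, Set.image_image, show RingHom.ker (algebraMap A (ResidueField A)) = maximalIdeal A from Ideal.mk_ker]
    exact Set.image_congr fun a _ => (beta_delta A r C a).symm
  haveI : Module.Finite (ResidueField A) (Submodule.span (ResidueField A) (delta A (ResidueField A) '' (RingHom.ker (algebraMap A (ResidueField A)) : Set A))) := finite_W
  rw [himg]
  exact (finrank_span_beta _).trans (finrank_W_local p hp)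

theorem delta_pow_p (x : MvPolynomial (Fin r) A) : delta (MvPolynomial (Fin r) A) C (x ^ p) = 0 := by
  rw [delta, Derivation.leibniz_pow, tmul_smul, ← Nat.cast_smul_eq_nsmul C, CharP.cast_eq_zero, zero_smul]

theorem delta_pPoly (x G : MvPolynomial (Fin r) A) (a : A) :
    delta (MvPolynomial (Fin r) A) C (x ^ p + (p : MvPolynomial (Fin r) A) * G - MvPolynomial.C a) =
      - delta (MvPolynomial (Fin r) A) C (MvPolynomial.C a) := by
  rw [delta_sub, delta_add, delta_pow_p p, delta_mul, delta_natCast, map_natCast, CharP.cast_eq_zero,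
    zero_smul, smul_zero, add_zero, add_zero, zero_sub]

omit [IsNoetherianRing A] in
theorem indep_iff (R C : Type u) [CommRing R] [Field C] [Algebra R C] {r : ℕ} (F g : Fin r → R)
    (hd : ∀ i, delta R C (F i) = - delta R C (g i)) :
    LinearIndependent C (fun i => delta R C (g i)) ↔
      r = Module.finrank C (Submodule.span C (delta R C '' Set.range F)) := by
  have : Submodule.span C (delta R C '' Set.range F) = Submodule.span C (Set.range fun i => delta R C (g i)) := by
    refine le_antisymm (Submodule.span_le.mpr ?_) (Submodule.span_le.mpr ?_)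
    · rintro _ ⟨_, ⟨i, rfl⟩, rfl⟩
      rw [hd]
      exact neg_mem (Submodule.subset_span ⟨i, rfl⟩)
    · rintro _ ⟨i, rfl⟩
      show delta R C (g i) ∈ _
      rw [← neg_neg (delta R C (g i)), ← hd]
      exact neg_mem (Submodule.subset_span ⟨F i, ⟨i, rfl⟩, rfl⟩)
  rw [this, linearIndependent_iff_card_eq_finrank_span, Fintype.card_fin]
  rfl

/-- The criterion for a local quotient `B = A[T]/(F)` with `dF_i = -df_i`. -/
theorem finrank_cotangent_iff (hsurj : Function.Surjective (algebraMap (MvPolynomial (Fin r) A) C))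
    (hp : (p : A) ∈ maximalIdeal A ^ 2) {B : Type u} [CommRing B] [IsLocalRing B]
    (π : MvPolynomial (Fin r) A →+* B) (hπ : Function.Surjective π)
    (hker : RingHom.ker ((residue B).comp π) = RingHom.ker (algebraMap (MvPolynomial (Fin r) A) C))
    (F : Fin r → MvPolynomial (Fin r) A) (hF : RingHom.ker π = Ideal.span (Set.range F)) (f : Fin r → A)
    (hd : ∀ i, delta (MvPolynomial (Fin r) A) C (F i) = - delta (MvPolynomial (Fin r) A) C (MvPolynomial.C (f i))) :
    Module.finrank (ResidueField A) (CotangentSpace A) = Module.finrank (ResidueField B) (CotangentSpace B) ↔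
      LinearIndependent (ResidueField A) (fun i => (1 : ResidueField A) ⊗ₜ[A] D ℤ A (f i)) := by
  set n := RingHom.ker (algebraMap (MvPolynomial (Fin r) A) C) with hn
  have hmax : (maximalIdeal B).comap π = n := by
    rw [← hker, ← RingHom.comap_ker, IsLocalRing.ker_residue]
  have hmap : n.map π = maximalIdeal B := by rw [← hmax, Ideal.map_comap_of_surjective π hπ]
  have hSn : Set.range F ⊆ (n : Set (MvPolynomial (Fin r) A)) := by
    rintro _ ⟨i, rfl⟩
    rw [← hmax]
    show π (F i) ∈ maximalIdeal B
    rw [RingHom.mem_ker.mp (show F i ∈ RingHom.ker π by rw [hF]; exact Ideal.subset_span ⟨i, rfl⟩)]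
    exact zero_mem _
  have h := finrank_W (R := MvPolynomial (Fin r) A) (C := C) p hsurj (natCast_mem_sq p hp) π
    (residue_surjective.comp hπ) hker
    (fun y hy => by
      obtain ⟨x, rfl⟩ := hπ y
      exact ⟨x, (Ideal.ext_iff.mp hmax x).mp hy, by simp⟩)
    (Set.range F) hSn
    (fun x _ => by rw [← Ideal.mem_comap, ← hmap, ← Ideal.map_pow, Ideal.comap_map_of_surjective π hπ,
      ← RingHom.ker_eq_comap_bot, hF])
  rw [finrank_W_poly p hsurj hp] at h
  show _ ↔ LinearIndependent (ResidueField A) (fun i => delta A (ResidueField A) (f i))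
  refine Iff.trans ?_ (beta_linearIndependent (C := C) (r := r) _)
  have hfun : (fun i => beta A r C (delta A (ResidueField A) (f i))) =
      fun i => delta (MvPolynomial (Fin r) A) C (MvPolynomial.C (f i)) := funext fun i => beta_delta A r C (f i)
  have hi := indep_iff (MvPolynomial (Fin r) A) C F (fun i => MvPolynomial.C (f i)) hd
  rw [hfun]
  refine Iff.trans ?_ hi.symm
  omega

end Groth.L06.DiffCot
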