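import Groth.Agent.L06.DiffCot
import Mathlib.RingTheory.RegularLocalRing.Defs
import Mathlib.LinearAlgebra.FiniteDimensional.Lemmas

/-! `dim (n/n²)` computed inside `C ⊗ Ω_{R/ℤ}`. -/

set_option autoImplicit false
set_option maxSynthPendingDepth 3
noncomputable section
universe u
open TensorProduct KaehlerDifferential IsLocalRing

namespace Groth.L06.DiffCot

variable (R C : Type u) [CommRing R] [Field C] [Algebra R C]

/-- `x ↦ 1 ⊗ dx`. -/
def delta (x : R) : C ⊗[R] Ω[R⁄ℤ] := (1 : C) ⊗ₜ[R] D ℤ R x

theorem delta_add (a b : R) : delta R C (a + b) = delta R C a + delta R C b := by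
  simp [delta, tmul_add]

theorem delta_sub (a b : R) : delta R C (a - b) = delta R C a - delta R C b := by
  simp [delta, tmul_sub]

theorem delta_zero : delta R C 0 = 0 := by simp [delta]

theorem delta_natCast (m : ℕ) : delta R C (m : R) = 0 := by simp [delta]

theorem delta_mul (a b : R) :
    delta R C (a * b) = algebraMap R C a • delta R C b + algebraMap R C b • delta R C a := by
  simp only [delta, Derivation.leibniz, tmul_add, tmul_smul, algebraMap_smul]

/-- The image of the kernel ideal. -/
def W : Submodule C (C ⊗[R] Ω[R⁄ℤ]) :=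
  Submodule.span C (delta R C '' (RingHom.ker (algebraMap R C) : Set R))

variable {R C}

theorem delta_mul_of_mem {x : R} (hx : x ∈ RingHom.ker (algebraMap R C)) (a : R) :
    delta R C (a * x) = algebraMap R C a • delta R C x := by
  rw [delta_mul, RingHom.mem_ker.mp hx, zero_smul, add_zero]

theorem delta_mem_span {S : Set R} (hS : S ⊆ RingHom.ker (algebraMap R C)) {x : R}
    (hx : x ∈ Ideal.span S) : delta R C x ∈ Submodule.span C (delta R C '' S) := by
  refine (Submodule.span_induction (p := fun y _ => y ∈ RingHom.ker (algebraMap R C) ∧ delta R C y ∈ Submodule.span C (delta R C '' S))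
    (fun y hy => ⟨hS hy, Submodule.subset_span ⟨y, hy, rfl⟩⟩) ⟨zero_mem _, by rw [delta_zero]; exact zero_mem _⟩
    (fun a b _ _ ha hb => ⟨add_mem ha.1 hb.1, by rw [delta_add]; exact add_mem ha.2 hb.2⟩)
    (fun a y _ hy => ⟨Ideal.mul_mem_left _ a hy.1, by
      rw [smul_eq_mul, delta_mul_of_mem hy.1]; exact Submodule.smul_mem _ _ hy.2⟩) hx).2

theorem delta_sq {x : R} (hx : x ∈ RingHom.ker (algebraMap R C) ^ 2) : delta R C x = 0 := by
  rw [pow_two] at hx
  refine Submodule.mul_induction_on hx (fun a ha b hb => ?_) (fun a b ha hb => by rw [delta_add, ha, hb, add_zero])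
  rw [delta_mul_of_mem hb, RingHom.mem_ker.mp ha, zero_smul]

theorem mem_sq (hsurj : Function.Surjective (algebraMap R C)) (p : ℕ) [Fact p.Prime] [CharP C p]
    (hp : (p : R) ∈ RingHom.ker (algebraMap R C) ^ 2) {x : R} (hx : x ∈ RingHom.ker (algebraMap R C))
    (h : delta R C x = 0) : x ∈ RingHom.ker (algebraMap R C) ^ 2 :=
  (sup_le le_rfl ((Ideal.span_singleton_le_iff_mem _).mpr hp)) (mem_of_D_eq_zero_of_charP hsurj p hx h)

theorem exists_delta_eq (hsurj : Function.Surjective (algebraMap R C)) {w : C ⊗[R] Ω[R⁄ℤ]} (hw : w ∈ W R C) :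
    ∃ x ∈ RingHom.ker (algebraMap R C), delta R C x = w := by
  refine Submodule.span_induction (p := fun v _ => ∃ x ∈ RingHom.ker (algebraMap R C), delta R C x = v)
    ?_ ⟨0, zero_mem _, delta_zero R C⟩ ?_ ?_ hw
  · rintro _ ⟨x, hx, rfl⟩
    exact ⟨x, hx, rfl⟩
  · rintro _ _ _ _ ⟨x, hx, rfl⟩ ⟨y, hy, rfl⟩
    exact ⟨x + y, add_mem hx hy, delta_add R C x y⟩
  · rintro c _ _ ⟨x, hx, rfl⟩
    obtain ⟨a, rfl⟩ := hsurj c
    exact ⟨a * x, Ideal.mul_mem_left _ a hx, delta_mul_of_mem hx a⟩

theorem finite_W [IsNoetherianRing R] : Module.Finite C (W R C) := by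
  obtain ⟨G, hG⟩ := (IsNoetherian.noetherian (RingHom.ker (algebraMap R C)) : (RingHom.ker (algebraMap R C)).FG)
  have hGn : (↑G : Set R) ⊆ RingHom.ker (algebraMap R C) := hG ▸ Submodule.subset_span
  have : W R C = Submodule.span C (delta R C '' ↑G) := by
    refine le_antisymm (Submodule.span_le.mpr ?_) (Submodule.span_mono (Set.image_mono hGn))
    rintro _ ⟨x, hx, rfl⟩
    exact delta_mem_span hGn (show x ∈ Ideal.span (G : Set R) by rw [Ideal.span, hG]; exact hx)
  rw [this]
  exact Module.Finite.span_of_finite C (G.finite_toSet.image _)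

variable (p : ℕ) [Fact p.Prime] [CharP C p]

/-- `dim (n/n²) = dim (cotangent space of L) + rank (d S)`. -/
theorem finrank_W [IsNoetherianRing R] (hsurj : Function.Surjective (algebraMap R C))
    (hp : (p : R) ∈ RingHom.ker (algebraMap R C) ^ 2)
    {L : Type u} [CommRing L] [IsLocalRing L] (θ : R →+* L)
    (hres : Function.Surjective ((residue L).comp θ))
    (hker : RingHom.ker ((residue L).comp θ) = RingHom.ker (algebraMap R C))
    (hcot : ∀ y ∈ maximalIdeal L, ∃ x ∈ RingHom.ker (algebraMap R C), θ x - y ∈ maximalIdeal L ^ 2)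
    (S : Set R) (hS : S ⊆ RingHom.ker (algebraMap R C))
    (h2 : ∀ x ∈ RingHom.ker (algebraMap R C),
      θ x ∈ maximalIdeal L ^ 2 ↔ x ∈ RingHom.ker (algebraMap R C) ^ 2 ⊔ Ideal.span S) :
    Module.finrank C (W R C) =
      Module.finrank (ResidueField L) (CotangentSpace L) + Module.finrank C (Submodule.span C (delta R C '' S)) := by
  classical
  haveI := finite_W (R := R) (C := C)
  let e : C ≃+* ResidueField L :=
    (RingHom.quotientKerEquivOfSurjective hsurj).symm.trans
      ((Ideal.quotEquivOfEq hker.symm).trans (RingHom.quotientKerEquivOfSurjective hres))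
  have he : ∀ a : R, e (algebraMap R C a) = residue L (θ a) := by
    intro a
    have h1 : (RingHom.quotientKerEquivOfSurjective hsurj).symm (algebraMap R C a) = Ideal.Quotient.mk _ a := by
      rw [RingEquiv.symm_apply_eq]; rfl
    simp only [e, RingEquiv.trans_apply, h1]
    rfl
  have hθ : ∀ x ∈ RingHom.ker (algebraMap R C), θ x ∈ maximalIdeal L := by
    intro x hx
    rw [← hker, RingHom.mem_ker, RingHom.comp_apply, residue_eq_zero_iff] at hx
    exact hx
  choose ch hch hchd using fun w : W R C => exists_delta_eq hsurj w.2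
  let φ : W R C → CotangentSpace L := fun w => (maximalIdeal L).toCotangent ⟨θ (ch w), hθ _ (hch w)⟩
  have key : ∀ (w : W R C) (x : R) (hx : x ∈ RingHom.ker (algebraMap R C)), delta R C x = w →
      φ w = (maximalIdeal L).toCotangent ⟨θ x, hθ _ hx⟩ := by
    intro w x hx hw
    rw [Ideal.toCotangent_eq]
    show θ (ch w) - θ x ∈ maximalIdeal L ^ 2
    rw [← map_sub, h2 _ (sub_mem (hch w) hx)]
    exact Ideal.mem_sup_left (mem_sq hsurj p hp (sub_mem (hch w) hx) (by rw [delta_sub, hchd, hw, sub_self]))
  letI mC : Module C (CotangentSpace L) := Module.compHom _ e.toRingHom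
  let Φ : W R C →ₗ[C] CotangentSpace L :=
    { toFun := φ
      map_add' := fun v w => by
        rw [key (v + w) (ch v + ch w) (add_mem (hch v) (hch w)) (by rw [delta_add, hchd, hchd]; rfl)]
        show _ = (maximalIdeal L).toCotangent _ + (maximalIdeal L).toCotangent _
        rw [← map_add]
        congr 1
        exact Subtype.ext (map_add θ _ _)
      map_smul' := fun c w => by
        obtain ⟨a, rfl⟩ := hsurj c
        rw [key (algebraMap R C a • w) (a * ch w) (Ideal.mul_mem_left _ a (hch w))
          (by rw [delta_mul_of_mem (hch w), hchd]; rfl)]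
        show _ = e (algebraMap R C a) • (maximalIdeal L).toCotangent _
        rw [he, ← ResidueField.algebraMap_eq, algebraMap_smul, ← map_smul]
        congr 1
        exact Subtype.ext (map_mul θ _ _) }
  have hΦ : Function.Surjective Φ := by
    intro v
    obtain ⟨⟨y, hy⟩, rfl⟩ := (maximalIdeal L).toCotangent_surjective v
    obtain ⟨x, hx, hxy⟩ := hcot y hy
    refine ⟨⟨delta R C x, Submodule.subset_span ⟨x, hx, rfl⟩⟩, (key _ x hx rfl).trans ?_⟩
    rw [Ideal.toCotangent_eq]
    exact hxy
  have hSW : Submodule.span C (delta R C '' S) ≤ W R C := Submodule.span_mono (Set.image_mono hS)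
  have hkerΦ : LinearMap.ker Φ = (Submodule.span C (delta R C '' S)).comap (W R C).subtype := by
    ext w
    have hw : Φ w = 0 ↔ ch w ∈ RingHom.ker (algebraMap R C) ^ 2 ⊔ Ideal.span S :=
      ((maximalIdeal L).toCotangent_eq_zero _).trans (h2 _ (hch w))
    rw [LinearMap.mem_ker, hw, Submodule.mem_comap, Submodule.subtype_apply, ← hchd w]
    constructor
    · intro h
      obtain ⟨u, hu, v, hv, huv⟩ := Submodule.mem_sup.mp h
      rw [← huv, delta_add, delta_sq hu, zero_add]
      exact delta_mem_span hS hv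
    · intro h
      have h0 : ∀ z ∈ Submodule.span C (delta R C '' S), ∃ y ∈ Ideal.span S, delta R C y = z := by
        intro z hz
        refine Submodule.span_induction (p := fun v _ => ∃ y ∈ Ideal.span S, delta R C y = v)
          ?_ ⟨0, zero_mem _, delta_zero R C⟩ ?_ ?_ hz
        · rintro _ ⟨y, hy, rfl⟩
          exact ⟨y, Ideal.subset_span hy, rfl⟩
        · rintro _ _ _ _ ⟨y, hy, rfl⟩ ⟨z, hz, rfl⟩
          exact ⟨y + z, add_mem hy hz, delta_add R C y z⟩
        · rintro c _ _ ⟨y, hy, rfl⟩
          obtain ⟨a, rfl⟩ := hsurj c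
          exact ⟨a * y, Ideal.mul_mem_left _ a hy, delta_mul_of_mem (Ideal.span_le.mpr hS hy) a⟩
      obtain ⟨y, hy, hyd⟩ := h0 _ h
      have hyn := Ideal.span_le.mpr hS hy
      have : ch w = (ch w - y) + y := by ring
      rw [this]
      exact add_mem (Ideal.mem_sup_left (mem_sq hsurj p hp (sub_mem (hch w) hyn) (by rw [delta_sub, hyd, sub_self])))
        (Ideal.mem_sup_right hy)
  have h1 := LinearMap.finrank_range_add_finrank_ker Φ
  rw [LinearMap.range_eq_top.mpr hΦ, finrank_top, hkerΦ,
    (Submodule.comapSubtypeEquivOfLe hSW).finrank_eq] at h1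
  have h3 : Module.finrank C (CotangentSpace L) = Module.finrank (ResidueField L) (CotangentSpace L) := by
    unfold Module.finrank
    rw [rank_eq_of_equiv_equiv e (AddEquiv.refl (CotangentSpace L)) e.bijective (fun r m => rfl)]
  rw [h3] at h1
  exact h1.symm

end Groth.L06.DiffCot
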