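import Groth.Agent.L18.CatenarySpace
import Mathlib.AlgebraicGeometry.Noetherian

/-! Catenary Noetherian spaces are the locally dimension-graded ones. -/

set_option autoImplicit false
universe u

open TopologicalSpace Groth.L18.Cat

namespace Groth.L06.DimensionFunction

variable {X : Type u} [TopologicalSpace X]

theorem oCat_of_dimensionFunction [QuasiSober X] [T0Space X] {δ : X → ℤ}
    (hδ : PtTop.IsDimensionFunction δ) : OCat (IrreducibleCloseds X) := by
  let e : IrreducibleCloseds X → ℤ := fun Z => δ (Z.isIrreducible.genericPoint)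
  have hgen : ∀ Z : IrreducibleCloseds X, cl Z.isIrreducible.genericPoint = Z := fun Z =>
    IrreducibleCloseds.ext (by
      show closure {Z.isIrreducible.genericPoint} = (Z : Set X)
      rw [Z.isIrreducible.genericPoint_closure_eq, Z.isClosed.closure_eq])
  have hlt : ∀ a b : IrreducibleCloseds X, a < b → e a < e b := fun a b h => by
    rw [← hgen a, ← hgen b, cl_lt_cl] at h
    exact hδ.1 _ _ h.1 h.2
  have hcov : ∀ a b : IrreducibleCloseds X, a ⋖ b → e b = e a + 1 := fun a b h => by
    obtain ⟨h1, h2⟩ := cl_lt_cl.mp (by rw [hgen a, hgen b]; exact h.1 :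
      cl a.isIrreducible.genericPoint < cl b.isIrreducible.genericPoint)
    refine hδ.2 _ _ ⟨h1, h2, fun z hz1 hz2 => ?_⟩
    by_contra hne
    push Not at hne
    refine h.2 (c := cl z) ?_ ?_
    · rw [← hgen a]; exact cl_lt_cl.mpr ⟨hz2, hne.2⟩
    · rw [← hgen b]; exact cl_lt_cl.mpr ⟨hz1, Ne.symm hne.1⟩
  have grow : ∀ s : LTSeries (IrreducibleCloseds X), e s.head + s.length ≤ e s.last := fun s => by
    induction s using RelSeries.inductionOn' with
    | singleton a => simp
    | snoc s x hx ih =>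
      have := hlt _ _ hx
      simp only [RelSeries.head_snoc, RelSeries.last_snoc, RelSeries.snoc_length]
      push_cast
      omega
  refine ⟨fun a b _ => ⟨(e b - e a).toNat, fun s h1 h2 => ?_⟩, fun s t hh hl hs ht => ?_⟩
  · have := grow s
    rw [h1, h2] at this
    omega
  · have eq : ∀ r : LTSeries (IrreducibleCloseds X), (∀ i : Fin r.length, r (Fin.castSucc i) ⋖ r (Fin.succ i)) →
        e r.last = e r.head + r.length := fun r hr => by
      have H : ∀ j : ℕ, ∀ hj : j ≤ r.length, e (r ⟨j, by omega⟩) = e r.head + j := by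
        intro j
        induction j with
        | zero => intro _; simp [RelSeries.head]
        | succ j ih =>
          intro hj
          have h2 := hcov _ _ (hr ⟨j, by omega⟩)
          have h3 := ih (by omega)
          simp only [Fin.castSucc_mk, Fin.succ_mk] at h2
          omega
      exact H r.length le_rfl
    have h1 := eq s hs
    have h2 := eq t ht
    rw [hh, hl] at h1
    omega

/-- The length between a point and a specialization. -/
noncomputable def dist (a b : X) : ℤ := ((PtTop.codim (cl b) (cl a : Set X)).toNat : ℤ)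

theorem dist_add (hX : PtTop.IsCatenarySpace X) {a b c : X} (hab : a ⤳ b) (hbc : b ⤳ c) :
    dist a c = dist a b + dist b c := by
  have h1 : cl b ≤ cl a := cl_le_cl.mpr hab
  have h2 : cl c ≤ cl b := cl_le_cl.mpr hbc
  obtain ⟨p, p1, p2, p3, p4⟩ := Groth.L06.Catenary.exists_saturated_chain h2 (hX _ _ h2).1
  obtain ⟨q, q1, q2, q3, q4⟩ := Groth.L06.Catenary.exists_saturated_chain h1 (hX _ _ h1).1
  have hc : p.last = q.head := p2.trans q1.symm
  have h3 := (hX (cl c) (cl a) (h2.trans h1)).2 (RelSeries.smash p q hc)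
    (by rw [RelSeries.head_smash, p1]) (by rw [RelSeries.last_smash, q2])
    (Groth.L06.Catenary.saturated_smash hc p3 q3)
  unfold dist
  rw [← h3, ← p4, ← q4]
  simp only [ENat.toNat_natCast, RelSeries.smash_length]
  push_cast
  ring

theorem dist_pos [T0Space X] (hX : PtTop.IsCatenarySpace X) {a b : X} (hab : a ⤳ b) (hne : a ≠ b) :
    0 < dist a b := by
  have h1 : cl b < cl a := cl_lt_cl.mpr ⟨hab, hne⟩
  obtain ⟨p, p1, p2, -, p4⟩ := Groth.L06.Catenary.exists_saturated_chain h1.le (hX _ _ h1.le).1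
  unfold dist
  rw [← p4, ENat.toNat_natCast]
  rcases Nat.eq_zero_or_pos p.length with h | h
  · exfalso
    have : p.head = p.last := congrArg p (Fin.ext (by simp [h]))
    rw [p1, p2] at this
    exact h1.ne this
  · exact_mod_cast h

theorem dist_immediate [QuasiSober X] [T0Space X] {a b : X} (h : PtTop.IsImmediateSpecialization a b) :
    dist a b = 1 := by
  have hc : cl b ⋖ cl a := by
    refine ⟨cl_lt_cl.mpr ⟨h.1, h.2.1⟩, fun Z h1 h2 => ?_⟩
    obtain ⟨z, rfl⟩ := cl_surjective Z
    obtain ⟨hzb, hzne⟩ := cl_lt_cl.mp h1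
    obtain ⟨haz, hane⟩ := cl_lt_cl.mp h2
    rcases h.2.2 z haz hzb with rfl | rfl
    · exact hane rfl
    · exact hzne rfl
  unfold dist
  rw [Groth.L06.Catenary.one_eq_codim_of_covBy hc]
  simp

theorem exists_dimensionFunction [QuasiSober X] [T0Space X] [NoetherianSpace X]
    (hX : PtTop.IsCatenarySpace X) (s : X) :
    ∃ U : Opens X, s ∈ U ∧ ∃ δ : U → ℤ, PtTop.IsDimensionFunction δ := by
  classical
  let I := {T : Set X // T ∈ irreducibleComponents X}
  haveI : Finite I := NoetherianSpace.finite_irreducibleComponents.to_subtype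
  have hcl : ∀ p : I × I, IsClosed ((p.1 : Set X) ∩ (p.2 : Set X)) := fun p =>
    (isClosed_of_mem_irreducibleComponents _ p.1.2).inter (isClosed_of_mem_irreducibleComponents _ p.2.2)
  choose F hFfin hFcl hFirr hFeq using fun p => NoetherianSpace.exists_finite_set_isClosed_irreducible (hcl p)
  let C : Set X := ⋃ p : I × I, ⋃ t ∈ {t ∈ F p | s ∉ t}, t
  have hC : IsClosed C := isClosed_iUnion_of_finite fun p =>
    ((hFfin p).subset fun t ht => ht.1).isClosed_biUnion fun t ht => hFcl p t ht.1
  let U : Opens X := ⟨Cᶜ, hC.isOpen_compl⟩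
  have hsU : s ∈ U := by
    show s ∉ C
    simp only [C, Set.mem_iUnion]
    rintro ⟨p, t, ⟨-, ht⟩, hst⟩
    exact ht hst
  have key : ∀ x : X, x ∈ U → ∀ T T' : I, x ∈ (T : Set X) → x ∈ (T' : Set X) →
      ∃ w : X, w ∈ (T : Set X) ∧ w ∈ (T' : Set X) ∧ w ⤳ x ∧ w ⤳ s := by
    intro x hx T T' hxT hxT'
    have hmem : x ∈ ⋃₀ F (T, T') := by rw [← hFeq (T, T')]; exact ⟨hxT, hxT'⟩
    obtain ⟨t, ht, hxt⟩ := hmem
    have hst : s ∈ t := by
      by_contra hst
      exact hx (Set.mem_iUnion.mpr ⟨(T, T'), Set.mem_biUnion ⟨ht, hst⟩ hxt⟩)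
    have hti : IsIrreducible t := hFirr _ t ht
    have htc : IsClosed t := hFcl _ t ht
    have hg : closure {hti.genericPoint} = t := by rw [hti.genericPoint_closure_eq, htc.closure_eq]
    have hw : hti.genericPoint ∈ (T : Set X) ∩ (T' : Set X) := by
      rw [hFeq (T, T')]
      exact ⟨t, ht, hg.le (subset_closure rfl)⟩
    exact ⟨_, hw.1, hw.2, specializes_iff_mem_closure.mpr (hg.ge hxt),
      specializes_iff_mem_closure.mpr (hg.ge hst)⟩
  have hcomp : ∀ z : X, ∃ (T : I) (η : X), z ∈ (T : Set X) ∧ closure {η} = (T : Set X) := fun z => by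
    have hT := irreducibleComponent_mem_irreducibleComponents z
    exact ⟨⟨_, hT⟩, (isIrreducible_irreducibleComponent (x := z)).genericPoint, mem_irreducibleComponent,
      by rw [(isIrreducible_irreducibleComponent (x := z)).genericPoint_closure_eq,
        (isClosed_irreducibleComponent).closure_eq]⟩
  have indep : ∀ x : X, x ∈ U → ∀ z z' : X, z ⤳ x → z ⤳ s → z' ⤳ x → z' ⤳ s →
      dist z s - dist z x = dist z' s - dist z' x := by
    intro x hx z z' hzx hzs hzx' hzs'
    obtain ⟨T, η, hzT, hη⟩ := hcomp z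
    obtain ⟨T', η', hzT', hη'⟩ := hcomp z'
    have g1 : η ⤳ z := specializes_iff_mem_closure.mpr (hη.ge hzT)
    have g2 : η' ⤳ z' := specializes_iff_mem_closure.mpr (hη'.ge hzT')
    obtain ⟨w, hwT, hwT', hwx, hws⟩ := key x hx T T' (hη.le ((g1.trans hzx).mem_closure))
      (hη'.le ((g2.trans hzx').mem_closure))
    have g3 : η ⤳ w := specializes_iff_mem_closure.mpr (hη.ge hwT)
    have g4 : η' ⤳ w := specializes_iff_mem_closure.mpr (hη'.ge hwT')
    have := dist_add hX g1 hzx
    have := dist_add hX g1 hzs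
    have := dist_add hX g2 hzx'
    have := dist_add hX g2 hzs'
    have := dist_add hX g3 hwx
    have := dist_add hX g3 hws
    have := dist_add hX g4 hwx
    have := dist_add hX g4 hws
    omega
  have hex : ∀ x : U, ∃ z : X, z ⤳ x.1 ∧ z ⤳ s := fun x => by
    obtain ⟨T, η, hxT, hη⟩ := hcomp x.1
    obtain ⟨w, -, -, h1, h2⟩ := key x.1 x.2 T T hxT hxT
    exact ⟨w, h1, h2⟩
  choose z hzx hzs using hex
  let δ : U → ℤ := fun x => dist (z x) s - dist (z x) x.1
  have diff : ∀ a b : U, a.1 ⤳ b.1 → δ a = δ b + dist a.1 b.1 := fun a b h => by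
    have h1 := indep b.1 b.2 (z a) (z b) ((hzx a).trans h) (hzs a) (hzx b) (hzs b)
    have h2 := dist_add hX (hzx a) h
    show dist (z a) s - dist (z a) a.1 = dist (z b) s - dist (z b) b.1 + _
    omega
  refine ⟨U, hsU, δ, fun a b h hne => ?_, fun a b h => ?_⟩
  · have h' : a.1 ⤳ b.1 := h.map continuous_subtype_val
    have := dist_pos hX h' fun e => hne (Subtype.ext e)
    have := diff a b h'
    omega
  · have h' : a.1 ⤳ b.1 := h.1.map continuous_subtype_val
    have him : PtTop.IsImmediateSpecialization a.1 b.1 := by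
      refine ⟨h', fun e => h.2.1 (Subtype.ext e), fun w h1 h2 => ?_⟩
      have hw : w ∈ U := h2.mem_open U.2 b.2
      rcases h.2.2 ⟨w, hw⟩ ((subtype_specializes_iff a ⟨w, hw⟩).mpr h1)
        ((subtype_specializes_iff ⟨w, hw⟩ b).mpr h2) with e | e
      · exact Or.inl (congrArg Subtype.val e)
      · exact Or.inr (congrArg Subtype.val e)
    have := diff a b h'
    have := dist_immediate him
    omega

theorem of_homeomorph {Y : Type u} [TopologicalSpace Y] (e : Y ≃ₜ X) {δ : X → ℤ}
    (hδ : PtTop.IsDimensionFunction δ) : PtTop.IsDimensionFunction (δ ∘ e) := by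
  refine ⟨fun a b h hne => hδ.1 _ _ (h.map e.continuous) (e.injective.ne hne), fun a b h => ?_⟩
  refine hδ.2 _ _ ⟨h.1.map e.continuous, e.injective.ne h.2.1, fun w h1 h2 => ?_⟩
  have h1' := h1.map e.symm.continuous
  have h2' := h2.map e.symm.continuous
  rw [e.symm_apply_apply] at h1' h2'
  rcases h.2.2 (e.symm w) h1' h2' with r | r
  · exact Or.inl (by rw [← r, e.apply_symm_apply])
  · exact Or.inr (by rw [← r, e.apply_symm_apply])

end Groth.L06.DimensionFunction
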