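import Groth.Agent.L05.StrictGalois.NormEssEt
import Groth.Agent.L01.MoriSemilocal
import Mathlib.RingTheory.Ideal.MinimalPrime.Noetherian
import Mathlib.RingTheory.IntegralClosure.IntegrallyClosed

/-! Intersections of intermediate rings with an essentially étale algebra and its normalization. -/

set_option autoImplicit false
set_option maxSynthPendingDepth 3
set_option linter.style.haveILetI false
universe u

open IsLocalRing
open scoped nonZeroDivisors

namespace Groth.L06.EGA4locInter

variable {A E : Type u} [CommRing A] [IsLocalRing A] [IsReduced A] [CommRing E] [Algebra A E]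

/-- An intermediate ring containing `(A⁰)⁻¹` is closed under inverses. -/
theorem exists_inv (hmin : (minimalPrimes A).Finite) (hE : EGA4loc.IsEssentiallyEtale A E)
    (L : Subalgebra A (FractionRing E))
    (hL : ∀ s ∈ nonZeroDivisors A, ∃ y ∈ L, algebraMap A (FractionRing E) s * y = 1)
    {x : FractionRing E} (hx : x ∈ L) (hu : IsUnit x) : ∃ z ∈ L, x * z = 1 := by
  haveI := Groth.L05.StrictGalois.flat_of_essEt hE
  letI := Groth.L05.StrictGalois.fracAlgebra A E
  haveI := Groth.L05.StrictGalois.fracTower A E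
  haveI := Groth.L05.StrictGalois.finite_frac hmin hE
  haveI := Groth.L05.StrictGalois.isArtinianRing_fractionRing_of_finite A hmin
  let Lk : Subalgebra (FractionRing A) (FractionRing E) :=
    { L.toSubsemiring with
      algebraMap_mem' := fun c => by
        obtain ⟨b, s, rfl⟩ := IsLocalization.exists_mk'_eq A⁰ c
        obtain ⟨y, hy, hsy⟩ := hL s s.2
        have h1 : algebraMap (FractionRing A) (FractionRing E) (IsLocalization.mk' _ b s) *
            algebraMap A (FractionRing E) s = algebraMap A (FractionRing E) b := by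
          rw [IsScalarTower.algebraMap_apply A (FractionRing A) (FractionRing E), ← map_mul, IsLocalization.mk'_spec,
            ← IsScalarTower.algebraMap_apply]
        have h2 : algebraMap (FractionRing A) (FractionRing E) (IsLocalization.mk' _ b s) =
            algebraMap A (FractionRing E) b * y := by
          rw [← h1, mul_assoc, hsy, mul_one]
        show algebraMap (FractionRing A) (FractionRing E) _ ∈ L
        rw [h2]
        exact mul_mem (L.algebraMap_mem b) hy }
  haveI : IsArtinian (FractionRing A) Lk := isArtinian_of_injective Lk.val.toLinearMap Subtype.val_injective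
  let μ : Lk →ₗ[FractionRing A] Lk := LinearMap.mulLeft (FractionRing A) ⟨x, hx⟩
  have hμ : Function.Injective μ := fun a b h =>
    Subtype.ext (hu.mul_left_cancel (congrArg Subtype.val h : x * (a : FractionRing E) = x * b))
  obtain ⟨z, hz⟩ := IsArtinian.surjective_of_injective_endomorphism μ hμ 1
  exact ⟨z, z.2, congrArg Subtype.val hz⟩

theorem exists_denominator (hmin : (minimalPrimes A).Finite) (hE : EGA4loc.IsEssentiallyEtale A E)
    (l : FractionRing E) :
    ∃ a ∈ nonZeroDivisors A, ∃ e : E, algebraMap A (FractionRing E) a * l = algebraMap E (FractionRing E) e := by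
  haveI := Groth.L05.StrictGalois.flat_of_essEt hE
  obtain ⟨c, ⟨t, ht⟩, rfl⟩ := IsLocalization.exists_mk'_eq E⁰ l
  obtain ⟨y, a, ha, hya⟩ := Groth.L05.StrictGalois.exists_mul_eq_algebraMap hmin hE ⊤ (d := ⟨t, trivial⟩)
    (mem_nonZeroDivisors_iff_right.2 fun w hw => Subtype.ext
      (mem_nonZeroDivisors_iff_right.1 ht _ (congrArg Subtype.val hw : (w : E) * t = 0)))
  refine ⟨a, ha, c * (y : E), ?_⟩
  have h : t * (y : E) = algebraMap A E a := congrArg Subtype.val hya
  rw [IsScalarTower.algebraMap_apply A E (FractionRing E), ← h, map_mul, map_mul, mul_right_comm, mul_comm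
    (algebraMap E (FractionRing E) t)]
  rw [show IsLocalization.mk' (FractionRing E) c ⟨t, ht⟩ * algebraMap E (FractionRing E) t =
    algebraMap E (FractionRing E) c from IsLocalization.mk'_spec _ c ⟨t, ht⟩]

theorem exists_integral_denominator (hmin : (minimalPrimes A).Finite) (hE : EGA4loc.IsEssentiallyEtale A E)
    (l : FractionRing E) :
    ∃ a ∈ nonZeroDivisors A, IsIntegral A (algebraMap A (FractionRing E) a * l) := by
  haveI := Groth.L05.StrictGalois.flat_of_essEt hE
  letI := Groth.L05.StrictGalois.fracAlgebra A E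
  haveI := Groth.L05.StrictGalois.fracTower A E
  haveI := Groth.L05.StrictGalois.finite_frac hmin hE
  obtain ⟨t, ht⟩ := (Algebra.IsIntegral.isIntegral (R := FractionRing A) l).exists_multiple_integral_of_isLocalization A⁰ l
  refine ⟨t, t.2, ?_⟩
  rwa [← Algebra.smul_def]

/-- The preimage of an intermediate ring in a local essentially étale algebra. -/
theorem exists_preimage [IsLocalRing E] (hmin : (minimalPrimes A).Finite) (hE : EGA4loc.IsEssentiallyEtale A E)
    (L : Subalgebra A (FractionRing E))
    (hL : ∀ s ∈ nonZeroDivisors A, ∃ y ∈ L, algebraMap A (FractionRing E) s * y = 1) :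
    ∃ D : Subalgebra A E, (D : Set E) = (algebraMap E (FractionRing E)) ⁻¹' (L : Set (FractionRing E)) ∧
      ∃ _ : IsLocalRing D, IsLocalHom (algebraMap D E) ∧
        ∀ l ∈ L, ∃ d ∈ D, ∃ s ∈ nonZeroDivisors A, ∃ y ∈ L,
          algebraMap A (FractionRing E) s * y = 1 ∧ l = algebraMap E (FractionRing E) d * y := by
  let D := L.comap (IsScalarTower.toAlgHom A E (FractionRing E))
  have hunit : ∀ x : D, IsUnit (x : E) → IsUnit x := fun x hx => by
    obtain ⟨c, hc⟩ := hx.exists_right_inv
    obtain ⟨z, hz, hxz⟩ := exists_inv hmin hE L hL x.2 (hx.map (algebraMap E (FractionRing E)))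
    have h1 : algebraMap E (FractionRing E) c = z := by
      refine (hx.map (algebraMap E (FractionRing E))).mul_left_cancel ?_
      rw [← map_mul, hc, map_one]
      exact hxz.symm
    exact IsUnit.of_mul_eq_one ⟨c, show algebraMap E (FractionRing E) c ∈ L from h1 ▸ hz⟩ (Subtype.ext hc)
  haveI : IsLocalRing D := IsLocalRing.of_isUnit_or_isUnit_one_sub_self fun x => by
    rcases IsLocalRing.isUnit_or_isUnit_one_sub_self (x : E) with h | h
    · exact Or.inl (hunit x h)
    · exact Or.inr (hunit (1 - x) h)
  refine ⟨D, rfl, inferInstance, ⟨hunit⟩, fun l hl => ?_⟩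
  obtain ⟨a, ha, e, he⟩ := exists_denominator hmin hE l
  obtain ⟨y, hy, hay⟩ := hL a ha
  refine ⟨e, show algebraMap E (FractionRing E) e ∈ L from he ▸ mul_mem (L.algebraMap_mem a) hl, a, ha, y, hy, hay, ?_⟩
  rw [← he, mul_right_comm, hay, one_mul]

/-- The integral closure of a reduced Noetherian local ring in its total ring of fractions is semilocal. -/
theorem finite_maximal_integralClosure (R : Type u) [CommRing R] [IsLocalRing R] [IsNoetherianRing R] [IsReduced R] :
    {M : Ideal (integralClosure R (FractionRing R)) | M.IsMaximal}.Finite := by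
  classical
  let F := FractionRing R
  let R' := integralClosure R F
  have hfin : (minimalPrimes R).Finite := Ideal.finite_minimalPrimes_of_isNoetherianRing R ⊥
  haveI : IsArtinianRing F := Groth.L05.StrictGalois.isArtinianRing_fractionRing_of_finite R hfin
  haveI : Finite (PrimeSpectrum F) := inferInstance
  have hspec : ∀ Q : PrimeSpectrum F, ∃ S : Set (Ideal R'), S.Finite ∧
      ∀ M : Ideal R', M.IsMaximal → Q.asIdeal.comap R'.val ≤ M → M ∈ S := by
    intro Q
    haveI : Q.asIdeal.IsMaximal := IsArtinianRing.isMaximal_of_isPrime Q.asIdeal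
    let q : Ideal R := Q.asIdeal.comap (algebraMap R F)
    haveI : q.IsPrime := Ideal.comap_isPrime _ _
    let R₀ := R ⧸ q
    let K := F ⧸ Q.asIdeal
    letI : Field K := Ideal.Quotient.field Q.asIdeal
    let φ : R₀ →+* K := Ideal.quotientMap Q.asIdeal (algebraMap R F) le_rfl
    letI : Algebra R₀ K := φ.toAlgebra
    have hφ : Function.Injective φ := Ideal.quotientMap_injective
    haveI : FaithfulSMul R₀ K := (faithfulSMul_iff_algebraMap_injective R₀ K).2 hφ
    haveI : IsFractionRing R₀ K := IsFractionRing.of_field R₀ K fun z => by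
      obtain ⟨z, rfl⟩ := Ideal.Quotient.mk_surjective z
      obtain ⟨a, b, rfl⟩ := IsLocalization.exists_mk'_eq R⁰ z
      refine ⟨Ideal.Quotient.mk q a, Ideal.Quotient.mk q b, ?_⟩
      show _ = φ _ / φ _
      rw [Ideal.quotientMap_mk, Ideal.quotientMap_mk, eq_div_iff, ← map_mul, IsLocalization.mk'_spec]
      exact ((IsLocalization.map_units F b).map (Ideal.Quotient.mk Q.asIdeal)).ne_zero
    haveI : IsLocalRing R₀ := IsLocalRing.of_surjective' _ Ideal.Quotient.mk_surjective
    haveI : IsNoetherianRing R₀ := inferInstance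
    let T := integralClosure R₀ K
    have hmemT : ∀ x : R', Ideal.Quotient.mk Q.asIdeal (x : F) ∈ T := fun x => by
      exact (mem_integralClosure_iff _ _).2 (((mem_integralClosure_iff _ _).1 x.2).map_of_comp_eq (Ideal.Quotient.mk q) (Ideal.Quotient.mk Q.asIdeal) (RingHom.ext fun a => rfl))
    let ψ : R' →+* T := RingHom.codRestrict ((Ideal.Quotient.mk Q.asIdeal).comp R'.val.toRingHom) T hmemT
    have hkey : ψ.comp (algebraMap R R') = (algebraMap R₀ T).comp (Ideal.Quotient.mk q) :=
      RingHom.ext fun a => Subtype.ext rfl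
    have hψ : ψ.IsIntegral := by
      intro z
      haveI : Algebra.IsIntegral R₀ T := IsIntegralClosure.isIntegral_algebra R₀ K
      have h1 : (ψ.comp (algebraMap R R')).IsIntegralElem z := by
        rw [hkey]
        obtain ⟨P, hP, hPz⟩ := Algebra.IsIntegral.isIntegral (R := R₀) z
        obtain ⟨P', hP', -, hP'm⟩ :=
          Polynomial.lifts_and_natDegree_eq_and_monic (Polynomial.mem_lifts_of_surjective Ideal.Quotient.mk_surjective P) hP
        exact ⟨P', hP'm, by rw [← Polynomial.eval₂_map, hP']; exact hPz⟩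
      obtain ⟨P, hP, hPz⟩ := h1
      exact ⟨P.map (algebraMap R R'), hP.map _, by rw [Polynomial.eval₂_map]; exact hPz⟩
    refine ⟨(fun N : Ideal T => N.comap ψ) '' {N : Ideal T | N.IsMaximal},
      ((Groth.L01.MoriSemilocal.local_case' R₀ K).1.image _), fun M hM hle => ?_⟩
    letI : Algebra R' T := ψ.toAlgebra
    haveI : Algebra.IsIntegral R' T := ⟨hψ⟩
    haveI := hM
    obtain ⟨N, hN, hNM⟩ := Ideal.exists_ideal_over_maximal_of_isIntegral (S := T) M fun z hz =>
      hle (show (z : F) ∈ Q.asIdeal from Ideal.Quotient.eq_zero_iff_mem.1 (congrArg Subtype.val (show ψ z = 0 from hz)))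
    exact ⟨N, hN, hNM⟩
  choose S hS hSM using hspec
  refine (Set.finite_iUnion hS).subset fun M hM => ?_
  haveI : M.IsMaximal := hM
  obtain ⟨P, hP, hPM⟩ := Ideal.exists_minimalPrimes_le (bot_le : (⊥ : Ideal R') ≤ M)
  obtain ⟨Q, hQ, hQP⟩ := Ideal.exists_comap_eq_of_mem_minimalPrimes_of_injective (f := R'.val.toRingHom)
    Subtype.val_injective P hP
  exact Set.mem_iUnion.2 ⟨⟨Q, hQ⟩, hSM _ M hM ((hQP.le).trans hPM)⟩

/-- The intersection of an intermediate ring with the normalization. -/
theorem inter_integralClosure [IsNoetherianRing A] [IsLocalRing E] [IsLocalHom (algebraMap A E)]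
    (hE : EGA4loc.IsEssentiallyEtale A E) (L : Subalgebra A (FractionRing E))
    (hL : ∀ s ∈ nonZeroDivisors A, ∃ y ∈ L, algebraMap A (FractionRing E) s * y = 1)
    (C : Subalgebra A (FractionRing E))
    (hC : C = L ⊓ (integralClosure E (FractionRing E)).restrictScalars A) :
    (∀ x ∈ L, IsIntegral C x → x ∈ C) ∧
      {N : Ideal C | N.IsMaximal}.Finite ∧
      (∀ N : Ideal C, N.IsMaximal ↔ ∃ M : Ideal ((integralClosure E (FractionRing E)).restrictScalars A),
          M.IsMaximal ∧ N = M.comap (Subalgebra.inclusion (hC.trans_le inf_le_right))) ∧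
      ∀ l ∈ L, ∃ c ∈ C, ∃ s ∈ nonZeroDivisors A, ∃ y ∈ L,
        algebraMap A (FractionRing E) s * y = 1 ∧ l = c * y := by
  classical
  have hmin : (minimalPrimes A).Finite := Ideal.finite_minimalPrimes_of_isNoetherianRing A ⊥
  haveI := Groth.L05.StrictGalois.flat_of_essEt hE
  haveI : IsNoetherianRing E := Groth.L05.StrictGalois.isNoetherianRing_of_essEt hE
  haveI : IsReduced E := Groth.L05.StrictGalois.isReduced_of_essEt hE
  let F := FractionRing E
  let E'' := integralClosure E F
  let E' := E''.restrictScalars A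
  have hCE : C ≤ E' := hC.trans_le inf_le_right
  have hCL : C ≤ L := hC.trans_le inf_le_left
  have hmemC : ∀ x : F, x ∈ L → IsIntegral E x → x ∈ C := fun x h1 h2 => by
    rw [hC]; exact ⟨h1, h2⟩
  refine ⟨fun x hx hxi => hmemC x hx ?_, ?_⟩
  · have h1 : IsIntegral E'' x := hxi.map_of_comp_eq (Subalgebra.inclusion hCE).toRingHom (RingHom.id F)
      (RingHom.ext fun c => rfl)
    haveI : Algebra.IsIntegral E E'' := IsIntegralClosure.isIntegral_algebra E F
    exact isIntegral_trans (R := E) x h1
  let inc := Subalgebra.inclusion hCE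
  have hEfin : {M : Ideal E' | M.IsMaximal}.Finite := finite_maximal_integralClosure E
  have hinv : ∀ c : C, IsUnit (inc c) → IsUnit c := fun c hc => by
    obtain ⟨w, hw⟩ := hc.exists_right_inv
    have hw' : (c : F) * (w : F) = 1 := congrArg Subtype.val hw
    obtain ⟨z, hz, hcz⟩ := exists_inv hmin hE L hL (hCL c.2) (IsUnit.of_mul_eq_one _ hw')
    have hzw : z = (w : F) := (IsUnit.of_mul_eq_one _ hw').mul_left_cancel (hcz.trans hw'.symm)
    exact IsUnit.of_mul_eq_one ⟨z, hmemC z hz (hzw ▸ w.2)⟩ (Subtype.ext hcz)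
  have hres : (algebraMap A (ResidueField E)).IsIntegral := by
    haveI := Groth.L05.StrictGalois.formallyEtale_of_essEt hE
    haveI := Groth.L05.StrictGalois.essFiniteType_of_essEt hE
    haveI : Module.Finite (ResidueField A) (ResidueField E) := inferInstance
    rw [IsScalarTower.algebraMap_eq A (ResidueField A) (ResidueField E)]
    exact RingHom.IsIntegral.trans _ _ (RingHom.isIntegral_of_surjective _ residue_surjective)
      (RingHom.Finite.to_isIntegral (RingHom.finite_algebraMap.2 inferInstance))
  have hmax : ∀ M : Ideal E', M.IsMaximal → (M.comap inc).IsMaximal := fun M hM => by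
    haveI := hM
    haveI : M.IsPrime := hM.isPrime
    haveI : (M.comap inc).IsPrime := Ideal.comap_isPrime _ _
    let M'' : Ideal E'' := M
    haveI : Algebra.IsIntegral E E'' := IsIntegralClosure.isIntegral_algebra E F
    haveI hM''max : M''.IsMaximal := hM
    have hM''m : M''.comap (algebraMap E E'') = maximalIdeal E :=
      IsLocalRing.eq_maximalIdeal (Ideal.isMaximal_comap_of_isIntegral_of_isMaximal M'')
    haveI : IsDomain (E' ⧸ M) := Ideal.Quotient.isDomain M
    let f : ResidueField E →+* (E'' ⧸ M'') := Ideal.Quotient.lift (maximalIdeal E)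
      ((Ideal.Quotient.mk M'').comp (algebraMap E E''))
      fun x hx => Ideal.Quotient.eq_zero_iff_mem.2 (by rw [← hM''m] at hx; exact hx)
    have hf : f.IsIntegral := by
      intro z
      obtain ⟨z, rfl⟩ := Ideal.Quotient.mk_surjective z
      obtain ⟨P, hP, hPz⟩ := Algebra.IsIntegral.isIntegral (R := E) z
      refine ⟨P.map (residue E), hP.map _, ?_⟩
      rw [Polynomial.eval₂_map]
      show Polynomial.eval₂ ((Ideal.Quotient.mk M'').comp (algebraMap E E'')) _ P = 0
      rw [← Polynomial.hom_eval₂, hPz, map_zero]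
    let i : C ⧸ M.comap inc →+* E' ⧸ M := Ideal.quotientMap M inc.toRingHom le_rfl
    have hi : Function.Injective i := Ideal.quotientMap_injective
    have hA : (algebraMap A (E' ⧸ M)).IsIntegral := fun z => RingHom.IsIntegral.trans _ _ hres hf z
    haveI : Algebra.IsIntegral A (E' ⧸ M) := ⟨hA⟩
    refine Ideal.Quotient.maximal_of_isField _ ⟨exists_pair_ne _, mul_comm, fun {x} hx => ?_⟩
    haveI : IsDomain (C ⧸ M.comap inc) := Ideal.Quotient.isDomain _
    let iA : (C ⧸ M.comap inc) →ₐ[A] E' ⧸ M := { i with commutes' := fun a => rfl }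
    have hxi : IsIntegral A x := (isIntegral_algHom_iff iA hi).1 (Algebra.IsIntegral.isIntegral _)
    haveI : Algebra.IsIntegral A (C ⧸ M.comap inc) :=
      ⟨fun y => (isIntegral_algHom_iff iA hi).1 (Algebra.IsIntegral.isIntegral _)⟩
    have hkerA : maximalIdeal A ≤ RingHom.ker (algebraMap A (C ⧸ M.comap inc)) := fun a ha => hi (by
      rw [map_zero]
      show algebraMap A (E' ⧸ M) a = 0
      show f (residue E (algebraMap A E a)) = 0
      rw [(residue_eq_zero_iff _).2 (map_nonunit (algebraMap A E) a ha), map_zero])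
    obtain ⟨P, hP, hPx⟩ := hxi
    let φ : ResidueField A →+* C ⧸ M.comap inc := Ideal.Quotient.lift (maximalIdeal A) (algebraMap A _) fun a ha => hkerA ha
    letI : Algebra (ResidueField A) (C ⧸ M.comap inc) := φ.toAlgebra
    have hxk : IsIntegral (ResidueField A) x := ⟨P.map (residue A), hP.map _, by rw [Polynomial.eval₂_map]; exact hPx⟩
    exact (hxk.isUnit hx).exists_right_inv
  have hiff : ∀ N : Ideal C, N.IsMaximal ↔ ∃ M : Ideal E', M.IsMaximal ∧ N = M.comap inc := fun N => by
    refine ⟨fun hN => ?_, fun ⟨M, hM, hNM⟩ => hNM ▸ hmax M hM⟩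
    have hsub : (N : Set C) ⊆ ⋃ M ∈ (hEfin.toFinset : Set (Ideal E')), (M.comap inc : Set C) := by
      intro c hc
      obtain ⟨M, hM, hcM⟩ := exists_max_ideal_of_mem_nonunits (a := inc c) fun hu =>
        hN.ne_top (Ideal.eq_top_of_isUnit_mem _ hc (hinv c hu))
      exact Set.mem_biUnion (hEfin.mem_toFinset.2 hM) hcM
    obtain ⟨M, hM, hle⟩ := (Ideal.subset_union_prime (f := fun M : Ideal E' => M.comap inc) (s := hEfin.toFinset)
      ⊥ ⊥ fun M hM _ _ => by
        haveI : M.IsMaximal := hEfin.mem_toFinset.1 hM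
        haveI := hM
        exact Ideal.comap_isPrime _ _).1 hsub
    exact ⟨M, hEfin.mem_toFinset.1 hM, hN.eq_of_le (hmax M (hEfin.mem_toFinset.1 hM)).ne_top hle⟩
  refine ⟨(hEfin.image fun M => M.comap inc).subset fun N hN => ?_, hiff, fun l hl => ?_⟩
  · obtain ⟨M, hM, rfl⟩ := (hiff N).1 hN
    exact ⟨M, hM, rfl⟩
  · obtain ⟨a, ha, hint⟩ := exists_integral_denominator hmin hE l
    obtain ⟨y, hy, hay⟩ := hL a ha
    refine ⟨algebraMap A F a * l, hmemC _ (mul_mem (L.algebraMap_mem a) hl) hint.tower_top, a, ha, y, hy, hay, ?_⟩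
    rw [mul_right_comm, hay, one_mul]

end Groth.L06.EGA4locInter
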