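import Groth.Agent.S16450
import Groth.Agent.S16441
import Mathlib.RingTheory.Ideal.MinimalPrime.Noetherian

/-! Normal intermediate rings of the strict henselization of a normal excellent local domain. -/

set_option autoImplicit false
set_option maxSynthPendingDepth 3
set_option linter.style.haveILetI false
universe u

open IsLocalRing
open scoped TensorProduct nonZeroDivisors

namespace Groth.L06.EGA4locNormal

variable {A S : Type u} [CommRing A] [IsLocalRing A] [CommRing S] [IsLocalRing S] [Algebra A S]
  [IsLocalHom (algebraMap A S)] [hS : Hensel.IsStrictHenselization A S]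

include hS in
theorem minimalPrimes_finite_of_domain [IsDomain A] : (minimalPrimes A).Finite := by
  rw [IsDomain.minimalPrimes_eq_singleton_bot A]
  exact Set.finite_singleton _

include hS in
/-- A normal local subdomain generated birationally by finitely many elements is essentially étale. -/
theorem isEssentiallyEtale_of_normal [IsDomain A] [IsIntegrallyClosed A] (hA : EGA4.IsExcellent A)
    (D : Subalgebra A S) [IsLocalRing D] [IsLocalHom (algebraMap D S)] [IsDomain D] [IsIntegrallyClosed D]
    (hfg : ∃ s : Finset D, Subfield.closure (Set.range (algebraMap A (FractionRing D)) ∪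
        (algebraMap D (FractionRing D)) '' (s : Set D)) = ⊤) :
    EGA4loc.IsEssentiallyEtale A D := by
  classical
  obtain ⟨s, hs⟩ := hfg
  have hmin := minimalPrimes_finite_of_domain (A := A) (S := S) (hS := hS)
  haveI := Groth.L05.Henselization.flat_of_isStrictHenselization A S
  obtain ⟨E, _, -, hE, hff, hmem⟩ :=
    Groth.L05.StrictGalois.exists_essEt_stage A S (s.image fun d : D => (d : S))
  haveI := hff
  have hsE : ∀ d ∈ s, (d : S) ∈ E := fun d hd => hmem (Finset.mem_coe.2 (Finset.mem_image_of_mem _ hd))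
  have hDE : D ≤ E := by
    intro x hx
    have hmemE : ∀ z ∈ Subring.closure (Set.range (algebraMap A (FractionRing D)) ∪
        (algebraMap D (FractionRing D)) '' (s : Set D)),
        ∃ d : D, (d : S) ∈ E ∧ algebraMap D (FractionRing D) d = z := by
      intro z hz
      induction hz using Subring.closure_induction with
      | mem z hz =>
        rcases hz with ⟨a, rfl⟩ | ⟨d, hd, rfl⟩
        · exact ⟨algebraMap A D a, E.algebraMap_mem a, (IsScalarTower.algebraMap_apply A D _ a).symm⟩
        · exact ⟨d, hsE d hd, rfl⟩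
      | zero => exact ⟨0, zero_mem _, map_zero _⟩
      | one => exact ⟨1, one_mem _, map_one _⟩
      | add a b _ _ ha hb =>
        obtain ⟨d, hd, rfl⟩ := ha; obtain ⟨d', hd', rfl⟩ := hb
        exact ⟨d + d', add_mem hd hd', map_add _ _ _⟩
      | neg a _ ha =>
        obtain ⟨d, hd, rfl⟩ := ha
        exact ⟨-d, neg_mem hd, map_neg _ _⟩
      | mul a b _ _ ha hb =>
        obtain ⟨d, hd, rfl⟩ := ha; obtain ⟨d', hd', rfl⟩ := hb
        exact ⟨d * d', mul_mem hd hd', map_mul _ _ _⟩
    obtain ⟨y, hy, w, hw, hyw⟩ := Subfield.mem_closure_iff.1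
      ((by rw [hs]; trivial : algebraMap D (FractionRing D) ⟨x, hx⟩ ∈ Subfield.closure (Set.range (algebraMap A (FractionRing D)) ∪
        (algebraMap D (FractionRing D)) '' (s : Set D))))
    obtain ⟨y, hyE, rfl⟩ := hmemE y hy
    obtain ⟨w, hwE, rfl⟩ := hmemE w hw
    by_cases hw0 : w = 0
    · rw [hw0, map_zero, div_zero] at hyw
      have h0 : (⟨x, hx⟩ : D) = 0 := IsFractionRing.injective D (FractionRing D) (hyw.symm.trans (map_zero _).symm)
      rw [show x = 0 from congrArg Subtype.val h0]
      exact zero_mem _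
    · rw [div_eq_iff ((map_ne_zero_iff _ (IsFractionRing.injective D (FractionRing D))).2 hw0), ← map_mul] at hyw
      have h1 : (y : S) = x * w := congrArg Subtype.val (IsFractionRing.injective D (FractionRing D) hyw)
      refine Groth.L05.StrictGalois.mem_of_mul_mem E hwE
        (Groth.L05.StrictGalois.coe_mem_nonZeroDivisors_strict (hS := hS) hmin D (mem_nonZeroDivisors_of_ne_zero hw0)) ?_
      rw [← h1]; exact hyE
  have hfg' := (Groth.Agent.S16441.result A S hmin D).2 ⟨E, hDE, inferInstance, hE⟩
  obtain ⟨j, hj, hjd⟩ := Groth.L05.StrictGalois.exists_fracEmb (hS := hS) hmin D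
  have hjA : ∀ a : A, j (algebraMap A (FractionRing D) a) = algebraMap A (FractionRing S) a := j.commutes
  have hflatA : ∀ a ∈ A⁰, IsUnit (algebraMap A (FractionRing S) a) := fun a ha =>
    Groth.L05.StrictGalois.isUnit_algebraMap_frac A S ha
  let A' : Subalgebra A (FractionRing S) := ⊥
  let D' : Subalgebra A (FractionRing S) := D.map (IsScalarTower.toAlgHom A S (FractionRing S))
  have hA' : ∀ x : FractionRing S, x ∈ A' ↔ (IsIntegral A x ∧
      ∃ a ∈ nonZeroDivisors A, ∃ b : A, algebraMap A (FractionRing S) a * x = algebraMap A (FractionRing S) b) := by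
    intro x
    constructor
    · intro hx
      obtain ⟨a, rfl⟩ := Algebra.mem_bot.1 hx
      exact ⟨isIntegral_algebraMap, 1, one_mem _, a, by rw [map_one, one_mul]⟩
    · rintro ⟨hxi, a, ha, b, hab⟩
      obtain ⟨u, hu⟩ := IsUnit.exists_left_inv (IsLocalization.map_units (M := A⁰) (FractionRing A) ⟨a, ha⟩)
      let k : FractionRing A := u * algebraMap A (FractionRing A) b
      have hcA : ∀ c : A⁰, IsUnit ((algebraMap A (FractionRing S)) c) := fun c => hflatA c c.2
      let i : FractionRing A →ₐ[A] FractionRing S :=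
        IsLocalization.liftAlgHom (M := A⁰) (f := Algebra.ofId A (FractionRing S)) hcA
      have hik : i k = x := by
        refine (hflatA a ha).mul_left_cancel ?_
        rw [hab, ← i.commutes a, ← map_mul, show algebraMap A (FractionRing A) a * k = algebraMap A (FractionRing A) b from by
          show _ * (u * _) = _
          rw [← mul_assoc, mul_comm _ u, hu, one_mul], i.commutes]
      have hk : IsIntegral A k := (isIntegral_algHom_iff i i.toRingHom.injective).1 (by rw [hik]; exact hxi)
      obtain ⟨c, hc⟩ := IsIntegrallyClosed.isIntegral_iff.1 hk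
      exact Algebra.mem_bot.2 ⟨c, by rw [← hik, ← hc, i.commutes]⟩
  have hD' : ∀ x : FractionRing S, x ∈ D' ↔ (IsIntegral D x ∧
      ∃ a ∈ nonZeroDivisors A, ∃ d ∈ D, algebraMap A (FractionRing S) a * x = algebraMap S (FractionRing S) d) := by
    intro x
    constructor
    · rintro ⟨d, hd, rfl⟩
      refine ⟨?_, 1, one_mem _, d, hd, by rw [map_one, one_mul]; rfl⟩
      show IsIntegral D (algebraMap D (FractionRing S) ⟨d, hd⟩)
      exact isIntegral_algebraMap
    · rintro ⟨hxi, a, ha, d, hd, had⟩
      have haD : algebraMap A D a ∈ D⁰ := mem_nonZeroDivisors_of_ne_zero fun h0 =>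
        (hflatA a ha).ne_zero (by
          rw [IsScalarTower.algebraMap_apply A D (FractionRing S), h0, map_zero])
      obtain ⟨u, hu⟩ := IsUnit.exists_left_inv (IsLocalization.map_units (M := D⁰) (FractionRing D) ⟨_, haD⟩)
      let t : FractionRing D := u * algebraMap D (FractionRing D) ⟨d, hd⟩
      have ht : algebraMap A (FractionRing D) a * t = algebraMap D (FractionRing D) ⟨d, hd⟩ := by
        show _ * (u * _) = _
        rw [IsScalarTower.algebraMap_apply A D (FractionRing D), ← mul_assoc, mul_comm _ u, hu, one_mul]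
      have hjt : j t = x := by
        refine (hflatA a ha).mul_left_cancel ?_
        rw [had, ← hjA a, ← map_mul, ht, hjd]
      let jD : FractionRing D →ₐ[D] FractionRing S := { j.toRingHom with commutes' := fun e => hjd e }
      have hti : IsIntegral D t := (isIntegral_algHom_iff jD hj).1 (by show IsIntegral D (j t); rw [hjt]; exact hxi)
      obtain ⟨c, hc⟩ := IsIntegrallyClosed.isIntegral_iff.1 hti
      exact ⟨c, c.2, by rw [← hjt, ← hc, hjd]; rfl⟩
  have hle : A' ≤ D' := bot_le
  let ι : D →ₐ[A] D' := ((IsScalarTower.toAlgHom A S (FractionRing S)).comp D.val).codRestrict D' fun d => ⟨d, d.2, rfl⟩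
  have hι : ∀ d : D, (ι d : FractionRing S) = algebraMap S (FractionRing S) d := fun d => rfl
  have hιbij : Function.Bijective ι := by
    refine ⟨fun d e h => Subtype.ext (IsFractionRing.injective S (FractionRing S) (congrArg Subtype.val h)), ?_⟩
    rintro ⟨_, d, hd, rfl⟩
    exact ⟨⟨d, hd⟩, rfl⟩
  let eι := AlgEquiv.ofBijective ι hιbij
  haveI : IsLocalRing D' := eι.toRingEquiv.isLocalRing
  refine (Groth.Agent.S16450.result A S hA D hfg' A' D' hA' hD' hle ι hι).2 ⟨?_, ?_, ?_⟩
  · exact (Set.finite_singleton (maximalIdeal D')).subset fun N hN => IsLocalRing.eq_maximalIdeal hN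
  · intro z
    obtain ⟨w, rfl⟩ := Ideal.Quotient.mk_surjective z
    obtain ⟨d, rfl⟩ := hιbij.2 w
    refine ⟨1 ⊗ₜ d, ?_⟩
    show Ideal.Quotient.mk _ (Algebra.TensorProduct.productMap _ _ (1 ⊗ₜ d)) = _
    rw [Algebra.TensorProduct.productMap_apply_tmul, map_one, one_mul]
  · have htens : ∀ z : A' ⊗[A] D, ∃ d : D, z = 1 ⊗ₜ d := by
      intro z
      induction z with
      | zero => exact ⟨0, (TensorProduct.tmul_zero _ _).symm⟩
      | tmul a d =>
        obtain ⟨b, hb⟩ := Algebra.mem_bot.1 a.2
        refine ⟨b • d, ?_⟩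
        rw [TensorProduct.tmul_smul, TensorProduct.smul_tmul', ← Algebra.algebraMap_eq_smul_one]
        congr 1
        exact Subtype.ext hb.symm
      | add x y hx hy =>
        obtain ⟨d, rfl⟩ := hx; obtain ⟨e, rfl⟩ := hy
        exact ⟨d + e, (TensorProduct.tmul_add _ _ _).symm⟩
    have hjac : Ideal.jacobson (⊥ : Ideal D') = maximalIdeal D' := IsLocalRing.jacobson_eq_maximalIdeal ⊥ bot_ne_top
    refine le_antisymm (fun z hz => ?_) (sup_le (Ideal.map_le_iff_le_comap.2 fun a ha => ?_)
      (Ideal.map_le_iff_le_comap.2 fun d hd => ?_))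
    · obtain ⟨d, rfl⟩ := htens z
      refine Ideal.mem_sup_right (Ideal.mem_map_of_mem _ ?_)
      have h1 : Ideal.Quotient.mk (Ideal.jacobson (⊥ : Ideal D'))
          (Algebra.TensorProduct.productMap (Subalgebra.inclusion hle) ι (1 ⊗ₜ d)) = 0 := hz
      rw [Algebra.TensorProduct.productMap_apply_tmul, map_one, one_mul, Ideal.Quotient.eq_zero_iff_mem, hjac] at h1
      exact fun hu => h1 (hu.map ι)
    · show Ideal.Quotient.mk _ (Algebra.TensorProduct.productMap (Subalgebra.inclusion hle) ι (a ⊗ₜ 1)) = 0
      rw [Algebra.TensorProduct.productMap_apply_tmul, map_one, mul_one, Ideal.Quotient.eq_zero_iff_mem, hjac]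
      obtain ⟨b, hb⟩ := Algebra.mem_bot.1 a.2
      have hab : a = algebraMap A A' b := Subtype.ext hb.symm
      rw [hab, AlgHom.commutes]
      intro hu
      have h2 : IsUnit (algebraMap A D b) := (isUnit_map_iff eι (algebraMap A D b)).1 (by
        show IsUnit (ι (algebraMap A D b)); rw [AlgHom.commutes]; exact hu)
      have h3 := h2.map (algebraMap D S)
      rw [← IsScalarTower.algebraMap_apply] at h3
      have h4 : IsUnit b := IsLocalHom.map_nonunit (f := algebraMap A S) b h3
      have h5 := Ideal.mem_jacobson_bot.1 ha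
      rw [hab] at h5
      obtain ⟨c, hc⟩ := h4.exists_right_inv
      refine not_isUnit_zero (M₀ := A') ?_
      have h6 := h5 (-algebraMap A A' c)
      rwa [mul_neg, ← map_mul, hc, map_one, neg_add_cancel] at h6
    · show Ideal.Quotient.mk _ (Algebra.TensorProduct.productMap (Subalgebra.inclusion hle) ι (1 ⊗ₜ d)) = 0
      rw [Algebra.TensorProduct.productMap_apply_tmul, map_one, one_mul, Ideal.Quotient.eq_zero_iff_mem, hjac]
      exact fun hu => hd ((isUnit_map_iff eι d).1 hu)

include hS in
/-- A normal intermediate ring is a directed union of essentially étale local algebras. -/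
theorem exists_le_essentiallyEtale [IsDomain A] [IsIntegrallyClosed A] (hA : EGA4.IsExcellent A)
    (D : Subalgebra A S) [IsLocalRing D] [IsLocalHom (algebraMap D S)] [IsDomain D] [IsIntegrallyClosed D]
    (s : Finset S) (hs : (s : Set S) ⊆ (D : Set S)) :
    ∃ D' : Subalgebra A S, D' ≤ D ∧ (s : Set S) ⊆ (D' : Set S) ∧
      ∃ _ : IsLocalRing D', IsLocalHom (algebraMap D' S) ∧ EGA4loc.IsEssentiallyEtale A D' := by
  classical
  let gD := algebraMap D (FractionRing D)
  let K : Subfield (FractionRing D) := Subfield.closure (Set.range (algebraMap A (FractionRing D)) ∪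
    gD '' {d : D | (d : S) ∈ s})
  let D₀ : Subalgebra A D :=
    { K.toSubring.comap gD with
      algebraMap_mem' := fun a => Subfield.subset_closure (Or.inl ⟨a, IsScalarTower.algebraMap_apply A D _ a⟩) }
  have hD₀ : ∀ d, d ∈ D₀ ↔ gD d ∈ K := fun d => Iff.rfl
  let D' : Subalgebra A S := D₀.map D.val
  have hle : D' ≤ D := by rintro _ ⟨d, -, rfl⟩; exact d.2
  have hsub : (s : Set S) ⊆ (D' : Set S) := fun x hx =>
    ⟨⟨x, hs hx⟩, Subfield.subset_closure (Or.inr ⟨⟨x, hs hx⟩, hx, rfl⟩), rfl⟩
  let i : D' →+* D := (Subalgebra.inclusion hle).toRingHom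
  have hi : Function.Injective i := Subalgebra.inclusion_injective hle
  have himem : ∀ x : D', gD (i x) ∈ K := by
    rintro ⟨_, d, hd, rfl⟩
    exact hd
  have hmemi : ∀ d : D, gD d ∈ K → ∃ x : D', i x = d := fun d hd => ⟨⟨d, d, hd, rfl⟩, rfl⟩
  haveI : IsDomain D' := hi.isDomain i
  have hunit : ∀ x : D', IsUnit (x : S) → IsUnit x := fun x hx => by
    obtain ⟨c, hc⟩ := (IsLocalHom.map_nonunit (f := algebraMap D S) (i x) hx).exists_right_inv
    have hc' : gD c = (gD (i x))⁻¹ := eq_inv_of_mul_eq_one_right (by rw [← map_mul, hc, map_one])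
    obtain ⟨y, rfl⟩ := hmemi c (by rw [hc']; exact inv_mem (himem x))
    exact IsUnit.of_mul_eq_one y (hi (by rw [map_mul, hc, map_one]))
  haveI hlochom : IsLocalHom (algebraMap D' S) := ⟨hunit⟩
  haveI : IsLocalRing D' := IsLocalRing.of_isUnit_or_isUnit_one_sub_self fun x => by
    rcases IsLocalRing.isUnit_or_isUnit_one_sub_self (x : S) with h | h
    · exact Or.inl (hunit x h)
    · exact Or.inr (hunit (1 - x) h)
  let F : FractionRing D' →+* FractionRing D :=
    IsFractionRing.lift (A := D') (g := gD.comp i) ((IsFractionRing.injective D _).comp hi)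
  have hF : ∀ x : D', F (algebraMap D' (FractionRing D') x) = gD (i x) := fun x => IsFractionRing.lift_algebraMap _ x
  have hFK : ∀ z, F z ∈ K := fun z => by
    obtain ⟨a, b, -, rfl⟩ := IsFractionRing.div_surjective (A := D') z
    rw [map_div₀, hF, hF]
    exact div_mem (himem a) (himem b)
  haveI : IsIntegrallyClosed D' := (isIntegrallyClosed_iff (FractionRing D')).2 fun {z} hz => by
    have h1 : IsIntegral D (F z) := hz.map_of_comp_eq i F (RingHom.ext fun x => (hF x).symm)
    obtain ⟨d, hd⟩ := IsIntegrallyClosed.isIntegral_iff.1 h1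
    obtain ⟨x, rfl⟩ := hmemi d (by show algebraMap D _ d ∈ K; rw [hd]; exact hFK z)
    exact ⟨x, F.injective ((hF x).trans hd)⟩
  have hfg : ∃ t : Finset D', Subfield.closure (Set.range (algebraMap A (FractionRing D')) ∪
      (algebraMap D' (FractionRing D')) '' (t : Set D')) = ⊤ := by
    refine ⟨s.attach.image fun x => ⟨x.1, hsub x.2⟩, ?_⟩
    refine eq_top_iff.2 fun z _ => ?_
    have h1 : K ≤ (Subfield.closure (Set.range (algebraMap A (FractionRing D')) ∪
        (algebraMap D' (FractionRing D')) '' ((s.attach.image fun x => (⟨x.1, hsub x.2⟩ : D')) : Finset D'))).map F := by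
      refine Subfield.closure_le.2 (Set.union_subset ?_ ?_)
      · rintro _ ⟨a, rfl⟩
        refine Subfield.mem_map.2 ⟨algebraMap A (FractionRing D') a, Subfield.subset_closure (Or.inl ⟨a, rfl⟩), ?_⟩
        rw [IsScalarTower.algebraMap_apply A D' (FractionRing D'), hF, IsScalarTower.algebraMap_apply A D (FractionRing D)]
        exact congrArg gD (Subtype.ext rfl)
      · rintro _ ⟨d, hd, rfl⟩
        refine Subfield.mem_map.2 ⟨algebraMap D' (FractionRing D') ⟨d, hsub hd⟩,
          Subfield.subset_closure (Or.inr ⟨⟨d, hsub hd⟩, ?_, rfl⟩), ?_⟩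
        · exact Finset.mem_coe.2 (Finset.mem_image.2 ⟨⟨d, hd⟩, Finset.mem_attach _ _, rfl⟩)
        · rw [hF]; exact congrArg gD (Subtype.ext rfl)
    obtain ⟨w, hw, hwz⟩ := Subfield.mem_map.1 (h1 (hFK z))
    rwa [← F.injective hwz]
  exact ⟨D', hle, hsub, inferInstance, hlochom, isEssentiallyEtale_of_normal (hS := hS) hA D' hfg⟩

end Groth.L06.EGA4locNormal
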