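import Mathlib.Algebra.Category.ModuleCat.Colimits
import Mathlib.Algebra.Category.ModuleCat.Abelian
import Mathlib.Algebra.Category.ModuleCat.EpiMono
import Mathlib.Algebra.Homology.ShortComplex.ExactFunctor
import Mathlib.Algebra.Homology.ShortComplex.ModuleCat
import Mathlib.LinearAlgebra.TensorProduct.Tower
import Mathlib.LinearAlgebra.TensorProduct.RightExactness
import Mathlib.LinearAlgebra.DirectSum.Finsupp

/-!
Right exact functors of modules commuting with direct sums are tensor functors.
-/

set_option autoImplicit false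
set_option linter.style.haveILetI false
universe u

open CategoryTheory CategoryTheory.Limits TensorProduct

noncomputable section

namespace Groth.L06.EW

variable {A B : Type u} [CommRing A] [CommRing B] (F : ModuleCat.{u} A ⥤ ModuleCat.{u} B) [F.Additive]

/-- The morphism from the ring given by an element. -/
abbrev inc (M : ModuleCat.{u} A) (m : M) : ModuleCat.of A A ⟶ M :=
  ModuleCat.ofHom (LinearMap.toSpanSingleton A M m)

theorem inc_comp {M N : ModuleCat.{u} A} (m : M) (f : M ⟶ N) : inc M m ≫ f = inc N (f.hom m) := by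
  ext
  simp

theorem inc_smul (M : ModuleCat.{u} A) (a : A) (m : M) :
    inc M (a • m) = inc (ModuleCat.of A A) a ≫ inc M m := by
  ext
  simp

theorem inc_add (M : ModuleCat.{u} A) (m m' : M) : inc M (m + m') = inc M m + inc M m' := by
  ext
  simp

/-- Multiplication of scalars on the image of the ring. -/
def act : A →+* Module.End B (F.obj (ModuleCat.of A A)) where
  toFun a := (F.map (inc (ModuleCat.of A A) a)).hom
  map_one' := by
    rw [show inc (ModuleCat.of A A) (1 : A) = 𝟙 _ by ext; simp, F.map_id]
    rfl
  map_mul' a b := by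
    rw [show inc (ModuleCat.of A A) (a * b) = inc (ModuleCat.of A A) b ≫ inc (ModuleCat.of A A) a from by
      ext; simp [mul_comm], F.map_comp]
    rfl
  map_zero' := by
    rw [show inc (ModuleCat.of A A) (0 : A) = 0 by ext; simp, F.map_zero]
    rfl
  map_add' a b := by
    rw [inc_add, F.map_add]
    rfl

/-- The kernel module. -/
def K : Type u := F.obj (ModuleCat.of A A)

instance : AddCommGroup (K F) := inferInstanceAs (AddCommGroup (F.obj (ModuleCat.of A A)))
instance : Module B (K F) := inferInstanceAs (Module B (F.obj (ModuleCat.of A A)))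
instance : Module A (K F) :=
  letI : Module (Module.End B (F.obj (ModuleCat.of A A))) (K F) :=
    inferInstanceAs (Module (Module.End B (F.obj (ModuleCat.of A A))) (F.obj (ModuleCat.of A A)))
  Module.compHom (K F) (act F)

theorem smul_def (a : A) (k : K F) : a • k = (F.map (inc (ModuleCat.of A A) a)).hom k := rfl

instance : SMulCommClass A B (K F) := ⟨fun a b k => by
  rw [smul_def, smul_def]
  exact map_smul _ b k⟩

/-- The comparison map. -/
def ηAdd (M : ModuleCat.{u} A) : (K F) ⊗[A] M →+ F.obj M :=
  TensorProduct.liftAddHom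
    (AddMonoidHom.mk' (fun k : K F => AddMonoidHom.mk' (fun m : M => (F.map (inc M m)).hom k) fun m m' => by
        rw [inc_add, F.map_add]; rfl)
      fun k k' => AddMonoidHom.ext fun m => (F.map (inc M m)).hom.map_add k k')
    fun a k m => by
      show (F.map (inc M m)).hom (a • k) = (F.map (inc M (a • m))).hom k
      rw [inc_smul, F.map_comp, smul_def]
      rfl

theorem ηAdd_tmul (M : ModuleCat.{u} A) (k : K F) (m : M) : ηAdd F M (k ⊗ₜ m) = (F.map (inc M m)).hom k := rfl

/-- The comparison map, linear. -/
def η (M : ModuleCat.{u} A) : (K F) ⊗[A] M →ₗ[B] F.obj M where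
  toFun := ηAdd F M
  map_add' := map_add _
  map_smul' b x := by
    induction x using TensorProduct.induction_on with
    | zero => simp
    | tmul k m =>
      rw [TensorProduct.smul_tmul', ηAdd_tmul, ηAdd_tmul]
      exact map_smul _ b k
    | add x y hx hy => simp_all [smul_add]

theorem η_tmul (M : ModuleCat.{u} A) (k : K F) (m : M) : η F M (k ⊗ₜ m) = (F.map (inc M m)).hom k := rfl

theorem η_natural {M N : ModuleCat.{u} A} (f : M ⟶ N) (x : (K F) ⊗[A] M) :
    η F N (LinearMap.lTensor (K F) f.hom x) = F.map f (η F M x) := by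
  induction x using TensorProduct.induction_on with
  | zero => simp
  | tmul k m =>
    rw [LinearMap.lTensor_tmul, η_tmul, η_tmul, ← inc_comp, F.map_comp]
    rfl
  | add x y hx hy => simp_all

theorem η_self (x : (K F) ⊗[A] (ModuleCat.of A A : ModuleCat.{u} A)) :
    η F (ModuleCat.of A A) x = TensorProduct.rid A (K F) x := by
  induction x using TensorProduct.induction_on with
  | zero => rfl
  | tmul k a => rfl
  | add x y hx hy => rw [map_add, map_add, hx, hy]; rfl

variable [PreservesFiniteColimits F] (hsum : ∀ J : Type u, PreservesColimitsOfShape (Discrete J) F)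

include hsum in
theorem bijective_free (ι : Type u) : Function.Bijective (η F (ModuleCat.of A (ι →₀ A))) := by
  classical
  constructor
  · refine (injective_iff_map_eq_zero _).2 fun x hx => ?_
    have hc : ∀ i, LinearMap.lTensor (K F) (Finsupp.lapply i : (ι →₀ A) →ₗ[A] A) x = 0 := fun i => by
      apply (TensorProduct.rid A (K F)).injective
      rw [map_zero, ← η_self]
      have h := η_natural F (ModuleCat.ofHom (Finsupp.lapply i : (ι →₀ A) →ₗ[A] A) :
        ModuleCat.of A (ι →₀ A) ⟶ ModuleCat.of A A) x
      rw [hx, map_zero] at h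
      exact h
    have key : ∀ (y : (K F) ⊗[A] (ι →₀ A)) (i : ι), TensorProduct.finsuppRight A A (K F) A ι y i =
        LinearMap.lTensor (K F) (Finsupp.lapply i : (ι →₀ A) →ₗ[A] A) y := fun y i => by
      induction y using TensorProduct.induction_on with
      | zero => simp
      | tmul k p => rw [TensorProduct.finsuppRight_apply_tmul_apply]; rfl
      | add y z hy hz => simp [hy, hz]
    exact (TensorProduct.finsuppRight A A (K F) A ι).injective
      (Finsupp.ext fun i => by rw [key, hc, map_zero]; rfl)
  · let c : Cofan (fun _ : ι => ModuleCat.of A A) :=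
      Cofan.mk (ModuleCat.of A (ι →₀ A)) fun i => ModuleCat.ofHom (Finsupp.lsingle i)
    have hc : IsColimit c := mkCofanColimit c
      (fun s => ModuleCat.ofHom (Finsupp.lsum A fun i => (s.inj i).hom))
      (fun s i => by ext; simp [c])
      fun s g hg => ModuleCat.hom_ext (Finsupp.lhom_ext' fun i => LinearMap.ext_ring (by
        have h := congr($(hg i).hom (1 : A))
        simpa [c] using h))
    haveI := hsum ι
    let d := isColimitOfPreserves F hc
    let N : Submodule B (F.obj (ModuleCat.of A (ι →₀ A))) := LinearMap.range (η F _)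
    have h0 : ModuleCat.ofHom N.mkQ = (0 : F.obj (ModuleCat.of A (ι →₀ A)) ⟶ ModuleCat.of B _) := by
      refine d.hom_ext fun ⟨i⟩ => ?_
      ext k
      refine (Submodule.Quotient.mk_eq_zero N).2 ⟨(show K F from k) ⊗ₜ (Finsupp.single i 1), ?_⟩
      rw [η_tmul]
      refine congr($(congrArg F.map ?_).hom k)
      exact ModuleCat.hom_ext (LinearMap.ext_ring (by simp; rfl))
    exact fun z => (Submodule.Quotient.mk_eq_zero N).1 congr($(h0).hom z)

include hsum in
theorem bijective (M : ModuleCat.{u} A) : Function.Bijective (η F M) := by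
  classical
  let p : (M →₀ A) →ₗ[A] M := Finsupp.linearCombination A id
  let q : (LinearMap.ker p →₀ A) →ₗ[A] (M →₀ A) := (LinearMap.ker p).subtype.comp (Finsupp.linearCombination A id)
  have hp : Function.Surjective p := Finsupp.linearCombination_surjective A Function.surjective_id
  have hpq : p.comp q = 0 := LinearMap.ext fun v => (Finsupp.linearCombination A id v).2
  let S : ShortComplex (ModuleCat.{u} A) :=
    ShortComplex.mk (ModuleCat.ofHom q) (ModuleCat.ofHom p) (ModuleCat.hom_ext hpq)
  have hS : S.Exact := (ShortComplex.moduleCat_exact_iff S).2 fun y hy => by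
    obtain ⟨w, hw⟩ := Finsupp.linearCombination_surjective A (Function.surjective_id (α := LinearMap.ker p)) ⟨y, hy⟩
    exact ⟨w, congrArg Subtype.val hw⟩
  haveI : Epi S.g := (ModuleCat.epi_iff_surjective _).2 hp
  have H : PreservesFiniteColimits F ↔
      ∀ (S : ShortComplex (ModuleCat.{u} A)), S.Exact ∧ Epi S.g → (S.map F).Exact ∧ Epi (F.map S.g) :=
    (Functor.preservesFiniteColimits_tfae F).out 3 1
  obtain ⟨hE, hepi⟩ := H.1 inferInstance S ⟨hS, inferInstance⟩
  have hFp : Function.Surjective (F.map (ModuleCat.ofHom p)) := (ModuleCat.epi_iff_surjective _).1 hepi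
  refine ⟨(injective_iff_map_eq_zero _).2 fun x hx => ?_, fun z => ?_⟩
  · obtain ⟨y, rfl⟩ := LinearMap.lTensor_surjective (K F) hp x
    have h1 := η_natural F (ModuleCat.ofHom p : ModuleCat.of A (M →₀ A) ⟶ M) y
    obtain ⟨z, hz⟩ := (ShortComplex.moduleCat_exact_iff _).1 hE (η F (ModuleCat.of A (M →₀ A)) y) (h1.symm.trans hx)
    obtain ⟨w, hw⟩ := (bijective_free F hsum _).2 z
    have h2 : y = LinearMap.lTensor (K F) q w := (bijective_free F hsum _).1 (by
      refine Eq.trans ?_ (η_natural F (ModuleCat.ofHom q : ModuleCat.of A (LinearMap.ker p →₀ A) ⟶ ModuleCat.of A (M →₀ A)) w).symm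
      exact hz.symm.trans (congrArg _ hw.symm))
    rw [h2]
    show LinearMap.lTensor (K F) p (LinearMap.lTensor (K F) q w) = 0
    rw [← LinearMap.lTensor_comp_apply, hpq, LinearMap.lTensor_zero]
    rfl
  · obtain ⟨z', rfl⟩ := hFp z
    obtain ⟨y, rfl⟩ := (bijective_free F hsum _).2 z'
    exact ⟨_, η_natural F (ModuleCat.ofHom p : ModuleCat.of A (M →₀ A) ⟶ M) y⟩

end Groth.L06.EW
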