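import Groth.Prelude.Def_CAlg2
import Groth.Agent.L06.Unibranch
import Mathlib.FieldTheory.IsAlgClosed.AlgebraicClosure
import Mathlib.FieldTheory.SeparableDegree
import Mathlib.FieldTheory.Normal.Basic
import Mathlib.Algebra.Polynomial.Lifts
import Mathlib.Algebra.CharP.Reduced
import Mathlib.RingTheory.IntegralClosure.IsIntegralClosure.Basic
import Mathlib.RingTheory.Valuation.LocalSubring
import Mathlib.RingTheory.Ideal.GoingUp

/-!
# Lifting residual homomorphisms to embeddings of fields

If a residual homomorphism has a unique extension to the normalization of `O`, every compatible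
homomorphism on the integral closure of `O` in a finite extension `L` comes from an embedding of `L`.
-/

set_option autoImplicit false
set_option maxSynthPendingDepth 3
set_option linter.style.haveILetI false

universe u

open Polynomial

noncomputable section

namespace Groth.L06.EmbLift

theorem pow_mem_range_of_forall_fixed {K Kb : Type u} [Field K] [Field Kb] [Algebra K Kb] [Normal K Kb]
    [IsAlgClosed Kb] (q : ℕ) [ExpChar K q] (x : Kb) (h : ∀ g : Kb ≃ₐ[K] Kb, g x = x) :
    ∃ n : ℕ, x ^ q ^ n ∈ (algebraMap K Kb).range := by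
  classical
  refine (minpoly.natSepDegree_eq_one_iff_pow_mem q).1 ?_
  have hx : IsIntegral K x := Algebra.IsIntegral.isIntegral x
  rw [natSepDegree_eq_of_isAlgClosed (E := Kb), Finset.card_eq_one]
  refine ⟨x, Finset.eq_singleton_iff_unique_mem.2 ⟨?_, fun y hy => ?_⟩⟩
  · rw [Multiset.mem_toFinset, mem_aroots]
    exact ⟨minpoly.ne_zero hx, minpoly.aeval K x⟩
  · rw [Multiset.mem_toFinset, mem_aroots] at hy
    have he : minpoly K y = minpoly K x :=
      (minpoly.eq_of_irreducible_of_monic (minpoly.irreducible hx) hy.2 (minpoly.monic hx)).symm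
    obtain ⟨g, hg⟩ := Normal.minpoly_eq_iff_mem_orbit Kb |>.1 he
    exact hg.symm.trans (h g)

theorem exists_extend {B C Ω : Type u} [CommRing B] [CommRing C] [Algebra B C] [Algebra.IsIntegral B C]
    (hinj : Function.Injective (algebraMap B C)) [Field Ω] [IsAlgClosed Ω] (τ : B →+* Ω) :
    ∃ χ : C →+* Ω, χ.comp (algebraMap B C) = τ := by
  haveI : (RingHom.ker τ).IsPrime := RingHom.ker_isPrime τ
  obtain ⟨P, -, hP, hPq⟩ := Ideal.exists_ideal_over_prime_of_isIntegral (RingHom.ker τ) (⊥ : Ideal C)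
    (fun b hb => by rw [hinj (((Ideal.mem_bot).1 hb).trans (map_zero _).symm)]; exact zero_mem _)
  haveI := hP
  let B₀ := B ⧸ RingHom.ker τ
  letI : Algebra B₀ (C ⧸ P) := (Ideal.quotientMap P (algebraMap B C) hPq.ge).toAlgebra
  haveI : IsScalarTower B B₀ (C ⧸ P) := IsScalarTower.of_algebraMap_eq fun _ => rfl
  haveI : Algebra.IsIntegral B₀ (C ⧸ P) := Algebra.IsIntegral.tower_top (R := B)
  haveI : FaithfulSMul B₀ (C ⧸ P) := (faithfulSMul_iff_algebraMap_injective _ _).2
    (Ideal.quotientMap_injective' (H := hPq.ge) hPq.le)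
  letI : Algebra B₀ Ω := (RingHom.kerLift τ).toAlgebra
  haveI : FaithfulSMul B₀ Ω := (faithfulSMul_iff_algebraMap_injective _ _).2 (RingHom.kerLift_injective τ)
  haveI : Algebra.IsAlgebraic B₀ (C ⧸ P) := Algebra.IsIntegral.isAlgebraic
  let e : (C ⧸ P) →ₐ[B₀] Ω := IsAlgClosed.lift
  refine ⟨e.toRingHom.comp (Ideal.Quotient.mk P), RingHom.ext fun b => ?_⟩
  exact e.commutes (Ideal.Quotient.mk (RingHom.ker τ) b)

set_option maxHeartbeats 800000 in
/-- Every residual homomorphism is induced by an embedding. -/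
theorem exists_emb {O K Kb L Ω : Type u} [CommRing O] [Field K] [Field Kb] [Field L] [Field Ω]
    [Algebra O K] [Algebra K Kb] [Algebra O Kb] [IsScalarTower O K Kb] [IsAlgClosure K Kb]
    [Algebra K L] [Algebra O L] [IsScalarTower O K L] [FiniteDimensional K L]
    (π : integralClosure O Kb →+* Ω) (χ : integralClosure O L →+* Ω)
    (hχO : χ.comp (algebraMap O (integralClosure O L)) = π.comp (algebraMap O (integralClosure O Kb)))
    (huniq : ∀ φ ψ : integralClosure O K →+* Ω,
      φ.comp (algebraMap O (integralClosure O K)) = π.comp (algebraMap O (integralClosure O Kb)) →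
      ψ.comp (algebraMap O (integralClosure O K)) = π.comp (algebraMap O (integralClosure O Kb)) → φ = ψ) :
    ∃ σ : L →ₐ[K] Kb, ∀ c, χ c = π ((σ.restrictScalars O).mapIntegralClosure c) := by
  classical
  haveI : IsAlgClosed Kb := IsAlgClosure.isAlgClosed K
  haveI : Algebra.IsAlgebraic K Kb := IsAlgClosure.isAlgebraic
  haveI : Normal K Kb := IsAlgClosure.normal K Kb
  by_contra hne
  push_neg at hne
  choose c hc using hne
  obtain ⟨q, hqK⟩ : ∃ q, ExpChar K q := ⟨ringExpChar K, ringExpChar.expChar K⟩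
  haveI := hqK
  haveI : ExpChar Kb q := expChar_of_injective_algebraMap (algebraMap K Kb).injective q
  let Nb := integralClosure O Kb
  haveI : ExpChar Nb q := RingHom.expChar Nb.val.toRingHom Subtype.val_injective q
  let ι : (L →ₐ[K] Kb) → (integralClosure O L →+* Nb) := fun σ =>
    (σ.restrictScalars O).mapIntegralClosure.toRingHom
  let jL : integralClosure O K →+* integralClosure O L :=
    (IsScalarTower.toAlgHom O K L).mapIntegralClosure.toRingHom
  let jK : integralClosure O K →+* Nb :=
    (IsScalarTower.toAlgHom O K Kb).mapIntegralClosure.toRingHom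
  have hjO : ∀ a : O, jK (algebraMap O _ a) = algebraMap O Nb a := fun a =>
    (IsScalarTower.toAlgHom O K Kb).mapIntegralClosure.commutes a
  have hjLO : ∀ a : O, jL (algebraMap O _ a) = algebraMap O _ a := fun a =>
    (IsScalarTower.toAlgHom O K L).mapIntegralClosure.commutes a
  have hχj : χ.comp jL = π.comp jK := huniq _ _
    (RingHom.ext fun a => by
      simp only [RingHom.comp_apply, hjLO]
      exact DFunLike.congr_fun hχO a)
    (RingHom.ext fun a => congrArg π (hjO a))
  have hjι : ∀ σ, (ι σ).comp jL = jK := fun σ => RingHom.ext fun a => Subtype.ext (σ.commutes a.1)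
  let e := Fintype.equivFin (L →ₐ[K] Kb)
  let cp : (integralClosure O L)[X] := ∑ i : Fin (Fintype.card (L →ₐ[K] Kb)), monomial (i : ℕ) (c (e.symm i))
  let G : Nb[X][X] := ∏ σ : L →ₐ[K] Kb, (X - C (cp.map (ι σ)))
  have hfix : ∀ (g : Kb ≃ₐ[K] Kb) (i j : ℕ), g ((G.coeff i).coeff j).1 = ((G.coeff i).coeff j).1 := by
    intro g i j
    let γ : Nb →+* Nb := (g.toAlgHom.restrictScalars O).mapIntegralClosure.toRingHom
    have hG : G.map (mapRingHom γ) = G := by
      simp only [G, Polynomial.map_prod, Polynomial.map_sub, map_X, map_C, coe_mapRingHom, Polynomial.map_map]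
      exact Fintype.prod_equiv (AlgEquiv.arrowCongr (AlgEquiv.refl : L ≃ₐ[K] L) g)
        (fun σ => X - C (cp.map (γ.comp (ι σ)))) (fun σ => X - C (cp.map (ι σ))) (fun σ => rfl)
    have := congrArg (fun P : Nb[X][X] => ((P.coeff i).coeff j).1) hG
    simp only [Polynomial.coeff_map, coe_mapRingHom] at this
    exact this
  choose k hk using fun i j => pow_mem_range_of_forall_fixed (K := K) q ((G.coeff i).coeff j).1 fun g => hfix g i j
  let P := G.support.sigma fun i => (G.coeff i).support
  let n := ∑ p ∈ P, k p.1 p.2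
  let φ : Nb →+* Nb := iterateFrobenius Nb q n
  have hcoef : ∀ i j, φ ((G.coeff i).coeff j) ∈ Set.range jK := by
    intro i j
    by_cases h0 : (G.coeff i).coeff j = 0
    · exact ⟨0, by rw [h0, map_zero, map_zero]⟩
    have hmem : (⟨i, j⟩ : Σ _ : ℕ, ℕ) ∈ P :=
      Finset.mem_sigma.2 ⟨mem_support_iff.2 fun h => h0 (by rw [h, coeff_zero]), mem_support_iff.2 h0⟩
    obtain ⟨d, hd⟩ := Nat.exists_eq_add_of_le
      (Finset.single_le_sum (f := fun p : Σ _ : ℕ, ℕ => k p.1 p.2) (fun p _ => Nat.zero_le _) hmem)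
    obtain ⟨a, ha⟩ := hk i j
    have hn : n = k i j + d := hd
    have hval : (φ ((G.coeff i).coeff j)).1 = algebraMap K Kb (a ^ q ^ d) := by
      rw [map_pow, ha, ← pow_mul, ← pow_add, ← hn]
      rfl
    refine ⟨⟨a ^ q ^ d, (isIntegral_algHom_iff (IsScalarTower.toAlgHom O K Kb) (algebraMap K Kb).injective).1 ?_⟩,
      Subtype.ext hval.symm⟩
    show IsIntegral O (algebraMap K Kb (a ^ q ^ d))
    rw [← hval]
    exact (φ ((G.coeff i).coeff j)).2
  obtain ⟨G₀, hG₀⟩ : ∃ G₀ : (integralClosure O K)[X][X], G₀.map (mapRingHom jK) = G.map (mapRingHom φ) := by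
    have hl : G.map (mapRingHom φ) ∈ lifts (mapRingHom jK) := by
      rw [lifts_iff_coeff_lifts]
      intro i
      have hl' : (G.coeff i).map φ ∈ lifts jK := by
        rw [lifts_iff_coeff_lifts]
        intro j
        rw [Polynomial.coeff_map]
        exact hcoef i j
      obtain ⟨p, hp⟩ := (lifts_iff_set_range _).1 hl'
      exact ⟨p, by rw [Polynomial.coeff_map, coe_mapRingHom, coe_mapRingHom, hp]⟩
    exact (lifts_iff_set_range _).1 hl
  let cq : (integralClosure O L)[X] := ∑ i : Fin (Fintype.card (L →ₐ[K] Kb)), monomial (i : ℕ) (c (e.symm i) ^ q ^ n)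
  have hcq : ∀ σ, (cp.map (ι σ)).map φ = cq.map (ι σ) := fun σ => by
    simp only [cp, cq, Polynomial.map_sum, map_monomial, map_pow, φ, iterateFrobenius_def]
  obtain σ₀ : L →ₐ[K] Kb := IsAlgClosed.lift
  have h0 : (G.map (mapRingHom φ)).eval (cq.map (ι σ₀)) = 0 := by
    rw [← hcq σ₀]
    show (G.map (mapRingHom φ)).eval (mapRingHom φ (cp.map (ι σ₀))) = 0
    rw [Polynomial.eval_map_apply, eval_prod, Finset.prod_eq_zero (Finset.mem_univ σ₀) (by simp), map_zero]
  have h1 : G₀.eval₂ (mapRingHom jL) cq = 0 := by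
    have hinj : Function.Injective (mapRingHom (ι σ₀)) := by
      rw [coe_mapRingHom]
      exact Polynomial.map_injective _ fun a b hab => Subtype.ext (σ₀.injective (congrArg Subtype.val hab))
    apply hinj
    rw [map_zero, Polynomial.hom_eval₂, mapRingHom_comp, hjι, coe_mapRingHom, ← Polynomial.eval_map, hG₀, h0]
  have h2 : ((G.map (mapRingHom φ)).map (mapRingHom π)).eval (cq.map χ) = 0 := by
    have := congrArg (mapRingHom χ) h1
    rw [map_zero, Polynomial.hom_eval₂, mapRingHom_comp, hχj, ← mapRingHom_comp, coe_mapRingHom,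
      ← Polynomial.eval_map, ← Polynomial.map_map, hG₀] at this
    exact this
  simp only [G, Polynomial.map_prod, Polynomial.map_sub, map_X, map_C, coe_mapRingHom, eval_prod, eval_sub,
    eval_X, eval_C, Finset.prod_eq_zero_iff, Finset.mem_univ, true_and, sub_eq_zero] at h2
  obtain ⟨σ, hσ⟩ := h2
  rw [hcq σ] at hσ
  have hco : ∀ (h : integralClosure O L →+* Ω), (cq.map h).coeff (e σ : ℕ) = (h (c σ)) ^ q ^ n := fun h => by
    rw [Polynomial.coeff_map]
    simp only [cq, finsetSum_coeff, coeff_monomial, Fin.val_inj, Finset.sum_ite_eq', Finset.mem_univ, if_true,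
      Equiv.symm_apply_apply, map_pow]
  have hpow : χ (c σ) ^ q ^ n = π (ι σ (c σ)) ^ q ^ n := by
    rw [← hco χ, ← RingHom.comp_apply, ← hco (π.comp (ι σ)), ← Polynomial.map_map, hσ]
  refine hc σ ?_
  cases ‹ExpChar Nb q› with
  | zero => rwa [one_pow, pow_one, pow_one] at hpow
  | prime hp =>
    rename_i hchar
    haveI := hchar
    haveI : CharP Ω q := (CharP.charP_iff_prime_eq_zero hp).2 (by
      rw [← map_natCast π, CharP.cast_eq_zero Nb q, map_zero])
    haveI : ExpChar Ω q := ExpChar.prime hp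
    exact iterateFrobenius_inj Ω q n hpow

/-- Uniqueness of the residual extension to the normalization of a geometrically unibranch domain. -/
theorem unique_hom {O K Ω : Type u} [CommRing O] [IsLocalRing O] [IsDomain O] [Field K] [Algebra O K]
    [IsFractionRing O K] [Field Ω] (hO : CAlg2.IsGeomUnibranch O) (φ ψ : integralClosure O K →+* Ω)
    (ρ : O →+* Ω) (hρ : RingHom.ker ρ = IsLocalRing.maximalIdeal O)
    (h1 : φ.comp (algebraMap O (integralClosure O K)) = ρ)
    (h2 : ψ.comp (algebraMap O (integralClosure O K)) = ρ) : φ = ψ := by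
  let N := integralClosure O K
  haveI : IsIntegrallyClosed N := integralClosure.isIntegrallyClosedOfFiniteExtension K
  have hinj : Function.Injective (algebraMap O K) := IsFractionRing.injective O K
  obtain ⟨hloc, hpi⟩ := (Groth.L06.Unibranch.isGeomUnibranch_iff (S := O) (N := N) (algebraMap O N)
    (fun x => Algebra.IsIntegral.isIntegral (R := O) x)
    (by rw [(RingHom.injective_iff_ker_eq_bot _).1 (fun a b hab => hinj (congrArg Subtype.val hab))]; exact bot_le)
    (fun x => by
      obtain ⟨a, b, hb, hab⟩ := IsFractionRing.div_surjective (A := O) x.1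
      refine ⟨b, a, fun h0 => nonZeroDivisors.ne_zero hb (hinj ((congrArg Subtype.val h0).trans (map_zero _).symm)),
        Subtype.ext ?_⟩
      show algebraMap O K b * x.1 = algebraMap O K a
      rw [← hab, mul_div_cancel₀]
      exact fun h0 => nonZeroDivisors.ne_zero hb (hinj (h0.trans (map_zero _).symm)))).1 hO
  haveI := hloc
  have hker : ∀ θ : N →+* Ω, θ.comp (algebraMap O N) = ρ → RingHom.ker θ = IsLocalRing.maximalIdeal N := by
    intro θ hθ
    haveI : (RingHom.ker θ).IsPrime := RingHom.ker_isPrime θ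
    refine IsLocalRing.eq_maximalIdeal (Ideal.isMaximal_of_isIntegral_of_isMaximal_comap (R := O) _ ?_)
    rw [RingHom.comap_ker, hθ, hρ]
    exact IsLocalRing.maximalIdeal.isMaximal O
  refine RingHom.ext fun x => ?_
  let m := IsLocalRing.maximalIdeal N
  obtain ⟨n, a, ha⟩ := hpi m x
  let φ₀ : N ⧸ m →+* Ω := Ideal.Quotient.lift m φ fun y hy => RingHom.mem_ker.1 ((hker φ h1).ge hy)
  have hφ₀ : Function.Injective φ₀ := RingHom.lift_injective_of_ker_le_ideal _ _ (hker φ h1).le
  rw [← Groth.L06.Unibranch.ringExpChar_of_hom φ₀ hφ₀] at ha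
  have e1 : φ x ^ ringExpChar Ω ^ n = ρ a := by
    have := RingHom.mem_ker.1 ((hker φ h1).ge ha)
    rw [map_sub, map_pow, sub_eq_zero] at this
    rw [this, ← h1]
    rfl
  have e2 : ψ x ^ ringExpChar Ω ^ n = ρ a := by
    have := RingHom.mem_ker.1 ((hker ψ h2).ge ha)
    rw [map_sub, map_pow, sub_eq_zero] at this
    rw [this, ← h2]
    rfl
  haveI := ringExpChar.expChar Ω
  exact iterateFrobenius_inj Ω (ringExpChar Ω) n (e1.trans e2.symm)

theorem exists_valuation {O K : Type u} [CommRing O] [IsLocalRing O] [Field K] (f : O →+* K) :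
    ∃ W : ValuationSubring K, (∀ a, f a ∈ W) ∧ ∀ a ∈ IsLocalRing.maximalIdeal O, f a ∈ W.nonunits := by
  let I := (IsLocalRing.maximalIdeal O).map f.rangeRestrict
  have hI : I ≠ ⊤ := fun h => (IsLocalRing.maximalIdeal.isMaximal O).ne_top (top_unique (by
    rw [← Ideal.comap_top (f := f.rangeRestrict), ← h,
      Ideal.comap_map_of_surjective _ f.rangeRestrict_surjective, ← RingHom.ker_eq_comap_bot]
    exact sup_le le_rfl (IsLocalRing.le_maximalIdeal (RingHom.ker_ne_top _))))
  obtain ⟨W, h1, h2⟩ := Ideal.image_subset_nonunits_valuationSubring I hI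
  exact ⟨W, fun a => h1 ⟨a, rfl⟩, fun a ha => h2 ⟨f.rangeRestrict a, Ideal.mem_map_of_mem _ ha, rfl⟩⟩

theorem mem_of_isIntegral {O K : Type u} [CommRing O] [Field K] [Algebra O K] (W : ValuationSubring K)
    (hW : ∀ a, algebraMap O K a ∈ W) {z : K} (hz : IsIntegral O z) : z ∈ W := by
  have h : IsIntegral W z := by
    refine IsIntegral.map_of_comp_eq ((algebraMap O K).codRestrict W.toSubring hW) (RingHom.id K) ?_ hz
    ext a
    rfl
  obtain ⟨w, hw⟩ := IsIntegrallyClosed.isIntegral_iff.1 h
  exact hw ▸ w.2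

theorem isAlgClosed_residueField {K : Type u} [Field K] [IsAlgClosed K] (W : ValuationSubring K) :
    IsAlgClosed (IsLocalRing.ResidueField W) := by
  refine IsAlgClosed.of_exists_root _ fun p hp hirr => ?_
  obtain ⟨p₀, hp₀, hdeg, hmon⟩ := Polynomial.lifts_and_degree_eq_and_monic
    (show p ∈ lifts (IsLocalRing.residue W) from
      (lifts_iff_coeff_lifts _).2 fun i => IsLocalRing.residue_surjective _) hp
  obtain ⟨z, hz⟩ := IsAlgClosed.exists_root (p₀.map (algebraMap W K)) (by
    rw [hmon.degree_map, hdeg]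
    exact (Polynomial.degree_pos_of_irreducible hirr).ne')
  have hzi : IsIntegral W z := ⟨p₀, hmon, by rwa [Polynomial.IsRoot.def, Polynomial.eval_map] at hz⟩
  obtain ⟨w, rfl⟩ := IsIntegrallyClosed.isIntegral_iff.1 hzi
  refine ⟨IsLocalRing.residue W w, ?_⟩
  rw [← hp₀, Polynomial.eval_map_apply]
  rw [Polynomial.IsRoot.def, Polynomial.eval_map_apply] at hz
  rw [(map_eq_zero_iff _ (IsFractionRing.injective W K)).1 hz, map_zero]

end Groth.L06.EmbLift
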