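import Groth.Prelude.Def_Frob
import Mathlib.AlgebraicGeometry.Properties
import Mathlib.Geometry.RingedSpace.SheafedSpace

/-!
Epimorphisms of schemes: surjective morphisms with injective stalk maps.
-/

set_option autoImplicit false
set_option maxSynthPendingDepth 3
set_option backward.isDefEq.respectTransparency.types false
set_option backward.isDefEq.respectTransparency false

universe u

open CategoryTheory CategoryTheory.Limits AlgebraicGeometry

namespace Groth.L06.EpiScheme

/-- A surjective morphism of schemes with injective stalk maps is an epimorphism. -/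
theorem epi_of_surjective_of_stalkMap_injective {X Y : Scheme.{u}} (f : X ⟶ Y)
    (hs : Function.Surjective f.base) (hi : ∀ x, Function.Injective (f.stalkMap x).hom) : Epi f := by
  apply CategoryTheory.Functor.epi_of_epi_map (Scheme.forgetToLocallyRingedSpace)
  apply CategoryTheory.Functor.epi_of_epi_map (LocallyRingedSpace.forgetToSheafedSpace)
  apply SheafedSpace.epi_of_base_surjective_of_stalk_mono _ hs
  intro x
  exact ConcreteCategory.mono_of_injective (f.stalkMap x) (hi x)

/-- The absolute Frobenius of a reduced scheme is an epimorphism. -/
theorem epi_frob (X : Scheme.{u}) (p : ℕ) [Fact p.Prime] [FrobSch.IsCharP X p] [IsReduced X] :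
    Epi (FrobSch.frob X p) := by
  refine epi_of_surjective_of_stalkMap_injective _ (fun y => ⟨y, rfl⟩) fun x => ?_
  rw [injective_iff_map_eq_zero]
  intro t ht
  obtain ⟨U, hxU, s, rfl⟩ := X.presheaf.exists_germ_eq (x := x) t
  have h := Scheme.Hom.germ_stalkMap_apply (FrobSch.frob X p) U x hxU s
  erw [h] at ht
  change X.presheaf.germ U x hxU (s ^ p) = 0 at ht
  rw [map_pow] at ht
  exact eq_zero_of_pow_eq_zero ht

end Groth.L06.EpiScheme
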