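import Groth.Agent.L06.EqIntQuot
import Groth.Agent.L06.BddFibDeg
import Mathlib.AlgebraicGeometry.Morphisms.SchemeTheoreticallyDominant
import Mathlib.AlgebraicGeometry.Sites.Fpqc

/-!
# fpqc descent of geometric quotients
-/

set_option autoImplicit false
set_option maxSynthPendingDepth 3
set_option linter.style.haveILetI false
set_option backward.isDefEq.respectTransparency.types false
set_option backward.isDefEq.respectTransparency false

universe u

open CategoryTheory MonoidalCategory CartesianMonoidalCategory MonObj GrpObj AlgebraicGeometry Topology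

noncomputable section

namespace Groth.L06.EqIntDescent

open Groth.Agent.AbDualLib (lineFn exists_lineFn lineFn_injective lineFn_comp appLE_app
  appTop_appLE top_le_ι_preimage ι_appLE_bijective)
open Groth.L18.GITFppf (app_eq_of_eq appLE_appLE)

/-- fpqc descent of functions. -/
theorem exists_fun_desc {Y Y' : Scheme.{u}} (α : Y' ⟶ Y) [Flat α] [Surjective α] [QuasiCompact α]
    (V : Y.Opens) (s' : Γ(Y', α ⁻¹ᵁ V))
    (hs : ∀ (P : Scheme.{u}) (l l' : P ⟶ Y') (O : P.Opens) (h : O ≤ l ⁻¹ᵁ α ⁻¹ᵁ V)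
      (h' : O ≤ l' ⁻¹ᵁ α ⁻¹ᵁ V), l ≫ α = l' ≫ α → l.appLE _ O h s' = l'.appLE _ O h' s') :
    ∃ s : Γ(Y, V), α.app V s = s' := by
  let π := α ∣_ V
  haveI : Flat π := MorphismProperty.of_isPullback (isPullback_morphismRestrict α V).flip ‹Flat α›
  haveI : Surjective π :=
    MorphismProperty.of_isPullback (isPullback_morphismRestrict α V).flip ‹Surjective α›
  haveI : QuasiCompact π :=
    MorphismProperty.of_isPullback (isPullback_morphismRestrict α V).flip ‹QuasiCompact α›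
  obtain ⟨m, hm⟩ := exists_lineFn ((α ⁻¹ᵁ V).ι.appLE (α ⁻¹ᵁ V) ⊤ (top_le_ι_preimage _) s')
  have hm' : ∀ {Z : Scheme.{u}} (g₁ g₂ : Z ⟶ (α ⁻¹ᵁ V).toScheme), g₁ ≫ π = g₂ ≫ π →
      g₁ ≫ m = g₂ ≫ m := by
    intro Z g₁ g₂ h
    apply lineFn_injective
    rw [lineFn_comp, lineFn_comp, hm, appTop_appLE, appTop_appLE]
    refine hs Z _ _ ⊤ _ _ ?_
    have e := congrArg (· ≫ V.ι) h
    simp only [Category.assoc, π, morphismRestrict_ι] at e
    simpa only [Category.assoc] using e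
  let n := EffectiveEpi.desc π m (fun g₁ g₂ h => hm' g₁ g₂ h)
  have hn : π ≫ n = m := EffectiveEpi.fac π m _
  obtain ⟨s, hsn⟩ := (ι_appLE_bijective V).2 (lineFn n)
  refine ⟨s, (ι_appLE_bijective (α ⁻¹ᵁ V)).1 ?_⟩
  show (α ⁻¹ᵁ V).ι.appLE (α ⁻¹ᵁ V) ⊤ _ (α.app V s) = (α ⁻¹ᵁ V).ι.appLE (α ⁻¹ᵁ V) ⊤ _ s'
  rw [← hm, ← hn, lineFn_comp, ← hsn, appLE_app]
  erw [appTop_appLE]
  exact app_eq_of_eq _ _ (morphismRestrict_ι α V).symm _ _ _ _ _

variable {S : Scheme.{u}} {G X Y X' Y' : Over S} [GrpObj G]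

/-- Geometric quotients descend along fpqc base change. -/
theorem isGeomQuot_of_baseChange (a : AlgGrp.Action G X) (φ : X ⟶ Y) (hinv : GIT.IsInvariant a φ)
    (α : Y' ⟶ Y) [Flat α.left] [Surjective α.left] [QuasiCompact α.left]
    (pr : X' ⟶ X) (φ' : X' ⟶ Y') (hpb : IsPullback pr φ' φ α) [QuasiCompact φ.left]
    (a' : AlgGrp.Action G X') (heq : a'.act ≫ pr = (G ◁ pr) ≫ a.act)
    (h : GIT.IsGeomQuot a' φ') :
    GIT.IsGeomQuot a φ := by
  have hl : IsPullback pr.left φ'.left φ.left α.left := hpb.map (Over.forget S)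
  haveI : Flat pr.left := MorphismProperty.of_isPullback hl.flip ‹Flat α.left›
  haveI : Surjective pr.left := MorphismProperty.of_isPullback hl.flip ‹Surjective α.left›
  haveI : QuasiCompact φ'.left := MorphismProperty.of_isPullback hl ‹QuasiCompact φ.left›
  haveI : IsSchemeTheoreticallyDominant φ'.left := ⟨Scheme.IdealSheafData.ext (funext fun U => by
    simp only [Scheme.Hom.ker_apply, Scheme.IdealSheafData.ideal_bot, Pi.bot_apply]
    exact (RingHom.injective_iff_ker_eq_bot _).1 (h.sections U.1).1)⟩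
  refine ⟨hinv, fun y => ?_, fun t => ?_, ?_, fun U => ⟨?_, Set.ext fun f => ⟨?_, fun hf => ?_⟩⟩⟩
  · obtain ⟨y', rfl⟩ := α.left.surjective y
    obtain ⟨x', rfl⟩ := h.surj y'
    exact ⟨pr.left x', by rw [← Scheme.Hom.comp_apply, hl.w, Scheme.Hom.comp_apply]⟩
  · let c₀ := Limits.pullback.fst φ.left φ.left ≫ φ.left
    obtain ⟨y', hy'⟩ := α.left.surjective (c₀ t)
    obtain ⟨q, hq, -⟩ :=
      Scheme.Pullback.exists_preimage_pullback (f := c₀) (g := α.left) t y' hy'.symm
    let Q := Limits.pullback c₀ α.left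
    let x₁ : Q ⟶ X'.left := hl.lift (Limits.pullback.fst c₀ α.left ≫ Limits.pullback.fst φ.left φ.left)
      (Limits.pullback.snd c₀ α.left) (by rw [Category.assoc]; exact Limits.pullback.condition)
    let x₂ : Q ⟶ X'.left := hl.lift (Limits.pullback.fst c₀ α.left ≫ Limits.pullback.snd φ.left φ.left)
      (Limits.pullback.snd c₀ α.left) (by
        rw [Category.assoc, ← Limits.pullback.condition (f := φ.left) (g := φ.left)]
        exact Limits.pullback.condition)
    let c : Q ⟶ Limits.pullback φ'.left φ'.left :=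
      Limits.pullback.lift x₁ x₂ ((hl.lift_snd _ _ _).trans (hl.lift_snd _ _ _).symm)
    obtain ⟨z, hz⟩ := h.orbit (c q)
    have key : (G ◁ pr).left ≫ GIT.PsiY a φ hinv = GIT.PsiY a' φ' h.inv ≫
        Limits.pullback.map φ'.left φ'.left φ.left φ.left pr.left pr.left α.left hl.w.symm hl.w.symm := by
      apply Limits.pullback.hom_ext
      · rw [Category.assoc, Category.assoc, EqIntQuot.psiY_fst, Limits.pullback.lift_fst,
          ← Category.assoc (GIT.PsiY a' φ' h.inv), EqIntQuot.psiY_fst, ← Over.comp_left,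
          ← Over.comp_left, heq]
      · rw [Category.assoc, Category.assoc, EqIntQuot.psiY_snd, Limits.pullback.lift_snd,
          ← Category.assoc (GIT.PsiY a' φ' h.inv), EqIntQuot.psiY_snd, ← Over.comp_left,
          ← Over.comp_left, whiskerLeft_snd]
    refine ⟨(G ◁ pr).left z, ?_⟩
    rw [← Scheme.Hom.comp_apply, key, Scheme.Hom.comp_apply, hz, ← Scheme.Hom.comp_apply,
      show c ≫ Limits.pullback.map φ'.left φ'.left φ.left φ.left pr.left pr.left α.left hl.w.symm
          hl.w.symm = Limits.pullback.fst c₀ α.left from Limits.pullback.hom_ext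
        (by simp [c, x₁, Limits.pullback.map]) (by simp [c, x₂, Limits.pullback.map])]
    exact hq
  · intro X₁ Y₁ i₁ i₂ f₁ hsq
    let β := Limits.pullback.fst i₂ α.left
    haveI : QuasiCompact β := inferInstance
    have w : (Limits.pullback.fst f₁ β ≫ i₁) ≫ φ.left =
        (Limits.pullback.snd f₁ β ≫ Limits.pullback.snd i₂ α.left) ≫ α.left := by
      rw [Category.assoc, Category.assoc, ← Limits.pullback.condition (f := i₂), ← hsq.w,
        Limits.pullback.condition_assoc]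
    let e := hl.lift _ _ w
    have big : IsPullback e (Limits.pullback.snd f₁ β) φ'.left (Limits.pullback.snd i₂ α.left) := by
      refine IsPullback.of_right ?_ (hl.lift_snd _ _ _) hl
      rw [hl.lift_fst, ← Limits.pullback.condition (f := i₂)]
      exact (IsPullback.of_hasPullback f₁ β).paste_horiz hsq.flip
    have hq := h.subm _ _ _ big.flip
    have hβ : IsQuotientMap β := Flat.isQuotientMap_of_surjective β
    have hcomp : IsQuotientMap (f₁ ∘ Limits.pullback.fst f₁ β) := by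
      have := hβ.comp hq
      rwa [← TopCat.coe_comp, ← Scheme.Hom.comp_base, ← Limits.pullback.condition,
        Scheme.Hom.comp_base, TopCat.coe_comp] at this
    exact IsQuotientMap.of_comp (Limits.pullback.fst f₁ β).continuous f₁.continuous hcomp
  · intro s t hst
    apply Groth.L06.BddFibDeg.app_injective α.left U
    refine (h.sections (α.left ⁻¹ᵁ U)).1 ?_
    have := congrArg (pr.left.appLE (φ.left ⁻¹ᵁ U) (φ'.left ⁻¹ᵁ α.left ⁻¹ᵁ U)
      (by rw [← Scheme.Hom.comp_preimage, ← Scheme.Hom.comp_preimage, hl.w])) hst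
    rw [appLE_app, appLE_app] at this
    rw [Scheme.Hom.app_eq_appLE φ'.left, appLE_app, appLE_app]
    exact (app_eq_of_eq _ _ hl.w.symm _ _ _ _ _).trans
      (this.trans (app_eq_of_eq _ _ hl.w _ _ _ _ _))
  · rintro ⟨c, rfl⟩
    show GIT.IsInvSection a φ U _
    rw [GIT.IsInvSection, appLE_app, appLE_app]
    exact app_eq_of_eq _ _ hinv.left _ _ _ _ _
  · let U' := α.left ⁻¹ᵁ U
    have hpre : φ'.left ⁻¹ᵁ U' ≤ pr.left ⁻¹ᵁ (φ.left ⁻¹ᵁ U) := by
      rw [← Scheme.Hom.comp_preimage, ← Scheme.Hom.comp_preimage, hl.w]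
    let f' := pr.left.appLE (φ.left ⁻¹ᵁ U) (φ'.left ⁻¹ᵁ U') hpre f
    have hf' : GIT.IsInvSection a' φ' U' f' := by
      rw [GIT.IsInvSection, appLE_appLE, appLE_appLE]
      have hle : a'.act.left ⁻¹ᵁ (φ'.left ⁻¹ᵁ U') ⊓ (snd G X').left ⁻¹ᵁ (φ'.left ⁻¹ᵁ U') ≤
          (G ◁ pr).left ⁻¹ᵁ (a.act.left ⁻¹ᵁ (φ.left ⁻¹ᵁ U) ⊓ (snd G X).left ⁻¹ᵁ (φ.left ⁻¹ᵁ U)) := by
        intro p hp
        refine ⟨?_, ?_⟩
        · show a.act.left ((G ◁ pr).left p) ∈ φ.left ⁻¹ᵁ U
          rw [← Scheme.Hom.comp_apply, ← Over.comp_left, ← heq, Over.comp_left, Scheme.Hom.comp_apply]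
          exact hpre hp.1
        · show (snd G X).left ((G ◁ pr).left p) ∈ φ.left ⁻¹ᵁ U
          rw [← Scheme.Hom.comp_apply, ← Over.comp_left, whiskerLeft_snd, Over.comp_left,
            Scheme.Hom.comp_apply]
          exact hpre hp.2
      refine (app_eq_of_eq _ _ (congrArg CommaMorphism.left heq) _ _ _
          (hle.trans ((G ◁ pr).left.preimage_mono inf_le_left)) f).trans (Eq.trans ?_
        (app_eq_of_eq _ _ (congrArg CommaMorphism.left (whiskerLeft_snd G pr)) _ _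
          (hle.trans ((G ◁ pr).left.preimage_mono inf_le_right)) _ f))
      exact (appLE_appLE _ _ inf_le_left hle f).symm.trans
        ((congrArg _ hf).trans (appLE_appLE _ _ inf_le_right hle f))
    obtain ⟨s', hs'⟩ : f' ∈ Set.range (φ'.left.app U') := by
      rw [(h.sections U').2]; exact hf'
    obtain ⟨s, hs⟩ := exists_fun_desc α.left U s' fun P l l' O hO hO' hll => by
      let Y₂ := Limits.pullback α.left α.left
      let p₁ := Limits.pullback.fst α.left α.left
      let p₂ := Limits.pullback.snd α.left α.left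
      let r := Limits.pullback.fst φ'.left p₁
      let q := Limits.pullback.snd φ'.left p₁
      let V₂ : Y₂.Opens := p₁ ⁻¹ᵁ U'
      have hV₂ : V₂ ≤ p₂ ⁻¹ᵁ U' := by
        show p₁ ⁻¹ᵁ α.left ⁻¹ᵁ U ≤ p₂ ⁻¹ᵁ α.left ⁻¹ᵁ U
        rw [← Scheme.Hom.comp_preimage, ← Scheme.Hom.comp_preimage, Limits.pullback.condition]
      have key : p₁.appLE U' V₂ le_rfl s' = p₂.appLE U' V₂ hV₂ s' := by
        apply q.app_injective V₂
        let r₂ := hl.lift (r ≫ pr.left) (q ≫ p₂) (by
          rw [Category.assoc, Category.assoc, hl.w, ← Limits.pullback.condition (f := α.left),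
            Limits.pullback.condition_assoc])
        have w₁ : q ≫ p₁ = r ≫ φ'.left := Limits.pullback.condition.symm
        have w₂ : q ≫ p₂ = r₂ ≫ φ'.left := (hl.lift_snd _ _ _).symm
        have hr₂ : r₂ ≫ pr.left = r ≫ pr.left := hl.lift_fst _ _ _
        rw [Scheme.Hom.app_eq_appLE, appLE_appLE, appLE_appLE]
        have o₁ : q ⁻¹ᵁ V₂ ≤ r ⁻¹ᵁ (φ'.left ⁻¹ᵁ U') := by
          show q ⁻¹ᵁ (p₁ ⁻¹ᵁ U') ≤ _
          rw [← Scheme.Hom.comp_preimage q p₁, ← Scheme.Hom.comp_preimage r, w₁]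
        have o₂ : q ⁻¹ᵁ V₂ ≤ r₂ ⁻¹ᵁ (φ'.left ⁻¹ᵁ U') := by
          refine (q.preimage_mono hV₂).trans ?_
          rw [← Scheme.Hom.comp_preimage q p₂, ← Scheme.Hom.comp_preimage r₂, w₂]
        refine (app_eq_of_eq _ _ w₁ _ _ _ (by rw [Scheme.Hom.comp_preimage]; exact o₁) s').trans
          (Eq.trans ?_ (app_eq_of_eq _ _ w₂.symm _ _ (by rw [Scheme.Hom.comp_preimage]; exact o₂) _ s'))
        rw [← appLE_app r φ'.left U' _ o₁, ← appLE_app r₂ φ'.left U' _ o₂, hs']
        show r.appLE _ _ o₁ f' = r₂.appLE _ _ o₂ f'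
        rw [appLE_appLE, appLE_appLE]
        exact app_eq_of_eq _ _ hr₂.symm _ _ _ _ _
      let k := Limits.pullback.lift l l' hll
      have hk₁ : k ≫ p₁ = l := Limits.pullback.lift_fst _ _ _
      have hk₂ : k ≫ p₂ = l' := Limits.pullback.lift_snd _ _ _
      have hOk : O ≤ k ⁻¹ᵁ V₂ := by
        show O ≤ k ⁻¹ᵁ p₁ ⁻¹ᵁ U'
        rw [← Scheme.Hom.comp_preimage, hk₁]
        exact hO
      have := congrArg (k.appLE V₂ O hOk) key
      rw [appLE_appLE, appLE_appLE] at this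
      exact (app_eq_of_eq _ _ hk₁.symm _ _ _ _ _).trans (this.trans (app_eq_of_eq _ _ hk₂ _ _ _ _ _))
    refine ⟨s, Groth.L06.BddFibDeg.app_injective pr.left (φ.left ⁻¹ᵁ U) ?_⟩
    have e1 : φ'.left.appLE U' (φ'.left ⁻¹ᵁ U') le_rfl (α.left.app U s) = f' := by
      rw [hs, ← hs', Scheme.Hom.app_eq_appLE]
    rw [appLE_app] at e1
    have e2 : pr.left.appLE (φ.left ⁻¹ᵁ U) (φ'.left ⁻¹ᵁ U') hpre (φ.left.app U s) = f' := by
      rw [appLE_app]
      exact (app_eq_of_eq _ _ hl.w _ _ _ _ _).trans e1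
    have hle : pr.left ⁻¹ᵁ (φ.left ⁻¹ᵁ U) ≤ φ'.left ⁻¹ᵁ U' := by
      rw [← Scheme.Hom.comp_preimage, ← Scheme.Hom.comp_preimage, hl.w]
    have key : ∀ x : Γ(X.left, φ.left ⁻¹ᵁ U),
        X'.left.presheaf.map (homOfLE hle).op
          (pr.left.appLE (φ.left ⁻¹ᵁ U) (φ'.left ⁻¹ᵁ U') hpre x) =
        pr.left.app (φ.left ⁻¹ᵁ U) x := by
      intro x
      rw [← ConcreteCategory.comp_apply, Scheme.Hom.appLE_map, Scheme.Hom.app_eq_appLE]
    have := congrArg (X'.left.presheaf.map (homOfLE hle).op) e2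
    rw [key, key] at this
    exact this

end Groth.L06.EqIntDescent
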