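import Groth.Agent.L18.GIT.Quot
import Groth.Agent.L18.GIT.Fppf
import Groth.Agent.L18.GIT.UnivQuot
import Mathlib.AlgebraicGeometry.Morphisms.UniversallyOpen
import Mathlib.AlgebraicGeometry.Morphisms.Flat

/-!
# Geometric quotients: base change and openness
-/

set_option autoImplicit false
set_option maxSynthPendingDepth 3
set_option linter.style.haveILetI false
set_option backward.isDefEq.respectTransparency.types false
set_option backward.isDefEq.respectTransparency false

universe u

open CategoryTheory MonoidalCategory CartesianMonoidalCategory MonObj GrpObj AlgebraicGeometry Topology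

noncomputable section

namespace Groth.L06.EqIntQuot

variable {S : Scheme.{u}} {G X Y : Over S} [GrpObj G] (a : AlgGrp.Action G X)

theorem one_act {T : Over S} (x : T ⟶ X) : lift (1 : T ⟶ G) x ≫ a.act = x :=
  Groth.L18.GITFppf.one_act a x

theorem mul_act {T : Over S} (g h : T ⟶ G) (x : T ⟶ X) :
    lift (g * h) x ≫ a.act = lift g (lift h x ≫ a.act) ≫ a.act :=
  Groth.L18.GITFppf.mul_act a g h x

/-- The shear isomorphism `(g, x) ↦ (g, g x)`. -/
def shear : G ⊗ X ≅ G ⊗ X where
  hom := lift (fst G X) a.act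
  inv := lift (fst G X) (lift (fst G X)⁻¹ (snd G X) ≫ a.act)
  hom_inv_id := by
    apply CartesianMonoidalCategory.hom_ext
    · simp
    · rw [Category.assoc, lift_snd, ← Category.assoc, comp_lift, GrpObj.comp_inv, lift_fst, lift_snd,
        Category.id_comp]
      calc lift (fst G X)⁻¹ a.act ≫ a.act
          = lift (fst G X)⁻¹ (lift (fst G X) (snd G X) ≫ a.act) ≫ a.act := by
            rw [lift_fst_snd, Category.id_comp]
        _ = snd G X := by rw [← mul_act, inv_mul_cancel, one_act]
  inv_hom_id := by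
    apply CartesianMonoidalCategory.hom_ext
    · simp
    · rw [Category.assoc, lift_snd, ← mul_act, mul_inv_cancel, one_act, Category.id_comp]

theorem isOpenMap_act [Flat G.hom] [LocallyOfFinitePresentation G.hom] :
    IsOpenMap a.act.left := by
  have e : a.act.left = (shear a).hom.left ≫ (snd G X).left :=
    congrArg CommaMorphism.left (show a.act = (shear a).hom ≫ snd G X by simp [shear])
  haveI : UniversallyOpen (snd G X).left :=
    MorphismProperty.of_isPullback (IsPullback.of_hasPullback G.hom X.hom) inferInstance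
  haveI : IsIso (shear a).hom.left := inferInstanceAs (IsIso ((Over.forget S).map (shear a).hom))
  rw [e, Scheme.Hom.comp_base, TopCat.coe_comp]
  exact (snd G X).left.isOpenMap.comp (shear a).hom.left.isOpenMap

theorem isInvariant_apply {φ : X ⟶ Y} (hi : GIT.IsInvariant a φ) {T : Over S} (g : T ⟶ G)
    (x : T ⟶ X) : (lift g x ≫ a.act) ≫ φ = x ≫ φ := by
  rw [Category.assoc, hi, lift_snd_assoc]

theorem psiY_fst {φ : X ⟶ Y} (hi : GIT.IsInvariant a φ) :
    GIT.PsiY a φ hi ≫ Limits.pullback.fst φ.left φ.left = a.act.left :=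
  Limits.pullback.lift_fst _ _ _

theorem psiY_snd {φ : X ⟶ Y} (hi : GIT.IsInvariant a φ) :
    GIT.PsiY a φ hi ≫ Limits.pullback.snd φ.left φ.left = (snd G X).left :=
  Limits.pullback.lift_snd _ _ _

/-- Surjectivity of `Ψ` is stable under base change. -/
theorem orbit_baseChange {φ : X ⟶ Y} (hi : GIT.IsInvariant a φ)
    (ho : Function.Surjective (GIT.PsiY a φ hi).base) {X' Y' : Over S} {pr : X' ⟶ X} {φ' : X' ⟶ Y'}
    {g : Y' ⟶ Y} (hpb : IsPullback pr φ' φ g) (a' : AlgGrp.Action G X')
    (ha : a'.act ≫ pr = (G ◁ pr) ≫ a.act) (hi' : GIT.IsInvariant a' φ') :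
    Function.Surjective (GIT.PsiY a' φ' hi').base := by
  intro t
  let P := Limits.pullback φ'.left φ'.left
  let Po : Over S := Over.mk (Limits.pullback.fst φ'.left φ'.left ≫ X'.hom)
  let x₁ : Po ⟶ X' := Over.homMk (Limits.pullback.fst φ'.left φ'.left) rfl
  let x₂ : Po ⟶ X' := Over.homMk (Limits.pullback.snd φ'.left φ'.left) (by
    show _ ≫ X'.hom = Limits.pullback.fst _ _ ≫ X'.hom
    rw [← Over.w φ', ← Limits.pullback.condition_assoc])
  have hx : x₁ ≫ φ' = x₂ ≫ φ' := Over.OverMorphism.ext Limits.pullback.condition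
  let c : P ⟶ Limits.pullback φ.left φ.left :=
    Limits.pullback.lift (x₁ ≫ pr).left (x₂ ≫ pr).left (by
      rw [← Over.comp_left, ← Over.comp_left, Category.assoc, Category.assoc, hpb.w,
        ← Category.assoc, hx, Category.assoc])
  obtain ⟨z, hz⟩ := ho (c.base t)
  obtain ⟨q, -, hq⟩ :=
    Scheme.Pullback.exists_preimage_pullback (f := GIT.PsiY a φ hi) (g := c) z t hz
  have hc1 : Limits.pullback.fst (GIT.PsiY a φ hi) c ≫ a.act.left =
      Limits.pullback.snd (GIT.PsiY a φ hi) c ≫ (x₁ ≫ pr).left := by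
    have e := congrArg (· ≫ Limits.pullback.fst φ.left φ.left)
      (Limits.pullback.condition (f := GIT.PsiY a φ hi) (g := c))
    simp only [Category.assoc, c, psiY_fst, Limits.pullback.lift_fst] at e
    exact e
  have hc2 : Limits.pullback.fst (GIT.PsiY a φ hi) c ≫ (snd G X).left =
      Limits.pullback.snd (GIT.PsiY a φ hi) c ≫ (x₂ ≫ pr).left := by
    have e := congrArg (· ≫ Limits.pullback.snd φ.left φ.left)
      (Limits.pullback.condition (f := GIT.PsiY a φ hi) (g := c))
    simp only [Category.assoc, c, psiY_snd, Limits.pullback.lift_snd] at e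
    exact e
  let Qo : Over S := Over.mk (Limits.pullback.snd (GIT.PsiY a φ hi) c ≫ Po.hom)
  let q₂ : Qo ⟶ Po := Over.homMk (Limits.pullback.snd (GIT.PsiY a φ hi) c) rfl
  let q₁ : Qo ⟶ G ⊗ X := Over.homMk (Limits.pullback.fst (GIT.PsiY a φ hi) c) (by
    show _ = Limits.pullback.snd (GIT.PsiY a φ hi) c ≫ Po.hom
    rw [← Over.w a.act, ← Category.assoc, hc1, Category.assoc, Over.w (x₁ ≫ pr)])
  have h1 : q₁ ≫ a.act = q₂ ≫ x₁ ≫ pr := Over.OverMorphism.ext hc1
  have h2 : q₁ ≫ snd G X = q₂ ≫ x₂ ≫ pr := Over.OverMorphism.ext hc2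
  let r : Qo ⟶ G ⊗ X' := lift (q₁ ≫ fst G X) (q₂ ≫ x₂)
  have hr : r ≫ a'.act = q₂ ≫ x₁ := by
    refine hpb.hom_ext ?_ ?_
    · rw [Category.assoc, ha, lift_whiskerLeft_assoc, Category.assoc, ← h2, ← comp_lift,
        lift_fst_snd, Category.comp_id, h1, Category.assoc]
    · rw [isInvariant_apply a' hi', Category.assoc, ← hx, Category.assoc]
  refine ⟨r.left.base q, ?_⟩
  rw [← Scheme.Hom.comp_apply]
  have key : r.left ≫ GIT.PsiY a' φ' hi' = q₂.left := by
    refine Limits.pullback.hom_ext ?_ ?_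
    · rw [Category.assoc, GIT.PsiY, Limits.pullback.lift_fst]
      exact congrArg CommaMorphism.left hr
    · rw [Category.assoc, GIT.PsiY, Limits.pullback.lift_snd]
      exact congrArg CommaMorphism.left (show r ≫ snd G X' = q₂ ≫ x₂ from lift_snd _ _)
  rw [key]
  exact hq

/-- An invariant map with surjective `Ψ` which is a quotient map is open. -/
theorem isOpenMap_of_orbit [Flat G.hom] [LocallyOfFinitePresentation G.hom] {φ : X ⟶ Y}
    (hi : GIT.IsInvariant a φ) (ho : Function.Surjective (GIT.PsiY a φ hi).base)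
    (hq : IsQuotientMap φ.left) : IsOpenMap φ.left := by
  intro U hU
  rw [← hq.isOpen_preimage]
  have h : φ.left ⁻¹' (φ.left '' U) = a.act.left '' ((snd G X).left ⁻¹' U) := by
    ext x
    constructor
    · rintro ⟨w, hw, hwx⟩
      obtain ⟨t, ht1, ht2⟩ :=
        Scheme.Pullback.exists_preimage_pullback (f := φ.left) (g := φ.left) x w hwx.symm
      obtain ⟨z, rfl⟩ := ho t
      rw [← Scheme.Hom.comp_apply, GIT.PsiY, Limits.pullback.lift_fst] at ht1
      rw [← Scheme.Hom.comp_apply, GIT.PsiY, Limits.pullback.lift_snd] at ht2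
      exact ⟨z, by rw [Set.mem_preimage, ht2]; exact hw, ht1⟩
    · rintro ⟨z, hz, rfl⟩
      exact ⟨_, hz, (Groth.L18.GITQ.left_eq a φ hi z).symm⟩
  rw [h]
  exact isOpenMap_act a _ (hU.preimage (snd G X).left.continuous)

/-- A geometric quotient is universally open. -/
theorem universallyOpen_of_isGeomQuot [Flat G.hom] [LocallyOfFinitePresentation G.hom] {φ : X ⟶ Y}
    (h : GIT.IsGeomQuot a φ) : UniversallyOpen φ.left := by
  refine ⟨fun X₁ Y₁ i₁ i₂ f' hpb => ?_⟩
  let Y' : Over S := Over.mk (i₂ ≫ Y.hom)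
  let X' : Over S := Over.mk (i₁ ≫ X.hom)
  let g : Y' ⟶ Y := Over.homMk i₂ rfl
  let pr : X' ⟶ X := Over.homMk i₁ rfl
  let φ' : X' ⟶ Y' := Over.homMk f' (by
    show f' ≫ i₂ ≫ Y.hom = i₁ ≫ X.hom
    rw [← Category.assoc, hpb.w, Category.assoc, Over.w φ])
  have hp : IsPullback pr φ' φ g :=
    Groth.L18.GITQ.isPullback_over (Over.OverMorphism.ext hpb.w.symm) hpb.flip
  obtain ⟨a', ha, hi'⟩ := Groth.L18.GITQ.exists_baseChange_action a h.inv hp
  exact isOpenMap_of_orbit a' hi' (orbit_baseChange a h.inv h.orbit hp a' ha hi')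
    (h.subm _ _ _ hpb)

end Groth.L06.EqIntQuot
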