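import Groth.Agent.L06.GenericFibreDim
import Groth.Agent.L07.DimToolkit
import Groth.Agent.L07.DimFormulaApps
import Groth.Agent.L07.OpenDim
import Groth.Agent.L22.Cyc.RelDim
import Groth.Agent.L06.FibreDimsOpen
import Mathlib.AlgebraicGeometry.Morphisms.Flat
import Mathlib.RingTheory.Ideal.KrullsHeightTheorem
import Mathlib.RingTheory.Flat.Stability

/-! Fibres of a flat morphism of irreducible schemes of finite type over a field. -/

set_option autoImplicit false
set_option maxSynthPendingDepth 3
set_option backward.isDefEq.respectTransparency.types false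
set_option backward.isDefEq.respectTransparency false
set_option linter.style.haveILetI false
universe u

open CategoryTheory AlgebraicGeometry TopologicalSpace Topology

namespace Groth.L06.FlatIrreducibleFibres

open Groth.L07.DimToolkit Groth.L07.Equidim Groth.L22

theorem dim_le_of_flat {R S : Type u} [CommRing R] [CommRing S] [IsLocalRing R] [IsLocalRing S]
    [IsNoetherianRing R] [IsNoetherianRing S] [Algebra R S] [Module.Flat R S] [IsLocalHom (algebraMap R S)] :
    ringKrullDim R ≤ ringKrullDim S := by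
  haveI : (IsLocalRing.maximalIdeal S).LiesOver (IsLocalRing.maximalIdeal R) :=
    ⟨(IsLocalRing.maximalIdeal_comap (algebraMap R S)).symm⟩
  rw [← IsLocalRing.maximalIdeal_height_eq_ringKrullDim, ← IsLocalRing.maximalIdeal_height_eq_ringKrullDim,
    Ideal.height_eq_height_add_of_liesOver_of_hasGoingDown (IsLocalRing.maximalIdeal R) (IsLocalRing.maximalIdeal S)]
  exact WithBot.coe_le_coe.mpr le_self_add

theorem point_data (k : Type u) [Field k] {X : Scheme.{u}} (qX : X ⟶ Spec (CommRingCat.of k))
    [LocallyOfFiniteType qX] [IrreducibleSpace X] (x : X) :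
    ∃ a b : ℕ, Cyc.rtrdeg qX x = (a : Cardinal.{u}) ∧ ringKrullDim (X.presheaf.stalk x) = (b : WithBot ℕ∞) ∧
      topologicalKrullDim X = ((a + b : ℕ) : WithBot ℕ∞) := by
  letI : X.Over (Spec (CommRingCat.of k)) := ⟨qX⟩
  haveI : LocallyOfFiniteType (X ↘ Spec (CommRingCat.of k)) := ‹LocallyOfFiniteType qX›
  letI : ∀ b, Algebra k (X.residueField b) := fun b => Curv2.resAlgebra k _ b
  obtain ⟨n, hn, hnt⟩ := exists_fdim_rtrdeg qX x
  obtain ⟨a, b, htr, hb, hloc⟩ := SchemeDim.exists_localDim k X x
  obtain ⟨a₁, ha₁, htr₁⟩ := SchemeDim.exists_dim_closure_eq_trdeg k X x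
  have hset : closure ({x} : Set X) ∩ qX.base ⁻¹' {qX x} = closure {x} :=
    Set.inter_eq_left.mpr fun w _ => Subsingleton.elim _ _
  have he : fdim qX x = topologicalKrullDim ↥(closure ({x} : Set X)) := by
    show topologicalKrullDim ↥(closure ({x} : Set X) ∩ qX.base ⁻¹' {qX x}) = _
    rw [hset]
  have h1 : n = a₁ := by exact_mod_cast hn.symm.trans (he.trans ha₁)
  have h2 : a₁ = a := by exact_mod_cast htr₁.symm.trans htr
  refine ⟨n, b, hnt, hb, ?_⟩
  obtain ⟨d, hd, -, hU⟩ := SchemeDim.exists_dim_eq_trdeg k X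
  have hld : FlatMor.localDim X x = (d : WithBot ℕ∞) := by
    show (⨅ U : {U : Opens X // x ∈ U}, topologicalKrullDim (U.1 : Set X)) = _
    exact le_antisymm (iInf_le_of_le ⟨⊤, trivial⟩ (hU ⊤ ⟨x, trivial⟩).le)
      (le_iInf fun U => (hU U.1 ⟨x, U.2⟩).ge)
  rw [hd, ← hld, hloc, show n + b = a + b by omega]

theorem main (k : Type u) [Field k]
    {X Y : Scheme.{u}} (qX : X ⟶ Spec (CommRingCat.of k)) (qY : Y ⟶ Spec (CommRingCat.of k))
    [LocallyOfFiniteType qX] [LocallyOfFiniteType qY]
    [IrreducibleSpace X] [IrreducibleSpace Y] (f : X ⟶ Y) (hf : f ≫ qY = qX) [Flat f] :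
    topologicalKrullDim Y ≤ topologicalKrullDim X ∧
      ∀ (y : Y), ∀ Z ∈ irreducibleComponents (f.fiber y : Type u),
        topologicalKrullDim Z + topologicalKrullDim Y = topologicalKrullDim X := by
  subst hf
  haveI : LocallyOfFiniteType f := locallyOfFiniteType_of_comp f qY
  haveI : IsLocallyNoetherian Y := LocallyOfFiniteType.isLocallyNoetherian qY
  haveI : IsLocallyNoetherian X := LocallyOfFiniteType.isLocallyNoetherian f
  have key : ∀ z : X, (∀ z', f z' = f z → z' ⤳ z → z' = z) →
      fdim f z + topologicalKrullDim Y = topologicalKrullDim X := fun z hmax => by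
    obtain ⟨a, b, ha, hb, hX⟩ := point_data k (f ≫ qY) z
    obtain ⟨c, d, hc, hd, hY⟩ := point_data k qY (f z)
    obtain ⟨n, hn, hnt⟩ := exists_fdim_rtrdeg f z
    rw [Cyc.rtrdeg_comp, hc, hnt] at ha
    have hac : c + n = a := by exact_mod_cast ha
    have hbd : ringKrullDim (X.presheaf.stalk z) = ringKrullDim (Y.presheaf.stalk (f z)) := by
      refine le_antisymm ?_ ?_
      · refine (Groth.L07.OpenDim.ringKrullDim_stalk_le f z).trans (le_of_eq ?_)
        rw [fibre_dim_zero f z hmax, add_zero]
      · letI := (f.stalkMap z).hom.toAlgebra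
        haveI : Module.Flat (Y.presheaf.stalk (f z)) (X.presheaf.stalk z) := Flat.stalkMap f z
        haveI : IsLocalHom (algebraMap (Y.presheaf.stalk (f z)) (X.presheaf.stalk z)) :=
          inferInstanceAs (IsLocalHom (f.stalkMap z).hom)
        exact dim_le_of_flat
    rw [hb, hd] at hbd
    have hbd' : b = d := by exact_mod_cast hbd
    rw [hn, hX, hY]
    exact_mod_cast (show n + (c + d) = a + b by omega)
  constructor
  · obtain ⟨w, -, -, hmax, -⟩ := Groth.L07.OpenEquiv.exists_maximal_fdim_eq f (genericPoint X)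
    obtain ⟨n, hn, -⟩ := exists_fdim_rtrdeg f w
    obtain ⟨c, d, -, -, hY⟩ := point_data k qY (f w)
    rw [← key w hmax, hn, hY]
    exact_mod_cast Nat.le_add_left (c + d) n
  · intro y Z hZ
    obtain ⟨c, rfl, hcmax⟩ := exists_generic_of_component f y hZ
    have hmax : ∀ z', f z' = f (f.fiberι y c) → z' ⤳ f.fiberι y c → z' = f.fiberι y c := fun z' hz' hsp => by
      obtain ⟨d, rfl⟩ : z' ∈ Set.range (f.fiberι y) := by rw [f.range_fiberι]; exact hz'.trans (apply_fiberι f y c)
      rw [hcmax d ((f.fiberι y).isEmbedding.isInducing.specializes_iff.mp hsp)]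
    have h := key _ hmax
    rwa [fdim_fiberι] at h

end Groth.L06.FlatIrreducibleFibres
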