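import Groth.Agent.L06.RelAssSpecial
import Groth.Agent.L06.FlatIrreducibleFibres
import Groth.Agent.L00.EquidimFlat
import Mathlib.AlgebraicGeometry.Morphisms.UniversallyOpen

/-!
# Preimages of irreducible closed subsets under flat equidimensional morphisms
-/

set_option autoImplicit false
set_option maxSynthPendingDepth 3
set_option linter.style.haveILetI false
set_option backward.isDefEq.respectTransparency.types false

universe u

open CategoryTheory CategoryTheory.Limits AlgebraicGeometry TopologicalSpace Topology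
open Groth.L07.Equidim Groth.L07.EquidimQF Groth.L22

noncomputable section

namespace Groth.L06.EquidimFlatBC

theorem dim_closure_eq {k : Type u} [Field k] {X : Scheme.{u}} (q : X ⟶ Spec (CommRingCat.of k)) (a : X) :
    topologicalKrullDim ↥(closure ({a} : Set X)) = fdim q a := by
  unfold fdim
  rw [Set.inter_eq_left.mpr (show closure ({a} : Set X) ⊆ q ⁻¹' {q a} from
    fun w _ => Subsingleton.elim (α := PrimeSpectrum k) _ _)]

theorem main (k : Type u) [Field k]
    {X Y Y' : Scheme.{u}} (qX : X ⟶ Spec (CommRingCat.of k)) (qY : Y ⟶ Spec (CommRingCat.of k))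
    (qY' : Y' ⟶ Spec (CommRingCat.of k))
    [LocallyOfFiniteType qX] [QuasiCompact qX] [LocallyOfFiniteType qY] [QuasiCompact qY]
    [LocallyOfFiniteType qY'] [QuasiCompact qY']
    [IrreducibleSpace ↥Y] (f : X ⟶ Y) (hf : f ≫ qY = qX) [Flat f] (n : ℕ)
    (hX : ∀ Z : Set ↥X, Z ∈ irreducibleComponents ↥X →
      topologicalKrullDim ↥Z = topologicalKrullDim ↥Y + (n : WithBot ℕ∞))
    (g : Y' ⟶ Y) (_hg : g ≫ qY = qY')
    (V : Set ↥Y') (hV : IsClosed V) (hVirr : IsIrreducible V)
    (W : Set ↥((pullback.snd f g).base ⁻¹' V))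
    (hW : W ∈ irreducibleComponents ↥((pullback.snd f g).base ⁻¹' V)) :
    topologicalKrullDim ↥W = topologicalKrullDim ↥V + (n : WithBot ℕ∞) := by
  haveI : LocallyOfFiniteType (f ≫ qY) := hf ▸ ‹LocallyOfFiniteType qX›
  haveI : LocallyOfFiniteType f := locallyOfFiniteType_of_comp f qY
  have hfib := (Groth.L00.EquidimFlat.main k qX qY f hf n).mp hX
  let f' := pullback.snd f g
  let g' := pullback.fst f g
  have sq : IsPullback g' f' f g := IsPullback.of_hasPullback f g
  haveI : LocallyOfFiniteType f' := MorphismProperty.pullback_snd _ _ ‹LocallyOfFiniteType f›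
  haveI : Flat f' := MorphismProperty.pullback_snd _ _ ‹Flat f›
  -- the generic point of `W`
  let P : Set ↥(pullback f g) := f'.base ⁻¹' V
  have hPc : IsClosed P := hV.preimage f'.continuous
  have hWc : IsClosed W := isClosed_of_mem_irreducibleComponents W hW
  obtain ⟨w, hw⟩ := QuasiSober.sober (hW.1.image Subtype.val continuous_subtype_val.continuousOn)
    (hPc.isClosedEmbedding_subtypeVal.isClosedMap W hWc)
  have hwP : w ∈ P := by
    obtain ⟨c, -, hc⟩ := hw.mem
    exact hc ▸ c.2
  have hmax : ∀ z, z ∈ P → z ⤳ w → z = w := fun z hz h => by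
    have hwW : (⟨w, hwP⟩ : P) ∈ W := by
      obtain ⟨c, hc, hc'⟩ := hw.mem
      rwa [show c = ⟨w, hwP⟩ from Subtype.ext hc'] at hc
    refine RelAssSpecial.eq_of_isGenericPoint hW (a := ⟨w, hwP⟩) ?_ hz h
    refine Set.Subset.antisymm (closure_minimal (Set.singleton_subset_iff.mpr hwW) hWc) fun c hc => ?_
    rw [← specializes_iff_mem_closure]
    exact IsInducing.subtypeVal.specializes_iff.mp (hw.specializes ⟨c, hc, rfl⟩)
  obtain ⟨v, hv⟩ := QuasiSober.sober hVirr hV
  have hwv : f' w = v := by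
    obtain ⟨w', hw', hw'v⟩ := Flat.generalizingMap f' (hv.specializes hwP)
    rw [← hmax w' (show f' w' ∈ V by rw [hw'v]; exact hv.mem) hw', hw'v]
  -- dimension of the fibre component
  have hmaxw : ∀ z, f' z = f' w → z ⤳ w → z = w := fun z hz h =>
    hmax z (show f' z ∈ V by rw [hz]; exact hwP) h
  have hfd : fdim f' w = fdim f (g' w) :=
    RelAssSpecial.fdim_baseChange sq w fun z h1 _ h3 => hmaxw z h1 h3
  have hmaxx : ∀ x₀, f x₀ = f (g' w) → x₀ ⤳ g' w → x₀ = g' w := by
    intro x₀ h0 hsp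
    obtain ⟨q, π, hπ, sqf⟩ := RelAssBC.exists_fibreMap sq (f' w) rfl
    haveI : Flat q := Groth.L00.BddFib.flat_toField (k := Y.residueField (g (f' w))) q
    haveI : Flat π := MorphismProperty.of_isPullback (P := @Flat) sqf.flip ‹Flat q›
    have hgw : f (g' w) = g (f' w) := by rw [← Scheme.Hom.comp_apply, sq.w, Scheme.Hom.comp_apply]
    obtain ⟨z₀, hz₀⟩ : x₀ ∈ Set.range (f.fiberι (g (f' w))) := by
      rw [Scheme.Hom.range_fiberι]; exact h0.trans hgw
    obtain ⟨c, hc⟩ : w ∈ Set.range (f'.fiberι (f' w)) := by rw [Scheme.Hom.range_fiberι]; rfl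
    have hπc : ∀ d, f.fiberι (g (f' w)) (π d) = g' (f'.fiberι (f' w) d) := fun d => by
      rw [← Scheme.Hom.comp_apply, hπ, Scheme.Hom.comp_apply]
    have h1 : z₀ ⤳ π c := (f.fiberι _).isEmbedding.isInducing.specializes_iff.mp (by
      rw [hz₀, hπc, hc]; exact hsp)
    obtain ⟨d, hd, hdz⟩ := Flat.generalizingMap π h1
    have h2 : f'.fiberι (f' w) d = w :=
      hmaxw _ (apply_fiberι f' _ d) ((hd.map (f'.fiberι (f' w)).continuous).trans (specializes_of_eq hc))
    rw [← hz₀, ← hdz, hπc, h2]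
  have hn : fdim f (g' w) = (n : WithBot ℕ∞) := by
    obtain ⟨c, hc⟩ := exists_fiber_point f (g' w)
    rw [← hc, fdim_fiberι]
    refine hfib _ _ ((closure_singleton_mem_irreducibleComponents_iff c).mpr fun c' h => ?_)
    refine (f.fiberι _).isEmbedding.injective ((hmaxx _ (apply_fiberι f _ c') ?_).trans hc.symm)
    exact (h.map (f.fiberι _).continuous).trans (specializes_of_eq hc)
  -- assemble
  obtain ⟨a, ha, ha'⟩ := Groth.L07.DimToolkit.exists_fdim_rtrdeg (f' ≫ qY') w
  obtain ⟨b, hb, hb'⟩ := Groth.L07.DimToolkit.exists_fdim_rtrdeg qY' v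
  obtain ⟨c, hc, hc'⟩ := Groth.L07.DimToolkit.exists_fdim_rtrdeg f' w
  rw [hfd, hn] at hc
  have hcn : n = c := by exact_mod_cast hc
  have habc : a = b + n := by
    rw [Cyc.rtrdeg_comp, hwv, hb', hc'] at ha'
    have : b + c = a := by exact_mod_cast ha'
    omega
  have h1 : topologicalKrullDim ↥W = (a : WithBot ℕ∞) := by
    rw [← ha, ← dim_closure_eq, hw.def]
    refine (SchemeDim.topologicalKrullDim_eq_of_isEmbedding
      (IsEmbedding.subtypeVal.comp IsEmbedding.subtypeVal) ?_).symm
    rw [Set.range_comp, Subtype.range_coe]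
  have h2 : topologicalKrullDim ↥V = (b : WithBot ℕ∞) := by
    rw [← hb, ← dim_closure_eq, hv.def]
  rw [h1, h2, habc, Nat.cast_add]

end Groth.L06.EquidimFlatBC
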