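import Groth.Agent.L06.FlatModuleLift
import Groth.Agent.L06.AffineRTrdeg
import Groth.Agent.L06.GenericFibreDim
import Mathlib.RingTheory.EssentialFiniteness
import Mathlib.RingTheory.Localization.LocalizationLocalization
import Mathlib.RingTheory.Flat.Stability
import Mathlib.RingTheory.LocalRing.ResidueField.Instances

/-! Closed fibre of a flat essentially finite type local extension of domains. -/

set_option autoImplicit false
set_option maxSynthPendingDepth 3
set_option backward.isDefEq.respectTransparency.types false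
set_option backward.isDefEq.respectTransparency false
set_option linter.style.haveILetI false
universe u

open CategoryTheory AlgebraicGeometry TopologicalSpace Topology IsLocalRing

namespace Groth.L06.EssFlatFibre

open Groth.L07.Equidim Groth.L07.DimToolkit Groth.L22

/-- A flat local algebra at a point of the closed fibre has at least that much transcendence degree. -/
theorem trdeg_le {A B : Type u} [CommRing A] [CommRing B] [IsDomain A] [IsLocalRing A] [IsLocalRing B]
    [Algebra A B] [IsLocalHom (algebraMap A B)] [Module.Flat A B] :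
    letI := (ResidueField.map (algebraMap A B)).toAlgebra
    ∀ n : ℕ, Algebra.trdeg (ResidueField A) (ResidueField B) = (n : Cardinal.{u}) →
      (n : Cardinal.{u}) ≤ Algebra.trdeg A B := by
  intro n hn
  letI := (ResidueField.map (algebraMap A B)).toAlgebra
  obtain ⟨u, hu⟩ := exists_isTranscendenceBasis (ResidueField A) (ResidueField B)
  have hcard : Cardinal.mk u = (n : Cardinal.{u}) := hu.cardinalMk_eq_trdeg.trans hn
  haveI : Finite u := Cardinal.lt_aleph0_iff_finite.mp (hcard.trans_lt Cardinal.natCast_lt_aleph0)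
  obtain ⟨m, ⟨e⟩⟩ := Finite.exists_equiv_fin u
  have hmn : m = n := (Nat.card_eq_of_equiv_fin e).symm.trans (by
    rw [Nat.card, hcard, Cardinal.toNat_natCast])
  choose t ht using fun i : Fin m => residue_surjective (e.symm i).1
  have hind : ∀ P : MvPolynomial (Fin m) A,
      residue B (MvPolynomial.eval₂ (algebraMap A B) t P) = 0 → P.map (residue A) = 0 := by
    intro P hP
    have hi : AlgebraicIndependent (ResidueField A) fun i : Fin m => ((e.symm i).1 : ResidueField B) :=
      hu.1.comp (fun i : Fin m => e.symm i) e.symm.injective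
    refine hi.eq_zero_of_aeval_eq_zero (R := ResidueField A) _ ?_
    rw [MvPolynomial.aeval_def, MvPolynomial.eval₂_map]
    refine Eq.trans ?_ hP
    rw [MvPolynomial.eval₂_comp_left]
    congr 1
    exact funext fun i => (ht i).symm
  obtain ⟨Q, -, -, hQt⟩ := FlatModuleLift.exists_prime (M := B) (⊥ : Ideal A) t hind
  have hindB : AlgebraicIndependent A t := by
    rw [algebraicIndependent_iff]
    intro P hP
    by_contra hne
    refine hQt P (fun h => hne ?_) ?_
    · refine MvPolynomial.ext _ _ fun d => ?_
      have := congrArg (MvPolynomial.coeff d) h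
      rw [MvPolynomial.coeff_map, MvPolynomial.coeff_zero, Ideal.Quotient.eq_zero_iff_mem, Ideal.mem_bot] at this
      rw [this, MvPolynomial.coeff_zero]
    · rw [← MvPolynomial.aeval_def, hP]; exact zero_mem _
  have h := hindB.lift_cardinalMk_le_trdeg
  rw [Cardinal.mk_fin] at h
  simpa [hmn] using h

/-- `trdeg` of a localization of a domain. -/
theorem trdeg_localization {A C L : Type u} [CommRing A] [IsDomain A] [CommRing C] [IsDomain C] [CommRing L]
    [IsDomain L] [Algebra A C] [Algebra A L] [Algebra C L] [IsScalarTower A C L] [FaithfulSMul A C] [FaithfulSMul C L]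
    (M : Submonoid C) [IsLocalization M L] : Algebra.trdeg A L = Algebra.trdeg A C := by
  haveI : Algebra.IsAlgebraic C L := IsLocalization.isAlgebraic _ M
  rw [← trdeg_add_eq A C (A := L), trdeg_eq_zero (R := C) (A := L), add_zero]

section Points

variable {A C : Type u} [CommRing A] [IsLocalRing A] [CommRing C] [Algebra A C]

theorem residue_trdeg [LocallyOfFiniteType (Groth.L03.FibreLocalDim.f A C)] (W : PrimeSpectrum C) (L : Type u) [CommRing L] [IsLocalRing L] [Algebra A L] [Algebra C L]
    [IsScalarTower A C L] [IsLocalHom (algebraMap A L)] [IsLocalization.AtPrime L W.asIdeal] (N : ℕ)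
    (hW : PrimeSpectrum.comap (algebraMap A C) W = closedPoint A)
    (hN : fdim (Groth.L03.FibreLocalDim.f A C) W = (N : WithBot ℕ∞)) :
    letI := (ResidueField.map (algebraMap A L)).toAlgebra
    Algebra.trdeg (ResidueField A) (ResidueField L) = (N : Cardinal.{u}) := by
  let f := Groth.L03.FibreLocalDim.f A C
  obtain ⟨N', hN', hN''⟩ := exists_fdim_rtrdeg f W
  obtain rfl : N = N' := by exact_mod_cast hN.symm.trans hN'
  rw [AffineRTrdeg.rtrdeg_spec] at hN''
  rw [← hN'']
  letI := (ResidueField.map (algebraMap A L)).toAlgebra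
  let P := PrimeSpectrum.comap (algebraMap A C) W
  letI := (Ideal.ResidueField.map P.asIdeal W.asIdeal (algebraMap A C) rfl).toAlgebra
  haveI hPmax : P.asIdeal.IsMaximal := by
    show (PrimeSpectrum.comap (algebraMap A C) W).asIdeal.IsMaximal
    rw [hW]; exact maximalIdeal.isMaximal A
  have hker : RingHom.ker (algebraMap A (ResidueField A)) = P.asIdeal := by
    rw [ResidueField.algebraMap_eq, ker_residue]
    exact (congrArg PrimeSpectrum.asIdeal hW).symm
  have hPsurj : Function.Surjective (algebraMap A P.asIdeal.ResidueField) := fun z => by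
    obtain ⟨r, rfl⟩ := (Ideal.bijective_algebraMap_quotient_residueField P.asIdeal).2 z
    obtain ⟨r, rfl⟩ := Ideal.Quotient.mk_surjective r
    exact ⟨r, rfl⟩
  let e : ResidueField A ≃+* P.asIdeal.ResidueField :=
    ((RingHom.quotientKerEquivOfSurjective (f := algebraMap A (ResidueField A)) residue_surjective).symm.trans
      (Ideal.quotEquivOfEq (hker.trans P.asIdeal.ker_algebraMap_residueField.symm))).trans
      (RingHom.quotientKerEquivOfSurjective hPsurj)
  have he : ∀ r, e (algebraMap A (ResidueField A) r) = algebraMap A P.asIdeal.ResidueField r := fun r => by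
    have h1 : (RingHom.quotientKerEquivOfSurjective (f := algebraMap A (ResidueField A)) residue_surjective).symm
        (algebraMap A (ResidueField A) r) = Ideal.Quotient.mk _ r := by
      rw [RingEquiv.symm_apply_eq]; rfl
    simp only [e, RingEquiv.trans_apply, h1]
    rfl
  let e' : ResidueField L ≃+* W.asIdeal.ResidueField :=
    ResidueField.mapEquiv (IsLocalization.algEquiv W.asIdeal.primeCompl L (Localization.AtPrime W.asIdeal)).toRingEquiv
  refine Cyc.trdeg_eq_of_square e e' fun z => ?_
  obtain ⟨r, rfl⟩ := residue_surjective z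
  show e' (residue L (algebraMap A L r)) = Ideal.ResidueField.map P.asIdeal W.asIdeal (algebraMap A C) rfl
    (e (algebraMap A (ResidueField A) r))
  rw [he, Ideal.ResidueField.map_algebraMap, IsScalarTower.algebraMap_apply A C L]
  show residue (Localization.AtPrime W.asIdeal)
    ((IsLocalization.algEquiv W.asIdeal.primeCompl L (Localization.AtPrime W.asIdeal)) (algebraMap C L _)) = _
  rw [AlgEquiv.commutes]
  rfl

/-- The closed fibre at a point, inside the spectrum. -/
def clFibre (q : PrimeSpectrum C) : Set ↥(Spec (CommRingCat.of C)) :=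
  {w | w ⤳ (q : ↥(Spec (CommRingCat.of C))) ∧ Groth.L03.FibreLocalDim.f A C w = closedPoint A}

theorem dim_quot {B : Type u} [CommRing B] [IsLocalRing B] [Algebra A B] [Algebra C B] [IsScalarTower A C B]
    (q : Ideal C) [q.IsPrime] [IsLocalization.AtPrime B q]
    (hq : q = (maximalIdeal B).comap (algebraMap C B)) :
    ringKrullDim (B ⧸ (maximalIdeal A).map (algebraMap A B)) =
      topologicalKrullDim ↥(clFibre (A := A) (⟨q, inferInstance⟩ : PrimeSpectrum C)) := by
  let I := (maximalIdeal A).map (algebraMap A B)
  let x : ↥(Spec (CommRingCat.of C)) := (⟨q, inferInstance⟩ : PrimeSpectrum C)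
  rw [← PrimeSpectrum.topologicalKrullDim_eq_ringKrullDim]
  refine (SchemeDim.topologicalKrullDim_eq_of_isEmbedding
    (f := fun Q => (PrimeSpectrum.comap (algebraMap C B) (PrimeSpectrum.comap (Ideal.Quotient.mk I) Q) :
      ↥(Spec (CommRingCat.of C))))
    ((PrimeSpectrum.localization_comap_isEmbedding B q.primeCompl).comp
      (PrimeSpectrum.isClosedEmbedding_comap_of_surjective _ _ Ideal.Quotient.mk_surjective).isEmbedding) ?_).symm
  ext w
  constructor
  · rintro ⟨Q, rfl⟩
    refine ⟨?_, ?_⟩
    · refine (PrimeSpectrum.le_iff_specializes _ _).mp ?_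
      show (Q.asIdeal.comap (Ideal.Quotient.mk I)).comap (algebraMap C B) ≤ q
      rw [hq]
      exact Ideal.comap_mono (le_maximalIdeal (Q.2.comap (Ideal.Quotient.mk I)).ne_top)
    · refine PrimeSpectrum.ext ((maximalIdeal.isMaximal A).eq_of_le ?_ ?_).symm
      · exact (PrimeSpectrum.comap _ _).2.ne_top
      · intro r hr
        show Ideal.Quotient.mk I (algebraMap C B (algebraMap A C r)) ∈ Q.asIdeal
        rw [← IsScalarTower.algebraMap_apply, Ideal.Quotient.eq_zero_iff_mem.mpr (Ideal.mem_map_of_mem _ hr)]
        exact zero_mem _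
  · rintro ⟨hwx, hws⟩
    obtain ⟨W, hW⟩ : (w : PrimeSpectrum C) ∈ Set.range (PrimeSpectrum.comap (algebraMap C B)) := by
      rw [PrimeSpectrum.localization_comap_range B q.primeCompl]
      exact Set.disjoint_left.mpr fun r hr hr' => hr ((PrimeSpectrum.le_iff_specializes _ x).mpr hwx hr')
    obtain ⟨Q, hQ⟩ : W ∈ Set.range (PrimeSpectrum.comap (Ideal.Quotient.mk I)) := by
      rw [range_comap_of_surjective _ (Ideal.Quotient.mk I) Ideal.Quotient.mk_surjective, PrimeSpectrum.mem_zeroLocus,
        Ideal.mk_ker, SetLike.coe_subset_coe, Ideal.map_le_iff_le_comap]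
      intro r hr
      have h : r ∈ (PrimeSpectrum.comap (algebraMap A C) (w : PrimeSpectrum C)).asIdeal := by
        rw [show PrimeSpectrum.comap (algebraMap A C) (w : PrimeSpectrum C) = closedPoint A from hws]
        exact hr
      rw [← hW] at h
      show algebraMap A B r ∈ W.asIdeal
      rw [IsScalarTower.algebraMap_apply A C B]
      exact h
    exact ⟨Q, (congrArg (PrimeSpectrum.comap (algebraMap C B)) hQ).trans hW⟩

theorem dim_stalk_fibre (x : ↥(Spec (CommRingCat.of C))) (hfx : Groth.L03.FibreLocalDim.f A C x = closedPoint A) :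
    ringKrullDim (((Groth.L03.FibreLocalDim.f A C).fiber (Groth.L03.FibreLocalDim.f A C x)).presheaf.stalk
      ((Groth.L03.FibreLocalDim.f A C).asFiber x)) = topologicalKrullDim ↥(clFibre (A := A) (x : PrimeSpectrum C)) := by
  let f := Groth.L03.FibreLocalDim.f A C
  rw [← PrimeSpectrum.topologicalKrullDim_eq_ringKrullDim]
  refine (SchemeDim.topologicalKrullDim_eq_of_isEmbedding
    (f := fun P => f.fiberι (f x) ((f.fiber (f x)).fromSpecStalk (f.asFiber x) P))
    ((f.fiberι (f x)).isEmbedding.comp ((f.fiber (f x)).fromSpecStalk (f.asFiber x)).isEmbedding) ?_).symm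
  ext w
  constructor
  · rintro ⟨P, rfl⟩
    refine ⟨?_, (apply_fiberι f (f x) _).trans hfx⟩
    have h := (Groth.L07.EquidimPoint.specializes_point (f.asFiber x) P).map (f.fiberι (f x)).continuous
    rwa [f.fiberι_asFiber] at h
  · rintro ⟨hwx, hws⟩
    obtain ⟨v, rfl⟩ : w ∈ Set.range (f.fiberι (f x)) := by rw [f.range_fiberι]; exact hws.trans hfx.symm
    obtain ⟨P, hP⟩ : v ∈ Set.range ((f.fiber (f x)).fromSpecStalk (f.asFiber x)) := by
      rw [Scheme.range_fromSpecStalk]
      refine (f.fiberι (f x)).isEmbedding.isInducing.specializes_iff.mp ?_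
      rw [f.fiberι_asFiber]; exact hwx
    exact ⟨P, congrArg (f.fiberι (f x)) hP⟩

theorem trdeg_generic [IsDomain A] [IsDomain C] [FaithfulSMul A C] :
    Cyc.rtrdeg (Groth.L03.FibreLocalDim.f A C) (⟨⊥, Ideal.isPrime_bot⟩ : PrimeSpectrum C) = Algebra.trdeg A C := by
  rw [AffineRTrdeg.rtrdeg_spec]
  let P := PrimeSpectrum.comap (algebraMap A C) (⟨⊥, Ideal.isPrime_bot⟩ : PrimeSpectrum C)
  have hP : P.asIdeal = ⊥ :=
    (RingHom.injective_iff_ker_eq_bot _).mp (FaithfulSMul.algebraMap_injective A C)
  let L := (⊥ : Ideal C).ResidueField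
  let K := P.asIdeal.ResidueField
  letI : Algebra K L := (Ideal.ResidueField.map P.asIdeal ⊥ (algebraMap A C) rfl).toAlgebra
  haveI : IsScalarTower A K L := IsScalarTower.of_algebraMap_eq fun r => by
    rw [IsScalarTower.algebraMap_apply A C L]
    exact (Ideal.ResidueField.map_algebraMap P.asIdeal ⊥ (algebraMap A C) rfl r).symm
  haveI : FaithfulSMul A K := (faithfulSMul_iff_algebraMap_injective A K).mpr ((injective_iff_map_eq_zero _).mpr
    fun r hr => by rwa [Ideal.algebraMap_residueField_eq_zero, hP, Ideal.mem_bot] at hr)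
  haveI : Algebra.IsAlgebraic A K := by
    haveI : IsFractionRing A K := by
      show IsFractionRing A P.asIdeal.ResidueField
      have : ∀ (I : Ideal A) [I.IsPrime], I = ⊥ → IsFractionRing A I.ResidueField := by
        rintro I _ rfl; infer_instance
      exact this _ hP
    exact IsLocalization.isAlgebraic _ (nonZeroDivisors A)
  haveI : FaithfulSMul C L := (faithfulSMul_iff_algebraMap_injective C L).mpr (IsFractionRing.injective C L)
  rw [← trdeg_localization (A := A) (C := C) (L := L) (nonZeroDivisors C), ← trdeg_add_eq A K (A := L),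
    trdeg_eq_zero (R := A) (A := K), zero_add]

theorem flat_localization {B : Type u} [CommRing B] [IsLocalRing B] [Algebra A B] [Algebra C B] [IsScalarTower A C B]
    [Module.Flat A B] (q : Ideal C) [q.IsPrime] [IsLocalization.AtPrime B q] (W : PrimeSpectrum C)
    (hWq : W.asIdeal ≤ q) (hW : PrimeSpectrum.comap (algebraMap A C) W = closedPoint A) :
    Module.Flat A (Localization.AtPrime W.asIdeal) ∧ IsLocalHom (algebraMap A (Localization.AtPrime W.asIdeal)) := by
  let L := Localization.AtPrime W.asIdeal
  have hle : q.primeCompl ≤ W.asIdeal.primeCompl := by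
    exact fun r hr hr' => hr (hWq hr')
  letI : Algebra B L := (IsLocalization.lift (M := q.primeCompl) (S := B)
    (g := algebraMap C L) fun y => IsLocalization.map_units L (⟨y.1, hle y.2⟩ : W.asIdeal.primeCompl)).toAlgebra
  haveI : IsScalarTower C B L := IsScalarTower.of_algebraMap_eq fun r => (IsLocalization.lift_eq _ r).symm
  haveI : IsScalarTower A B L := IsScalarTower.of_algebraMap_eq fun r => by
    rw [IsScalarTower.algebraMap_apply A C B, ← IsScalarTower.algebraMap_apply C B L,
      ← IsScalarTower.algebraMap_apply A C L]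
  haveI : IsLocalization (W.asIdeal.primeCompl.map (algebraMap C B)) L :=
    IsLocalization.isLocalization_of_submonoid_le B L _ _ hle
  haveI : Module.Flat B L := IsLocalization.flat L (W.asIdeal.primeCompl.map (algebraMap C B))
  haveI : Module.Flat A L := Module.Flat.trans A B L
  haveI : IsLocalHom (algebraMap A L) := ⟨fun r hr => by
    by_contra hr'
    rw [IsScalarTower.algebraMap_apply A C L] at hr
    have : algebraMap A C r ∈ W.asIdeal := by
      have h : r ∈ (PrimeSpectrum.comap (algebraMap A C) W).asIdeal := by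
        rw [show PrimeSpectrum.comap (algebraMap A C) W = closedPoint A from hW]
        exact (mem_maximalIdeal _).mpr hr'
      exact h
    exact (IsLocalization.AtPrime.isUnit_to_map_iff L W.asIdeal _).mp hr this⟩
  exact ⟨inferInstance, inferInstance⟩

end Points

theorem main {A B : Type u} [CommRing A] [CommRing B] [IsDomain A] [IsDomain B] [IsLocalRing A] [IsLocalRing B]
    [Algebra A B] [IsLocalHom (algebraMap A B)] [FaithfulSMul A B] [Algebra.EssFiniteType A B] [Module.Flat A B] :
    ∃ d e : ℕ, ringKrullDim (B ⧸ Ideal.map (algebraMap A B) (IsLocalRing.maximalIdeal A)) = d ∧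
      Algebra.trdeg (IsLocalRing.ResidueField A) (IsLocalRing.ResidueField B) = e ∧ Algebra.trdeg A B = (d + e : ℕ) := by
  classical
  let C := Algebra.EssFiniteType.subalgebra A B
  let q : Ideal C := (maximalIdeal B).comap (algebraMap C B)
  haveI hq : q.IsPrime := Ideal.IsPrime.comap _
  have hM : Algebra.EssFiniteType.submonoid A B = q.primeCompl := by
    ext c
    show IsUnit (algebraMap C B c) ↔ ¬ (algebraMap C B c ∈ maximalIdeal B)
    rw [mem_maximalIdeal, mem_nonunits_iff, not_not]
  haveI : IsLocalization.AtPrime B q := by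
    show IsLocalization q.primeCompl B
    rw [← hM]; infer_instance
  haveI : FaithfulSMul C B := (faithfulSMul_iff_algebraMap_injective C B).mpr Subtype.val_injective
  haveI : FaithfulSMul A C := (faithfulSMul_iff_algebraMap_injective A C).mpr fun a b h =>
    FaithfulSMul.algebraMap_injective A B (congrArg Subtype.val h)
  haveI : IsScalarTower A C B := IsScalarTower.of_algebraMap_eq fun _ => rfl
  let f := Groth.L03.FibreLocalDim.f A C
  haveI : LocallyOfFiniteType f := by
    rw [HasRingHomProperty.Spec_iff (P := @LocallyOfFiniteType)]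
    exact RingHom.finiteType_algebraMap.2 inferInstance
  let x : ↥(Spec (CommRingCat.of C)) := (⟨q, hq⟩ : PrimeSpectrum C)
  let s : ↥(Spec (CommRingCat.of A)) := closedPoint A
  have hfx : f x = s := PrimeSpectrum.ext (by
    show (q.comap (algebraMap A C)) = maximalIdeal A
    rw [Ideal.comap_comap, ← IsScalarTower.algebraMap_eq]
    exact IsLocalRing.maximalIdeal_comap _)
  obtain ⟨a, b, ha, hb, hab⟩ := exists_fibreDimAt f x
  have he : Algebra.trdeg (ResidueField A) (ResidueField B) = (a : Cardinal.{u}) :=
    residue_trdeg (⟨q, hq⟩ : PrimeSpectrum C) B a hfx ha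
  haveI : IrreducibleSpace ↥(Spec (CommRingCat.of C)) := inferInstanceAs (IrreducibleSpace (PrimeSpectrum C))
  obtain ⟨N, hN, hN'⟩ := exists_fdim_rtrdeg f (⟨⊥, Ideal.isPrime_bot⟩ : PrimeSpectrum C)
  have hup : N ≤ a + b := by
    have h := fdim_le_fibreDimAt_of_specializes f
      ((PrimeSpectrum.le_iff_specializes (⟨⊥, Ideal.isPrime_bot⟩ : PrimeSpectrum C) x).mp bot_le)
    rw [hN, hab] at h
    exact_mod_cast h
  have hCN : Algebra.trdeg A C = (N : Cardinal.{u}) := trdeg_generic.symm.trans hN'
  have hlow : a + b ≤ N := by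
    obtain ⟨w, hwx, hfw, -, hwd⟩ := Groth.L07.OpenEquiv.exists_maximal_fdim_eq f x
    let W : PrimeSpectrum C := w
    have hWq : W.asIdeal ≤ q := (PrimeSpectrum.le_iff_specializes W x).mpr hwx
    obtain ⟨hflat, hloc⟩ := flat_localization (B := B) q W hWq (hfw.trans hfx)
    haveI := hflat
    haveI := hloc
    have h := trdeg_le (A := A) (B := Localization.AtPrime W.asIdeal) (a + b)
      (residue_trdeg W (Localization.AtPrime W.asIdeal) (a + b) (hfw.trans hfx) (hwd.trans hab))
    haveI : FaithfulSMul C (Localization.AtPrime W.asIdeal) := (faithfulSMul_iff_algebraMap_injective C _).mpr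
      (IsLocalization.injective _ W.asIdeal.primeCompl_le_nonZeroDivisors)
    rw [trdeg_localization (A := A) (C := C) (L := Localization.AtPrime W.asIdeal) W.asIdeal.primeCompl, hCN] at h
    exact_mod_cast h
  refine ⟨b, a, ?_, he, ?_⟩
  · rw [dim_quot (C := C) q rfl, ← hb]
    exact (dim_stalk_fibre x hfx).symm
  · rw [trdeg_localization (A := A) (C := C) (L := B) q.primeCompl, hCN, show N = b + a by omega]

end Groth.L06.EssFlatFibre
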