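import Groth.Agent.L03.MiracleQF
import Groth.Agent.L02.CMMor.Local
import Groth.Agent.L20.FlatLocusOpen
import Mathlib.RingTheory.ZariskisMainTheorem
import Mathlib.RingTheory.Ideal.KrullsHeightTheorem
import Mathlib.RingTheory.Jacobson.Ring
import Mathlib.FieldTheory.IsAlgClosed.Basic

/-!
Chains of systems of parameters at a rational point of a Cohen–Macaulay affine algebra,
differing in one member at a time, and the quasi-finite flat maps to affine space they give.
-/

set_option autoImplicit false
set_option linter.style.haveILetI false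

universe u

open MvPolynomial IsLocalRing

namespace Groth.L06.EtDlChain

variable {k A ι : Type u} [Field k] [CommRing A] [Algebra k A]

/-- The translated tuple cuts out the rational point `c` near `c`. -/
def Good (c : A →ₐ[k] k) (a : ι → A) : Prop :=
  ∀ p : Ideal A, p.IsPrime → p ≤ RingHom.ker c →
    (∀ i, a i - algebraMap k A (c (a i)) ∈ p) → p = RingHom.ker c

theorem sub_mem_ker (c : A →ₐ[k] k) (x : A) : x - algebraMap k A (c x) ∈ RingHom.ker c := by
  rw [RingHom.mem_ker, map_sub, AlgHom.commutes, Algebra.algebraMap_self, RingHom.id_apply, sub_self]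

theorem ker_isMaximal (c : A →ₐ[k] k) : (RingHom.ker c).IsMaximal :=
  RingHom.ker_isMaximal_of_surjective _ fun x => ⟨algebraMap k A x, c.commutes x⟩

theorem aeval_sub_mem (c : A →ₐ[k] k) (a : ι → A) (p : Ideal A)
    (h : ∀ i, a i - algebraMap k A (c (a i)) ∈ p) (f : MvPolynomial ι k) :
    aeval a f - algebraMap k A (c (aeval a f)) ∈ p := by
  have he : (Ideal.Quotient.mkₐ k p).comp (aeval a) =
      ((Algebra.ofId k (A ⧸ p)).comp c).comp (aeval a) := by
    refine MvPolynomial.algHom_ext fun i => ?_
    simp only [AlgHom.comp_apply, aeval_X, Ideal.Quotient.mkₐ_eq_mk]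
    exact Ideal.Quotient.eq.2 (h i)
  exact Ideal.Quotient.eq.1 (DFunLike.congr_fun he f)

theorem good_of_quasiFinite (c : A →ₐ[k] k) (a : ι → A)
    [Algebra (MvPolynomial ι k) A] (ha : algebraMap (MvPolynomial ι k) A = (aeval a).toRingHom)
    [Algebra.QuasiFinite (MvPolynomial ι k) A] : Good c a := by
  intro p hp hle h
  haveI := ker_isMaximal c
  refine Algebra.QuasiFinite.eq_of_le_of_under_eq (R := MvPolynomial ι k) _ _ hle
    (le_antisymm (Ideal.comap_mono hle) fun f hf => ?_)
  rw [Ideal.mem_comap, ha] at hf ⊢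
  have h0 : c (aeval a f) = 0 := hf
  have := aeval_sub_mem c a p h f
  rwa [h0, map_zero, sub_zero] at this

section Noeth

variable [IsNoetherianRing A]

open Classical in
/-- Primes below the point through all but one of the translated members are minimal such. -/
theorem exists_finite_bad (c : A →ₐ[k] k) (a : ι → A) (i : ι) (hg : Good c a) :
    ∃ S : Set (Ideal A), S.Finite ∧ (∀ p ∈ S, p.IsPrime ∧ ¬ RingHom.ker c ≤ p) ∧
      ∀ w ∈ RingHom.ker c, (∀ p ∈ S, w ∉ p) → Good c (Function.update a i w) := by
  let e : ι → A := fun j => a j - algebraMap k A (c (a j))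
  let J : Ideal A := Ideal.span (e '' {j | j ≠ i})
  haveI := ker_isMaximal c
  refine ⟨{p ∈ J.minimalPrimes | ¬ RingHom.ker c ≤ p}, (J.finite_minimalPrimes_of_isNoetherianRing A).subset fun p hp => hp.1,
    fun p hp => ⟨hp.1.1.1, hp.2⟩, fun w hw hav p hp hle h => ?_⟩
  by_contra hne
  have hlt : p < RingHom.ker c := lt_of_le_of_ne hle hne
  have htq : e '' {j | j ≠ i} ⊆ p := by
    rintro _ ⟨j, hj, rfl⟩
    have := h j
    rwa [Function.update_of_ne hj] at this
  have hwp : w ∈ p := by
    have := h i
    rwa [Function.update_self, show c w = 0 from hw, map_zero, sub_zero] at this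
  have hq : RingHom.ker c ∈ (Ideal.span (insert (e i) (e '' {j | j ≠ i}))).minimalPrimes := by
    refine ⟨⟨inferInstance, ?_⟩, fun r hr hrq => ?_⟩
    · rw [Ideal.span_le, Set.insert_subset_iff]
      exact ⟨sub_mem_ker c _, fun _ hx => hle (htq hx)⟩
    · refine (hg r hr.1 hrq fun j => ?_).ge
      rcases eq_or_ne j i with rfl | hj
      · exact hr.2 (Ideal.subset_span (Set.mem_insert _ _))
      · exact hr.2 (Ideal.subset_span (Set.mem_insert_of_mem _ ⟨j, hj, rfl⟩))
  have hmin : p ∈ J.minimalPrimes := Ideal.mem_minimalPrimes_span_of_mem_minimalPrimes_span_insert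
    hlt (e i) _ hq _ htq fun x hx => Ideal.le_radical (Ideal.subset_span (Set.mem_insert_of_mem _ hx))
  exact hav p ⟨hmin, hlt.not_ge⟩ hwp

open Classical in
theorem exists_update (c : A →ₐ[k] k) (a b : ι → A) (i : ι) (ha : Good c a) (hb : Good c b) :
    ∃ w : A, Good c (Function.update a i w) ∧ Good c (Function.update b i w) := by
  obtain ⟨S, hS, hSp, hSg⟩ := exists_finite_bad c a i ha
  obtain ⟨T, hT, hTp, hTg⟩ := exists_finite_bad c b i hb
  suffices ∃ w ∈ RingHom.ker c, ∀ p ∈ S ∪ T, w ∉ p by
    obtain ⟨w, hw, h⟩ := this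
    exact ⟨w, hSg w hw fun p hp => h p (.inl hp), hTg w hw fun p hp => h p (.inr hp)⟩
  by_contra hno
  push Not at hno
  have hsub : ((RingHom.ker c : Ideal A) : Set A) ⊆ ⋃ p ∈ ((hS.union hT).toFinset : Set (Ideal A)), (p : Set A) := by
    intro w hw
    obtain ⟨p, hp, hwp⟩ := hno w hw
    exact Set.mem_biUnion ((hS.union hT).mem_toFinset.2 hp) hwp
  obtain ⟨p, hp, hle⟩ := (Ideal.subset_union_prime ⊥ ⊥ fun p hp _ _ =>
    (((hS.union hT).mem_toFinset.1 hp).elim (hSp p) (hTp p)).1).1 hsub
  exact (((hS.union hT).mem_toFinset.1 hp).elim (hSp p) (hTp p)).2 hle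

/-- A single exchange. -/
def Step (c : A →ₐ[k] k) (a b : ι → A) : Prop :=
  Good c a ∧ Good c b ∧ ∃ i : ι, ∀ i' : ι, i' ≠ i → a i' = b i'

open Classical in
theorem exists_chain [Finite ι] [Nonempty ι] (c : A →ₐ[k] k) (a b : ι → A) (ha : Good c a) (hb : Good c b) :
    Relation.ReflTransGen (Step c) a b := by
  haveI := Fintype.ofFinite ι
  suffices ∀ S : Finset ι, ∃ a' b', Good c a' ∧ Good c b' ∧ Relation.ReflTransGen (Step c) a a' ∧
      Relation.ReflTransGen (Step c) b' b ∧ ∀ i ∈ S, a' i = b' i by
    obtain ⟨a', b', -, -, h1, h2, he⟩ := this Finset.univ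
    exact h1.trans ((funext fun i => he i (Finset.mem_univ i) : a' = b') ▸ h2)
  intro S
  induction S using Finset.induction with
  | empty => exact ⟨a, b, ha, hb, .refl, .refl, by simp⟩
  | @insert i S hi ih =>
    obtain ⟨a', b', ha', hb', h1, h2, he⟩ := ih
    obtain ⟨w, hwa, hwb⟩ := exists_update c a' b' i ha' hb'
    refine ⟨_, _, hwa, hwb, h1.tail ⟨ha', hwa, i, fun j hj => (Function.update_of_ne hj _ _).symm⟩,
      .head ⟨hwb, hb', i, fun j hj => Function.update_of_ne hj _ _⟩ h2, fun j hj => ?_⟩
    rcases eq_or_ne j i with rfl | hji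
    · simp
    · simp only [Function.update_of_ne hji]
      exact he j ((Finset.mem_insert.1 hj).resolve_left hji)

open Classical in
theorem exists_chain_fin [Finite ι] (c : A →ₐ[k] k) (a b : ι → A) (ha : Good c a) (hb : Good c b) :
    ∃ (m : ℕ) (f : Fin (m + 1) → ι → A), f 0 = a ∧ f (Fin.last m) = b ∧ (∀ j, Good c (f j)) ∧
      ∀ j : Fin m, ∃ i : ι, ∀ i' : ι, i' ≠ i → f j.castSucc i' = f j.succ i' := by
  cases isEmpty_or_nonempty ι
  · exact ⟨0, fun _ => a, rfl, Subsingleton.elim _ _, fun _ => ha, fun j => j.elim0⟩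
  have := exists_chain c a b ha hb
  clear hb
  induction this with
  | refl => exact ⟨0, fun _ => a, rfl, rfl, fun _ => ha, fun j => j.elim0⟩
  | @tail b' d _ hstep ih =>
    obtain ⟨m, f, h0, h1, h2, h3⟩ := ih
    refine ⟨m + 1, Fin.snoc f d, ?_, Fin.snoc_last _ _, fun j => ?_, fun j => ?_⟩
    · rw [← Fin.castSucc_zero, Fin.snoc_castSucc, h0]
    · induction j using Fin.lastCases with
      | last => rw [Fin.snoc_last]; exact hstep.2.1
      | cast j => rw [Fin.snoc_castSucc]; exact h2 j
    · induction j using Fin.lastCases with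
      | last =>
        obtain ⟨i, hi⟩ := hstep.2.2
        refine ⟨i, fun i' hi' => ?_⟩
        rw [Fin.snoc_castSucc, Fin.succ_last, Fin.snoc_last, h1]
        exact hi i' hi'
      | cast j =>
        obtain ⟨i, hi⟩ := h3 j
        refine ⟨i, fun i' hi' => ?_⟩
        rw [Fin.snoc_castSucc, Fin.succ_castSucc, Fin.snoc_castSucc]
        exact hi i' hi'

end Noeth

section Algebraic

variable [Algebra.FiniteType k A] [Algebra (MvPolynomial ι k) A]
  [IsScalarTower k (MvPolynomial ι k) A]

/-- A good tuple is quasi-finite at the point. -/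
theorem quasiFiniteAt_of_good (c : A →ₐ[k] k) (a : ι → A)
    (ha : algebraMap (MvPolynomial ι k) A = (aeval a).toRingHom) (hg : Good c a)
    [(RingHom.ker c).IsPrime] :
    Algebra.QuasiFiniteAt (MvPolynomial ι k) (RingHom.ker c) := by
  haveI : IsNoetherianRing A := Algebra.FiniteType.isNoetherianRing k A
  haveI : Algebra.FiniteType (MvPolynomial ι k) A :=
    Algebra.FiniteType.of_restrictScalars_finiteType k _ A
  haveI := ker_isMaximal c
  let q : PrimeSpectrum A := ⟨RingHom.ker c, inferInstance⟩
  refine Algebra.QuasiFiniteAt.of_isOpen_singleton_fiber q ?_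
  let I : Ideal A := (q.asIdeal.comap (algebraMap (MvPolynomial ι k) A)).map (algebraMap _ A)
  have hfin : {m ∈ I.minimalPrimes | m ≠ q.asIdeal}.Finite :=
    (I.finite_minimalPrimes_of_isNoetherianRing A).subset fun m hm => hm.1
  have hIq : ∀ m : Ideal A, m.IsPrime → I ≤ m → m ≤ q.asIdeal → m = q.asIdeal := by
    refine fun m hm hIm hmq => hg m hm hmq fun i => ?_
    have hX : (X i - C (c (a i)) : MvPolynomial ι k) ∈ q.asIdeal.comap (algebraMap _ A) := by
      rw [Ideal.mem_comap, ha]
      show c (aeval a _) = 0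
      simp
    have := hIm (Ideal.mem_map_of_mem _ hX)
    rw [ha] at this
    simpa using this
  obtain ⟨f, hf, hfq⟩ : ∃ f ∈ sInf {m ∈ I.minimalPrimes | m ≠ q.asIdeal}, f ∉ q.asIdeal := by
    refine SetLike.not_le_iff_exists.1 fun hle => ?_
    rw [← hfin.coe_toFinset, ← Finset.inf_id_eq_sInf] at hle
    obtain ⟨m, hm, hmq⟩ := (Ideal.IsPrime.inf_le' q.isPrime).1 hle
    rw [hfin.mem_toFinset] at hm
    exact hm.2 (hIq m hm.1.1.1 hm.1.1.2 hmq)
  rw [isOpen_induced_iff]
  refine ⟨PrimeSpectrum.basicOpen f, (PrimeSpectrum.basicOpen f).2, ?_⟩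
  ext ⟨r, hr⟩
  simp only [Set.mem_preimage, Set.mem_singleton_iff, SetLike.mem_coe, PrimeSpectrum.mem_basicOpen]
  refine ⟨fun hfr => ?_, fun h => ?_⟩
  swap
  · have h' : r = q := congrArg Subtype.val h
    rw [h']
    exact hfq
  have hIr : I ≤ r.asIdeal := by
    refine Ideal.map_le_iff_le_comap.2 ?_
    exact (congrArg PrimeSpectrum.asIdeal hr).ge
  obtain ⟨m, hm, hmr⟩ := Ideal.exists_minimalPrimes_le hIr
  have hmq : m = q.asIdeal := by
    by_contra hne
    exact hfr (hmr (Submodule.mem_sInf.1 hf m ⟨hm, hne⟩))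
  refine Subtype.ext (PrimeSpectrum.ext ((ker_isMaximal c).eq_of_le r.isPrime.ne_top ?_).symm)
  rw [hmq] at hmr
  exact hmr

omit [Algebra (MvPolynomial ι k) A] [IsScalarTower k (MvPolynomial ι k) A] [Algebra.FiniteType k A] in
/-- Maximal ideals of a polynomial ring have full height. -/
theorem ringKrullDim_polynomial [Finite ι] (P : Ideal (MvPolynomial ι k)) [P.IsMaximal] :
    ringKrullDim (Localization.AtPrime P) = (Nat.card ι : WithBot ℕ∞) := by
  obtain ⟨h, e, D, hh, he, hD, hsum⟩ := Groth.L22.AffineDim.dim_formula k (MvPolynomial ι k) P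
  letI := Ideal.Quotient.field P
  rw [ringKrullDim_eq_zero_of_field] at he
  rw [MvPolynomial.ringKrullDim_of_isNoetherianRing, ringKrullDim_eq_zero_of_field, zero_add] at hD
  rw [IsLocalization.AtPrime.ringKrullDim_eq_height P, hh]
  have h1 : e = 0 := by exact_mod_cast he.symm
  have h2 : Nat.card ι = D := by exact_mod_cast hD
  have h3 : h = Nat.card ι := by omega
  rw [h3]; rfl

omit [Algebra.FiniteType k A] in
theorem under_isMaximal (c : A →ₐ[k] k) :
    ((RingHom.ker c).comap (algebraMap (MvPolynomial ι k) A)).IsMaximal := by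
  show (RingHom.ker ((c : A →+* k).comp (algebraMap (MvPolynomial ι k) A))).IsMaximal
  refine RingHom.ker_isMaximal_of_surjective _ fun x => ⟨C x, ?_⟩
  rw [RingHom.comp_apply, ← MvPolynomial.algebraMap_eq, ← IsScalarTower.algebraMap_apply]
  exact c.commutes x

theorem dim_eq_of_flat [Finite ι] (c : A →ₐ[k] k) [(RingHom.ker c).IsPrime]
    [Algebra.QuasiFinite (MvPolynomial ι k) A] [Module.Flat (MvPolynomial ι k) A] :
    ringKrullDim (Localization.AtPrime (RingHom.ker c)) = (Nat.card ι : WithBot ℕ∞) := by
  haveI : IsNoetherianRing A := Algebra.FiniteType.isNoetherianRing k A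
  haveI := under_isMaximal (ι := ι) c
  let P := (RingHom.ker c).under (MvPolynomial ι k)
  haveI : P.IsMaximal := under_isMaximal c
  haveI : Module.Flat (MvPolynomial ι k) (Localization.AtPrime (RingHom.ker c)) := Module.Flat.trans _ A _
  have h := (Groth.L03.MiracleQF.flat_iff_local P (RingHom.ker c)).1 inferInstance
  rw [h.2]
  exact ringKrullDim_polynomial P

/-- A good tuple gives a flat map at a Cohen–Macaulay point of full dimension. -/
theorem flat_of_good [Finite ι] (c : A →ₐ[k] k) (a : ι → A)
    (ha : algebraMap (MvPolynomial ι k) A = (aeval a).toRingHom) (hg : Good c a)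
    [(RingHom.ker c).IsPrime]
    (hCM : LocCoh.IsCohenMacaulayLocalRing (Localization.AtPrime (RingHom.ker c)))
    (hdim : ringKrullDim (Localization.AtPrime (RingHom.ker c)) = (Nat.card ι : WithBot ℕ∞)) :
    Module.Flat (MvPolynomial ι k) (Localization.AtPrime (RingHom.ker c)) := by
  haveI : IsNoetherianRing A := Algebra.FiniteType.isNoetherianRing k A
  set T := Localization.AtPrime (RingHom.ker c) with hT
  haveI : Algebra.QuasiFinite (MvPolynomial ι k) T := quasiFiniteAt_of_good c a ha hg
  let P := (RingHom.ker c).under (MvPolynomial ι k)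
  haveI : P.IsMaximal := under_isMaximal c
  haveI : (maximalIdeal T).LiesOver P := ⟨by
    show (RingHom.ker c).comap _ = _
    rw [Ideal.under_def, IsScalarTower.algebraMap_eq (MvPolynomial ι k) A T, ← Ideal.comap_comap,
      show (maximalIdeal T).comap (algebraMap A T) = RingHom.ker c from
        IsLocalization.AtPrime.comap_maximalIdeal T _]⟩
  let e : T ≃ₐ[T] Localization.AtPrime (maximalIdeal T) :=
    IsLocalization.atUnits T (maximalIdeal T).primeCompl fun x hx =>
      IsLocalRing.notMem_maximalIdeal.1 hx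
  have h := (Groth.L03.MiracleQF.flat_iff_local P (maximalIdeal T)).2
    ⟨L02.CMMor.cm_of_ringEquiv e.toRingEquiv hCM, by
      rw [← ringKrullDim_eq_of_ringEquiv e.toRingEquiv, hdim, ringKrullDim_polynomial P]⟩
  exact Module.Flat.of_linearEquiv (e.toLinearEquiv.restrictScalars (MvPolynomial ι k))

end Algebraic

set_option backward.isDefEq.respectTransparency false in
/-- A good tuple is quasi-finite and flat on a basic open neighbourhood of the point. -/
theorem exists_notMem [Algebra.FiniteType k A] [Finite ι] (c : A →ₐ[k] k) [(RingHom.ker c).IsPrime]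
    (hCM : LocCoh.IsCohenMacaulayLocalRing (Localization.AtPrime (RingHom.ker c)))
    (hdim : ringKrullDim (Localization.AtPrime (RingHom.ker c)) = (Nat.card ι : WithBot ℕ∞))
    (a : ι → A) (hg : Good c a) :
    ∃ g ∉ RingHom.ker c, ∀ h : A,
      ((algebraMap A (Localization.Away (g * h))).comp
        (aeval a : MvPolynomial ι k →ₐ[k] A).toRingHom).QuasiFinite ∧
      ((algebraMap A (Localization.Away (g * h))).comp
        (aeval a : MvPolynomial ι k →ₐ[k] A).toRingHom).Flat := by
  letI : Algebra (MvPolynomial ι k) A := (aeval a).toRingHom.toAlgebra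
  haveI : IsScalarTower k (MvPolynomial ι k) A :=
    IsScalarTower.of_algebraMap_eq fun x => ((aeval a).commutes x).symm
  haveI : IsNoetherianRing A := Algebra.FiniteType.isNoetherianRing k A
  haveI : Algebra.FiniteType (MvPolynomial ι k) A :=
    Algebra.FiniteType.of_restrictScalars_finiteType k _ A
  haveI : Algebra.FinitePresentation (MvPolynomial ι k) A :=
    Algebra.FinitePresentation.of_finiteType.1 inferInstance
  haveI := quasiFiniteAt_of_good c a rfl hg
  obtain ⟨S', hS', r, hrp, hr⟩ :=
    Algebra.QuasiFiniteAt.exists_fg_and_exists_notMem_and_awayMap_bijective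
      (R := MvPolynomial ι k) (RingHom.ker c)
  haveI : Module.Finite (MvPolynomial ι k) S' := ⟨(Submodule.fg_top _).mpr hS'⟩
  haveI : Algebra.QuasiFinite (MvPolynomial ι k) (Localization.Away r) := .trans _ S' _
  haveI hq1 : Algebra.QuasiFinite (MvPolynomial ι k) (Localization.Away r.1) :=
    Algebra.QuasiFinite.of_surjective_algHom (S := Localization.Away r)
      (T := Localization.Away r.1) (Localization.awayMapₐ S'.val r) (by exact hr.2)
  haveI := flat_of_good c a rfl hg hCM hdim
  haveI : Module.Flat (MvPolynomial ι k) (LocalizedModule (RingHom.ker c).primeCompl A) :=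
    Module.Flat.of_linearEquiv ((IsLocalizedModule.iso (RingHom.ker c).primeCompl
      (Algebra.linearMap A (Localization.AtPrime (RingHom.ker c)))).restrictScalars (MvPolynomial ι k))
  obtain ⟨g, hgc, hflat⟩ := Groth.L20.exists_flat_away (R := MvPolynomial ι k) (M := A)
    (RingHom.ker c).primeCompl
  haveI hf1 : Module.Flat (MvPolynomial ι k) (Localization.Away g) := by
    haveI := hflat
    exact Module.Flat.of_linearEquiv ((IsLocalizedModule.iso (Submonoid.powers g)
      (Algebra.linearMap A (Localization.Away g))).restrictScalars (MvPolynomial ι k)).symm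
  refine ⟨r.1 * g, (RingHom.ker c).primeCompl.mul_mem hrp hgc, fun h => ⟨?_, ?_⟩⟩
  · have : (algebraMap A (Localization.Away (r.1 * g * h))).comp (aeval a).toRingHom =
        algebraMap (MvPolynomial ι k) _ := (IsScalarTower.algebraMap_eq _ _ _).symm
    rw [this, RingHom.quasiFinite_algebraMap]
    let S₁ := Localization.Away (algebraMap A (Localization.Away r.1) (g * h))
    haveI : IsLocalization.Away (r.1 * (g * h)) S₁ := inferInstance
    haveI : Algebra.QuasiFinite (MvPolynomial ι k) S₁ :=
      .of_isLocalization (S := Localization.Away r.1)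
        (Submonoid.powers (algebraMap A (Localization.Away r.1) (g * h)))
    rw [mul_assoc]
    exact (Algebra.QuasiFinite.iff_of_algEquiv ((IsLocalization.algEquiv (Submonoid.powers (r.1 * (g * h)))
      S₁ _).restrictScalars (MvPolynomial ι k))).1 this
  · have : (algebraMap A (Localization.Away (r.1 * g * h))).comp (aeval a).toRingHom =
        algebraMap (MvPolynomial ι k) _ := (IsScalarTower.algebraMap_eq _ _ _).symm
    rw [this, RingHom.flat_algebraMap_iff]
    let S₁ := Localization.Away (algebraMap A (Localization.Away g) (r.1 * h))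
    haveI : IsLocalization.Away (g * (r.1 * h)) S₁ := inferInstance
    haveI : Module.Flat (Localization.Away g) S₁ :=
      IsLocalization.flat _ (Submonoid.powers (algebraMap A (Localization.Away g) (r.1 * h)))
    haveI : Module.Flat (MvPolynomial ι k) S₁ := Module.Flat.trans _ (Localization.Away g) _
    rw [show r.1 * g * h = g * (r.1 * h) by ring]
    exact Module.Flat.of_linearEquiv ((IsLocalization.algEquiv (Submonoid.powers (g * (r.1 * h)))
      (Localization.Away (g * (r.1 * h))) S₁).restrictScalars (MvPolynomial ι k)).toLinearEquiv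

end Groth.L06.EtDlChain

namespace Groth.L06.EtDlChain

/-- Over an algebraically closed field a maximal ideal of an algebra of finite type is a rational point. -/
theorem exists_point {k A : Type u} [Field k] [IsAlgClosed k] [CommRing A] [Algebra k A]
    [Algebra.FiniteType k A] (q : Ideal A) [q.IsMaximal] : ∃ c : A →ₐ[k] k, RingHom.ker c = q := by
  letI := Ideal.Quotient.field q
  haveI : Module.Finite k (A ⧸ q) := finite_of_finite_type_of_isJacobsonRing k (A ⧸ q)
  let e := AlgEquiv.ofBijective (Algebra.ofId k (A ⧸ q))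
    (IsAlgClosed.algebraMap_bijective_of_isIntegral)
  refine ⟨e.symm.toAlgHom.comp (Ideal.Quotient.mkₐ k q), ?_⟩
  ext x
  rw [RingHom.mem_ker]
  show e.symm (Ideal.Quotient.mk q x) = 0 ↔ _
  rw [EmbeddingLike.map_eq_zero_iff, Ideal.Quotient.eq_zero_iff_mem]

end Groth.L06.EtDlChain
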