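import Groth.Prelude.Def_MoreMor
import Mathlib.RingTheory.Etale.StandardEtale
import Mathlib.RingTheory.Unramified.LocalStructure
import Mathlib.AlgebraicGeometry.Morphisms.Etale
import Mathlib.AlgebraicGeometry.Fiber
import Mathlib.Algebra.Polynomial.Lifts
import Mathlib.Algebra.Category.Ring.Constructions

/-!
# Étale neighbourhoods of a fibre lift to the total space
-/

set_option autoImplicit false
set_option maxSynthPendingDepth 3
set_option linter.style.haveILetI false
set_option backward.isDefEq.respectTransparency.types false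

universe u

open CategoryTheory CategoryTheory.Limits AlgebraicGeometry TensorProduct Polynomial

namespace Groth.L06.EtaleFibreLift

section Algebra

variable {R A κ : Type u} [CommRing R] [CommRing A] [Field κ] [Algebra R A] [Algebra R κ]

theorem exists_clear (hκ : ∀ c : κ, ∃ a r : R, algebraMap R κ r ≠ 0 ∧ c * algebraMap R κ r = algebraMap R κ a)
    (b : A ⊗[R] κ) : ∃ r : R, algebraMap R κ r ≠ 0 ∧ ∃ a : A, r • b = a ⊗ₜ[R] (1 : κ) := by
  induction b with
  | zero => exact ⟨1, by simp, 0, by simp⟩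
  | tmul x c =>
    obtain ⟨a, r, hr, hc⟩ := hκ c
    refine ⟨r, hr, a • x, ?_⟩
    rw [← TensorProduct.tmul_smul, TensorProduct.smul_tmul, Algebra.smul_def, Algebra.smul_def, mul_one,
      mul_comm, hc]
  | add b b' hb hb' =>
    obtain ⟨r, hr, a, ha⟩ := hb
    obtain ⟨r', hr', a', ha'⟩ := hb'
    refine ⟨r * r', by rw [map_mul]; exact mul_ne_zero hr hr', r' • a + r • a', ?_⟩
    rw [smul_add, TensorProduct.add_tmul, ← TensorProduct.smul_tmul', ← TensorProduct.smul_tmul',
      ← ha, ← ha', smul_smul, smul_smul, mul_comm r' r]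

/-- Two standard étale pairs with the same `f` and `g' = g f'` have the same ring. -/
theorem equiv_mul_derivative {B : Type u} [CommRing B] (P Q : StandardEtalePair B) (hf : Q.f = P.f)
    (hg : Q.g = P.g * derivative P.f) : Nonempty (Q.Ring ≃ₐ[B] P.Ring) := by
  have h1 : Q.HasMap P.X := ⟨by rw [hf]; exact P.hasMap_X.1,
    by rw [hg, map_mul]; exact P.hasMap_X.2.mul P.hasMap_X.isUnit_derivative_f⟩
  have h2 : P.HasMap Q.X := ⟨by rw [← hf]; exact Q.hasMap_X.1, by
    have h := Q.hasMap_X.2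
    rw [hg, map_mul] at h
    exact isUnit_of_mul_isUnit_left h⟩
  exact ⟨AlgEquiv.ofAlgHom (Q.lift P.X h1) (P.lift Q.X h2)
    (P.hom_ext (by simp)) (Q.hom_ext (by simp))⟩

theorem exists_lift (hκ : ∀ c : κ, ∃ a r : R, algebraMap R κ r ≠ 0 ∧ c * algebraMap R κ r = algebraMap R κ a)
    (P : StandardEtalePair (A ⊗[R] κ)) :
    ∃ (C : Type u) (_ : CommRing C) (_ : Algebra A C), Algebra.Etale A C ∧
      Nonempty (((A ⊗[R] κ) ⊗[A] C) ≃ₐ[A ⊗[R] κ] P.Ring) := by
  classical
  choose r hr a ha using exists_clear (A := A) hκ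
  let s : Finset (A ⊗[R] κ) := P.f.support.image P.f.coeff ∪ P.g.support.image P.g.coeff
  let t : R := ∏ b ∈ s, r b
  have ht : algebraMap R κ t ≠ 0 := by
    rw [map_prod]; exact Finset.prod_ne_zero_iff.mpr fun b _ => hr b
  have hu : IsUnit (algebraMap A (A ⊗[R] κ) (algebraMap R A t)) := by
    rw [Algebra.TensorProduct.algebraMap_apply, Algebra.algebraMap_self, RingHom.id_apply,
      Algebra.TensorProduct.tmul_one_eq_one_tmul]
    exact (isUnit_iff_ne_zero.mpr ht).map (Algebra.TensorProduct.includeRight : κ →ₐ[R] A ⊗[R] κ)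
  let A' := Localization.Away (algebraMap R A t)
  let ψ : A' →+* A ⊗[R] κ := IsLocalization.Away.lift (algebraMap R A t) hu
  letI : Algebra A' (A ⊗[R] κ) := ψ.toAlgebra
  haveI : IsScalarTower A A' (A ⊗[R] κ) := IsScalarTower.of_algebraMap_eq fun x =>
    (IsLocalization.Away.lift_eq (algebraMap R A t) hu x).symm
  have hs : ∀ b ∈ s, b ∈ Set.range ψ := fun b hb => by
    refine ⟨IsLocalization.mk' A' (a b * algebraMap R A (∏ c ∈ s.erase b, r c))
      (⟨algebraMap R A t, Submonoid.mem_powers _⟩ : Submonoid.powers (algebraMap R A t)), ?_⟩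
    rw [show ψ = IsLocalization.lift _ from rfl, IsLocalization.lift_mk'_spec]
    show algebraMap A (A ⊗[R] κ) (a b * algebraMap R A (∏ c ∈ s.erase b, r c)) =
      algebraMap A (A ⊗[R] κ) (algebraMap R A t) * b
    rw [map_mul, Algebra.TensorProduct.algebraMap_apply, Algebra.algebraMap_self, RingHom.id_apply, ← ha b,
      ← IsScalarTower.algebraMap_apply, ← IsScalarTower.algebraMap_apply, ← Algebra.smul_def,
      smul_mul_assoc, mul_comm b, ← Algebra.smul_def, smul_smul]
    congr 1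
    exact Finset.mul_prod_erase s r hb
  have hlift : ∀ q : (A ⊗[R] κ)[X], q.support.image q.coeff ⊆ s → q ∈ Polynomial.lifts ψ := by
    intro q hq
    rw [lifts_iff_coeff_lifts]
    intro n
    by_cases hn : n ∈ q.support
    · exact hs _ (hq (Finset.mem_image_of_mem _ hn))
    · rw [notMem_support_iff.mp hn]; exact ⟨0, map_zero _⟩
  obtain ⟨f₁, hf₁, -, hm⟩ := lifts_and_natDegree_eq_and_monic (hlift P.f Finset.subset_union_left) P.monic_f
  obtain ⟨g₁, hg₁⟩ := (mem_lifts _).mp (hlift P.g Finset.subset_union_right)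
  let P' : StandardEtalePair A' := ⟨f₁, hm, g₁ * derivative f₁, g₁, 0, 1, by ring⟩
  let pr : StandardEtalePresentation A' P'.Ring := ⟨P', P'.X, P'.hasMap_X, by
    simpa [StandardEtalePair.lift_X_left] using Function.bijective_id⟩
  obtain ⟨e₁⟩ := equiv_mul_derivative P (P'.map ψ) (by simpa [P'] using hf₁)
    (by simp [P', Polynomial.map_mul, hf₁, hg₁, ← derivative_map])
  let Q := pr.baseChange (T := A ⊗[R] κ)
  letI : Algebra A P'.Ring := ((algebraMap A' P'.Ring).comp (algebraMap A A')).toAlgebra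
  haveI : IsScalarTower A A' P'.Ring := IsScalarTower.of_algebraMap_eq fun _ => rfl
  haveI : Algebra.Etale A A' := Algebra.Etale.of_isLocalizationAway (algebraMap R A t)
  refine ⟨P'.Ring, inferInstance, inferInstance, Algebra.Etale.comp A A' P'.Ring, ⟨?_⟩⟩
  let e₂ : (A ⊗[R] κ) ⊗[A'] P'.Ring ≃ₐ[A ⊗[R] κ] P.Ring := Q.equivRing.trans e₁
  haveI := IsLocalization.tensorProduct_compatibleSMul (Submonoid.powers (algebraMap R A t)) A' (A ⊗[R] κ) P'.Ring
  exact (Algebra.TensorProduct.equivOfCompatibleSMul A A' (A ⊗[R] κ) (A ⊗[R] κ) P'.Ring).symm.trans e₂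

end Algebra

section Scheme

variable {X S : Scheme.{u}}

theorem exists_frac {U : S.Opens} (hU : IsAffineOpen U) {s : S} (hs : s ∈ U) (c : S.residueField s) :
    ∃ a r : Γ(S, U), (S.presheaf.germ U s hs ≫ S.residue s).hom r ≠ 0 ∧
      c * (S.presheaf.germ U s hs ≫ S.residue s).hom r = (S.presheaf.germ U s hs ≫ S.residue s).hom a := by
  letI := TopCat.Presheaf.algebra_section_stalk S.presheaf (⟨s, hs⟩ : U)
  haveI := hU.isLocalization_stalk ⟨s, hs⟩
  obtain ⟨z, rfl⟩ := IsLocalRing.residue_surjective c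
  obtain ⟨⟨a, r⟩, hz⟩ := IsLocalization.surj (hU.primeIdealOf ⟨s, hs⟩).asIdeal.primeCompl z
  refine ⟨a, r.1, ?_, ?_⟩
  · exact ((IsLocalization.map_units _ r).map (IsLocalRing.residue _)).ne_zero
  · exact (map_mul (IsLocalRing.residue _) _ _).symm.trans (congrArg (IsLocalRing.residue _) hz)

/-- An affine chart of the fibre through an affine open of the total space. -/
theorem exists_chart (f : X ⟶ S) {U : S.Opens} (hU : IsAffineOpen U) {W : X.Opens}
    (hW : IsAffineOpen W) (e : W ≤ f ⁻¹ᵁ U) {s : S} (hs : s ∈ U) :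
    letI := (f.appLE U W e).hom.toAlgebra
    letI := (S.presheaf.germ U s hs ≫ S.residue s).hom.toAlgebra
    ∃ j : Spec (CommRingCat.of (Γ(X, W) ⊗[Γ(S, U)] S.residueField s)) ⟶ f.fiber s,
      IsPullback j (Spec.map (CommRingCat.ofHom
        (Algebra.TensorProduct.includeLeftRingHom : Γ(X, W) →+* Γ(X, W) ⊗[Γ(S, U)] S.residueField s)))
        (f.fiberι s) hW.fromSpec := by
  letI := (f.appLE U W e).hom.toAlgebra
  letI := (S.presheaf.germ U s hs ≫ S.residue s).hom.toAlgebra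
  have h1 := isPullback_SpecMap_of_isPushout _ _ _ _
    (CommRingCat.isPushout_tensorProduct Γ(S, U) Γ(X, W) (S.residueField s))
  have e1 : Spec.map (CommRingCat.ofHom (algebraMap Γ(S, U) Γ(X, W))) ≫ hU.fromSpec = hW.fromSpec ≫ f :=
    hU.SpecMap_appLE_fromSpec f hW e
  have e2 : Spec.map (CommRingCat.ofHom (algebraMap Γ(S, U) (S.residueField s))) ≫ hU.fromSpec =
      S.fromSpecResidueField s := by
    show Spec.map (S.presheaf.germ U s hs ≫ S.residue s) ≫ hU.fromSpec = _
    rw [Spec.map_comp, Category.assoc]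
    show _ = Spec.map (S.residue s) ≫ S.fromSpecStalk s
    rw [← hU.fromSpecStalk_eq_fromSpecStalk hs]
    rfl
  have sqK := (IsPullback.of_horiz_isIso (fst := 𝟙 (Spec (S.residueField s))) (g := 𝟙 _)
      (f := Spec.map (CommRingCat.ofHom (algebraMap Γ(S, U) (S.residueField s))))
      (snd := Spec.map (CommRingCat.ofHom (algebraMap Γ(S, U) (S.residueField s)))) ⟨by simp⟩).flip.paste_horiz
    (IsKernelPair.id_of_mono hU.fromSpec)
  have h3 := h1.paste_vert sqK
  simp only [e1] at h3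
  erw [Category.comp_id, e2] at h3
  let j : Spec (CommRingCat.of (Γ(X, W) ⊗[Γ(S, U)] S.residueField s)) ⟶ f.fiber s :=
    pullback.lift (Spec.map (CommRingCat.ofHom (Algebra.TensorProduct.includeLeftRingHom :
        Γ(X, W) →+* Γ(X, W) ⊗[Γ(S, U)] S.residueField s)) ≫ hW.fromSpec)
      (Spec.map (CommRingCat.ofHom (Algebra.TensorProduct.includeRight :
        (S.residueField s : Type u) →ₐ[Γ(S, U)] Γ(X, W) ⊗[Γ(S, U)] S.residueField s).toRingHom))
      (by rw [Category.assoc]; exact h3.w)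
  refine ⟨j, IsPullback.of_right ?_ (pullback.lift_fst _ _ _)
    (IsPullback.of_hasPullback f (S.fromSpecResidueField s)).flip⟩
  erw [pullback.lift_snd]
  exact h3.flip

theorem range_of_isPullback {P A B C : Scheme.{u}} {a : P ⟶ A} {b : P ⟶ B} {c : A ⟶ C} {d : B ⟶ C}
    (sq : IsPullback a b c d) : Set.range a = c ⁻¹' Set.range d := by
  rw [← sq.isoPullback_hom_fst, Scheme.Hom.comp_base, TopCat.coe_comp, Set.range_comp,
    sq.isoPullback.hom.surjective.range_eq, Set.image_univ, Scheme.Pullback.range_fst]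

theorem main {V : Scheme.{u}} (f : X ⟶ S) (x : X)
    (g : V ⟶ f.fiber (f x)) [Etale g] (v : V) (hv : g v = f.asFiber x) :
    ∃ (U : Scheme.{u}) (p : U ⟶ X) (u : U) (m : (p ≫ f).fiber (f x) ⟶ V) (u' : ↑((p ≫ f).fiber (f x))),
      Etale p ∧ p u = x ∧ IsOpenImmersion m ∧ m ≫ g = MoreMor.fiberMap p f (f x) ∧
      (p ≫ f).fiberι (f x) u' = u ∧ m u' = v := by
  obtain ⟨U₀, hU₀, hs, -⟩ := exists_isAffineOpen_mem_and_subset (U := (⊤ : S.Opens)) (x := f x) trivial
  obtain ⟨W, hW, hxW, e⟩ := exists_isAffineOpen_mem_and_subset (U := f ⁻¹ᵁ U₀) (x := x) hs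
  letI a₁ := (f.appLE U₀ W e).hom.toAlgebra
  letI a₂ := (S.presheaf.germ U₀ (f x) hs ≫ S.residue (f x)).hom.toAlgebra
  let B := Γ(X, W) ⊗[Γ(S, U₀)] S.residueField (f x)
  obtain ⟨j, sqB⟩ := exists_chart f hU₀ hW e hs
  haveI : IsOpenImmersion j := MorphismProperty.of_isPullback sqB.flip (inferInstance : IsOpenImmersion hW.fromSpec)
  have hxj : f.asFiber x ∈ Set.range j := by
    rw [range_of_isPullback sqB, Set.mem_preimage, Scheme.Hom.fiberι_asFiber, hW.range_fromSpec]
    exact hxW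
  obtain ⟨V₁, hV₁, hvV₁, hV₁j⟩ := exists_isAffineOpen_mem_and_subset (U := g ⁻¹ᵁ j.opensRange) (x := v)
    (show g v ∈ Set.range j from hv ▸ hxj)
  have hr : Set.range (hV₁.fromSpec ≫ g) ⊆ Set.range j := by
    rintro _ ⟨z, rfl⟩
    rw [Scheme.Hom.comp_apply]
    exact hV₁j (hV₁.range_fromSpec.le ⟨z, rfl⟩)
  let h := IsOpenImmersion.lift j (hV₁.fromSpec ≫ g) hr
  have hhj : h ≫ j = hV₁.fromSpec ≫ g := IsOpenImmersion.lift_fac _ _ _
  haveI : Etale h := by
    haveI : Etale (h ≫ j) := hhj ▸ inferInstance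
    exact Etale.of_comp h j
  obtain ⟨φ, hφ⟩ := Spec.map_surjective h
  have hφe : φ.hom.Etale := (HasRingHomProperty.Spec_iff (P := @Etale)).1 (hφ ▸ ‹Etale h›)
  letI : Algebra B Γ(V, V₁) := φ.hom.toAlgebra
  haveI : Algebra.Etale B Γ(V, V₁) := hφe
  let Q := hV₁.primeIdealOf ⟨v, hvV₁⟩
  obtain ⟨f₀, hf₀, hstd⟩ := Algebra.IsEtaleAt.exists_isStandardEtale (R := B) Q.asIdeal
  let CB := Localization.Away f₀
  obtain ⟨pr⟩ := hstd.nonempty_standardEtalePresentation
  obtain ⟨C, _, _, hCe, ⟨e₁⟩⟩ := exists_lift (exists_frac hU₀ hs) pr.P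
  let e₂ : B ⊗[Γ(X, W)] C ≃ₐ[B] CB := e₁.trans pr.equivRing.symm
  let U : Scheme.{u} := Spec (CommRingCat.of C)
  let p : U ⟶ X := Spec.map (CommRingCat.ofHom (algebraMap Γ(X, W) C)) ≫ hW.fromSpec
  haveI : Etale (Spec.map (CommRingCat.ofHom (algebraMap Γ(X, W) C))) :=
    (HasRingHomProperty.Spec_iff (P := @Etale)).2 (RingHom.etale_algebraMap.2 hCe)
  have hpe : Etale p := inferInstance
  have sqC := (isPullback_SpecMap_of_isPushout _ _ _ _
    (CommRingCat.isPushout_tensorProduct Γ(X, W) B C)).flip.paste_vert sqB.flip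
  have sqF : IsPullback ((p ≫ f).fiberι (f x)) (MoreMor.fiberMap p f (f x)) p (f.fiberι (f x)) := by
    refine IsPullback.of_bot ?_ (pullback.lift_fst _ _ _).symm (IsPullback.of_hasPullback f _)
    rw [MoreMor.fiberMap]
    erw [pullback.lift_snd]
    exact IsPullback.of_hasPullback (p ≫ f) _
  let ι := sqF.isoPullback ≪≫ sqC.isoPullback.symm
  let l : Spec (CommRingCat.of CB) ⟶ V :=
    Spec.map (CommRingCat.ofHom (algebraMap Γ(V, V₁) CB)) ≫ hV₁.fromSpec
  haveI : IsOpenImmersion (Spec.map (CommRingCat.ofHom (algebraMap Γ(V, V₁) CB))) :=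
    IsOpenImmersion.of_isLocalization f₀
  let σ : Spec (CommRingCat.of (B ⊗[Γ(X, W)] C)) ⟶ Spec (CommRingCat.of CB) :=
    Spec.map (CommRingCat.ofHom e₂.symm.toRingEquiv.toRingHom)
  haveI : IsIso (CommRingCat.ofHom e₂.symm.toRingEquiv.toRingHom) :=
    (ConcreteCategory.isIso_iff_bijective _).2 e₂.symm.bijective
  let m : (p ≫ f).fiber (f x) ⟶ V := ι.hom ≫ σ ≫ l
  have hm : IsOpenImmersion m := inferInstance
  have hmg : m ≫ g = MoreMor.fiberMap p f (f x) := by
    have h1 : σ ≫ l ≫ g = Spec.map (CommRingCat.ofHom (Algebra.TensorProduct.includeLeftRingHom :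
        B →+* B ⊗[Γ(X, W)] C)) ≫ j := by
      simp only [σ, l, Category.assoc, ← hhj, ← hφ]
      rw [← Spec.map_comp_assoc, ← Spec.map_comp_assoc]
      congr 2
      refine CommRingCat.hom_ext (RingHom.ext fun b => ?_)
      exact e₂.symm.commutes b
    simp only [m, Category.assoc, h1]
    exact (Category.assoc sqF.isoPullback.hom sqC.isoPullback.inv _).trans
      ((congrArg (sqF.isoPullback.hom ≫ ·) sqC.isoPullback_inv_snd).trans sqF.isoPullback_hom_snd)
  obtain ⟨q, hq⟩ : v ∈ Set.range (σ ≫ l) := by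
    rw [Scheme.Hom.comp_base, TopCat.coe_comp, Set.range_comp, σ.surjective.range_eq, Set.image_univ]
    have hQ : Q ∈ Set.range (Spec.map (CommRingCat.ofHom (algebraMap Γ(V, V₁) CB))) := by
      show Q ∈ Set.range (PrimeSpectrum.comap (algebraMap Γ(V, V₁) CB))
      rw [PrimeSpectrum.localization_away_comap_range CB f₀]
      exact hf₀
    obtain ⟨q, hq⟩ := hQ
    refine ⟨q, ?_⟩
    show (Spec.map (CommRingCat.ofHom (algebraMap Γ(V, V₁) CB)) ≫ hV₁.fromSpec) q = v
    rw [Scheme.Hom.comp_apply, hq]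
    exact hV₁.fromSpec_primeIdealOf ⟨v, hvV₁⟩
  obtain ⟨u', hu'⟩ := ι.hom.surjective q
  have hmu : m u' = v := by
    show (ι.hom ≫ σ ≫ l) u' = v
    rw [Scheme.Hom.comp_apply, hu', hq]
  refine ⟨U, p, _, m, u', hpe, ?_, hm, hmg, rfl, hmu⟩
  rw [← Scheme.Hom.comp_apply, sqF.w, Scheme.Hom.comp_apply, ← hmg, Scheme.Hom.comp_apply, hmu, hv,
    Scheme.Hom.fiberι_asFiber]

end Scheme

end Groth.L06.EtaleFibreLift
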