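import Groth.Agent.L23.EtaleLift
import Groth.Agent.L02.CAlg.GoodStage
import Mathlib.RingTheory.ZariskisMainTheorem
import Mathlib.RingTheory.Etale.QuasiFinite
import Mathlib.RingTheory.Ideal.GoingUp

/-!
Finite étale algebras modulo an ideal lift to finite étale algebras over an étale neighbourhood.
-/

set_option autoImplicit false
set_option linter.style.haveILetI false
set_option maxSynthPendingDepth 3

universe u

open TensorProduct

noncomputable section

namespace Groth.L06.EtaleNbhdLift

variable {A : Type u} [CommRing A] (I : Ideal A) {D : Type u} [CommRing D] [Algebra A D]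

/-- The elements inverting which makes the integral closure exhaust the algebra. -/
def good (A : Type u) [CommRing A] (D : Type u) [CommRing D] [Algebra A D] : Set (integralClosure A D) :=
  {g | ∀ x : D, ∃ m : ℕ, (g : D) ^ m * x ∈ integralClosure A D}

theorem exists_good [Algebra.FiniteType A D] [Algebra.QuasiFinite A D] (p : Ideal D) [p.IsPrime] :
    ∃ g ∈ good A D, (g : D) ∉ p := by
  obtain ⟨r, hrp, hr, hm⟩ := Algebra.zariskisMainProperty_iff.1
    (Algebra.ZariskisMainProperty.of_finiteType (R := A) p)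
  exact ⟨⟨r, hr⟩, hm, hrp⟩

variable {B₀ : Type u} [CommRing B₀] [Algebra A B₀] [Module.Finite A B₀] [Algebra.FiniteType A D]
  [Algebra.QuasiFinite A D]

theorem exists_idem_mod (ψ : D →ₐ[A] B₀) (hψ : Function.Surjective ψ)
    (hker : RingHom.ker ψ = I.map (algebraMap A D)) :
    ∃ u : integralClosure A D, u * u - u ∈ I.map (algebraMap A (integralClosure A D)) ∧
      u ∈ Ideal.span (good A D) ⊔ I.map (algebraMap A (integralClosure A D)) ∧ ψ u = 1 := by
  classical
  let K := integralClosure A D
  let J : Ideal K := I.map (algebraMap A K)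
  let π : K →+* B₀ := ψ.toRingHom.comp K.val.toRingHom
  have hJ : J ≤ RingHom.ker π := by
    rw [Ideal.map_le_iff_le_comap]
    intro i hi
    show ψ (algebraMap A D i) = 0
    exact (RingHom.mem_ker).1 (hker.ge (Ideal.mem_map_of_mem _ hi))
  let π' : K ⧸ J →+* B₀ := Ideal.Quotient.lift J π hJ
  have hint : π'.IsIntegral := by
    haveI : Algebra.IsIntegral A B₀ := inferInstance
    intro b
    have h := Algebra.IsIntegral.isIntegral (R := A) b
    obtain ⟨P, hP, hPb⟩ := h
    refine ⟨P.map (algebraMap A (K ⧸ J)), hP.map _, ?_⟩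
    rw [Polynomial.eval₂_map]
    convert hPb
    ext a
    exact ψ.commutes a
  let G : Set (K ⧸ J) := Ideal.Quotient.mk J '' good A D
  have hrange : Set.range (PrimeSpectrum.comap π') = (PrimeSpectrum.zeroLocus G)ᶜ := by
    ext q
    constructor
    · rintro ⟨P, rfl⟩ hq
      obtain ⟨g, hg, hgp⟩ := exists_good (A := A) (P.asIdeal.comap ψ.toRingHom)
      exact hgp (hq ⟨g, hg, rfl⟩)
    · intro hq
      obtain ⟨_, ⟨g, hg, rfl⟩, hgq⟩ := Set.not_subset.1 hq
      let q' : Ideal K := q.asIdeal.comap (Ideal.Quotient.mk J)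
      have hgq' : g ∉ q' := hgq
      have hle : (q'.map K.val.toRingHom).comap K.val.toRingHom ≤ q' := by
        intro c hc
        have key : ∀ x ∈ q'.map K.val.toRingHom, ∀ d : D, ∃ m : ℕ, ∃ e ∈ q', (g : D) ^ m * (d * x) = (e : D) := by
          intro x hx
          refine Submodule.span_induction ?_ ?_ ?_ ?_ hx
          · rintro _ ⟨e, he, rfl⟩ d
            obtain ⟨m, hm⟩ := hg d
            exact ⟨m, ⟨_, hm⟩ * e, q'.mul_mem_left _ he, (mul_assoc _ _ _).symm⟩
          · exact fun d => ⟨0, 0, q'.zero_mem, by simp⟩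
          · intro a b _ _ ha hb d
            obtain ⟨m, e, he, hme⟩ := ha d
            obtain ⟨m', e', he', hme'⟩ := hb d
            refine ⟨m + m', g ^ m' * e + g ^ m * e', add_mem (q'.mul_mem_left _ he) (q'.mul_mem_left _ he'), ?_⟩
            push_cast
            rw [← hme, ← hme']
            ring
          · intro c a _ ha d
            obtain ⟨m, e, he, hme⟩ := ha (d * c)
            exact ⟨m, e, he, by rw [← hme, smul_eq_mul, mul_assoc d c a]⟩
        obtain ⟨m, e, he, hme⟩ := key _ hc 1
        have : g ^ m * c ∈ q' := by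
          rw [show g ^ m * c = e from Subtype.ext (by push_cast; rw [← hme]; simp)]
          exact he
        exact ((inferInstance : q'.IsPrime).mem_or_mem this).resolve_left
          fun h => hgq' ((inferInstance : q'.IsPrime).mem_of_pow_mem m h)
      obtain ⟨p, hp, hpq⟩ := (Ideal.comap_map_eq_self_iff_of_isPrime q').1 (le_antisymm hle Ideal.le_comap_map)
      haveI := hp
      have hID : RingHom.ker ψ.toRingHom ≤ p := by
        show RingHom.ker ψ ≤ p
        rw [hker, Ideal.map_le_iff_le_comap]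
        intro i hi
        have h1 : algebraMap A K i ∈ q' := by
          show Ideal.Quotient.mk J _ ∈ q.asIdeal
          rw [Ideal.Quotient.eq_zero_iff_mem.2 (Ideal.mem_map_of_mem _ hi)]
          exact zero_mem _
        rw [← hpq] at h1
        exact h1
      refine ⟨⟨p.map ψ.toRingHom, Ideal.map_isPrime_of_surjective hψ hID⟩, PrimeSpectrum.ext ?_⟩
      refine Ideal.comap_injective_of_surjective (Ideal.Quotient.mk J) Ideal.Quotient.mk_surjective ?_
      show ((p.map ψ.toRingHom).comap π').comap (Ideal.Quotient.mk J) = q'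
      rw [Ideal.comap_comap, show π'.comp (Ideal.Quotient.mk J) = ψ.toRingHom.comp K.val.toRingHom from
        Ideal.Quotient.lift_comp_mk J π hJ, ← Ideal.comap_comap,
        Ideal.comap_map_of_surjective' ψ.toRingHom hψ, sup_eq_left.2 hID, hpq]
  have hclopen : IsClopen (Set.range (PrimeSpectrum.comap π')) :=
    ⟨(PrimeSpectrum.isClosedMap_comap_of_isIntegral π' hint).isClosed_range,
      hrange ▸ (PrimeSpectrum.isClosed_zeroLocus G).isOpen_compl⟩
  obtain ⟨ub, hub, heq⟩ := PrimeSpectrum.exists_idempotent_basicOpen_eq_of_isClopen hclopen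
  have hu1 : π' ub = 1 := by
    by_contra hne
    obtain ⟨P, hP, hle⟩ := Ideal.exists_le_maximal (Ideal.span {π' ub})
      (fun htop => hne ((IsIdempotentElem.iff_eq_one_of_isUnit
        (Ideal.span_singleton_eq_top.1 htop)).1 (hub.map π')))
    have h1 : PrimeSpectrum.comap π' ⟨P, hP.isPrime⟩ ∈ Set.range (PrimeSpectrum.comap π') := ⟨_, rfl⟩
    rw [heq] at h1
    exact h1 (hle (Ideal.mem_span_singleton_self _))
  have hrad : ub ∈ (Ideal.span G).radical := by
    rw [← PrimeSpectrum.vanishingIdeal_zeroLocus_eq_radical, PrimeSpectrum.mem_vanishingIdeal]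
    intro q hq
    by_contra hne
    have h1 : q ∈ Set.range (PrimeSpectrum.comap π') := by rw [heq]; exact hne
    rw [hrange] at h1
    exact h1 (by rw [← PrimeSpectrum.zeroLocus_span]; exact hq)
  obtain ⟨N, hN⟩ := hrad
  have hspan : ub ∈ Ideal.span G := by
    cases N with
    | zero => exact Ideal.eq_top_iff_one _ |>.2 (by simpa using hN) ▸ Submodule.mem_top
    | succ N => rwa [hub.pow_succ_eq N] at hN
  obtain ⟨u, rfl⟩ := Ideal.Quotient.mk_surjective ub
  refine ⟨u, Ideal.Quotient.eq.1 (by rw [map_mul]; exact hub), ?_, hu1⟩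
  rw [← Ideal.map_span, ← Ideal.mem_comap,
    Ideal.comap_map_of_surjective' _ Ideal.Quotient.mk_surjective, Ideal.mk_ker] at hspan
  exact hspan

theorem exists_lift (I : Ideal A) (B₀ : Type u) [CommRing B₀] [Algebra A B₀] [Algebra (A ⧸ I) B₀]
    [IsScalarTower A (A ⧸ I) B₀] [Module.Finite (A ⧸ I) B₀] [Algebra.Etale (A ⧸ I) B₀] :
    ∃ (A'' : Type u) (_ : CommRing A'') (_ : Algebra A A'') (σ : A'' →ₐ[A] A ⧸ I)
      (B : Type u) (_ : CommRing B) (_ : Algebra A'' B) (θ : B →+* B₀),
      Algebra.Etale A A'' ∧ Function.Surjective σ ∧ RingHom.ker σ = I.map (algebraMap A A'') ∧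
      Module.Finite A'' B ∧ Algebra.Etale A'' B ∧ Function.Surjective θ ∧
      RingHom.ker θ = (I.map (algebraMap A A'')).map (algebraMap A'' B) ∧
      ∀ x, θ (algebraMap A'' B x) = algebraMap (A ⧸ I) B₀ (σ x) := by
  classical
  obtain ⟨D, _, _, ψ, hDet, hψ, hker⟩ := Groth.L23.exists_etale_lift (P := A) (B := A ⧸ I) (C := B₀)
    Ideal.Quotient.mk_surjective
  haveI := hDet
  haveI : Module.Finite A B₀ := Module.Finite.trans (A ⧸ I) B₀
  rw [Ideal.Quotient.algebraMap_eq, Ideal.mk_ker] at hker
  obtain ⟨u, hu, huG, hψu⟩ := exists_idem_mod I ψ hψ hker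
  obtain ⟨A', _, _, σ, hA', hσ, e, he, hemem⟩ := Groth.L02.GoodStage.exists_idem (I := I) u hu
  haveI := hA'
  let K := integralClosure A D
  let C' := A' ⊗[A] K
  let D' := A' ⊗[A] D
  let φ : C' →ₐ[A'] D' := Algebra.TensorProduct.map (AlgHom.id A' A') K.val
  have hφinj : Function.Injective φ :=
    Module.Flat.lTensor_preserves_injective_linearMap (M := A') K.val.toLinearMap Subtype.val_injective
  have hφt : ∀ (x : A') (c : K), φ (x ⊗ₜ[A] c) = x ⊗ₜ[A] (c : D) := fun _ _ => rfl
  let inK : K →ₐ[A] C' := Algebra.TensorProduct.includeRight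
  let G' : Ideal C' := (Ideal.span (good A D)).map inK.toRingHom
  let I' : Ideal A' := I.map (algebraMap A A')
  have hIC : I'.map (algebraMap A' C') = I.map (algebraMap A C') := by
    rw [Ideal.map_map, ← IsScalarTower.algebraMap_eq]
  have huC : (1 : A') ⊗ₜ[A] u ∈ G' ⊔ I'.map (algebraMap A' C') := by
    obtain ⟨g, hg, i, hi, hgi⟩ := Submodule.mem_sup.1 huG
    rw [← hgi, TensorProduct.tmul_add]
    refine Submodule.add_mem_sup (Ideal.mem_map_of_mem inK.toRingHom hg) ?_
    rw [hIC]
    have h := Ideal.mem_map_of_mem inK.toRingHom hi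
    rwa [Ideal.map_map, AlgHom.toRingHom_eq_coe, AlgHom.comp_algebraMap] at h
  let L : Ideal C' := G' ⊔ Ideal.span {1 - e}
  obtain ⟨a, haI, haL⟩ : ∃ a : A', a - 1 ∈ I' ∧ algebraMap A' C' a ∈ L := by
    suffices h : L.comap (algebraMap A' C') ⊔ I' = ⊤ by
      obtain ⟨a, ha, i, hi, hai⟩ := Submodule.mem_sup.1 (h.ge (Submodule.mem_top (x := (1 : A'))))
      exact ⟨a, by rw [← hai, sub_add_cancel_left]; exact neg_mem hi, ha⟩
    by_contra hne
    obtain ⟨m, hm, hle⟩ := Ideal.exists_le_maximal _ hne
    haveI : Algebra.IsIntegral A' (C' ⧸ L) := inferInstance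
    obtain ⟨Q, hQ, hQm⟩ := Ideal.exists_ideal_over_maximal_of_isIntegral (R := A') (S := C' ⧸ L) m (by
      intro x hx
      refine hle (Ideal.mem_sup_left ?_)
      rw [RingHom.mem_ker, IsScalarTower.algebraMap_apply A' C' (C' ⧸ L)] at hx
      exact Ideal.mem_comap.2 (Ideal.Quotient.eq_zero_iff_mem.1 (show Ideal.Quotient.mk L (algebraMap A' C' x) = 0 from hx)))
    refine hQ.ne_top ((Ideal.eq_top_iff_one _).2 ?_)
    have h1 : (1 : C') ∈ L ⊔ I'.map (algebraMap A' C') := by
      have he1 : e ∈ G' ⊔ I'.map (algebraMap A' C') := by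
        have := add_mem (Submodule.mem_sup_right (S := G') (hIC.symm ▸ hemem)) huC
        rwa [sub_add_cancel] at this
      rw [show (1 : C') = (1 - e) + e by ring]
      exact add_mem (Ideal.mem_sup_left (Ideal.mem_sup_right (Ideal.mem_span_singleton_self _)))
        ((sup_le_sup_right le_sup_left _ : G' ⊔ I'.map (algebraMap A' C') ≤ _) he1)
    have h2 := Ideal.mem_map_of_mem (Ideal.Quotient.mk L) h1
    rw [map_one, Ideal.map_sup, Ideal.map_quotient_self, bot_sup_eq, Ideal.map_map,
      show (Ideal.Quotient.mk L).comp (algebraMap A' C') = algebraMap A' (C' ⧸ L) from rfl] at h2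
    refine (Ideal.map_le_iff_le_comap.2 ?_ : I'.map (algebraMap A' (C' ⧸ L)) ≤ Q) h2
    rw [show Q.comap (algebraMap A' (C' ⧸ L)) = m from hQm]
    exact le_sup_right.trans hle
  let f : C' := e * algebraMap A' C' a
  have hfG : f ∈ G' := by
    obtain ⟨g, hg, h, hh, hgh⟩ := Submodule.mem_sup.1 haL
    obtain ⟨c, rfl⟩ := Ideal.mem_span_singleton'.1 hh
    show e * algebraMap A' C' a ∈ G'
    rw [← hgh, mul_add, show e * (c * (1 - e)) = 0 by rw [mul_comm c, ← mul_assoc, mul_sub, mul_one, he.eq, sub_self, zero_mul], add_zero]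
    exact G'.mul_mem_left _ hg
  have hconductor : ∀ y : D', ∃ N : ℕ, φ f ^ N * y ∈ φ.range := by
    intro y
    let J : Ideal C' :=
      { carrier := {c | φ c * y ∈ φ.range}
        add_mem' := fun {c c'} (hc : φ c * y ∈ φ.range) (hc' : φ c' * y ∈ φ.range) => by
          show φ (c + c') * y ∈ φ.range
          rw [map_add, add_mul]; exact add_mem hc hc'
        zero_mem' := by
          show φ 0 * y ∈ φ.range
          rw [map_zero, zero_mul]; exact zero_mem _
        smul_mem' := fun c c' (hc' : φ c' * y ∈ φ.range) => by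
          show φ (c * c') * y ∈ φ.range
          rw [map_mul, mul_assoc]; exact mul_mem ⟨c, rfl⟩ hc' }
    have hJ : G' ≤ J.radical := by
      rw [Ideal.map_le_iff_le_comap, Ideal.span_le]
      intro g hg
      induction y using TensorProduct.induction_on with
      | zero => exact ⟨0, show φ _ * (0 : D') ∈ φ.range by rw [mul_zero]; exact zero_mem _⟩
      | tmul x d =>
        obtain ⟨m, hm⟩ := hg d
        refine ⟨m, ⟨x ⊗ₜ[A] ⟨_, hm⟩, ?_⟩⟩
        show φ (x ⊗ₜ[A] _) = φ ((inK g) ^ m) * (x ⊗ₜ[A] d)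
        rw [show (inK g) ^ m = (1 : A') ⊗ₜ[A] (g ^ m) from (map_pow inK g m).symm, hφt, hφt,
          Algebra.TensorProduct.tmul_mul_tmul, one_mul]
        rfl
      | add y y' hy hy' =>
        obtain ⟨m, hm⟩ := hy
        obtain ⟨m', hm'⟩ := hy'
        refine ⟨m + m', show φ _ * (y + y') ∈ φ.range from ?_⟩
        rw [mul_add]
        refine add_mem ?_ ?_
        · rw [pow_add, mul_comm (_ ^ m), map_mul, mul_assoc]
          exact mul_mem ⟨_, rfl⟩ hm
        · rw [pow_add, map_mul, mul_assoc]
          exact mul_mem ⟨_, rfl⟩ hm'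
    obtain ⟨N, hN⟩ := hJ hfG
    exact ⟨N, by rw [← map_pow]; exact hN⟩
  let A'' := Localization.Away a
  let B := Localization.Away (φ f)
  have hfu : IsUnit (algebraMap D' B (φ f)) := IsLocalization.Away.algebraMap_isUnit _
  have hfsplit : algebraMap D' B (φ f) = algebraMap D' B (φ e) * algebraMap A' B a := by
    refine (congrArg (algebraMap D' B) ((map_mul φ e (algebraMap A' C' a)).trans
      (congrArg (φ e * ·) (φ.commutes a)))).trans ?_
    rw [map_mul, ← IsScalarTower.algebraMap_apply]
  have heB : algebraMap D' B (φ e) = 1 :=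
    (IsIdempotentElem.iff_eq_one_of_isUnit (isUnit_of_mul_isUnit_left (hfsplit ▸ hfu))).1
      ((he.map φ).map (algebraMap D' B))
  rw [heB, one_mul] at hfsplit
  let ρ : A'' →ₐ[A'] B := IsLocalization.liftAlgHom (M := Submonoid.powers a) (f := Algebra.ofId A' B)
    fun y => by
      obtain ⟨_, m, rfl⟩ := y
      rw [map_pow]
      exact (show IsUnit (algebraMap A' B a) from hfsplit ▸ hfu).pow m
  letI : Algebra A'' B := ρ.toRingHom.toAlgebra
  haveI : IsScalarTower A' A'' B := IsScalarTower.of_algebraMap_eq fun x => (ρ.commutes x).symm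
  haveI : Algebra.Etale A A'' := Algebra.Etale.comp A A' A''
  haveI : Algebra.Etale D' B := Algebra.Etale.of_isLocalizationAway (φ f)
  haveI : Algebra.Etale A' B := Algebra.Etale.comp A' D' B
  haveI : Algebra.Etale A'' B := Algebra.Etale.of_restrictScalars A' A'' B
  haveI : Algebra.IsIntegral A'' B := ⟨fun z => by
    obtain ⟨m, y, hy⟩ := IsLocalization.Away.surj (φ f) z
    obtain ⟨N, c, hc⟩ := hconductor y
    let inv := algebraMap A'' B (IsLocalization.Away.invSelf a)
    have hinv : algebraMap D' B (φ f) * inv = 1 := by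
      rw [hfsplit, IsScalarTower.algebraMap_apply A' A'' B, ← map_mul, IsLocalization.Away.mul_invSelf, map_one]
    have hz : z = algebraMap D' B (φ c) * inv ^ (m + N) := by
      refine Eq.trans ?_ (congrArg (fun w => algebraMap D' B w * inv ^ (m + N)) hc).symm
      simp only [map_mul, map_pow, pow_add]
      rw [← hy]
      calc z = z * (algebraMap D' B (φ f) * inv) ^ m * (algebraMap D' B (φ f) * inv) ^ N := by
            rw [hinv, one_pow, one_pow, mul_one, mul_one]
        _ = _ := by ring
    rw [hz]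
    refine IsIntegral.mul ?_ (IsIntegral.pow isIntegral_algebraMap _)
    exact (((Algebra.IsIntegral.isIntegral (R := A') c).map φ).map
      (IsScalarTower.toAlgHom A' D' B)).tower_top⟩
  haveI : Module.Finite A'' B := Algebra.IsIntegral.finite
  let ψ' : D' →ₐ[A] B₀ := Algebra.TensorProduct.lift ((IsScalarTower.toAlgHom A (A ⧸ I) B₀).comp σ) ψ
    fun x d => Commute.all _ _
  have hψt : ∀ (x : A') (d : D), ψ' (x ⊗ₜ[A] d) = algebraMap (A ⧸ I) B₀ (σ x) * ψ d := fun x d =>
    Algebra.TensorProduct.lift_tmul _ _ _ x d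
  have hσker : ∀ x ∈ I', σ x = 0 := fun x hx => RingHom.mem_ker.1 (hσ.ge hx)
  have hkilled : ∀ c ∈ I.map (algebraMap A C'), ψ' (φ c) = 0 := by
    intro c hc
    have h : I.map (algebraMap A C') ≤ RingHom.ker ((ψ'.comp (φ.restrictScalars A)).toRingHom) := by
      rw [Ideal.map_le_iff_le_comap]
      intro i hi
      show ψ' (φ (algebraMap A C' i)) = 0
      rw [show ψ' (φ (algebraMap A C' i)) = (ψ'.comp (φ.restrictScalars A)) (algebraMap A C' i) from rfl,
        AlgHom.commutes, IsScalarTower.algebraMap_apply A (A ⧸ I) B₀, Ideal.Quotient.algebraMap_eq,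
        Ideal.Quotient.eq_zero_iff_mem.2 hi, map_zero]
    exact h hc
  have hψe : ψ' (φ e) = 1 := by
    have h := hkilled _ hemem
    rw [map_sub, map_sub, sub_eq_zero] at h
    rw [h]
    show ψ' (φ ((1 : A') ⊗ₜ[A] u)) = 1
    rw [hφt, hψt, map_one, map_one, one_mul, hψu]
  have hσa : σ a = 1 := by
    have := hσker _ haI
    rwa [map_sub, map_one, sub_eq_zero] at this
  have hψA : ∀ x : A', ψ' (algebraMap A' D' x) = algebraMap (A ⧸ I) B₀ (σ x) := fun x => by
    show ψ' (x ⊗ₜ[A] (1 : D)) = _
    rw [hψt, map_one, mul_one]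
  have hψf : ψ' (φ f) = 1 := by
    rw [map_mul φ, map_mul ψ', hψe, one_mul, φ.commutes, hψA, hσa, map_one]
  let θ : B →+* B₀ := IsLocalization.Away.lift (φ f) (g := ψ'.toRingHom) (by
    show IsUnit (ψ' (φ f))
    rw [hψf]; exact isUnit_one)
  have hθ : ∀ y, θ (algebraMap D' B y) = ψ' y := fun y => IsLocalization.Away.lift_eq _ _ y
  let σ' : A'' →ₐ[A] A ⧸ I := IsLocalization.liftAlgHom (M := Submonoid.powers a) (f := σ) fun y => by
    obtain ⟨_, m, rfl⟩ := y
    rw [map_pow, hσa, one_pow]
    exact isUnit_one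
  have hσ' : ∀ x, σ' (algebraMap A' A'' x) = σ x := fun x => IsLocalization.lift_eq _ x
  have hsurj : Function.Surjective σ' := fun x => by
    obtain ⟨x, rfl⟩ := Ideal.Quotient.mk_surjective x
    exact ⟨algebraMap A A'' x, σ'.commutes x⟩
  have hcomp : ∀ x : A'', θ (algebraMap A'' B x) = algebraMap (A ⧸ I) B₀ (σ' x) := by
    have h : θ.comp (algebraMap A'' B) = (algebraMap (A ⧸ I) B₀).comp σ'.toRingHom := by
      refine IsLocalization.ringHom_ext (Submonoid.powers a) (RingHom.ext fun x => ?_)
      show θ (algebraMap A'' B (algebraMap A' A'' x)) = algebraMap (A ⧸ I) B₀ (σ' (algebraMap A' A'' x))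
      rw [← IsScalarTower.algebraMap_apply, IsScalarTower.algebraMap_apply A' D' B, hθ, hψA, hσ']
    exact fun x => RingHom.congr_fun h x
  refine ⟨A'', inferInstance, inferInstance, σ', B, inferInstance, inferInstance, θ, inferInstance, hsurj, ?_,
    inferInstance, inferInstance, fun b => ?_, ?_, hcomp⟩
  · refine le_antisymm (fun x hx => ?_) ?_
    · obtain ⟨m, y, hy⟩ := IsLocalization.Away.surj a x
      have h1 : σ y = 0 := by
        rw [← hσ', ← hy, map_mul, RingHom.mem_ker.1 hx, zero_mul]
      have h2 := Ideal.mem_map_of_mem (algebraMap A' A'') (hσ.le (RingHom.mem_ker.2 h1))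
      rw [Ideal.map_map, ← IsScalarTower.algebraMap_eq, ← hy] at h2
      exact (Ideal.mul_unit_mem_iff_mem _ ((IsLocalization.Away.algebraMap_isUnit a).pow m)).1 h2
    · rw [Ideal.map_le_iff_le_comap]
      intro i hi
      show σ' (algebraMap A A'' i) = 0
      rw [σ'.commutes]
      exact Ideal.Quotient.eq_zero_iff_mem.2 hi
  · obtain ⟨d, rfl⟩ := hψ b
    exact ⟨algebraMap D' B (1 ⊗ₜ d), by rw [hθ, hψt, map_one, map_one, one_mul]⟩
  · have hI : (I.map (algebraMap A A'')).map (algebraMap A'' B) = (I'.map (algebraMap A' D')).map (algebraMap D' B) := by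
      simp only [I', Ideal.map_map, ← IsScalarTower.algebraMap_eq]
      rw [IsScalarTower.algebraMap_eq A A' A'', ← RingHom.comp_assoc, ← IsScalarTower.algebraMap_eq A' A'' B,
        ← IsScalarTower.algebraMap_eq A A' B]
    rw [hI]
    refine le_antisymm (fun x hx => ?_) ?_
    · obtain ⟨m, y, hy⟩ := IsLocalization.Away.surj (φ f) x
      have h1 : ψ' y = 0 := by rw [← hθ, ← hy, map_mul, RingHom.mem_ker.1 hx, zero_mul]
      have key : ∀ z : D', ∃ d : D, z - 1 ⊗ₜ d ∈ I'.map (algebraMap A' D') := by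
        intro z
        induction z using TensorProduct.induction_on with
        | zero => exact ⟨0, by simp⟩
        | add z z' hz hz' =>
          obtain ⟨d, hd⟩ := hz
          obtain ⟨d', hd'⟩ := hz'
          exact ⟨d + d', by rw [TensorProduct.tmul_add, add_sub_add_comm]; exact add_mem hd hd'⟩
        | tmul x d =>
          obtain ⟨c, hc⟩ := Ideal.Quotient.mk_surjective (σ x)
          refine ⟨c • d, ?_⟩
          have hx : x - algebraMap A A' c ∈ I' := hσ.le (RingHom.mem_ker.2 (by
            rw [map_sub, σ.commutes, Ideal.Quotient.algebraMap_eq, hc, sub_self]))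
          have h := Ideal.mul_mem_right ((1 : A') ⊗ₜ[A] d) _ (Ideal.mem_map_of_mem (algebraMap A' D') hx)
          convert h using 1
          show _ = (x - algebraMap A A' c) ⊗ₜ[A] (1 : D) * ((1 : A') ⊗ₜ[A] d)
          rw [Algebra.TensorProduct.tmul_mul_tmul, mul_one, one_mul, TensorProduct.sub_tmul,
            Algebra.algebraMap_eq_smul_one, ← TensorProduct.smul_tmul]
      obtain ⟨d, hd⟩ := key y
      have hIψ : I'.map (algebraMap A' D') ≤ RingHom.ker ψ'.toRingHom := by
        rw [Ideal.map_le_iff_le_comap]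
        intro x hx
        show ψ' (algebraMap A' D' x) = 0
        rw [hψA, hσker x hx, map_zero]
      have hd0 : ψ d = 0 := by
        have h := RingHom.mem_ker.1 (hIψ hd)
        simp only [AlgHom.toRingHom_eq_coe, RingHom.coe_coe, map_sub, h1, zero_sub, neg_eq_zero] at h
        simpa [hψt] using h
      have hy' : y ∈ I'.map (algebraMap A' D') := by
        rw [← sub_add_cancel y (1 ⊗ₜ d)]
        refine add_mem hd ?_
        have h := Ideal.mem_map_of_mem (Algebra.TensorProduct.includeRight : D →ₐ[A] D').toRingHom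
          (hker.le (RingHom.mem_ker.2 hd0))
        rw [Ideal.map_map, AlgHom.toRingHom_eq_coe, AlgHom.comp_algebraMap] at h
        rw [show I'.map (algebraMap A' D') = I.map (algebraMap A D') by
          simp only [I', Ideal.map_map, ← IsScalarTower.algebraMap_eq]]
        exact h
      have h2 := Ideal.mem_map_of_mem (algebraMap D' B) hy'
      rw [← hy] at h2
      exact (Ideal.mul_unit_mem_iff_mem _ (hfu.pow m)).1 h2
    · rw [Ideal.map_le_iff_le_comap, Ideal.map_le_iff_le_comap]
      intro x hx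
      show θ (algebraMap D' B (algebraMap A' D' x)) = 0
      rw [hθ, hψA, hσker x hx, map_zero]

end Groth.L06.EtaleNbhdLift
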