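import Groth.Prelude.Def_ega3
import Groth.Agent.L07.Count.Etale
import Groth.Agent.L09.UnivBdd.Rank
import Groth.Agent.L26.AV.TorsCard
import Groth.Agent.L26.AV.SmoothField
import Mathlib.AlgebraicGeometry.ValuativeCriterion

/-!
A universally closed étale morphism of constant fibre degree is separated.
-/

set_option autoImplicit false
set_option maxSynthPendingDepth 3
set_option linter.style.haveILetI false
set_option backward.isDefEq.respectTransparency.types false
set_option backward.isDefEq.respectTransparency false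

universe u

open CategoryTheory CategoryTheory.Limits AlgebraicGeometry Groth.L07.Spread Groth.L07.Count
open Groth.L00.BddFib (pt)

namespace Groth.L06.EtaleUnivClosed

variable {T S : Scheme.{u}} (f : T ⟶ S)

/-- Over an algebraically closed field the lifts of a point count the degree of the fibre. -/
theorem natCard_lifts [Etale f] [QuasiCompact f] {d : ℕ} (hf : BddFib.FibreDegLE f d)
    {K : Type u} [Field K] [IsAlgClosed K] (g : Spec (CommRingCat.of K) ⟶ S) :
    Nat.card (Lifts f g) = Groth.L09.UnivBdd.fdeg f (g (pt K)) := by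
  haveI : IsFinite (pullback.snd f g) :=
    ((Groth.L00.BddFib.iff (pullback.snd f g) d).1 ((Groth.L00.BddFib.forall_field_iff f d).1 hf K g)).1
  haveI : Etale (pullback.snd f g) := MorphismProperty.pullback_snd (P := @Etale) f g inferInstance
  haveI : Smooth (pullback.snd f g) := inferInstance
  haveI : IsReduced (pullback f g) := Groth.Agent.AV.isReduced_of_smooth_field (pullback.snd f g)
  let P : Over (Spec (CommRingCat.of K)) := Over.mk (pullback.snd f g)
  haveI : IsFinite P.hom := ‹IsFinite (pullback.snd f g)›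
  haveI : IsReduced P.left := ‹IsReduced (pullback f g)›
  rw [← Groth.L09.UnivBdd.finrank_snd_eq hf g,
    show (pullback.snd f g).finrank (pt K) = P.hom.finrank (pt K) from rfl,
    ← Groth.Agent.AV.TorsCard.card_points P (pt K)]
  exact Nat.card_congr ((liftsEquiv f g).trans
    { toFun := fun p => Over.homMk p.1 p.2
      invFun := fun a => ⟨a.left, Over.w a⟩
      left_inv := fun _ => rfl
      right_inv := fun _ => rfl })

/-- A universally closed étale morphism all whose fibres have degree `d` is separated. -/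
theorem isSeparated [Etale f] [QuasiCompact f] [QuasiSeparated f] [UniversallyClosed f] {d : ℕ}
    (hf : BddFib.FibreDegLE f d) (hd : ∀ s, Groth.L09.UnivBdd.fdeg f s = d) : IsSeparated f := by
  refine IsSeparated.of_valuativeCriterion f fun Sq => ⟨fun l₁ l₂ => CommSq.LiftStruct.ext ?_⟩
  let R := Sq.R
  let Ω := AlgebraicClosure Sq.K
  let φ : R →+* Ω := (algebraMap Sq.K Ω).comp (algebraMap R Sq.K)
  obtain ⟨A, hA, hAloc⟩ := IsLocalRing.exists_factor_valuationRing φ
  haveI : IsAlgClosed (IsLocalRing.ResidueField A) := Groth.Agent.L26.ResidueLift.isAlgClosed_residue A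
  let j : R →+* A := φ.codRestrict _ hA
  haveI : IsLocalHom j := hAloc
  let sj : Spec (CommRingCat.of A) ⟶ Spec (CommRingCat.of R) := Spec.map (CommRingCat.ofHom j)
  let t : Spec (CommRingCat.of A) ⟶ S := sj ≫ Sq.i₂
  have hgen : specAlg A Ω ≫ sj =
      Spec.map (CommRingCat.ofHom (algebraMap Sq.K Ω)) ≫ Spec.map (CommRingCat.ofHom (algebraMap R Sq.K)) := by
    rw [← Spec.map_comp, ← Spec.map_comp]
    rfl
  haveI : Finite (SecLifts f A t) :=
    haveI := finite_lifts f (clPt A ≫ t)
    Finite.of_injective _ (resCl_injective f A t)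
  have hgs : Function.Surjective (resGen f A t) := fun s => by
    have hex : ValuativeCriterion.Existence f := by
      have h : UniversallyClosed f := inferInstance
      rw [UniversallyClosed.eq_valuativeCriterion] at h
      exact h.1
    obtain ⟨l, hl₁, hl₂⟩ := (hex { R := A, K := Ω, i₁ := s.1, i₂ := t, commSq := ⟨s.2⟩ }).exists_lift
    exact ⟨⟨l, hl₂⟩, Subtype.ext hl₁⟩
  have hcard : Nat.card (SecLifts f A t) ≤ Nat.card (Lifts f (specAlg A Ω ≫ t)) := by
    rw [natCard_lifts f hf, hd, ← hd ((clPt A ≫ t) (pt (IsLocalRing.ResidueField A))), ← natCard_lifts f hf]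
    haveI := finite_lifts f (clPt A ≫ t)
    exact Nat.card_le_card_of_injective _ (resCl_injective f A t)
  have hinj : Function.Injective (resGen f A t) := (hgs.bijective_of_nat_card_le hcard).1
  let σ₁ : SecLifts f A t := ⟨sj ≫ l₁.l, by rw [Category.assoc, l₁.fac_right]⟩
  let σ₂ : SecLifts f A t := ⟨sj ≫ l₂.l, by rw [Category.assoc, l₂.fac_right]⟩
  have e : σ₁.1 = σ₂.1 := congrArg Subtype.val (hinj (Subtype.ext (show specAlg A Ω ≫ sj ≫ l₁.l = specAlg A Ω ≫ sj ≫ l₂.l by
    rw [reassoc_of% hgen, reassoc_of% hgen, l₁.fac_left, l₂.fac_left])) : σ₁ = σ₂)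
  have hc : sj (IsLocalRing.closedPoint A) = IsLocalRing.closedPoint R := IsLocalRing.comap_closedPoint j
  have hx : l₁.l (IsLocalRing.closedPoint R) = l₂.l (IsLocalRing.closedPoint R) := by
    rw [← hc, ← Scheme.Hom.comp_apply, ← Scheme.Hom.comp_apply]
    exact congrArg (fun q : Spec (CommRingCat.of A) ⟶ T => q (IsLocalRing.closedPoint A)) e
  obtain ⟨W, hW, hxW, -⟩ := exists_isAffineOpen_mem_and_subset (X := T) (x := l₁.l (IsLocalRing.closedPoint R))
    (U := ⊤) trivial
  have hrange : ∀ l : Spec (CommRingCat.of R) ⟶ T, l (IsLocalRing.closedPoint R) ∈ W →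
      Set.range l ⊆ Set.range hW.fromSpec := fun l hl => by
    rintro _ ⟨c, rfl⟩
    rw [hW.range_fromSpec]
    exact ((IsLocalRing.specializes_closedPoint c).map l.continuous).mem_open W.isOpen hl
  obtain ⟨α, hα⟩ := Spec.map_surjective (IsOpenImmersion.lift hW.fromSpec l₁.l (hrange _ hxW))
  obtain ⟨β, hβ⟩ := Spec.map_surjective (IsOpenImmersion.lift hW.fromSpec l₂.l (hrange _ (hx ▸ hxW)))
  have hα' : Spec.map α ≫ hW.fromSpec = l₁.l := by rw [hα, IsOpenImmersion.lift_fac]
  have hβ' : Spec.map β ≫ hW.fromSpec = l₂.l := by rw [hβ, IsOpenImmersion.lift_fac]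
  have hjinj : Function.Injective j := fun a b h => IsFractionRing.injective R Sq.K
    ((algebraMap Sq.K Ω).injective (congrArg Subtype.val h))
  have hαβ : α = β := by
    have h2 : Spec.map (α ≫ CommRingCat.ofHom j) = Spec.map (β ≫ CommRingCat.ofHom j) := by
      rw [← cancel_mono hW.fromSpec, Spec.map_comp, Spec.map_comp, Category.assoc, Category.assoc, hα', hβ']
      exact e
    ext a
    exact hjinj congr(($(Spec.map_injective h2)).hom a)
  rw [← hα', ← hβ', hαβ]

/-- An étale universally closed morphism with fibre algebras of constant dimension is finite. -/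
theorem isFinite [Etale f] [QuasiCompact f] [QuasiSeparated f] [UniversallyClosed f] (d : ℕ)
    (hd : ∀ s : S, Module.finrank (S.residueField s) Γ(f.fiber s, ⊤) = d) : IsFinite f := by
  have hfin : ∀ s : S, (f.fiberToSpecResidueField s).finrank (pt (S.residueField s)) = d := fun s =>
    (Groth.L00.BddFib.finrank_eq (k := S.residueField s) (f.fiberToSpecResidueField s)).trans (hd s)
  have hf : BddFib.FibreDegLE f d := fun s =>
    (Groth.L00.BddFib.iff (k := S.residueField s) (f.fiberToSpecResidueField s) d).2 ⟨inferInstance, (hfin s).le⟩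
  haveI := isSeparated f hf hfin
  haveI : IsProper f := ⟨⟩
  exact IsFinite.of_isProper_of_locallyQuasiFinite f

end Groth.L06.EtaleUnivClosed
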