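import Groth.Agent.L20.RG.FlatOpenFp
import Mathlib.LinearAlgebra.Pi
import Mathlib.RingTheory.Flat.Basic

/-! Finite presentation of flat modules over bases embedded in finitely many local rings. -/

set_option autoImplicit false
set_option linter.style.haveILetI false
set_option backward.isDefEq.respectTransparency.types false
universe u

open TensorProduct

namespace Groth.L06.FPDenseLocal

/-- Flat modules have no element killed at each of the finitely many dense primes. -/
theorem eq_zero_of_flat {R X : Type u} [CommRing R] [AddCommGroup X] [Module R X] [Module.Flat R X]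
    (s : Finset (PrimeSpectrum R))
    (hs : Function.Injective fun r : R => fun p : s => algebraMap R (Localization.AtPrime p.1.asIdeal) r)
    (y : X) (r : s → R) (hr : ∀ p : s, r p ∉ p.1.asIdeal) (hy : ∀ p : s, r p • y = 0) : y = 0 := by
  classical
  let ι : R →ₗ[R] (s → R) := LinearMap.pi fun p => LinearMap.lsmul R R (r p)
  have hι : Function.Injective ι := (injective_iff_map_eq_zero _).mpr fun z hz => hs (funext fun p => by
    show algebraMap R (Localization.AtPrime p.1.asIdeal) z = algebraMap R _ 0
    rw [map_zero, IsLocalization.map_eq_zero_iff p.1.asIdeal.primeCompl]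
    exact ⟨⟨r p, hr p⟩, congrFun hz p⟩)
  have h := Module.Flat.lTensor_preserves_injective_linearMap (M := X) ι hι
  have h0 : LinearMap.lTensor X ι (y ⊗ₜ[R] 1) = LinearMap.lTensor X ι 0 := by
    rw [map_zero, LinearMap.lTensor_tmul, pi_eq_sum_univ' (ι 1), tmul_sum]
    refine Finset.sum_eq_zero fun p _ => ?_
    rw [show ι 1 p = r p from mul_one _, ← smul_tmul, hy p, zero_tmul]
  have := congrArg (TensorProduct.rid R X) (h h0)
  simpa using this

theorem main {R B : Type u} [CommRing R] [CommRing B] [Algebra R B] [Algebra.FinitePresentation R B]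
    (N : Type u) [AddCommGroup N] [Module B N] [Module R N] [IsScalarTower R B N] [Module.Finite B N] [Module.Flat R N]
    (s : Finset (PrimeSpectrum R))
    (hs : Function.Injective fun r : R => fun p : s => algebraMap R (Localization.AtPrime p.1.asIdeal) r)
    (hfp : ∀ p : s, Module.FinitePresentation (Localization (Algebra.algebraMapSubmonoid B p.1.asIdeal.primeCompl))
      (LocalizedModule (Algebra.algebraMapSubmonoid B p.1.asIdeal.primeCompl) N)) :
    Module.FinitePresentation B N := by
  classical
  have hloc : ∀ q : PrimeSpectrum B, ∃ g : B, g ∉ q.asIdeal ∧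
      Module.FinitePresentation (Localization.Away g) (LocalizedModule (Submonoid.powers g) N) := by
    intro q
    obtain ⟨N₀, _, _, _, _, _, π, hπ, hker, a, ha, hflat₀⟩ :=
      Groth.L20.RG.exists_model (R := R) N q.asIdeal (Groth.L20.FibreCrit.flat_localizedModule_of_flat q.asIdeal.primeCompl)
    have hF := fun p : s => Groth.L20.RG.exists_finset_ker π hπ (Algebra.algebraMapSubmonoid B p.1.asIdeal.primeCompl) (hfp p)
    choose F hF0 hFgen using hF
    choose σ hσ hσx using fun (p : s) (x : F p) => hker x (hF0 p x x.2)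
    let G : B := ∏ p, ∏ x, σ p x
    have hG : G ∉ q.asIdeal := fun h => by
      obtain ⟨p, -, hp⟩ := (Ideal.IsPrime.prod_mem_iff).mp h
      obtain ⟨x, -, hx⟩ := (Ideal.IsPrime.prod_mem_iff).mp hp
      exact hσ p x hx
    have hGkill : ∀ p : s, ∀ y ∈ Submodule.span B (F p : Set N₀), G • y = 0 := fun p y hy => by
      induction hy using Submodule.span_induction with
      | mem y hy =>
        have hd : σ p ⟨y, hy⟩ ∣ G := (Finset.dvd_prod_of_mem (σ p) (Finset.mem_univ _)).trans
          (Finset.dvd_prod_of_mem (fun p => ∏ x, σ p x) (Finset.mem_univ p))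
        obtain ⟨c, hc⟩ := hd
        rw [hc, mul_comm, mul_smul, hσx p ⟨y, hy⟩, smul_zero]
      | zero => exact smul_zero _
      | add a b _ _ ha hb => rw [smul_add, ha, hb, add_zero]
      | smul c a _ ha => rw [smul_comm, ha, smul_zero]
    haveI : Module.Flat R (LocalizedModule (Submonoid.powers a) N₀) := (Groth.L20.RG.flat_away_iff a).mpr fun P _ hP => hflat₀ P hP
    refine ⟨a * G, fun h => (Ideal.IsPrime.mem_or_mem inferInstance h).elim ha hG, ?_⟩
    refine (Groth.L20.RG.fp_flat_of_ker π hπ (Dvd.intro _ rfl) hflat₀ fun x hx => ?_).1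
    choose t ht htx using fun p : s => hFgen p x hx
    choose r hr hrt using ht
    have h0 : LocalizedModule.mkLinearMap (Submonoid.powers a) N₀ (G • x) = 0 := by
      refine eq_zero_of_flat s hs _ r hr fun p => ?_
      rw [← algebraMap_smul B (r p), ← map_smul, hrt p, smul_comm, hGkill p _ (htx p), map_zero]
    obtain ⟨⟨_, k, rfl⟩, hk⟩ := (IsLocalizedModule.eq_zero_iff (Submonoid.powers a) _).mp h0
    refine ⟨k + 1, ?_⟩
    rw [Submonoid.smul_def] at hk
    rw [show (a * G) ^ (k + 1) = a * G ^ k * (a ^ k * G) by ring, mul_smul, mul_smul (a ^ k) G, hk, smul_zero]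
  choose g hg hfpg using hloc
  refine Module.FinitePresentation.of_localizationSpan (Set.range g) ?_ ?_
  · by_contra hne
    obtain ⟨m, hm, hle⟩ := Ideal.exists_le_maximal _ hne
    exact hg ⟨m, hm.isPrime⟩ (hle (Ideal.subset_span ⟨⟨m, hm.isPrime⟩, rfl⟩))
  · rintro ⟨_, q, rfl⟩
    exact hfpg q

end Groth.L06.FPDenseLocal
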