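import Groth.Prelude.Def_FSRel
import Mathlib.RingTheory.Kaehler.Basic
import Mathlib.RingTheory.Derivation.ToSquareZero
import Mathlib.Algebra.TrivSqZeroExt.Basic
import Mathlib.RingTheory.TensorProduct.Basic

/-! Relative formal smoothness and left invertibility of `Ω_{B/A} ⊗ C → Ω_{C/A}`. -/

set_option autoImplicit false
set_option maxSynthPendingDepth 3
set_option linter.style.haveILetI false
universe u

namespace Groth.L06.FSRelKaehler

open scoped TensorProduct

variable (A B C : Type u) [CommRing A] [CommRing B] [CommRing C] [Algebra A B] [Algebra B C] [Algebra A C]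
  [IsScalarTower A B C]

theorem of_leftInverse (l : Ω[C⁄A] →ₗ[C] C ⊗[B] Ω[B⁄A])
    (hl : l ∘ₗ KaehlerDifferential.mapBaseChange A B C = LinearMap.id) : EGA41.IsFormallySmoothRel A B C := by
  intro E _ _ _ _ J hJ u₀ ⟨u, hu⟩
  letI : Algebra C E := u.toRingHom.toAlgebra
  haveI : IsScalarTower A C E := IsScalarTower.of_algebraMap_eq fun a => (u.commutes a).symm
  have hu' : ∀ c, Ideal.Quotient.mk J (u c) = u₀ c := fun c => DFunLike.congr_fun hu c
  let δ : Derivation A B J := derivationToSquareZeroOfLift J hJ (u.comp (IsScalarTower.toAlgHom A B C))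
    (AlgHom.ext fun b => (hu' _).trans (u₀.commutes b))
  have hδ : ∀ b, (δ b : E) = u (algebraMap B C b) - algebraMap B E b := fun b => rfl
  haveI : IsScalarTower B C J := IsScalarTower.of_algebraMap_smul fun b j => Subtype.ext (by
    show u (algebraMap B C b) * (j : E) = b • (j : E)
    rw [Algebra.smul_def, ← sub_eq_zero, ← sub_mul, ← Ideal.mem_bot, ← hJ, pow_two]
    exact Ideal.mul_mem_mul (hδ b ▸ (δ b).2) j.2)
  let D : Derivation A C J := ((LinearMap.liftBaseChange C δ.liftKaehlerDifferential).comp l).compDer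
    (KaehlerDifferential.D A C)
  have hD : ∀ b, D (algebraMap B C b) = δ b := fun b => by
    show LinearMap.liftBaseChange C δ.liftKaehlerDifferential (l (KaehlerDifferential.D A C (algebraMap B C b))) = δ b
    have h1 := LinearMap.congr_fun hl ((1 : C) ⊗ₜ[B] KaehlerDifferential.D A B b)
    rw [LinearMap.comp_apply, KaehlerDifferential.mapBaseChange_tmul, one_smul, KaehlerDifferential.map_D,
      LinearMap.id_apply] at h1
    rw [h1, LinearMap.liftBaseChange_tmul, one_smul, Derivation.liftKaehlerDifferential_comp_D]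
  let v : C →ₐ[A] E := liftOfDerivationToSquareZero J hJ (-D)
  have hv : ∀ c, v c = -(D c : E) + u c := fun c => rfl
  refine ⟨AlgHom.mk v.toRingHom fun b => ?_, AlgHom.ext fun c => ?_⟩
  · show v (algebraMap B C b) = algebraMap B E b
    rw [hv, hD, hδ]
    ring
  · show Ideal.Quotient.mk J (v c) = u₀ c
    rw [hv, map_add, map_neg, Ideal.Quotient.eq_zero_iff_mem.mpr (D c).2, neg_zero, zero_add, hu']

instance : IsCentralScalar C (C ⊗[B] Ω[B⁄A]) := ⟨fun c x => by
  induction x using TensorProduct.induction_on with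
  | zero => simp
  | add x y hx hy => rw [smul_add, smul_add, hx, hy]
  | tmul a w => rw [TensorProduct.smul_tmul', TensorProduct.smul_tmul', op_smul_eq_smul]⟩

/-- `C ⊕ (C ⊗ Ω)`, to carry the `B`-algebra structure twisted by the universal derivation -/
def Test : Type u := TrivSqZeroExt C (C ⊗[B] Ω[B⁄A])

noncomputable instance : CommRing (Test A B C) :=
  inferInstanceAs (CommRing (TrivSqZeroExt C (C ⊗[B] Ω[B⁄A])))

noncomputable def toTest : B →+* Test A B C :=
  ({ toFun := fun b => TrivSqZeroExt.inl (algebraMap B C b) +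
        TrivSqZeroExt.inr ((1 : C) ⊗ₜ[B] KaehlerDifferential.D A B b)
     map_one' := by ext <;> simp
     map_mul' := fun x y => by
      ext
      · simp
      · simp [TensorProduct.tmul_add, TensorProduct.tmul_smul, algebraMap_smul, add_comm]
     map_zero' := by ext <;> simp
     map_add' := fun x y => by ext <;> simp [TensorProduct.tmul_add] } : B →+* TrivSqZeroExt C (C ⊗[B] Ω[B⁄A]))

noncomputable instance algB : Algebra B (Test A B C) := (toTest A B C).toAlgebra

noncomputable instance algA : Algebra A (Test A B C) := ((toTest A B C).comp (algebraMap A B)).toAlgebra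

instance : IsScalarTower A B (Test A B C) := IsScalarTower.of_algebraMap_eq' rfl

noncomputable def toC : Test A B C →+* C := (TrivSqZeroExt.fstHom C C (C ⊗[B] Ω[B⁄A])).toRingHom

noncomputable def ofC : C →+* Test A B C := (TrivSqZeroExt.inlHom C (C ⊗[B] Ω[B⁄A]))

theorem exists_leftInverse (h : EGA41.IsFormallySmoothRel A B C) :
    ∃ l : Ω[C⁄A] →ₗ[C] C ⊗[B] Ω[B⁄A], l ∘ₗ KaehlerDifferential.mapBaseChange A B C = LinearMap.id := by
  let fst : Test A B C → C := fun x => (x : TrivSqZeroExt C (C ⊗[B] Ω[B⁄A])).fst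
  let snd : Test A B C → C ⊗[B] Ω[B⁄A] := fun x => (x : TrivSqZeroExt C (C ⊗[B] Ω[B⁄A])).snd
  have fst_add : ∀ x y, fst (x + y) = fst x + fst y := fun x y => TrivSqZeroExt.fst_add x y
  have snd_add : ∀ x y, snd (x + y) = snd x + snd y := fun x y => TrivSqZeroExt.snd_add x y
  have snd_mul : ∀ x y, snd (x * y) = fst x • snd y + fst y • snd x := fun x y =>
    (TrivSqZeroExt.snd_mul x y).trans (by rw [op_smul_eq_smul])
  have fst_f : ∀ b, fst (toTest A B C b) = algebraMap B C b := fun b =>
    (TrivSqZeroExt.fst_add _ _).trans (by rw [TrivSqZeroExt.fst_inl, TrivSqZeroExt.fst_inr, add_zero])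
  have snd_f : ∀ b, snd (toTest A B C b) = (1 : C) ⊗ₜ[B] KaehlerDifferential.D A B b := fun b =>
    (TrivSqZeroExt.snd_add _ _).trans (by rw [TrivSqZeroExt.snd_inl, TrivSqZeroExt.snd_inr, zero_add])
  let J : Ideal (Test A B C) := RingHom.ker (toC A B C)
  have hJ : J ^ 2 = ⊥ := by
    rw [eq_bot_iff, pow_two, Ideal.mul_le]
    intro x (hx : fst x = 0) y (hy : fst y = 0)
    rw [Ideal.mem_bot]
    refine TrivSqZeroExt.ext ?_ ?_
    · exact (TrivSqZeroExt.fst_mul x y).trans (by rw [show TrivSqZeroExt.fst x = 0 from hx, zero_mul]; rfl)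
    · exact (snd_mul x y).trans (by rw [hx, hy, zero_smul, zero_smul, add_zero]; rfl)
  have hinlA : ∀ a, ofC A B C (algebraMap A C a) = algebraMap A (Test A B C) a := fun a => by
    refine TrivSqZeroExt.ext ?_ ?_
    · exact (IsScalarTower.algebraMap_apply A B C a).trans (fst_f _).symm
    · show (TrivSqZeroExt.inl (algebraMap A C a) : TrivSqZeroExt C (C ⊗[B] Ω[B⁄A])).snd = snd (toTest A B C (algebraMap A B a))
      rw [snd_f, TrivSqZeroExt.snd_inl, Derivation.map_algebraMap, TensorProduct.tmul_zero]
  let u : C →ₐ[A] Test A B C := AlgHom.mk (ofC A B C) hinlA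
  let u₀ : C →ₐ[B] Test A B C ⧸ J := AlgHom.mk ((Ideal.Quotient.mk J).comp (ofC A B C)) fun b =>
    Ideal.Quotient.eq.mpr (show toC A B C (ofC A B C (algebraMap B C b) - toTest A B C b) = 0 by
      rw [map_sub, show toC A B C (toTest A B C b) = algebraMap B C b from fst_f b]
      exact sub_self _)
  obtain ⟨v, hv⟩ := h (Test A B C) J hJ u₀ ⟨u, AlgHom.ext fun c => rfl⟩
  have hv1 : ∀ c, fst (v c) = c := fun c => by
    have h1 : Ideal.Quotient.mk J (v c) = Ideal.Quotient.mk J (ofC A B C c) := DFunLike.congr_fun hv c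
    rw [Ideal.Quotient.eq] at h1
    have h2 : toC A B C (v c) - toC A B C (ofC A B C c) = 0 := (map_sub _ _ _).symm.trans h1
    exact sub_eq_zero.mp h2
  let D : Derivation A C (C ⊗[B] Ω[B⁄A]) := Derivation.mk'
    { toFun := fun c => snd (v c)
      map_add' := fun x y => by simp only [map_add, snd_add]
      map_smul' := fun a c => by
        show snd (v (a • c)) = a • snd (v c)
        rw [Algebra.smul_def, map_mul, snd_mul, hv1, hv1, IsScalarTower.algebraMap_apply A B C, AlgHom.commutes]
        show _ • _ + c • snd (toTest A B C (algebraMap A B a)) = _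
        rw [snd_f, Derivation.map_algebraMap, TensorProduct.tmul_zero, smul_zero, add_zero, algebraMap_smul,
          algebraMap_smul] }
    fun x y => by
      show snd (v (x * y)) = x • snd (v y) + y • snd (v x)
      rw [map_mul, snd_mul, hv1, hv1]
  refine ⟨D.liftKaehlerDifferential, ?_⟩
  have key : ∀ w, D.liftKaehlerDifferential (KaehlerDifferential.mapBaseChange A B C (1 ⊗ₜ[B] w)) = (1 : C) ⊗ₜ[B] w := by
    intro w
    have hw : w ∈ Submodule.span B (Set.range (KaehlerDifferential.D A B)) := by
      rw [KaehlerDifferential.span_range_derivation]; exact Submodule.mem_top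
    induction hw using Submodule.span_induction with
    | mem x hx =>
      obtain ⟨b, rfl⟩ := hx
      rw [KaehlerDifferential.mapBaseChange_tmul, one_smul, KaehlerDifferential.map_D,
        Derivation.liftKaehlerDifferential_comp_D]
      show snd (v (algebraMap B C b)) = _
      rw [AlgHom.commutes]
      exact snd_f b
    | zero => simp
    | add x y _ _ hx hy => rw [TensorProduct.tmul_add, map_add, map_add, hx, hy]
    | smul b x _ hx =>
      rw [show (1 : C) ⊗ₜ[B] (b • x) = algebraMap B C b • ((1 : C) ⊗ₜ[B] x) by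
        rw [algebraMap_smul, TensorProduct.tmul_smul], map_smul, map_smul, hx]
  refine LinearMap.ext fun z => ?_
  induction z using TensorProduct.induction_on with
  | zero => simp
  | add x y hx hy => rw [map_add, map_add, hx, hy]
  | tmul c w =>
    rw [LinearMap.comp_apply, LinearMap.id_apply, show c ⊗ₜ[B] w = c • ((1 : C) ⊗ₜ[B] w) by
      rw [TensorProduct.smul_tmul', smul_eq_mul, mul_one], map_smul, map_smul, key]

theorem isFormallySmoothRel_iff :
    (∃ l : Ω[C⁄A] →ₗ[C] C ⊗[B] Ω[B⁄A], l ∘ₗ KaehlerDifferential.mapBaseChange A B C = LinearMap.id) ↔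
      EGA41.IsFormallySmoothRel A B C :=
  ⟨fun ⟨l, hl⟩ => of_leftInverse A B C l hl, exists_leftInverse A B C⟩

end Groth.L06.FSRelKaehler
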