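import Groth.Agent.L23.BranchNbhd
import Groth.Agent.L23.BranchSum
import Groth.Agent.L23.GeomUnibranchSH
import Groth.Agent.L23.StalkHenselRing
import Groth.Agent.L18.FiberStalk
import Mathlib.AlgebraicGeometry.Fiber
import Mathlib.RingTheory.Ideal.GoingDown

/-!
# Branches of fibres are read on étale neighbourhoods of the total space
-/

set_option linter.style.haveILetI false
set_option backward.isDefEq.respectTransparency.types false
set_option maxSynthPendingDepth 3

universe u

open CategoryTheory CategoryTheory.Limits AlgebraicGeometry IsLocalRing Groth.L05.Henselization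

namespace Groth.L06.FibreBranches

section ring

/-- Minimal primes of the target of a surjection are the minimal primes over the kernel. -/
theorem encard_minimalPrimes_of_surjective {R S : Type u} [CommRing R] [CommRing S] {σ : R →+* S}
    (hσ : Function.Surjective σ) :
    (minimalPrimes S).encard = (RingHom.ker σ).minimalPrimes.encard := by
  rw [RingHom.ker_eq_comap_bot, Ideal.comap_minimalPrimes_eq_of_surjective hσ,
    ((Ideal.comap_injective_of_surjective σ hσ).injOn).encard_image]

theorem encard_minimalPrimes_map_equiv {R S : Type u} [CommRing R] [CommRing S] (e : R ≃+* S) (I : Ideal R) :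
    (I.map (e : R →+* S)).minimalPrimes.encard = I.minimalPrimes.encard := by
  have hσ : Function.Surjective ((Ideal.Quotient.mk (I.map (e : R →+* S))).comp (e : R →+* S)) :=
    Ideal.Quotient.mk_surjective.comp e.surjective
  have hker : RingHom.ker ((Ideal.Quotient.mk (I.map (e : R →+* S))).comp (e : R →+* S)) = I := by
    rw [← RingHom.comap_ker, Ideal.mk_ker]
    exact Ideal.comap_map_of_bijective (e : R →+* S) e.bijective
  conv_rhs => rw [← hker]
  rw [← encard_minimalPrimes_of_surjective hσ, encard_minimalPrimes_of_surjective Ideal.Quotient.mk_surjective,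
    Ideal.mk_ker]

/-- Finitely many minimal primes over an extended ideal stay distinct at some stage. -/
theorem exists_stage {A K : Type u} [CommRing A] [Field K] [Algebra A K] (J : Ideal A)
    (F : Finset (Ideal (Col A K))) (hF : ∀ P ∈ F, P ∈ (J.map (algebraMap A (Col A K))).minimalPrimes) :
    ∃ (X : Obj A K) (G : Finset (Ideal X.R)), G.card = F.card ∧
      ∀ P ∈ G, P ∈ (J.map (algebraMap A X.R)).minimalPrimes ∧ P ≤ RingHom.ker X.φ := by
  classical
  have hsep : ∀ P Q : Ideal (Col A K), P ≠ Q → ∃ b, ¬(b ∈ P ↔ b ∈ Q) := fun P Q h => by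
    by_contra hh
    push Not at hh
    exact h (Ideal.ext hh)
  choose! w hw using hsep
  obtain ⟨X, hX⟩ := exists_lift_finset (A := A) (K := K) ((F ×ˢ F).image fun PQ => w PQ.1 PQ.2)
  refine ⟨X, F.image (Ideal.comap (ι X).toRingHom), Finset.card_image_of_injOn fun P hP Q hQ e => ?_,
    fun P hP => ?_⟩
  · by_contra hne
    obtain ⟨x, hx⟩ := hX _ (Finset.mem_image_of_mem _ (Finset.mk_mem_product hP hQ))
    refine hw P Q hne ?_
    rw [← show ι X x = w P Q from hx]
    exact SetLike.ext_iff.1 e x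
  · obtain ⟨Q, hQ, rfl⟩ := Finset.mem_image.1 hP
    letI : Algebra X.R (Col A K) := (ι X).toRingHom.toAlgebra
    haveI : Module.Flat X.R (Col A K) := flat_ι X
    haveI := (hF Q hQ).isPrime
    have hmap : (J.map (algebraMap A X.R)).map (algebraMap X.R (Col A K)) = J.map (algebraMap A (Col A K)) := by
      rw [Ideal.map_map]
      congr 1
      exact RingHom.ext fun a => (ι X).commutes a
    refine ⟨⟨⟨Ideal.IsPrime.comap _, ?_⟩, fun P' hP' hle => ?_⟩, fun x hx => ?_⟩
    · refine Ideal.map_le_iff_le_comap.1 ?_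
      exact hmap.trans_le (hF Q hQ).1.2
    · haveI := hP'.1
      haveI : Q.LiesOver (Q.comap (algebraMap X.R (Col A K))) := ⟨rfl⟩
      obtain ⟨Q', hQ'Q, hQ', hQ'o⟩ :=
        Ideal.exists_ideal_le_liesOver_of_le Q (p := P') (q := Q.comap (algebraMap X.R (Col A K))) hle
      have hJ : J.map (algebraMap A (Col A K)) ≤ Q' :=
        hmap.symm.trans_le (Ideal.map_le_iff_le_comap.2 (hP'.2.trans hQ'o.over.le))
      exact (Ideal.comap_mono ((hF Q hQ).2 ⟨hQ', hJ⟩ hQ'Q)).trans hQ'o.over.ge
    · rw [RingHom.mem_ker]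
      by_contra h
      refine (hF Q hQ).isPrime.ne_top (Ideal.eq_top_of_isUnit_mem _ (Ideal.mem_comap.1 hx) ?_)
      exact isUnit_of_isUnit_ε (by
        rw [show (ι X).toRingHom x = ι X x from rfl, ε_ι]
        exact isUnit_iff_ne_zero.2 h)

/-- Minimal primes over an ideal inside a prime survive in the local ring there. -/
theorem card_le_encard_map {R L : Type u} [CommRing R] [CommRing L] [Algebra R L] (q : Ideal R) [q.IsPrime]
    [IsLocalization.AtPrime L q] (J : Ideal R) (G : Finset (Ideal R))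
    (hG : ∀ P ∈ G, P ∈ J.minimalPrimes ∧ P ≤ q) :
    (G.card : ℕ∞) ≤ (J.map (algebraMap R L)).minimalPrimes.encard := by
  have hcomap : ∀ P ∈ G, (P.map (algebraMap R L)).comap (algebraMap R L) = P := fun P hP =>
    IsLocalization.comap_map_of_isPrime_disjoint q.primeCompl L (hG P hP).1.isPrime
      (Set.disjoint_left.2 fun x hx hxP => hx ((hG P hP).2 hxP))
  rw [← Set.encard_coe_eq_coe_finsetCard]
  have hinj : Set.InjOn (fun P : Ideal R => P.map (algebraMap R L)) G := fun P hP Q hQ e => by
    rw [← hcomap P hP, ← hcomap Q hQ]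
    exact congrArg _ e
  rw [← hinj.encard_image, IsLocalization.minimalPrimes_map q.primeCompl L J]
  refine Set.encard_le_encard ?_
  rintro _ ⟨P, hP, rfl⟩
  show (P.map (algebraMap R L)).comap (algebraMap R L) ∈ J.minimalPrimes
  rw [hcomap P hP]
  exact (hG P hP).1

theorem numGeomBranches_ringEquiv {A A' : Type u} [CommRing A] [IsLocalRing A] [CommRing A'] [IsLocalRing A']
    (e : A ≃+* A') : Brnch.numGeomBranches A = Brnch.numGeomBranches A' := by
  obtain ⟨T, _, _, _, _, hT⟩ := exists_isStrictHenselization A'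
  haveI := flat_of_isStrictHenselization A' T
  rw [← Groth.L23.Branch.card_minimalPrimes_strict A' T]
  letI : Algebra A T := ((algebraMap A' T).comp e.toRingHom).toAlgebra
  haveI : IsLocalHom (algebraMap A T) := ⟨fun x hx => by
    change IsUnit (algebraMap A' T (e x)) at hx
    exact (isUnit_map_iff e x).1 (isUnit_of_map_unit (algebraMap A' T) _ hx)⟩
  haveI : Hensel.IsStrictHenselization A T :=
    Groth.L23.SH.isStrictHenselization_of_baseEquiv (hT := hT) e fun _ => rfl
  haveI := flat_of_isStrictHenselization A T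
  exact (Groth.L23.Branch.card_minimalPrimes_strict A T).symm

theorem local_quotient_data {A S : Type u} [CommRing A] [IsLocalRing A] [CommRing S] [IsLocalRing S]
    [Algebra A S] [IsLocalHom (algebraMap A S)] {I : Ideal A} (hI : I ≠ ⊤) :
    IsLocalRing (A ⧸ I) ∧ IsLocalRing (S ⧸ I.map (algebraMap A S)) ∧
      IsLocalHom (algebraMap (A ⧸ I) (S ⧸ I.map (algebraMap A S))) := by
  have hJ : I.map (algebraMap A S) ≤ maximalIdeal S :=
    Ideal.map_le_iff_le_comap.2 fun a ha => fun h =>
      (le_maximalIdeal hI ha) (isUnit_of_map_unit (algebraMap A S) a h)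
  haveI : Nontrivial (A ⧸ I) := Ideal.Quotient.nontrivial_iff.mpr hI
  haveI : Nontrivial (S ⧸ I.map (algebraMap A S)) := Ideal.Quotient.nontrivial_iff.mpr fun h =>
    (maximalIdeal.isMaximal S).ne_top (top_le_iff.1 (h ▸ hJ))
  refine ⟨.of_surjective' _ Ideal.Quotient.mk_surjective, .of_surjective' _ Ideal.Quotient.mk_surjective,
    ⟨fun x hx => ?_⟩⟩
  obtain ⟨a, rfl⟩ := Ideal.Quotient.mk_surjective x
  haveI : IsLocalRing (S ⧸ I.map (algebraMap A S)) := .of_surjective' _ Ideal.Quotient.mk_surjective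
  haveI : IsLocalHom (Ideal.Quotient.mk (I.map (algebraMap A S))) :=
    IsLocalHom.of_surjective _ Ideal.Quotient.mk_surjective
  change IsUnit (Ideal.Quotient.mk (I.map (algebraMap A S)) (algebraMap A S a)) at hx
  exact ((isUnit_of_map_unit (algebraMap A S) a
    (isUnit_of_map_unit (Ideal.Quotient.mk (I.map (algebraMap A S))) _ hx))).map _

variable {A T C : Type u} [CommRing A] [IsLocalRing A] [CommRing T] [IsLocalRing T] [Algebra A T]
  [IsLocalHom (algebraMap A T)] [CommRing C] [IsLocalRing C] (π : A →+* C) (hπ : Function.Surjective π)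

include hπ in
theorem numBranches_quotient [Hensel.IsHenselization A T] :
    Brnch.numBranches C = ((RingHom.ker π).map (algebraMap A T)).minimalPrimes.encard := by
  obtain ⟨_, _, _⟩ := local_quotient_data (S := T) (RingHom.ker_ne_top π)
  haveI := Groth.L23.Branch.isHenselization_quotient (A := A) (S := T) (RingHom.ker π)
  haveI := flat_of_isHenselization (A ⧸ RingHom.ker π) (T ⧸ (RingHom.ker π).map (algebraMap A T))
  rw [← Groth.L23.Branch.numBranches_ringEquiv (RingHom.quotientKerEquivOfSurjective hπ),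
    ← Groth.L23.Branch.card_minimalPrimes_hens (A ⧸ RingHom.ker π) (T ⧸ (RingHom.ker π).map (algebraMap A T))]
  exact (encard_minimalPrimes_of_surjective Ideal.Quotient.mk_surjective).trans (by rw [Ideal.mk_ker])

include hπ in
theorem numGeomBranches_quotient [Hensel.IsStrictHenselization A T] :
    Brnch.numGeomBranches C = ((RingHom.ker π).map (algebraMap A T)).minimalPrimes.encard := by
  obtain ⟨_, _, _⟩ := local_quotient_data (S := T) (RingHom.ker_ne_top π)
  haveI := Groth.L23.SH.isStrictHenselization_quotient (A := A) (S := T) (RingHom.ker π)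
  haveI := flat_of_isStrictHenselization (A ⧸ RingHom.ker π) (T ⧸ (RingHom.ker π).map (algebraMap A T))
  rw [← numGeomBranches_ringEquiv (RingHom.quotientKerEquivOfSurjective hπ),
    ← Groth.L23.Branch.card_minimalPrimes_strict (A ⧸ RingHom.ker π) (T ⧸ (RingHom.ker π).map (algebraMap A T))]
  exact (encard_minimalPrimes_of_surjective Ideal.Quotient.mk_surjective).trans (by rw [Ideal.mk_ker])

end ring

section prime

variable {B : Type u} [CommRing B] (p : Ideal B) [p.IsPrime] {C : Type u} [CommRing C] [IsLocalRing C]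
  (π : Localization.AtPrime p →+* C) (hπ : Function.Surjective π)

omit [IsLocalRing C] in
theorem ker_eq_map : RingHom.ker π =
    (RingHom.ker (π.comp (algebraMap B (Localization.AtPrime p)))).map (algebraMap B (Localization.AtPrime p)) := by
  rw [← RingHom.comap_ker]
  exact (IsLocalization.map_comap p.primeCompl (Localization.AtPrime p) _).symm

include hπ in
theorem numBranches_col : Brnch.numBranches C =
    ((RingHom.ker (π.comp (algebraMap B (Localization.AtPrime p)))).map
      (algebraMap B (Col B p.ResidueField))).minimalPrimes.encard := by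
  obtain ⟨Rh, _, _, _, _, hRh⟩ := exists_isHenselization (Localization.AtPrime p)
  letI : Algebra B Rh :=
    ((algebraMap (Localization.AtPrime p) Rh).comp (algebraMap B (Localization.AtPrime p))).toAlgebra
  haveI : IsScalarTower B (Localization.AtPrime p) Rh := IsScalarTower.of_algebraMap_eq fun r => rfl
  obtain ⟨e⟩ := nonempty_algEquiv_atPrime p Rh
  rw [numBranches_quotient (T := Rh) π hπ, ← encard_minimalPrimes_map_equiv e.toRingEquiv]
  conv_lhs => rw [ker_eq_map p π, Ideal.map_map, ← IsScalarTower.algebraMap_eq]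
  rw [Ideal.map_map]
  congr 3
  exact RingHom.ext fun b => (e.commutes b).symm

include hπ in
theorem numGeomBranches_col [Algebra B (SeparableClosure p.ResidueField)]
    [IsScalarTower B p.ResidueField (SeparableClosure p.ResidueField)] : Brnch.numGeomBranches C =
    ((RingHom.ker (π.comp (algebraMap B (Localization.AtPrime p)))).map
      (algebraMap B (Col B (SeparableClosure p.ResidueField)))).minimalPrimes.encard := by
  set L := SeparableClosure p.ResidueField
  letI : Algebra (Localization.AtPrime p) L :=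
    ((algebraMap p.ResidueField L).comp (algebraMap (Localization.AtPrime p) p.ResidueField)).toAlgebra
  haveI : IsScalarTower (Localization.AtPrime p) p.ResidueField L := IsScalarTower.of_algebraMap_eq' rfl
  haveI : IsScalarTower B (Localization.AtPrime p) L := IsScalarTower.of_algebraMap_eq fun a => by
    rw [IsScalarTower.algebraMap_apply B p.ResidueField L,
      IsScalarTower.algebraMap_apply B (Localization.AtPrime p) p.ResidueField]
    rfl
  haveI : Algebra.IsSeparable p.ResidueField L := inferInstance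
  haveI : Algebra.IsSeparable (ResidueField (Localization.AtPrime p)) L :=
    inferInstanceAs (Algebra.IsSeparable p.ResidueField (SeparableClosure p.ResidueField))
  haveI : IsScalarTower (Localization.AtPrime p) (ResidueField (Localization.AtPrime p)) L :=
    ‹IsScalarTower (Localization.AtPrime p) p.ResidueField L›
  haveI := isLocalRing_col (Localization.AtPrime p) L
  haveI := isLocalHom_col (Localization.AtPrime p) L
  haveI := isStrictHenselization_col (Localization.AtPrime p) L
  obtain ⟨e, he⟩ := Groth.L23.SH.exists_colEquiv B p L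
  rw [numGeomBranches_quotient (T := Col (Localization.AtPrime p) L) π hπ, ← encard_minimalPrimes_map_equiv e]
  conv_lhs => rw [ker_eq_map p π, Ideal.map_map, Ideal.map_map]
  congr 3
  exact RingHom.ext he

end prime

section scheme

variable {X S : Scheme.{u}} (f : X ⟶ S)

/-- The ideal of the fibre through `y` in the sections over `V`. -/
noncomputable def fibreIdeal {V : X.Opens} (y : X) (hy : y ∈ V) : Ideal Γ(X, V) :=
  ((maximalIdeal (S.presheaf.stalk (f y))).map (f.stalkMap y).hom).comap (X.presheaf.germ V y hy).hom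

theorem fibreIdeal_congr {V : X.Opens} {y y' : X} (h : y = y') (hy : y ∈ V) (hy' : y' ∈ V) :
    fibreIdeal f y hy = fibreIdeal f y' hy' := by
  subst h
  rfl

theorem setOf_components (s : S) (z : f.fiber s) (x : X) (hz : f.fiberι s z = x) :
    {Z : Set (f.fiber s) | Z ∈ irreducibleComponents (f.fiber s) ∧ ∃ u' ∈ Z, f.fiberι s u' = x} =
      {Z : Set (f.fiber s) | Z ∈ irreducibleComponents (f.fiber s) ∧ z ∈ Z} := by
  ext Z
  refine and_congr_right fun _ => ⟨fun ⟨u', h, h'⟩ => ?_, fun h => ⟨z, h, hz⟩⟩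
  obtain rfl : u' = z := (f.fiberι s).isEmbedding.injective (h'.trans hz.symm)
  exact h

theorem residueFieldMap_fiberι_bijective (s : S) (z : f.fiber s) :
    Function.Bijective ((f.fiberι s).residueFieldMap z) := by
  refine ⟨((f.fiberι s).residueFieldMap z).hom.injective, fun a => ?_⟩
  obtain ⟨b, rfl⟩ := Scheme.residue_surjective (f.fiber s) z a
  obtain ⟨c, rfl⟩ := (f.fiberι s).stalkMap_surjective z b
  refine ⟨X.residue _ c, ?_⟩
  show (X.residue _ ≫ (f.fiberι s).residueFieldMap z) c = _
  rw [Scheme.residue_residueFieldMap]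
  rfl

/-- An étale morphism to `X` gives one between the fibres. -/
theorem exists_fibre_map {U : Scheme.{u}} (g : U ⟶ X) [Etale g] (s : S) (u' : (g ≫ f).fiber s) (x' : f.fiber s)
    (h : g ((g ≫ f).fiberι s u') = f.fiberι s x') :
    ∃ gs : (g ≫ f).fiber s ⟶ f.fiber s, Etale gs ∧ gs u' = x' ∧
      (Function.Bijective (g.residueFieldMap ((g ≫ f).fiberι s u')) →
        Function.Bijective (gs.residueFieldMap u')) := by
  let gs : (g ≫ f).fiber s ⟶ f.fiber s := pullback.lift ((g ≫ f).fiberι s ≫ g)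
    ((g ≫ f).fiberToSpecResidueField s) (by rw [Category.assoc]; exact (g ≫ f).fiber_fac s)
  have h1 : gs ≫ f.fiberι s = (g ≫ f).fiberι s ≫ g := pullback.lift_fst _ _ _
  have h2 : gs ≫ f.fiberToSpecResidueField s = (g ≫ f).fiberToSpecResidueField s := pullback.lift_snd _ _ _
  have hpb : IsPullback ((g ≫ f).fiberι s) gs g (f.fiberι s) := by
    refine IsPullback.of_bot ?_ h1.symm (IsPullback.of_hasPullback f (S.fromSpecResidueField s))
    rw [show gs ≫ pullback.snd _ _ = (g ≫ f).fiberToSpecResidueField s from h2]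
    exact IsPullback.of_hasPullback _ _
  have hgs : gs u' = x' := by
    refine (f.fiberι s).isEmbedding.injective ?_
    rw [← Scheme.Hom.comp_apply, h1, Scheme.Hom.comp_apply, h]
  refine ⟨gs, MorphismProperty.of_isPullback (P := @Etale) hpb inferInstance, hgs, fun hres => ?_⟩
  have hcomp : Function.Bijective (((g ≫ f).fiberι s ≫ g).residueFieldMap u') := by
    rw [Scheme.residueFieldMap_comp]
    exact (residueFieldMap_fiberι_bijective (g ≫ f) s u').comp hres
  rw [← h1, Scheme.residueFieldMap_comp] at hcomp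
  exact (Function.Bijective.of_comp_iff _ (residueFieldMap_fiberι_bijective f s (gs u'))).1 hcomp

/-- The data of the local ring of the fibre. -/
theorem exists_fibre_quotient (s : S) (x' : f.fiber s) {V : X.Opens} (hV : IsAffineOpen V)
    (hx : f.fiberι s x' ∈ V) :
    ∃ π : Localization.AtPrime (hV.primeIdealOf ⟨_, hx⟩).asIdeal →+* (f.fiber s).presheaf.stalk x',
      Function.Surjective π ∧
        RingHom.ker (π.comp (algebraMap Γ(X, V) _)) = fibreIdeal f (f.fiberι s x') hx := by
  haveI := hV.isLocalization_stalk ⟨_, hx⟩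
  letI := X.presheaf.algebra_section_stalk (⟨_, hx⟩ : V)
  let e := IsLocalization.algEquiv (hV.primeIdealOf ⟨_, hx⟩).asIdeal.primeCompl
    (Localization.AtPrime (hV.primeIdealOf ⟨_, hx⟩).asIdeal) (X.presheaf.stalk (f.fiberι s x'))
  obtain ⟨hsurj, hker⟩ := Groth.L18.stalkMap_fiberι f s x'
  refine ⟨((f.fiberι s).stalkMap x').hom.comp e.toRingEquiv.toRingHom, hsurj.comp e.surjective, ?_⟩
  rw [RingHom.comp_assoc, show e.toRingEquiv.toRingHom.comp (algebraMap Γ(X, V) _) =
    (X.presheaf.germ V _ hx).hom from RingHom.ext fun b => e.commutes b, ← RingHom.comap_ker, hker]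
  rfl

/-- The local ring of the fibre of `U` at the point over `u` in terms of sections. -/
theorem encard_components_fibre {U : Scheme.{u}} (g : U ⟶ X) (s : S) (u' : (g ≫ f).fiber s) (x : X)
    (hgx : g ((g ≫ f).fiberι s u') = x) {V : X.Opens} (hV : IsAffineOpen V) (hxV : x ∈ V)
    {W : U.Opens} (e : W ≤ g ⁻¹ᵁ V) (hu : (g ≫ f).fiberι s u' ∈ W) :
    {Z : Set ((g ≫ f).fiber s) | Z ∈ irreducibleComponents ((g ≫ f).fiber s) ∧ u' ∈ Z}.encard =
      ((fibreIdeal f x hxV).map ((U.presheaf.germ W _ hu).hom.comp (g.appLE V W e).hom)).minimalPrimes.encard := by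
  obtain ⟨hsurj, hker⟩ := Groth.L18.stalkMap_fiberι (g ≫ f) s u'
  rw [Groth.L23.Branch.encard_components, encard_minimalPrimes_of_surjective hsurj, hker]
  congr 2
  set w := (g ≫ f).fiberι s u'
  rw [fibreIdeal_congr f hgx.symm hxV (e hu)]
  haveI := hV.isLocalization_stalk ⟨g w, e hu⟩
  letI := X.presheaf.algebra_section_stalk (⟨g w, e hu⟩ : V)
  have hc : (U.presheaf.germ W w hu).hom.comp (g.appLE V W e).hom =
      (g.stalkMap w).hom.comp (X.presheaf.germ V (g w) (e hu)).hom :=
    RingHom.ext fun r => (Groth.L23.Branch.germ_stalkMap_appLE g e w hu r).symm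
  have hm : (fibreIdeal f (g w) (e hu)).map (X.presheaf.germ V (g w) (e hu)).hom =
      (maximalIdeal (S.presheaf.stalk (f (g w)))).map (f.stalkMap (g w)).hom :=
    IsLocalization.map_comap (hV.primeIdealOf ⟨g w, e hu⟩).asIdeal.primeCompl (X.presheaf.stalk (g w)) _
  rw [hc, ← Ideal.map_map, hm, Ideal.map_map, Scheme.Hom.stalkMap_comp]
  rfl

/-- A stage of the colimit gives an étale neighbourhood with that many components in the fibre. -/
theorem exists_nbhd_of_stage (s : S) (x : X) (hxs : f x = s) {V : X.Opens} (hV : IsAffineOpen V) (hxV : x ∈ V)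
    {K : Type u} [Field K] [Algebra Γ(X, V) K]
    (hK : RingHom.ker (algebraMap Γ(X, V) K) = (hV.primeIdealOf ⟨x, hxV⟩).asIdeal) (m : ℕ)
    (hm : (m : ℕ∞) ≤ ((fibreIdeal f x hxV).map (algebraMap Γ(X, V) (Col Γ(X, V) K))).minimalPrimes.encard) :
    ∃ Y : Obj Γ(X, V) K, ∀ (u : ↥(Spec (CommRingCat.of Y.R))), u.asIdeal = RingHom.ker Y.φ →
      let g := Spec.map (CommRingCat.ofHom (algebraMap Γ(X, V) Y.R)) ≫ hV.fromSpec
      Etale g ∧ g u = x ∧ (m : ℕ∞) ≤ {Z : Set ((g ≫ f).fiber s) |
        Z ∈ irreducibleComponents ((g ≫ f).fiber s) ∧ ∃ u' ∈ Z, (g ≫ f).fiberι s u' = u}.encard := by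
  obtain ⟨F, hF, hcard⟩ := Set.exists_subset_encard_eq hm
  have hfin : F.Finite := by
    rw [← Set.encard_ne_top_iff, hcard]
    exact ENat.natCast_ne_top m
  obtain ⟨Y, G, hG, hGm⟩ := exists_stage (fibreIdeal f x hxV) hfin.toFinset fun P hP => hF (hfin.mem_toFinset.1 hP)
  refine ⟨Y, fun u hu => ?_⟩
  intro g
  haveI : (RingHom.ker Y.φ).IsPrime := RingHom.ker_isPrime _
  haveI : Etale (Spec.map (CommRingCat.ofHom (algebraMap Γ(X, V) Y.R))) :=
    (HasRingHomProperty.Spec_iff (P := @Etale)).2 (RingHom.etale_algebraMap.2 inferInstance)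
  have hg : Etale g := inferInstanceAs (Etale (Spec.map _ ≫ hV.fromSpec))
  have hgu : g u = x := by
    have h1 : Spec.map (CommRingCat.ofHom (algebraMap Γ(X, V) Y.R)) u = hV.primeIdealOf ⟨x, hxV⟩ := by
      refine PrimeSpectrum.ext ?_
      show u.asIdeal.comap (algebraMap Γ(X, V) Y.R) = _
      rw [hu, ← hK]
      ext r
      simp [RingHom.mem_ker]
    show hV.fromSpec (Spec.map _ u) = x
    rw [h1]
    exact hV.fromSpec_primeIdealOf ⟨x, hxV⟩
  refine ⟨hg, hgu, ?_⟩
  have e : (⊤ : (Spec (CommRingCat.of Y.R)).Opens) ≤ g ⁻¹ᵁ V := by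
    rintro z -
    show hV.fromSpec (Spec.map _ z) ∈ V
    exact hV.range_fromSpec.le ⟨_, rfl⟩
  have happ : g.appLE V ⊤ e =
      CommRingCat.ofHom (algebraMap Γ(X, V) Y.R) ≫ (Scheme.ΓSpecIso (CommRingCat.of Y.R)).inv := by
    rw [← Scheme.Hom.appLE_comp_appLE (Spec.map _) hV.fromSpec V ⊤ ⊤ hV.fromSpec_preimage_self.ge le_top]
    have h1 : hV.fromSpec.appLE V ⊤ hV.fromSpec_preimage_self.ge = (Scheme.ΓSpecIso Γ(X, V)).inv := by
      rw [Scheme.Hom.appLE, hV.fromSpec_app_self, Category.assoc, ← Functor.map_comp]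
      exact (congrArg (_ ≫ ·) ((Spec Γ(X, V)).presheaf.map_id _)).trans (Category.comp_id _)
    have h2 : (Spec.map (CommRingCat.ofHom (algebraMap Γ(X, V) Y.R))).appLE ⊤ ⊤ le_top =
        (Spec.map (CommRingCat.ofHom (algebraMap Γ(X, V) Y.R))).appTop := Scheme.Hom.appLE_eq_app _
    rw [h1, h2, ← Scheme.ΓSpecIso_inv_naturality]
  obtain ⟨u', hu'⟩ : u ∈ Set.range ((g ≫ f).fiberι s) := by
    rw [Scheme.Hom.range_fiberι]
    show f (g u) = s
    rw [hgu, hxs]
  rw [setOf_components (g ≫ f) s u' u hu', encard_components_fibre f g s u' x (by rw [hu', hgu]) hV hxV e trivial]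
  subst hu'
  set w := (g ≫ f).fiberι s u'
  letI : Algebra Y.R ((Spec (CommRingCat.of Y.R)).presheaf.stalk w) :=
    (StructureSheaf.toStalk (CommRingCat.of Y.R) w).hom.toAlgebra
  haveI : IsLocalization.AtPrime ((Spec (CommRingCat.of Y.R)).presheaf.stalk w) (RingHom.ker Y.φ) := by
    simp only [← hu]
    exact StructureSheaf.IsLocalization.to_stalk (CommRingCat.of Y.R) w
  rw [← hcard, hfin.encard_eq_coe_toFinset_card, ← hG]
  refine (card_le_encard_map (L := (Spec (CommRingCat.of Y.R)).presheaf.stalk w) (RingHom.ker Y.φ) _ G hGm).trans_eq ?_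
  rw [happ, Ideal.map_map]
  rfl

/-- The geometric branches of a fibre are read on étale neighbourhoods. -/
theorem exists_nbhd_geom_ge (s : S) (x' : f.fiber s) (m : ℕ)
    (hm : (m : ℕ∞) ≤ Brnch.numGeomBranchesAt (f.fiber s) x') :
    ∃ (U : Scheme.{u}) (g : U ⟶ X) (u : U), (Etale g ∧ g u = f.fiberι s x') ∧
      (m : ℕ∞) ≤ {Z : Set ((g ≫ f).fiber s) | Z ∈ irreducibleComponents ((g ≫ f).fiber s) ∧
        ∃ u' ∈ Z, (g ≫ f).fiberι s u' = u}.encard := by
  obtain ⟨_, ⟨V, hV, rfl⟩, hxV, -⟩ :=
    X.isBasis_affineOpens.exists_subset_of_mem_open (Set.mem_univ (f.fiberι s x')) isOpen_univ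
  obtain ⟨π, hπ, hπker⟩ := exists_fibre_quotient f s x' hV hxV
  set p := (hV.primeIdealOf ⟨_, hxV⟩).asIdeal
  letI : Algebra Γ(X, V) (SeparableClosure p.ResidueField) :=
    ((algebraMap p.ResidueField _).comp (algebraMap Γ(X, V) p.ResidueField)).toAlgebra
  haveI : IsScalarTower Γ(X, V) p.ResidueField (SeparableClosure p.ResidueField) :=
    IsScalarTower.of_algebraMap_eq' rfl
  have hK : RingHom.ker (algebraMap Γ(X, V) (SeparableClosure p.ResidueField)) = p := by
    rw [IsScalarTower.algebraMap_eq Γ(X, V) p.ResidueField, RingHom.ker_comp_of_injective _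
      (algebraMap p.ResidueField _).injective, Ideal.ker_algebraMap_residueField]
  have hxs : f (f.fiberι s x') = s := by
    have := Set.mem_range_self (f := f.fiberι s) x'
    rwa [Scheme.Hom.range_fiberι] at this
  unfold Brnch.numGeomBranchesAt at hm
  rw [numGeomBranches_col p π hπ, hπker] at hm
  obtain ⟨Y, hY⟩ := exists_nbhd_of_stage f s _ hxs hV hxV hK m hm
  haveI : (RingHom.ker Y.φ).IsPrime := RingHom.ker_isPrime _
  obtain ⟨hg, hgu, hle⟩ := hY ⟨RingHom.ker Y.φ, inferInstance⟩ rfl
  exact ⟨_, _, _, ⟨hg, hgu⟩, hle⟩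

/-- The branches of a fibre are read on elementary étale neighbourhoods. -/
theorem exists_nbhd_ge (s : S) (x' : f.fiber s) (m : ℕ)
    (hm : (m : ℕ∞) ≤ Brnch.numBranchesAt (f.fiber s) x') :
    ∃ (U : Scheme.{u}) (g : U ⟶ X) (u : U), Hens2.IsEtaleNbhd g u (f.fiberι s x') ∧
      (m : ℕ∞) ≤ {Z : Set ((g ≫ f).fiber s) | Z ∈ irreducibleComponents ((g ≫ f).fiber s) ∧
        ∃ u' ∈ Z, (g ≫ f).fiberι s u' = u}.encard := by
  obtain ⟨_, ⟨V, hV, rfl⟩, hxV, -⟩ :=
    X.isBasis_affineOpens.exists_subset_of_mem_open (Set.mem_univ (f.fiberι s x')) isOpen_univ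
  obtain ⟨π, hπ, hπker⟩ := exists_fibre_quotient f s x' hV hxV
  set p := (hV.primeIdealOf ⟨_, hxV⟩).asIdeal with hp
  have hxs : f (f.fiberι s x') = s := by
    have := Set.mem_range_self (f := f.fiberι s) x'
    rwa [Scheme.Hom.range_fiberι] at this
  unfold Brnch.numBranchesAt at hm
  rw [numBranches_col p π hπ, hπker] at hm
  obtain ⟨Y, hY⟩ := exists_nbhd_of_stage f s _ hxs hV hxV (K := p.ResidueField) p.ker_algebraMap_residueField m hm
  haveI : (RingHom.ker Y.φ).IsPrime := RingHom.ker_isPrime _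
  obtain ⟨hg, hgu, hle⟩ := hY ⟨RingHom.ker Y.φ, inferInstance⟩ rfl
  set h : CommRingCat.of Γ(X, V) ⟶ CommRingCat.of Y.R := CommRingCat.ofHom (algebraMap Γ(X, V) Y.R)
  let u : ↥(Spec (CommRingCat.of Y.R)) := ⟨RingHom.ker Y.φ, inferInstance⟩
  let g := Spec.map h ≫ hV.fromSpec
  refine ⟨_, g, u, ⟨hg, hgu, ?_⟩, hle⟩
  have e : (⊤ : (Spec (CommRingCat.of Y.R)).Opens) ≤ g ⁻¹ᵁ V := by
    rintro z -
    show hV.fromSpec (Spec.map h z) ∈ V
    exact hV.range_fromSpec.le ⟨_, rfl⟩
  have happ : g.appLE V ⊤ e = h ≫ (Scheme.ΓSpecIso (CommRingCat.of Y.R)).inv := by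
    rw [← Scheme.Hom.appLE_comp_appLE (Spec.map h) hV.fromSpec V ⊤ ⊤ hV.fromSpec_preimage_self.ge le_top]
    have h1 : hV.fromSpec.appLE V ⊤ hV.fromSpec_preimage_self.ge = (Scheme.ΓSpecIso Γ(X, V)).inv := by
      rw [Scheme.Hom.appLE, hV.fromSpec_app_self, Category.assoc, ← Functor.map_comp]
      exact (congrArg (_ ≫ ·) ((Spec Γ(X, V)).presheaf.map_id _)).trans (Category.comp_id _)
    have h2 : (Spec.map h).appLE ⊤ ⊤ le_top = (Spec.map h).appTop := Scheme.Hom.appLE_eq_app _
    rw [h1, h2, ← Scheme.ΓSpecIso_inv_naturality]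
  rw [Groth.L23.Branch.residueFieldMap_bijective_iff g e u trivial hV (isAffineOpen_top _)]
  intro a
  obtain ⟨r, t, ht, hrt⟩ :=
    Groth.L23.Branch.fractions_of_point p Y.φ ((Scheme.ΓSpecIso (CommRingCat.of Y.R)).hom a)
  refine ⟨r, t, ?_, ?_⟩
  · have : (⟨g u, e trivial⟩ : V) = ⟨f.fiberι s x', hxV⟩ := Subtype.ext hgu
    rw [this]
    exact ht
  · have hq : ∀ z, z ∈ ((isAffineOpen_top _).primeIdealOf ⟨u, trivial⟩).asIdeal ↔
        Y.φ ((Scheme.ΓSpecIso (CommRingCat.of Y.R)).hom z) = 0 := by
      intro z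
      rw [Groth.L23.Branch.mem_primeIdealOf_iff (W := ⊤) u trivial (isAffineOpen_top _) z, mem_maximalIdeal,
        mem_nonunits_iff, ← Scheme.mem_basicOpen _ z u trivial, basicOpen_eq_of_affine']
      exact not_not
    refine (hq _).2 ?_
    rw [RingHom.mem_ker] at hrt
    have hinv : ∀ z : Y.R, (Scheme.ΓSpecIso (CommRingCat.of Y.R)).hom
        ((Scheme.ΓSpecIso (CommRingCat.of Y.R)).inv z) = z := fun z => by
      rw [← CommRingCat.comp_apply, Iso.inv_hom_id]
      rfl
    have hval : ∀ z : Γ(X, V), (Scheme.ΓSpecIso (CommRingCat.of Y.R)).hom (g.appLE V ⊤ e z) =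
        algebraMap Γ(X, V) Y.R z := fun z => by
      rw [happ]
      exact hinv _
    rw [map_sub, map_mul, hval, hval]
    exact hrt

/-- Components of the fibre of a neighbourhood are bounded by the geometric branches of the fibre. -/
theorem components_le_geom {U : Scheme.{u}} (g : U ⟶ X) (hg : Etale g) (u : U) (s : S) (x' : f.fiber s)
    (hu : g u = f.fiberι s x') :
    {Z : Set ((g ≫ f).fiber s) | Z ∈ irreducibleComponents ((g ≫ f).fiber s) ∧
        ∃ u' ∈ Z, (g ≫ f).fiberι s u' = u}.encard ≤ Brnch.numGeomBranchesAt (f.fiber s) x' := by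
  obtain ⟨u', rfl⟩ : u ∈ Set.range ((g ≫ f).fiberι s) := by
    have := Set.mem_range_self (f := f.fiberι s) x'
    rw [Scheme.Hom.range_fiberι] at this ⊢
    show f (g u) = s
    rw [hu]
    exact this
  rw [setOf_components (g ≫ f) s u' _ rfl]
  obtain ⟨gs, hgs, hgsu, -⟩ := exists_fibre_map f g s u' x' hu
  exact (Groth.L23.Branch.etale_nbhd_facts (f.fiber s) x').1 _ gs u' hgs hgsu

/-- Components of the fibre of an elementary neighbourhood are bounded by the branches of the fibre. -/
theorem components_le {U : Scheme.{u}} (g : U ⟶ X) (u : U) (s : S) (x' : f.fiber s)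
    (hn : Hens2.IsEtaleNbhd g u (f.fiberι s x')) :
    {Z : Set ((g ≫ f).fiber s) | Z ∈ irreducibleComponents ((g ≫ f).fiber s) ∧
        ∃ u' ∈ Z, (g ≫ f).fiberι s u' = u}.encard ≤ Brnch.numBranchesAt (f.fiber s) x' := by
  obtain ⟨hg, hu, hres⟩ := hn
  obtain ⟨u', rfl⟩ : u ∈ Set.range ((g ≫ f).fiberι s) := by
    have := Set.mem_range_self (f := f.fiberι s) x'
    rw [Scheme.Hom.range_fiberι] at this ⊢
    show f (g u) = s
    rw [hu]
    exact this
  rw [setOf_components (g ≫ f) s u' _ rfl]
  haveI := hg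
  obtain ⟨gs, hgs, hgsu, hgr⟩ := exists_fibre_map f g s u' x' hu
  exact Groth.L23.Branch.components_le_numBranchesAt ⟨hgs, hgsu, hgr hres⟩

end scheme

end Groth.L06.FibreBranches
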