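import Groth.Agent.L09.UnivBdd.Rank
import Groth.Agent.L06.BddFibQF
import Groth.Agent.L06.Constr
import Groth.Agent.L20.Weight.Constructible
import Mathlib.AlgebraicGeometry.Morphisms.FinitePresentation
import Mathlib.LinearAlgebra.Dimension.Basic

/-!
# The fibre degree function of a flat quasi-finite separated morphism
-/

set_option autoImplicit false
set_option maxSynthPendingDepth 3
set_option linter.style.haveILetI false
set_option backward.isDefEq.respectTransparency.types false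

universe u

open CategoryTheory CategoryTheory.Limits AlgebraicGeometry TopologicalSpace Topology Opposite

noncomputable section

namespace Groth.L06.FibreDegree

open Groth.L00.BddFib (pt flat_toField)
open Groth.L09.UnivBdd (fdeg)

section Field

variable {K : Type u} [Field K] {T : Scheme.{u}} (p : T ⟶ Spec (CommRingCat.of K))

/-- The rank of the global sections of a scheme over a field. -/
def rk : Cardinal.{u} :=
  letI : Algebra K Γ(T, ⊤) := BddFib.secAlgebra (CommRingCat.of K) p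
  Module.rank K Γ(T, ⊤)

theorem discreteTopology [LocallyQuasiFinite p] : DiscreteTopology T := by
  haveI := IsLocallyArtinian.of_locallyQuasiFinite p
  infer_instance

/-- Sections on a clopen and on its complement glue. -/
theorem exists_glue (O O' : T.Opens) (hd : Disjoint O O') (hc : ⊤ ≤ O ⊔ O') (a : Γ(T, O))
    (b : Γ(T, O')) : ∃ s : Γ(T, ⊤), T.presheaf.map (homOfLE (le_top : O ≤ ⊤)).op s = a ∧
      T.presheaf.map (homOfLE (le_top : O' ≤ ⊤)).op s = b := by
  let U : Bool → T.Opens := fun i => Bool.rec O' O i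
  let sf : ∀ i, Γ(T, U i) := fun i => Bool.rec b a i
  have hcomp : TopCat.Presheaf.IsCompatible T.sheaf.1 U sf := by
    intro i j
    rcases i with _ | _ <;> rcases j with _ | _
    · exact rfl
    · have h : O' ⊓ O = ⊥ := hd.symm.eq_bot
      haveI : Subsingleton Γ(T, O' ⊓ O) := by rw [h]; infer_instance
      exact Subsingleton.elim (α := Γ(T, O' ⊓ O)) _ _
    · have h : O ⊓ O' = ⊥ := hd.eq_bot
      haveI : Subsingleton Γ(T, O ⊓ O') := by rw [h]; infer_instance
      exact Subsingleton.elim (α := Γ(T, O ⊓ O')) _ _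
    · exact rfl
  obtain ⟨s, hs, -⟩ := TopCat.Sheaf.existsUnique_gluing' T.sheaf U ⊤ (fun i => homOfLE le_top)
    (hc.trans (sup_le (le_iSup U true) (le_iSup U false))) sf hcomp
  exact ⟨s, hs true, hs false⟩

theorem card_le_rk [LocallyQuasiFinite p] : Cardinal.mk T ≤ rk p := by
  haveI := discreteTopology p
  letI : Algebra K Γ(T, ⊤) := BddFib.secAlgebra (CommRingCat.of K) p
  let O : T → T.Opens := fun t => ⟨{t}, isOpen_discrete _⟩
  let O' : T → T.Opens := fun t => ⟨{t}ᶜ, isOpen_discrete _⟩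
  choose e he0 he1 using fun t => exists_glue (O t) (O' t)
    (disjoint_iff_inf_le.mpr fun x hx => (hx.2 hx.1 : False).elim)
    (fun x _ => (em (x = t)).elim (fun h => Or.inl h) (fun h => Or.inr h)) 1 0
  refine LinearIndependent.cardinal_le_rank (v := e) (R := K) ?_
  rw [linearIndependent_iff']
  intro s c hsum t ht
  let r : Γ(T, ⊤) →+* Γ(T, O t) := (T.presheaf.map (homOfLE (le_top : O t ≤ ⊤)).op).hom
  have h1 : r (∑ i ∈ s, c i • e i) = 0 := by rw [hsum, map_zero]
  rw [map_sum, Finset.sum_eq_single t] at h1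
  · rw [Algebra.smul_def, map_mul, show r (e t) = 1 from he0 t, mul_one] at h1
    haveI : Nontrivial Γ(T, O t) := (T.presheaf.germ (O t) t rfl).hom.domain_nontrivial
    exact (r.comp (algebraMap K Γ(T, ⊤))).injective (h1.trans (map_zero _).symm)
  · intro t' _ hne
    have hle : O t ≤ O' t' := fun x hx hx' => hne (hx'.symm.trans hx)
    have h0 : r (e t') = 0 := by
      show T.presheaf.map (homOfLE (le_top : O t ≤ ⊤)).op (e t') = 0
      rw [show (homOfLE (le_top : O t ≤ ⊤)).op =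
        (homOfLE (le_top : O' t' ≤ ⊤)).op ≫ (homOfLE hle).op from rfl, Functor.map_comp,
        ConcreteCategory.comp_apply, he1 t', map_zero]
    rw [Algebra.smul_def, map_mul, h0, mul_zero]
  · exact fun h => (h ht).elim

theorem isFinite [LocallyQuasiFinite p] [Finite T] : IsFinite p := by
  haveI : QuasiCompact p := HasAffineProperty.iff_of_isAffine.mpr (inferInstance : CompactSpace T)
  exact IsFinite.of_locallyQuasiFinite p

theorem rk_eq [IsFinite p] : rk p = (p.finrank (pt K) : Cardinal.{u}) := by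
  rw [Groth.L00.BddFib.finrank_eq]
  letI : Algebra K Γ(T, ⊤) := BddFib.secAlgebra (CommRingCat.of K) p
  haveI : Module.Finite K Γ(T, ⊤) :=
    ((Groth.L00.BddFib.iff p (p.finrank (pt K))).2 ⟨inferInstance, le_rfl⟩).2.1
  exact (Module.finrank_eq_rank K Γ(T, ⊤)).symm

theorem finite_of_rk_le [LocallyQuasiFinite p] {n : ℕ} (h : rk p ≤ (n : Cardinal.{u})) :
    BddFib.FiniteOfDegLE (CommRingCat.of K) p n := by
  haveI : Finite T := Cardinal.mk_lt_aleph0_iff.mp
    (((card_le_rk p).trans h).trans_lt Cardinal.natCast_lt_aleph0)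
  haveI := isFinite p
  rw [rk_eq] at h
  exact (Groth.L00.BddFib.iff p n).2 ⟨inferInstance, by exact_mod_cast h⟩

theorem finrank_le_rk (U : T.Opens) (hU : IsClosed (U : Set T)) [IsFinite (U.ι ≫ p)] :
    ((U.ι ≫ p).finrank (pt K) : Cardinal.{u}) ≤ rk p := by
  rw [← rk_eq]
  letI : Algebra K Γ(T, ⊤) := BddFib.secAlgebra (CommRingCat.of K) p
  letI : Algebra K Γ(U.toScheme, ⊤) := BddFib.secAlgebra (CommRingCat.of K) (U.ι ≫ p)
  let φ : Γ(T, ⊤) →ₐ[K] Γ(U.toScheme, ⊤) :=
    { U.ι.appTop.hom with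
      commutes' := fun c => by
        show U.ι.appTop.hom (((Scheme.ΓSpecIso (CommRingCat.of K)).inv ≫ p.appTop).hom c) =
          ((Scheme.ΓSpecIso (CommRingCat.of K)).inv ≫ (U.ι ≫ p).appTop).hom c
        rw [Scheme.Hom.comp_appTop, ← Category.assoc]
        rfl }
  have hsurj : Function.Surjective φ.toLinearMap := fun a => by
    obtain ⟨s, hs, -⟩ := exists_glue (U.ι ''ᵁ ⊤) ⟨(U : Set T)ᶜ, hU.isOpen_compl⟩
      (disjoint_iff_inf_le.mpr fun x hx => (hx.2 ((Scheme.Opens.ι_image_le U ⊤) hx.1) : False).elim)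
      (fun x _ => (em (x ∈ U)).elim (fun h => Or.inl (U.ι_image_top.symm ▸ h)) fun h => Or.inr h) a 0
    exact ⟨s, hs⟩
  exact LinearMap.rank_le_of_surjective φ.toLinearMap hsurj

end Field

variable {X Y : Scheme.{u}} {f : X ⟶ Y}

theorem fibreDegLE_of_rk [LocallyQuasiFinite f] (n : ℕ)
    (hn : ∀ (K : Type u) [Field K] (g : Spec (CommRingCat.of K) ⟶ Y),
      rk (pullback.snd f g) ≤ (n : Cardinal.{u})) : BddFib.FibreDegLE f n := fun y => by
  haveI : LocallyQuasiFinite (f.fiberToSpecResidueField y) :=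
    MorphismProperty.pullback_snd _ _ ‹_›
  exact finite_of_rk_le (K := Y.residueField y) _ (hn _ _)

section QuasiCompact

variable [QuasiCompact f] [LocallyQuasiFinite f]

/-- The degree can be computed at any field-valued point. -/
theorem finrank_snd_eq {k : Type u} [Field k] (g : Spec (CommRingCat.of k) ⟶ Y) :
    (pullback.snd f g).finrank (pt k) = fdeg f (g (pt k)) := by
  obtain ⟨q, hq⟩ := Groth.L00.BddFib.exists_eq_comp g
  haveI : IsFinite (pullback.snd f (Y.fromSpecResidueField (g (pt k)))) :=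
    inferInstanceAs (IsFinite (f.fiberToSpecResidueField _))
  haveI := Groth.L09.UnivBdd.flat_fiber (f := f) (g (pt k))
  have sq : IsPullback (pullback.map f g f (Y.fromSpecResidueField (g (pt k))) (𝟙 X) q (𝟙 Y) (by simp)
      (by simp [← hq])) (pullback.snd f g) (pullback.snd f (Y.fromSpecResidueField (g (pt k)))) q := by
    refine IsPullback.of_right ?_ (pullback.lift_snd _ _ _) (IsPullback.of_hasPullback f _)
    rw [pullback.lift_fst, Category.comp_id, ← hq]
    exact IsPullback.of_hasPullback f g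
  rw [Scheme.Hom.finrank_of_isPullback _ _ _ _ sq, fdeg]
  congr 1
  exact Subsingleton.elim (α := PrimeSpectrum (Y.residueField (g (pt k)))) _ _

theorem fdeg_of_isPullback {P V : Scheme.{u}} {g : V ⟶ Y} {f' : P ⟶ V} {g' : P ⟶ X}
    (sq : IsPullback g' f' f g) (v : V) : fdeg f' v = fdeg f (g v) := by
  haveI : QuasiCompact f' := MorphismProperty.of_isPullback (P := @QuasiCompact) sq ‹_›
  haveI : LocallyQuasiFinite f' := MorphismProperty.of_isPullback (P := @LocallyQuasiFinite) sq ‹_›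
  let x := V.fromSpecResidueField v
  haveI : IsFinite (pullback.snd f' x) := inferInstanceAs (IsFinite (f'.fiberToSpecResidueField v))
  haveI := flat_toField (k := V.residueField v) (pullback.snd f' x)
  have sq' := Groth.L00.BddFib.isPullback_of_isPullback sq x
  have h1 := finrank_snd_eq (f := f) (k := V.residueField v) (x ≫ g)
  rw [← sq'.isoPullback_inv_snd, Scheme.Hom.finrank_comp_left_of_isIso] at h1
  have hx : (x ≫ g) (pt (V.residueField v)) = g v := by
    rw [Scheme.Hom.comp_apply, Scheme.fromSpecResidueField_apply]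
  exact h1.trans (congrArg (fdeg f) hx)

theorem fdeg_restrict (V : Y.Opens) (v : V) : fdeg (f ∣_ V) v = fdeg f v.1 :=
  fdeg_of_isPullback (isPullback_morphismRestrict f V).flip v

variable [Flat f] [LocallyOfFinitePresentation f] [IsSeparated f]

theorem isFinLocFreeOfDeg_snd_iff {T : Scheme.{u}} (g : T ⟶ Y) (r : ℕ) :
    Mor2.IsFinLocFreeOfDeg r (pullback.snd f g) ↔ ∀ t, fdeg f (g t) = r := by
  constructor
  · rintro ⟨⟨h1, h2, -⟩, hd⟩ t
    haveI := h1
    haveI := h2
    rw [← fdeg_of_isPullback (IsPullback.of_hasPullback f g) t, Groth.L09.UnivBdd.fdeg_eq_finrank]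
    exact hd t
  · intro h
    have h' : ∀ t, fdeg (pullback.snd f g) t = r := fun t =>
      (fdeg_of_isPullback (IsPullback.of_hasPullback f g) t).trans (h t)
    haveI : QuasiCompact (pullback.snd f g) := inferInstance
    haveI : LocallyQuasiFinite (pullback.snd f g) := inferInstance
    have hπ : BddFib.FibreDegLE (pullback.snd f g) r := fun t =>
      (Groth.L00.BddFib.iff (k := T.residueField t) _ r).2
        ⟨inferInstanceAs (IsFinite ((pullback.snd f g).fiberToSpecResidueField t)), (h' t).le⟩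
    exact (Groth.L09.UnivBdd.isFinLocFreeOfDeg_iff hπ r).2 h'

theorem exists_bound_restrict (V : Y.Opens) (hV : IsAffineOpen V) :
    ∃ n, BddFib.FibreDegLE (f ∣_ V) n := by
  haveI : IsAffine V.toScheme := hV
  haveI : CompactSpace ↥(f ⁻¹ᵁ V).toScheme := QuasiCompact.compactSpace_of_compactSpace (f ∣_ V)
  exact Groth.L06.BddFibDeg.univBounded _

theorem isClosed_fdeg_le (r : ℕ) : IsClosed {y | fdeg f y ≤ r} := by
  rw [← isOpen_compl_iff, isOpen_iff_forall_mem_open]
  intro y hy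
  obtain ⟨V, hV, hyV, -⟩ := exists_isAffineOpen_mem_and_subset (U := (⊤ : Y.Opens)) (x := y) trivial
  obtain ⟨n, hn⟩ := exists_bound_restrict (f := f) V hV
  refine ⟨V.ι '' {v | fdeg (f ∣_ V) v ≤ r}ᶜ, ?_,
    V.ι.isOpenEmbedding.isOpenMap _ (Groth.L09.UnivBdd.isClosed_fdeg_le hn r).isOpen_compl, ?_⟩
  · rintro _ ⟨v, hv, rfl⟩ hv'
    apply hv
    show fdeg (f ∣_ V) v ≤ r
    rw [fdeg_restrict]
    exact hv'
  · refine ⟨⟨y, hyV⟩, fun h => hy ?_, rfl⟩
    have h' : fdeg (f ∣_ V) ⟨y, hyV⟩ ≤ r := h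
    rwa [fdeg_restrict] at h'

theorem exists_cons_nbhd [IsAffine Y] (y : Y) :
    ∃ s : Set Y, IsConstructible s ∧ y ∈ s ∧ ∀ z ∈ s, fdeg f z = fdeg f y := by
  haveI : CompactSpace X := QuasiCompact.compactSpace_of_compactSpace f
  obtain ⟨n, hf⟩ := Groth.L06.BddFibDeg.univBounded f
  obtain ⟨V, g, v, U, hg, hv, hUc, hUf, hUv⟩ :=
    Groth.L09.UnivBdd.exists_finite_piece (f := f) y (f.finite_preimage_singleton y)
  haveI := hUf
  let π := pullback.snd f g
  have hπ : BddFib.FibreDegLE π n := Groth.L00.BddFib.baseChange (IsPullback.of_hasPullback f g) n hf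
  have hbc : ∀ z, fdeg π z = fdeg f (g z) := fun z => fdeg_of_isPullback (IsPullback.of_hasPullback f g) z
  obtain ⟨W, hW, hvW, -⟩ := exists_isAffineOpen_mem_and_subset (U := (⊤ : V.Opens)) (x := v) trivial
  haveI : IsAffine W.toScheme := hW
  let C : Set W.toScheme := W.ι ⁻¹' {z | (U.ι ≫ π).finrank z = (U.ι ≫ π).finrank v}
  have hC : IsConstructible C := by
    have h := ((U.ι ≫ π).isLocallyConstant_finrank.comp_continuous W.ι.continuous).isClopen_fiber
      ((U.ι ≫ π).finrank v)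
    exact IsRetrocompact.isConstructible h.isOpen fun K hK _ => hK.inter_left h.isClosed
  haveI : CompactSpace ↥(π ⁻¹ᵁ W).toScheme := QuasiCompact.compactSpace_of_compactSpace (π ∣_ W)
  let E : Set (π ⁻¹ᵁ W).toScheme := (π ⁻¹ᵁ W).ι ⁻¹' (U : Set ↑(pullback f g))ᶜ
  have hE : IsConstructible E := IsRetrocompact.isConstructible
    (hUc.isOpen_compl.preimage (π ⁻¹ᵁ W).ι.continuous)
    fun K hK _ => hK.inter_left (U.2.isClosed_compl.preimage (π ⁻¹ᵁ W).ι.continuous)
  let D : Set W.toScheme := (π ∣_ W) '' E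
  have hD : IsConstructible D := (π ∣_ W).isConstructible_image hE
  haveI : Etale g := hg
  let j := W.ι ≫ g
  refine ⟨j '' (C \ D), j.isConstructible_image (hC.sdiff hD), ⟨⟨v, hvW⟩, ⟨rfl, ?_⟩, hv⟩, ?_⟩
  · rintro ⟨⟨w, hwW⟩, hw, hwv⟩
    exact hw (hUv (show π w = v from (morphismRestrict_base_coe π W ⟨w, hwW⟩).symm.trans (congrArg Subtype.val hwv)))
  · have hle : ∀ z : W.toScheme, z ∉ D → π ⁻¹' {z.1} ⊆ U := fun z hz w hw => by
      by_contra hwU
      have hw' : π w = z.1 := hw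
      have hwW : w ∈ π ⁻¹ᵁ W := show π w ∈ W from hw'.symm ▸ z.2
      exact hz ⟨⟨w, hwW⟩, hwU, Subtype.ext ((morphismRestrict_base_coe π W ⟨w, hwW⟩).trans hw')⟩
    have heq : ∀ z : W.toScheme, z ∉ D → fdeg f (g z.1) = (U.ι ≫ π).finrank z.1 := fun z hz => by
      rw [← hbc, ← Groth.L09.UnivBdd.fdeg_eq_finrank]
      exact le_antisymm ((Groth.L09.UnivBdd.fdeg_piece hπ U hUc z.1).2.2 (hle z hz))
        (Groth.L09.UnivBdd.fdeg_piece hπ U hUc z.1).1
    have hy : fdeg f y = (U.ι ≫ π).finrank v := by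
      rw [← hv, ← hbc, ← Groth.L09.UnivBdd.fdeg_eq_finrank]
      exact le_antisymm ((Groth.L09.UnivBdd.fdeg_piece hπ U hUc v).2.2 hUv)
        (Groth.L09.UnivBdd.fdeg_piece hπ U hUc v).1
    rintro _ ⟨z, ⟨hzC, hzD⟩, rfl⟩
    rw [hy]
    exact (heq z hzD).trans hzC

theorem isConstructible_level [IsAffine Y] (r : ℕ) : IsConstructible {y | fdeg f y = r} := by
  classical
  choose s hs hys hval using exists_cons_nbhd (f := f)
  obtain ⟨t, ht⟩ := Groth.L20.Weight.exists_finite_cons_cover (X := Y) s hs hys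
  have h : {y | fdeg f y = r} = ⋃ x ∈ t.filter (fun x => fdeg f x = r), s x := by
    ext z
    simp only [Set.mem_iUnion, Finset.mem_filter, exists_prop]
    refine ⟨fun hz => ?_, fun ⟨x, hx, hzx⟩ => (hval x z hzx).trans hx.2⟩
    obtain ⟨x, hx, hzx⟩ := ht z
    exact ⟨x, ⟨hx, (hval x z hzx).symm.trans hz⟩, hzx⟩
  rw [h]
  exact IsConstructible.biUnion (Finset.finite_toSet _) fun x _ => hs x

theorem isRetrocompact_level (r : ℕ) : IsRetrocompact {y | fdeg f y = r} := by
  intro U hU hUo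
  choose V hV hxV hVU using fun x : U =>
    exists_isAffineOpen_mem_and_subset (U := (⟨U, hUo⟩ : Y.Opens)) (x := x.1) x.2
  obtain ⟨t, ht⟩ := hU.elim_finite_subcover (fun x => (V x : Set Y)) (fun x => (V x).2)
    (fun x hx => Set.mem_iUnion.mpr ⟨⟨x, hx⟩, hxV _⟩)
  have h : {y | fdeg f y = r} ∩ U = ⋃ x ∈ t, (V x).ι '' {v | fdeg (f ∣_ V x) v = r} := by
    ext z
    simp only [Set.mem_iUnion, exists_prop]
    refine ⟨fun ⟨hz, hzU⟩ => ?_, ?_⟩
    · obtain ⟨x, hx, hzx⟩ := Set.mem_iUnion₂.mp (ht hzU)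
      exact ⟨x, hx, ⟨z, hzx⟩, (fdeg_restrict _ _).trans hz, rfl⟩
    · rintro ⟨x, -, v, hv, rfl⟩
      exact ⟨(fdeg_restrict _ _).symm.trans hv, hVU x v.2⟩
  rw [h]
  refine t.finite_toSet.isCompact_biUnion fun x _ => ?_
  haveI : IsAffine (V x).toScheme := hV x
  have hc := Groth.L06.Constr.isRetrocompact (isConstructible_level (f := f ∣_ V x) r)
    isCompact_univ isOpen_univ
  rw [Set.inter_univ] at hc
  exact hc.image (V x).ι.continuous

end QuasiCompact

section LocallyQuasiFinite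

variable [Flat f] [LocallyOfFinitePresentation f] [IsSeparated f] [LocallyQuasiFinite f]

theorem isFinLocFreeOfDeg_snd_iff_of_bound {n : ℕ} (hf : BddFib.FibreDegLE f n) {T : Scheme.{u}}
    (g : T ⟶ Y) (r : ℕ) :
    Mor2.IsFinLocFreeOfDeg r (pullback.snd f g) ↔ ∀ t, fdeg f (g t) = r := by
  rw [Groth.L09.UnivBdd.isFinLocFreeOfDeg_iff
    (Groth.L00.BddFib.baseChange (IsPullback.of_hasPullback f g) n hf) r]
  simp only [Groth.L09.UnivBdd.fdeg_of_isPullback hf (IsPullback.of_hasPullback f g)]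

omit [Flat f] [LocallyOfFinitePresentation f] [IsSeparated f] in
theorem exists_compact_open (F : Finset X) : ∃ W : X.Opens, IsCompact (W : Set X) ∧ ∀ x ∈ F, x ∈ W := by
  classical
  choose V hV hxV _ using fun x : X => exists_isAffineOpen_mem_and_subset (U := (⊤ : X.Opens)) (x := x) trivial
  refine ⟨F.sup V, ?_, fun x hx => ?_⟩
  · rw [Opens.coe_finset_sup, Finset.sup_set_eq_biUnion]
    exact F.finite_toSet.isCompact_biUnion fun x _ => (hV x).isCompact
  · exact Finset.le_sup (f := V) hx (hxV x)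

theorem isOpen_le_fdeg (d : ℕ) (W : X.Opens) (hW : IsCompact (W : Set X)) :
    IsOpen {y | d ≤ fdeg (W.ι ≫ f) y} := by
  haveI : CompactSpace W.toScheme := isCompact_iff_compactSpace.mp hW
  obtain ⟨n, hn⟩ := Groth.L06.BddFibDeg.univBounded (W.ι ≫ f)
  rcases d with _ | d
  · simp
  · have h : {y | d + 1 ≤ fdeg (W.ι ≫ f) y} = {y | fdeg (W.ι ≫ f) y ≤ d}ᶜ := by
      ext y; simp only [Set.mem_setOf_eq, Set.mem_compl_iff]; omega
    rw [h]
    exact (Groth.L09.UnivBdd.isClosed_fdeg_le hn d).isOpen_compl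

variable (f) in
/-- The points whose fibre has degree at least `d`. -/
def degOpen (d : ℕ) : Y.Opens :=
  ⨆ W : {W : X.Opens // IsCompact (W : Set X)}, ⟨_, isOpen_le_fdeg (f := f) d W.1 W.2⟩

theorem mem_degOpen {d : ℕ} {y : Y} :
    y ∈ degOpen f d ↔ ∃ W : X.Opens, IsCompact (W : Set X) ∧ d ≤ fdeg (W.ι ≫ f) y := by
  rw [degOpen, Opens.mem_iSup]
  exact ⟨fun ⟨W, hW⟩ => ⟨W.1, W.2, hW⟩, fun ⟨W, hW, h⟩ => ⟨⟨W, hW⟩, h⟩⟩

theorem degOpen_antitone : Antitone (degOpen f) := fun _ _ h y hy => by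
  obtain ⟨W, hW, hd⟩ := mem_degOpen.mp hy
  exact mem_degOpen.mpr ⟨W, hW, h.trans hd⟩

theorem degOpen_zero : degOpen f 0 = ⊤ :=
  top_le_iff.mp fun _ _ => mem_degOpen.mpr ⟨⊥, isCompact_empty, Nat.zero_le _⟩

theorem mem_degOpen_iff {K : Type u} [Field K] (g : Spec (CommRingCat.of K) ⟶ Y) (d : ℕ) :
    g (pt K) ∈ degOpen f d ↔ (d : Cardinal.{u}) ≤ rk (pullback.snd f g) := by
  classical
  let p := pullback.snd f g
  haveI := discreteTopology p
  have key : ∀ W : X.Opens, IsCompact (W : Set X) →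
      ∃ _ : IsFinite ((pullback.fst f g ⁻¹ᵁ W).ι ≫ p),
        ((pullback.fst f g ⁻¹ᵁ W).ι ≫ p).finrank (pt K) = fdeg (W.ι ≫ f) (g (pt K)) := by
    intro W hW
    haveI : CompactSpace W.toScheme := isCompact_iff_compactSpace.mp hW
    obtain ⟨n, hn⟩ := Groth.L06.BddFibDeg.univBounded (W.ι ≫ f)
    have sq := (((isPullback_morphismRestrict (pullback.fst f g) W).flip).paste_horiz
      (IsPullback.of_hasPullback f g).flip).flip
    obtain ⟨h1, -⟩ := (Groth.L00.BddFib.iff (pullback.snd (W.ι ≫ f) g) n).1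
      ((Groth.L00.BddFib.forall_field_iff _ n).1 hn K g)
    haveI := h1
    haveI := flat_toField (pullback.snd (W.ι ≫ f) g)
    rw [← sq.isoPullback_hom_snd]
    refine ⟨inferInstance, ?_⟩
    rw [Scheme.Hom.finrank_comp_left_of_isIso]
    exact Groth.L09.UnivBdd.finrank_snd_eq hn g
  rw [mem_degOpen]
  constructor
  · rintro ⟨W, hW, hd⟩
    obtain ⟨h1, h2⟩ := key W hW
    haveI := h1
    refine le_trans ?_ (finrank_le_rk p (pullback.fst f g ⁻¹ᵁ W) (isClosed_discrete _))
    rw [h2]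
    exact_mod_cast hd
  · intro hd
    rcases finite_or_infinite ↑(pullback f g) with hT | hT
    · haveI := Fintype.ofFinite ↑(pullback f g)
      obtain ⟨W, hW, hWF⟩ := exists_compact_open (Finset.univ.image (pullback.fst f g))
      obtain ⟨h1, h2⟩ := key W hW
      haveI := h1
      haveI : IsIso (pullback.fst f g ⁻¹ᵁ W).ι := (isIso_iff_isOpenImmersion_and_surjective _).mpr
        ⟨inferInstance, ⟨fun t => ⟨⟨t, hWF _ (Finset.mem_image_of_mem _ (Finset.mem_univ t))⟩, rfl⟩⟩⟩
      haveI := isFinite p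
      haveI := flat_toField p
      rw [rk_eq] at hd
      rw [Scheme.Hom.finrank_comp_left_of_isIso] at h2
      exact ⟨W, hW, by rw [← h2]; exact_mod_cast hd⟩
    · obtain ⟨F, hF⟩ := Infinite.exists_subset_card_eq ↑(pullback f g) d
      obtain ⟨W, hW, hWF⟩ := exists_compact_open (F.image (pullback.fst f g))
      obtain ⟨h1, h2⟩ := key W hW
      haveI := h1
      refine ⟨W, hW, ?_⟩
      have h3 := card_le_rk ((pullback.fst f g ⁻¹ᵁ W).ι ≫ p)
      rw [rk_eq, h2] at h3
      let ψ : ↥F → ↥(pullback.fst f g ⁻¹ᵁ W).toScheme := fun t =>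
        ⟨t.1, hWF _ (Finset.mem_image_of_mem _ t.2)⟩
      have h4 := Cardinal.mk_le_of_injective (f := ψ)
        fun a b h => Subtype.ext (congrArg (fun z : ↥(pullback.fst f g ⁻¹ᵁ W).toScheme => z.1) h)
      rw [Cardinal.mk_coe_finset, hF] at h4
      exact_mod_cast h4.trans h3

end LocallyQuasiFinite

end Groth.L06.FibreDegree
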