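import Groth.Prelude.Def_EGA4b
import Groth.Agent.L03.MiracleQF
import Groth.Agent.L06.FlatFibre
import Groth.Agent.L23.FibreDimBC
import Groth.Agent.L22.AffineDim
import Mathlib.AlgebraicGeometry.Pullbacks
import Mathlib.RingTheory.Flat.Localization
import Mathlib.RingTheory.LocalRing.ResidueField.Ideal

/-! Fibre dimensions under an extension of the ground field. -/

set_option autoImplicit false
set_option maxSynthPendingDepth 3
set_option linter.style.haveILetI false
universe u

open CategoryTheory CategoryTheory.Limits AlgebraicGeometry TensorProduct IsLocalRing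

namespace Groth.L06.FibreDimFieldExt

/-- Dimension formula for a prime of an affine algebra. -/
theorem exists_dims (k S : Type u) [Field k] [CommRing S] [Algebra k S] [Algebra.FiniteType k S]
    (q : Ideal S) [q.IsPrime] :
    ∃ a b : ℕ, Algebra.trdeg k q.ResidueField = a ∧ ringKrullDim (Localization.AtPrime q) = b ∧
      FlatMor.localDim (PrimeSpectrum S) ⟨q, inferInstance⟩ = ((a + b : ℕ) : WithBot ℕ∞) := by
  obtain ⟨a, b, ha, hb, h⟩ := Groth.L03.MiracleQF.exists_localDim_eq k S q
  haveI : IsScalarTower k (S ⧸ q) q.ResidueField := IsScalarTower.of_algebraMap_eq' rfl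
  exact ⟨a, b, Groth.L22.AffineDim.trdeg_fractionRing k (S ⧸ q) q.ResidueField ha, hb, h⟩

theorem fibLoc_dim_zero {S T : Type u} [CommRing S] [CommRing T] [Algebra S T] (q : Ideal S)
    (P : Ideal T) [P.IsPrime] (hP : P ∈ (q.map (algebraMap S T)).minimalPrimes) (hPq : P.comap (algebraMap S T) = q) :
    ringKrullDim (EGA4.FibLocRing S T P) = 0 := by
  let L := Localization.AtPrime P
  let J := (P.comap (algebraMap S T)).map (algebraMap S L)
  have hJ : J = (q.map (algebraMap S T)).map (algebraMap T L) := by
    show (P.comap (algebraMap S T)).map (algebraMap S L) = _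
    rw [hPq, Ideal.map_map, ← IsScalarTower.algebraMap_eq]
  haveI : Nontrivial (L ⧸ J) := by
    rw [Ideal.Quotient.nontrivial_iff, hJ]
    refine ne_top_of_le_ne_top (maximalIdeal.isMaximal L).ne_top ?_
    rw [← Localization.AtPrime.map_eq_maximalIdeal]
    exact Ideal.map_mono hP.1.2
  haveI : Ring.KrullDimLE 0 (L ⧸ J) := Ring.KrullDimLE.mk₀ fun Q hQ => by
    haveI := hQ
    let Q' := Q.comap (Ideal.Quotient.mk J)
    haveI : Q'.IsPrime := Ideal.IsPrime.comap _
    have hJQ : J ≤ Q' := by
      intro a ha
      rw [Ideal.mem_comap, Ideal.Quotient.eq_zero_iff_mem.2 ha]; exact zero_mem _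
    have hQm : Q' = maximalIdeal L := by
      refine le_antisymm (le_maximalIdeal (Ideal.IsPrime.ne_top ‹_›)) ?_
      rw [← Localization.AtPrime.map_eq_maximalIdeal, Ideal.map_le_iff_le_comap]
      refine hP.2 ⟨Ideal.IsPrime.comap _, ?_⟩ fun t ht => by_contra fun htP => ?_
      · rw [← Ideal.map_le_iff_le_comap, ← hJ]; exact hJQ
      · exact Ideal.IsPrime.ne_top ‹Q'.IsPrime›
          (Ideal.eq_top_of_isUnit_mem _ (show algebraMap T L t ∈ Q' from ht) (IsLocalization.map_units L (⟨t, htP⟩ : P.primeCompl)))
    haveI : Q'.IsMaximal := hQm ▸ maximalIdeal.isMaximal L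
    rw [← Ideal.map_comap_of_surjective (Ideal.Quotient.mk J) Ideal.Quotient.mk_surjective Q]
    exact Ideal.IsMaximal.map_of_surjective_of_ker_le Ideal.Quotient.mk_surjective (Ideal.mk_ker.le.trans hJQ)
  exact ringKrullDimZero_iff_ringKrullDim_eq_zero.1 inferInstance

theorem main (k S K : Type u) [Field k] [CommRing S] [Algebra k S]
    [Algebra.FiniteType k S] [Field K] [Algebra k K] (q : Ideal S) [q.IsPrime] (r : ℕ)
    (hr : Algebra.trdeg k q.ResidueField = r) (qK : Ideal (S ⊗[k] K)) [qK.IsPrime] [qK.LiesOver q]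
    (rK : ℕ)
    (hrK : letI : Algebra K (S ⊗[k] K) := Algebra.TensorProduct.rightAlgebra
      Algebra.trdeg K qK.ResidueField = rK) :
    ringKrullDim (EGA4.FibLocRing S (S ⊗[k] K) qK) + ringKrullDim (Localization.AtPrime q) =
        ringKrullDim (Localization.AtPrime qK) ∧
      ringKrullDim (EGA4.FibLocRing S (S ⊗[k] K) qK) + (rK : WithBot ℕ∞) = (r : WithBot ℕ∞) ∧
      ∃ (q' : Ideal (S ⊗[k] K)) (_ : q'.IsPrime), q'.LiesOver q ∧
        ringKrullDim (EGA4.FibLocRing S (S ⊗[k] K) q') = 0 := by
  let T := S ⊗[k] K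
  letI : Algebra K T := Algebra.TensorProduct.rightAlgebra
  haveI : Algebra.FiniteType K T := Algebra.FiniteType.equiv
    (inferInstance : Algebra.FiniteType K (K ⊗[k] S))
    { (Algebra.TensorProduct.comm k K S).toRingEquiv with
      commutes' := fun x => by
        show Algebra.TensorProduct.comm k K S (x ⊗ₜ 1) = algebraMap K T x
        rw [Algebra.TensorProduct.comm_tmul]; rfl }
  haveI : IsNoetherianRing S := Algebra.FiniteType.isNoetherianRing k S
  haveI : IsNoetherianRing T := Algebra.FiniteType.isNoetherianRing K T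
  obtain ⟨a, b, ha, hb, hS⟩ := exists_dims k S q
  obtain ⟨a', b', ha', hb', hT⟩ := exists_dims K T qK
  obtain rfl : a = r := by exact_mod_cast ha.symm.trans hr
  obtain rfl : a' = rK := by exact_mod_cast ha'.symm.trans hrK
  -- invariance of the local dimension
  let π : Spec (CommRingCat.of S) ⟶ Spec (CommRingCat.of k) := Spec.map (CommRingCat.ofHom (algebraMap k S))
  haveI : LocallyOfFiniteType π :=
    (HasRingHomProperty.Spec_iff (P := @LocallyOfFiniteType)).2 (RingHom.finiteType_algebraMap.2 inferInstance)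
  have hpo := CommRingCat.isPushout_tensorProduct k S K
  have hpb := isPullback_SpecMap_of_isPushout _ _ _ _ hpo
  have hqK : qK.comap (algebraMap S T) = q := (Ideal.over_def qK q).symm
  have hinv := Groth.L23.localDim_baseChange_field k K π (CommRingCat.ofHom (algebraMap k K))
    (Spec.map (CommRingCat.ofHom (Algebra.TensorProduct.includeRight : K →ₐ[k] T).toRingHom))
    (Spec.map (CommRingCat.ofHom (Algebra.TensorProduct.includeLeftRingHom : S →+* T))) hpb
    (⟨qK, inferInstance⟩ : PrimeSpectrum T)
  have hpt : (Spec.map (CommRingCat.ofHom (Algebra.TensorProduct.includeLeftRingHom : S →+* T)))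
      (⟨qK, inferInstance⟩ : PrimeSpectrum T) = (⟨q, inferInstance⟩ : PrimeSpectrum S) := PrimeSpectrum.ext hqK
  rw [hpt] at hinv
  have hsum : a' + b' = a + b := by
    have := hT.symm.trans (hinv.trans hS)
    exact_mod_cast this
  -- the flat local homomorphism
  let A := Localization.AtPrime q
  let B := Localization.AtPrime qK
  letI : Algebra A B := (Localization.localRingHom q qK (algebraMap S T) hqK.symm).toAlgebra
  haveI : IsLocalHom (algebraMap A B) := Localization.isLocalHom_localRingHom q qK (algebraMap S T) hqK.symm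
  haveI : IsScalarTower S A B := IsScalarTower.of_algebraMap_eq fun s => by
    rw [RingHom.algebraMap_toAlgebra, Localization.localRingHom_to_map]; rfl
  haveI : Module.Flat T B := IsLocalization.flat B qK.primeCompl
  haveI : Module.Flat S B := Module.Flat.trans S T B
  haveI : Module.Flat A B := (Module.flat_iff_of_isLocalization A q.primeCompl B).2 inferInstance
  haveI : IsNoetherianRing A := IsLocalization.isNoetherianRing q.primeCompl A inferInstance
  haveI : IsNoetherianRing B := IsLocalization.isNoetherianRing qK.primeCompl B inferInstance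
  have hfib : EGA4.mB A B = (qK.comap (algebraMap S T)).map (algebraMap S B) := by
    show (maximalIdeal A).map (algebraMap A B) = _
    rw [← Localization.AtPrime.map_eq_maximalIdeal, Ideal.map_map, ← IsScalarTower.algebraMap_eq, hqK]
  have hf := Groth.L06.FlatFibre.ringKrullDim_eq A B
  rw [ringKrullDim_eq_of_ringEquiv (Ideal.quotEquivOfEq hfib), hb, hb'] at hf
  change (b' : WithBot ℕ∞) = (b : WithBot ℕ∞) + ringKrullDim (EGA4.FibLocRing S T qK) at hf
  haveI : IsLocalRing (EGA4.FibLocRing S T qK) := Groth.L01.isLocalRing_quotient (by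
    rw [← hfib]; exact ne_top_of_le_ne_top (maximalIdeal.isMaximal B).ne_top (map_maximalIdeal_le _))
  obtain ⟨c, hc⟩ := Groth.L01.exists_dim_eq_nat (R := EGA4.FibLocRing S T qK)
  rw [hc] at hf
  have hbc : b' = b + c := by exact_mod_cast hf
  refine ⟨?_, ?_, ?_⟩
  · rw [hc, hb, hb']
    exact_mod_cast (show c + b = b' by omega)
  · rw [hc]
    exact_mod_cast (show c + a' = a by omega)
  · obtain ⟨P, hP, hPle⟩ := Ideal.exists_minimalPrimes_le (I := q.map (algebraMap S T)) (J := qK)
      (Ideal.map_le_iff_le_comap.2 hqK.ge)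
    haveI := hP.1.1
    have hPq : P.comap (algebraMap S T) = q :=
      le_antisymm ((Ideal.comap_mono hPle).trans hqK.le) (Ideal.map_le_iff_le_comap.1 hP.1.2)
    exact ⟨P, hP.1.1, ⟨hPq.symm⟩, fibLoc_dim_zero q P hP hPq⟩

end Groth.L06.FibreDimFieldExt
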