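import Groth.Prelude.Def_EGA4b
import Groth.Prelude.Def_CAlgX
import Groth.Agent.L02.InjFlat.Main
import Groth.Agent.L05.Glue.Flat
import Groth.Agent.L20.FlatLocusOpen
import Mathlib.LinearAlgebra.Matrix.ToLin
import Mathlib.LinearAlgebra.TensorProduct.Quotient
import Mathlib.RingTheory.Flat.Localization
import Mathlib.RingTheory.IsTensorProduct
import Mathlib.RingTheory.Localization.BaseChange

/-! Openness of the locus of fibrewise exactness of a complex of free modules. -/

set_option autoImplicit false
set_option maxSynthPendingDepth 3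
set_option linter.style.haveILetI false
universe u

open TensorProduct IsLocalRing Matrix

namespace Groth.L06.FibreExactLocus

/-- A submodule with flat quotient meets `m • ⊤` in `m` times itself. -/
theorem mem_smul_of_flat {A M : Type u} [CommRing A] [AddCommGroup M] [Module A M] (T : Submodule A M)
    [Module.Flat A (M ⧸ T)] (m : Ideal A) (x : M) (hx : x ∈ T) (hxm : x ∈ m • (⊤ : Submodule A M)) :
    ∃ y ∈ m • (⊤ : Submodule A T), (y : M) = x := by
  refine ⟨⟨x, hx⟩, ?_, rfl⟩
  have hinj := Groth.L05.Glue.lTensor_injective_of_flat_coker T.subtype T.mkQ T.injective_subtype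
    (LinearMap.exact_subtype_mkQ T) T.mkQ_surjective (A ⧸ m)
  have h0 : (Ideal.Quotient.mk m 1) ⊗ₜ[A] (⟨x, hx⟩ : T) = 0 := by
    apply hinj
    rw [map_zero, LinearMap.lTensor_tmul]
    apply (TensorProduct.quotTensorEquivQuotSMul M m).injective
    rw [map_zero, TensorProduct.quotTensorEquivQuotSMul_mk_tmul, one_smul, Submodule.Quotient.mk_eq_zero]
    exact hxm
  have h1 := congrArg (TensorProduct.quotTensorEquivQuotSMul T m) h0
  rwa [map_zero, TensorProduct.quotTensorEquivQuotSMul_mk_tmul, one_smul, Submodule.Quotient.mk_eq_zero] at h1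

theorem map_mulVecLin {S B : Type u} [CommRing S] [CommRing B] (f : S →+* B) {a b : ℕ} (φ : Matrix (Fin a) (Fin b) S)
    (x : Fin b → S) : mulVecLin (φ.map f) (f ∘ x) = f ∘ (φ *ᵥ x) := by
  funext i
  rw [mulVecLin_apply]
  exact (RingHom.map_mulVec f φ x i).symm

theorem mem_range_smul {S : Type u} [CommRing S] {ι : Type} [Fintype ι] [DecidableEq ι] (J : Ideal S) (x : ι → S) :
    x ∈ J • (⊤ : Submodule S (ι → S)) ↔ ∀ i, x i ∈ J := by
  constructor
  · intro h i
    refine Submodule.smul_induction_on h (fun r hr z _ => ?_) (fun a b ha hb => J.add_mem ha hb)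
    exact J.mul_mem_right _ hr
  · intro h
    rw [← Finset.univ_sum_single x]
    refine sum_mem fun i _ => ?_
    rw [show Pi.single i (x i) = x i • (Pi.single i (1 : S) : ι → S) by
      funext l; by_cases hl : l = i <;> simp [hl]]
    exact Submodule.smul_mem_smul (h i) Submodule.mem_top

section Local

variable {A B : Type u} [CommRing A] [IsLocalRing A] [CommRing B] [IsLocalRing B] [Algebra A B]
  [IsLocalHom (algebraMap A B)]

/-- One step: injectivity in the fibre gives injectivity and a flat cokernel. -/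
theorem step (hS : CAlgX.IsEssFinitePresentation A B) [IsNoetherianRing B] [Module.Flat A B] {a b : ℕ}
    (v : (Fin b → B) →ₗ[B] (Fin a → B)) (T : Submodule B (Fin b → B)) (hT : T ≤ LinearMap.ker v)
    (h : ∀ x : Fin b → B, (∀ i, v x i ∈ EGA4.mB A B) → ∃ t ∈ T, ∀ j, x j - t j ∈ EGA4.mB A B) :
    LinearMap.ker v = T ∧ Module.Flat A ((Fin a → B) ⧸ LinearMap.range v) := by
  let u := T.liftQ v hT
  haveI : Module.FinitePresentation B ((Fin b → B) ⧸ T) := Module.finitePresentation_of_finite B _
  haveI : Module.FinitePresentation B (Fin a → B) := Module.finitePresentation_of_finite B _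
  haveI : Module.Flat A (Fin a → B) := Module.Flat.trans A B (Fin a → B)
  obtain ⟨h1, h2⟩ := Groth.L02.InjFlat.inj_flat hS u (fun x hx => by
    obtain ⟨x, rfl⟩ := T.mkQ_surjective x
    obtain ⟨t, ht, hxt⟩ := h x fun i => (mem_range_smul _ _).1 hx i
    have : T.mkQ x = T.mkQ (x - t) := by
      rw [map_sub, (Submodule.Quotient.mk_eq_zero T).2 ht |> fun h => (show T.mkQ t = 0 from h), sub_zero]
    rw [this]
    have h3 : T.mkQ (x - t) ∈ Submodule.map T.mkQ ((EGA4.mB A B) • (⊤ : Submodule B (Fin b → B))) :=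
      Submodule.mem_map_of_mem ((mem_range_smul _ _).2 hxt)
    rw [Submodule.map_smul''] at h3
    exact Submodule.smul_mono le_rfl le_top h3)
  refine ⟨le_antisymm (fun x hx => ?_) hT, ?_⟩
  · rw [← Submodule.Quotient.mk_eq_zero T]
    exact h1 (by rw [map_zero]; exact hx)
  · have hr : LinearMap.range u = LinearMap.range v := Submodule.range_liftQ _ _ _
    exact Module.Flat.of_linearEquiv ((Submodule.quotEquivOfEq _ _ hr.symm).restrictScalars A)

omit [IsLocalHom (algebraMap A B)] in
/-- Conversely, exactness with flat cokernel gives exactness in the fibre. -/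
theorem step_converse {a b : ℕ} (v : (Fin b → B) →ₗ[B] (Fin a → B)) (T : Submodule B (Fin b → B))
    (hker : LinearMap.ker v = T) [Module.Flat A ((Fin a → B) ⧸ LinearMap.range v)]
    (x : Fin b → B) (hx : ∀ i, v x i ∈ EGA4.mB A B) : ∃ t ∈ T, ∀ j, x j - t j ∈ EGA4.mB A B := by
  let R := (LinearMap.range v).restrictScalars A
  haveI : Module.Flat A ((Fin a → B) ⧸ R) :=
    Module.Flat.of_linearEquiv (Submodule.Quotient.restrictScalarsEquiv A (LinearMap.range v))
  have hvx : v x ∈ maximalIdeal A • (⊤ : Submodule A (Fin a → B)) := by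
    have h : v x ∈ ((maximalIdeal A).map (algebraMap A B) • (⊤ : Submodule B (Fin a → B))).restrictScalars A :=
      (mem_range_smul _ _).2 hx
    rwa [Ideal.smul_restrictScalars, Submodule.restrictScalars_top] at h
  obtain ⟨y, hy, hyx⟩ := mem_smul_of_flat R (maximalIdeal A) (v x) ⟨x, rfl⟩ hvx
  have key : ∀ y ∈ maximalIdeal A • (⊤ : Submodule A R),
      ∃ z : Fin b → B, (∀ j, z j ∈ EGA4.mB A B) ∧ v z = (y : Fin a → B) := by
    intro y hy
    refine Submodule.smul_induction_on hy (fun r hr w _ => ?_) (fun y₁ y₂ h₁ h₂ => ?_)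
    · obtain ⟨w', hw'⟩ := w.2
      refine ⟨r • w', fun j => ?_, ?_⟩
      · rw [Pi.smul_apply, Algebra.smul_def]
        exact Ideal.mul_mem_right _ _ (Ideal.mem_map_of_mem _ hr)
      · rw [LinearMap.map_smul_of_tower, hw']; rfl
    · obtain ⟨z₁, hz₁, e₁⟩ := h₁
      obtain ⟨z₂, hz₂, e₂⟩ := h₂
      exact ⟨z₁ + z₂, fun j => Ideal.add_mem _ (hz₁ j) (hz₂ j), by rw [map_add, e₁, e₂]; rfl⟩
  obtain ⟨z, hz, hzv⟩ := key y hy
  refine ⟨x - z, ?_, fun j => ?_⟩
  · rw [← hker, LinearMap.mem_ker, map_sub, hzv, hyx, sub_self]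
  · rw [Pi.sub_apply, sub_sub_cancel]; exact hz j

end Local

variable (R S : Type u) [CommRing R] [CommRing S] [Algebra R S]

theorem isOpen_exact [IsNoetherianRing S] {a b : ℕ} (φ : Matrix (Fin a) (Fin b) S) (T : Submodule S (Fin b → S)) :
    IsOpen {q : PrimeSpectrum S | ∀ x : Fin b → S, φ *ᵥ x = 0 → ∃ s ∉ q.asIdeal, s • x ∈ T} := by
  classical
  obtain ⟨G, hG⟩ := IsNoetherian.noetherian (LinearMap.ker (mulVecLin φ))
  rw [isOpen_iff_forall_mem_open]
  intro q hq
  have hgen : ∀ x ∈ G, φ *ᵥ x = 0 := fun x hx => by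
    have : x ∈ LinearMap.ker (mulVecLin φ) := hG ▸ Submodule.subset_span hx
    exact this
  choose! s hs hsx using fun x (hx : x ∈ G) => hq x (hgen x hx)
  refine ⟨PrimeSpectrum.basicOpen (∏ x ∈ G, s x), fun q' hq' x hx => ⟨∏ x ∈ G, s x, hq', ?_⟩,
    (PrimeSpectrum.basicOpen _).isOpen, ?_⟩
  · have hmem : x ∈ Submodule.span S (G : Set (Fin b → S)) := by rw [hG]; exact hx
    refine Submodule.span_induction (p := fun x _ => (∏ x ∈ G, s x) • x ∈ T) (fun g hg => ?_) ?_
      (fun u w _ _ hu hw => by rw [smul_add]; exact add_mem hu hw)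
      (fun r u _ hu => by rw [smul_comm]; exact T.smul_mem r hu) hmem
    · rw [← Finset.prod_erase_mul _ _ hg, mul_smul]
      exact T.smul_mem _ (hsx g hg)
    · rw [smul_zero]; exact zero_mem _
  · show (∏ x ∈ G, s x) ∉ q.asIdeal
    rw [Ideal.IsPrime.prod_mem_iff]
    rintro ⟨x, hx, hsq⟩
    exact hs x hx hsq

theorem main [IsNoetherianRing R] [Algebra.FiniteType R S] [Module.Flat R S]
    (e : ℕ) (n : ℕ → ℕ) (φ : (i : ℕ) → Matrix (Fin (n i)) (Fin (n (i + 1))) S)
    (hφ : ∀ i, i + 2 ≤ e → φ i * φ (i + 1) = 0) :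
    IsOpen {q : PrimeSpectrum S |
      (∀ i, i + 2 ≤ e →
        LinearMap.ker (Matrix.mulVecLin ((φ i).map (algebraMap S (EGA4.FibLocRing R S q.asIdeal)))) =
          LinearMap.range (Matrix.mulVecLin ((φ (i + 1)).map (algebraMap S (EGA4.FibLocRing R S q.asIdeal))))) ∧
      (1 ≤ e → Function.Injective
        (Matrix.mulVecLin ((φ (e - 1)).map (algebraMap S (EGA4.FibLocRing R S q.asIdeal)))))} := by
  classical
  haveI : IsNoetherianRing S := Algebra.FiniteType.isNoetherianRing R S
  haveI : Algebra.FinitePresentation R S := Algebra.FinitePresentation.of_finiteType.1 inferInstance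
  let T : (i : ℕ) → Submodule S (Fin (n (i + 1)) → S) := fun i =>
    if i + 2 ≤ e then LinearMap.range (mulVecLin (φ (i + 1))) else ⊥
  let C : ℕ → Type u := fun i => (Fin (n i) → S) ⧸ LinearMap.range (mulVecLin (φ i))
  suffices h : ∀ q : PrimeSpectrum S,
      ((∀ i, i + 2 ≤ e →
        LinearMap.ker (Matrix.mulVecLin ((φ i).map (algebraMap S (EGA4.FibLocRing R S q.asIdeal)))) =
          LinearMap.range (Matrix.mulVecLin ((φ (i + 1)).map (algebraMap S (EGA4.FibLocRing R S q.asIdeal))))) ∧
      (1 ≤ e → Function.Injective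
        (Matrix.mulVecLin ((φ (e - 1)).map (algebraMap S (EGA4.FibLocRing R S q.asIdeal)))))) ↔
      ∀ i : Fin e, (∀ x, φ i *ᵥ x = 0 → ∃ s ∉ q.asIdeal, s • x ∈ T i) ∧
        Module.Flat R (LocalizedModule q.asIdeal.primeCompl (C i)) by
    have hset : ∀ i : Fin e, IsOpen {q : PrimeSpectrum S | (∀ x, φ i *ᵥ x = 0 → ∃ s ∉ q.asIdeal, s • x ∈ T i) ∧
        Module.Flat R (LocalizedModule q.asIdeal.primeCompl (C i))} := fun i => by
      haveI : Module.FinitePresentation S (C i) := Module.finitePresentation_of_finite S _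
      exact (isOpen_exact S (φ i) (T i)).inter Groth.L20.isOpen_flatLocus
    convert isOpen_iInter_of_finite hset using 1
    ext q
    simp only [Set.mem_iInter, Set.mem_setOf_eq]
    exact h q
  intro q
  let p := q.asIdeal.comap (algebraMap R S)
  let A := Localization.AtPrime p
  let B := Localization.AtPrime q.asIdeal
  letI : Algebra A B := (Localization.localRingHom p q.asIdeal (algebraMap R S) rfl).toAlgebra
  haveI : IsLocalHom (algebraMap A B) := Localization.isLocalHom_localRingHom p q.asIdeal (algebraMap R S) rfl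
  haveI : IsScalarTower R A B := IsScalarTower.of_algebraMap_eq fun x => by
    rw [RingHom.algebraMap_toAlgebra, Localization.localRingHom_to_map, ← IsScalarTower.algebraMap_apply]
  haveI : IsNoetherianRing B := IsLocalization.isNoetherianRing q.asIdeal.primeCompl B inferInstance
  haveI : Module.Flat S B := IsLocalization.flat B q.asIdeal.primeCompl
  haveI : Module.Flat R B := Module.Flat.trans R S B
  haveI : Module.Flat A B := (Module.flat_iff_of_isLocalization A p.primeCompl B).2 inferInstance
  have hS : CAlgX.IsEssFinitePresentation A B := by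
    let Sp := Localization (Algebra.algebraMapSubmonoid S p.primeCompl)
    have hle : Algebra.algebraMapSubmonoid S p.primeCompl ≤ q.asIdeal.primeCompl := by
      rintro _ ⟨r, hr, rfl⟩
      exact hr
    let σ : Sp →+* B := IsLocalization.lift (M := Algebra.algebraMapSubmonoid S p.primeCompl) (g := algebraMap S B)
      fun y => IsLocalization.map_units B (⟨y, hle y.2⟩ : q.asIdeal.primeCompl)
    letI : Algebra Sp B := σ.toAlgebra
    haveI : IsScalarTower S Sp B := IsScalarTower.of_algebraMap_eq fun x => (IsLocalization.lift_eq _ x).symm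
    haveI : IsScalarTower A Sp B := IsScalarTower.of_algebraMap_eq' (IsLocalization.ringHom_ext p.primeCompl (by
      ext r
      simp only [RingHom.comp_apply, ← IsScalarTower.algebraMap_apply]
      rw [IsScalarTower.algebraMap_apply R S Sp, ← IsScalarTower.algebraMap_apply S Sp B,
        ← IsScalarTower.algebraMap_apply R S B]))
    haveI := Algebra.isPushout_of_isLocalization p.primeCompl A S Sp
    haveI : Algebra.IsPushout R A S Sp := Algebra.IsPushout.symm inferInstance
    exact ⟨Sp, inferInstance, inferInstance, inferInstance, inferInstance,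
      q.asIdeal.primeCompl.map (algebraMap S Sp),
      Algebra.FinitePresentation.equiv (Algebra.IsPushout.equiv R A S Sp),
      IsLocalization.isLocalization_of_submonoid_le Sp B _ _ hle⟩
  let f := algebraMap S B
  let v := fun i : ℕ => mulVecLin ((φ i).map f)
  let Fb := EGA4.FibLocRing R S q.asIdeal
  have hmB : EGA4.mB A B = p.map (algebraMap R B) := by
    show (maximalIdeal A).map (algebraMap A B) = _
    rw [← Localization.AtPrime.map_eq_maximalIdeal, Ideal.map_map, ← IsScalarTower.algebraMap_eq]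
  let π : B →+* Fb := Ideal.Quotient.mk _
  have hπ : ∀ b, π b = 0 ↔ b ∈ EGA4.mB A B := fun b => by rw [hmB]; exact Ideal.Quotient.eq_zero_iff_mem
  have hφF : ∀ i, (φ i).map (algebraMap S Fb) = ((φ i).map f).map π := fun i => by
    rw [Matrix.map_map]; rfl
  have hvπ : ∀ i (x : Fin (n (i + 1)) → B),
      mulVecLin ((φ i).map (algebraMap S Fb)) (π ∘ x) = π ∘ v i x := fun i x => by
    rw [hφF, map_mulVecLin]; rfl
  have hπs : ∀ {m : ℕ} (x : Fin m → Fb), ∃ y : Fin m → B, π ∘ y = x := fun x =>
    ⟨fun j => (Ideal.Quotient.mk_surjective (x j)).choose,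
      funext fun j => (Ideal.Quotient.mk_surjective (x j)).choose_spec⟩
  -- the submodules over `B`
  let TB : (i : ℕ) → Submodule B (Fin (n (i + 1)) → B) := fun i =>
    if i + 2 ≤ e then LinearMap.range (v (i + 1)) else ⊥
  have hcx : ∀ i, TB i ≤ LinearMap.ker (v i) := fun i => by
    show ite _ _ _ ≤ _
    split_ifs with h
    · rintro _ ⟨x, rfl⟩
      rw [LinearMap.mem_ker, mulVecLin_apply, mulVecLin_apply, mulVec_mulVec]
      rw [← Matrix.map_mul, hφ i h, Matrix.map_zero _ (map_zero f), zero_mulVec]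
    · exact bot_le
  have hclear : ∀ {m : ℕ} (x : Fin m → B), ∃ s ∉ q.asIdeal, ∃ y : Fin m → S, f s • x = f ∘ y := fun {m} x => by
    obtain ⟨⟨s, hs⟩, h⟩ := IsLocalization.exist_integer_multiples_of_finite q.asIdeal.primeCompl x
    choose y hy using h
    exact ⟨s, hs, y, funext fun j => by
      rw [Pi.smul_apply, smul_eq_mul, Function.comp_apply, hy j]; exact (Algebra.smul_def _ _).symm⟩
  -- membership in `TB` versus `T`
  have hTT : ∀ i (x : Fin (n (i + 1)) → S), f ∘ x ∈ TB i ↔ ∃ s ∉ q.asIdeal, s • x ∈ T i := fun i x => by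
    show _ ∈ ite _ _ _ ↔ ∃ s ∉ q.asIdeal, s • x ∈ ite _ _ _
    split_ifs with h
    · constructor
      · rintro ⟨y, hy⟩
        obtain ⟨s, hs, z, hz⟩ := hclear y
        have h1 : f ∘ (φ (i + 1) *ᵥ z) = f ∘ (s • x) := by
          rw [← map_mulVecLin, ← hz, map_smul]
          show f s • v (i + 1) y = _
          rw [hy]
          funext j; simp
        choose t ht using fun j => (IsLocalization.eq_iff_exists q.asIdeal.primeCompl B).1 (congrFun h1 j)
        refine ⟨(∏ j, (t j : S)) * s, fun hmem => ?_, (∏ j, (t j : S)) • z, ?_⟩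
        · rcases Ideal.IsPrime.mem_or_mem q.isPrime hmem with h2 | h2
          · obtain ⟨j, -, hj⟩ := (Ideal.IsPrime.prod_mem_iff (p := q.asIdeal)).1 h2
            exact (t j).2 hj
          · exact hs h2
        · rw [map_smul, mul_smul]
          funext j
          simp only [Pi.smul_apply, smul_eq_mul, mulVecLin_apply]
          have := ht j
          simp only [Pi.smul_apply, smul_eq_mul] at this
          rw [← Finset.prod_erase_mul _ _ (Finset.mem_univ j)]
          linear_combination (∏ x ∈ Finset.univ.erase j, (t x : S)) * this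
      · rintro ⟨s, hs, z, hz⟩
        have hu := IsLocalization.map_units B (⟨s, hs⟩ : q.asIdeal.primeCompl)
        refine ⟨(hu.unit⁻¹ : Bˣ).1 • (f ∘ z), ?_⟩
        rw [map_smul, map_mulVecLin]
        funext j
        have := congrFun hz j
        simp only [Pi.smul_apply, smul_eq_mul, mulVecLin_apply, Function.comp_apply] at this ⊢
        rw [this, map_mul, ← mul_assoc, IsUnit.val_inv_mul, one_mul]
    · simp only [Submodule.mem_bot]
      constructor
      · intro hx
        choose t ht using fun j => (IsLocalization.map_eq_zero_iff q.asIdeal.primeCompl B (x j)).1 (congrFun hx j)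
        refine ⟨∏ j, (t j : S), fun hmem => ?_, funext fun j => ?_⟩
        · obtain ⟨j, -, hj⟩ := (Ideal.IsPrime.prod_mem_iff (p := q.asIdeal)).1 hmem
          exact (t j).2 hj
        · simp only [Pi.smul_apply, smul_eq_mul, Pi.zero_apply]
          rw [← Finset.prod_erase_mul _ _ (Finset.mem_univ j), mul_assoc, ht j, mul_zero]
      · rintro ⟨s, hs, hsx⟩
        funext j
        refine (IsLocalization.map_eq_zero_iff q.asIdeal.primeCompl B (x j)).2 ⟨⟨s, hs⟩, ?_⟩
        exact congrFun hsx j
  have hexact : ∀ i, LinearMap.ker (v i) = TB i ↔ ∀ x, φ i *ᵥ x = 0 → ∃ s ∉ q.asIdeal, s • x ∈ T i := fun i => by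
    constructor
    · intro h x hx
      refine (hTT i x).1 ?_
      rw [← h, LinearMap.mem_ker, map_mulVecLin, hx]
      funext j; simp
    · intro h
      refine le_antisymm (fun x hx => ?_) (hcx i)
      obtain ⟨s, hs, y, hy⟩ := hclear x
      have h1 : f ∘ (φ i *ᵥ y) = 0 := by
        rw [← map_mulVecLin, ← hy, map_smul]
        show f s • v i x = 0
        rw [show v i x = 0 from hx, smul_zero]
      choose t ht using fun j => (IsLocalization.map_eq_zero_iff q.asIdeal.primeCompl B _).1 (congrFun h1 j)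
      have hy' : φ i *ᵥ ((∏ j, (t j : S)) • y) = 0 := by
        rw [mulVec_smul]
        funext j
        simp only [Pi.smul_apply, smul_eq_mul, Pi.zero_apply]
        rw [← Finset.prod_erase_mul _ _ (Finset.mem_univ j), mul_assoc, ht j, mul_zero]
      have h2 := (hTT i _).2 (h _ hy')
      have hu : IsUnit (f (∏ j, (t j : S)) * f s) := by
        rw [← map_mul]
        refine IsLocalization.map_units B (⟨_, fun hmem => ?_⟩ : q.asIdeal.primeCompl)
        rcases Ideal.IsPrime.mem_or_mem q.isPrime hmem with h3 | h3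
        · obtain ⟨j, -, hj⟩ := (Ideal.IsPrime.prod_mem_iff (p := q.asIdeal)).1 h3
          exact (t j).2 hj
        · exact hs h3
      have h4 : f ∘ ((∏ j, (t j : S)) • y) = (f (∏ j, (t j : S)) * f s) • x := by
        rw [mul_smul, hy]
        funext j; simp
      rw [h4] at h2
      have h5 := (TB i).smul_mem (hu.unit⁻¹ : Bˣ).1 h2
      rwa [smul_smul, IsUnit.val_inv_mul, one_smul] at h5
  -- flatness transfer
  have hflat : ∀ i, Module.Flat A ((Fin (n i) → B) ⧸ LinearMap.range (v i)) ↔
      Module.Flat R (LocalizedModule q.asIdeal.primeCompl (C i)) := fun i => by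
    let N := (Fin (n i) → B) ⧸ LinearMap.range (v i)
    let fl : (Fin (n i) → S) →ₗ[S] (Fin (n i) → B) :=
      LinearMap.pi fun j => (Algebra.linearMap S B).comp (LinearMap.proj j)
    let g : C i →ₗ[S] N := Submodule.liftQ _ (((LinearMap.range (v i)).mkQ.restrictScalars S).comp fl) (by
      rintro _ ⟨x, rfl⟩
      refine (Submodule.Quotient.mk_eq_zero _).2 ⟨f ∘ x, ?_⟩
      exact map_mulVecLin f (φ i) x)
    haveI : IsLocalizedModule q.asIdeal.primeCompl g := by
      refine ⟨fun s => ?_, fun y => ?_, fun {x₁ x₂} hx => ?_⟩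
      · rw [Module.End.isUnit_iff]
        have hu := IsLocalization.map_units B s
        refine ⟨fun a b hab => ?_, fun a => ⟨(hu.unit⁻¹ : Bˣ).1 • a, ?_⟩⟩
        · have hab' : algebraMap S B s • a = algebraMap S B s • b := by
            rw [algebraMap_smul, algebraMap_smul]; exact hab
          exact hu.smul_left_cancel.1 hab'
        · show (s : S) • ((hu.unit⁻¹ : Bˣ).1 • a) = a
          rw [← algebraMap_smul B (s : S), smul_smul, IsUnit.mul_val_inv, one_smul]
      · obtain ⟨y, rfl⟩ := Submodule.mkQ_surjective _ y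
        obtain ⟨s, hs, z, hz⟩ := hclear y
        refine ⟨⟨Submodule.Quotient.mk z, ⟨s, hs⟩⟩, ?_⟩
        show (⟨s, hs⟩ : q.asIdeal.primeCompl) • (LinearMap.range (v i)).mkQ y = (LinearMap.range (v i)).mkQ (fl z)
        rw [Submonoid.smul_def, show fl z = f ∘ z from rfl, ← hz, map_smul, algebraMap_smul]
      · obtain ⟨x₁, rfl⟩ := Submodule.mkQ_surjective _ x₁
        obtain ⟨x₂, rfl⟩ := Submodule.mkQ_surjective _ x₂
        obtain ⟨w, hw⟩ := (Submodule.Quotient.eq _).1 (show Submodule.Quotient.mk (f ∘ x₁) = Submodule.Quotient.mk (f ∘ x₂) from hx)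
        obtain ⟨s, hs, z, hz⟩ := hclear w
        have h1 : f ∘ (φ i *ᵥ z) = f ∘ (s • (x₁ - x₂)) := by
          rw [← map_mulVecLin, ← hz, map_smul]
          show f s • v i w = _
          rw [hw]
          funext j; simp
        choose t ht using fun j => (IsLocalization.eq_iff_exists q.asIdeal.primeCompl B).1 (congrFun h1 j)
        refine ⟨⟨(∏ j, (t j : S)) * s, fun hmem => ?_⟩, ?_⟩
        · rcases Ideal.IsPrime.mem_or_mem q.isPrime hmem with h2 | h2
          · obtain ⟨j, -, hj⟩ := (Ideal.IsPrime.prod_mem_iff (p := q.asIdeal)).1 h2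
            exact (t j).2 hj
          · exact hs h2
        · refine (Submodule.Quotient.eq _).2 ⟨(∏ j, (t j : S)) • z, ?_⟩
          rw [map_smul]
          funext j
          simp only [Pi.smul_apply, Pi.sub_apply, smul_eq_mul, mulVecLin_apply]
          have := ht j
          simp only [Pi.smul_apply, Pi.sub_apply, smul_eq_mul] at this
          rw [← Finset.prod_erase_mul _ _ (Finset.mem_univ j)]
          linear_combination (∏ x ∈ Finset.univ.erase j, (t x : S)) * this
    let eN := (IsLocalizedModule.iso q.asIdeal.primeCompl g).restrictScalars R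
    rw [Module.flat_iff_of_isLocalization A p.primeCompl N]
    exact ⟨fun _ => Module.Flat.of_linearEquiv eN, fun _ => Module.Flat.of_linearEquiv eN.symm⟩
  -- exactness in the fibre
  have hfib : ∀ i, (∀ x, (∀ j, v i x j ∈ EGA4.mB A B) → ∃ t ∈ TB i, ∀ j, x j - t j ∈ EGA4.mB A B) ↔
      LinearMap.ker (mulVecLin ((φ i).map (algebraMap S Fb))) =
        if i + 2 ≤ e then LinearMap.range (mulVecLin ((φ (i + 1)).map (algebraMap S Fb))) else ⊥ := fun i => by
    show (∀ x, _ → ∃ t ∈ ite _ _ _, _) ↔ _
    split_ifs with h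
    · constructor
      · intro H
        refine le_antisymm (fun y hy => ?_) ?_
        · obtain ⟨x, rfl⟩ := hπs y
          rw [LinearMap.mem_ker, hvπ] at hy
          obtain ⟨t, ⟨w, rfl⟩, ht⟩ := H x fun j => (hπ _).1 (congrFun hy j)
          refine ⟨π ∘ w, ?_⟩
          rw [hvπ]
          funext j
          rw [Function.comp_apply, Function.comp_apply, eq_comm, ← sub_eq_zero, ← map_sub, hπ]
          exact ht j
        · rintro _ ⟨y, rfl⟩
          rw [LinearMap.mem_ker, mulVecLin_apply, mulVecLin_apply, mulVec_mulVec, ← Matrix.map_mul, hφ i h,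
            Matrix.map_zero _ (map_zero _), zero_mulVec]
      · intro H x hx
        have h1 : π ∘ x ∈ LinearMap.ker (mulVecLin ((φ i).map (algebraMap S Fb))) := by
          rw [LinearMap.mem_ker, hvπ]; exact funext fun j => (hπ _).2 (hx j)
        rw [H] at h1
        obtain ⟨y, hy⟩ := h1
        obtain ⟨w, rfl⟩ := hπs y
        rw [hvπ] at hy
        refine ⟨v (i + 1) w, ⟨w, rfl⟩, fun j => (hπ _).1 ?_⟩
        rw [map_sub, sub_eq_zero]
        exact (congrFun hy j).symm
    · constructor
      · intro H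
        refine le_bot_iff.1 fun y hy => ?_
        obtain ⟨x, rfl⟩ := hπs y
        rw [LinearMap.mem_ker, hvπ] at hy
        obtain ⟨t, ht0, ht⟩ := H x fun j => (hπ _).1 (congrFun hy j)
        rw [Submodule.mem_bot] at ht0
        subst ht0
        exact funext fun j => (hπ _).2 (by simpa using ht j)
      · intro H x hx
        refine ⟨0, zero_mem _, fun j => ?_⟩
        have h1 : π ∘ x ∈ LinearMap.ker (mulVecLin ((φ i).map (algebraMap S Fb))) := by
          rw [LinearMap.mem_ker, hvπ]; exact funext fun j => (hπ _).2 (hx j)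
        rw [H, Submodule.mem_bot] at h1
        rw [Pi.zero_apply, sub_zero]
        exact (hπ _).1 (congrFun h1 j)
  constructor
  · rintro ⟨h1, h2⟩ i
    have hf : LinearMap.ker (mulVecLin ((φ i).map (algebraMap S Fb))) =
        if (i : ℕ) + 2 ≤ e then LinearMap.range (mulVecLin ((φ (i + 1)).map (algebraMap S Fb))) else ⊥ := by
      split_ifs with h
      · exact h1 i h
      · have hi : (i : ℕ) = e - 1 := by have := i.2; omega
        have := h2 (by have := i.2; omega)
        rw [hi]
        exact LinearMap.ker_eq_bot.2 this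
    obtain ⟨hk, hfl⟩ := step hS (v i) (TB i) (hcx i) ((hfib i).2 hf)
    exact ⟨(hexact i).1 hk, (hflat i).1 hfl⟩
  · intro H
    have key : ∀ i, i < e → LinearMap.ker (mulVecLin ((φ i).map (algebraMap S Fb))) =
        if i + 2 ≤ e then LinearMap.range (mulVecLin ((φ (i + 1)).map (algebraMap S Fb))) else ⊥ := fun i hi => by
      obtain ⟨hk, hfl⟩ := H ⟨i, hi⟩
      haveI := (hflat i).2 hfl
      exact (hfib i).1 (step_converse (v i) (TB i) ((hexact i).2 hk))
    refine ⟨fun i hi => ?_, fun he => ?_⟩
    · have := key i (by omega); rwa [if_pos hi] at this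
    · have := key (e - 1) (by omega)
      rw [if_neg (by omega)] at this
      exact LinearMap.ker_eq_bot.1 this

end Groth.L06.FibreExactLocus
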