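import Groth.Agent.S9687
import Mathlib.AlgebraicGeometry.Properties
import Mathlib.AlgebraicGeometry.Morphisms.Proper
import Mathlib.Topology.NoetherianSpace
import Mathlib.FieldTheory.FinTrdeg

/-!
# Finite fibres from the dimension formula
-/

set_option autoImplicit false
set_option maxSynthPendingDepth 3
set_option linter.style.haveILetI false
set_option backward.isDefEq.respectTransparency.types false

universe u

open CategoryTheory CategoryTheory.Limits AlgebraicGeometry TopologicalSpace

namespace Groth.L06.FibreFiniteDim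

variable {X Y : Scheme.{u}} (f : X ⟶ Y)

/-- A fibre without specialisations is finite. -/
theorem finite_fibre [LocallyOfFiniteType f] [QuasiCompact f] (y : Y)
    (h : ∀ x x' : X, f x = y → f x' = y → x' ⤳ x → x' = x) : (f ⁻¹' {y}).Finite := by
  haveI : LocallyOfFiniteType (f.fiberToSpecResidueField y) :=
    MorphismProperty.pullback_snd (P := @LocallyOfFiniteType) _ _ ‹_›
  haveI : IsNoetherianRing (Y.residueField y : Type u) := inferInstance
  haveI : IsLocallyNoetherian (f.fiber y) :=
    LocallyOfFiniteType.isLocallyNoetherian (f.fiberToSpecResidueField y)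
  haveI : IsNoetherian (f.fiber y) := ⟨⟩
  have hr := Scheme.Hom.range_fiberι f y
  have hs : ∀ z z' : f.fiber y, z' ⤳ z → z' = z := fun z z' hz =>
    (f.fiberι y).isEmbedding.injective (h _ _ (hr.le ⟨z, rfl⟩) (hr.le ⟨z', rfl⟩)
      (hz.map (f.fiberι y).continuous))
  have hfin : Finite (f.fiber y) := by
    rw [← Set.finite_univ_iff, ← sUnion_irreducibleComponents]
    refine NoetherianSpace.finite_irreducibleComponents.sUnion fun C hC => Set.Subsingleton.finite ?_
    intro a ha b hb
    obtain ⟨g, hg⟩ := QuasiSober.sober hC.1 (isClosed_of_mem_irreducibleComponents C hC)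
    rw [← hs a g (hg.specializes ha), ← hs b g (hg.specializes hb)]
  rw [← hr]
  exact Set.finite_range _

theorem two_le_of_chain [IsIntegral X] [IsLocallyNoetherian Y] [LocallyOfFiniteType f] {y : Y}
    (x x' : X) (hξ : letI := (f.residueFieldMap (genericPoint X)).hom.toAlgebra
      Algebra.trdeg (Y.residueField (f (genericPoint X))) (X.residueField (genericPoint X)) = 0)
    (hx : f x = y) (hx' : f x' = y) (hsp : x' ⤳ x) (hne : ¬ x' = x) (hx'ξ : x' ≠ genericPoint X) :
    2 ≤ ringKrullDim (Y.presheaf.stalk y) := by
  subst hx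
  letI := (f.residueFieldMap x).hom.toAlgebra
  haveI : Algebra.EssFiniteType (Y.residueField (f x)) (X.residueField x) :=
    RingHom.EssFiniteType.residueFieldMap (LocallyOfFiniteType.stalkMap f x)
  obtain ⟨n, hn⟩ := Cardinal.lt_aleph0.1 (trdeg_lt_aleph0 (Y.residueField (f x)) (X.residueField x))
  have key := Groth.Agent.S9687.result f x n 0 hn fun ξ hξc _ => by
    have h1 : closure ({ξ} : Set X) = Set.univ := by
      rw [irreducibleComponents_eq_singleton] at hξc
      exact hξc
    have h2 : ξ = genericPoint X := (show IsGenericPoint ξ Set.univ from h1).eq (genericPoint_spec X)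
    subst h2
    exact hξ.le
  have h2 : (2 : ℕ∞) ≤ Order.coheight x := by
    have hlt1 : x < x' := ⟨hsp, fun h => hne ((Specializes.antisymm h hsp).eq.symm)⟩
    have hlt2 : x' < genericPoint X :=
      ⟨genericPoint_specializes x', fun h => hx'ξ (Specializes.antisymm h (genericPoint_specializes x')).eq⟩
    let p₁ : LTSeries ↑X := (RelSeries.singleton _ (genericPoint X)).cons x' hlt2
    have hh : p₁.head = x' := RelSeries.head_cons _ _ _
    let p₂ : LTSeries ↑X := p₁.cons x (show x < p₁.head from hh.symm ▸ hlt1)
    have hs1 := Order.length_le_coheight (p := p₂) (x := x) (by rw [RelSeries.head_cons])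
    exact hs1
  have h3 : (2 : WithBot ℕ∞) ≤ ringKrullDim (X.presheaf.stalk x) := by
    rw [ringKrullDim_stalk_eq_coheight]
    exact WithBot.coe_le_coe.mpr h2
  calc (2 : WithBot ℕ∞) ≤ ringKrullDim (X.presheaf.stalk x) := h3
    _ ≤ ringKrullDim (X.presheaf.stalk x) + (n : WithBot ℕ∞) := le_add_of_nonneg_right (by exact_mod_cast Nat.zero_le n)
    _ ≤ ringKrullDim (Y.presheaf.stalk (f x)) + ((0 : ℕ) : WithBot ℕ∞) := key
    _ = _ := by simp

end Groth.L06.FibreFiniteDim
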