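import Groth.Agent.L06.DescendFiniteTypeInt
import Groth.Agent.L06.FibreDimCons
import Groth.Agent.L07.GeomRk.Reduced
import Groth.Agent.L07.Count.Constr
import Groth.Agent.L07.Count.GeomConn
import Groth.Agent.L07.Count.Field
import Groth.Agent.L20.GeomFibre
import Groth.Agent.L23.FibreDimBC
import Mathlib.RingTheory.Spectrum.Prime.ConstructibleSet
import Mathlib.AlgebraicGeometry.Geometrically.Reduced
import Mathlib.AlgebraicGeometry.Geometrically.Irreducible
import Mathlib.AlgebraicGeometry.Geometrically.Connected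

/-!
# Models of finite type over the integers with a property of fibres
-/

set_option autoImplicit false
set_option maxSynthPendingDepth 3
set_option linter.style.haveILetI false
set_option backward.isDefEq.respectTransparency.types false
set_option backward.isDefEq.respectTransparency false

universe u

open CategoryTheory CategoryTheory.Limits AlgebraicGeometry TensorProduct

noncomputable section

namespace Groth.L06.FibreModel

/-- A map into a constructible set factors through a finitely generated stage with the same property. -/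
theorem exists_stage {A : Type u} [CommRing A] (A₀ : Subalgebra ℤ A) (hA₀ : A₀.FG)
    (E : Set (PrimeSpectrum A₀)) (hE : Topology.IsConstructible E)
    (h : ∀ p : PrimeSpectrum A, PrimeSpectrum.comap A₀.val.toRingHom p ∈ E) :
    ∃ (A₁ : Subalgebra ℤ A) (hle : A₀ ≤ A₁), A₁.FG ∧
      ∀ p : PrimeSpectrum A₁, PrimeSpectrum.comap (Subalgebra.inclusion hle).toRingHom p ∈ E := by
  classical
  obtain ⟨S, hS⟩ := PrimeSpectrum.exists_constructibleSetData_iff.2 hE.compl
  have hdata : ∀ C : {C // C ∈ S}, ∃ (N : ℕ) (a : Fin C.1.n → A),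
      A₀.val C.1.f ^ N = ∑ i, a i * A₀.val (C.1.g i) := by
    intro C
    have hrad : A₀.val C.1.f ∈ (Ideal.span (Set.range fun i => A₀.val (C.1.g i))).radical := by
      rw [Ideal.radical_eq_sInf, Submodule.mem_sInf]
      rintro q ⟨hq, hqp⟩
      by_contra hf
      have hmem : PrimeSpectrum.comap A₀.val.toRingHom ⟨q, hqp⟩ ∈ S.toSet := by
        refine Set.mem_iUnion₂.2 ⟨C.1, C.2, ?_, ?_⟩
        · rintro _ ⟨i, rfl⟩
          exact hq (Ideal.subset_span ⟨i, rfl⟩)
        · intro hf'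
          exact hf (hf' (Set.mem_singleton _))
      rw [hS] at hmem
      exact hmem (h _)
    obtain ⟨N, hN⟩ := hrad
    obtain ⟨a, ha⟩ := Ideal.mem_span_range_iff_exists_fun.1 hN
    exact ⟨N, a, ha.symm⟩
  choose N a ha using hdata
  let T : Finset A := Finset.univ.biUnion fun C : {C // C ∈ S} => Finset.univ.image (a C)
  have hle : A₀ ≤ A₀ ⊔ Algebra.adjoin ℤ (T : Set A) := le_sup_left
  refine ⟨A₀ ⊔ Algebra.adjoin ℤ (T : Set A), hle, hA₀.sup ⟨T, rfl⟩, fun p => ?_⟩
  by_contra hp
  rw [← Set.mem_compl_iff, ← hS] at hp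
  obtain ⟨C, hC, hg, hf⟩ := Set.mem_iUnion₂.1 hp
  have hmem : ∀ i, a ⟨C, hC⟩ i ∈ A₀ ⊔ Algebra.adjoin ℤ (T : Set A) := fun i =>
    (le_sup_right : Algebra.adjoin ℤ (T : Set A) ≤ _) (Algebra.subset_adjoin
      (Finset.mem_biUnion.2 ⟨⟨C, hC⟩, Finset.mem_univ _, Finset.mem_image.2 ⟨i, Finset.mem_univ _, rfl⟩⟩))
  refine hf ?_
  rintro _ rfl
  refine (p.isPrime).mem_of_pow_mem (N ⟨C, hC⟩) ?_
  have e : (Subalgebra.inclusion hle).toRingHom C.f ^ N ⟨C, hC⟩ =
      ∑ i, (⟨_, hmem i⟩ : ↥(A₀ ⊔ Algebra.adjoin ℤ (T : Set A))) * (Subalgebra.inclusion hle).toRingHom (C.g i) := by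
    refine Subtype.ext ?_
    rw [AddSubmonoidClass.coe_finsetSum]
    exact ha ⟨C, hC⟩
  rw [e]
  exact Ideal.sum_mem _ fun i _ => Ideal.mul_mem_left _ _ (hg ⟨i, rfl⟩)

/-- A property of fibres which is invariant under base change and constructible descends to a model of finite
type over the integers. -/
theorem exists_model_fibres (Q : ∀ {X Y : Scheme.{u}}, (X ⟶ Y) → Y → Prop)
    (hinv : ∀ {X Y X' Y' : Scheme.{u}} (f : X ⟶ Y) (g : Y' ⟶ Y) (f' : X' ⟶ Y') (g' : X' ⟶ X)
      [LocallyOfFiniteType f] (_ : IsPullback g' f' f g) (y' : Y'), Q f' y' ↔ Q f (g y'))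
    (hcons : ∀ {X Y : Scheme.{u}} (f : X ⟶ Y) [LocallyOfFinitePresentation f] [QuasiCompact f] [QuasiSeparated f],
      Topology.IsLocallyConstructible {y : Y | Q f y})
    {X S : Scheme.{u}} (f : X ⟶ S) [IsAffine X] [IsAffine S] [LocallyOfFinitePresentation f] (hf : ∀ s, Q f s) :
    ∃ (X₀ S₀ : Scheme.{u}) (f₀ : X₀ ⟶ S₀) (g : S ⟶ S₀) (g' : X ⟶ X₀), IsAffine X₀ ∧ IsAffine S₀ ∧
      IsPullback g' f f₀ g ∧ Algebra.FiniteType ℤ Γ(S₀, ⊤) ∧ LocallyOfFiniteType f₀ ∧ ∀ s₀, Q f₀ s₀ := by
  letI := f.appTop.hom.toAlgebra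
  haveI : Algebra.FinitePresentation Γ(S, ⊤) Γ(X, ⊤) :=
    (HasRingHomProperty.iff_of_isAffine (P := @LocallyOfFinitePresentation)).1 inferInstance
  let P := Algebra.Presentation.ofFinitePresentation Γ(S, ⊤) Γ(X, ⊤)
  let A₀ := Algebra.adjoin ℤ P.coeffs
  haveI : P.HasCoeffs A₀ := ⟨by
    intro x hx
    exact ⟨⟨x, Algebra.subset_adjoin hx⟩, rfl⟩⟩
  have hA₀ : A₀.FG := ⟨P.finite_coeffs.toFinset, by simp [A₀]⟩
  let B₀ := P.ModelOfHasCoeffs A₀
  let e := P.tensorModelOfHasCoeffsEquiv A₀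
  let f₀ := Spec.map (CommRingCat.ofHom (algebraMap A₀ B₀))
  haveI : LocallyOfFinitePresentation f₀ :=
    (HasRingHomProperty.Spec_iff (P := @LocallyOfFinitePresentation)).2
      (RingHom.finitePresentation_algebraMap.2 inferInstance)
  have hEc : Topology.IsConstructible {y | Q f₀ y} := (hcons f₀).isConstructible
  have h0 := isPullback_SpecMap_of_isPushout _ _ _ _ (CommRingCat.isPushout_tensorProduct A₀ Γ(S, ⊤) B₀)
  -- the model at a stage
  obtain ⟨A₁, hle, hA₁, hA₁E⟩ := exists_stage A₀ hA₀ {y | Q f₀ y} hEc (fun p => by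
    have hX := IsPullback.of_horiz_isIso ⟨(Scheme.isoSpec_hom_naturality f)⟩
    have h1 := (hinv f₀ _ _ _ h0.flip p).1
    refine h1 ?_
    -- transport along the isomorphism of models
    let eB : Spec (CommRingCat.of Γ(X, ⊤)) ≅ Spec (CommRingCat.of (Γ(S, ⊤) ⊗[A₀] B₀)) :=
      Scheme.Spec.mapIso e.toRingEquiv.toCommRingCatIso.op
    have hw : (X.isoSpec ≪≫ eB).hom ≫ Spec.map (CommRingCat.ofHom (algebraMap Γ(S, ⊤) (Γ(S, ⊤) ⊗[A₀] B₀))) =
        f ≫ S.isoSpec.hom := by
      rw [← Scheme.isoSpec_hom_naturality f, Iso.trans_hom, Category.assoc]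
      congr 1
      show Spec.map _ ≫ Spec.map _ = Spec.map _
      rw [← Spec.map_comp]
      congr 1
      ext a
      exact e.commutes a
    haveI : LocallyOfFiniteType f := inferInstance
    have hsq : IsPullback (X.isoSpec ≪≫ eB).inv
        (Spec.map (CommRingCat.ofHom (algebraMap Γ(S, ⊤) (Γ(S, ⊤) ⊗[A₀] B₀)))) f S.isoSpec.inv :=
      IsPullback.of_horiz_isIso ⟨by
        rw [Iso.inv_comp_eq, ← Category.assoc, hw, Category.assoc, Iso.hom_inv_id, Category.comp_id]⟩
    exact (hinv f _ _ _ hsq p).2 (hf _))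
  letI : Algebra A₀ A₁ := (Subalgebra.inclusion hle).toRingHom.toAlgebra
  haveI : IsScalarTower A₀ A₁ Γ(S, ⊤) := IsScalarTower.of_algebraMap_eq fun _ => rfl
  haveI : Algebra.FiniteType ℤ A₁ := A₁.fg_iff_finiteType.mp hA₁
  obtain ⟨g, g', hg⟩ := DescendFiniteTypeInt.isPullback_of_model f (A₀ := A₁) (B₀ := A₁ ⊗[A₀] B₀) X.isoSpec S.isoSpec
    (Scheme.isoSpec_hom_naturality f)
    ((Algebra.TensorProduct.cancelBaseChange A₀ A₁ Γ(S, ⊤) Γ(S, ⊤) B₀).trans e)
  refine ⟨_, _, _, g, g', inferInstance, inferInstance, hg, DescendFiniteTypeInt.finiteType_gamma_spec _,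
    (HasRingHomProperty.Spec_iff (P := @LocallyOfFiniteType)).2 (RingHom.finiteType_algebraMap.2 inferInstance),
    fun s₁ => ?_⟩
  have h1 := isPullback_SpecMap_of_isPushout _ _ _ _ (CommRingCat.isPushout_tensorProduct A₀ A₁ B₀)
  exact (hinv f₀ _ _ _ h1.flip s₁).2 (hA₁E s₁)

/-- Irreducibility of geometric fibres is counted by the geometric components. -/
theorem geometricallyIrreducible_fiber_iff {X Y : Scheme.{u}} (f : X ⟶ Y) (y : Y) :
    GeometricallyIrreducible (f.fiberToSpecResidueField y) ↔ MoreMor.nGeomIrredComp f y = 1 := by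
  have key : ∀ Z : Scheme.{u}, IrreducibleSpace Z ↔ (irreducibleComponents Z).encard = 1 := fun Z => by
    constructor
    · intro h
      rw [irreducibleComponents_eq_singleton, Set.encard_singleton]
    · intro h
      obtain ⟨C, hC⟩ := Set.encard_eq_one.1 h
      have huniv : C = Set.univ := by
        refine Set.eq_univ_of_forall fun z => ?_
        have hz := irreducibleComponent_mem_irreducibleComponents z
        rw [hC, Set.mem_singleton_iff] at hz
        rw [← hz]
        exact mem_irreducibleComponent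
      have hirr : IsIrreducible (Set.univ : Set Z) := huniv ▸ (show C ∈ irreducibleComponents Z by rw [hC]; rfl).1
      exact { toPreirreducibleSpace := ⟨hirr.2⟩, toNonempty := ⟨hirr.1.some⟩ }
  constructor
  · intro h
    exact (key _).1 (h.geometrically_irreducibleSpace _ _ _ (IsPullback.of_hasPullback _ _))
  · intro h
    refine ⟨geometrically_iff_of_isClosedUnderIsomorphisms.mpr fun K _ g => ?_⟩
    let L := AlgebraicClosure K
    let α : Spec (CommRingCat.of L) ⟶ Spec (CommRingCat.of K) := Spec.map (CommRingCat.ofHom (algebraMap K L))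
    let P := pullback (f.fiberToSpecResidueField y) g
    haveI : Surjective α := ⟨fun (x : PrimeSpectrum K) =>
      ⟨(default : PrimeSpectrum L), Subsingleton.elim (α := PrimeSpectrum K) _ x⟩⟩
    let e : pullback (pullback.snd (f.fiberToSpecResidueField y) g) α ≅
        pullback f ((α ≫ g) ≫ Y.fromSpecResidueField y) :=
      pullbackLeftPullbackSndIso _ g α ≪≫ pullbackLeftPullbackSndIso f _ (α ≫ g)
    have h1 : IrreducibleSpace ↥(pullback f ((α ≫ g) ≫ Y.fromSpecResidueField y)) := by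
      refine (key _).2 ?_
      show Groth.L07.Count.nIrr _ = 1
      rw [← Groth.L07.Count.nGeomIrredComp_eq f L _ y (fun c => by
        rw [Scheme.Hom.comp_apply, Scheme.fromSpecResidueField_apply]), h]
    haveI : IrreducibleSpace ↥(pullback (pullback.snd (f.fiberToSpecResidueField y) g) α) :=
      haveI := h1
      Groth.L20.irreducibleSpace_of_surjective e.inv
    haveI := MorphismProperty.pullback_fst (P := @Surjective) (pullback.snd (f.fiberToSpecResidueField y) g) α ‹_›
    exact Groth.L20.irreducibleSpace_of_surjective (pullback.fst (pullback.snd (f.fiberToSpecResidueField y) g) α)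

/-- The dimension of fibres is invariant under base change. -/
theorem topologicalKrullDim_fiber_eq {X Y X' Y' : Scheme.{u}} (f : X ⟶ Y) (g : Y' ⟶ Y) (f' : X' ⟶ Y')
    (g' : X' ⟶ X) [LocallyOfFiniteType f] (hc : IsPullback g' f' f g) (y' : Y') :
    topologicalKrullDim ↥(f'.fiber y') = topologicalKrullDim ↥(f.fiber (g y')) := by
  haveI : LocallyOfFiniteType f' := MorphismProperty.of_isPullback hc inferInstance
  have hiff : ∀ n : ℕ, (n : WithBot ℕ∞) ≤ topologicalKrullDim ↥(f'.fiber y') ↔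
      (n : WithBot ℕ∞) ≤ topologicalKrullDim ↥(f.fiber (g y')) := fun n => by
    rw [Groth.L06.FibreDimLocConst.nat_le_fiber_iff, Groth.L06.FibreDimLocConst.nat_le_fiber_iff]
    constructor
    · rintro ⟨x', hx', hn⟩
      refine ⟨g' x', ?_, ?_⟩
      · rw [← Scheme.Hom.comp_apply, hc.w, Scheme.Hom.comp_apply, hx']
      · rwa [← Groth.L23.fibreDimAt_of_isPullback hc x']
    · rintro ⟨x, hx, hn⟩
      obtain ⟨z, hz1, hz2⟩ := Scheme.Pullback.exists_preimage_pullback (f := f) (g := g) x y' hx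
      refine ⟨hc.isoPullback.inv z, ?_, ?_⟩
      · rw [← Scheme.Hom.comp_apply, hc.isoPullback_inv_snd, hz2]
      · rw [Groth.L23.fibreDimAt_of_isPullback hc, ← Scheme.Hom.comp_apply, hc.isoPullback_inv_fst, hz1]
        exact hn
  have key : ∀ a b : WithBot ℕ∞, (∀ n : ℕ, (n : WithBot ℕ∞) ≤ a → (n : WithBot ℕ∞) ≤ b) → a ≤ b := by
    intro a b hab
    induction a using WithBot.recBotCoe with
    | bot => exact bot_le
    | coe a =>
      induction a using ENat.recTopCoe with
      | top =>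
        induction b using WithBot.recBotCoe with
        | bot => exact absurd (hab 0 (WithBot.coe_le_coe.2 bot_le)) (by simp)
        | coe b =>
          refine WithBot.coe_le_coe.2 (top_le_iff.2 ?_)
          by_contra hb
          obtain ⟨m, rfl⟩ := ENat.ne_top_iff_exists.1 hb
          have := WithBot.coe_le_coe.1 (hab (m + 1) (WithBot.coe_le_coe.2 le_top))
          exact absurd (by exact_mod_cast this : m + 1 ≤ m) (by omega)
      | coe m => exact hab m le_rfl
  exact le_antisymm (key _ _ fun n => (hiff n).1) (key _ _ fun n => (hiff n).2)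

theorem exists_model_dim {X S : Scheme.{u}} (f : X ⟶ S) [IsAffine X] [IsAffine S] [LocallyOfFinitePresentation f]
    (d : WithBot ℕ∞) (hd : ∀ s : S, topologicalKrullDim ↥(f.fiber s) = d) :
    ∃ (X₀ S₀ : Scheme.{u}) (f₀ : X₀ ⟶ S₀) (g : S ⟶ S₀) (g' : X ⟶ X₀), IsAffine X₀ ∧ IsAffine S₀ ∧
      IsPullback g' f f₀ g ∧ Algebra.FiniteType ℤ Γ(S₀, ⊤) ∧ LocallyOfFiniteType f₀ ∧
        ∀ s₀ : S₀, topologicalKrullDim ↥(f₀.fiber s₀) = d :=
  exists_model_fibres (fun f y => topologicalKrullDim ↥(f.fiber y) = d)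
    (fun f g f' g' _ hc y' => by rw [topologicalKrullDim_fiber_eq f g f' g' hc y'])
    (fun f _ _ _ => Groth.L06.FibreDimCons.isLocallyConstructible_fibre_eq f d) f hd

theorem geometricallyReduced_iff_fibers {X Y : Scheme.{u}} (f : X ⟶ Y) :
    GeometricallyReduced f ↔ ∀ s, GeometricallyReduced (f.fiberToSpecResidueField s) := by
  simp only [GeometricallyReduced.eq_geometrically, ← geometrically_iff_forall_fiberToSpecResidueField]

theorem exists_model_geometricallyReduced {X S : Scheme.{u}} (f : X ⟶ S) [IsAffine X] [IsAffine S]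
    [LocallyOfFinitePresentation f] [GeometricallyReduced f] :
    ∃ (X₀ S₀ : Scheme.{u}) (f₀ : X₀ ⟶ S₀) (g : S ⟶ S₀) (g' : X ⟶ X₀), IsAffine X₀ ∧ IsAffine S₀ ∧
      IsPullback g' f f₀ g ∧ Algebra.FiniteType ℤ Γ(S₀, ⊤) ∧ LocallyOfFiniteType f₀ ∧ GeometricallyReduced f₀ := by
  obtain ⟨X₀, S₀, f₀, g, g', h1, h2, h3, h4, h5, h6⟩ :=
    exists_model_fibres (fun f y => GeometricallyReduced (f.fiberToSpecResidueField y))
      (fun f g f' g' _ hc y' => by
        rw [GeometricallyReduced.eq_geometrically]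
        exact Groth.L20.geometrically_fiber_iff IsReduced
          (fun p _ _ h => haveI := h; Groth.L20.isReduced_of_surjective_of_flat p) f g f' g' hc y')
      (fun f _ _ _ => Groth.L07.GeomRk.isLocallyConstructible_geometricallyReduced f) f
      (fun s => (geometricallyReduced_iff_fibers f).1 inferInstance s)
  exact ⟨X₀, S₀, f₀, g, g', h1, h2, h3, h4, h5, (geometricallyReduced_iff_fibers f₀).2 h6⟩

theorem exists_model_geometricallyIrreducible {X S : Scheme.{u}} (f : X ⟶ S) [IsAffine X] [IsAffine S]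
    [LocallyOfFinitePresentation f] [GeometricallyIrreducible f] :
    ∃ (X₀ S₀ : Scheme.{u}) (f₀ : X₀ ⟶ S₀) (g : S ⟶ S₀) (g' : X ⟶ X₀), IsAffine X₀ ∧ IsAffine S₀ ∧
      IsPullback g' f f₀ g ∧ Algebra.FiniteType ℤ Γ(S₀, ⊤) ∧ LocallyOfFiniteType f₀ ∧
        GeometricallyIrreducible f₀ := by
  obtain ⟨X₀, S₀, f₀, g, g', h1, h2, h3, h4, h5, h6⟩ :=
    exists_model_fibres (fun f y => MoreMor.nGeomIrredComp f y = 1)
      (fun f g f' g' _ hc y' => by rw [Groth.L07.Count.nGeomIrredComp_of_isPullback f hc y'])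
      (fun f _ _ _ => Groth.L07.Count.isLocallyConstructible_nPair f {p | p.2 = 1}) f
      (fun s => (geometricallyIrreducible_fiber_iff f s).1
        ((GeometricallyIrreducible.iff_geometricallyIrreducible_fiber f).1 inferInstance s))
  exact ⟨X₀, S₀, f₀, g, g', h1, h2, h3, h4, h5, (GeometricallyIrreducible.iff_geometricallyIrreducible_fiber f₀).2
    fun s => (geometricallyIrreducible_fiber_iff f₀ s).2 (h6 s)⟩

theorem exists_model_geometricallyConnected {X S : Scheme.{u}} (f : X ⟶ S) [IsAffine X] [IsAffine S]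
    [LocallyOfFinitePresentation f] [GeometricallyConnected f] :
    ∃ (X₀ S₀ : Scheme.{u}) (f₀ : X₀ ⟶ S₀) (g : S ⟶ S₀) (g' : X ⟶ X₀), IsAffine X₀ ∧ IsAffine S₀ ∧
      IsPullback g' f f₀ g ∧ Algebra.FiniteType ℤ Γ(S₀, ⊤) ∧ LocallyOfFiniteType f₀ ∧
        GeometricallyConnected f₀ := by
  obtain ⟨X₀, S₀, f₀, g, g', h1, h2, h3, h4, h5, h6⟩ :=
    exists_model_fibres (fun f y => MoreMor.nGeomConnComp f y = 1)
      (fun f g f' g' _ hc y' => by rw [Groth.L07.Count.nGeomConnComp_of_isPullback f hc y'])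
      (fun f _ _ _ => Groth.L07.Count.isLocallyConstructible_nPair f {p | p.1 = 1}) f
      (fun s => (Groth.L07.Count.geometricallyConnected_fiber_iff f s).1
        ((GeometricallyConnected.iff_geometricallyConnected_fiber f).1 inferInstance s))
  exact ⟨X₀, S₀, f₀, g, g', h1, h2, h3, h4, h5, (GeometricallyConnected.iff_geometricallyConnected_fiber f₀).2
    fun s => (Groth.L07.Count.geometricallyConnected_fiber_iff f₀ s).2 (h6 s)⟩

end Groth.L06.FibreModel
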