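import Groth.Agent.L06.GeomHom
import Groth.Agent.L19.FlatComp
import Groth.Agent.L06.CplQuotient
import Groth.Agent.L03.GeomReduced2
import Mathlib.RingTheory.Flat.FaithfullyFlat.Algebra

/-! Base change of regular homomorphisms and of geometrically reduced fibres along essentially of
finite type maps (adapted from the proof of S9293), with transport along isomorphisms. -/

set_option autoImplicit false
set_option maxSynthPendingDepth 3
set_option linter.style.haveILetI false
noncomputable section
universe u
open TensorProduct Groth.L06 Groth.L06.PropLoc Groth.L06.GeomFG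

namespace Groth.L06.FibreTransfer

theorem isRegularHom_baseChange (R Λ R' : Type u) [CommRing R] [CommRing Λ] [CommRing R']
    [Algebra R Λ] [Algebra R R'] [Algebra.EssFiniteType R R'] (h : CAlg.IsRegularHom R Λ) :
    CAlg.IsRegularHom R' (TensorProduct R R' Λ) := by
  haveI := h.1
  refine ⟨inferInstance, fun q _ => ?_⟩
  let p := q.comap (algebraMap R R')
  letI : Algebra p.ResidueField q.ResidueField := (Ideal.ResidueField.map p q (algebraMap R R') rfl).toAlgebra
  haveI : IsScalarTower R p.ResidueField q.ResidueField := IsScalarTower.of_algebraMap_eq fun a => by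
    rw [IsScalarTower.algebraMap_apply R R' q.ResidueField]
    exact (Ideal.ResidueField.map_algebraMap p q (algebraMap R R') rfl a).symm
  haveI : Algebra.EssFiniteType R q.ResidueField := Algebra.EssFiniteType.comp R R' q.ResidueField
  haveI : Algebra.EssFiniteType p.ResidueField q.ResidueField := Algebra.EssFiniteType.of_comp R p.ResidueField q.ResidueField
  haveI := (h.2 p).1
  have hG : Geom QReg p.ResidueField (p.Fiber Λ) := fun L _ _ hL => by
    haveI := hL
    haveI := isNoetherianRing_tensor p.ResidueField L (p.Fiber Λ)
    exact loc_reg_iff.mpr ((h.2 p).2 L hL)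
  have key : ∀ (L : Type u) [Field L] [Algebra q.ResidueField L], Module.Finite q.ResidueField L →
      IsNoetherianRing (L ⊗[q.ResidueField] q.Fiber (R' ⊗[R] Λ)) ∧
        IsRegularRing (L ⊗[q.ResidueField] q.Fiber (R' ⊗[R] Λ)) := by
    intro L _ _ hL
    haveI := hL
    letI : Algebra p.ResidueField L := ((algebraMap q.ResidueField L).comp (algebraMap p.ResidueField q.ResidueField)).toAlgebra
    haveI : IsScalarTower p.ResidueField q.ResidueField L := IsScalarTower.of_algebraMap_eq' rfl
    haveI : Algebra.EssFiniteType p.ResidueField L := Algebra.EssFiniteType.comp p.ResidueField q.ResidueField L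
    letI : Algebra R' L := ((algebraMap q.ResidueField L).comp (algebraMap R' q.ResidueField)).toAlgebra
    haveI : IsScalarTower R' q.ResidueField L := IsScalarTower.of_algebraMap_eq' rfl
    letI : Algebra R L := ((algebraMap R' L).comp (algebraMap R R')).toAlgebra
    haveI : IsScalarTower R R' L := IsScalarTower.of_algebraMap_eq' rfl
    haveI : IsScalarTower R p.ResidueField L := IsScalarTower.of_algebraMap_eq fun a => by
      show algebraMap q.ResidueField L (algebraMap R' q.ResidueField (algebraMap R R' a)) =
        algebraMap q.ResidueField L (algebraMap p.ResidueField q.ResidueField (algebraMap R p.ResidueField a))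
      rw [← IsScalarTower.algebraMap_apply R R' q.ResidueField, ← IsScalarTower.algebraMap_apply R p.ResidueField q.ResidueField]
    haveI := isNoetherianRing_tensor p.ResidueField L (p.Fiber Λ)
    let e : L ⊗[p.ResidueField] p.Fiber Λ ≃+* L ⊗[q.ResidueField] q.Fiber (R' ⊗[R] Λ) :=
      (Algebra.TensorProduct.cancelBaseChange R p.ResidueField p.ResidueField L Λ).toRingEquiv.trans
        ((Algebra.TensorProduct.cancelBaseChange R R' R' L Λ).toRingEquiv.symm.trans
          (Algebra.TensorProduct.cancelBaseChange R' q.ResidueField q.ResidueField L (R' ⊗[R] Λ)).toRingEquiv.symm)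
    haveI hn := isNoetherianRing_of_ringEquiv _ e
    exact ⟨hn, loc_reg_iff.mp (loc_of_ringEquiv good_reg e (loc_of_geom good_reg regImp_reg hG L))⟩
  refine ⟨?_, fun L _ _ hL => (key L hL).2⟩
  haveI := (key q.ResidueField inferInstance).1
  exact isNoetherianRing_of_ringEquiv _ (Algebra.TensorProduct.lid q.ResidueField (q.Fiber (R' ⊗[R] Λ))).toRingEquiv


theorem isRegularHom_congr {R S S' : Type u} [CommRing R] [CommRing S] [CommRing S'] [Algebra R S] [Algebra R S']
    (e : S ≃ₐ[R] S') (h : CAlg.IsRegularHom R S) : CAlg.IsRegularHom R S' := by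
  haveI := h.1
  refine ⟨Module.Flat.of_linearEquiv e.symm.toLinearEquiv, fun p _ => ?_⟩
  let e2 : p.Fiber S ≃ₐ[p.ResidueField] p.Fiber S' := Algebra.TensorProduct.congr AlgEquiv.refl e
  haveI := (h.2 p).1
  haveI hN : IsNoetherianRing (p.Fiber S') := isNoetherianRing_of_ringEquiv _ e2.toRingEquiv
  refine ⟨hN, fun L _ _ hL => ?_⟩
  haveI := (h.2 p).2 L hL
  exact IsRegularRing.of_ringEquiv (Algebra.TensorProduct.congr (AlgEquiv.refl : L ≃ₐ[L] L) e2).toRingEquiv

theorem isReduced_fibre_baseChange (R S R' : Type u) [CommRing R] [CommRing S] [CommRing R'] [Algebra R S] [Algebra R R']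
    (h : ∀ (p : Ideal R) [p.IsPrime], Algebra.IsGeometricallyReduced p.ResidueField (p.Fiber S))
    (S' : Type u) [CommRing S'] [Algebra R' S'] (e : R' ⊗[R] S ≃ₐ[R'] S') (q : Ideal R') [q.IsPrime]
    (K : Type u) [Field K] [Algebra q.ResidueField K] : IsReduced (K ⊗[q.ResidueField] q.Fiber S') := by
  let p := q.comap (algebraMap R R')
  let ι : p.ResidueField →+* K := (algebraMap q.ResidueField K).comp (Ideal.ResidueField.map p q (algebraMap R R') rfl)
  letI : Algebra p.ResidueField K := ι.toAlgebra
  letI : Algebra R' K := ((algebraMap q.ResidueField K).comp (algebraMap R' q.ResidueField)).toAlgebra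
  haveI : IsScalarTower R' q.ResidueField K := IsScalarTower.of_algebraMap_eq' rfl
  letI : Algebra R K := ((algebraMap R' K).comp (algebraMap R R')).toAlgebra
  haveI : IsScalarTower R R' K := IsScalarTower.of_algebraMap_eq' rfl
  haveI : IsScalarTower R p.ResidueField K := IsScalarTower.of_algebraMap_eq fun a => by
    show algebraMap q.ResidueField K (algebraMap R' q.ResidueField (algebraMap R R' a)) =
      algebraMap q.ResidueField K (Ideal.ResidueField.map p q (algebraMap R R') rfl (algebraMap R p.ResidueField a))
    rw [Ideal.ResidueField.map_algebraMap]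
  haveI := h p
  haveI : IsReduced (K ⊗[p.ResidueField] p.Fiber S) := Groth.L03.GeomReduced2.isReduced_of_isGeometricallyReduced K
  let E : K ⊗[q.ResidueField] q.Fiber S' ≃+* K ⊗[p.ResidueField] p.Fiber S :=
    (Algebra.TensorProduct.cancelBaseChange R' q.ResidueField q.ResidueField K S').toRingEquiv.trans
      ((Algebra.TensorProduct.congr (AlgEquiv.refl : K ≃ₐ[R'] K) e).symm.toRingEquiv.trans
        ((Algebra.TensorProduct.cancelBaseChange R R' R' K S).toRingEquiv.trans
          (Algebra.TensorProduct.cancelBaseChange R p.ResidueField p.ResidueField K S).toRingEquiv.symm))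
  exact isReduced_of_injective E E.injective

theorem geomReduced_baseChange (R S R' : Type u) [CommRing R] [CommRing S] [CommRing R'] [Algebra R S] [Algebra R R']
    (h : ∀ (p : Ideal R) [p.IsPrime], Algebra.IsGeometricallyReduced p.ResidueField (p.Fiber S))
    (S' : Type u) [CommRing S'] [Algebra R' S'] (e : R' ⊗[R] S ≃ₐ[R'] S') (q : Ideal R') [q.IsPrime] :
    Algebra.IsGeometricallyReduced q.ResidueField (q.Fiber S') :=
  (Algebra.isGeometricallyReduced_field_iff _ _).mpr
    (isReduced_fibre_baseChange R S R' h S' e q (AlgebraicClosure q.ResidueField))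

end Groth.L06.FibreTransfer
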