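import Mathlib.AlgebraicGeometry.Morphisms.Finite
import Mathlib.RingTheory.Spectrum.Prime.Topology
import Mathlib.RingTheory.Ideal.GoingUp
import Mathlib.RingTheory.LocalRing.Module
import Mathlib.RingTheory.Support
import Mathlib.LinearAlgebra.Dimension.OrzechProperty
import Mathlib.Topology.GDelta.Basic

/-! Images of closed nowhere dense sets under finite morphisms are nowhere dense. -/

set_option autoImplicit false
set_option maxSynthPendingDepth 3
set_option linter.style.haveILetI false

universe u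

open TensorProduct PrimeSpectrum

noncomputable section

namespace Groth.L06.FiniteImage

theorem exists_mul_pow_eq_zero {C : Type*} [CommRing C] {q : Ideal C} (hq : q ∈ minimalPrimes C) {x : C}
    (hx : x ∈ q) : ∃ v ∉ q, ∃ n : ℕ, v * x ^ n = 0 := by
  haveI : q.IsPrime := hq.1.1
  by_contra! hne
  let S : Submonoid C :=
    { carrier := {z | ∃ v ∉ q, ∃ n : ℕ, z = v * x ^ n}
      one_mem' := ⟨1, fun h => (Ideal.IsPrime.ne_top ‹_›) ((Ideal.eq_top_iff_one q).2 h), 0, by simp⟩
      mul_mem' := by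
        rintro _ _ ⟨v, hv, n, rfl⟩ ⟨w, hw, m, rfl⟩
        exact ⟨v * w, fun h => (Ideal.IsPrime.mem_or_mem ‹_› h).elim hv hw, n + m, by ring⟩ }
  have hd : Disjoint ((⊥ : Ideal C) : Set C) (S : Set C) := Set.disjoint_left.2 fun z hz hzS => by
    obtain ⟨v, hv, n, rfl⟩ := hzS
    exact hne v hv n hz
  obtain ⟨q', hq', -, hdis⟩ := Ideal.exists_le_prime_disjoint (⊥ : Ideal C) S hd
  have hle : q' ≤ q := fun z hz => by
    by_contra h
    exact Set.disjoint_left.1 hdis hz ⟨z, h, 0, by simp⟩
  have h1 : x ∈ q' := hq.2 ⟨hq', bot_le⟩ hle hx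
  exact Set.disjoint_left.1 hdis h1 ⟨1, fun h => (Ideal.IsPrime.ne_top ‹_›) ((Ideal.eq_top_iff_one q).2 h), 1, by simp⟩

variable {A : Type u} [CommRing A]

/-- Near a suitable point of any nonempty open, a finite module has a family of elements which
generates after multiplying by `s`, and whose relations vanish on the open `D(s)`. -/
theorem exists_generic_basis {D : Type u} [AddCommGroup D] [Module A D] [Module.Finite A D] (s₀ : A)
    (h₀ : ∃ p : PrimeSpectrum A, s₀ ∉ p.asIdeal) :
    ∃ (ι : Type u) (_ : Fintype ι) (d : ι → D) (p : PrimeSpectrum A) (s : A), s ∉ p.asIdeal ∧ s₀ ∣ s ∧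
      (∀ x : D, s • x ∈ Submodule.span A (Set.range d)) ∧
      ∀ a : ι → A, ∑ i, a i • d i = 0 → ∀ p' : PrimeSpectrum A, s ∉ p'.asIdeal → ∀ i, a i ∈ p'.asIdeal := by
  classical
  let nr : PrimeSpectrum A → ℕ := fun p =>
    Module.finrank p.asIdeal.ResidueField (p.asIdeal.ResidueField ⊗[A] D)
  have hex : ∃ n, ∃ p : PrimeSpectrum A, s₀ ∉ p.asIdeal ∧ nr p = n := ⟨_, h₀.choose, h₀.choose_spec, rfl⟩
  obtain ⟨p, hp, hpn⟩ := Nat.find_spec hex
  have hmin : ∀ p' : PrimeSpectrum A, s₀ ∉ p'.asIdeal → nr p ≤ nr p' := fun p' h =>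
    hpn.le.trans (Nat.find_min' hex ⟨p', h, rfl⟩)
  let K := p.asIdeal.ResidueField
  let f : D → K ⊗[A] D := fun x => (1 : K) ⊗ₜ x
  have hspanf : Submodule.span K (Set.range f) = ⊤ := by
    rw [eq_top_iff]
    intro z _
    induction z using TensorProduct.induction_on with
    | zero => exact zero_mem _
    | add a b ha hb => exact add_mem (ha trivial) (hb trivial)
    | tmul c x =>
      have : c ⊗ₜ[A] x = c • f x := by simp [f, TensorProduct.smul_tmul']
      rw [this]
      exact Submodule.smul_mem _ _ (Submodule.subset_span ⟨x, rfl⟩)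
  obtain ⟨b, hb, hbspan, hbli⟩ := exists_linearIndependent K (Set.range f)
  rw [hspanf] at hbspan
  haveI : Finite b := hbli.finite
  letI := Fintype.ofFinite b
  choose d hd using fun i : b => hb i.2
  have hcard : Fintype.card b = nr p := by
    have := finrank_span_eq_card hbli
    rw [Subtype.range_coe, hbspan, finrank_top] at this
    exact this.symm
  let N := Submodule.span A (Set.range d)
  have hsub : Subsingleton (K ⊗[A] (D ⧸ N)) := by
    let g := (N.mkQ).baseChange K
    have hg : g = 0 := by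
      refine LinearMap.ext_on hbspan fun z hz => ?_
      have e : f (d ⟨z, hz⟩) = z := hd ⟨z, hz⟩
      have hN : N.mkQ (d ⟨z, hz⟩) = 0 :=
        (Submodule.Quotient.mk_eq_zero N).2 (Submodule.subset_span ⟨_, rfl⟩)
      generalize d ⟨z, hz⟩ = w at e hN
      subst e
      simp only [f, g, LinearMap.baseChange_tmul, LinearMap.zero_apply, hN, TensorProduct.tmul_zero]
    refine ⟨fun z w => ?_⟩
    have hs : Function.Surjective g := LinearMap.lTensor_surjective K N.mkQ_surjective
    obtain ⟨z, rfl⟩ := hs z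
    obtain ⟨w, rfl⟩ := hs w
    rw [hg]
    rfl
  have hns : p ∉ Module.support A (D ⧸ N) := fun h =>
    not_nontrivial_iff_subsingleton.2 hsub
      ((Module.mem_support_iff_nontrivial_residueField_tensorProduct p).1 h)
  rw [Module.mem_support_iff_of_finite, SetLike.not_le_iff_exists] at hns
  obtain ⟨s₁, hs₁, hs₁p⟩ := hns
  have hgen : ∀ x : D, (s₁ * s₀) • x ∈ N := fun x => by
    rw [mul_comm, mul_smul]
    refine Submodule.smul_mem _ _ ?_
    have h := Module.mem_annihilator.1 hs₁ (N.mkQ x)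
    rwa [← map_smul, Submodule.mkQ_apply, Submodule.Quotient.mk_eq_zero] at h
  refine ⟨b, inferInstance, d, p, s₁ * s₀, fun h => (p.2.mem_or_mem h).elim hs₁p hp, dvd_mul_left _ _,
    hgen, fun a ha p' hp' i => ?_⟩
  let K' := p'.asIdeal.ResidueField
  let v : b → K' ⊗[A] D := fun i => (1 : K') ⊗ₜ d i
  have hsK : algebraMap A K' (s₁ * s₀) ≠ 0 := fun h => hp' (Ideal.algebraMap_residueField_eq_zero.1 h)
  have hvspan : ⊤ ≤ Submodule.span K' (Set.range v) := by
    intro z _
    induction z using TensorProduct.induction_on with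
    | zero => exact zero_mem _
    | add a b ha hb => exact add_mem (ha trivial) (hb trivial)
    | tmul c x =>
      have h1 : algebraMap A K' (s₁ * s₀) • ((1 : K') ⊗ₜ[A] x) ∈ Submodule.span K' (Set.range v) := by
        rw [algebraMap_smul, ← TensorProduct.tmul_smul]
        have h2 := Submodule.mem_map_of_mem (f := TensorProduct.mk A K' D 1) (hgen x)
        rw [Submodule.map_span, ← Set.range_comp] at h2
        exact Submodule.span_le_restrictScalars A K' (Set.range v) h2
      have h3 := Submodule.smul_mem (Submodule.span K' (Set.range v)) (c * (algebraMap A K' (s₁ * s₀))⁻¹) h1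
      rw [smul_smul, mul_assoc, inv_mul_cancel₀ hsK, mul_one] at h3
      simpa [TensorProduct.smul_tmul'] using h3
  have hli : LinearIndependent K' v := by
    refine linearIndependent_of_top_le_span_of_card_le_finrank hvspan ?_
    rw [hcard]
    exact hmin p' fun h => hp' (Ideal.mul_mem_left _ _ h)
  have h4 : ∑ i, algebraMap A K' (a i) • v i = 0 := by
    simp only [v, algebraMap_smul, ← TensorProduct.tmul_smul, ← TensorProduct.tmul_sum, ha, TensorProduct.tmul_zero]
  exact Ideal.algebraMap_residueField_eq_zero.1 (Fintype.linearIndependent_iff.1 hli _ h4 i)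

variable {C : Type u} [CommRing C] [Algebra A C] [Module.Finite A C]

theorem exists_open_subset_zeroLocus (J : Ideal C) (s₀ : A) (h₀ : ∃ p : PrimeSpectrum A, s₀ ∉ p.asIdeal)
    (hsub : (basicOpen s₀ : Set (PrimeSpectrum A)) ⊆ comap (algebraMap A C) '' zeroLocus (J : Set C)) :
    ∃ W : Set (PrimeSpectrum C), IsOpen W ∧ W.Nonempty ∧ W ⊆ zeroLocus (J : Set C) := by
  classical
  obtain ⟨ι, _, d, p, s, hsp, hs₀, hgen, hrel⟩ := exists_generic_basis (D := C ⧸ J) s₀ h₀
  obtain ⟨m, γ, hγ⟩ := Module.Finite.exists_fin (R := A) (M := C)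
  choose c hc using fun i : ι => Ideal.Quotient.mk_surjective (d i)
  have hγ' : ∀ k, ∃ a : ι → A, ∑ i, a i • d i = s • Ideal.Quotient.mk J (γ k) := fun k =>
    (Submodule.mem_span_range_iff_exists_fun A).1 (hgen _)
  choose a ha using hγ'
  have hmk : ∀ (r : A) (x : C), Ideal.Quotient.mk J (r • x) = r • Ideal.Quotient.mk J x := fun r x =>
    map_smul (Ideal.Quotient.mkₐ A J) r x
  let jk : Fin m → C := fun k => s • γ k - ∑ i, a k i • c i
  have hjk : ∀ k, jk k ∈ J := fun k => by
    rw [← Ideal.Quotient.eq_zero_iff_mem]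
    simp only [jk, map_sub, map_sum, hmk, hc, ha, sub_self]
  have key : ∀ q : PrimeSpectrum C, algebraMap A C s ∉ q.asIdeal → (∀ k, jk k ∈ q.asIdeal) →
      q ∈ zeroLocus (J : Set C) := by
    intro q hq hj x hx
    obtain ⟨b, hb⟩ := (Submodule.mem_span_range_iff_exists_fun A).1 (hγ ▸ Submodule.mem_top (x := x))
    let a' : ι → A := fun i => ∑ k, b k * a k i
    have e1 : s • x = ∑ k, b k • jk k + ∑ i, a' i • c i := by
      simp only [jk, a', smul_sub, Finset.smul_sum, Finset.sum_sub_distrib, Finset.sum_smul, mul_smul]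
      rw [Finset.sum_comm (f := fun i k => b k • a k i • c i), sub_add_cancel, ← hb, Finset.smul_sum]
      exact Finset.sum_congr rfl fun k _ => smul_comm _ _ _
    have h0 : ∑ i, a' i • d i = 0 := by
      have := congrArg (Ideal.Quotient.mk J) e1
      simp only [hmk, map_add, map_sum, hc] at this
      rw [Ideal.Quotient.eq_zero_iff_mem.2 hx, smul_zero,
        Finset.sum_eq_zero (fun k _ => by rw [Ideal.Quotient.eq_zero_iff_mem.2 (hjk k), smul_zero]),
        zero_add] at this
      exact this.symm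
    have h1 : s • x ∈ q.asIdeal := by
      rw [e1]
      refine add_mem (sum_mem fun k _ => ?_) (sum_mem fun i _ => ?_)
      · rw [Algebra.smul_def]
        exact Ideal.mul_mem_left _ _ (hj k)
      · rw [Algebra.smul_def]
        exact Ideal.mul_mem_right _ _ (hrel a' h0 (comap (algebraMap A C) q) hq i)
    rw [Algebra.smul_def] at h1
    exact (q.2.mem_or_mem h1).resolve_left hq
  haveI := p.2
  obtain ⟨p₀, hp₀, hp₀p⟩ := Ideal.exists_minimalPrimes_le (I := (⊥ : Ideal A)) (J := p.asIdeal) bot_le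
  haveI : p₀.IsPrime := hp₀.1.1
  have hsp₀ : s ∉ p₀ := fun h => hsp (hp₀p h)
  obtain ⟨q₀, hq₀J, hq₀⟩ := hsub (a := ⟨p₀, inferInstance⟩) (fun h => hsp₀ (Ideal.mem_of_dvd _ hs₀ h))
  have hq₀' : q₀.asIdeal.comap (algebraMap A C) = p₀ := congrArg PrimeSpectrum.asIdeal hq₀
  have hq₀min : q₀.asIdeal ∈ minimalPrimes C := by
    refine ⟨⟨q₀.2, bot_le⟩, fun q' hq' hle => ?_⟩
    by_contra hne
    haveI := hq'.1
    have hlt := Ideal.IsIntegral.comap_lt_comap (R := A) (lt_of_le_not_ge hle hne)
    rw [hq₀'] at hlt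
    exact hlt.not_ge (hp₀.2 ⟨inferInstance, bot_le⟩ hlt.le)
  choose v hv n hvn using fun k => exists_mul_pow_eq_zero hq₀min (hq₀J (hjk k))
  refine ⟨basicOpen (algebraMap A C s * ∏ k, v k), isOpen_basicOpen, ⟨q₀, ?_⟩, fun q hq => ?_⟩
  · show algebraMap A C s * ∏ k, v k ∉ q₀.asIdeal
    intro h
    rcases q₀.2.mem_or_mem h with h | h
    · exact hsp₀ (hq₀' ▸ h)
    · obtain ⟨k, -, hk⟩ := Ideal.IsPrime.prod_mem_iff.1 h
      exact hv k hk
  · replace hq : algebraMap A C s * ∏ k, v k ∉ q.asIdeal := hq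
    refine key q (fun h => hq (Ideal.mul_mem_right _ _ h)) fun k => ?_
    have hvk : v k ∉ q.asIdeal := fun h =>
      hq (Ideal.mul_mem_left _ _ (Ideal.mem_of_dvd _ (Finset.dvd_prod_of_mem v (Finset.mem_univ k)) h))
    refine q.2.mem_of_pow_mem (n k) ((q.2.mem_or_mem ?_).resolve_left hvk)
    rw [hvn]
    exact zero_mem _

theorem isNowhereDense_image_comap {T : Set (PrimeSpectrum C)} (hT : IsNowhereDense T) :
    IsNowhereDense (comap (algebraMap A C) '' T) := by
  refine IsNowhereDense.mono (Set.image_mono subset_closure) ?_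
  obtain ⟨J, hJ⟩ := (isClosed_iff_zeroLocus_ideal (closure T)).1 isClosed_closure
  have hint : interior (closure T) = ∅ := hT
  have hcl : IsClosed (comap (algebraMap A C) '' closure T) :=
    isClosedMap_comap_of_isIntegral _ (algebraMap_isIntegral_iff.2 inferInstance) _ isClosed_closure
  rw [hcl.isNowhereDense_iff]
  by_contra hne
  obtain ⟨p, hp⟩ := Set.nonempty_iff_ne_empty.2 hne
  obtain ⟨_, ⟨s₀, rfl⟩, hps, hs⟩ :=
    isTopologicalBasis_basic_opens.exists_subset_of_mem_open hp isOpen_interior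
  rw [hJ] at hint
  obtain ⟨W, hWo, ⟨q, hq⟩, hWJ⟩ := exists_open_subset_zeroLocus J s₀ ⟨p, hps⟩
    (by rw [← hJ]; exact hs.trans interior_subset)
  exact Set.eq_empty_iff_forall_notMem.1 hint q (hWo.subset_interior_iff.2 hWJ hq)

open AlgebraicGeometry CategoryTheory in
theorem isNowhereDense_image_of_isFinite {Z U : Scheme.{u}} [IsAffine U] (q : Z ⟶ U) [IsFinite q]
    {T : Set Z} (hT : IsNowhereDense T) : IsNowhereDense (q '' T) := by
  haveI : IsAffine Z := isAffine_of_isAffineHom q
  algebraize [q.appTop.hom]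
  haveI : Module.Finite Γ(U, ⊤) Γ(Z, ⊤) := by
    have h := ((HasAffineProperty.iff_of_isAffine (P := @IsFinite)).1 ‹IsFinite q›).2
    exact h
  have e : q = Z.isoSpec.hom ≫ Spec.map q.appTop ≫ U.isoSpec.inv := by
    rw [Scheme.isoSpec_inv_naturality, Iso.hom_inv_id_assoc]
  rw [e]
  have h1 : IsNowhereDense (Z.isoSpec.hom '' T) :=
    Z.isoSpec.hom.homeomorph.isInducing.isNowhereDense_image hT
  have h2 := U.isoSpec.inv.homeomorph.isInducing.isNowhereDense_image
    (isNowhereDense_image_comap (A := Γ(U, ⊤)) (C := Γ(Z, ⊤)) h1)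
  refine h2.mono ?_
  rintro _ ⟨t, ht, rfl⟩
  exact ⟨_, ⟨_, ⟨t, ht, rfl⟩, rfl⟩, rfl⟩

theorem isNowhereDense_union {X : Type*} [TopologicalSpace X] {s t : Set X} (hs : IsNowhereDense s)
    (ht : IsNowhereDense t) : IsNowhereDense (s ∪ t) := by
  rw [IsNowhereDense, closure_union, interior_union_isClosed_of_interior_empty isClosed_closure ht]
  exact hs

theorem isNowhereDense_iUnion {X ι : Type*} [TopologicalSpace X] [Finite ι] {s : ι → Set X}
    (hs : ∀ i, IsNowhereDense (s i)) : IsNowhereDense (⋃ i, s i) := by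
  classical
  haveI := Fintype.ofFinite ι
  suffices h : ∀ F : Finset ι, IsNowhereDense (⋃ i ∈ F, s i) by simpa using h Finset.univ
  intro F
  induction F using Finset.induction with
  | empty => simp
  | insert i F hi ih =>
    rw [Finset.set_biUnion_insert]
    exact isNowhereDense_union (hs i) ih

theorem isNowhereDense_of_forall_open {X : Type*} [TopologicalSpace X] {S : Set X}
    (h : ∀ x : X, ∃ U : Set X, IsOpen U ∧ x ∈ U ∧ IsNowhereDense (S ∩ U)) : IsNowhereDense S := by
  rw [IsNowhereDense, Set.eq_empty_iff_forall_notMem]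
  intro x hx
  obtain ⟨U, hU, hxU, hSU⟩ := h x
  have h1 : interior (closure S) ∩ U ⊆ interior (closure (S ∩ U)) := by
    refine interior_maximal ?_ (isOpen_interior.inter hU)
    rintro y ⟨hy, hyU⟩
    rw [Set.inter_comm]
    exact hU.inter_closure ⟨hyU, interior_subset hy⟩
  exact Set.eq_empty_iff_forall_notMem.1 hSU x (h1 ⟨hx, hxU⟩)

end Groth.L06.FiniteImage
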