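import Groth.Agent.L06.FlatDimSheaf
import Groth.Agent.L20.FibreModuleOpen
import Groth.Agent.L22.FibreSemicont
import Groth.Agent.L19.FibreDimSystem

/-!
# "Flat in dimensions at least n" is limit preserving
-/

set_option autoImplicit false
set_option maxSynthPendingDepth 3
set_option linter.style.haveILetI false
set_option backward.isDefEq.respectTransparency.types false
set_option backward.isDefEq.respectTransparency false

universe u

open CategoryTheory CategoryTheory.Limits AlgebraicGeometry Opposite TopologicalSpace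
open Groth.L22.Cyc (rtrdeg)

noncomputable section

namespace Groth.L06.FlatDimLimit

variable {X S : Scheme.{u}}

/-- Within a closed set, the points with a generization in their fibre of transcendence degree at least `n`
form a closed set. -/
theorem isClosed_exists_rtrdeg (f : X ⟶ S) [LocallyOfFiniteType f] (Z : Set X) (hZ : IsClosed Z) (n : ℕ) :
    IsClosed {y : X | ∃ w ∈ Z, w ⤳ y ∧ f w = f y ∧ (n : Cardinal.{u}) ≤ rtrdeg f w} := by
  cases n with
  | zero =>
    convert hZ using 1
    ext y
    exact ⟨fun ⟨w, hw, hwy, _⟩ => hwy.mem_closed hZ hw, fun hy => ⟨y, hy, specializes_rfl, rfl, by simp⟩⟩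
  | succ m =>
    let C : TopologicalSpace.Closeds X := ⟨Z, hZ⟩
    let i := (Scheme.IdealSheafData.vanishingIdeal C).subschemeι
    have hr : Set.range i = Z := by
      rw [Scheme.IdealSheafData.range_subschemeι, Scheme.IdealSheafData.coe_support_vanishingIdeal]; rfl
    haveI : LocallyOfFiniteType (i ≫ f) := inferInstance
    convert i.isClosedEmbedding.isClosedMap _
      (Groth.L07.FibreDim.isOpen_fibreDimAt_le (i ≫ f) m).isClosed_compl using 1
    ext y
    constructor
    · rintro ⟨w, hw, hwy, hfw, hle⟩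
      obtain ⟨z, rfl⟩ : y ∈ Set.range i := hr ▸ hwy.mem_closed hZ hw
      obtain ⟨v, rfl⟩ : w ∈ Set.range i := hr ▸ hw
      refine ⟨z, fun hz => ?_, rfl⟩
      have hz' : FlatMor.fibreDimAt (i ≫ f) z ≤ (m : WithBot ℕ∞) := hz
      rw [Groth.L22.FibreSemicont.fibreDimAt_eq_iSup] at hz'
      obtain ⟨k, hk, hk'⟩ := Groth.L07.DimToolkit.exists_fdim_rtrdeg (i ≫ f) v
      have h1 := le_trans (le_iSup (fun q : {q // q ⤳ z ∧ (i ≫ f) q = (i ≫ f) z} =>
          topologicalKrullDim (closure ({q.1} : Set _) ∩ (i ≫ f) ⁻¹' {(i ≫ f) z} : Set _))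
        ⟨v, i.isEmbedding.isInducing.specializes_iff.1 hwy, hfw⟩) hz'
      have h2 : Groth.L07.Equidim.fdim (i ≫ f) v ≤ (m : WithBot ℕ∞) := by
        unfold Groth.L07.Equidim.fdim
        rw [show (i ≫ f) v = (i ≫ f) z from hfw]
        exact h1
      rw [hk] at h2
      rw [FlatDimSheaf.rtrdeg_comp_preimmersion] at hk'
      rw [hk'] at hle
      have h3 : k ≤ m := by exact_mod_cast h2
      have h4 : m + 1 ≤ k := by exact_mod_cast hle
      omega
    · rintro ⟨z, hz, rfl⟩
      by_contra hne
      apply hz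
      show FlatMor.fibreDimAt (i ≫ f) z ≤ (m : WithBot ℕ∞)
      rw [Groth.L22.FibreSemicont.fibreDimAt_eq_iSup]
      refine iSup_le fun v => ?_
      obtain ⟨v, hvz, hfv⟩ := v
      obtain ⟨k, hk, hk'⟩ := Groth.L07.DimToolkit.exists_fdim_rtrdeg (i ≫ f) v
      have h3 : k ≤ m := by
        by_contra hlt
        refine hne ⟨i v, hr ▸ Set.mem_range_self v, hvz.map i.continuous, hfv, ?_⟩
        rw [FlatDimSheaf.rtrdeg_comp_preimmersion] at hk'
        rw [hk']
        exact_mod_cast (show m + 1 ≤ k by omega)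
      unfold Groth.L07.Equidim.fdim at hk
      rw [hfv] at hk
      exact hk.le.trans (by exact_mod_cast h3)

variable (f : X ⟶ S) (F : X.Modules) [Coh.IsQCoh F] (n : ℕ)

/-- The base changes along a diagram of schemes over the base. -/
def system {I : Type u} [SmallCategory I] (D : I ⥤ Over S) : I ⥤ Scheme.{u} where
  obj j := PicF.XT f (D.obj j)
  map a := PicF.XTmap f (D.map a)
  map_id j := by apply pullback.hom_ext <;> simp [PicF.XTmap]
  map_comp a b := by apply pullback.hom_ext <;> simp [PicF.XTmap]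

/-- The cone of base changes. -/
def systemCone {I : Type u} [SmallCategory I] {D : I ⥤ Over S} (c : Cone D) : Cone (system f D) where
  pt := PicF.XT f c.pt
  π :=
    { app := fun j => PicF.XTmap f (c.π.app j)
      naturality := fun i j a => by
        show 𝟙 _ ≫ PicF.XTmap f (c.π.app j) = PicF.XTmap f (c.π.app i) ≫ PicF.XTmap f (D.map a)
        rw [Category.id_comp, ← show c.π.app i ≫ D.map a = c.π.app j from c.w a]
        apply pullback.hom_ext <;> simp [PicF.XTmap]
        rw [← Over.comp_left, c.w] }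

/-- The base changes of a limit form a limit. -/
def isLimitSystemCone {I : Type u} [SmallCategory I] [IsCofiltered I] {D : I ⥤ Over S} (c : Cone D)
    (hc : IsLimit ((Over.forget S).mapCone c)) : IsLimit (systemCone f c) :=
  haveI : IsConnected I := IsCofiltered.isConnected _
  let φ : system f D ⟶ D ⋙ Over.forget S :=
    { app := fun j => PicF.XTproj f (D.obj j)
      naturality := fun i j a => (FlatLimitPreserving.isPullback_XTmap f (D.map a)).w }
  isLimitOfIsPullbackOfIsConnected φ (systemCone f c) ((Over.forget S).mapCone c)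
    { hom := PicF.XTproj f c.pt
      w := fun j => (FlatLimitPreserving.isPullback_XTmap f (c.π.app j)).w.symm }
    (fun j => FlatLimitPreserving.isPullback_XTmap f (c.π.app j)) hc

theorem isLimitPreserving [QuasiCompact f] [LocallyOfFinitePresentation f] (hF : CohB1.IsFP F) :
    AlgSp.IsLimitPreserving
      (FlatFun.genPSp S (fun T => FlatFun.DimFibresLT n (PicF.XTproj f T)
        {x | ¬ FlatMod.IsFlatOverAt (PicF.XTproj f T) (FGA.ET f F T) x})) := by
  intro I _ _ D c hc hD hT
  refine ⟨Types.FilteredColimit.isColimitOf _ _ (fun x => ?_) fun i j xi xj _ => ?_⟩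
  · have hP := (FlatFun.genPSp_nonempty_iff_of_stable _ (FlatDimSheaf.stable f F n) c.pt).1 ⟨x⟩
    let E := system f D
    let cE := systemCone f c
    have hlE := isLimitSystemCone f c hc
    haveI : ∀ i, IsAffine (D.obj i).left := hD
    haveI := hT
    haveI : ∀ {i j : I} (a : i ⟶ j), IsAffineHom (E.map a) := fun {i j} a =>
      MorphismProperty.of_isPullback (P := @IsAffineHom)
        (FlatLimitPreserving.isPullback_XTmap f (D.map a)).flip inferInstance
    have hcpt : ∀ i, CompactSpace (E.obj i) := fun i => by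
      haveI : CompactSpace (D.obj i).left := inferInstance
      exact QuasiCompact.compactSpace_of_compactSpace (PicF.XTproj f (D.obj i))
    let Z : ∀ i, Set (E.obj i) := fun i =>
      {y | ¬ FlatMod.IsFlatOverAt (PicF.XTproj f (D.obj i)) (FGA.ET f F (D.obj i)) y}
    have hZ : ∀ i, IsClosed (Z i) := fun i => by
      haveI := FlatLimitPreserving.isQCoh_ET f F (D.obj i)
      exact (Groth.L20.FibreModule.isOpen_isFlatOverAt (PicF.XTproj f (D.obj i)) _ inferInstance
        (Groth.L19.LimMod.isFP_pullback' (pullback.fst f (D.obj i).hom) F hF)).isClosed_compl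
    -- non-flatness in the limit is non-flatness at all stages
    have hdesc : ∀ y : PicF.XT f c.pt, (∀ j, PicF.XTmap f (c.π.app j) y ∈ Z j) →
        ¬ FlatMod.IsFlatOverAt (PicF.XTproj f c.pt) (FGA.ET f F c.pt) y := by
      intro y hall hy
      haveI := FlatLimitPreserving.isQCoh_ET f F c.pt
      have hO := Groth.L20.FibreModule.isOpen_isFlatOverAt (PicF.XTproj f c.pt) (FGA.ET f F c.pt) inferInstance
        (Groth.L19.LimMod.isFP_pullback' (pullback.fst f c.pt.hom) F hF)
      obtain ⟨_, ⟨_, ⟨k, V, hV, rfl⟩, rfl⟩, hyV, hVO⟩ :=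
        (isBasis_preimage_isAffineOpen E cE hlE).exists_subset_of_mem_open
          (show y ∈ {z : PicF.XT f c.pt | FlatMod.IsFlatOverAt (PicF.XTproj f c.pt) (FGA.ET f F c.pt) z} from hy) hO
      obtain ⟨j, φ, hj⟩ := FlatLimitPreserving.exists_stage_piece f F hF D c hc hD hT k hV fun z hz => hVO hz
      refine hall j (hj _ ?_)
      have : PicF.XTmap f (c.π.app j) ≫ PicF.XTmap f (D.map φ) = PicF.XTmap f (c.π.app k) := cE.w φ
      rw [← Scheme.Hom.comp_apply, this]
      exact hyV
    let B : ∀ i, Set (E.obj i) := fun i =>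
      {y | ∃ w ∈ Z i, w ⤳ y ∧ PicF.XTproj f (D.obj i) w = PicF.XTproj f (D.obj i) y ∧
        (n : Cardinal.{u}) ≤ rtrdeg (PicF.XTproj f (D.obj i)) w}
    by_cases hgood : ∃ i, FlatFun.DimFibresLT n (PicF.XTproj f (D.obj i)) (Z i)
    · obtain ⟨i, hi⟩ := hgood
      obtain ⟨y⟩ := FlatFun.genPSp_nonempty_of (fun T : Over S => FlatFun.DimFibresLT n (PicF.XTproj f T)
        {x | ¬ FlatMod.IsFlatOverAt (PicF.XTproj f T) (FGA.ET f F T) x}) hi
      exact ⟨op i, y, Subsingleton.elim (α := (FlatFun.genPSp S _).obj (op c.pt)) _ _⟩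
    exfalso
    push Not at hgood
    have hBne : ∀ i, (B i).Nonempty := fun i => by
      obtain ⟨w, hw, hlt⟩ : ∃ w ∈ Z i, ¬ rtrdeg (PicF.XTproj f (D.obj i)) w < (n : Cardinal.{u}) := by
        by_contra h
        push Not at h
        exact hgood i fun w hw => h w hw
      exact ⟨w, w, hw, specializes_rfl, rfl, not_lt.1 hlt⟩
    obtain ⟨z, hz⟩ := exists_mem_of_isClosed_of_nonempty E cE hlE B
      (fun i => isClosed_exists_rtrdeg _ _ (hZ i) n) hBne
      (fun i => by haveI := hcpt i; exact (isClosed_exists_rtrdeg _ _ (hZ i) n).isCompact)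
      (fun {i i'} a y hy => by
        obtain ⟨w, hw, hwy, hfw, hle⟩ := hy
        have hsq := FlatLimitPreserving.isPullback_XTmap f (D.map a)
        refine ⟨PicF.XTmap f (D.map a) w, fun h => hw (FlatLimitPreserving.isFlatOverAt_map f F _ w h),
          hwy.map (PicF.XTmap f (D.map a)).continuous, ?_, hle.trans (FlatDimSheaf.rtrdeg_baseChange_le hsq w)⟩
        show PicF.XTproj f (D.obj i') (PicF.XTmap f (D.map a) w) =
          PicF.XTproj f (D.obj i') (PicF.XTmap f (D.map a) y)
        rw [← Scheme.Hom.comp_apply, ← Scheme.Hom.comp_apply, hsq.w, Scheme.Hom.comp_apply, Scheme.Hom.comp_apply,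
          hfw])
    let p := PicF.XTproj f c.pt
    let t := p (z : PicF.XT f c.pt)
    haveI : LocallyOfFiniteType (p.fiberToSpecResidueField t) :=
      MorphismProperty.pullback_snd p (c.pt.left.fromSpecResidueField t) inferInstance
    haveI : IsLocallyNoetherian (p.fiber t) :=
      LocallyOfFiniteType.isLocallyNoetherian (p.fiberToSpecResidueField t)
    haveI : CompactSpace (p.fiber t) := by
      haveI : QuasiCompact (p.fiberToSpecResidueField t) :=
        MorphismProperty.pullback_snd p (c.pt.left.fromSpecResidueField t) inferInstance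
      exact QuasiCompact.compactSpace_of_compactSpace (p.fiberToSpecResidueField t)
    haveI : IsNoetherian (p.fiber t) := {}
    let C : I → TopologicalSpace.Closeds (p.fiber t) := fun i =>
      ⟨p.fiberι t ⁻¹' (PicF.XTmap f (c.π.app i) ⁻¹' Z i),
        ((hZ i).preimage (PicF.XTmap f (c.π.app i)).continuous).preimage (p.fiberι t).continuous⟩
    haveI : Nonempty I := IsCofiltered.nonempty
    obtain ⟨_, ⟨j₀, rfl⟩, hmin⟩ := wellFounded_lt.has_min (Set.range C) (Set.range_nonempty C)
    obtain ⟨w₀, hw₀, -, hfw₀, hle₀⟩ := hz j₀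
    have hsq := FlatLimitPreserving.isPullback_XTmap f (c.π.app j₀)
    have hproj : (c.π.app j₀).left t = PicF.XTproj f (D.obj j₀) w₀ := by
      refine Eq.trans ?_ hfw₀.symm
      show (c.π.app j₀).left (p (z : PicF.XT f c.pt)) = _
      exact (congrArg (fun m : PicF.XT f c.pt ⟶ (D.obj j₀).left => m (z : PicF.XT f c.pt)) hsq.w).symm
    obtain ⟨y, hqy, hyt, hyeq⟩ := FlatDimSheaf.exists_rtrdeg_baseChange_eq hsq w₀ t hproj
    obtain ⟨q, rfl⟩ : y ∈ Set.range (p.fiberι t) := by rw [p.range_fiberι]; exact hyt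
    have hq : q ∈ C j₀ := show PicF.XTmap f (c.π.app j₀) (p.fiberι t q) ∈ Z j₀ by rw [hqy]; exact hw₀
    refine absurd (hP (p.fiberι t q) (hdesc _ fun j => ?_)) (not_lt.2 (hle₀.trans hyeq.ge))
    obtain ⟨l, a, b, -⟩ := IsCofilteredOrEmpty.cone_objs (C := I) j j₀
    have hCle : ∀ {i' i : I} (m : i' ⟶ i), C i' ≤ C i := fun {i' i} m v hv h => hv (by
      refine FlatLimitPreserving.isFlatOverAt_map f F (D.map m) _ ?_
      have : PicF.XTmap f (c.π.app i') ≫ PicF.XTmap f (D.map m) = PicF.XTmap f (c.π.app i) := cE.w m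
      rw [← Scheme.Hom.comp_apply, this]
      exact h)
    have heq : C l = C j₀ := (hCle b).antisymm (by
      by_contra h
      exact hmin _ ⟨_, rfl⟩ (lt_of_le_not_ge (hCle b) h))
    exact hCle a (heq ▸ hq)
  · refine ⟨op (IsCofiltered.min i.unop j.unop), (IsCofiltered.minToLeft i.unop j.unop).op,
      (IsCofiltered.minToRight i.unop j.unop).op, ?_⟩
    exact Subsingleton.elim (α := (FlatFun.genPSp S _).obj (op (D.obj (IsCofiltered.min i.unop j.unop)))) _ _

end Groth.L06.FlatDimLimit
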