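import Groth.Agent.L06.CondSheaf
import Groth.Agent.L06.QuasiFlatOpen
import Groth.Agent.L07.FlatStage
import Groth.Agent.L07.FlatFamilyApps
import Groth.Agent.L20.ModPullback
import Groth.Agent.S1391
import Groth.Agent.S1392

/-!
# The flatness condition is an fpqc sheaf and is limit preserving
-/

set_option autoImplicit false
set_option maxSynthPendingDepth 3
set_option linter.style.haveILetI false
set_option backward.isDefEq.respectTransparency.types false
set_option backward.isDefEq.respectTransparency false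

universe u

open CategoryTheory CategoryTheory.Limits AlgebraicGeometry Opposite TopologicalSpace TensorProduct

noncomputable section

namespace Groth.L06.FlatLimitPreserving

/-- Flatness of a finitely presented module after a base change comes from a finitely presented algebra over a
Noetherian ring. -/
theorem exists_flat_lift_data (A₀ A B₀ : Type u) [CommRing A₀] [CommRing A] [CommRing B₀] [Algebra A₀ A]
    [Algebra A₀ B₀] [Algebra.FinitePresentation A₀ B₀] (M₀ : Type u) [AddCommGroup M₀] [Module B₀ M₀]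
    [Module A₀ M₀] [IsScalarTower A₀ B₀ M₀] [Module.FinitePresentation B₀ M₀]
    [Module.Flat A (A ⊗[A₀] M₀)] :
    ∃ (R S : Type u) (_ : CommRing R) (_ : CommRing S) (_ : Algebra R S) (ρ : R →+* A₀) (ψ : S →+* A),
      Algebra.FinitePresentation R S ∧ ψ.comp (algebraMap R S) = (algebraMap A₀ A).comp ρ ∧
      ∀ (C : Type u) [CommRing C] [Algebra A₀ C] (χ : S →+* C),
        χ.comp (algebraMap R S) = (algebraMap A₀ C).comp ρ → Module.Flat C (C ⊗[A₀] M₀) := by
  obtain ⟨d, n, R, _, K, ⟨em⟩⟩ := Groth.L07.FlatDescent.exists_model (A₀ := A₀) (B₀ := B₀) M₀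
  haveI : IsScalarTower R A₀ A := IsScalarTower.of_algebraMap_eq fun _ => rfl
  obtain ⟨eK⟩ := Groth.L07.FlatDescent.exists_modelEquiv K em A
  haveI : Module.Flat A (Groth.L07.FlatDescent.MC A K) := Module.Flat.of_linearEquiv eK.symm
  obtain ⟨S, hS, hflat⟩ := Groth.L07.FlatDescent.exists_fg_stage K A
  haveI : Algebra.FiniteType R S := S.fg_iff_finiteType.mp hS
  refine ⟨R, S, inferInstance, inferInstance, inferInstance, algebraMap R A₀, S.val.toRingHom,
    Algebra.FinitePresentation.of_finiteType.mp inferInstance, RingHom.ext fun r => rfl, ?_⟩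
  intro C _ _ χ hχ
  haveI : IsScalarTower R A₀ C := IsScalarTower.of_algebraMap_eq fun _ => rfl
  letI : Algebra S C := χ.toAlgebra
  haveI : IsScalarTower R S C := IsScalarTower.of_algebraMap_eq fun r => (RingHom.congr_fun hχ r).symm
  haveI : Module.Flat C (Groth.L07.FlatDescent.MC C K) := Groth.L07.FlatDescent.flat_MC_of_flat K (A := S)
  obtain ⟨eC⟩ := Groth.L07.FlatDescent.exists_modelEquiv K em C
  exact Module.Flat.of_linearEquiv eC

variable {X S : Scheme.{u}}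

/-- Flatness at all points of an affine open is flatness of the sections. -/
theorem flat_sections_iff (f : X ⟶ S) (M : X.Modules) [Coh.IsQCoh M] {W : S.Opens} (hW : IsAffineOpen W)
    {V : X.Opens} (hV : IsAffineOpen V) (e : V ≤ f ⁻¹ᵁ W) :
    (letI : Module Γ(S, W) Γ(M, V) := Module.compHom _ (f.appLE W V e).hom; Module.Flat Γ(S, W) Γ(M, V)) ↔ ∀ x ∈ V, FlatMod.IsFlatOverAt f M x := by
  letI := (f.appLE W V e).hom.toAlgebra
  letI : Module Γ(S, W) Γ(M, V) := Module.compHom _ (f.appLE W V e).hom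
  haveI : IsScalarTower Γ(S, W) Γ(X, V) Γ(M, V) := IsScalarTower.of_algebraMap_smul fun _ _ => rfl
  constructor
  · intro h x hx
    haveI : Module.Flat Γ(S, W) Γ(M, V) := h
    refine (Groth.L20.ModStalk.isFlatOverAt_iff f M hW hV e hx).2 ?_
    haveI : Module.Flat Γ(S, W)
        (Localization (hV.primeIdealOf ⟨x, hx⟩).asIdeal.primeCompl ⊗[Γ(X, V)] Γ(M, V)) :=
      Groth.L20.ModStalk.flat_tensorProduct
    exact Module.Flat.of_linearEquiv
      ((LocalizedModule.equivTensorProduct (hV.primeIdealOf ⟨x, hx⟩).asIdeal.primeCompl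
        Γ(M, V)).restrictScalars Γ(S, W))
  · intro h
    apply Module.flat_of_isLocalized_maximal Γ(X, V) Γ(M, V) (fun P _ => LocalizedModule P.primeCompl Γ(M, V))
      (fun P _ => LocalizedModule.mkLinearMap P.primeCompl Γ(M, V))
    intro P hP
    let q : PrimeSpectrum Γ(X, V) := ⟨P, hP.isPrime⟩
    have hmem : hV.fromSpec q ∈ V := by
      show _ ∈ (V : Set X)
      rw [← hV.range_fromSpec]; exact Set.mem_range_self q
    have hq : hV.primeIdealOf ⟨_, hmem⟩ = q :=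
      hV.fromSpec.isOpenEmbedding.injective (hV.fromSpec_primeIdealOf ⟨_, hmem⟩)
    have h1 := (Groth.L20.ModStalk.isFlatOverAt_iff f M hW hV e hmem).1 (h _ hmem)
    rw [hq] at h1
    exact h1

/-- Flatness of a base change over an affine piece, in terms of the sections. -/
theorem flat_piece_iff {X S X' S' : Scheme.{u}} {f : X ⟶ S} {f' : X' ⟶ S'} {g' : X' ⟶ X} {g : S' ⟶ S}
    (hc : IsPullback g' f' f g) [IsAffine S] [IsAffine S'] (F : X.Modules) [Coh.IsQCoh F]
    {V : X.Opens} (hV : IsAffineOpen V) :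
    (letI := g.appTop.hom.toAlgebra; letI : Module Γ(S, ⊤) Γ(F, V) := Module.compHom _ (f.appLE ⊤ V le_top).hom;
      Module.Flat Γ(S', ⊤) (Γ(S', ⊤) ⊗[Γ(S, ⊤)] Γ(F, V))) ↔
      ∀ x ∈ g' ⁻¹ᵁ V, FlatMod.IsFlatOverAt f' ((Scheme.Modules.pullback g').obj F) x := by
  have hpb := Scheme.Hom.isPullback_resLE hc (UT := (⊤ : S'.Opens)) (US := (⊤ : S.Opens)) (UX := V)
    le_top le_top (UY := g' ⁻¹ᵁ V) (by simp)
  haveI : IsAffine (⊤ : S.Opens).toScheme := isAffineOpen_top S
  haveI : IsAffine (⊤ : S'.Opens).toScheme := isAffineOpen_top S'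
  haveI : IsAffine V.toScheme := hV
  have hU : IsAffineOpen (g' ⁻¹ᵁ V) := IsAffine.of_isPullback hpb
  have hpo : IsPushout (f.appLE ⊤ V le_top) (g.appLE ⊤ ⊤ le_top) (g'.appLE V (g' ⁻¹ᵁ V) le_rfl)
      (f'.appLE ⊤ (g' ⁻¹ᵁ V) le_top) := by
    refine (isPushout_appTop_of_isPullback hpb).of_iso (⊤ : S.Opens).topIso V.topIso (⊤ : S'.Opens).topIso
      (g' ⁻¹ᵁ V).topIso ?_ ?_ ?_ ?_ <;>
    simp only [Scheme.Hom.appTop, Scheme.Hom.resLE_app_top, Category.assoc, Iso.inv_hom_id, Category.comp_id]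
  have hg : g.appLE ⊤ ⊤ le_top = g.appTop := g.appLE_eq_app
  rw [hg] at hpo
  haveI := Groth.L19.LimMod.isQCoh_pullback g' F
  refine Iff.trans ?_ (flat_sections_iff f' ((Scheme.Modules.pullback g').obj F) (isAffineOpen_top S') hU le_top)
  letI := g.appTop.hom.toAlgebra
  letI := (f.appLE ⊤ V le_top).hom.toAlgebra
  letI := (g'.appLE V (g' ⁻¹ᵁ V) le_rfl).hom.toAlgebra
  letI := (f'.appLE ⊤ (g' ⁻¹ᵁ V) le_top).hom.toAlgebra
  letI : Algebra Γ(S, ⊤) Γ(X', g' ⁻¹ᵁ V) :=
    ((g'.appLE V (g' ⁻¹ᵁ V) le_rfl).hom.comp (f.appLE ⊤ V le_top).hom).toAlgebra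
  haveI : IsScalarTower Γ(S, ⊤) Γ(X, V) Γ(X', g' ⁻¹ᵁ V) := IsScalarTower.of_algebraMap_eq fun _ => rfl
  haveI : IsScalarTower Γ(S, ⊤) Γ(S', ⊤) Γ(X', g' ⁻¹ᵁ V) :=
    IsScalarTower.of_algebraMap_eq' (congrArg CommRingCat.Hom.hom hpo.w)
  haveI : Algebra.IsPushout Γ(S, ⊤) Γ(S', ⊤) Γ(X, V) Γ(X', g' ⁻¹ᵁ V) :=
    (CommRingCat.isPushout_iff_isPushout.mp hpo).symm
  letI : Module Γ(S, ⊤) Γ(F, V) := Module.compHom _ (f.appLE ⊤ V le_top).hom
  haveI : IsScalarTower Γ(S, ⊤) Γ(X, V) Γ(F, V) := IsScalarTower.of_algebraMap_smul fun _ _ => rfl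
  letI : Module Γ(S', ⊤) Γ((Scheme.Modules.pullback g').obj F, g' ⁻¹ᵁ V) :=
    Module.compHom _ (f'.appLE ⊤ (g' ⁻¹ᵁ V) le_top).hom
  haveI : IsScalarTower Γ(S', ⊤) Γ(X', g' ⁻¹ᵁ V) Γ((Scheme.Modules.pullback g').obj F, g' ⁻¹ᵁ V) :=
    IsScalarTower.of_algebraMap_smul fun _ _ => rfl
  obtain ⟨e⟩ := Groth.L06.RelFPModules.sections_pullback g' F hU hV le_rfl
  exact Module.Flat.equiv_iff
    ((Algebra.IsPushout.cancelBaseChange Γ(S, ⊤) Γ(S', ⊤) Γ(X, V) Γ(X', g' ⁻¹ᵁ V) Γ(F, V)).symm.trans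
      (e.restrictScalars Γ(S', ⊤)))

variable (f : X ⟶ S) (F : X.Modules)

theorem isPullback_XTmap {T T' : Over S} (g : T' ⟶ T) :
    IsPullback (PicF.XTmap f g) (PicF.XTproj f T') (PicF.XTproj f T) g.left := by
  refine IsPullback.of_right ?_ (by simp [PicF.XTmap]) (IsPullback.of_hasPullback f T.hom)
  rw [Over.w g, FGA.XTmap_fst]
  exact IsPullback.of_hasPullback f T'.hom

theorem isFlatOverAt_iff_map {T T' : Over S} (g : T' ⟶ T) (x : PicF.XT f T') :
    FlatMod.IsFlatOverAt (PicF.XTproj f T') (FGA.ET f F T') x ↔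
      FlatMod.IsFlatOverAt (PicF.XTproj f T') ((Scheme.Modules.pullback (PicF.XTmap f g)).obj (FGA.ET f F T)) x :=
  ⟨Groth.L07.FlatFamily.isFlatOverAt_of_iso _ (FGA.ETiso f F g).symm x,
    Groth.L07.FlatFamily.isFlatOverAt_of_iso _ (FGA.ETiso f F g) x⟩

variable [Coh.IsQCoh F]

theorem isQCoh_ET (T : Over S) : Coh.IsQCoh (FGA.ET f F T) :=
  Groth.L19.LimMod.isQCoh_pullback (pullback.fst f T.hom) F

/-- Flatness at a point is preserved by base change. -/
theorem isFlatOverAt_map {T T' : Over S} (g : T' ⟶ T) (x : PicF.XT f T')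
    (h : FlatMod.IsFlatOverAt (PicF.XTproj f T) (FGA.ET f F T) (PicF.XTmap f g x)) :
    FlatMod.IsFlatOverAt (PicF.XTproj f T') (FGA.ET f F T') x :=
  (isFlatOverAt_iff_map f F g x).2
    (Groth.Agent.S1391.result _ _ _ _ (isPullback_XTmap f g) _ (isQCoh_ET f F T) x h)

theorem stable_flat ⦃T T₀ : Over S⦄ (k : T ⟶ T₀)
    (h : FlatMod.IsFlatOver (PicF.XTproj f T₀) (FGA.ET f F T₀)) :
    FlatMod.IsFlatOver (PicF.XTproj f T) (FGA.ET f F T) :=
  fun x => isFlatOverAt_map f F k x (h _)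

/-- The flatness condition is a sheaf for the fpqc topology. -/
theorem isSheaf_flat :
    Presheaf.IsSheaf (QuotSh.J Scheme.fpqcPrecoverage S)
      (FlatFun.genPSp S (fun T => FlatMod.IsFlatOver (PicF.XTproj f T) (FGA.ET f F T))) := by
  refine Groth.L06.CondSheaf.isSheaf_genPSp Scheme.fpqcPrecoverage _ (stable_flat f F)
    fun {Y} R hR {Y'} g h hk x => ?_
  obtain ⟨ι, Z, p, hp⟩ := (R.pullbackArrows g).exists_eq_ofArrows
  have hmem : Presieve.ofArrows Z p ∈ Scheme.precoverage @Flat Y' :=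
    hp ▸ Scheme.propQCPrecoverage_le_precoverage (P := @Flat) _ (Precoverage.pullbackArrows_mem g hR)
  obtain ⟨hsurj, hflat⟩ := (Scheme.ofArrows_mem_precoverage_iff _).1 hmem
  obtain ⟨i, z, hz⟩ := hsurj (PicF.XTproj f (Over.mk h) x)
  let m : Over.mk (p i ≫ h) ⟶ Over.mk h := Over.homMk (p i) rfl
  obtain ⟨x', hx', -⟩ := Scheme.exists_preimage_of_isPullback (isPullback_XTmap f m) x z hz.symm
  subst hx'
  have hi : (Sieve.generate R).pullback g (p i) := by
    rw [← Sieve.pullbackArrows_comm]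
    exact ⟨Z i, 𝟙 _, p i, hp ▸ Presieve.ofArrows.mk i, Category.id_comp _⟩
  haveI : Flat (p i) := hflat i
  exact Groth.Agent.S1392.result _ _ _ _ (isPullback_XTmap f m) _ (isQCoh_ET f F _) x'
    (Flat.stalkMap (p i) _) ((isFlatOverAt_iff_map f F m x').1 (hk _ _ hi x'))

/-- Flatness over an affine open of a stage at the limit holds already at a later stage. -/
theorem exists_stage_piece [LocallyOfFinitePresentation f] (hF : CohB1.IsFP F) {I : Type u} [SmallCategory I]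
    [IsCofiltered I] (D : I ⥤ Over S) (c : Cone D) (hc : IsLimit ((Over.forget S).mapCone c))
    (hD : ∀ i, IsAffine (D.obj i).left) (hT : IsAffine c.pt.left) (i₀ : I) {V : (PicF.XT f (D.obj i₀)).Opens}
    (hV : IsAffineOpen V)
    (hP : ∀ y ∈ PicF.XTmap f (c.π.app i₀) ⁻¹ᵁ V, FlatMod.IsFlatOverAt (PicF.XTproj f c.pt) (FGA.ET f F c.pt) y) :
    ∃ (j : I) (φ : j ⟶ i₀), ∀ y : PicF.XT f (D.obj j),
      PicF.XTmap f (D.map φ) y ∈ V → FlatMod.IsFlatOverAt (PicF.XTproj f (D.obj j)) (FGA.ET f F (D.obj j)) y := by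
  let D' := D ⋙ Over.forget S
  let c' := (Over.forget S).mapCone c
  haveI : ∀ i, IsAffine (D'.obj i) := hD
  haveI : ∀ i, IsAffine (D.obj i).left := hD
  haveI : ∀ {i j : I} (φ : i ⟶ j), IsAffineHom (D'.map φ) := fun _ => inferInstance
  let T₀ := D.obj i₀
  haveI := isQCoh_ET f F T₀
  have hF₀ : CohB1.IsFP (FGA.ET f F T₀) := Groth.L19.LimMod.isFP_pullback' (pullback.fst f T₀.hom) F hF
  let k : c.pt ⟶ T₀ := c.π.app i₀
  have hlim : ∀ y ∈ PicF.XTmap f k ⁻¹ᵁ V, FlatMod.IsFlatOverAt (PicF.XTproj f c.pt)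
      ((Scheme.Modules.pullback (PicF.XTmap f k)).obj (FGA.ET f F T₀)) y := fun y hy' =>
    (isFlatOverAt_iff_map f F k y).1 (hP y hy')
  have hfl := (flat_piece_iff (isPullback_XTmap f k) (FGA.ET f F T₀) (hV)).2 hlim
  letI := k.left.appTop.hom.toAlgebra
  letI := ((PicF.XTproj f T₀).appLE ⊤ V le_top).hom.toAlgebra
  letI : Module Γ(T₀.left, ⊤) Γ(FGA.ET f F T₀, V) :=
    Module.compHom _ ((PicF.XTproj f T₀).appLE ⊤ V le_top).hom
  haveI : IsScalarTower Γ(T₀.left, ⊤) Γ(PicF.XT f T₀, V) Γ(FGA.ET f F T₀, V) :=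
    IsScalarTower.of_algebraMap_smul fun _ _ => rfl
  haveI : Algebra.FinitePresentation Γ(T₀.left, ⊤) Γ(PicF.XT f T₀, V) :=
    RingHom.finitePresentation_algebraMap.1
      ((PicF.XTproj f T₀).finitePresentation_appLE (isAffineOpen_top T₀.left) (hV) le_top)
  haveI := Groth.L20.ModStalk.finitePresentation_sections _ hF₀ (hV)
  haveI := hfl
  obtain ⟨R, R', _, _, _, ρ, ψ, hR', hψ, hlift⟩ :=
    exists_flat_lift_data Γ(T₀.left, ⊤) Γ(c.pt.left, ⊤) Γ(PicF.XT f T₀, V) Γ(FGA.ET f F T₀, V)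
  let b : T₀.left ⟶ Spec (CommRingCat.of R) := T₀.left.toSpecΓ ≫ Spec.map (CommRingCat.ofHom ρ)
  let t : Over.forget i₀ ⋙ D' ⟶ (Functor.const (Over i₀)).obj (Spec (CommRingCat.of R)) :=
    { app := fun j => D'.map j.hom ≫ b
      naturality := fun j j' m => by
        show D'.map m.left ≫ D'.map j'.hom ≫ b = (D'.map j.hom ≫ b) ≫ 𝟙 _
        rw [Category.comp_id, ← Category.assoc, ← D'.map_comp, Over.w m] }
  let w : Spec (CommRingCat.of R') ⟶ Spec (CommRingCat.of R) := Spec.map (CommRingCat.ofHom (algebraMap R R'))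
  haveI : LocallyOfFinitePresentation w :=
    (HasRingHomProperty.Spec_iff (P := @LocallyOfFinitePresentation)).2
      (RingHom.finitePresentation_algebraMap.2 hR')
  haveI : ∀ j : Over i₀, CompactSpace ((Over.forget i₀ ⋙ D').obj j) := fun j => by
    haveI : IsAffine ((Over.forget i₀ ⋙ D').obj j) := hD j.left
    infer_instance
  haveI : ∀ j : Over i₀, QuasiSeparatedSpace ((Over.forget i₀ ⋙ D').obj j) := fun j => by
    haveI : IsAffine ((Over.forget i₀ ⋙ D').obj j) := hD j.left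
    infer_instance
  haveI : ∀ {i j : Over i₀} (m : i ⟶ j), IsAffineHom ((Over.forget i₀ ⋙ D').map m) := fun {i j} m =>
    (inferInstance : IsAffineHom (D'.map m.left))
  obtain ⟨j, h, -, hh⟩ := Scheme.exists_π_app_comp_eq_of_locallyOfFinitePresentation
    (Over.forget i₀ ⋙ D') (t := t) (f := w) (c := c'.whisker (Over.forget i₀))
    ((Functor.Initial.isLimitWhiskerEquiv (Over.forget i₀) c').symm hc)
    (c.pt.left.toSpecΓ ≫ Spec.map (CommRingCat.ofHom ψ)) (by
      ext j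
      show (c.π.app j.left).left ≫ (D.map j.hom).left ≫ b = (c.pt.left.toSpecΓ ≫ Spec.map _) ≫ w
      rw [← Category.assoc, ← Over.comp_left, c.w, Category.assoc, ← Spec.map_comp, ← CommRingCat.ofHom_comp,
        hψ, CommRingCat.ofHom_comp, Spec.map_comp]
      show k.left ≫ b = c.pt.left.toSpecΓ ≫ Spec.map k.left.appTop ≫ Spec.map (CommRingCat.ofHom ρ)
      rw [← Scheme.toSpecΓ_naturality_assoc])
  refine ⟨j.left, j.hom, fun y hy => ?_⟩
  refine (isFlatOverAt_iff_map f F (D.map j.hom) y).2 ?_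
  refine (flat_piece_iff (isPullback_XTmap f (D.map j.hom)) (FGA.ET f F T₀) (hV)).1 ?_ y hy
  letI := (D.map j.hom).left.appTop.hom.toAlgebra
  refine hlift Γ((D.obj j.left).left, ⊤) ((Scheme.ΓSpecIso (CommRingCat.of R')).inv ≫ h.appTop).hom ?_
  have h1 := congrArg (fun q => (Scheme.ΓSpecIso (CommRingCat.of R)).inv ≫ Scheme.Hom.appTop q) hh
  simp only [w, t, b, Scheme.Hom.comp_appTop, Scheme.toSpecΓ_appTop, Category.assoc,
    Scheme.ΓSpecIso_inv_naturality_assoc] at h1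
  rw [← Scheme.ΓSpecIso_inv_naturality_assoc, ← Scheme.ΓSpecIso_inv_naturality_assoc,
    Iso.inv_hom_id_assoc] at h1
  exact congrArg CommRingCat.Hom.hom h1

/-- The flatness condition is limit preserving. -/
theorem isLimitPreserving_flat [QuasiCompact f] [LocallyOfFinitePresentation f] (hF : CohB1.IsFP F) :
    AlgSp.IsLimitPreserving
      (FlatFun.genPSp S (fun T => FlatMod.IsFlatOver (PicF.XTproj f T) (FGA.ET f F T))) := by
  intro I _ _ D c hc hD hT
  refine ⟨Types.FilteredColimit.isColimitOf _ _ (fun x => ?_) fun i j xi xj _ => ?_⟩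
  · have hP := (FlatFun.genPSp_nonempty_iff_of_stable _ (stable_flat f F) c.pt).1 ⟨x⟩
    haveI : Nonempty I := IsCofiltered.nonempty
    obtain ⟨i₀⟩ := ‹Nonempty I›
    let D' := D ⋙ Over.forget S
    let c' := (Over.forget S).mapCone c
    haveI : ∀ i, IsAffine (D'.obj i) := hD
    haveI : ∀ i, IsAffine (D.obj i).left := hD
    haveI : ∀ {i j : I} (φ : i ⟶ j), IsAffineHom (D'.map φ) := fun _ => inferInstance
    let T₀ := D.obj i₀
    haveI : CompactSpace ↥(PicF.XT f T₀) := QuasiCompact.compactSpace_of_compactSpace (PicF.XTproj f T₀)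
    haveI := isQCoh_ET f F T₀
    have hF₀ : CohB1.IsFP (FGA.ET f F T₀) := Groth.L19.LimMod.isFP_pullback' (pullback.fst f T₀.hom) F hF
    obtain ⟨n, V, hV, hcov⟩ := Groth.L19.LimMod.exists_affine_cover (PicF.XT f T₀)
    have piece : ∀ a : Fin n, ∃ (j : I) (φ : j ⟶ i₀), ∀ y : PicF.XT f (D.obj j),
        PicF.XTmap f (D.map φ) y ∈ V a → FlatMod.IsFlatOverAt (PicF.XTproj f (D.obj j)) (FGA.ET f F (D.obj j)) y :=
      fun a => exists_stage_piece f F hF D c hc hD hT i₀ (hV a) fun y _ => hP y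
    choose j φ hj using piece
    obtain ⟨k, ψ, hk⟩ := Groth.L19.LimMod.exists_common D' j φ
    have hP' : FlatMod.IsFlatOver (PicF.XTproj f (D.obj k)) (FGA.ET f F (D.obj k)) := fun y => by
      obtain ⟨a, ha⟩ := hcov (PicF.XTmap f (D.map ψ) y)
      obtain ⟨m, hm⟩ := hk a
      refine isFlatOverAt_map f F (D.map m) y (hj a _ ?_)
      have : PicF.XTmap f (D.map m) ≫ PicF.XTmap f (D.map (φ a)) = PicF.XTmap f (D.map ψ) := by
        rw [← hm, D.map_comp]
        apply pullback.hom_ext <;> simp [PicF.XTmap]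
      rw [← Scheme.Hom.comp_apply, this]
      exact ha
    obtain ⟨y⟩ := FlatFun.genPSp_nonempty_of
      (fun T : Over S => FlatMod.IsFlatOver (PicF.XTproj f T) (FGA.ET f F T)) hP'
    exact ⟨op k, y, Subsingleton.elim (α := (FlatFun.genPSp S _).obj (op c.pt)) _ _⟩
  · refine ⟨op (IsCofiltered.min i.unop j.unop), (IsCofiltered.minToLeft i.unop j.unop).op,
      (IsCofiltered.minToRight i.unop j.unop).op, ?_⟩
    exact Subsingleton.elim (α := (FlatFun.genPSp S _).obj (op (D.obj (IsCofiltered.min i.unop j.unop)))) _ _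

end Groth.L06.FlatLimitPreserving
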