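import Groth.Agent.L06.SupportStalk
import Groth.Agent.L07.DimToolkit
import Groth.Prelude.Def_FlatMod2
import Mathlib.RingTheory.Valuation.LocalSubring
import Mathlib.RingTheory.Flat.TorsionFree
import Mathlib.RingTheory.Flat.Stability
import Mathlib.RingTheory.AlgebraicIndependent.TranscendenceBasis
import Mathlib.RingTheory.AlgebraicIndependent.Transcendental

/-! A flat module carries transcendence degree of the fibres to the generizations. -/

set_option autoImplicit false
set_option maxSynthPendingDepth 3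
set_option backward.isDefEq.respectTransparency.types false
set_option backward.isDefEq.respectTransparency false
set_option linter.style.haveILetI false
universe u

open CategoryTheory AlgebraicGeometry TopologicalSpace Topology TensorProduct IsLocalRing

namespace Groth.L06.FlatModuleLift

section Local

variable {A B : Type u} [CommRing A] [CommRing B] [IsLocalRing A] [IsLocalRing B] [Algebra A B]
  [IsLocalHom (algebraMap A B)] {M : Type u} [AddCommGroup M] [Module A M] [Module B M] [IsScalarTower A B M]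
  [Module.Flat A M] (𝔭 : Ideal A) [𝔭.IsPrime] {σ : Type} (t : σ → B)

theorem exists_valuation :
    ∃ (V : Type u) (_ : CommRing V) (_ : IsDomain V) (_ : ValuationRing V) (_ : Algebra A V),
      RingHom.ker (algebraMap A V) = 𝔭 ∧ IsLocalHom (algebraMap A V) := by
  obtain ⟨V, h, hloc⟩ := IsLocalRing.exists_factor_valuationRing (algebraMap A 𝔭.ResidueField)
  refine ⟨V, inferInstance, inferInstance, inferInstance,
    ((algebraMap A 𝔭.ResidueField).codRestrict V.toSubring h).toAlgebra, ?_, hloc⟩
  ext a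
  rw [RingHom.mem_ker, ← Ideal.algebraMap_residueField_eq_zero (I := 𝔭)]
  exact ⟨fun e => congrArg Subtype.val e, fun e => Subtype.ext e⟩

theorem eval₂_smul_notMem (ht : ∀ P : MvPolynomial σ A,
      residue B (MvPolynomial.eval₂ (algebraMap A B) t P) = 0 → P.map (residue A) = 0)
    (π : M →ₗ[B] ResidueField B) (m₀ : M) (hπ : π m₀ = 1) (P : MvPolynomial σ A)
    (hP : P.map (Ideal.Quotient.mk 𝔭) ≠ 0) :
    MvPolynomial.eval₂ (algebraMap A B) t P • m₀ ∉ (𝔭.map (algebraMap A B)) • (⊤ : Submodule B M) := by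
  classical
  obtain ⟨V, _, _, _, _, hker, hloc⟩ := exists_valuation 𝔭
  haveI := hloc
  intro hmem
  let q : M →ₗ[A] V ⊗[A] M := TensorProduct.mk A V M 1
  have hq0 : ∀ y ∈ (𝔭.map (algebraMap A B)) • (⊤ : Submodule B M), q y = 0 := fun y hy => by
    refine Submodule.smul_induction_on hy (fun b hb m _ => ?_) fun a b ha hb => by rw [map_add, ha, hb, add_zero]
    induction hb using Submodule.span_induction generalizing m with
    | mem b hb =>
      obtain ⟨a, ha, rfl⟩ := hb
      rw [IsScalarTower.algebraMap_smul, map_smul]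
      show a • ((1 : V) ⊗ₜ[A] m) = 0
      rw [TensorProduct.smul_tmul', Algebra.smul_def,
        show algebraMap A V a = 0 from RingHom.mem_ker.mp (hker.symm ▸ ha), zero_mul, TensorProduct.zero_tmul]
    | zero => rw [zero_smul, map_zero]
    | add b c _ _ ihb ihc => rw [add_smul, map_add, ihb m trivial, ihc m trivial, add_zero]
    | smul r b _ ih =>
      rw [smul_eq_mul, mul_comm, mul_smul]
      exact ih (r • m) trivial
  have h0 := hq0 _ hmem
  obtain ⟨d₀, hd₀, hmin⟩ : ∃ d₀ ∈ P.support, ∀ d ∈ P.support,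
      algebraMap A V (P.coeff d₀) ∣ algebraMap A V (P.coeff d) := by
    have hne : P.support.Nonempty := Finset.nonempty_iff_ne_empty.mpr fun h =>
      hP (by rw [MvPolynomial.support_eq_empty.mp h, map_zero])
    suffices H : ∀ s : Finset (σ →₀ ℕ), s.Nonempty →
        ∃ d ∈ s, ∀ e ∈ s, algebraMap A V (P.coeff d) ∣ algebraMap A V (P.coeff e) from H _ hne
    intro s hs
    induction hs using Finset.Nonempty.cons_induction with
    | singleton a => exact ⟨a, Finset.mem_singleton_self a, fun e he => by rw [Finset.mem_singleton.mp he]⟩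
    | cons a s ha hs ih =>
      obtain ⟨d, hd, hdm⟩ := ih
      rcases ValuationRing.dvd_total (algebraMap A V (P.coeff d)) (algebraMap A V (P.coeff a)) with h | h
      · refine ⟨d, Finset.mem_cons_of_mem hd, fun e he => ?_⟩
        rcases Finset.mem_cons.mp he with rfl | he
        · exact h
        · exact hdm e he
      · refine ⟨a, Finset.mem_cons_self a s, fun e he => ?_⟩
        rcases Finset.mem_cons.mp he with rfl | he
        · exact dvd_rfl
        · exact h.trans (hdm e he)
  set c := algebraMap A V (P.coeff d₀)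
  have hc : c ≠ 0 := fun hc => hP (MvPolynomial.ext _ _ fun d => by
    rw [MvPolynomial.coeff_map, MvPolynomial.coeff_zero, Ideal.Quotient.eq_zero_iff_mem, ← hker, RingHom.mem_ker]
    by_cases hd : d ∈ P.support
    · exact zero_dvd_iff.mp (hc ▸ hmin d hd)
    · rw [MvPolynomial.notMem_support_iff.mp hd, map_zero])
  choose w hw using hmin
  let mon : (σ →₀ ℕ) → B := fun d => ∏ i ∈ d.support, t i ^ d i
  let n' : V ⊗[A] M := ∑ d ∈ P.support.attach, w d.1 d.2 ⊗ₜ[A] (mon d.1 • m₀)
  have hcn : c • n' = 0 := by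
    rw [← h0]
    simp only [n', Finset.smul_sum, TensorProduct.smul_tmul', smul_eq_mul]
    rw [MvPolynomial.eval₂_eq, Finset.sum_smul, map_sum, ← Finset.sum_attach P.support]
    refine Finset.sum_congr rfl fun d _ => ?_
    rw [← hw d.1 d.2]
    show (algebraMap A V (P.coeff d.1)) ⊗ₜ[A] (mon d.1 • m₀) = q ((algebraMap A B (P.coeff d.1) * mon d.1) • m₀)
    rw [mul_smul, IsScalarTower.algebraMap_smul, map_smul]
    show _ = P.coeff d.1 • ((1 : V) ⊗ₜ[A] (mon d.1 • m₀))
    rw [TensorProduct.smul_tmul', Algebra.smul_def, mul_one]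
  have hn : n' = 0 := (smul_eq_zero.mp hcn).resolve_left hc
  let κ := ResidueField A
  have hindep : LinearIndependent κ fun d : σ →₀ ℕ => residue B (mon d) := by
    rw [linearIndependent_iff']
    intro s g hg i hi
    choose a ha using fun j => residue_surjective (g j)
    have h := ht (∑ j ∈ s, MvPolynomial.monomial j (a j)) (by
      rw [MvPolynomial.eval₂_sum, map_sum, ← hg]
      refine Finset.sum_congr rfl fun j _ => ?_
      rw [MvPolynomial.eval₂_monomial, map_mul, ← ha j, Algebra.smul_def]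
      rfl)
    have h' := congrArg (MvPolynomial.coeff i) h
    rw [MvPolynomial.coeff_map, MvPolynomial.coeff_zero, MvPolynomial.coeff_sum] at h'
    simp only [MvPolynomial.coeff_monomial, Finset.sum_ite_eq', if_pos hi] at h'
    rw [← ha i]; exact h'
  obtain ⟨ψ, hψ⟩ : ∃ ψ : ResidueField B →ₗ[κ] κ, ψ (residue B (mon d₀)) = 1 ∧
      ∀ d, d ≠ d₀ → ψ (residue B (mon d)) = 0 := by
    obtain ⟨l, hl⟩ := LinearMap.exists_leftInverse_of_injective (Finsupp.linearCombination κ fun d : σ →₀ ℕ => residue B (mon d))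
      (LinearMap.ker_eq_bot.mpr (linearIndependent_iff_injective_finsuppLinearCombination.mp hindep))
    refine ⟨(Finsupp.lapply d₀).comp l, ?_, fun d hd => ?_⟩
    · have h := LinearMap.congr_fun hl (Finsupp.single d₀ 1)
      simp only [LinearMap.comp_apply, Finsupp.linearCombination_single, one_smul, LinearMap.id_apply] at h
      rw [LinearMap.comp_apply, h]; simp
    · have h := LinearMap.congr_fun hl (Finsupp.single d 1)
      simp only [LinearMap.comp_apply, Finsupp.linearCombination_single, one_smul, LinearMap.id_apply] at h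
      rw [LinearMap.comp_apply, h]; simp [hd]
  let π' : M →ₗ[A] κ := ((ψ.restrictScalars A).comp (π.restrictScalars A))
  let Φ : V ⊗[A] M →ₗ[A] (ResidueField V ⊗[A] κ) :=
    TensorProduct.map (IsScalarTower.toAlgHom A V (ResidueField V)).toLinearMap π'
  have hΦ := congrArg Φ hn
  simp only [n', map_sum, map_zero, Φ, TensorProduct.map_tmul] at hΦ
  rw [Finset.sum_eq_single ⟨d₀, hd₀⟩] at hΦ
  rotate_left
  · intro d _ hd
    have : π' (mon d.1 • m₀) = 0 := by
      show ψ (π (mon d.1 • m₀)) = 0
      rw [map_smul, hπ, Algebra.smul_def, mul_one]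
      exact hψ.2 _ fun h => hd (Subtype.ext h)
    rw [this, TensorProduct.tmul_zero]
  · exact fun h => absurd (Finset.mem_attach _ _) h
  have h1 : π' (mon d₀ • m₀) = 1 := by
    show ψ (π (mon d₀ • m₀)) = 1
    rw [map_smul, hπ, Algebra.smul_def, mul_one]
    exact hψ.1
  rw [h1] at hΦ
  have hw1 : w d₀ hd₀ = 1 := mul_left_cancel₀ hc ((hw d₀ hd₀).symm.trans (mul_one c).symm)
  rw [hw1] at hΦ
  let μ : ResidueField V ⊗[A] κ →+* ResidueField V :=
    (Algebra.TensorProduct.lift (AlgHom.id A (ResidueField V))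
      ({ ResidueField.map (algebraMap A V) with
          commutes' := fun r => rfl } : κ →ₐ[A] ResidueField V) fun _ _ => Commute.all _ _).toRingHom
  have := congrArg μ hΦ
  simp [μ] at this

theorem exists_prime [Module.Finite B M] [Nontrivial M]
    (ht : ∀ P : MvPolynomial σ A,
      residue B (MvPolynomial.eval₂ (algebraMap A B) t P) = 0 → P.map (residue A) = 0) :
    ∃ Q : PrimeSpectrum B, Q ∈ Module.support B M ∧ Q.asIdeal.comap (algebraMap A B) = 𝔭 ∧
      ∀ P : MvPolynomial σ A, P.map (Ideal.Quotient.mk 𝔭) ≠ 0 →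
        MvPolynomial.eval₂ (algebraMap A B) t P ∉ Q.asIdeal := by
  classical
  have hne : (maximalIdeal B) • (⊤ : Submodule B M) ≠ ⊤ := fun h =>
    top_ne_bot (Submodule.eq_bot_of_le_smul_of_le_jacobson_bot _ ⊤ Module.Finite.fg_top h.ge
      (IsLocalRing.maximalIdeal_le_jacobson ⊥))
  let N := M ⧸ (maximalIdeal B) • (⊤ : Submodule B M)
  obtain ⟨π, m₀, hπ⟩ : ∃ (π : M →ₗ[B] ResidueField B) (m₀ : M), π m₀ = 1 := by
    letI := Ideal.Quotient.field (maximalIdeal B)
    haveI : Nontrivial N := Submodule.Quotient.nontrivial_iff.2 hne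
    obtain ⟨v, hv⟩ := exists_ne (0 : N)
    let bs := Module.Basis.ofVectorSpace (B ⧸ maximalIdeal B) N
    obtain ⟨i, hi⟩ : ∃ i, bs.coord i v ≠ 0 := by
      by_contra! h
      exact hv (bs.repr.injective (Finsupp.ext fun i => by rw [map_zero]; exact h i))
    obtain ⟨m, hm⟩ := Submodule.Quotient.mk_surjective _ ((bs.coord i v)⁻¹ • v)
    refine ⟨((bs.coord i).restrictScalars B).comp (Submodule.mkQ _), m, ?_⟩
    show bs.coord i (Submodule.Quotient.mk m) = 1
    rw [hm, map_smul, smul_eq_mul, inv_mul_cancel₀ hi]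
  let J : Ideal B := ((𝔭.map (algebraMap A B)) • (⊤ : Submodule B M)).comap (LinearMap.toSpanSingleton B M m₀)
  let T : Submonoid B :=
    { carrier := {b | ∃ P : MvPolynomial σ A, P.map (Ideal.Quotient.mk 𝔭) ≠ 0 ∧
        MvPolynomial.eval₂ (algebraMap A B) t P = b}
      one_mem' := ⟨1, by simp, MvPolynomial.eval₂_one _ _⟩
      mul_mem' := by
        rintro _ _ ⟨P, hP, rfl⟩ ⟨Q, hQ, rfl⟩
        exact ⟨P * Q, by rw [map_mul]; exact mul_ne_zero hP hQ, MvPolynomial.eval₂_mul _ _⟩ }
  have hdisj : Disjoint (J : Set B) T := Set.disjoint_left.mpr fun b hb => by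
    rintro ⟨P, hP, rfl⟩
    exact eval₂_smul_notMem 𝔭 t ht π m₀ hπ P hP hb
  obtain ⟨Q, hQ, hJQ, hQT⟩ := Ideal.exists_le_prime_disjoint J T hdisj
  refine ⟨⟨Q, hQ⟩, ?_, le_antisymm ?_ ?_, fun P hP hPQ => Set.disjoint_left.mp hQT hPQ ⟨P, hP, rfl⟩⟩
  · rw [Module.mem_support_iff_of_finite]
    intro b hb
    refine hJQ ?_
    refine Submodule.mem_comap.mpr ?_
    rw [LinearMap.toSpanSingleton_apply, Module.mem_annihilator.mp hb m₀]
    exact zero_mem _
  · intro a ha
    by_contra hap
    refine Set.disjoint_left.mp hQT ha ⟨MvPolynomial.C a, ?_, MvPolynomial.eval₂_C _ _ _⟩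
    rw [MvPolynomial.map_C]
    exact fun h => hap (Ideal.Quotient.eq_zero_iff_mem.mp (MvPolynomial.C_injective σ _ (h.trans (map_zero _).symm)))
  · intro a ha
    refine hJQ ?_
    refine Submodule.mem_comap.mpr ?_
    rw [LinearMap.toSpanSingleton_apply]
    exact Submodule.smul_mem_smul (Ideal.mem_map_of_mem _ ha) trivial

end Local

section Scheme

open Groth.L07.Equidim Groth.L07.DimToolkit Groth.L22

variable {X S : Scheme.{u}}

theorem ker_specMap (x : X) (Q : PrimeSpectrum (X.presheaf.stalk x)) (z : X) (hz : X.fromSpecStalk x Q = z)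
    (h : z ⤳ x) : RingHom.ker (Cyc.specMap x z h) = Q.asIdeal := by
  let s : PrimeSpectrum (X.residueField z) := ⟨⊥, Ideal.isPrime_bot⟩
  have e : Q = PrimeSpectrum.comap (Cyc.specMap x z h) s :=
    (X.fromSpecStalk x).isEmbedding.injective (hz.trans (LocQuotDim.fromSpecStalk_ker_specMap x z h s).symm)
  rw [e]; rfl

theorem specMap_stalkMap (f : X ⟶ S) {x z : X} (h : z ⤳ x) (a : S.presheaf.stalk (f x)) :
    Cyc.specMap x z h (f.stalkMap x a) = f.residueFieldMap z (Cyc.specMap (f x) (f z) (h.map f.continuous) a) := by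
  show X.residue z (X.presheaf.stalkSpecializes h (f.stalkMap x a)) =
    f.residueFieldMap z (S.residue (f z) (S.presheaf.stalkSpecializes (h.map f.continuous) a))
  rw [← Scheme.Hom.stalkSpecializes_stalkMap_apply f z x h a]
  exact congr($(Scheme.residue_residueFieldMap f z) _).symm

theorem exists_mul_eq_specMap {s η : S} (h : η ⤳ s) (c : S.residueField η) :
    ∃ a b : S.presheaf.stalk s, Cyc.specMap s η h b ≠ 0 ∧ c * Cyc.specMap s η h b = Cyc.specMap s η h a := by
  obtain ⟨W, hW, hsW, -⟩ := exists_isAffineOpen_mem_and_subset (TopologicalSpace.Opens.mem_top s)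
  have hηW : η ∈ W := h.mem_open W.2 hsW
  obtain ⟨r, rfl⟩ := S.residue_surjective η c
  letI : Algebra Γ(S, W) (S.presheaf.stalk η) := TopCat.Presheaf.algebra_section_stalk S.presheaf ⟨η, hηW⟩
  haveI := hW.isLocalization_stalk ⟨η, hηW⟩
  obtain ⟨⟨a, b⟩, hb⟩ := IsLocalization.surj (hW.primeIdealOf ⟨η, hηW⟩).asIdeal.primeCompl r
  have key : ∀ u : Γ(S, W), Cyc.specMap s η h (S.presheaf.germ W s hsW u) =
      S.residue η (algebraMap Γ(S, W) (S.presheaf.stalk η) u) := fun u => by
    show S.residue η (S.presheaf.stalkSpecializes h (S.presheaf.germ W s hsW u)) = _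
    rw [TopCat.Presheaf.germ_stalkSpecializes_apply]
    rfl
  refine ⟨S.presheaf.germ W s hsW a, S.presheaf.germ W s hsW b.1, ?_, ?_⟩
  · rw [key]
    exact ((IsLocalization.map_units (S.presheaf.stalk η) b).map (S.residue η).hom).ne_zero
  · rw [key, key, ← map_mul, hb]

theorem exists_clear {s η : S} (h : η ⤳ s) {σ : Type} (Q : MvPolynomial σ (S.residueField η)) :
    ∃ (b : S.presheaf.stalk s) (P : MvPolynomial σ (S.presheaf.stalk s)),
      Cyc.specMap s η h b ≠ 0 ∧ MvPolynomial.C (Cyc.specMap s η h b) * Q = P.map (Cyc.specMap s η h) := by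
  induction Q using MvPolynomial.induction_on with
  | C c =>
    obtain ⟨a, b, hb, hc⟩ := exists_mul_eq_specMap h c
    exact ⟨b, MvPolynomial.C a, hb, by rw [MvPolynomial.map_C, ← map_mul, mul_comm, hc]⟩
  | add Q₁ Q₂ ih₁ ih₂ =>
    obtain ⟨b₁, P₁, hb₁, h₁⟩ := ih₁
    obtain ⟨b₂, P₂, hb₂, h₂⟩ := ih₂
    refine ⟨b₁ * b₂, MvPolynomial.C b₂ * P₁ + MvPolynomial.C b₁ * P₂,
      by rw [map_mul]; exact mul_ne_zero hb₁ hb₂, ?_⟩
    rw [map_add, map_mul (MvPolynomial.map _), map_mul (MvPolynomial.map _), MvPolynomial.map_C, MvPolynomial.map_C,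
      ← h₁, ← h₂, map_mul, map_mul]
    ring
  | mul_X Q i ih =>
    obtain ⟨b, P, hb, h⟩ := ih
    exact ⟨b, P * MvPolynomial.X i, hb, by rw [map_mul, MvPolynomial.map_X, ← h]; ring⟩

/-- A flat module carries the fibre transcendence degree to the generizations. -/
theorem exists_lift (f : X ⟶ S) [LocallyOfFiniteType f] (F : X.Modules) (x : X)
    (hfin : Module.Finite (X.presheaf.stalk x) (F.presheaf.stalk x))
    (hx : x ∈ CohB1.support F) (hflat : FlatMod.IsFlatOverAt f F x) (η : S) (hη : η ⤳ f x) :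
    ∃ Q : PrimeSpectrum (X.presheaf.stalk x), Q ∈ Module.support (X.presheaf.stalk x) (F.presheaf.stalk x) ∧
      f (X.fromSpecStalk x Q) = η ∧ fdim f x ≤ fdim f (X.fromSpecStalk x Q) := by
  classical
  haveI := hfin
  haveI : Nontrivial (F.presheaf.stalk x) := not_subsingleton_iff_nontrivial.1 hx
  letI : Algebra (S.presheaf.stalk (f x)) (X.presheaf.stalk x) := (f.stalkMap x).hom.toAlgebra
  haveI : IsLocalHom (algebraMap (S.presheaf.stalk (f x)) (X.presheaf.stalk x)) :=
    inferInstanceAs (IsLocalHom (f.stalkMap x).hom)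
  letI := FlatMod.moduleStalkOver f F x
  haveI : IsScalarTower (S.presheaf.stalk (f x)) (X.presheaf.stalk x) (F.presheaf.stalk x) :=
    IsScalarTower.of_algebraMap_smul fun _ _ => rfl
  haveI : Module.Flat (S.presheaf.stalk (f x)) (F.presheaf.stalk x) := hflat
  obtain ⟨n, hn, hn'⟩ := exists_fdim_rtrdeg f x
  letI : Algebra (S.residueField (f x)) (X.residueField x) := (f.residueFieldMap x).hom.toAlgebra
  obtain ⟨u, hu⟩ := exists_isTranscendenceBasis (S.residueField (f x)) (X.residueField x)
  have hcard : Cardinal.mk u = (n : Cardinal.{u}) := hu.cardinalMk_eq_trdeg.trans hn'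
  haveI : Finite u := Cardinal.lt_aleph0_iff_finite.mp (hcard.trans_lt Cardinal.natCast_lt_aleph0)
  obtain ⟨m, ⟨e⟩⟩ := Finite.exists_equiv_fin u
  have hmn : m = n := (Nat.card_eq_of_equiv_fin e).symm.trans (by
    rw [Nat.card, hcard, Cardinal.toNat_natCast])
  choose t ht using fun i : Fin m => X.residue_surjective x (e.symm i).1
  have hind : ∀ P : MvPolynomial (Fin m) (S.presheaf.stalk (f x)),
      residue (X.presheaf.stalk x) (MvPolynomial.eval₂ (algebraMap _ _) t P) = 0 → P.map (residue _) = 0 := by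
    intro P hP
    have hi : AlgebraicIndependent (S.residueField (f x)) fun i : Fin m => ((e.symm i).1 : X.residueField x) :=
      hu.1.comp (fun i : Fin m => e.symm i) e.symm.injective
    refine hi.eq_zero_of_aeval_eq_zero (R := S.residueField (f x)) _ ?_
    erw [MvPolynomial.aeval_def, MvPolynomial.eval₂_map]
    refine Eq.trans ?_ hP
    rw [MvPolynomial.eval₂_comp_left]
    congr 1
    exact funext fun i => (ht i).symm
  obtain ⟨P, hP⟩ := Groth.L07.DimToolkit.exists_prime (f x) η hη
  obtain ⟨Q, hQ, hcomap, hQt⟩ := Groth.L06.FlatModuleLift.exists_prime (M := F.presheaf.stalk x) P.asIdeal t hind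
  have hcm : PrimeSpectrum.comap (f.stalkMap x).hom Q = P := PrimeSpectrum.ext hcomap
  set z := X.fromSpecStalk x Q
  have hzx : z ⤳ x := Groth.L07.EquidimPoint.specializes_point x Q
  have hfz : f z = η := by
    rw [← hP, ← hcm]
    exact (congr($(Scheme.SpecMap_stalkMap_fromSpecStalk f (x := x)) Q) :).symm
  refine ⟨Q, hQ, hfz, ?_⟩
  obtain ⟨N, hN, hN'⟩ := exists_fdim_rtrdeg f z
  rw [hn, hN]
  letI : Algebra (S.residueField (f z)) (X.residueField z) := (f.residueFieldMap z).hom.toAlgebra
  have hkerS : RingHom.ker (Cyc.specMap (f x) (f z) (hzx.map f.continuous)) = P.asIdeal := by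
    refine ker_specMap (f x) P (f z) ?_ _
    rw [hP, hfz]
  have hind' : AlgebraicIndependent (S.residueField (f z)) fun i : Fin m => Cyc.specMap x z hzx (t i) := by
    rw [algebraicIndependent_iff]
    intro R hR
    obtain ⟨b, R', hb, hR'⟩ := exists_clear (hzx.map f.continuous) R
    have h0 : Cyc.specMap x z hzx (MvPolynomial.eval₂ (algebraMap _ _) t R') = 0 := by
      have := congrArg (MvPolynomial.aeval fun i : Fin m => Cyc.specMap x z hzx (t i)) hR'
      rw [map_mul, hR, mul_zero, MvPolynomial.aeval_def, MvPolynomial.eval₂_map] at this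
      rw [this, MvPolynomial.eval₂_comp_left]
      congr 1
      exact RingHom.ext fun a => specMap_stalkMap f hzx a
    have hR0 : R'.map (Ideal.Quotient.mk P.asIdeal) = 0 := by
      by_contra hne
      refine hQt R' hne ?_
      rw [← ker_specMap x Q z rfl hzx]
      exact h0
    have hR1 : R'.map (Cyc.specMap (f x) (f z) (hzx.map f.continuous)) = 0 := MvPolynomial.ext _ _ fun d => by
      have h := congrArg (MvPolynomial.coeff d) hR0
      rw [MvPolynomial.coeff_map, MvPolynomial.coeff_zero, Ideal.Quotient.eq_zero_iff_mem, ← hkerS] at h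
      rw [MvPolynomial.coeff_map, MvPolynomial.coeff_zero]
      exact h
    rw [hR1, mul_eq_zero] at hR'
    exact hR'.resolve_left fun h => hb (MvPolynomial.C_eq_zero.mp h)
  have h := hind'.lift_cardinalMk_le_trdeg
  rw [Cardinal.mk_fin, show Algebra.trdeg (S.residueField (f z)) (X.residueField z) = (N : Cardinal.{u}) from hN'] at h
  simp only [Cardinal.lift_natCast, Nat.cast_le] at h
  exact_mod_cast (show n ≤ N by omega)

/-- Fibre dimension of the support of a flat module is at most that over the generic point. -/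
theorem dim_support_le (f : X ⟶ S) [LocallyOfFiniteType f] [IrreducibleSpace S] (F : X.Modules)
    (hfin : ∀ x, Module.Finite (X.presheaf.stalk x) (F.presheaf.stalk x))
    (hsupp : ∀ (x : X) (Q : PrimeSpectrum (X.presheaf.stalk x)),
      Q ∈ Module.support (X.presheaf.stalk x) (F.presheaf.stalk x) → X.fromSpecStalk x Q ∈ CohB1.support F)
    (hclosed : IsClosed (CohB1.support F))
    (hfl : FlatMod.IsFlatOver f F) (r : WithBot ℕ∞)
    (h : topologicalKrullDim ↑(f ⁻¹' {genericPoint S} ∩ CohB1.support F) ≤ r) (s : S) :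
    topologicalKrullDim ↑(f ⁻¹' {s} ∩ CohB1.support F) ≤ r := by
  let T' : Set ↥(f.fiber s) := f.fiberι s ⁻¹' CohB1.support F
  have hT' : IsClosed T' := hclosed.preimage (f.fiberι s).continuous
  haveI := hT'.isClosedEmbedding_subtypeVal.quasiSober
  rw [SchemeDim.topologicalKrullDim_eq_of_isEmbedding ((f.fiberι s).isEmbedding.comp IsEmbedding.subtypeVal)
    (show Set.range (f.fiberι s ∘ (Subtype.val : T' → ↥(f.fiber s))) = f ⁻¹' {s} ∩ CohB1.support F by
      rw [Set.range_comp, Subtype.range_coe, Set.image_preimage_eq_range_inter, f.range_fiberι])]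
  refine Groth.L07.EquidimQF.dim_le_of_dim_closure_le fun a => ?_
  have hsub : topologicalKrullDim ↥(closure ({a} : Set T')) ≤ fdim f (f.fiberι s a.1) := by
    rw [fdim_fiberι]
    refine ((IsEmbedding.subtypeVal.comp IsEmbedding.subtypeVal).codRestrict (closure ({a.1} : Set ↥(f.fiber s)))
      fun w => ?_).isInducing.topologicalKrullDim_le
    have := image_closure_subset_closure_image continuous_subtype_val ⟨w.1, w.2, rfl⟩
    rwa [Set.image_singleton] at this
  refine hsub.trans ?_
  obtain ⟨Q, hQ, hfQ, hle⟩ := exists_lift f F _ (hfin _) a.2 (hfl _) (genericPoint S)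
    ((genericPoint_spec S).specializes trivial)
  refine hle.trans (le_trans ?_ h)
  show topologicalKrullDim ↥(closure ({X.fromSpecStalk (f.fiberι s a.1) Q} : Set X) ∩ f.base ⁻¹' {f (X.fromSpecStalk (f.fiberι s a.1) Q)}) ≤ _
  rw [hfQ]
  exact SchemeDim.topologicalKrullDim_mono fun w hw =>
    ⟨hw.2, closure_minimal (Set.singleton_subset_iff.mpr (hsupp _ Q hQ)) hclosed hw.1⟩

end Scheme

end Groth.L06.FlatModuleLift
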