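import Groth.Prelude.Def_TopMod
import Groth.Prelude.Def_LinTop
import Mathlib.Topology.UniformSpace.Cauchy
import Mathlib.Topology.Algebra.IsUniformGroup.Basic
import Mathlib.Algebra.Module.Projective
import Mathlib.RingTheory.Ideal.Quotient.Operations
import Mathlib.Topology.Algebra.OpenSubgroup
import Mathlib.RingTheory.Nilpotent.Basic

/-! Formally left invertible maps of topological modules. -/

set_option autoImplicit false
set_option maxSynthPendingDepth 3
noncomputable section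
universe u v w x y z

namespace Groth.L06.FormLeftInv

open Filter Topology

section algebra
variable {A : Type u} [CommRing A] {M : Type v} [AddCommGroup M] [Module A M] {N : Type w} [AddCommGroup N] [Module A N]

theorem smul_top_le_ker (J : Ideal A) {P : Type x} [AddCommGroup P] [Module A P]
    (hP : ∀ a ∈ J, ∀ y : P, a • y = 0) (f : N →ₗ[A] P) : (J • ⊤ : Submodule A N) ≤ LinearMap.ker f :=
  Submodule.smul_le.mpr fun a ha y _ => LinearMap.mem_ker.mpr (by rw [map_smul, hP a ha])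

theorem smul_quot_eq_zero (J : Ideal A) (a : A) (ha : a ∈ J) (y : M ⧸ (J • ⊤ : Submodule A M)) : a • y = 0 := by
  obtain ⟨y, rfl⟩ := Submodule.Quotient.mk_surjective _ y
  rw [← Submodule.Quotient.mk_smul, Submodule.Quotient.mk_eq_zero]
  exact Submodule.smul_mem_smul ha trivial

/-- lift along a surjection of modules killed by `J` from a module whose reduction is projective -/
theorem exists_lift (J : Ideal A) [Module.Projective (A ⧸ J) (N ⧸ (J • ⊤ : Submodule A N))]
    {P : Type x} [AddCommGroup P] [Module A P] [Module (A ⧸ J) P] [IsScalarTower A (A ⧸ J) P]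
    {Q : Type y} [AddCommGroup Q] [Module A Q]
    (hP : ∀ a ∈ J, ∀ y : P, a • y = 0)
    (f : P →ₗ[A] Q) (hf : Function.Surjective f) (v : N →ₗ[A] Q) : ∃ g : N →ₗ[A] P, f ∘ₗ g = v := by
  have hQ : ∀ a ∈ J, ∀ y : Q, a • y = 0 := fun a ha y => by
    obtain ⟨x, rfl⟩ := hf y
    rw [← map_smul, hP a ha, map_zero]
  letI : Module (A ⧸ J) Q := Module.IsTorsionBySet.module (fun y a => hQ a a.2 y)
  haveI : IsScalarTower A (A ⧸ J) Q := Module.IsTorsionBySet.isScalarTower (fun y a => hQ a a.2 y)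
  let v' : (N ⧸ (J • ⊤ : Submodule A N)) →ₗ[A] Q := (J • ⊤ : Submodule A N).liftQ v (smul_top_le_ker J hQ v)
  have hs : Function.Surjective (algebraMap A (A ⧸ J)) := Ideal.Quotient.mk_surjective
  obtain ⟨g, hg⟩ := Module.projective_lifting_property (LinearMap.extendScalarsOfSurjective hs f)
    (LinearMap.extendScalarsOfSurjective hs v') hf
  exact ⟨g.restrictScalars A ∘ₗ (J • ⊤ : Submodule A N).mkQ,
    LinearMap.ext fun y => LinearMap.congr_fun hg (Submodule.Quotient.mk y)⟩

/-- left inverse modulo a nilpotent ideal -/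
theorem exists_left_of_mod (J L : Ideal A) (n : ℕ) (hn : L ^ n ≤ J)
    [Module.Projective (A ⧸ J) (N ⧸ (J • ⊤ : Submodule A N))] (u : M →ₗ[A] N)
    (w₀ : N →ₗ[A] M ⧸ (L • ⊤ : Submodule A M)) (hw₀ : ∀ x, w₀ (u x) = Submodule.Quotient.mk x) :
    ∃ w : N →ₗ[A] M ⧸ (J • ⊤ : Submodule A M), ∀ x, w (u x) = Submodule.Quotient.mk x := by
  let S : Submodule A M := (J • ⊤) ⊔ (L • ⊤)
  let f : (M ⧸ (J • ⊤ : Submodule A M)) →ₗ[A] M ⧸ S := Submodule.factor le_sup_left
  obtain ⟨g, hg⟩ := exists_lift (P := M ⧸ (J • ⊤ : Submodule A M)) J (smul_quot_eq_zero J) f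
    (Submodule.factor_surjective _) (Submodule.factor le_sup_right ∘ₗ w₀)
  let e : Module.End A (M ⧸ (J • ⊤ : Submodule A M)) :=
    (J • ⊤ : Submodule A M).liftQ ((J • ⊤ : Submodule A M).mkQ - g ∘ₗ u)
      (smul_top_le_ker J (smul_quot_eq_zero J) _)
  have h1 : ∀ k : ℕ, ∀ x, (e ^ k) x ∈ (L ^ k • ⊤ : Submodule A (M ⧸ (J • ⊤ : Submodule A M))) := by
    intro k
    induction k with
    | zero => intro x; simp
    | succ k ih =>
      intro x
      obtain ⟨x, rfl⟩ := Submodule.Quotient.mk_surjective _ x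
      have hmem : e (Submodule.Quotient.mk x) ∈ (L • ⊤ : Submodule A (M ⧸ (J • ⊤ : Submodule A M))) := by
        show Submodule.Quotient.mk x - g (u x) ∈ _
        obtain ⟨z, hz⟩ := Submodule.Quotient.mk_surjective _ (g (u x))
        have h2 : x - z ∈ S := by
          have := LinearMap.congr_fun hg (u x)
          rw [LinearMap.comp_apply, LinearMap.comp_apply, hw₀, ← hz] at this
          exact (Submodule.Quotient.eq S).mp this.symm
        obtain ⟨a, ha, b, hb, hab⟩ := Submodule.mem_sup.mp h2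
        rw [← hz, ← Submodule.Quotient.mk_sub, ← hab, Submodule.Quotient.mk_add,
          (Submodule.Quotient.mk_eq_zero _).mpr ha, zero_add]
        have hm := Submodule.mem_map_of_mem (f := (J • ⊤ : Submodule A M).mkQ) hb
        rw [Submodule.map_smul'', Submodule.map_top, Submodule.range_mkQ] at hm
        exact hm
      rw [pow_succ e k, Module.End.mul_apply]
      have hle : (L • ⊤ : Submodule A (M ⧸ (J • ⊤ : Submodule A M))) ≤ Submodule.comap (e ^ k) (L ^ (k + 1) • ⊤) :=
        Submodule.smul_le.mpr fun a ha y _ => by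
          rw [Submodule.mem_comap, map_smul, pow_succ', Submodule.mul_smul]
          exact Submodule.smul_mem_smul ha (ih y)
      exact hle hmem
  have he : IsNilpotent e := ⟨n, LinearMap.ext fun x => by
    have h0 : (L ^ n • ⊤ : Submodule A (M ⧸ (J • ⊤ : Submodule A M))) ≤ ⊥ :=
      Submodule.smul_le.mpr fun a ha y _ => (Submodule.mem_bot A).mpr (smul_quot_eq_zero J a (hn ha) y)
    exact (Submodule.mem_bot A).mp (h0 (h1 n x))⟩
  obtain ⟨c, hc⟩ := he.isUnit_one_sub.exists_left_inv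
  refine ⟨c ∘ₗ g, fun x => ?_⟩
  have := LinearMap.congr_fun hc (Submodule.Quotient.mk x)
  rw [Module.End.mul_apply, LinearMap.sub_apply, Module.End.one_apply] at this
  rw [LinearMap.comp_apply]
  rw [← this]
  congr 1
  show g (u x) = Submodule.Quotient.mk x - (Submodule.Quotient.mk x - g (u x))
  abel

end algebra

section topology
variable {A : Type u} [CommRing A] [TopologicalSpace A] {M : Type v} [AddCommGroup M] [Module A M]
  [TopologicalSpace M] {N : Type w} [AddCommGroup N] [Module A N] [TopologicalSpace N]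

theorem continuous_of_ker (hN : TopMod.IsDeduced A N) {E : Type x} [AddCommGroup E] [Module A E] [TopologicalSpace E]
    [DiscreteTopology E] (f : N →ₗ[A] E) {J : Ideal A} (hJ : IsOpen (J : Set A))
    (hf : (J • ⊤ : Submodule A N) ≤ LinearMap.ker f) : Continuous f := by
  haveI := hN.1
  refine continuous_of_continuousAt_zero f ?_
  rw [ContinuousAt, map_zero, nhds_discrete E, tendsto_pure]
  exact Filter.mem_of_superset (hN.2.mem_of_mem hJ) fun y hy => hf hy

theorem fli_iff (hM : TopMod.IsDeduced A M) (hN : TopMod.IsDeduced A N) (u : M →L[A] N) :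
    TopMod.IsFormallyLeftInvertible u ↔
      ∀ J : Ideal A, IsOpen (J : Set A) →
        ∃ w : N →ₗ[A] M ⧸ (J • ⊤ : Submodule A M), ∀ x : M, w (u x) = Submodule.Quotient.mk x := by
  constructor
  · intro h J hJ
    letI : TopologicalSpace (M ⧸ (J • ⊤ : Submodule A M)) := ⊥
    haveI : DiscreteTopology (M ⧸ (J • ⊤ : Submodule A M)) := ⟨rfl⟩
    let v : M →L[A] M ⧸ (J • ⊤ : Submodule A M) := ⟨(J • ⊤ : Submodule A M).mkQ,
      continuous_of_ker hM _ hJ (Submodule.ker_mkQ _).ge⟩
    obtain ⟨w, hw⟩ := h _ v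
    exact ⟨w.toLinearMap, hw⟩
  · intro h E _ _ _ _ v
    obtain ⟨J, hJ, hle⟩ := hM.2.mem_iff.mp (v.continuous.continuousAt.preimage_mem_nhds
      ((isOpen_discrete ({0} : Set E)).mem_nhds (show v 0 = 0 from map_zero v)))
    obtain ⟨w, hw⟩ := h J hJ
    let v' : (M ⧸ (J • ⊤ : Submodule A M)) →ₗ[A] E := (J • ⊤ : Submodule A M).liftQ v.toLinearMap fun x hx => hle hx
    refine ⟨⟨v' ∘ₗ w, continuous_of_ker hN _ hJ fun y hy => ?_⟩, fun x => ?_⟩
    · show v' (w y) = 0
      rw [show w y = 0 from smul_top_le_ker J (smul_quot_eq_zero J) w hy, map_zero]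
    · show v' (w (u x)) = v x
      rw [hw]; rfl

theorem fli_iff_idealOfDefinition (𝔏 : Ideal A) (h𝔏 : LinTop.IsIdealOfDefinition A 𝔏)
    (hM : TopMod.IsDeduced A M) (hN : TopMod.IsDeduced A N)
    (hproj : ∀ J : Ideal A, IsOpen (J : Set A) → Module.Projective (A ⧸ J) (N ⧸ (J • (⊤ : Submodule A N))))
    (u : M →L[A] N) :
    TopMod.IsFormallyLeftInvertible u ↔
      ∃ w : N →ₗ[A] M ⧸ (𝔏 • ⊤ : Submodule A M), ∀ x : M, w (u x) = Submodule.Quotient.mk x := by
  rw [fli_iff hM hN]
  refine ⟨fun h => h 𝔏 h𝔏.1, fun ⟨w₀, hw₀⟩ J hJ => ?_⟩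
  obtain ⟨n, -, hn⟩ := h𝔏.2 _ (hJ.mem_nhds J.zero_mem)
  haveI := hproj J hJ
  exact exists_left_of_mod J 𝔏 n (fun a ha => hn ha) u.toLinearMap w₀ hw₀

end topology

section limit
variable {A : Type u} [CommRing A] [TopologicalSpace A] {M : Type v} [AddCommGroup M] [Module A M]
  [UniformSpace M] [IsUniformAddGroup M] [CompleteSpace M] [T2Space M] {N : Type w} [AddCommGroup N] [Module A N]

theorem exists_limit (𝔍 : ℕ → Ideal A) (h𝔍open : ∀ n, IsOpen (𝔍 n : Set A)) (h𝔍anti : Antitone 𝔍)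
    (h𝔍basis : (nhds (0 : A)).HasBasis (fun _ : ℕ => True) (fun n => (𝔍 n : Set A)))
    (hM : TopMod.IsDeduced A M) (u : M →ₗ[A] N)
    (hex : ∀ n, ∃ w : N →ₗ[A] M ⧸ (𝔍 n • ⊤ : Submodule A M), ∀ x, w (u x) = Submodule.Quotient.mk x)
    (hstep : ∀ n, ∀ d : N →ₗ[A] M ⧸ (𝔍 n • ⊤ : Submodule A M), (∀ x, d (u x) = 0) →
      ∃ e : N →ₗ[A] M ⧸ (𝔍 (n + 1) • ⊤ : Submodule A M), (∀ x, e (u x) = 0) ∧
        Submodule.factor (Submodule.smul_mono_left (h𝔍anti n.le_succ)) ∘ₗ e = d) :
    ∃ w : N →ₗ[A] M, ∀ x, w (u x) = x := by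
  let T : ℕ → Submodule A M := fun n => 𝔍 n • ⊤
  have hanti : Antitone T := fun i j hij => Submodule.smul_mono_left (h𝔍anti hij)
  choose w₀ hw₀ using hex
  choose e he0 he using hstep
  -- a compatible system
  let F : ∀ n, {f : N →ₗ[A] M ⧸ T n // ∀ x, f (u x) = Submodule.Quotient.mk x} := fun n =>
    Nat.rec (motive := fun n => {f : N →ₗ[A] M ⧸ T n // ∀ x, f (u x) = Submodule.Quotient.mk x})
      ⟨w₀ 0, hw₀ 0⟩ (fun n p =>
        ⟨w₀ (n + 1) - e n (Submodule.factor (hanti n.le_succ) ∘ₗ w₀ (n + 1) - p.1) (fun x => by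
            rw [LinearMap.sub_apply, LinearMap.comp_apply, hw₀, p.2]; exact sub_eq_zero.mpr rfl),
          fun x => by rw [LinearMap.sub_apply, he0, sub_zero, hw₀]⟩) n
  have hF : ∀ n, Submodule.factor (hanti n.le_succ) ∘ₗ (F (n + 1)).1 = (F n).1 := by
    intro n
    show Submodule.factor (hanti n.le_succ) ∘ₗ (w₀ (n + 1) - _) = _
    rw [LinearMap.comp_sub, he]
    abel
  have hclosed : ∀ n, IsClosed (T n : Set M) := fun n => by
    refine AddSubgroup.isClosed_of_isOpen (T n).toAddSubgroup ?_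
    exact AddSubgroup.isOpen_of_mem_nhds _ (g := 0) (hM.2.mem_of_mem (h𝔍open n))
  have hbasis : ∀ U ∈ nhds (0 : M), ∃ n, (T n : Set M) ⊆ U := by
    intro U hU
    obtain ⟨J, hJ, hle⟩ := hM.2.mem_iff.mp hU
    obtain ⟨n, -, hn⟩ := h𝔍basis.mem_iff.mp (hJ.mem_nhds J.zero_mem)
    exact ⟨n, fun z hz => hle (Submodule.smul_mono_left (fun a ha => hn ha) hz)⟩
  have hsep : ∀ z : M, (∀ n, z ∈ T n) → z = 0 := by
    intro z hz
    by_contra hne
    obtain ⟨n, hn⟩ := hbasis {z}ᶜ (isOpen_compl_singleton.mem_nhds (Ne.symm hne))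
    exact hn (hz n) rfl
  have hlim : ∀ y : N, ∃ z : M, ∀ n, (Submodule.Quotient.mk z : M ⧸ T n) = (F n).1 y := by
    intro y
    choose m hm using fun n => Submodule.Quotient.mk_surjective (T n) ((F n).1 y)
    have hstep1 : ∀ n, m (n + 1) - m n ∈ T n := fun n => by
      rw [← Submodule.Quotient.eq, hm n, ← hF n, LinearMap.comp_apply, ← hm (n + 1)]
      rfl
    have hdiff : ∀ n k, n ≤ k → m k - m n ∈ T n := by
      intro n k hk
      induction k, hk using Nat.le_induction with
      | base => simp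
      | succ k hk ih =>
        rw [← sub_add_sub_cancel (m (k + 1)) (m k) (m n)]
        exact add_mem (hanti hk (hstep1 k)) ih
    have hc : CauchySeq m := by
      rw [cauchySeq_iff]
      intro V hV
      rw [uniformity_eq_comap_nhds_zero M, Filter.mem_comap] at hV
      obtain ⟨U, hU, hUV⟩ := hV
      obtain ⟨n, hn⟩ := hbasis U hU
      refine ⟨n, fun k hk l hl => hUV (hn ?_)⟩
      show m l - m k ∈ T n
      rw [← sub_sub_sub_cancel_right (m l) (m k) (m n)]
      exact sub_mem (hdiff n l hl) (hdiff n k hk)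
    obtain ⟨z, hz⟩ := cauchySeq_tendsto_of_complete hc
    refine ⟨z, fun n => ?_⟩
    rw [← hm n, Submodule.Quotient.eq]
    exact (hclosed n).mem_of_tendsto (hz.sub_const (m n)) (eventually_atTop.mpr ⟨n, fun k hk => hdiff n k hk⟩)
  choose W hW using hlim
  have huniq : ∀ a b : M, (∀ n, (Submodule.Quotient.mk a : M ⧸ T n) = Submodule.Quotient.mk b) → a = b :=
    fun a b h => sub_eq_zero.mp (hsep _ fun n => (Submodule.Quotient.eq _).mp (h n))
  exact ⟨{ toFun := W
           map_add' := fun a b => huniq _ _ fun n => by rw [Submodule.Quotient.mk_add, hW, hW, hW, map_add]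
           map_smul' := fun c a => huniq _ _ fun n => by
             rw [RingHom.id_apply, Submodule.Quotient.mk_smul, hW, hW, map_smul] },
    fun x => huniq _ _ fun n => by show Submodule.Quotient.mk (W (u x)) = _; rw [hW, (F n).2]⟩

end limit

end Groth.L06.FormLeftInv
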