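import Groth.Prelude.Def_CAlgX
import Groth.Agent.L07.OrderValuation
import Groth.Agent.L01.PowSerReg
import Groth.Agent.L03.FieldFS
import Groth.Agent.L06.RegularRing
import Mathlib.RingTheory.AdicCompletion.RingHom
import Mathlib.RingTheory.AdicCompletion.LocalRing
import Mathlib.RingTheory.Ideal.KrullsHeightTheorem
import Mathlib.FieldTheory.Perfect
import Mathlib.LinearAlgebra.Dimension.OrzechProperty
import Mathlib.RingTheory.Nilpotent.Lemmas
import Mathlib.RingTheory.MvPowerSeries.Inverse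

/-! Adic formal smoothness of local rings over a field and regularity (EGA 0_IV 19.6.4, 22.5.8). -/

set_option autoImplicit false
set_option linter.style.haveILetI false
universe u

namespace Groth.L06.FormSmooth

open IsLocalRing
open scoped TensorProduct
open MvPolynomial (X C)

theorem isUnit_of_mk {C' : Type u} [CommRing C'] {J : Ideal C'} (hJ : J ^ 2 = ⊥) {x : C'}
    (h : IsUnit (Ideal.Quotient.mk J x)) : IsUnit x := by
  obtain ⟨u, hu⟩ := h.exists_right_inv
  obtain ⟨v, rfl⟩ := Ideal.Quotient.mk_surjective u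
  have hm : x * v - 1 ∈ J := Ideal.Quotient.eq.mp (by rw [map_mul, map_one]; exact hu)
  have h0 : (x * v - 1) * (x * v - 1) = 0 := by
    have := Ideal.mul_mem_mul hm hm
    rwa [← pow_two, hJ, Ideal.mem_bot] at this
  exact IsUnit.of_mul_eq_one (v * (2 - x * v)) (by linear_combination (-1 : C') * h0)

/-- adic formal smoothness composes with a formally smooth base extension -/
theorem comp_base {F k A : Type u} [CommRing F] [CommRing k] [CommRing A] [Algebra F k] [Algebra F A] [Algebra k A]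
    [IsScalarTower F k A] [Algebra.FormallySmooth F k] (𝔫 : Ideal A) (h : CAlgX.IsAdicFormallySmooth k A 𝔫) :
    CAlgX.IsAdicFormallySmooth F A 𝔫 := by
  intro C' _ _ J hJ ψ hψ
  let l : k →ₐ[F] C' := Algebra.FormallySmooth.lift J ⟨2, hJ⟩ (ψ.comp (IsScalarTower.toAlgHom F k A))
  have hl : ∀ x, Ideal.Quotient.mk J (l x) = ψ (algebraMap k A x) :=
    Algebra.FormallySmooth.mk_lift J ⟨2, hJ⟩ (ψ.comp (IsScalarTower.toAlgHom F k A))
  letI : Algebra k C' := l.toRingHom.toAlgebra
  haveI : IsScalarTower F k C' := IsScalarTower.of_algebraMap_eq fun x => (l.commutes x).symm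
  let ψk : A →ₐ[k] C' ⧸ J := { ψ.toRingHom with commutes' := fun x => (hl x).symm }
  obtain ⟨χ, hχ⟩ := h C' J hJ ψk hψ
  exact ⟨χ.restrictScalars F, AlgHom.ext fun a => DFunLike.congr_fun hχ a⟩

/-- adic formal smoothness of the local rings of a base change -/
theorem baseChange_localization {k k' A : Type u} [CommRing k] [CommRing k'] [CommRing A] [Algebra k k'] [Algebra k A]
    (𝔫 : Ideal A) (h : CAlgX.IsAdicFormallySmooth k A 𝔫) (n : Ideal (k' ⊗[k] A)) [n.IsPrime]
    (hn : 𝔫 ≤ n.comap (Algebra.TensorProduct.includeRight (R := k) (A := k') (B := A)).toRingHom) :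
    CAlgX.IsAdicFormallySmooth k' (Localization.AtPrime n) (maximalIdeal (Localization.AtPrime n)) := by
  intro C' _ _ J hJ ψ ⟨N, hN⟩
  letI : Algebra k C' := ((algebraMap k' C').comp (algebraMap k k')).toAlgebra
  haveI : IsScalarTower k k' C' := IsScalarTower.of_algebraMap_eq' rfl
  let L := Localization.AtPrime n
  let ι : k' ⊗[k] A →ₐ[k'] L := IsScalarTower.toAlgHom k' (k' ⊗[k] A) L
  let ψA : A →ₐ[k] C' ⧸ J := ((ψ.comp ι).restrictScalars k).comp Algebra.TensorProduct.includeRight
  have hψA : ∃ m : ℕ, ∀ x ∈ 𝔫 ^ m, ψA x = 0 := by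
    refine ⟨N, fun x hx => hN _ ?_⟩
    rw [← Localization.AtPrime.map_eq_maximalIdeal, ← Ideal.map_pow]
    refine Ideal.mem_map_of_mem _ ?_
    exact (Ideal.map_pow _ 𝔫 N).trans_le (Ideal.pow_right_mono (Ideal.map_le_iff_le_comap.mpr hn) N)
      (Ideal.mem_map_of_mem _ hx)
  obtain ⟨χA, hχA⟩ := h C' J hJ ψA hψA
  let χ : k' ⊗[k] A →ₐ[k'] C' := Algebra.TensorProduct.lift (Algebra.ofId k' C') χA fun _ _ => Commute.all _ _
  have hχ : ∀ z, Ideal.Quotient.mk J (χ z) = ψ (ι z) := fun z => by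
    induction z using TensorProduct.induction_on with
    | zero => simp
    | add a b ha hb => simp only [map_add, ha, hb]
    | tmul x a =>
      show Ideal.Quotient.mk J (χ (x ⊗ₜ a)) = _
      rw [Algebra.TensorProduct.lift_tmul, map_mul, Algebra.ofId_apply,
        show Ideal.Quotient.mk J (χA a) = ψA a from DFunLike.congr_fun hχA a,
        show Ideal.Quotient.mk J (algebraMap k' C' x) = algebraMap k' (C' ⧸ J) x from rfl, ← Algebra.smul_def]
      show x • ψ (ι (1 ⊗ₜ a)) = ψ (ι (x ⊗ₜ a))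
      rw [← map_smul, ← map_smul, TensorProduct.smul_tmul', smul_eq_mul, mul_one]
  have hu : ∀ y : n.primeCompl, IsUnit (χ y) := fun y =>
    isUnit_of_mk hJ (by rw [hχ]; exact (IsLocalization.map_units L y).map ψ)
  let χL : L →ₐ[k'] C' :=
    { IsLocalization.lift (g := χ.toRingHom) hu with
      commutes' := fun x => by
        show IsLocalization.lift (g := χ.toRingHom) hu (algebraMap k' L x) = _
        rw [IsScalarTower.algebraMap_apply k' (k' ⊗[k] A) L, IsLocalization.lift_eq]
        exact χ.commutes x }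
  refine ⟨χL, ?_⟩
  refine AlgHom.coe_ringHom_injective (IsLocalization.ringHom_ext n.primeCompl (RingHom.ext fun z => ?_))
  show Ideal.Quotient.mk J (IsLocalization.lift (g := χ.toRingHom) hu (algebraMap (k' ⊗[k] A) L z)) = _
  rw [IsLocalization.lift_eq]
  exact hχ z

/-- algebras infinitesimally isomorphic to formally smooth ones are adically formally smooth -/
theorem of_approx {k A P : Type u} [CommRing k] [CommRing A] [CommRing P] [Algebra k A] [Algebra k P]
    [Algebra.FormallySmooth k P] (𝔫 : Ideal A) (I : Ideal P)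
    (h : ∀ N : ℕ, ∃ f : P →ₐ[k] A ⧸ 𝔫 ^ N, Function.Surjective f ∧ I.map f.toRingHom ≤ 𝔫.map (Ideal.Quotient.mk _) ∧
      RingHom.ker f.toRingHom ≤ I ^ N) : CAlgX.IsAdicFormallySmooth k A 𝔫 := by
  intro C' _ _ J hJ ψ ⟨N, hN⟩
  obtain ⟨f, hfs, hfI, hfk⟩ := h (2 * N)
  have hle : 𝔫 ^ (2 * N) ≤ RingHom.ker ψ.toRingHom := fun x hx =>
    hN x (Ideal.pow_le_pow_right (by omega) hx)
  let ψb : A ⧸ 𝔫 ^ (2 * N) →ₐ[k] C' ⧸ J := Ideal.Quotient.liftₐ _ ψ hle
  have hψb : ∀ a, ψb (Ideal.Quotient.mk _ a) = ψ a := fun a => rfl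
  let χ0 : P →ₐ[k] C' := Algebra.FormallySmooth.lift J ⟨2, hJ⟩ (ψb.comp f)
  have hχ0 : ∀ z, Ideal.Quotient.mk J (χ0 z) = ψb (f z) := Algebra.FormallySmooth.mk_lift J ⟨2, hJ⟩ (ψb.comp f)
  have hIN : ∀ z ∈ I ^ N, χ0 z ∈ J := fun z hz => by
    rw [← Ideal.Quotient.eq_zero_iff_mem, hχ0]
    have h1 : f z ∈ (𝔫 ^ N).map (Ideal.Quotient.mk (𝔫 ^ (2 * N))) := by
      have h2 := Ideal.mem_map_of_mem f.toRingHom hz
      rw [Ideal.map_pow] at h2
      rw [Ideal.map_pow]
      exact Ideal.pow_right_mono hfI N h2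
    obtain ⟨y, hy, hye⟩ := (Ideal.mem_map_iff_of_surjective _ Ideal.Quotient.mk_surjective).mp h1
    rw [← hye, hψb, hN y hy]
  have hker : ∀ z, f z = 0 → χ0 z = 0 := fun z hz => by
    have h1 : z ∈ I ^ N * I ^ N := by rw [← pow_add, ← two_mul]; exact hfk hz
    have h2 : ∀ z ∈ I ^ N * I ^ N, χ0 z = 0 := fun z hz => by
      refine Submodule.mul_induction_on hz (fun a ha b hb => ?_) fun a b ha hb => by rw [map_add, ha, hb, add_zero]
      have := Ideal.mul_mem_mul (hIN a ha) (hIN b hb)
      rw [← pow_two, hJ, Ideal.mem_bot] at this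
      rw [map_mul, this]
    exact h2 z h1
  let χ : A ⧸ 𝔫 ^ (2 * N) →ₐ[k] C' :=
    (Ideal.Quotient.liftₐ (RingHom.ker f.toRingHom) χ0 hker).comp
      (Ideal.quotientKerAlgEquivOfSurjective hfs).symm.toAlgHom
  refine ⟨χ.comp (Ideal.Quotient.mkₐ k _), AlgHom.ext fun a => ?_⟩
  obtain ⟨z, hz⟩ := hfs (Ideal.Quotient.mk _ a)
  show Ideal.Quotient.mk J (χ (Ideal.Quotient.mk _ a)) = ψ a
  rw [← hz, ← hψb, ← hz, ← hχ0]
  refine congrArg _ ?_
  show Ideal.Quotient.liftₐ _ χ0 hker ((Ideal.quotientKerAlgEquivOfSurjective hfs).symm (f z)) = χ0 z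
  rw [show (Ideal.quotientKerAlgEquivOfSurjective hfs).symm (f z) = Ideal.Quotient.mk _ z from
    (Ideal.quotientKerAlgEquivOfSurjective hfs).injective (by rw [AlgEquiv.apply_symm_apply]; rfl)]
  rfl

theorem prod_mem_pow {R : Type u} [CommRing R] {σ : Type} {J : Ideal R} (y : σ → R) (e : σ →₀ ℕ) (hy : ∀ i, y i ∈ J) :
    (e.prod fun i n => y i ^ n) ∈ J ^ e.degree := by
  classical
  rw [Finsupp.prod, Finsupp.degree_apply, ← Finset.prod_pow_eq_pow_sum]
  exact Ideal.prod_mem_prod fun i _ => Ideal.pow_mem_pow (hy i) _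

section Field

variable {k A : Type u} [CommRing k] [CommRing A] [IsLocalRing A] [Algebra k A]

/-- a `k`-linear section of the residue field modulo a power of the maximal ideal -/
theorem exists_section [Algebra.FormallySmooth k (ResidueField A)] (N : ℕ) :
    ∃ φ : ResidueField A →ₐ[k] A ⧸ maximalIdeal A ^ (N + 1),
      ∀ c, Ideal.Quotient.factor (Ideal.pow_le_self N.succ_ne_zero) (φ c) = c := by
  let pr : A ⧸ maximalIdeal A ^ (N + 1) →ₐ[k] ResidueField A :=
    Ideal.Quotient.factorₐ k (Ideal.pow_le_self N.succ_ne_zero)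
  have hs : Function.Surjective pr := Ideal.Quotient.factor_surjective (Ideal.pow_le_self N.succ_ne_zero)
  have hn : IsNilpotent (RingHom.ker (pr : A ⧸ maximalIdeal A ^ (N + 1) →+* ResidueField A)) := by
    refine ⟨N + 1, ?_⟩
    rw [show RingHom.ker (pr : A ⧸ maximalIdeal A ^ (N + 1) →+* ResidueField A) =
      (maximalIdeal A).map (Ideal.Quotient.mk (maximalIdeal A ^ (N + 1))) from
        Ideal.Quotient.factor_ker (Ideal.pow_le_self N.succ_ne_zero), ← Ideal.map_pow]
    exact Ideal.map_quotient_self _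
  exact ⟨Algebra.FormallySmooth.liftOfSurjective (AlgHom.id k _) pr hs hn,
    fun c => Algebra.FormallySmooth.liftOfSurjective_apply (AlgHom.id k _) pr hs hn c⟩

theorem mem_image {N : ℕ} (φ : ResidueField A →+* A ⧸ maximalIdeal A ^ (N + 1))
    (hφ : ∀ c, Ideal.Quotient.factor (Ideal.pow_le_self N.succ_ne_zero) (φ c) = c) (a : A) :
    Ideal.Quotient.mk _ a - φ (residue A a) ∈ (maximalIdeal A).map (Ideal.Quotient.mk (maximalIdeal A ^ (N + 1))) := by
  rw [← Ideal.Quotient.factor_ker (Ideal.pow_le_self N.succ_ne_zero : maximalIdeal A ^ (N + 1) ≤ maximalIdeal A),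
    RingHom.mem_ker, map_sub, hφ, Ideal.Quotient.factor_mk]
  exact sub_eq_zero.mpr rfl

theorem exists_next (h : CAlgX.IsAdicFormallySmooth k A (maximalIdeal A)) {B : Type u} [CommRing B] [Algebra k B]
    (n : Ideal B) (N : ℕ) (θ : A →ₐ[k] B ⧸ n ^ (N + 2))
    (hθ : ∀ a ∈ maximalIdeal A, θ a ∈ n.map (Ideal.Quotient.mk (n ^ (N + 2)))) :
    ∃ θ' : A →ₐ[k] B ⧸ n ^ (N + 3), (∀ a ∈ maximalIdeal A, θ' a ∈ n.map (Ideal.Quotient.mk (n ^ (N + 3)))) ∧
      ∀ a, Ideal.Quotient.factor (Ideal.pow_le_pow_right (by omega : N + 2 ≤ N + 3)) (θ' a) = θ a := by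
  have hle : n ^ (N + 3) ≤ n ^ (N + 2) := Ideal.pow_le_pow_right (by omega)
  let J := (n ^ (N + 2)).map (Ideal.Quotient.mk (n ^ (N + 3)))
  have hJ : J ^ 2 = ⊥ := by
    rw [← Ideal.map_pow, ← pow_mul, Ideal.map_eq_bot_iff_le_ker, Ideal.mk_ker]
    exact Ideal.pow_le_pow_right (by omega)
  let e : ((B ⧸ n ^ (N + 3)) ⧸ J) ≃ₐ[k] B ⧸ n ^ (N + 2) :=
    (Ideal.quotientEquivAlgOfEq k (show J = RingHom.ker (Ideal.Quotient.factorₐ k hle) from
      (Ideal.Quotient.factor_ker hle).symm)).trans
      (Ideal.quotientKerAlgEquivOfSurjective (f := Ideal.Quotient.factorₐ k hle) (Ideal.Quotient.factor_surjective hle))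
  have he : ∀ z, e (Ideal.Quotient.mk J z) = Ideal.Quotient.factor hle z := fun z => rfl
  obtain ⟨χ, hχ⟩ := h (B ⧸ n ^ (N + 3)) J hJ (e.symm.toAlgHom.comp θ) ⟨N + 2, fun a ha => by
    show e.symm (θ a) = 0
    have h1 : θ a ∈ (n.map (Ideal.Quotient.mk (n ^ (N + 2)))) ^ (N + 2) :=
      Ideal.pow_right_mono (Ideal.map_le_iff_le_comap.mpr hθ) _ ((Ideal.map_pow θ.toRingHom _ _).le (Ideal.mem_map_of_mem θ.toRingHom ha))
    rw [← Ideal.map_pow, Ideal.map_quotient_self, Ideal.mem_bot] at h1
    rw [h1, map_zero]⟩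
  have hfac : ∀ a, Ideal.Quotient.factor hle (χ a) = θ a := fun a => by
    have h1 : Ideal.Quotient.mk J (χ a) = e.symm (θ a) := DFunLike.congr_fun hχ a
    rw [← he, h1, AlgEquiv.apply_symm_apply]
  refine ⟨χ, fun a ha => ?_, hfac⟩
  have h1 := hθ a ha
  obtain ⟨z, hz⟩ := Ideal.Quotient.mk_surjective (χ a)
  rw [← hfac, ← hz, Ideal.Quotient.factor_mk] at h1
  rw [← hz]
  exact Ideal.mem_map_of_mem _ ((Ideal.mem_quotient_iff_mem (Ideal.pow_le_self (Nat.succ_ne_zero _))).mp h1)

variable [IsNoetherianRing A]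

set_option maxHeartbeats 400000 in
theorem exists_presentation {d : ℕ} (x : Fin d → A) (hd : d = (maximalIdeal A).spanFinrank)
    (hx : Ideal.span (Set.range x) = maximalIdeal A) {N : ℕ} (hN : N = 1) (φ : ResidueField A →ₐ[k] A ⧸ maximalIdeal A ^ (N + 1))
    (hφ : ∀ c, Ideal.Quotient.factor (Ideal.pow_le_self (Nat.succ_ne_zero N)) (φ c) = c) :
    ∃ f : MvPolynomial (Fin d) (ResidueField A) →ₐ[k] A ⧸ maximalIdeal A ^ (N + 1), Function.Surjective f ∧
      (∀ i, f (X i) = Ideal.Quotient.mk _ (x i)) ∧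
      (Ideal.span (Set.range X)).map f.toRingHom = (maximalIdeal A).map (Ideal.Quotient.mk (maximalIdeal A ^ (N + 1))) ∧
      ∀ F, f F = 0 → F ∈ (Ideal.span (Set.range X)) ^ 2 := by
  classical
  let K := ResidueField A
  let P := MvPolynomial (Fin d) K
  let f : P →ₐ[k] A ⧸ maximalIdeal A ^ (N + 1) :=
    { MvPolynomial.eval₂Hom φ.toRingHom (fun i => Ideal.Quotient.mk _ (x i)) with
      commutes' := fun c => by
        show MvPolynomial.eval₂Hom φ.toRingHom _ (algebraMap k P c) = _
        rw [IsScalarTower.algebraMap_apply k K P, MvPolynomial.algebraMap_eq, MvPolynomial.eval₂Hom_C]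
        exact φ.commutes c }
  have hfX : ∀ i, f (X i) = Ideal.Quotient.mk _ (x i) := fun i => MvPolynomial.eval₂Hom_X' _ _ i
  have hfC : ∀ c, f (C c) = φ c := fun c => MvPolynomial.eval₂Hom_C _ _ c
  let M1 := (maximalIdeal A).map (Ideal.Quotient.mk (maximalIdeal A ^ (N + 1)))
  have hM1 : M1 * M1 = ⊥ := by
    rw [← pow_two, ← Ideal.map_pow, show (2 : ℕ) = N + 1 by omega]; exact Ideal.map_quotient_self _
  let I : Ideal P := Ideal.span (Set.range X)
  have hI : I.map f.toRingHom = M1 := by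
    refine Eq.trans ?_ (congrArg (Ideal.map (Ideal.Quotient.mk (maximalIdeal A ^ (N + 1)))) hx)
    rw [Ideal.map_span, Ideal.map_span, ← Set.range_comp, ← Set.range_comp]
    exact congrArg Ideal.span (congrArg Set.range (funext hfX))
  have hM1' : ∀ u ∈ M1, ∀ v ∈ M1, u * v = 0 := fun u hu v hv => by
    have := Ideal.mul_mem_mul hu hv
    rwa [hM1, Ideal.mem_bot] at this
  have hxM : ∀ i, Ideal.Quotient.mk (maximalIdeal A ^ (N + 1)) (x i) ∈ M1 := fun i =>
    Ideal.mem_map_of_mem _ (hx.le (Ideal.subset_span ⟨i, rfl⟩))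
  have hlin : ∀ (a : Fin d → A), ∑ i, Ideal.Quotient.mk (maximalIdeal A ^ (N + 1)) (a i * x i) =
      f (∑ i, C (residue A (a i)) * X i) := fun a => by
    rw [map_sum]
    refine Finset.sum_congr rfl fun i _ => ?_
    rw [map_mul f, hfC, hfX, map_mul, ← sub_eq_zero, ← sub_mul]
    exact hM1' _ (mem_image φ.toRingHom hφ (a i)) _ (hxM i)
  have hsurj : Function.Surjective f := fun z => by
    obtain ⟨a, rfl⟩ := Ideal.Quotient.mk_surjective z
    obtain ⟨w, hw, hwe⟩ := (Ideal.mem_map_iff_of_surjective _ Ideal.Quotient.mk_surjective).mp (mem_image φ.toRingHom hφ a)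
    rw [← hx, Ideal.mem_span_range_iff_exists_fun] at hw
    obtain ⟨c, rfl⟩ := hw
    refine ⟨C (residue A a) + ∑ i, C (residue A (c i)) * X i, ?_⟩
    rw [map_add, ← hlin, hfC, ← map_sum, hwe]
    exact add_sub_cancel _ _
  have hli : LinearIndependent K (fun i => (maximalIdeal A).toCotangent ⟨x i, hx.le (Ideal.subset_span ⟨i, rfl⟩)⟩ : Fin d → CotangentSpace A) := by
    refine linearIndependent_of_top_le_span_of_card_le_finrank ?_ ?_
    · refine le_of_eq (Eq.symm ?_)
      rw [show (Set.range fun i => ((maximalIdeal A).toCotangent ⟨x i, hx.le (Ideal.subset_span ⟨i, rfl⟩)⟩ : CotangentSpace A)) =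
        (maximalIdeal A).toCotangent '' Set.range (fun i => (⟨x i, hx.le (Ideal.subset_span ⟨i, rfl⟩)⟩ : maximalIdeal A)) from
          (Set.range_comp' _ _)]
      refine IsLocalRing.CotangentSpace.span_image_eq_top_iff.mpr (Submodule.map_injective_of_injective (maximalIdeal A).injective_subtype ?_)
      rw [Submodule.map_span, Submodule.map_top, Submodule.range_subtype, ← Set.range_comp]
      exact hx
    · rw [Fintype.card_fin, hd]
      exact (IsLocalRing.spanFinrank_maximalIdeal_eq_finrank_cotangentSpace_of_fg (Ideal.fg_of_isNoetherianRing _)).le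
  have hker : ∀ F, f F = 0 → F ∈ I ^ 2 := by
    intro F hF
    obtain ⟨c0, c, hdec⟩ : ∃ (c0 : K) (c : Fin d → K), F - (C c0 + ∑ i, C (c i) * X i) ∈ I ^ 2 := by
      clear hF
      induction F using MvPolynomial.induction_on with
      | C a => exact ⟨a, fun _ => 0, by simp⟩
      | add p q hp hq =>
        obtain ⟨a, c, hp⟩ := hp
        obtain ⟨b, e, hq⟩ := hq
        refine ⟨a + b, c + e, ?_⟩
        convert add_mem hp hq using 1
        simp only [map_add, Pi.add_apply, add_mul, Finset.sum_add_distrib]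
        ring
      | mul_X p j hp =>
        obtain ⟨a, c, hp⟩ := hp
        refine ⟨0, Pi.single j a, ?_⟩
        have h1 : (∑ i, C (c i) * X i) * X j ∈ I ^ 2 := by
          rw [pow_two, Finset.sum_mul]
          exact sum_mem fun i _ => Ideal.mul_mem_mul (Ideal.mul_mem_left _ _ (Ideal.subset_span ⟨i, rfl⟩)) (Ideal.subset_span ⟨j, rfl⟩)
        convert add_mem (Ideal.mul_mem_right (X j) _ hp) h1 using 1
        rw [Finset.sum_eq_single j (fun i _ hne => by rw [Pi.single_eq_of_ne hne, map_zero, zero_mul])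
          (fun h => absurd (Finset.mem_univ j) h), Pi.single_eq_same, map_zero]
        ring
    have hI2 : ∀ G ∈ I ^ 2, f G = 0 := fun G hG => by
      have h1 : f G ∈ (I ^ 2).map f.toRingHom := Ideal.mem_map_of_mem _ hG
      rw [Ideal.map_pow, hI, pow_two, hM1, Ideal.mem_bot] at h1
      exact h1
    choose a ha using fun i => IsLocalRing.residue_surjective (c i)
    have h1 := hI2 _ hdec
    rw [map_sub, hF, zero_sub, neg_eq_zero, map_add, hfC,
      show (∑ i, C (c i) * X i : P) = ∑ i, C (residue A (a i)) * X i by simp only [ha], ← hlin, ← map_sum] at h1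
    have hc0 : c0 = 0 := by
      have h2 := congrArg (Ideal.Quotient.factor (Ideal.pow_le_self (Nat.succ_ne_zero N) : maximalIdeal A ^ (N + 1) ≤ maximalIdeal A)) h1
      rw [map_add, hφ, Ideal.Quotient.factor_mk, map_zero] at h2
      have h3 : residue A (∑ i, a i * x i) = 0 := (residue_eq_zero_iff _).mpr
        (sum_mem fun i _ => Ideal.mul_mem_left _ _ (hx.le (Ideal.subset_span ⟨i, rfl⟩)))
      change c0 + residue A (∑ i, a i * x i) = (0 : K) at h2
      rwa [h3, add_zero] at h2
    rw [hc0, map_zero, zero_add, Ideal.Quotient.eq_zero_iff_mem] at h1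
    have h4 : ∑ i, c i • ((maximalIdeal A).toCotangent ⟨x i, hx.le (Ideal.subset_span ⟨i, rfl⟩)⟩ : CotangentSpace A) = 0 := by
      calc _ = (maximalIdeal A).toCotangent (∑ i, a i • ⟨x i, hx.le (Ideal.subset_span ⟨i, rfl⟩)⟩) := by
            rw [map_sum]
            refine Finset.sum_congr rfl fun i _ => ?_
            rw [← ha i, map_smul]
            rfl
        _ = 0 := by
            rw [Ideal.toCotangent_eq_zero, Submodule.coe_sum, show (2 : ℕ) = N + 1 by omega]
            exact h1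
    have hc : ∀ i, c i = 0 := Fintype.linearIndependent_iff.mp hli c h4
    simpa [hc0, hc] using hdec
  exact ⟨f, hsurj, hfX, hI, hker⟩

theorem exists_first {d : ℕ} (x : Fin d → A) (hd : d = (maximalIdeal A).spanFinrank)
    (hx : Ideal.span (Set.range x) = maximalIdeal A) {N : ℕ} (hN : N = 1) (φ : ResidueField A →ₐ[k] A ⧸ maximalIdeal A ^ (N + 1))
    (hφ : ∀ c, Ideal.Quotient.factor (Ideal.pow_le_self (Nat.succ_ne_zero N)) (φ c) = c) :
    ∃ θ : A →ₐ[k] MvPowerSeries (Fin d) (ResidueField A) ⧸ maximalIdeal (MvPowerSeries (Fin d) (ResidueField A)) ^ 2,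
      (∀ a ∈ maximalIdeal A, θ a ∈ (maximalIdeal _).map (Ideal.Quotient.mk _)) ∧
      ∀ i, θ (x i) = Ideal.Quotient.mk _ (MvPowerSeries.X i) := by
  let K := ResidueField A
  let P := MvPolynomial (Fin d) K
  let B := MvPowerSeries (Fin d) K
  let n := maximalIdeal B
  let I : Ideal P := Ideal.span (Set.range X)
  obtain ⟨f, hsurj, hfX, hI, hker⟩ := exists_presentation x hd hx hN φ hφ
  let g : P →ₐ[k] B ⧸ n ^ 2 :=
    { (Ideal.Quotient.mk (n ^ 2)).comp MvPolynomial.coeToMvPowerSeries.ringHom with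
      commutes' := fun c => by
        show Ideal.Quotient.mk (n ^ 2) ((algebraMap k P c : P) : B) = _
        rw [IsScalarTower.algebraMap_apply k K P, MvPolynomial.algebraMap_eq, MvPolynomial.coe_C,
          IsScalarTower.algebraMap_apply k B (B ⧸ n ^ 2), IsScalarTower.algebraMap_apply k K B]
        rfl }
  have hgX : ∀ i, g (X i) = Ideal.Quotient.mk (n ^ 2) (MvPowerSeries.X i) := fun i => by
    show Ideal.Quotient.mk (n ^ 2) ((X i : P) : B) = _
    rw [MvPolynomial.coe_X]
  have hIn : I.map g.toRingHom ≤ n.map (Ideal.Quotient.mk (n ^ 2)) := by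
    rw [Ideal.map_span, Ideal.span_le]
    rintro _ ⟨_, ⟨i, rfl⟩, rfl⟩
    show g (X i) ∈ _
    rw [hgX]
    refine Ideal.mem_map_of_mem _ ?_
    show MvPowerSeries.X i ∈ maximalIdeal B
    rw [Groth.L01.PowSerReg.maximalIdeal_eq K d]
    exact Ideal.subset_span ⟨i, rfl⟩
  have hgk : ∀ F, f F = 0 → g F = 0 := fun F hF => by
    have h1 := Ideal.mem_map_of_mem g.toRingHom (hker F hF)
    rw [Ideal.map_pow] at h1
    have h2 := Ideal.pow_right_mono hIn 2 h1
    rwa [← Ideal.map_pow, Ideal.map_quotient_self, Ideal.mem_bot] at h2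
  let θ : A →ₐ[k] B ⧸ n ^ 2 := ((Ideal.Quotient.liftₐ (RingHom.ker f.toRingHom) g hgk).comp
    (Ideal.quotientKerAlgEquivOfSurjective hsurj).symm.toAlgHom).comp (Ideal.Quotient.mkₐ k _)
  have hθ : ∀ a F, f F = Ideal.Quotient.mk _ a → θ a = g F := fun a F h => by
    show Ideal.Quotient.liftₐ _ g hgk ((Ideal.quotientKerAlgEquivOfSurjective hsurj).symm (Ideal.Quotient.mk _ a)) = g F
    rw [← h, show (Ideal.quotientKerAlgEquivOfSurjective hsurj).symm (f F) = Ideal.Quotient.mk _ F from
      (Ideal.quotientKerAlgEquivOfSurjective hsurj).injective (by rw [AlgEquiv.apply_symm_apply]; rfl)]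
    rfl
  refine ⟨θ, fun a ha => ?_, fun i => (hθ _ _ (hfX i)).trans (hgX i)⟩
  have h1 : Ideal.Quotient.mk (maximalIdeal A ^ (N + 1)) a ∈ I.map f.toRingHom := hI ▸ Ideal.mem_map_of_mem _ ha
  obtain ⟨F, hFI, hFe⟩ := (Ideal.mem_map_iff_of_surjective f.toRingHom hsurj).mp h1
  rw [hθ a F hFe]
  exact hIn (Ideal.mem_map_of_mem g.toRingHom hFI)

omit [IsNoetherianRing A] in
theorem adicSmooth_of_regular [IsRegularLocalRing A] [Algebra.FormallySmooth k (ResidueField A)] :
    CAlgX.IsAdicFormallySmooth k A (maximalIdeal A) := by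
  obtain ⟨d, x, -, hx, hq⟩ := Groth.L07.Order.exists_regular_parameters A
  let P := MvPolynomial (Fin d) (ResidueField A)
  haveI : Algebra.FormallySmooth k P := Algebra.FormallySmooth.comp k (ResidueField A) P
  let I : Ideal P := Ideal.span (Set.range X)
  refine of_approx (P := P) (maximalIdeal A) I fun N => ?_
  rcases N with _ | N
  · haveI : Subsingleton (A ⧸ maximalIdeal A ^ 0) := Ideal.Quotient.subsingleton_iff.mpr (by rw [pow_zero, Ideal.one_eq_top])
    refine ⟨{ toFun := fun _ => 0, map_one' := Subsingleton.elim _ _, map_mul' := fun _ _ => Subsingleton.elim _ _,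
              map_zero' := rfl, map_add' := fun _ _ => Subsingleton.elim _ _, commutes' := fun _ => Subsingleton.elim _ _ },
      fun y => ⟨0, Subsingleton.elim _ _⟩, fun y _ => ?_, le_top.trans (by simp)⟩
    rw [Subsingleton.elim y 0]
    exact zero_mem _
  obtain ⟨φ, hφ⟩ := exists_section (k := k) (A := A) N
  let f : P →ₐ[k] A ⧸ maximalIdeal A ^ (N + 1) :=
    { MvPolynomial.eval₂Hom φ.toRingHom (fun i => Ideal.Quotient.mk _ (x i)) with
      commutes' := fun c => by
        show MvPolynomial.eval₂Hom φ.toRingHom _ (algebraMap k P c) = _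
        rw [IsScalarTower.algebraMap_apply k (ResidueField A) P, MvPolynomial.algebraMap_eq, MvPolynomial.eval₂Hom_C]
        exact φ.commutes c }
  have hfX : ∀ i, f (X i) = Ideal.Quotient.mk _ (x i) := fun i => MvPolynomial.eval₂Hom_X' _ _ i
  have hfC : ∀ c, f (C c) = φ c := fun c => MvPolynomial.eval₂Hom_C _ _ c
  have hI : I.map f.toRingHom = (maximalIdeal A).map (Ideal.Quotient.mk (maximalIdeal A ^ (N + 1))) := by
    refine Eq.trans ?_ (congrArg (Ideal.map (Ideal.Quotient.mk (maximalIdeal A ^ (N + 1)))) hx)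
    rw [Ideal.map_span, Ideal.map_span, ← Set.range_comp, ← Set.range_comp]
    exact congrArg Ideal.span (congrArg Set.range (funext hfX))
  have hstep : ∀ n, ∀ y ∈ maximalIdeal A ^ n, ∃ F : P, f F - Ideal.Quotient.mk _ y ∈
      (maximalIdeal A ^ (n + 1)).map (Ideal.Quotient.mk (maximalIdeal A ^ (N + 1))) := by
    intro n y hy
    have hy' : Ideal.Quotient.mk (maximalIdeal A ^ (N + 1)) y ∈ (I ^ n).map f.toRingHom := by
      rw [Ideal.map_pow, hI, ← Ideal.map_pow]
      exact Ideal.mem_map_of_mem _ hy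
    have key : ∀ z ∈ (I ^ n).map f.toRingHom, ∃ F : P, f F - z ∈
        (maximalIdeal A ^ (n + 1)).map (Ideal.Quotient.mk (maximalIdeal A ^ (N + 1))) := by
      intro z hz
      induction hz using Submodule.span_induction with
      | mem z hz => obtain ⟨F, -, rfl⟩ := hz; exact ⟨F, by simp⟩
      | zero => exact ⟨0, by simp⟩
      | add a b _ _ ha hb =>
        obtain ⟨F, hF⟩ := ha
        obtain ⟨G, hG⟩ := hb
        exact ⟨F + G, by convert add_mem hF hG using 1; rw [map_add]; ring⟩
      | smul r a ha' ha =>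
        obtain ⟨F, hF⟩ := ha
        obtain ⟨r, rfl⟩ := Ideal.Quotient.mk_surjective r
        refine ⟨C (residue A r) * F, ?_⟩
        have h1 := Ideal.mul_mem_left _ (φ (residue A r)) hF
        have hIn : a ∈ (maximalIdeal A ^ n).map (Ideal.Quotient.mk (maximalIdeal A ^ (N + 1))) := by
          rw [Ideal.map_pow, ← hI, ← Ideal.map_pow]; exact ha'
        have h2 : (Ideal.Quotient.mk (maximalIdeal A ^ (N + 1)) r - φ (residue A r)) * a ∈
            (maximalIdeal A ^ (n + 1)).map (Ideal.Quotient.mk (maximalIdeal A ^ (N + 1))) := by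
          rw [pow_succ' (maximalIdeal A) n, Ideal.map_mul]
          exact Ideal.mul_mem_mul (mem_image φ.toRingHom hφ r) hIn
        convert sub_mem h1 h2 using 1
        rw [map_mul, hfC, smul_eq_mul]
        ring
    exact key _ hy'
  refine ⟨f, ?_, hI.le, ?_⟩
  · intro z
    obtain ⟨a, rfl⟩ := Ideal.Quotient.mk_surjective z
    have : ∀ j, ∃ F, f F - Ideal.Quotient.mk _ a ∈ (maximalIdeal A ^ j).map (Ideal.Quotient.mk (maximalIdeal A ^ (N + 1))) := by
      intro j
      induction j with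
      | zero => exact ⟨0, by rw [pow_zero, Ideal.one_eq_top, Ideal.map_top]; trivial⟩
      | succ j ih =>
        obtain ⟨F, hF⟩ := ih
        obtain ⟨y, hy, hye⟩ := (Ideal.mem_map_iff_of_surjective _ Ideal.Quotient.mk_surjective).mp hF
        obtain ⟨G, hG⟩ := hstep j y hy
        refine ⟨F - G, ?_⟩
        convert neg_mem hG using 1
        rw [hye, map_sub]
        ring
    obtain ⟨F, hF⟩ := this (N + 1)
    rw [Ideal.map_quotient_self, Ideal.mem_bot, sub_eq_zero] at hF
    exact ⟨F, hF⟩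
  · intro F hF
    replace hF : f F = 0 := hF
    have hmem : ∀ n, n ≤ N + 1 → F ∈ I ^ n := by
      intro n
      induction n with
      | zero => intro _; simp
      | succ n ih =>
        intro hn
        have hFn := ih (by omega)
        classical
        have hlow : ∀ e : Fin d →₀ ℕ, e.degree < n → F.coeff e = 0 := fun e he =>
          (MvPolynomial.mem_pow_idealOfVars_iff' n F).mp hFn e he
        choose a ha using fun c : ResidueField A => IsLocalRing.residue_surjective c
        let Fn := MvPolynomial.homogeneousComponent n F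
        let Pn : MvPolynomial (Fin d) A := ∑ e ∈ Fn.support, MvPolynomial.monomial e (a (Fn.coeff e))
        have hPn : Pn.IsHomogeneous n := MvPolynomial.IsHomogeneous.sum _ _ _ fun e he =>
          MvPolynomial.isHomogeneous_monomial _ (by
            have := MvPolynomial.mem_support_iff.mp he
            rw [MvPolynomial.coeff_homogeneousComponent] at this
            exact (ite_ne_right_iff.mp this).1)
        have hdiff : F - Fn ∈ I ^ (n + 1) := by
          refine (MvPolynomial.mem_pow_idealOfVars_iff' (n + 1) _).mpr fun e he => ?_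
          rw [MvPolynomial.coeff_sub, MvPolynomial.coeff_homogeneousComponent]
          split_ifs with h
          · rw [sub_self]
          · rw [hlow e (by omega), sub_zero]
        have hfn : f Fn ∈ (maximalIdeal A ^ (n + 1)).map (Ideal.Quotient.mk (maximalIdeal A ^ (N + 1))) := by
          have : f Fn = - f (F - Fn) := by rw [map_sub, hF, zero_sub, neg_neg]
          rw [this, Ideal.map_pow, ← hI, ← Ideal.map_pow]
          exact neg_mem (Ideal.mem_map_of_mem _ hdiff)
        have hPF : f Fn - Ideal.Quotient.mk _ (MvPolynomial.eval x Pn) ∈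
            (maximalIdeal A ^ (n + 1)).map (Ideal.Quotient.mk (maximalIdeal A ^ (N + 1))) := by
          conv in f Fn => rw [MvPolynomial.as_sum Fn]
          rw [map_sum, map_sum, map_sum, ← Finset.sum_sub_distrib]
          refine sum_mem fun e he => ?_
          have hem : e.degree = n := by
            have := MvPolynomial.mem_support_iff.mp he
            rw [MvPolynomial.coeff_homogeneousComponent] at this
            exact (ite_ne_right_iff.mp this).1
          rw [MvPolynomial.eval_monomial, map_mul]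
          show MvPolynomial.eval₂Hom φ.toRingHom _ (MvPolynomial.monomial e (Fn.coeff e)) - _ ∈ _
          rw [MvPolynomial.eval₂Hom_monomial]
          simp only [map_finsuppProd, map_pow]
          rw [← sub_mul, pow_succ' (maximalIdeal A) n, Ideal.map_mul]
          refine Ideal.mul_mem_mul ?_ ?_
          · have := mem_image φ.toRingHom hφ (a (Fn.coeff e))
            rw [ha] at this
            exact (Ideal.neg_mem_iff _).mp (by simpa using this)
          · rw [Ideal.map_pow]
            refine hem ▸ prod_mem_pow _ e ?_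
            intro i
            exact Ideal.mem_map_of_mem _ (hx.le (Ideal.subset_span ⟨i, rfl⟩))
        have hev : MvPolynomial.eval x Pn ∈ maximalIdeal A ^ (n + 1) := by
          have h1 := sub_mem hfn hPF
          rw [sub_sub_cancel] at h1
          exact (Ideal.mem_quotient_iff_mem (Ideal.pow_le_pow_right hn)).mp h1
        have hco := hq n Pn hPn (by rw [hx]; exact hev)
        have hFn0 : Fn = 0 := by
          ext e
          rw [MvPolynomial.coeff_zero]
          by_cases he : e ∈ Fn.support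
          · have h2 := hco e
            rw [MvPolynomial.coeff_sum, Finset.sum_eq_single_of_mem e he (fun e' _ hne => by
              rw [MvPolynomial.coeff_monomial, if_neg hne]), MvPolynomial.coeff_monomial, if_pos rfl, hx,
              ← residue_eq_zero_iff, ha] at h2
            exact h2
          · exact MvPolynomial.notMem_support_iff.mp he
        rwa [hFn0, sub_zero] at hdiff
    exact hmem (N + 1) le_rfl

theorem regular_of_adicSmooth [Algebra.FormallySmooth k (ResidueField A)]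
    (h : CAlgX.IsAdicFormallySmooth k A (maximalIdeal A)) : IsRegularLocalRing A := by
  classical
  obtain ⟨s, hscard, hs⟩ : ∃ (d : ℕ) (x : Fin d → A), (d = (maximalIdeal A).spanFinrank) ∧ Ideal.span (Set.range x) = maximalIdeal A := by
    have hfg : (maximalIdeal A).FG := Ideal.fg_of_isNoetherianRing _
    haveI : Fintype (maximalIdeal A).generators := (Submodule.FG.finite_generators hfg).fintype
    have hcard : Fintype.card (maximalIdeal A).generators = (maximalIdeal A).spanFinrank := by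
      rw [← Submodule.FG.generators_ncard hfg, Set.ncard_eq_toFinset_card', Set.toFinset_card]
    let e := Fintype.equivFinOfCardEq hcard
    refine ⟨_, fun i => (e.symm i : A), rfl, ?_⟩
    rw [show (Set.range fun i => (e.symm i : A)) = (maximalIdeal A).generators by
      ext a
      exact ⟨fun ⟨i, hi⟩ => hi ▸ (e.symm i).2, fun ha => ⟨e ⟨a, ha⟩, by simp⟩⟩]
    exact Submodule.span_generators _
  obtain ⟨hd, hx⟩ := hs
  let d := s
  let x : Fin d → A := hscard
  obtain ⟨φ, hφ⟩ := exists_section (k := k) (A := A) 1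
  let B := MvPowerSeries (Fin d) (ResidueField A)
  let n := maximalIdeal B
  have hnX : n = Ideal.span (Set.range MvPowerSeries.X) := Groth.L01.PowSerReg.maximalIdeal_eq (ResidueField A) d
  haveI : IsAdicComplete n B := by rw [hnX]; infer_instance
  -- a map to `B / n²` hitting the variables
  obtain ⟨θ₁, hθ₁m, hθ₁x⟩ : ∃ θ : A →ₐ[k] B ⧸ n ^ 2, (∀ a ∈ maximalIdeal A, θ a ∈ n.map (Ideal.Quotient.mk (n ^ 2))) ∧
      ∀ i, θ (x i) = Ideal.Quotient.mk (n ^ 2) (MvPowerSeries.X i) := exists_first x hd hx rfl φ hφ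
  have step : ∀ (N : ℕ) (θ : A →ₐ[k] B ⧸ n ^ (N + 2)), (∀ a ∈ maximalIdeal A, θ a ∈ n.map (Ideal.Quotient.mk (n ^ (N + 2)))) →
      ∃ θ' : A →ₐ[k] B ⧸ n ^ (N + 3), (∀ a ∈ maximalIdeal A, θ' a ∈ n.map (Ideal.Quotient.mk (n ^ (N + 3)))) ∧
        ∀ a, Ideal.Quotient.factor (Ideal.pow_le_pow_right (by omega : N + 2 ≤ N + 3)) (θ' a) = θ a :=
    fun N θ hθ => exists_next h n N θ hθ
  let Θ : ∀ N, {θ : A →ₐ[k] B ⧸ n ^ (N + 2) // ∀ a ∈ maximalIdeal A, θ a ∈ n.map (Ideal.Quotient.mk (n ^ (N + 2)))} :=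
    fun N => Nat.rec (motive := fun N => {θ : A →ₐ[k] B ⧸ n ^ (N + 2) // ∀ a ∈ maximalIdeal A, θ a ∈ n.map (Ideal.Quotient.mk (n ^ (N + 2)))})
      ⟨θ₁, hθ₁m⟩ (fun N θ => ⟨(step N θ.1 θ.2).choose, (step N θ.1 θ.2).choose_spec.1⟩) N
  have ha : StrictMono fun N : ℕ => N + 2 := strictMono_nat_of_lt_succ fun N => by omega
  have hc : ∀ {m : ℕ}, (Ideal.Quotient.factorPow n (ha.monotone m.le_succ)).comp (Θ (m + 1)).1.toRingHom = (Θ m).1.toRingHom :=
    fun {m} => RingHom.ext fun a => (step m (Θ m).1 (Θ m).2).choose_spec.2 a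
  let g : A →+* B := IsAdicComplete.StrictMono.liftRingHom n ha (fun N => (Θ N).1.toRingHom) hc
  have hg : ∀ a, Ideal.Quotient.mk (n ^ 2) (g a) = θ₁ a := fun a =>
    IsAdicComplete.StrictMono.mk_liftRingHom n ha (fun N => (Θ N).1.toRingHom) hc (n := 0) a
  have hgm : ∀ a ∈ maximalIdeal A, g a ∈ n := fun a ha' => by
    have h1 := hθ₁m a ha'
    rw [← hg] at h1
    exact (Ideal.mem_quotient_iff_mem (Ideal.pow_le_self two_ne_zero)).mp h1
  letI : Algebra A B := g.toAlgebra
  have hmn : (maximalIdeal A).map (algebraMap A B) = n := by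
    refine le_antisymm (Ideal.map_le_iff_le_comap.mpr hgm) (Groth.L01.maximalIdeal_le_of_le_sup_sq ?_)
    rw [show maximalIdeal B = Ideal.span (Set.range MvPowerSeries.X) from hnX, Ideal.span_le]
    rintro _ ⟨i, rfl⟩
    have h1 : MvPowerSeries.X i - g (x i) ∈ n ^ 2 := Ideal.Quotient.eq.mp (((hg (x i)).trans (hθ₁x i)).symm)
    rw [show (MvPowerSeries.X i : B) = g (x i) + (MvPowerSeries.X i - g (x i)) by ring]
    exact Submodule.add_mem_sup (Ideal.mem_map_of_mem _ (hx.le (Ideal.subset_span ⟨i, rfl⟩))) (hnX ▸ h1)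
  haveI : n.LiesOver (maximalIdeal A) := ⟨(maximalIdeal.isMaximal A).eq_of_le
    (Ideal.IsPrime.ne_top (Ideal.IsPrime.comap _)) hgm⟩
  have hh := Ideal.height_le_height_add_of_liesOver (maximalIdeal A) n
  rw [hmn, Ideal.map_quotient_self] at hh
  have h0 : (⊥ : Ideal (B ⧸ n)).height = 0 := by
    rw [Ideal.height_bot]
  rw [h0, add_zero] at hh
  refine IsRegularLocalRing.of_spanFinrank_maximalIdeal_le A ?_
  have h1 : ((d : ℕ) : WithBot ℕ∞) = ringKrullDim B := (Groth.L01.PowSerReg.ringKrullDim_eq (ResidueField A) d).symm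
  rw [← hd, show ringKrullDim A = (maximalIdeal A).height from IsLocalRing.maximalIdeal_height_eq_ringKrullDim.symm]
  calc ((d : ℕ) : WithBot ℕ∞) = (n.height : WithBot ℕ∞) := by rw [h1, IsLocalRing.maximalIdeal_height_eq_ringKrullDim]
    _ ≤ _ := WithBot.coe_le_coe.mpr hh

end Field

end Groth.L06.FormSmooth
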