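import Groth.Agent.L06.FormSmoothAdic
import Mathlib.RingTheory.LocalRing.ResidueField.Basic
import Mathlib.RingTheory.Artinian.Module
import Mathlib.RingTheory.Noetherian.Basic
import Mathlib.LinearAlgebra.Basis.VectorSpace
import Mathlib.Algebra.Algebra.Pi
import Mathlib.RingTheory.Nilpotent.Lemmas
import Mathlib.RingTheory.Ideal.KrullsHeightTheorem

/-! Formal smoothness tested on Artinian local rings with the same residue field (EGA 0_IV 22.1.4). -/

set_option autoImplicit false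
set_option maxSynthPendingDepth 3
set_option linter.style.haveILetI false
noncomputable section
universe u

namespace Groth.L06.FormSmoothArtin

open IsLocalRing

theorem artin_quot_pow (B : Type u) [CommRing B] [IsLocalRing B] [IsNoetherianRing B] (N : ℕ) :
    IsArtinianRing (B ⧸ maximalIdeal B ^ (N + 1)) :=
  IsLocalRing.quotient_artinian_of_mem_minimalPrimes_of_isLocalRing _
    ⟨⟨inferInstance, Ideal.pow_le_self N.succ_ne_zero⟩, fun _ hq _ => hq.1.le_of_pow_le hq.2⟩

/-- lifting from Artinian local rings to extensions of `B/m^(N+1)` by any vector space -/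
theorem step {A B : Type u} [CommRing A] [IsLocalRing A] [CommRing B] [IsLocalRing B] [IsNoetherianRing B]
    [Algebra A B] [IsLocalHom (algebraMap A B)]
    (hlift : ∀ (E : Type u) [CommRing E] [IsLocalRing E] [IsArtinianRing E] [Algebra A E]
      (N : ℕ) (π : E →ₐ[A] B ⧸ maximalIdeal B ^ (N + 1)), Function.Surjective π → RingHom.ker π.toRingHom ^ 2 = ⊥ →
        ∃ v : B →ₐ[A] E, ∀ b, π (v b) = Ideal.Quotient.mk _ b)
    {C : Type u} [CommRing C] [Algebra A C] (J : Ideal C) (hJ : J ^ 2 = ⊥) (u : B →ₐ[A] C ⧸ J)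
    (hM : ∀ x ∈ maximalIdeal B, ∀ c : C, Ideal.Quotient.mk J c = u x → ∀ j ∈ J, c * j = 0)
    {N : ℕ} (hN : ∀ x ∈ maximalIdeal B ^ (N + 1), u x = 0) :
    ∃ v : B →ₐ[A] C, (Ideal.Quotient.mkₐ A J).comp v = u := by
  classical
  let M := maximalIdeal B ^ (N + 1)
  have hJJ : ∀ i ∈ J, ∀ j ∈ J, i * j = 0 := fun i hi j hj =>
    (Submodule.mem_bot C).mp (hJ ▸ (pow_two J).symm ▸ Ideal.mul_mem_mul hi hj)
  let ū : B ⧸ M →ₐ[A] C ⧸ J := Ideal.Quotient.liftₐ M u hN
  let P : Subalgebra A ((B ⧸ M) × C) :=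
    AlgHom.equalizer (ū.comp (AlgHom.fst A (B ⧸ M) C)) ((Ideal.Quotient.mkₐ A J).comp (AlgHom.snd A (B ⧸ M) C))
  have hP : ∀ p : P, Ideal.Quotient.mk J (p : (B ⧸ M) × C).2 = ū (p : (B ⧸ M) × C).1 := fun p => (p.2).symm
  let fstP : P →ₐ[A] B ⧸ M := (AlgHom.fst A (B ⧸ M) C).comp P.val
  have hfst : Function.Surjective fstP := fun y => by
    obtain ⟨c, hc⟩ := Ideal.Quotient.mk_surjective (ū y)
    exact ⟨⟨(y, c), hc.symm⟩, rfl⟩
  have hker2 : ∀ p q : P, fstP p = 0 → fstP q = 0 → p * q = 0 := fun p q hp hq => by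
    refine Subtype.ext (Prod.ext ?_ (hJJ _ ?_ _ ?_))
    · show fstP p * fstP q = 0
      rw [hp, zero_mul]
    · rw [← Ideal.Quotient.eq_zero_iff_mem, hP, show (p : (B ⧸ M) × C).1 = 0 from hp, map_zero]
    · rw [← Ideal.Quotient.eq_zero_iff_mem, hP, show (q : (B ⧸ M) × C).1 = 0 from hq, map_zero]
  -- `J` as a vector space over the residue field
  let ρ₀ : C ⧸ J →+* Module.End C J := Ideal.Quotient.lift J (algebraMap C (Module.End C J)) fun i hi =>
    LinearMap.ext fun j => Subtype.ext (hJJ i hi j j.2)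
  let ρ : B ⧸ maximalIdeal B →+* Module.End C J := Ideal.Quotient.lift _ (ρ₀.comp u.toRingHom) fun x hx => by
    obtain ⟨c, hc⟩ := Ideal.Quotient.mk_surjective (u x)
    show ρ₀ (u x) = 0
    rw [← hc]
    exact LinearMap.ext fun j => Subtype.ext (hM x hx c hc j j.2)
  letI : Field (B ⧸ maximalIdeal B) := Ideal.Quotient.field _
  letI : Module (B ⧸ maximalIdeal B) J := Module.compHom J ρ
  have hsmul : ∀ (b : B) (c : C) (j : J), Ideal.Quotient.mk J c = u b →
      ((Ideal.Quotient.mk (maximalIdeal B) b • j : J) : C) = c * j := fun b c j hc => by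
    show ((ρ₀ (u b) j : J) : C) = c * j
    rw [← hc]
    rfl
  let bas := Module.Basis.ofVectorSpace (B ⧸ maximalIdeal B) J
  let ι := Module.Basis.ofVectorSpaceIndex (B ⧸ maximalIdeal B) J
  let Λ : J →ₗ[B ⧸ maximalIdeal B] (ι → B ⧸ maximalIdeal B) := LinearMap.pi fun i => bas.coord i
  obtain ⟨r, hr⟩ := LinearMap.exists_leftInverse_of_injective Λ (LinearMap.ker_eq_bot.mpr fun x y hxy =>
    bas.ext_elem fun i => congrFun hxy i)
  -- the quotients with one-dimensional kernel
  let T : ι → Ideal P := fun i =>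
    { carrier := {p | fstP p = 0 ∧ ∀ j : J, (j : C) = (p : (B ⧸ M) × C).2 → bas.coord i j = 0}
      zero_mem' := ⟨map_zero _, fun j hj => by rw [show j = 0 from Subtype.ext hj, map_zero]⟩
      add_mem' := by
        rintro p q ⟨hp, hp'⟩ ⟨hq, hq'⟩
        refine ⟨by rw [map_add, hp, hq, add_zero], fun j hj => ?_⟩
        have hpJ : (p : (B ⧸ M) × C).2 ∈ J := by
          rw [← Ideal.Quotient.eq_zero_iff_mem, hP, show (p : (B ⧸ M) × C).1 = 0 from hp, map_zero]
        have hqJ : (q : (B ⧸ M) × C).2 ∈ J := by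
          rw [← Ideal.Quotient.eq_zero_iff_mem, hP, show (q : (B ⧸ M) × C).1 = 0 from hq, map_zero]
        rw [show j = ⟨_, hpJ⟩ + ⟨_, hqJ⟩ from Subtype.ext hj, map_add, hp' _ rfl, hq' _ rfl, add_zero]
      smul_mem' := by
        rintro c p ⟨hp, hp'⟩
        refine ⟨by rw [smul_eq_mul, map_mul, hp, mul_zero], fun j hj => ?_⟩
        have hpJ : (p : (B ⧸ M) × C).2 ∈ J := by
          rw [← Ideal.Quotient.eq_zero_iff_mem, hP, show (p : (B ⧸ M) × C).1 = 0 from hp, map_zero]
        obtain ⟨b, hb⟩ := Ideal.Quotient.mk_surjective (c : (B ⧸ M) × C).1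
        have h1 : j = Ideal.Quotient.mk (maximalIdeal B) b • (⟨_, hpJ⟩ : J) :=
          Subtype.ext (hj.trans (hsmul b (c : (B ⧸ M) × C).2 ⟨_, hpJ⟩ (by rw [hP, ← hb]; rfl)).symm)
        rw [h1, map_smul, hp' _ rfl, smul_zero] }
  let π : ∀ i, (P ⧸ T i) →ₐ[A] B ⧸ M := fun i => Ideal.Quotient.liftₐ (T i) fstP fun p hp => hp.1
  have hπ : ∀ i p, π i (Ideal.Quotient.mk (T i) p) = fstP p := fun i p => rfl
  have hπs : ∀ i, Function.Surjective (π i) := fun i y => by
    obtain ⟨p, rfl⟩ := hfst y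
    exact ⟨_, hπ i p⟩
  haveI : Nontrivial (B ⧸ M) := Ideal.Quotient.nontrivial_iff.mpr fun hM' =>
    (maximalIdeal.isMaximal B).ne_top (top_le_iff.mp (hM' ▸ Ideal.pow_le_self N.succ_ne_zero))
  haveI : IsLocalRing (B ⧸ M) := IsLocalRing.of_surjective' (Ideal.Quotient.mk M) Ideal.Quotient.mk_surjective
  haveI := artin_quot_pow B N
  have hπK : ∀ i, RingHom.ker (π i).toRingHom ^ 2 = ⊥ := fun i => le_bot_iff.mp (by
    rw [pow_two, Ideal.mul_le]
    intro z hz z' hz'
    obtain ⟨p, rfl⟩ := Ideal.Quotient.mk_surjective z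
    obtain ⟨q, rfl⟩ := Ideal.Quotient.mk_surjective z'
    rw [Submodule.mem_bot, ← map_mul, hker2 p q hz hz', map_zero])
  have hart : ∀ i, IsArtinianRing (P ⧸ T i) ∧ IsLocalRing (P ⧸ T i) := fun i => by
    haveI : Nontrivial (P ⧸ T i) := (π i).toRingHom.domain_nontrivial
    haveI hloc : IsLocalRing (P ⧸ T i) := by
      refine IsLocalRing.of_nonunits_add fun x y hx hy hxy => ?_
      have hu : ∀ z, IsUnit (π i z) → IsUnit z := fun z hz => by
        obtain ⟨t, ht⟩ := hπs i (hz.unit⁻¹ : (B ⧸ M)ˣ)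
        have hk : z * t - 1 ∈ RingHom.ker (π i).toRingHom := by
          show π i (z * t - 1) = 0
          rw [map_sub, map_mul, ht, map_one, hz.mul_val_inv, sub_self]
        have hn : IsNilpotent (z * t - 1) := ⟨2, (Submodule.mem_bot _).mp (hπK i ▸ Ideal.pow_mem_pow hk 2)⟩
        have := hn.isUnit_add_one
        rw [sub_add_cancel] at this
        exact isUnit_of_mul_isUnit_left this
      rcases IsLocalRing.isUnit_or_isUnit_of_isUnit_add (map_add (π i) x y ▸ hxy.map (π i)) with h' | h'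
      exacts [hx (hu x h'), hy (hu y h')]
    refine ⟨?_, hloc⟩
    let K := RingHom.ker (π i).toRingHom
    haveI : IsArtinian (P ⧸ T i) ((P ⧸ T i) ⧸ K) := by
      haveI : IsArtinianRing ((P ⧸ T i) ⧸ K) :=
        RingEquiv.isArtinianRing (RingHom.quotientKerEquivOfSurjective (f := (π i).toRingHom) (hπs i)).symm
      exact isArtinian_of_surjective_algebraMap (R := (P ⧸ T i) ⧸ K) Ideal.Quotient.mk_surjective
    haveI : IsArtinian (P ⧸ T i) K := by
      -- the kernel has at most two submodules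
      have hsimple : ∀ S : Submodule (P ⧸ T i) K, S = ⊥ ∨ S = ⊤ := fun S => by
        by_cases hS : S = ⊥
        · exact Or.inl hS
        right
        obtain ⟨z, hzS, hz⟩ := Submodule.exists_mem_ne_zero_of_ne_bot hS
        obtain ⟨p, hp⟩ := Ideal.Quotient.mk_surjective (z : P ⧸ T i)
        have hp0 : fstP p = 0 := by rw [← hπ i, hp]; exact z.2
        have hpJ : (p : (B ⧸ M) × C).2 ∈ J := by
          rw [← Ideal.Quotient.eq_zero_iff_mem, hP, show (p : (B ⧸ M) × C).1 = 0 from hp0, map_zero]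
        have hne : bas.coord i ⟨_, hpJ⟩ ≠ 0 := fun h0 => hz (Subtype.ext (by
          rw [← hp]
          exact Ideal.Quotient.eq_zero_iff_mem.mpr ⟨hp0, fun j hj => by rw [show j = ⟨_, hpJ⟩ from Subtype.ext hj, h0]⟩))
        rw [eq_top_iff]
        rintro w -
        obtain ⟨q, hq⟩ := Ideal.Quotient.mk_surjective (w : P ⧸ T i)
        have hq0 : fstP q = 0 := by rw [← hπ i, hq]; exact w.2
        have hqJ : (q : (B ⧸ M) × C).2 ∈ J := by
          rw [← Ideal.Quotient.eq_zero_iff_mem, hP, show (q : (B ⧸ M) × C).1 = 0 from hq0, map_zero]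
        obtain ⟨b, hb⟩ := Ideal.Quotient.mk_surjective (bas.coord i ⟨_, hqJ⟩ / bas.coord i ⟨_, hpJ⟩)
        obtain ⟨c, hc⟩ := Ideal.Quotient.mk_surjective (u b)
        let e : P := ⟨(Ideal.Quotient.mk M b, c), hc.symm⟩
        have : w = Ideal.Quotient.mk (T i) e • z := Subtype.ext (by
          show (w : P ⧸ T i) = Ideal.Quotient.mk (T i) e * z
          rw [← hp, ← hq, ← map_mul, Ideal.Quotient.eq]
          refine ⟨by rw [map_sub, map_mul, hp0, hq0, mul_zero, sub_zero], fun j hj => ?_⟩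
          have h1 : j = ⟨_, hqJ⟩ - Ideal.Quotient.mk (maximalIdeal B) b • (⟨_, hpJ⟩ : J) := Subtype.ext (by
            rw [hj, Submodule.coe_sub, hsmul b c _ hc]; rfl)
          rw [h1, map_sub, map_smul, hb, smul_eq_mul, div_mul_cancel₀ _ hne, sub_self])
        rw [this]
        exact S.smul_mem _ hzS
      haveI : Finite (Submodule (P ⧸ T i) K) :=
        Finite.of_surjective (fun b : Bool => if b then ⊤ else ⊥) fun S => by
          rcases hsimple S with rfl | rfl
          · exact ⟨false, rfl⟩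
          · exact ⟨true, rfl⟩
      exact ⟨(inferInstance : WellFoundedLT (Submodule (P ⧸ T i) K)).wf⟩
    exact isArtinian_of_range_eq_ker K.subtype K.mkQ (by rw [Submodule.range_subtype, Submodule.ker_mkQ])
  have hex : ∀ i, ∃ v : B →ₐ[A] P ⧸ T i, ∀ b, π i (v b) = Ideal.Quotient.mk M b := fun i => by
    haveI := (hart i).1
    haveI := (hart i).2
    exact hlift (P ⧸ T i) N (π i) (hπs i) (hπK i)
  choose v hv using hex
  -- the correction vector of a representative
  have hΔ : ∀ (i : ι) (b : B) (p : P), fstP p = Ideal.Quotient.mk M b →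
      ∃ (q : P) (j : J), fstP q = 0 ∧ (j : C) = (q : (B ⧸ M) × C).2 ∧ v i b = Ideal.Quotient.mk (T i) (p + q) := by
    intro i b p hp
    obtain ⟨p', hp'⟩ := Ideal.Quotient.mk_surjective (v i b)
    have h0 : fstP (p' - p) = 0 := by rw [map_sub, ← hπ i, hp', hv, hp, sub_self]
    have hj : ((p' - p : P) : (B ⧸ M) × C).2 ∈ J := by
      rw [← Ideal.Quotient.eq_zero_iff_mem, hP, show ((p' - p : P) : (B ⧸ M) × C).1 = 0 from h0, map_zero]
    exact ⟨p' - p, ⟨_, hj⟩, h0, rfl, by rw [add_sub_cancel, hp']⟩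
  choose q j hq hjq hvq using hΔ
  have hcoord : ∀ (i : ι) (q' q'' : P) (j' j'' : J), fstP q' = 0 → fstP q'' = 0 →
      (j' : C) = (q' : (B ⧸ M) × C).2 → (j'' : C) = (q'' : (B ⧸ M) × C).2 →
      Ideal.Quotient.mk (T i) q' = Ideal.Quotient.mk (T i) q'' → bas.coord i j' = bas.coord i j'' := by
    intro i q' q'' j' j'' _ _ h1 h2 he
    rw [← sub_eq_zero, ← map_sub]
    exact (Ideal.Quotient.eq.mp he).2 _ (by rw [Submodule.coe_sub, h1, h2]; rfl)
  -- a representative and its correction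
  let R : ∀ (b : B) (p : P), fstP p = Ideal.Quotient.mk M b → C := fun b p hp =>
    (p : (B ⧸ M) × C).2 + (r (fun i => bas.coord i (j i b p hp)) : C)
  have hindep : ∀ b p p' (hp : fstP p = Ideal.Quotient.mk M b) (hp' : fstP p' = Ideal.Quotient.mk M b),
      R b p hp = R b p' hp' := by
    intro b p p' hp hp'
    have h0 : fstP (p - p') = 0 := by rw [map_sub, hp, hp', sub_self]
    have hd : ((p - p' : P) : (B ⧸ M) × C).2 ∈ J := by
      rw [← Ideal.Quotient.eq_zero_iff_mem, hP, show ((p - p' : P) : (B ⧸ M) × C).1 = 0 from h0, map_zero]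
    have h1 : (fun i => bas.coord i (j i b p' hp')) = (fun i => bas.coord i (j i b p hp)) + Λ ⟨_, hd⟩ := funext fun i => by
      show _ = _ + bas.coord i ⟨_, hd⟩
      rw [← map_add]
      refine hcoord i (q i b p' hp') (q i b p hp + (p - p')) _ _ (hq _ _ _ _) (by rw [map_add, hq, h0, add_zero]) (hjq _ _ _ _)
        (by rw [Submodule.coe_add, hjq]; rfl) ?_
      have he := (hvq i b p' hp').symm.trans (hvq i b p hp)
      rw [map_add, map_add] at he
      rw [map_add, map_sub]
      linear_combination he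
    show _ + _ = _ + _
    rw [h1, map_add, Submodule.coe_add, show r (Λ ⟨_, hd⟩) = ⟨_, hd⟩ from LinearMap.congr_fun hr _]
    show (p : (B ⧸ M) × C).2 + _ = (p' : (B ⧸ M) × C).2 + (_ + ((p : (B ⧸ M) × C).2 - (p' : (B ⧸ M) × C).2))
    ring
  choose p₀ hp₀ using fun b : B => hfst (Ideal.Quotient.mk M b)
  let V : B → C := fun b => R b (p₀ b) (hp₀ b)
  have hV : ∀ b p (hp : fstP p = Ideal.Quotient.mk M b), V b = R b p hp := fun b p hp => hindep _ _ _ _ _
  have hRJ : ∀ x, (r x : C) ∈ J := fun x => (r x).2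
  have hmk : ∀ b, Ideal.Quotient.mk J (V b) = u b := fun b => by
    show Ideal.Quotient.mk J (_ + _) = u b
    rw [map_add, hP, Ideal.Quotient.eq_zero_iff_mem.mpr (hRJ _), add_zero, show (p₀ b : (B ⧸ M) × C).1 = _ from hp₀ b]
    rfl
  have hVA : ∀ a, V (algebraMap A B a) = algebraMap A C a := fun a => by
    have hp : fstP (algebraMap A P a) = Ideal.Quotient.mk M (algebraMap A B a) := fstP.commutes a
    rw [hV _ _ hp]
    have h1 : (fun i => bas.coord i (j i _ _ hp)) = 0 := funext fun i => by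
      rw [Pi.zero_apply, ← map_zero (bas.coord i)]
      refine hcoord i _ 0 _ 0 (hq _ _ _ _) (map_zero _) (hjq _ _ _ _) rfl ?_
      have he := hvq i _ _ hp
      rw [AlgHom.commutes, map_add] at he
      rw [map_zero]
      change algebraMap A (P ⧸ T i) a = algebraMap A (P ⧸ T i) a + _ at he
      linear_combination -he
    show _ + _ = _
    rw [h1, map_zero]
    exact add_zero _
  have hadd : ∀ a b, V (a + b) = V a + V b := fun a b => by
    have hp : fstP (p₀ a + p₀ b) = Ideal.Quotient.mk M (a + b) := by rw [map_add, hp₀, hp₀, map_add]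
    rw [hV _ _ hp]
    have h1 : (fun i => bas.coord i (j i _ _ hp)) =
        (fun i => bas.coord i (j i a _ (hp₀ a))) + fun i => bas.coord i (j i b _ (hp₀ b)) := funext fun i => by
      rw [Pi.add_apply, ← map_add]
      refine hcoord i _ (q i a _ (hp₀ a) + q i b _ (hp₀ b)) _ _ (hq _ _ _ _) (by rw [map_add, hq, hq, add_zero]) (hjq _ _ _ _)
        (by rw [Submodule.coe_add, hjq, hjq]; rfl) ?_
      have he := hvq i _ _ hp
      rw [map_add, hvq i a _ (hp₀ a), hvq i b _ (hp₀ b), map_add, map_add, map_add, map_add] at he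
      rw [map_add]
      linear_combination -he
    show _ + _ = _
    rw [h1, map_add, Submodule.coe_add]
    show ((p₀ a : (B ⧸ M) × C).2 + (p₀ b : (B ⧸ M) × C).2) + _ = (_ + _) + (_ + _)
    ring
  have hmul : ∀ a b, V (a * b) = V a * V b := fun a b => by
    have hp : fstP (p₀ a * p₀ b) = Ideal.Quotient.mk M (a * b) := by rw [map_mul, hp₀, hp₀, map_mul]
    rw [hV _ _ hp]
    have hca : ∀ x, Ideal.Quotient.mk J (p₀ x : (B ⧸ M) × C).2 = u x := fun x => by
      rw [hP, show (p₀ x : (B ⧸ M) × C).1 = _ from hp₀ x]; rfl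
    have h1 : (fun i => bas.coord i (j i _ _ hp)) =
        Ideal.Quotient.mk (maximalIdeal B) a • (fun i => bas.coord i (j i b _ (hp₀ b))) +
          Ideal.Quotient.mk (maximalIdeal B) b • (fun i => bas.coord i (j i a _ (hp₀ a))) := funext fun i => by
      rw [Pi.add_apply, Pi.smul_apply, Pi.smul_apply, ← map_smul, ← map_smul, ← map_add]
      refine hcoord i _ (p₀ a * q i b _ (hp₀ b) + p₀ b * q i a _ (hp₀ a)) _ _ (hq _ _ _ _)
        (by rw [map_add, map_mul, map_mul, hq, hq, mul_zero, mul_zero, add_zero]) (hjq _ _ _ _)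
        (by rw [Submodule.coe_add, hsmul a _ _ (hca a), hsmul b _ _ (hca b), hjq, hjq]; rfl) ?_
      have he := hvq i _ _ hp
      have hqq : Ideal.Quotient.mk (T i) (q i a _ (hp₀ a)) * Ideal.Quotient.mk (T i) (q i b _ (hp₀ b)) = 0 := by
        rw [← map_mul, hker2 _ _ (hq _ _ _ _) (hq _ _ _ _), map_zero]
      rw [map_mul, hvq i a _ (hp₀ a), hvq i b _ (hp₀ b), map_add, map_add, map_add, map_mul] at he
      rw [map_add, map_mul, map_mul]
      linear_combination -he + hqq
    show _ + _ = _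
    rw [h1, map_add, map_smul, map_smul, Submodule.coe_add, hsmul a _ _ (hca a), hsmul b _ _ (hca b)]
    show ((p₀ a : (B ⧸ M) × C).2 * (p₀ b : (B ⧸ M) × C).2) + _ = (_ + _) * (_ + _)
    linear_combination -(hJJ _ (hRJ (fun i => bas.coord i (j i a _ (hp₀ a)))) _ (hRJ (fun i => bas.coord i (j i b _ (hp₀ b)))))
  exact ⟨{ toFun := V
           map_one' := by rw [← map_one (algebraMap A B), hVA, map_one]
           map_mul' := hmul
           map_zero' := by rw [← map_zero (algebraMap A B), hVA, map_zero]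
           map_add' := hadd
           commutes' := hVA }, AlgHom.ext hmk⟩

/-- formal smoothness from lifting along Artinian local square-zero extensions of `B/m^(N+1)` -/
theorem of_lift {A B : Type u} [CommRing A] [IsLocalRing A] [CommRing B] [IsLocalRing B] [IsNoetherianRing B]
    [Algebra A B] [IsLocalHom (algebraMap A B)]
    (hlift : ∀ (E : Type u) [CommRing E] [IsLocalRing E] [IsArtinianRing E] [Algebra A E]
      (N : ℕ) (π : E →ₐ[A] B ⧸ maximalIdeal B ^ (N + 1)), Function.Surjective π → RingHom.ker π.toRingHom ^ 2 = ⊥ →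
        ∃ v : B →ₐ[A] E, ∀ b, π (v b) = Ideal.Quotient.mk _ b) :
    EGA41.IsFormallySmoothAdic A (maximalIdeal A) B (maximalIdeal B) := by
  refine Groth.L06.FormSmoothAdic.of_sqZero ?_
  suffices H : ∀ (t : ℕ) (C : Type u) [CommRing C] [Algebra A C] (J : Ideal C), J ^ 2 = ⊥ →
      ∀ u : B →ₐ[A] C ⧸ J, (∃ N, ∀ x ∈ maximalIdeal B ^ N, u x = 0) → ∀ 𝔐 : Ideal C,
      (∀ c, Ideal.Quotient.mk J c ∈ (maximalIdeal B).map u → c ∈ 𝔐) → 𝔐 ^ t * J = ⊥ →
      ∃ v : B →ₐ[A] C, (Ideal.Quotient.mkₐ A J).comp v = u by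
    intro C _ _ J hJ _ u hu
    obtain ⟨N, hN⟩ := hu
    refine H N C J hJ u ⟨N, hN⟩ (((maximalIdeal B).map u).comap (Ideal.Quotient.mk J)) (fun c hc => hc) ?_
    have hle : (((maximalIdeal B).map u).comap (Ideal.Quotient.mk J)) ^ N ≤ J := fun x hx => by
      rw [← Ideal.Quotient.eq_zero_iff_mem]
      have h1 := Ideal.mem_map_of_mem (Ideal.Quotient.mk J) hx
      rw [Ideal.map_pow, Ideal.map_comap_of_surjective _ Ideal.Quotient.mk_surjective, ← Ideal.map_pow,
        show ((maximalIdeal B) ^ N).map u = ⊥ from le_bot_iff.mp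
          (Ideal.map_le_iff_le_comap.mpr fun x hx => Ideal.mem_comap.mpr (by rw [hN x hx]; exact zero_mem _))] at h1
      exact h1
    exact le_bot_iff.mp ((Ideal.mul_mono_left hle).trans (by rw [← pow_two, hJ]))
  intro t
  induction t with
  | zero =>
    intro C _ _ J hJ u ⟨N, hN⟩ 𝔐 _ hMJ
    rw [pow_zero, Ideal.one_eq_top, Ideal.top_mul] at hMJ
    refine step hlift J hJ u (fun x _ c _ j hj => ?_) (N := N) (fun x hx => hN x (Ideal.pow_le_pow_right N.le_succ hx))
    rw [show j = 0 from (Submodule.mem_bot C).mp (hMJ ▸ hj), mul_zero]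
  | succ t ih =>
    intro C _ _ J hJ u ⟨N, hN⟩ 𝔐 h𝔐 hMJ
    let J' : Ideal C := 𝔐 ^ t * J
    have hle : J' ≤ J := Ideal.mul_le_right
    let e := DoubleQuot.quotQuotEquivQuotOfLEₐ A hle
    have hJ1 : (J.map (Ideal.Quotient.mkₐ A J')) ^ 2 = ⊥ := by rw [← Ideal.map_pow, hJ, Ideal.map_bot]
    have hcomap : ∀ c, Ideal.Quotient.mk (J.map (Ideal.Quotient.mkₐ A J')) (Ideal.Quotient.mk J' c) ∈
        (maximalIdeal B).map (e.symm.toAlgHom.comp u) → c ∈ 𝔐 := fun c hc => by
      refine h𝔐 c ?_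
      have h1 := Ideal.mem_map_of_mem e.toAlgHom.toRingHom hc
      rw [← Ideal.map_coe (e.symm.toAlgHom.comp u), Ideal.map_map] at h1
      have h2 : e.toAlgHom.toRingHom.comp (e.symm.toAlgHom.comp u : B →+* _) = u.toRingHom :=
        RingHom.ext fun b => e.apply_symm_apply (u b)
      rw [h2] at h1
      exact h1
    obtain ⟨v', hv'⟩ := ih (C ⧸ J') (J.map (Ideal.Quotient.mkₐ A J')) hJ1 (e.symm.toAlgHom.comp u) ⟨N, fun x hx => by
        show e.symm (u x) = 0
        rw [hN x hx, map_zero]⟩ (𝔐.map (Ideal.Quotient.mk J')) (fun c' hc' => by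
          obtain ⟨c, rfl⟩ := Ideal.Quotient.mk_surjective c'
          exact Ideal.mem_map_of_mem _ (hcomap c hc')) (by
        rw [← Ideal.map_pow]
        exact (Ideal.map_mul _ _ _).symm.trans (Ideal.map_quotient_self _))
    have hker : ∀ x ∈ maximalIdeal B ^ N, Ideal.Quotient.mk (J.map (Ideal.Quotient.mkₐ A J')) (v' x) = 0 := fun x hx =>
      (DFunLike.congr_fun hv' x).trans (by
        show e.symm (u x) = 0
        rw [hN x hx, map_zero])
    have hJ' : J' ^ 2 = ⊥ := le_bot_iff.mp (by rw [← hJ]; exact Ideal.pow_right_mono hle 2)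
    have hM' : ∀ x ∈ maximalIdeal B, ∀ c : C, Ideal.Quotient.mk J' c = v' x → ∀ j ∈ J', c * j = 0 := by
      intro x hx c hc j hj
      have hc' : c ∈ 𝔐 := hcomap c (by
        rw [hc, show Ideal.Quotient.mk (J.map (Ideal.Quotient.mkₐ A J')) (v' x) = (e.symm.toAlgHom.comp u) x from
          DFunLike.congr_fun hv' x]
        exact Ideal.mem_map_of_mem _ hx)
      rw [← Submodule.mem_bot C, ← hMJ, pow_succ', mul_assoc]
      exact Ideal.mul_mem_mul hc' hj
    obtain ⟨v, hv⟩ := step hlift J' hJ' v' hM' (N := N * 2) (fun x hx =>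
      Groth.L06.FormSmoothAdic.kills_lift hJ1 v' hker x (Ideal.pow_le_pow_right (Nat.le_succ _) hx))
    refine ⟨v, AlgHom.ext fun b => ?_⟩
    have h1 : Ideal.Quotient.mk J' (v b) = v' b := DFunLike.congr_fun hv b
    have h2 : Ideal.Quotient.mk (J.map (Ideal.Quotient.mkₐ A J')) (v' b) = e.symm (u b) := DFunLike.congr_fun hv' b
    rw [← h1] at h2
    exact (congrArg e h2).trans (AlgEquiv.apply_symm_apply _ _)

end Groth.L06.FormSmoothArtin
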