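import Groth.Agent.L06.FormSmoothField
import Mathlib.Algebra.TrivSqZeroExt.Basic
import Mathlib.RingTheory.Nilpotent.Basic
import Mathlib.LinearAlgebra.FreeModule.Basic
import Mathlib.RingTheory.TensorProduct.Free

/-! Differential criterion for formal smoothness over a field (EGA 0_IV 22.5.8). -/

set_option autoImplicit false
set_option maxSynthPendingDepth 3
set_option linter.style.haveILetI false
universe u

namespace Groth.L06.FormSmooth

open IsLocalRing
open scoped TensorProduct

theorem exists_dual_hom {k K : Type u} [CommRing k] [CommRing K] [Algebra k K] (D : Derivation ℤ k K) :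
    ∃ h0 : k →+* DualNumber K, ∀ r, h0 r = TrivSqZeroExt.inl (algebraMap k K r) + TrivSqZeroExt.inr (D r) := by
  refine ⟨{ toFun := fun r => TrivSqZeroExt.inl (algebraMap k K r) + TrivSqZeroExt.inr (D r)
            map_one' := by ext <;> simp [D.map_one_eq_zero]
            map_mul' := fun x y => ?_
            map_zero' := by ext <;> simp
            map_add' := fun x y => ?_ }, fun r => rfl⟩
  · ext
    · simp
    · simp only [TrivSqZeroExt.snd_add, TrivSqZeroExt.snd_inl, TrivSqZeroExt.snd_inr, TrivSqZeroExt.snd_mul,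
        TrivSqZeroExt.fst_add, TrivSqZeroExt.fst_inl, TrivSqZeroExt.fst_inr, add_zero, zero_add, D.leibniz,
        op_smul_eq_smul, smul_eq_mul, Algebra.smul_def, map_mul]
  · ext <;> simp

theorem exists_ext {k A : Type u} [Field k] [CommRing A] [IsLocalRing A] [Algebra k A]
    (h : CAlgX.IsAdicFormallySmooth k A (maximalIdeal A)) (D : Derivation ℤ k (ResidueField A))
    (h0 : k →+* DualNumber (ResidueField A))
    (h0_eq : ∀ r, h0 r = TrivSqZeroExt.inl (algebraMap k (ResidueField A) r) + TrivSqZeroExt.inr (D r)) :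
    ∃ D' : Derivation ℤ A (ResidueField A), ∀ a, D' (algebraMap k A a) = D a := by
  let T := DualNumber (ResidueField A)
  letI : Algebra k T := h0.toAlgebra
  let pr : T →ₐ[k] ResidueField A :=
    { (TrivSqZeroExt.fstHom (ResidueField A) (ResidueField A) (ResidueField A)).toRingHom with
      commutes' := fun r => by
        show TrivSqZeroExt.fst (h0 r) = _
        simp [h0_eq] }
  have hpr : Function.Surjective pr := fun z => ⟨(TrivSqZeroExt.inl z : TrivSqZeroExt (ResidueField A) (ResidueField A)), rfl⟩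
  have hJ : RingHom.ker pr.toRingHom ^ 2 = ⊥ := by
    rw [pow_two, eq_bot_iff, Ideal.mul_le]
    intro a ha b hb
    replace ha : a.fst = 0 := ha
    replace hb : b.fst = 0 := hb
    rw [Ideal.mem_bot]
    ext
    · exact (TrivSqZeroExt.fst_mul a b).trans (by rw [ha, zero_mul]; rfl)
    · refine (TrivSqZeroExt.snd_mul a b).trans ?_
      rw [ha, hb, MulOpposite.op_zero, zero_smul, zero_smul, add_zero]
      rfl
  let e := Ideal.quotientKerAlgEquivOfSurjective hpr
  obtain ⟨χ, hχ⟩ := h T (RingHom.ker pr.toRingHom) hJ (e.symm.toAlgHom.comp (IsScalarTower.toAlgHom k A (ResidueField A)))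
    ⟨1, fun a ha => by
      rw [pow_one] at ha
      show e.symm (algebraMap A (ResidueField A) a) = 0
      rw [show algebraMap A (ResidueField A) a = 0 from (residue_eq_zero_iff a).mpr ha, map_zero]⟩
  have hfst : ∀ a, TrivSqZeroExt.fst (χ a) = residue A a := fun a => by
    have h1 : Ideal.Quotient.mk _ (χ a) = e.symm (residue A a) := DFunLike.congr_fun hχ a
    have h2 := congrArg e h1
    rw [e.apply_symm_apply] at h2
    exact h2
  refine ⟨Derivation.mk' (AddMonoidHom.mk' (fun a => TrivSqZeroExt.snd (χ a))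
    (fun a b => by rw [map_add]; rfl)).toIntLinearMap (fun a b => ?_), fun a => ?_⟩
  · show TrivSqZeroExt.snd (χ (a * b)) = a • TrivSqZeroExt.snd (χ b) + b • TrivSqZeroExt.snd (χ a)
    rw [map_mul, TrivSqZeroExt.snd_mul, hfst, hfst, op_smul_eq_smul]
    rfl
  · show TrivSqZeroExt.snd (χ (algebraMap k A a)) = D a
    rw [χ.commutes]
    show TrivSqZeroExt.snd (h0 a) = D a
    simp [h0_eq]

theorem injective_diffMap_of_adicSmooth {k A : Type u} [Field k] [CommRing A] [IsLocalRing A] [Algebra k A]
    (h : CAlgX.IsAdicFormallySmooth k A (maximalIdeal A)) : Function.Injective (diffMap k A) := by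
  refine (injective_iff_map_eq_zero _).mpr fun z hz => ?_
  refine (Module.forall_dual_apply_eq_zero_iff (ResidueField A) z).mp fun f => ?_
  let K := ResidueField A
  let D : Derivation ℤ k K :=
    Derivation.mk' (AddMonoidHom.mk' (fun a => f (1 ⊗ₜ KaehlerDifferential.D ℤ k a))
      (fun a b => by simp only [map_add, TensorProduct.tmul_add])).toIntLinearMap (fun a b => by
      show f (1 ⊗ₜ KaehlerDifferential.D ℤ k (a * b)) = a • f (1 ⊗ₜ KaehlerDifferential.D ℤ k b) + b • f (1 ⊗ₜ KaehlerDifferential.D ℤ k a)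
      rw [Derivation.leibniz, TensorProduct.tmul_add, map_add, TensorProduct.tmul_smul, TensorProduct.tmul_smul,
        ← algebraMap_smul K a, ← algebraMap_smul K b, map_smul, map_smul, algebraMap_smul, algebraMap_smul])
  obtain ⟨h0, hh0⟩ := exists_dual_hom D
  obtain ⟨D', hD'⟩ : ∃ D' : Derivation ℤ A K, ∀ a, D' (algebraMap k A a) = D a := exists_ext h D h0 hh0
  let g : K ⊗[A] Ω[A⁄ℤ] →ₗ[K] K := LinearMap.liftBaseChange K D'.liftKaehlerDifferential
  have hg : ∀ x, f x = g (diffMap k A x) := by
    intro x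
    induction x using TensorProduct.induction_on with
    | zero => simp
    | add a b ha hb => simp only [map_add, ha, hb]
    | tmul c w =>
      have hw : w ∈ Submodule.span k (Set.range (KaehlerDifferential.D ℤ k)) :=
        KaehlerDifferential.span_range_derivation ℤ k ▸ Submodule.mem_top
      induction hw using Submodule.span_induction generalizing c with
      | mem y hy =>
        obtain ⟨a, rfl⟩ := hy
        rw [diffMap_tmul]
        show _ = LinearMap.liftBaseChange K _ _
        rw [LinearMap.liftBaseChange_tmul, Derivation.liftKaehlerDifferential_comp_D, hD']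
        show _ = c • f (1 ⊗ₜ KaehlerDifferential.D ℤ k a)
        rw [← map_smul, TensorProduct.smul_tmul', smul_eq_mul, mul_one]
      | zero => simp
      | add a b _ _ ha hb => simp only [TensorProduct.tmul_add, map_add, ha, hb]
      | smul a y _ hy => rw [← TensorProduct.smul_tmul, hy]
  rw [hg, hz, map_zero]

theorem der_mem_pow {A W : Type u} [CommRing A] [AddCommGroup W] [Module A W] (D : Derivation ℤ A W) {I : Ideal A} :
    ∀ (n : ℕ), ∀ x ∈ I ^ (n + 1), D x ∈ I ^ n • (⊤ : Submodule A W) := by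
  intro n
  induction n with
  | zero => intro x _; simp
  | succ n ih =>
    intro x hx
    rw [pow_succ] at hx
    refine Submodule.mul_induction_on hx (fun a ha b hb => ?_) fun a b ha hb => by rw [map_add]; exact add_mem ha hb
    rw [D.leibniz]
    refine add_mem (Submodule.smul_mem_smul ha trivial) ?_
    have h1 : b • D a ∈ I • (I ^ n • (⊤ : Submodule A W)) := Submodule.smul_mem_smul hb (ih a ha)
    rwa [← Submodule.smul_assoc, smul_eq_mul, ← pow_succ'] at h1

/-- derivations into modules killed by a power of the maximal ideal lift along surjections -/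
theorem exists_der_lift {F A : Type u} [CommRing F] [CommRing A] [IsLocalRing A] [Algebra F A]
    (hFS : CAlgX.IsAdicFormallySmooth F A (maximalIdeal A)) (N : ℕ) {V W : Type u} [AddCommGroup V] [AddCommGroup W]
    [Module (A ⧸ maximalIdeal A ^ (N + 1)) V] [Module (A ⧸ maximalIdeal A ^ (N + 1)) W] [Module A V] [Module A W]
    [IsScalarTower A (A ⧸ maximalIdeal A ^ (N + 1)) V] [IsScalarTower A (A ⧸ maximalIdeal A ^ (N + 1)) W]
    (g : V →ₗ[A ⧸ maximalIdeal A ^ (N + 1)] W) (hg : Function.Surjective g) (D : Derivation ℤ A W)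
    (hF : ∀ c : F, D (algebraMap F A c) = 0) :
    ∃ D' : Derivation ℤ A V, ∀ a, g (D' a) = D a := by
  let R := A ⧸ maximalIdeal A ^ (N + 1)
  letI : Module Rᵐᵒᵖ V := Module.compHom V ((RingHom.id R).fromOpposite fun a b => mul_comm _ _)
  letI : Module Rᵐᵒᵖ W := Module.compHom W ((RingHom.id R).fromOpposite fun a b => mul_comm _ _)
  haveI : IsCentralScalar R V := ⟨fun _ _ => rfl⟩
  haveI : IsCentralScalar R W := ⟨fun _ _ => rfl⟩
  haveI : SMulCommClass R Rᵐᵒᵖ V := ⟨fun a b v => smul_comm a b.unop v⟩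
  haveI : SMulCommClass R Rᵐᵒᵖ W := ⟨fun a b v => smul_comm a b.unop v⟩
  letI : Algebra F (TrivSqZeroExt R V) := ((TrivSqZeroExt.inlHom R V).comp (algebraMap F R)).toAlgebra
  letI : Algebra F (TrivSqZeroExt R W) := ((TrivSqZeroExt.inlHom R W).comp (algebraMap F R)).toAlgebra
  let G : TrivSqZeroExt R V →ₐ[F] TrivSqZeroExt R W :=
    { (TrivSqZeroExt.map g).toRingHom with commutes' := fun c => TrivSqZeroExt.map_inl g _ }
  have hG : Function.Surjective G := fun y => by
    obtain ⟨v, hv⟩ := hg y.snd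
    refine ⟨TrivSqZeroExt.inl y.fst + TrivSqZeroExt.inr v, ?_⟩
    show TrivSqZeroExt.map g (TrivSqZeroExt.inl y.fst + TrivSqZeroExt.inr v) = y
    rw [map_add, TrivSqZeroExt.map_inl, TrivSqZeroExt.map_inr, hv, TrivSqZeroExt.inl_fst_add_inr_snd_eq]
  have hGsnd : ∀ x, (G x).snd = g x.snd := fun x => by
    show (TrivSqZeroExt.map g x).snd = _
    rw [← TrivSqZeroExt.inl_fst_add_inr_snd_eq x, map_add, TrivSqZeroExt.map_inl, TrivSqZeroExt.map_inr]
    simp
  have hGfst : ∀ x, (G x).fst = x.fst := fun x => by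
    show (TrivSqZeroExt.map g x).fst = _
    rw [← TrivSqZeroExt.inl_fst_add_inr_snd_eq x, map_add, TrivSqZeroExt.map_inl, TrivSqZeroExt.map_inr]
    simp
  have hJ : RingHom.ker G.toRingHom ^ 2 = ⊥ := by
    rw [pow_two, eq_bot_iff, Ideal.mul_le]
    intro a ha b hb
    have ha' : a.fst = 0 := by rw [← hGfst, show G a = 0 from ha]; rfl
    have hb' : b.fst = 0 := by rw [← hGfst, show G b = 0 from hb]; rfl
    rw [Ideal.mem_bot]
    ext
    · rw [TrivSqZeroExt.fst_mul, ha', zero_mul]; rfl
    · rw [TrivSqZeroExt.snd_mul, ha', hb', MulOpposite.op_zero, zero_smul, zero_smul, add_zero]; rfl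
  let ψW : A →ₐ[F] TrivSqZeroExt R W :=
    { toFun := fun a => TrivSqZeroExt.inl (algebraMap A R a) + TrivSqZeroExt.inr (D a)
      map_one' := by ext <;> simp [D.map_one_eq_zero]
      map_mul' := fun x y => by
        ext
        · simp only [TrivSqZeroExt.fst_add, TrivSqZeroExt.fst_inl, TrivSqZeroExt.fst_inr, TrivSqZeroExt.fst_mul, map_mul]
          ring
        · simp only [TrivSqZeroExt.snd_add, TrivSqZeroExt.snd_inl, TrivSqZeroExt.snd_inr, TrivSqZeroExt.snd_mul,
            TrivSqZeroExt.fst_add, TrivSqZeroExt.fst_inl, TrivSqZeroExt.fst_inr, add_zero, zero_add, D.leibniz,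
            op_smul_eq_smul, algebraMap_smul]
      map_zero' := by ext <;> simp
      map_add' := fun x y => by
        ext
        · simp only [TrivSqZeroExt.fst_add, TrivSqZeroExt.fst_inl, TrivSqZeroExt.fst_inr, map_add]
          ring
        · simp only [TrivSqZeroExt.snd_add, TrivSqZeroExt.snd_inl, TrivSqZeroExt.snd_inr, map_add, zero_add]
      commutes' := fun c => by
        show TrivSqZeroExt.inl _ + TrivSqZeroExt.inr _ = TrivSqZeroExt.inl (algebraMap F R c)
        rw [hF, TrivSqZeroExt.inr_zero, add_zero, ← IsScalarTower.algebraMap_apply] }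
  have hψW : ∀ a, ψW a = (TrivSqZeroExt.inl (algebraMap A R a) + TrivSqZeroExt.inr (D a) : TrivSqZeroExt R W) :=
    fun a => rfl
  have hDpow : ∀ a ∈ maximalIdeal A ^ (N + 1 + 1), D a = 0 := by
    intro a ha
    rw [pow_succ] at ha
    refine Submodule.mul_induction_on ha (fun x hx y hy => ?_) fun x y hx hy => by rw [map_add, hx, hy, add_zero]
    rw [D.leibniz]
    have hx0 : x • D y = 0 := by
      rw [← algebraMap_smul R x, show algebraMap A R x = 0 from Ideal.Quotient.eq_zero_iff_mem.mpr hx, zero_smul]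
    have hxN : D x ∈ (maximalIdeal A ^ N) • (⊤ : Submodule A W) := der_mem_pow D N x hx
    rw [hx0, zero_add]
    refine Submodule.smul_induction_on hxN (fun r hr w _ => ?_) fun u v hu hv => by rw [smul_add, hu, hv, add_zero]
    rw [← mul_smul, ← algebraMap_smul R (y * r),
      show algebraMap A R (y * r) = 0 from Ideal.Quotient.eq_zero_iff_mem.mpr
        (by rw [pow_succ']; exact Ideal.mul_mem_mul hy hr), zero_smul]
  let e := Ideal.quotientKerAlgEquivOfSurjective hG
  obtain ⟨χ, hχ⟩ := hFS (TrivSqZeroExt R V) (RingHom.ker G.toRingHom) hJ (e.symm.toAlgHom.comp ψW) ⟨N + 1 + 1, fun a ha => by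
    show e.symm (ψW a) = 0
    have h0 : ψW a = 0 := by
      rw [hψW, show algebraMap A R a = 0 from Ideal.Quotient.eq_zero_iff_mem.mpr (Ideal.pow_le_pow_right (Nat.le_succ _) ha),
        hDpow a ha]
      simp
    rw [h0, map_zero]⟩
  have hχ' : ∀ a, G (χ a) = ψW a := fun a => by
    have h1 : Ideal.Quotient.mk _ (χ a) = e.symm (ψW a) := DFunLike.congr_fun hχ a
    have h2 := congrArg e h1
    rw [e.apply_symm_apply] at h2
    exact h2
  have hfst : ∀ a, (χ a).fst = algebraMap A R a := fun a => by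
    rw [← hGfst, hχ', hψW]
    simp
  refine ⟨Derivation.mk' (AddMonoidHom.mk' (fun a => (χ a).snd) (fun a b => by rw [map_add]; rfl)).toIntLinearMap
    (fun a b => ?_), fun a => ?_⟩
  · show (χ (a * b)).snd = a • (χ b).snd + b • (χ a).snd
    rw [map_mul, TrivSqZeroExt.snd_mul, hfst, hfst, op_smul_eq_smul, algebraMap_smul, algebraMap_smul]
  · show g (χ a).snd = D a
    rw [← hGsnd, hχ', hψW]
    simp

theorem projective_baseChange_kaehler {F A : Type u} [CommRing F] [CommRing A] [IsLocalRing A] [Algebra F A]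
    (hFS : CAlgX.IsAdicFormallySmooth F A (maximalIdeal A)) (hF : ∀ (W : Type u) [AddCommGroup W] [Module A W]
      (D : Derivation ℤ A W) (c : F), D (algebraMap F A c) = 0) (N : ℕ) :
    Module.Projective (A ⧸ maximalIdeal A ^ (N + 1)) ((A ⧸ maximalIdeal A ^ (N + 1)) ⊗[A] Ω[A⁄ℤ]) := by
  let R := A ⧸ maximalIdeal A ^ (N + 1)
  refine Module.Projective.of_lifting_property'' fun f hf => ?_
  let dA : Derivation ℤ A (R ⊗[A] Ω[A⁄ℤ]) :=
    ((TensorProduct.mk A R (Ω[A⁄ℤ])) 1).compDer (KaehlerDifferential.D ℤ A)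
  obtain ⟨D', hD'⟩ := exists_der_lift hFS N f hf dA (hF _ dA)
  refine ⟨LinearMap.liftBaseChange R D'.liftKaehlerDifferential, LinearMap.ext fun z => ?_⟩
  show f (LinearMap.liftBaseChange R D'.liftKaehlerDifferential z) = z
  induction z using TensorProduct.induction_on with
  | zero => simp
  | add a b ha hb => rw [map_add, map_add, ha, hb]
  | tmul c w =>
    have hw : w ∈ Submodule.span A (Set.range (KaehlerDifferential.D ℤ A)) :=
      KaehlerDifferential.span_range_derivation ℤ A ▸ Submodule.mem_top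
    induction hw using Submodule.span_induction generalizing c with
    | mem y hy =>
      obtain ⟨a, rfl⟩ := hy
      rw [LinearMap.liftBaseChange_tmul, Derivation.liftKaehlerDifferential_comp_D, map_smul, hD']
      show c • ((1 : R) ⊗ₜ[A] KaehlerDifferential.D ℤ A a) = _
      rw [TensorProduct.smul_tmul', smul_eq_mul, mul_one]
    | zero => simp
    | add a b _ _ ha hb => simp only [TensorProduct.tmul_add, map_add, ha, hb]
    | smul a y _ hy => rw [← TensorProduct.smul_tmul, hy]

theorem der_bot_eq_zero {k A W : Type u} [Field k] [CommRing A] [Algebra k A] [AddCommGroup W] [Module A W]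
    (D : Derivation ℤ A W) (c : (⊥ : Subfield k)) : D (algebraMap k A c) = 0 := by
  let S : Subfield k :=
    { carrier := {x | D (algebraMap k A x) = 0}
      mul_mem' := fun {x y} (hx : D _ = 0) (hy : D _ = 0) => by
        show D _ = 0
        rw [map_mul, D.leibniz, hx, hy, smul_zero, smul_zero, add_zero]
      one_mem' := by show D _ = 0; rw [map_one, D.map_one_eq_zero]
      add_mem' := fun {x y} (hx : D _ = 0) (hy : D _ = 0) => by
        show D _ = 0
        rw [map_add, map_add, hx, hy, add_zero]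
      zero_mem' := by show D _ = 0; rw [map_zero, map_zero]
      neg_mem' := fun {x} (hx : D _ = 0) => by
        show D _ = 0
        rw [map_neg, map_neg, hx, neg_zero]
      inv_mem' := fun x (hx : D _ = 0) => by
        show D _ = 0
        rcases eq_or_ne x 0 with rfl | h
        · rw [inv_zero, map_zero, map_zero]
        · rw [D.leibniz_of_mul_eq_one (show algebraMap k A x⁻¹ * algebraMap k A x = 1 by
            rw [← map_mul, inv_mul_cancel₀ h, map_one]), hx, smul_zero] }
  exact (bot_le : (⊥ : Subfield k) ≤ S) c.2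

theorem exists_extension_der {k A : Type u} [Field k] [CommRing A] [IsLocalRing A] [Algebra k A]
    (h₀ : CAlgX.IsAdicFormallySmooth (⊥ : Subfield k) A (maximalIdeal A)) (hinj : Function.Injective (diffMap k A))
    (N : ℕ) {V : Type u} [AddCommGroup V] [Module (A ⧸ maximalIdeal A ^ (N + 1)) V] [Module A V]
    [IsScalarTower A (A ⧸ maximalIdeal A ^ (N + 1)) V] [Module k V] [IsScalarTower k (A ⧸ maximalIdeal A ^ (N + 1)) V]
    (δ : Derivation ℤ k V) : ∃ D' : Derivation ℤ A V, ∀ t, D' (algebraMap k A t) = δ t := by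
  classical
  let R := A ⧸ maximalIdeal A ^ (N + 1)
  let K := ResidueField A
  let q : R →+* K := Ideal.Quotient.factor (Ideal.pow_le_self N.succ_ne_zero)
  letI : Algebra R K := q.toAlgebra
  haveI : IsScalarTower A R K := IsScalarTower.of_algebraMap_eq fun a => rfl
  haveI : IsScalarTower k R K := IsScalarTower.of_algebraMap_eq fun a => rfl
  haveI := projective_baseChange_kaehler h₀ (fun W _ _ D c => der_bot_eq_zero D c) N
  let b := Module.Basis.ofVectorSpace k (Ω[k⁄ℤ])
  let bF := Algebra.TensorProduct.basis R b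
  let bK := Algebra.TensorProduct.basis K b
  let u : R ⊗[k] Ω[k⁄ℤ] →ₗ[R] R ⊗[A] Ω[A⁄ℤ] := LinearMap.liftBaseChange R
    (((TensorProduct.mk A R (Ω[A⁄ℤ]) 1).restrictScalars k).comp (KaehlerDifferential.map ℤ ℤ k A))
  obtain ⟨rbar, hr⟩ := (diffMap k A).exists_leftInverse_of_injective (LinearMap.ker_eq_bot.mpr hinj)
  let πF : R ⊗[k] Ω[k⁄ℤ] →ₗ[R] K ⊗[k] Ω[k⁄ℤ] :=
    LinearMap.liftBaseChange R (TensorProduct.mk k K (Ω[k⁄ℤ]) 1)
  let πM : R ⊗[A] Ω[A⁄ℤ] →ₗ[R] K ⊗[A] Ω[A⁄ℤ] :=
    LinearMap.liftBaseChange R (TensorProduct.mk A K (Ω[A⁄ℤ]) 1)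
  have hπF : ∀ (r : R) w, πF (r ⊗ₜ w) = q r ⊗ₜ w := fun r w => by
    show LinearMap.liftBaseChange R _ _ = _
    rw [LinearMap.liftBaseChange_tmul]
    show r • ((1 : K) ⊗ₜ[k] w) = _
    rw [TensorProduct.smul_tmul', Algebra.smul_def, mul_one]
    rfl
  have hπMu : ∀ z, πM (u z) = diffMap k A (πF z) := by
    intro z
    induction z using TensorProduct.induction_on with
    | zero => simp
    | add a b ha hb => simp only [map_add, ha, hb]
    | tmul r w =>
      rw [hπF]
      show πM (LinearMap.liftBaseChange R _ _) = LinearMap.liftBaseChange K _ _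
      rw [LinearMap.liftBaseChange_tmul, LinearMap.liftBaseChange_tmul, map_smul]
      show r • LinearMap.liftBaseChange R _ ((1 : R) ⊗ₜ[A] KaehlerDifferential.map ℤ ℤ k A w) = _
      rw [LinearMap.liftBaseChange_tmul, one_smul]
      show r • ((1 : K) ⊗ₜ[A] KaehlerDifferential.map ℤ ℤ k A w) = q r • ((1 : K) ⊗ₜ[A] KaehlerDifferential.map ℤ ℤ k A w)
      rw [TensorProduct.smul_tmul', TensorProduct.smul_tmul']
      rfl
  have hs : Function.Surjective πF := by
    intro z
    induction z using TensorProduct.induction_on with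
    | zero => exact ⟨0, map_zero _⟩
    | add a b ha hb =>
      obtain ⟨a', rfl⟩ := ha
      obtain ⟨b', rfl⟩ := hb
      exact ⟨a' + b', map_add _ _ _⟩
    | tmul c w =>
      obtain ⟨a, rfl⟩ := IsLocalRing.residue_surjective c
      exact ⟨(Ideal.Quotient.mk _ a) ⊗ₜ w, hπF _ _⟩
  obtain ⟨r, hr'⟩ := Module.projective_lifting_property πF ((rbar.restrictScalars R).comp πM) hs
  let e : R ⊗[k] Ω[k⁄ℤ] →ₗ[R] R ⊗[k] Ω[k⁄ℤ] := r.comp u - LinearMap.id
  have he : ∀ z, πF (e z) = 0 := fun z => by
    show πF (r (u z) - z) = 0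
    rw [map_sub, sub_eq_zero]
    refine (LinearMap.congr_fun hr' (u z)).trans ?_
    show rbar (πM (u z)) = πF z
    rw [hπMu]
    exact LinearMap.congr_fun hr (πF z)
  let 𝔪 := (maximalIdeal A).map (Ideal.Quotient.mk (maximalIdeal A ^ (N + 1)))
  have hrepr : ∀ z i, bK.repr (πF z) i = q (bF.repr z i) := by
    intro z i
    induction z using TensorProduct.induction_on with
    | zero => simp
    | add a b ha hb => simp only [map_add, Finsupp.add_apply, ha, hb]
    | tmul r w =>
      rw [hπF, Algebra.TensorProduct.basis_repr_tmul, Algebra.TensorProduct.basis_repr_tmul]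
      simp only [Finsupp.smul_apply, Finsupp.mapRange_apply, smul_eq_mul, map_mul]
      rw [show q (algebraMap k R (b.repr w i)) = algebraMap k K (b.repr w i) from rfl]
  have hker : ∀ z, πF z = 0 → z ∈ 𝔪 • (⊤ : Submodule R (R ⊗[k] Ω[k⁄ℤ])) := fun z hz => by
    rw [← bF.linearCombination_repr z, Finsupp.linearCombination_apply]
    refine sum_mem fun i _ => Submodule.smul_mem_smul ?_ trivial
    show bF.repr z i ∈ 𝔪
    rw [show 𝔪 = RingHom.ker q from (Ideal.Quotient.factor_ker (Ideal.pow_le_self N.succ_ne_zero)).symm, RingHom.mem_ker,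
      ← hrepr, hz, map_zero, Finsupp.zero_apply]
  have hpow : ∀ (n : ℕ) z, (e ^ n) z ∈ 𝔪 ^ n • (⊤ : Submodule R (R ⊗[k] Ω[k⁄ℤ])) := by
    intro n
    induction n with
    | zero => intro z; rw [pow_zero 𝔪, Ideal.one_eq_top, Submodule.top_smul]; exact Submodule.mem_top
    | succ n ih =>
      intro z
      rw [pow_succ' e, Module.End.mul_apply]
      refine Submodule.smul_induction_on (ih z) (fun a ha w _ => ?_) fun a b ha hb => by rw [map_add]; exact add_mem ha hb
      rw [map_smul, pow_succ 𝔪 n, Submodule.mul_smul]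
      exact Submodule.smul_mem_smul ha (hker _ (he w))
  have hnil : IsNilpotent e := ⟨N + 1, LinearMap.ext fun z => by
    have h1 := hpow (N + 1) z
    rw [← Ideal.map_pow, Ideal.map_quotient_self, Submodule.bot_smul, Submodule.mem_bot] at h1
    exact h1⟩
  obtain ⟨v, hv⟩ := (IsNilpotent.isUnit_add_one hnil).exists_left_inv
  let T : R ⊗[A] Ω[A⁄ℤ] →ₗ[R] V :=
    ((LinearMap.liftBaseChange R δ.liftKaehlerDifferential).comp v).comp r
  refine ⟨(T.restrictScalars A).compDer (((TensorProduct.mk A R (Ω[A⁄ℤ])) 1).compDer (KaehlerDifferential.D ℤ A)),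
    fun t => ?_⟩
  show T ((1 : R) ⊗ₜ[A] KaehlerDifferential.D ℤ A (algebraMap k A t)) = δ t
  have hu : u ((1 : R) ⊗ₜ[k] KaehlerDifferential.D ℤ k t) = (1 : R) ⊗ₜ[A] KaehlerDifferential.D ℤ A (algebraMap k A t) := by
    show LinearMap.liftBaseChange R _ _ = _
    rw [LinearMap.liftBaseChange_tmul, one_smul]
    show (1 : R) ⊗ₜ[A] KaehlerDifferential.map ℤ ℤ k A (KaehlerDifferential.D ℤ k t) = _
    rw [KaehlerDifferential.map_D]
  rw [← hu]
  show LinearMap.liftBaseChange R δ.liftKaehlerDifferential (v (r (u _))) = _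
  rw [show r (u ((1 : R) ⊗ₜ[k] KaehlerDifferential.D ℤ k t)) = (e + 1) ((1 : R) ⊗ₜ[k] KaehlerDifferential.D ℤ k t) by
    show _ = (r (u _) - _) + _
    exact (sub_add_cancel _ _).symm, ← Module.End.mul_apply, hv, Module.End.one_apply, LinearMap.liftBaseChange_tmul,
    one_smul, Derivation.liftKaehlerDifferential_comp_D]

set_option maxHeartbeats 1000000 in
theorem adicSmooth_of_injective_diffMap {k A : Type u} [Field k] [CommRing A] [IsLocalRing A] [Algebra k A]
    (h₀ : CAlgX.IsAdicFormallySmooth (⊥ : Subfield k) A (maximalIdeal A)) (hinj : Function.Injective (diffMap k A)) :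
    CAlgX.IsAdicFormallySmooth k A (maximalIdeal A) := by
  intro C' _ _ J hJ ψ ⟨N, hN⟩
  obtain ⟨χ, hχ0⟩ := h₀ C' J hJ (ψ.restrictScalars (⊥ : Subfield k)) ⟨N, hN⟩
  have hχ : ∀ a, Ideal.Quotient.mk J (χ a) = ψ a := fun a => DFunLike.congr_fun hχ0 a
  let R := A ⧸ maximalIdeal A ^ (N + 1)
  let K := ResidueField A
  have hJJ : ∀ u ∈ J, ∀ v ∈ J, u * v = 0 := fun u hu v hv => by
    have := Ideal.mul_mem_mul hu hv
    rwa [← pow_two, hJ, Ideal.mem_bot] at this
  letI : Module A J := Module.compHom J χ.toRingHom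
  have hsmulA : ∀ (a : A) (v : J), ((a • v : J) : C') = χ a * v := fun a v => rfl
  have htors : Module.IsTorsionBySet A J (maximalIdeal A ^ (N + 1) : Ideal A) := fun v ⟨a, ha⟩ => Subtype.ext (by
    show χ a * (v : C') = 0
    exact hJJ _ (by rw [← Ideal.Quotient.eq_zero_iff_mem, hχ, hN a (Ideal.pow_le_pow_right N.le_succ ha)]) _ v.2)
  letI : Module R J := htors.module
  haveI : IsScalarTower A R J := htors.isScalarTower
  have hsmulR : ∀ (a : A) (v : J), (Ideal.Quotient.mk (maximalIdeal A ^ (N + 1)) a) • v = a • v := fun a v => rfl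
  have hkC : ∀ (t : k) (v : J), χ (algebraMap k A t) * (v : C') = algebraMap k C' t * v := fun t v => by
    rw [← sub_eq_zero, ← sub_mul]
    exact hJJ _ (by rw [← Ideal.Quotient.eq, hχ]; exact ψ.commutes t) _ v.2
  have hsmulk : ∀ (t : k) (v : J), t • v = algebraMap k A t • v := fun t v => Subtype.ext (by
    rw [hsmulA, hkC, ← Algebra.smul_def]
    rfl)
  haveI : IsScalarTower k R J := ⟨fun c r v => by
    obtain ⟨a, rfl⟩ := Ideal.Quotient.mk_surjective r
    rw [Algebra.smul_def, mul_smul, hsmulk c, IsScalarTower.algebraMap_apply k A R c]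
    exact hsmulR _ _⟩
  let δf : k →+ J := AddMonoidHom.mk' (fun t => ⟨χ (algebraMap k A t) - algebraMap k C' t, by
      rw [← Ideal.Quotient.eq, hχ]
      exact ψ.commutes t⟩) (fun s t => Subtype.ext (by
      show χ (algebraMap k A (s + t)) - algebraMap k C' (s + t) = (χ (algebraMap k A s) - algebraMap k C' s) + (χ (algebraMap k A t) - algebraMap k C' t)
      simp only [map_add]; ring))
  have hδf : ∀ t, ((δf t : J) : C') = χ (algebraMap k A t) - algebraMap k C' t := fun t => rfl
  let δ : Derivation ℤ k J := Derivation.mk' δf.toIntLinearMap (fun s t => Subtype.ext (by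
      simp only [AddMonoidHom.coe_toIntLinearMap]
      rw [Submodule.coe_add, hsmulk, hsmulk, hsmulA, hsmulA, hδf, hδf, hδf, map_mul, map_mul, map_mul]
      have h1 := hJJ _ (δf s).2 _ (δf t).2
      rw [hδf, hδf] at h1
      linear_combination (-1 : C') * h1))
  -- extend `δ`
  obtain ⟨D', hD'⟩ : ∃ D' : Derivation ℤ A J, ∀ t, D' (algebraMap k A t) = δ t :=
    exists_extension_der h₀ hinj N δ
  have hχ' : ∀ a b : A, χ (a * b) - (D' (a * b) : C') = (χ a - (D' a : C')) * (χ b - (D' b : C')) := fun a b => by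
    rw [D'.leibniz, Submodule.coe_add, hsmulA, hsmulA, map_mul]
    have h1 := hJJ _ (D' a).2 _ (D' b).2
    linear_combination (-1 : C') * h1
  let χ' : A →ₐ[k] C' :=
    { toFun := fun a => χ a - (D' a : C')
      map_one' := by simp [D'.map_one_eq_zero]
      map_mul' := hχ'
      map_zero' := by simp
      map_add' := fun a b => by
        simp only [map_add, Submodule.coe_add]; ring
      commutes' := fun t => by
        show χ (algebraMap k A t) - (D' (algebraMap k A t) : C') = _
        rw [hD']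
        show χ (algebraMap k A t) - ((δf t : J) : C') = _
        rw [hδf]; ring }
  refine ⟨χ', AlgHom.ext fun a => ?_⟩
  show Ideal.Quotient.mk J (χ a - (D' a : C')) = ψ a
  rw [map_sub, hχ, Ideal.Quotient.eq_zero_iff_mem.mpr (D' a).2, sub_zero]

end Groth.L06.FormSmooth
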