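import Groth.Agent.L06.LeftInverse
import Groth.Agent.L06.FormSmoothLocJacobi
import Mathlib.RingTheory.Smooth.Kaehler
import Mathlib.RingTheory.Ideal.Cotangent
import Mathlib.RingTheory.Nakayama
import Mathlib.LinearAlgebra.Matrix.NonsingularInverse

/-! Zariski's determinantal form of the Jacobian criterion. -/

set_option autoImplicit false
set_option maxSynthPendingDepth 3
set_option linter.style.haveILetI false
universe u

namespace Groth.L06.DetJacobi

open IsLocalRing
open scoped TensorProduct
open KaehlerDifferential (kerCotangentToTensor)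

variable {A B C : Type u} [CommRing A] [CommRing B] [CommRing C] [Algebra A B] [Algebra B C] [Algebra A C]
  [IsScalarTower A B C]

omit [Algebra A B] [Algebra A C] [IsScalarTower A B C] in
/-- A finite family in the residue field has a common denominator. -/
theorem exists_clear {ι : Type} [Finite ι] (hsurj : Function.Surjective (algebraMap B C)) (p : Ideal C) [p.IsPrime]
    (c : ι → p.ResidueField) :
    ∃ (s : B) (a : ι → B), algebraMap B p.ResidueField s ≠ 0 ∧
      ∀ i, algebraMap B p.ResidueField s * c i = algebraMap B p.ResidueField (a i) := by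
  classical
  haveI := Fintype.ofFinite ι
  have one : ∀ x : p.ResidueField, ∃ s b : B, algebraMap B p.ResidueField s ≠ 0 ∧
      algebraMap B p.ResidueField s * x = algebraMap B p.ResidueField b := fun x => by
    obtain ⟨⟨y, s⟩, h⟩ :=
      IsLocalizedModule.surj p.primeCompl (IsScalarTower.toAlgHom C (C ⧸ p) p.ResidueField).toLinearMap x
    obtain ⟨y, rfl⟩ := Ideal.Quotient.mk_surjective y
    obtain ⟨s', hs'⟩ := hsurj s
    obtain ⟨b, hb⟩ := hsurj y
    refine ⟨s', b, ?_, ?_⟩
    · rw [IsScalarTower.algebraMap_apply B C p.ResidueField, hs']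
      exact fun h0 => s.2 (Ideal.algebraMap_residueField_eq_zero.mp h0)
    · rw [IsScalarTower.algebraMap_apply B C p.ResidueField, IsScalarTower.algebraMap_apply B C p.ResidueField, hs',
        ← Algebra.smul_def, hb]
      exact h
  choose s b hs hb using fun i => one (c i)
  refine ⟨∏ i, s i, fun i => (∏ k ∈ Finset.univ.erase i, s k) * b i, ?_, fun i => ?_⟩
  · rw [map_prod]
    exact Finset.prod_ne_zero_iff.mpr fun i _ => hs i
  · rw [← Finset.prod_erase_mul _ _ (Finset.mem_univ i), map_mul, map_mul, mul_assoc, hb]

theorem injective_of_det (p : Ideal C) [p.IsPrime] {m : ℕ} (f : Fin m → B) (D : Fin m → Derivation A B B)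
    (hf : ∀ i, f i ∈ RingHom.ker (algebraMap B C))
    (hgen : (RingHom.ker (algebraMap B C)).map (algebraMap B (Localization.AtPrime (p.comap (algebraMap B C)))) =
      Ideal.span (Set.range fun i => algebraMap B (Localization.AtPrime (p.comap (algebraMap B C))) (f i)))
    (hdet : Matrix.det (Matrix.of fun i j => D j (f i)) ∉ p.comap (algebraMap B C)) :
    Function.Injective ((kerCotangentToTensor A B C).lTensor p.ResidueField) := by
  classical
  let K := RingHom.ker (algebraMap B C)
  let q := p.comap (algebraMap B C)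
  let κ := p.ResidueField
  have hκ0 : ∀ x : B, algebraMap B κ x = 0 ↔ x ∈ q := fun x => by
    rw [IsScalarTower.algebraMap_apply B C κ]
    exact Ideal.algebraMap_residueField_eq_zero
  let e : Fin m → κ ⊗[B] K.Cotangent := fun i => (1 : κ) ⊗ₜ[B] K.toCotangent ⟨f i, hf i⟩
  have hone : ∀ x : K, ((1 : κ) ⊗ₜ[B] K.toCotangent x) ∈ Submodule.span κ (Set.range e) := by
    intro x
    have hx : algebraMap B (Localization.AtPrime q) (x : B) ∈
        (Ideal.span (Set.range f)).map (algebraMap B (Localization.AtPrime q)) := by
      rw [Ideal.map_span, ← Set.range_comp]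
      exact hgen ▸ Ideal.mem_map_of_mem _ x.2
    obtain ⟨⟨⟨a, ha⟩, s⟩, has⟩ := (IsLocalization.mem_map_algebraMap_iff q.primeCompl _).mp hx
    simp only at has
    rw [← map_mul] at has
    obtain ⟨t, ht⟩ := (IsLocalization.eq_iff_exists q.primeCompl _).mp has
    obtain ⟨c, hc⟩ := (Ideal.mem_span_range_iff_exists_fun (R := B) (v := f) (x := (t : B) * a)).mp
      (Ideal.mul_mem_left _ _ ha)
    let σ : B := (t : B) * (s : B)
    have hσ : algebraMap B κ σ ≠ 0 := fun h => by
      rcases (‹p.IsPrime›.comap (algebraMap B C)).mem_or_mem ((hκ0 _).mp h) with h1 | h1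
      · exact t.2 h1
      · exact s.2 h1
    have hsum : σ • x = ∑ i, c i • (⟨f i, hf i⟩ : K) := Subtype.ext (by
      rw [AddSubmonoidClass.coe_finsetSum]
      show σ * (x : B) = ∑ i, c i * f i
      rw [hc, ← ht]
      ring)
    have h1 : algebraMap B κ σ • ((1 : κ) ⊗ₜ[B] K.toCotangent x) = ∑ i, algebraMap B κ (c i) • e i := by
      simp only [algebraMap_smul, e]
      rw [← TensorProduct.tmul_smul, ← map_smul, hsum, map_sum, TensorProduct.tmul_sum]
      exact Finset.sum_congr rfl fun i _ => by rw [map_smul, TensorProduct.tmul_smul]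
    rw [← inv_smul_smul₀ hσ ((1 : κ) ⊗ₜ[B] K.toCotangent x), h1]
    exact Submodule.smul_mem _ _ (Submodule.sum_mem _ fun i _ => Submodule.smul_mem _ _ (Submodule.subset_span ⟨i, rfl⟩))
  have hspan : ∀ z : κ ⊗[B] K.Cotangent, z ∈ Submodule.span κ (Set.range e) := fun z => by
    induction z using TensorProduct.induction_on with
    | zero => exact zero_mem _
    | add x y hx hy => exact add_mem hx hy
    | tmul a v =>
      obtain ⟨x, rfl⟩ := K.toCotangent_surjective v
      rw [show a ⊗ₜ[B] K.toCotangent x = a • ((1 : κ) ⊗ₜ[B] K.toCotangent x) by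
        rw [TensorProduct.smul_tmul', smul_eq_mul, mul_one]]
      exact Submodule.smul_mem _ _ (hone x)
  let L : Fin m → (κ ⊗[B] (C ⊗[B] Ω[B⁄A])) →ₗ[κ] κ := fun j =>
    LinearMap.liftBaseChange κ ((LinearMap.liftBaseChange C
      ((Algebra.linearMap B κ).comp (D j).liftKaehlerDifferential)).restrictScalars B)
  have hLe : ∀ i j, L j ((kerCotangentToTensor A B C).baseChange κ (e i)) = algebraMap B κ (D j (f i)) := fun i j => by
    simp only [e, LinearMap.baseChange_tmul]
    rw [show kerCotangentToTensor A B C (K.toCotangent ⟨f i, hf i⟩) = (1 : C) ⊗ₜ[B] KaehlerDifferential.D A B (f i) from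
      KaehlerDifferential.kerCotangentToTensor_toCotangent A B C ⟨f i, hf i⟩]
    simp only [L, LinearMap.liftBaseChange_tmul, LinearMap.coe_restrictScalars, one_smul, LinearMap.comp_apply,
      Algebra.linearMap_apply, Derivation.liftKaehlerDifferential_comp_D]
  intro z z' hzz'
  rw [← sub_eq_zero]
  obtain ⟨c, hc⟩ := (Submodule.mem_span_range_iff_exists_fun κ).mp (hspan (z - z'))
  have h0 : (kerCotangentToTensor A B C).baseChange κ (z - z') = 0 := by
    rw [LinearMap.baseChange_eq_ltensor, map_sub]
    exact sub_eq_zero.mpr hzz'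
  let Mb : Matrix (Fin m) (Fin m) κ := (algebraMap B κ).mapMatrix (Matrix.of fun i j => D j (f i))
  have hMb : Mb.det ≠ 0 := by
    rw [← RingHom.map_det]
    exact fun h => hdet ((hκ0 _).mp h)
  have hc0 : Matrix.vecMul c Mb = 0 := funext fun j => by
    have h1 := congrArg (L j) h0
    rw [← hc, map_sum, map_sum, map_zero] at h1
    simp only [map_smul, hLe, smul_eq_mul] at h1
    exact h1
  rw [← hc, Matrix.eq_zero_of_vecMul_eq_zero hMb hc0]
  simp

theorem exists_det_of_injective [Algebra.FormallySmooth A B] (hsurj : Function.Surjective (algebraMap B C))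
    (hK : (RingHom.ker (algebraMap B C)).FG) (p : Ideal C) [p.IsPrime]
    (h : Function.Injective ((kerCotangentToTensor A B C).lTensor p.ResidueField)) :
    ∃ (m : ℕ) (f : Fin m → B) (D : Fin m → Derivation A B B),
      (∀ i, f i ∈ RingHom.ker (algebraMap B C)) ∧
      (RingHom.ker (algebraMap B C)).map (algebraMap B (Localization.AtPrime (p.comap (algebraMap B C)))) =
        Ideal.span (Set.range fun i => algebraMap B (Localization.AtPrime (p.comap (algebraMap B C))) (f i)) ∧
      Matrix.det (Matrix.of fun i j => D j (f i)) ∉ p.comap (algebraMap B C) := by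
  classical
  let K := RingHom.ker (algebraMap B C)
  let q := p.comap (algebraMap B C)
  let κ := p.ResidueField
  haveI : Module.Finite B K := Module.Finite.iff_fg.mpr hK
  haveI : Module.Finite B K.Cotangent := Module.Finite.of_surjective _ K.toCotangent_surjective
  let W := κ ⊗[B] K.Cotangent
  haveI : Module.Finite κ W := Module.Finite.base_change B κ _
  let S : Set W := Set.range fun x : K => (1 : κ) ⊗ₜ[B] K.toCotangent x
  have hS : Submodule.span κ S = ⊤ := by
    refine Submodule.eq_top_iff'.mpr fun z => ?_
    induction z using TensorProduct.induction_on with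
    | zero => exact zero_mem _
    | add x y hx hy => exact add_mem hx hy
    | tmul a v =>
      obtain ⟨x, rfl⟩ := K.toCotangent_surjective v
      rw [show a ⊗ₜ[B] K.toCotangent x = a • ((1 : κ) ⊗ₜ[B] K.toCotangent x) by
        rw [TensorProduct.smul_tmul', smul_eq_mul, mul_one]]
      exact Submodule.smul_mem _ _ (Submodule.subset_span ⟨x, rfl⟩)
  obtain ⟨bs, hbS, hspan, hli⟩ := exists_linearIndependent κ S
  haveI : Fintype bs := hli.setFinite.fintype
  let m := Fintype.card bs
  let ε := (Fintype.equivFin bs).symm
  choose x hx using fun i => hbS (ε i).2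
  let f : Fin m → B := fun i => (x i : B)
  let e : Fin m → W := fun i => (1 : κ) ⊗ₜ[B] K.toCotangent (x i)
  have heS : Set.range e = bs := by
    ext w
    constructor
    · rintro ⟨i, rfl⟩
      exact (show e i = (ε i : W) from hx i) ▸ (ε i).2
    · intro hw
      exact ⟨ε.symm ⟨w, hw⟩, (hx _).trans (by rw [ε.apply_symm_apply])⟩
  have hlie : LinearIndependent κ e := by
    have h1 : e = Subtype.val ∘ ε := funext fun i => hx i
    rw [h1]
    exact hli.comp ε ε.injective
  -- Nakayama
  have hgen : K.map (algebraMap B (Localization.AtPrime q)) =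
      Ideal.span (Set.range fun i => algebraMap B (Localization.AtPrime q) (f i)) := by
    let θ : q.ResidueField ≃ₐ[B] κ := AlgEquiv.ofBijective (Ideal.ResidueField.mapₐ q p (Algebra.ofId B C) rfl)
      ((RingHom.surjectiveOnStalks_of_surjective (f := algebraMap B C) hsurj).residueFieldMap_bijective q p rfl)
    let I := K.map (algebraMap B (Localization.AtPrime q))
    let N := Ideal.span (Set.range fun i => algebraMap B (Localization.AtPrime q) (f i))
    have hNI : N ≤ I := Ideal.span_le.mpr (by
      rintro _ ⟨i, rfl⟩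
      exact Ideal.mem_map_of_mem _ (x i).2)
    refine le_antisymm (Submodule.le_of_le_smul_of_le_jacobson_bot (hK.map _) (maximalIdeal_le_jacobson ⊥) ?_) hNI
    refine Ideal.map_le_iff_le_comap.mpr fun y hy => ?_
    obtain ⟨c, hc⟩ := (Submodule.mem_span_range_iff_exists_fun κ).mp (by
      rw [heS, hspan, hS]; exact Submodule.mem_top : ((1 : κ) ⊗ₜ[B] K.toCotangent ⟨y, hy⟩) ∈ Submodule.span κ (Set.range e))
    obtain ⟨s, a, hs, ha⟩ := exists_clear hsurj p c
    let z : K := s • ⟨y, hy⟩ - ∑ i, a i • x i
    have hz : (1 : κ) ⊗ₜ[B] K.toCotangent z = 0 := by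
      simp only [z, map_sub, map_sum, map_smul, TensorProduct.tmul_sub, TensorProduct.tmul_sum, TensorProduct.tmul_smul]
      rw [sub_eq_zero, ← algebraMap_smul κ s, ← hc, Finset.smul_sum]
      exact Finset.sum_congr rfl fun i _ => by rw [smul_smul, ha, algebraMap_smul]
    have hz' : (1 : q.ResidueField) ⊗ₜ[B] K.toCotangent z = (1 : q.ResidueField) ⊗ₜ[B] (0 : K.Cotangent) := by
      refine (TensorProduct.congr θ.toLinearEquiv (LinearEquiv.refl B K.Cotangent)).injective ?_
      simp only [TensorProduct.congr_tmul, TensorProduct.tmul_zero, map_zero]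
      show θ 1 ⊗ₜ[B] K.toCotangent z = 0
      rw [map_one]
      exact hz
    obtain ⟨t, ht, htz⟩ := LeftInverse.exists_smul_mem_of_one_tmul_eq q hz'
    rw [smul_zero, sub_zero] at htz
    have h5 : ((t • z : K) : B) ∈ q * K := by
      have h3 : q • (⊤ : Submodule B K.Cotangent) = (q • (⊤ : Submodule B K)).map K.toCotangent := by
        rw [Submodule.map_smul'', Submodule.map_top, LinearMap.range_eq_top.mpr K.toCotangent_surjective]
      rw [h3] at htz
      obtain ⟨w, hw, hwz⟩ := htz
      rw [← map_smul, Ideal.toCotangent_eq] at hwz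
      have hw' := Submodule.mem_map_of_mem (f := Submodule.subtype K) hw
      rw [Submodule.map_smul'', Submodule.map_top, Submodule.range_subtype] at hw'
      have hKq : K ≤ q := fun b (hb : algebraMap B C b = 0) => by
        show algebraMap B C b ∈ p
        rw [hb]; exact zero_mem p
      have h4 : (w : B) - ((t • z : K) : B) ∈ q * K := Ideal.mul_mono_left hKq (pow_two K ▸ hwz)
      simpa using sub_mem hw' h4
    have h6 := Ideal.mem_map_of_mem (algebraMap B (Localization.AtPrime q)) h5
    rw [Ideal.map_mul, Localization.AtPrime.map_eq_maximalIdeal] at h6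
    have hu : IsUnit (algebraMap B (Localization.AtPrime q) (t * s)) := by
      refine IsLocalization.map_units (Localization.AtPrime q) (⟨t * s, ?_⟩ : q.primeCompl)
      refine fun hts => ((‹p.IsPrime›.comap (algebraMap B C)).mem_or_mem hts).elim ht fun hsq => hs ?_
      rw [IsScalarTower.algebraMap_apply B C κ]
      exact Ideal.algebraMap_residueField_eq_zero.mpr hsq
    show algebraMap B (Localization.AtPrime q) y ∈ N ⊔ maximalIdeal _ • I
    refine (Ideal.unit_mul_mem_iff_mem _ hu).mp ?_
    have h7 : algebraMap B (Localization.AtPrime q) (t * s) * algebraMap B _ y =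
        algebraMap B _ t * (∑ i, algebraMap B _ (a i) * algebraMap B _ (f i)) +
          algebraMap B _ ((t • z : K) : B) := by
      have h8 : ((t • z : K) : B) = t * (s * y - ∑ i, a i * f i) := by
        simp only [z, Submodule.coe_smul, AddSubgroupClass.coe_sub, AddSubmonoidClass.coe_finsetSum, smul_eq_mul]
        rfl
      rw [h8]
      simp only [map_mul, map_sub, map_sum]
      ring
    rw [h7]
    exact Submodule.add_mem_sup
      (N.mul_mem_left _ (N.sum_mem fun i _ => N.mul_mem_left _ (Ideal.subset_span ⟨i, rfl⟩))) h6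
  -- derivations
  let g : (Fin m → B) →ₗ[B] Ω[B⁄A] := Fintype.linearCombination B fun i => KaehlerDifferential.D A B (f i)
  obtain ⟨n, a, b, hab⟩ := LeftInverse.exists_reduction g
  have hab' : ∀ i, b (a (KaehlerDifferential.D A B (f i))) = KaehlerDifferential.D A B (f i) := fun i => by
    have h1 : g (Pi.single i 1) = KaehlerDifferential.D A B (f i) := by
      rw [Fintype.linearCombination_apply_single, one_smul]
    rw [← h1]
    exact LinearMap.congr_fun hab (Pi.single i 1)
  let P : Fin m → (Fin n → κ) := fun i k => algebraMap B κ (a (KaehlerDifferential.D A B (f i)) k)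
  have hP : LinearIndependent κ P := by
    rw [Fintype.linearIndependent_iff]
    intro c hc
    refine Fintype.linearIndependent_iff.mp hlie c (h ?_)
    rw [map_zero]
    have h1 : ∀ i, (kerCotangentToTensor A B C).baseChange κ (e i) =
        ∑ k, P i k • ((1 : κ) ⊗ₜ[B] ((1 : C) ⊗ₜ[B] b (Pi.single k 1))) := fun i => by
      simp only [e, LinearMap.baseChange_tmul]
      rw [show kerCotangentToTensor A B C (K.toCotangent (x i)) = (1 : C) ⊗ₜ[B] KaehlerDifferential.D A B (f i) from
        KaehlerDifferential.kerCotangentToTensor_toCotangent A B C (x i)]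
      simp only [P, algebraMap_smul,
        ← TensorProduct.tmul_smul, ← map_smul, ← TensorProduct.tmul_sum, ← map_sum]
      congr 2
      refine (hab' i).symm.trans (congrArg b ?_)
      exact (Finset.univ_sum_single (a (KaehlerDifferential.D A B (f i)))).symm.trans
        (Finset.sum_congr rfl fun k _ => by rw [← Pi.single_smul, smul_eq_mul, mul_one])
    rw [← LinearMap.baseChange_eq_ltensor, map_sum]
    simp only [map_smul]
    refine (Finset.sum_congr rfl fun i _ => congrArg (c i • ·) (h1 i)).trans ?_
    simp only [Finset.smul_sum, smul_smul]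
    rw [Finset.sum_comm]
    refine Finset.sum_eq_zero fun k _ => ?_
    rw [← Finset.sum_smul]
    have h2 := congrFun hc k
    simp only [Finset.sum_apply, Pi.smul_apply, smul_eq_mul, Pi.zero_apply] at h2
    rw [h2, zero_smul]
  obtain ⟨φ, hφ⟩ := (Fintype.linearCombination κ P).exists_leftInverse_of_injective
    (LinearMap.ker_eq_bot.mpr hP.fintypeLinearCombination_injective)
  obtain ⟨s, Q, hs, hQ⟩ := exists_clear hsurj p fun x : Fin n × Fin m => φ (Pi.single x.1 1) x.2
  let D : Fin m → Derivation A B B := fun j =>
    ((∑ k, Q (k, j) • LinearMap.proj k) ∘ₗ a).compDer (KaehlerDifferential.D A B)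
  refine ⟨m, f, D, fun i => (x i).2, hgen, ?_⟩
  have hPφ : ∀ i j, ∑ k, P i k * φ (Pi.single k 1) j = if j = i then 1 else 0 := fun i j => by
    have h1 : φ (P i) = Pi.single i 1 := by
      have h2 := LinearMap.congr_fun hφ (Pi.single i 1)
      rwa [LinearMap.comp_apply, Fintype.linearCombination_apply_single, one_smul] at h2
    have h3 : P i = ∑ k, P i k • (Pi.single k 1 : Fin n → κ) :=
      (Finset.univ_sum_single (P i)).symm.trans
        (Finset.sum_congr rfl fun k _ => by rw [← Pi.single_smul, smul_eq_mul, mul_one])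
    rw [h3, map_sum] at h1
    have h4 := congrFun h1 j
    simp only [map_smul, Finset.sum_apply, Pi.smul_apply, smul_eq_mul, Pi.single_apply] at h4
    exact h4
  intro hmem
  have h0 : algebraMap B κ (Matrix.det (Matrix.of fun i j => D j (f i))) = 0 := by
    rw [IsScalarTower.algebraMap_apply B C κ]
    exact Ideal.algebraMap_residueField_eq_zero.mpr hmem
  rw [RingHom.map_det] at h0
  have h5 : (algebraMap B κ).mapMatrix (Matrix.of fun i j => D j (f i)) = algebraMap B κ s • (1 : Matrix (Fin m) (Fin m) κ) := by
    ext i j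
    rw [RingHom.mapMatrix_apply, Matrix.map_apply, Matrix.of_apply, Matrix.smul_apply, Matrix.one_apply, smul_eq_mul]
    show algebraMap B κ ((∑ k, Q (k, j) • LinearMap.proj k : (Fin n → B) →ₗ[B] B) (a (KaehlerDifferential.D A B (f i)))) = _
    simp only [LinearMap.sum_apply, LinearMap.smul_apply, LinearMap.proj_apply, smul_eq_mul, map_sum, map_mul, ← hQ]
    rw [show (if i = j then (1 : κ) else 0) = if j = i then 1 else 0 by simp only [eq_comm], ← hPφ i j, Finset.mul_sum]
    exact Finset.sum_congr rfl fun k _ =>
      (congrArg (· * algebraMap B κ (a (KaehlerDifferential.D A B (f i)) k)) (hQ (k, j)).symm).trans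
        ((mul_assoc _ _ _).trans (congrArg (algebraMap B κ s * ·) (mul_comm _ _)))
  rw [h5, Matrix.det_smul, Matrix.det_one, mul_one] at h0
  exact hs (eq_zero_of_pow_eq_zero h0)

theorem formallySmooth_iff_det [Algebra.FormallySmooth A B] (hsurj : Function.Surjective (algebraMap B C))
    (hK : (RingHom.ker (algebraMap B C)).FG) (p : Ideal C) [p.IsPrime] :
    Algebra.FormallySmooth A (Localization.AtPrime p) ↔
    ∃ (m : ℕ) (f : Fin m → B) (D : Fin m → Derivation A B B),
      (∀ i, f i ∈ RingHom.ker (algebraMap B C)) ∧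
      (RingHom.ker (algebraMap B C)).map (algebraMap B (Localization.AtPrime (p.comap (algebraMap B C)))) =
        Ideal.span (Set.range fun i => algebraMap B (Localization.AtPrime (p.comap (algebraMap B C))) (f i)) ∧
      Matrix.det (Matrix.of fun i j => D j (f i)) ∉ p.comap (algebraMap B C) := by
  haveI : Module.Finite B (RingHom.ker (algebraMap B C)) := Module.Finite.iff_fg.mpr hK
  haveI : Module.Finite B (RingHom.ker (algebraMap B C)).Cotangent :=
    Module.Finite.of_surjective _ (Ideal.toCotangent_surjective _)
  have T : Algebra.FormallySmooth A (Localization.AtPrime p) ↔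
      Function.Injective ((kerCotangentToTensor A B C).lTensor p.ResidueField) :=
    (LocJacobi.tfae_localization (A := A) hsurj p).out 0 1
  rw [T]
  exact ⟨exists_det_of_injective hsurj hK p, fun ⟨m, f, D, h1, h2, h3⟩ => injective_of_det p f D h1 h2 h3⟩

/-- The form for an ideal of the base ring and a prime over it. -/
theorem formallySmooth_quotient_iff_det {R : Type u} [CommRing R] [Algebra A R] [IsNoetherianRing R]
    [Algebra.FormallySmooth A R] (J q : Ideal R) [q.IsPrime] (hJq : J ≤ q)
    [(q.map (Ideal.Quotient.mk J)).IsPrime] :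
    Algebra.FormallySmooth A (Localization.AtPrime (q.map (Ideal.Quotient.mk J))) ↔
      ∃ (m : ℕ) (f : Fin m → R) (D : Fin m → Derivation A R R),
        (∀ i, f i ∈ J) ∧
        J.map (algebraMap R (Localization.AtPrime q)) =
          Ideal.span (Set.range fun i => algebraMap R (Localization.AtPrime q) (f i)) ∧
        Matrix.det (Matrix.of fun i j => D j (f i)) ∉ q := by
  have hq : q = (q.map (Ideal.Quotient.mk J)).comap (algebraMap R (R ⧸ J)) := by
    refine ((Ideal.comap_map_of_surjective _ Ideal.Quotient.mk_surjective q).trans (sup_of_le_left ?_)).symm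
    rw [← RingHom.ker_eq_comap_bot, Ideal.mk_ker]
    exact hJq
  have hker : RingHom.ker (algebraMap R (R ⧸ J)) = J := Ideal.mk_ker
  have key := formallySmooth_iff_det (A := A) (B := R) (C := R ⧸ J) Ideal.Quotient.mk_surjective
    (IsNoetherian.noetherian _) (q.map (Ideal.Quotient.mk J))
  have aux : ∀ (Q : Ideal R) [Q.IsPrime], Q = (q.map (Ideal.Quotient.mk J)).comap (algebraMap R (R ⧸ J)) →
      (Algebra.FormallySmooth A (Localization.AtPrime (q.map (Ideal.Quotient.mk J))) ↔
        ∃ (m : ℕ) (f : Fin m → R) (D : Fin m → Derivation A R R),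
          (∀ i, f i ∈ RingHom.ker (algebraMap R (R ⧸ J))) ∧
          (RingHom.ker (algebraMap R (R ⧸ J))).map (algebraMap R (Localization.AtPrime Q)) =
            Ideal.span (Set.range fun i => algebraMap R (Localization.AtPrime Q) (f i)) ∧
          Matrix.det (Matrix.of fun i j => D j (f i)) ∉ Q) := fun Q _ hQ => by
    subst hQ; exact key
  simpa only [hker] using aux q hq

end Groth.L06.DetJacobi
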