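import Groth.Agent.L06.FormSmoothPBasis
import Mathlib.RingTheory.Kaehler.Basic
import Mathlib.LinearAlgebra.TensorProduct.Tower
import Mathlib.LinearAlgebra.Basis.VectorSpace

/-! Absolute differentials against differentials relative to a decreasing family of subfields. -/

set_option autoImplicit false
set_option maxSynthPendingDepth 3
set_option linter.style.haveILetI false
universe u

namespace Groth.L06.PBasis

open scoped TensorProduct
open KaehlerDifferential (mapBaseChange)

section

variable (R : Type*) (k A : Type u) [CommRing R] [Field k] [CommRing A] [Algebra R k] [Algebra k A] [Algebra R A]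
  [IsScalarTower R k A] (K : Type u) [CommRing K] [Algebra A K] [Algebra k K] [IsScalarTower k A K]

/-- `K ⊗ Ω_k → K ⊗ Ω_A` -/
noncomputable def fieldMap : K ⊗[k] Ω[k⁄R] →ₗ[K] K ⊗[A] Ω[A⁄R] :=
  LinearMap.liftBaseChange K
    (((TensorProduct.mk A K Ω[A⁄R] 1).restrictScalars k).comp (KaehlerDifferential.map R R k A))

theorem fieldMap_tmul (c : K) (ω : Ω[k⁄R]) :
    fieldMap R k A K (c ⊗ₜ ω) = c ⊗ₜ KaehlerDifferential.map R R k A ω := by
  rw [fieldMap, LinearMap.liftBaseChange_tmul]
  show c • ((1 : K) ⊗ₜ[A] _) = _
  rw [TensorProduct.smul_tmul', smul_eq_mul, mul_one]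

theorem injective_iff_fieldMap :
    Function.Injective ((mapBaseChange R k A).lTensor K) ↔ Function.Injective (fieldMap R k A K) := by
  let e := TensorProduct.AlgebraTensorModule.cancelBaseChange k A K K Ω[k⁄R]
  have h : ⇑(fieldMap R k A K) ∘ ⇑e = ⇑((mapBaseChange R k A).lTensor K) := by
    funext z
    induction z using TensorProduct.induction_on with
    | zero => simp
    | add x y hx hy => simp only [Function.comp_apply, map_add] at hx hy ⊢; rw [hx, hy]
    | tmul c w =>
      induction w using TensorProduct.induction_on with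
      | zero => simp
      | add x y hx hy =>
        simp only [Function.comp_apply] at hx hy ⊢
        rw [TensorProduct.tmul_add, map_add, map_add, map_add, hx, hy]
      | tmul a v =>
        simp only [Function.comp_apply, e, TensorProduct.AlgebraTensorModule.cancelBaseChange_tmul, LinearMap.lTensor_tmul,
          KaehlerDifferential.mapBaseChange_tmul]
        rw [fieldMap_tmul, ← TensorProduct.smul_tmul]
  rw [← h, Function.Injective.of_comp_iff' _ e.bijective]

end

section

variable (R : Type*) (Λ k A : Type u) [CommRing R] [CommRing Λ] [Field k] [CommRing A] [Algebra R Λ] [Algebra Λ k]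
  [Algebra R k] [IsScalarTower R Λ k] [Algebra k A] [Algebra R A] [IsScalarTower R k A] [Algebra Λ A]
  [IsScalarTower Λ k A] [IsScalarTower R Λ A] (K : Type u) [Field K] [Algebra A K] [Algebra k K] [IsScalarTower k A K]

/-- `K ⊗ Ω_{k/R} → K ⊗ Ω_{k/Λ}` -/
noncomputable def relMap : K ⊗[k] Ω[k⁄R] →ₗ[K] K ⊗[k] Ω[k⁄Λ] :=
  (KaehlerDifferential.map R Λ k k).baseChange K

theorem relMap_surjective : Function.Surjective (relMap R Λ k K) :=
  LinearMap.lTensor_surjective K (KaehlerDifferential.map_surjective R Λ k)

theorem relMap_D (c : K) (x : k) : relMap R Λ k K (c ⊗ₜ KaehlerDifferential.D R k x) = c ⊗ₜ KaehlerDifferential.D Λ k x := by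
  rw [relMap, LinearMap.baseChange_tmul, KaehlerDifferential.map_D]
  rfl

theorem fieldMap_relMap (z : K ⊗[k] Ω[k⁄R]) :
    fieldMap Λ k A K (relMap R Λ k K z) =
      (KaehlerDifferential.map R Λ A A).lTensor K (fieldMap R k A K z) := by
  induction z using TensorProduct.induction_on with
  | zero => simp
  | add x y hx hy => simp only [map_add, hx, hy]
  | tmul c ω =>
    have hω : ω ∈ Submodule.span k (Set.range (KaehlerDifferential.D R k)) := by
      rw [KaehlerDifferential.span_range_derivation]; trivial
    rw [relMap, LinearMap.baseChange_tmul, fieldMap_tmul, fieldMap_tmul, LinearMap.lTensor_tmul]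
    congr 1
    induction hω using Submodule.span_induction with
    | mem x hx =>
      obtain ⟨y, rfl⟩ := hx
      simp only [KaehlerDifferential.map_D, Algebra.algebraMap_self, RingHom.id_apply]
    | zero => simp
    | add x y _ _ hx hy => simp only [map_add, hx, hy]
    | smul r x _ hx =>
      rw [map_smul, map_smul, hx, map_smul, ← algebraMap_smul A r (KaehlerDifferential.map R R k A x), map_smul,
        algebraMap_smul]

theorem injective_rel_of_injective (h : Function.Injective (fieldMap R k A K)) :
    Function.Injective (fieldMap Λ k A K) := by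
  obtain ⟨r, hr⟩ := LinearMap.exists_leftInverse_of_injective (fieldMap R k A K) (LinearMap.ker_eq_bot.mpr h)
  let q := relMap R Λ k K
  letI : Module A (K ⊗[k] Ω[k⁄Λ]) := TensorProduct.leftModule
  letI : Module R (K ⊗[k] Ω[k⁄Λ]) := Module.compHom _ (algebraMap R A)
  haveI : IsScalarTower R A (K ⊗[k] Ω[k⁄Λ]) := IsScalarTower.of_algebraMap_smul fun _ _ => rfl
  letI : Module Λ (K ⊗[k] Ω[k⁄Λ]) := Module.compHom _ (algebraMap Λ A)
  haveI : IsScalarTower Λ A (K ⊗[k] Ω[k⁄Λ]) := IsScalarTower.of_algebraMap_smul fun _ _ => rfl
  let G : Ω[A⁄R] →ₗ[A] K ⊗[k] Ω[k⁄Λ] :=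
    ((q.comp r).restrictScalars A).comp (TensorProduct.mk A K Ω[A⁄R] 1)
  let D : Derivation R A (K ⊗[k] Ω[k⁄Λ]) := G.compDer (KaehlerDifferential.D R A)
  have hD : ∀ x : k, D (algebraMap k A x) = (1 : K) ⊗ₜ[k] KaehlerDifferential.D Λ k x := fun x => by
    show q (r ((1 : K) ⊗ₜ[A] KaehlerDifferential.D R A (algebraMap k A x))) = _
    rw [show (1 : K) ⊗ₜ[A] KaehlerDifferential.D R A (algebraMap k A x) =
      fieldMap R k A K ((1 : K) ⊗ₜ[k] KaehlerDifferential.D R k x) by rw [fieldMap_tmul, KaehlerDifferential.map_D],
      show r (fieldMap R k A K _) = _ from LinearMap.congr_fun hr _, LinearMap.id_apply, relMap_D]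
  have hΛ : ∀ l : Λ, D (algebraMap Λ A l) = 0 := fun l => by
    rw [IsScalarTower.algebraMap_apply Λ k A, hD, Derivation.map_algebraMap, TensorProduct.tmul_zero]
  let DΛ : Derivation Λ A (K ⊗[k] Ω[k⁄Λ]) := Derivation.mk'
    { toFun := D
      map_add' := map_add D
      map_smul' := fun l a => by
        show D (l • a) = l • D a
        rw [Algebra.smul_def, D.leibniz, hΛ, smul_zero, add_zero, algebraMap_smul] } D.leibniz
  let rΛ : K ⊗[A] Ω[A⁄Λ] →ₗ[K] K ⊗[k] Ω[k⁄Λ] := LinearMap.liftBaseChange K DΛ.liftKaehlerDifferential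
  have hkey : ∀ z, rΛ (fieldMap Λ k A K z) = z := by
    intro z
    induction z using TensorProduct.induction_on with
    | zero => simp
    | add x y hx hy => rw [map_add, map_add, hx, hy]
    | tmul c ω =>
      have hω : ω ∈ Submodule.span k (Set.range (KaehlerDifferential.D Λ k)) := by
        rw [KaehlerDifferential.span_range_derivation]; trivial
      rw [fieldMap_tmul, LinearMap.liftBaseChange_tmul]
      rw [show c ⊗ₜ[k] ω = c • ((1 : K) ⊗ₜ[k] ω) by rw [TensorProduct.smul_tmul', smul_eq_mul, mul_one]]
      congr 1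
      induction hω using Submodule.span_induction with
      | mem x hx =>
        obtain ⟨y, rfl⟩ := hx
        rw [KaehlerDifferential.map_D, Derivation.liftKaehlerDifferential_comp_D]
        exact hD y
      | zero => simp
      | add x y _ _ hx hy => rw [map_add, map_add, hx, hy, TensorProduct.tmul_add]
      | smul a x _ hx =>
        rw [map_smul, ← algebraMap_smul A a (KaehlerDifferential.map Λ Λ k A x), map_smul, hx,
          TensorProduct.smul_tmul', TensorProduct.tmul_smul, TensorProduct.smul_tmul', algebraMap_smul]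
  exact fun x y hxy => (hkey x).symm.trans ((congrArg rΛ hxy).trans (hkey y))

end

section

variable {k : Type u} [Field k] (p : ℕ) [Fact p.Prime] [CharP k p] {ι : Type*} [Preorder ι]
  [IsDirected ι (fun a b => a ≤ b)] [Nonempty ι]

theorem eq_zero_of_relMap (R : Type) [CommRing R] [Algebra R k] (kα : ι → Subfield k) (hanti : Antitone kα)
    (hint : ⨅ α, (kα α ⊔ (frobenius k p).fieldRange) = (frobenius k p).fieldRange)
    [∀ α, Algebra R (kα α)] [∀ α, IsScalarTower R (kα α) k] (K : Type u) [Field K] [Algebra k K]
    (z : K ⊗[k] Ω[k⁄R]) (hz : ∀ α, relMap R (kα α) k K z = 0) : z = 0 := by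
  classical
  let D₀ := KaehlerDifferential.D R k
  let G : ι → Subfield k := fun α => kα α ⊔ (frobenius k p).fieldRange
  have hGp : ∀ α (x : k), x ^ p ∈ G α := fun α x => (le_sup_right (a := kα α) : _ ≤ G α) ⟨x, rfl⟩
  have key : ∀ (s : Finset k) (c : k → K),
      (∀ α, relMap R (kα α) k K (∑ x ∈ s, c x ⊗ₜ[k] D₀ x) = 0) → ∑ x ∈ s, c x ⊗ₜ[k] D₀ x = 0 := by
    intro s
    induction s using Finset.induction_on with
    | empty => simp
    | insert a s ha ih =>
      intro c hc
      by_cases hmem : ∀ α, a ∈ G α ⊔ Subfield.closure (s : Set k)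
      · have h1 := mem_sup_closure_of_forall p G (fun α β h => sup_le_sup_right (hanti h) _) hGp s a hmem
        rw [hint] at h1
        let W : Submodule k Ω[k⁄R] := Submodule.span k (D₀ '' (s : Set k))
        let S : Subfield k :=
          { carrier := {y | D₀ y ∈ W}
            one_mem' := by show D₀ 1 ∈ W; rw [D₀.map_one_eq_zero]; exact zero_mem _
            zero_mem' := by show D₀ 0 ∈ W; rw [map_zero]; exact zero_mem _
            add_mem' := fun {x y} (hx : D₀ x ∈ W) (hy : D₀ y ∈ W) => by show D₀ (x + y) ∈ W; rw [map_add]; exact add_mem hx hy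
            neg_mem' := fun {x} (hx : D₀ x ∈ W) => by show D₀ (-x) ∈ W; rw [map_neg]; exact neg_mem hx
            mul_mem' := fun {x y} (hx : D₀ x ∈ W) (hy : D₀ y ∈ W) => by
              show D₀ (x * y) ∈ W
              rw [D₀.leibniz]
              exact add_mem (W.smul_mem x hy) (W.smul_mem y hx)
            inv_mem' := fun x (hx : D₀ x ∈ W) => by show D₀ x⁻¹ ∈ W; rw [D₀.leibniz_inv]; exact W.smul_mem _ hx }
        have hle : (frobenius k p).fieldRange ⊔ Subfield.closure (s : Set k) ≤ S := sup_le (by
          rintro _ ⟨x, rfl⟩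
          show D₀ (x ^ p) ∈ W
          rw [Derivation.leibniz_pow, ← Nat.cast_smul_eq_nsmul k, CharP.cast_eq_zero, zero_smul]
          exact zero_mem _) (Subfield.closure_le.mpr fun x hx => Submodule.subset_span ⟨x, hx, rfl⟩)
        obtain ⟨d, hd⟩ : ∃ d : k → k, ∑ x ∈ s, d x • D₀ x = D₀ a := by
          have : D₀ a ∈ Submodule.span k (D₀ '' (s : Set k)) := hle h1
          rw [Submodule.mem_span_image_finset_iff_exists_fun] at this
          obtain ⟨d, hd⟩ := this
          refine ⟨fun x => if hx : x ∈ s then d ⟨x, hx⟩ else 0, ?_⟩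
          rw [← hd, ← Finset.sum_coe_sort s]
          exact Finset.sum_congr rfl fun x _ => by simp [x.2]
        have heq : ∀ c : k → K, ∑ x ∈ insert a s, c x ⊗ₜ[k] D₀ x = ∑ x ∈ s, (c x + d x • c a) ⊗ₜ[k] D₀ x := fun c => by
          rw [Finset.sum_insert ha, ← hd, TensorProduct.tmul_sum, ← Finset.sum_add_distrib]
          refine Finset.sum_congr rfl fun x _ => ?_
          rw [TensorProduct.add_tmul, TensorProduct.smul_tmul, add_comm]
        rw [heq]
        exact ih _ fun α => by rw [← heq]; exact hc α
      · obtain ⟨α, hα⟩ := not_forall.mp hmem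
        obtain ⟨D, hD0, hDa⟩ := exists_der_killing p (G α ⊔ Subfield.closure (s : Set k))
          (fun x => (le_sup_left (b := Subfield.closure (s : Set k)) : G α ≤ _) (hGp α x)) hα
        have hDΛ : ∀ l : kα α, D (l : k) = 0 := fun l =>
          hD0 _ ((le_sup_left.trans le_sup_left : kα α ≤ G α ⊔ Subfield.closure (s : Set k)) l.2)
        let DΛ : Derivation (kα α) k k := Derivation.mk'
          { toFun := D
            map_add' := map_add D
            map_smul' := fun l x => by
              show D ((l : k) * x) = (l : k) * D x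
              rw [D.leibniz, hDΛ, smul_zero, add_zero]
              rfl } D.leibniz
        let φ : K ⊗[k] Ω[k⁄kα α] →ₗ[K] K :=
          (TensorProduct.AlgebraTensorModule.rid k K K).toLinearMap.comp (DΛ.liftKaehlerDifferential.baseChange K)
        have hφ : ∀ (e : K) (x : k), φ (relMap R (kα α) k K (e ⊗ₜ D₀ x)) = D x • e := fun e x => by
          rw [relMap_D]
          show TensorProduct.AlgebraTensorModule.rid k K K (e ⊗ₜ DΛ.liftKaehlerDifferential _) = _
          rw [Derivation.liftKaehlerDifferential_comp_D, TensorProduct.AlgebraTensorModule.rid_tmul]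
          rfl
        have h1 := congrArg φ (hc α)
        rw [map_sum, map_sum, map_zero, Finset.sum_insert ha, hφ, hDa, one_smul,
          Finset.sum_eq_zero fun x hx => by
            rw [hφ, hD0 x ((le_sup_right : Subfield.closure (s : Set k) ≤ _) (Subfield.subset_closure hx)), zero_smul],
          add_zero] at h1
        rw [Finset.sum_insert ha, h1, TensorProduct.zero_tmul, zero_add]
        refine ih c fun β => ?_
        have h2 := hc β
        rwa [Finset.sum_insert ha, h1, TensorProduct.zero_tmul, zero_add] at h2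
  obtain ⟨s, c, rfl⟩ : ∃ (s : Finset k) (c : k → K), z = ∑ x ∈ s, c x ⊗ₜ[k] D₀ x := by
    have hzs : ∀ z : K ⊗[k] Ω[k⁄R], ∃ f : k →₀ K, z = f.sum fun x e => e ⊗ₜ[k] D₀ x := by
      intro z
      induction z using TensorProduct.induction_on with
      | zero => exact ⟨0, by simp⟩
      | add x y hx hy =>
        obtain ⟨f, rfl⟩ := hx
        obtain ⟨g, rfl⟩ := hy
        exact ⟨f + g, (Finsupp.sum_add_index' (by simp) fun _ _ _ => TensorProduct.add_tmul ..).symm⟩
      | tmul e ω =>
        obtain ⟨g, rfl⟩ := KaehlerDifferential.linearCombination_surjective R k ω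
        refine ⟨g.mapRange (fun r => r • e) (zero_smul k e), ?_⟩
        rw [Finsupp.sum_mapRange_index (fun x => by rw [TensorProduct.zero_tmul]), Finsupp.linearCombination_apply,
          Finsupp.sum, TensorProduct.tmul_sum]
        exact Finset.sum_congr rfl fun x _ => (TensorProduct.smul_tmul _ _ _).symm
    obtain ⟨f, hf⟩ := hzs z
    exact ⟨f.support, f, hf⟩
  exact key s c hz

theorem injective_iff_eventually (R : Type) [CommRing R] [Algebra R k] (kα : ι → Subfield k) (hanti : Antitone kα)
    (hint : ⨅ α, (kα α ⊔ (frobenius k p).fieldRange) = (frobenius k p).fieldRange)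
    [∀ α, Algebra R (kα α)] [∀ α, IsScalarTower R (kα α) k] (A : Type u) [CommRing A] [Algebra k A] [Algebra R A]
    [IsScalarTower R k A] (K : Type u) [Field K] [Algebra A K] :
    Function.Injective ((mapBaseChange R k A).lTensor K) ↔
      ∃ α₀ : ι, ∀ α, α₀ ≤ α → Function.Injective ((mapBaseChange (kα α) k A).lTensor K) := by
  letI : Algebra k K := ((algebraMap A K).comp (algebraMap k A)).toAlgebra
  haveI : IsScalarTower k A K := IsScalarTower.of_algebraMap_eq' rfl
  haveI : ∀ α, IsScalarTower R (kα α) A := fun α => IsScalarTower.of_algebraMap_eq fun r => by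
    rw [IsScalarTower.algebraMap_apply R k A, IsScalarTower.algebraMap_apply R (kα α) k,
      ← IsScalarTower.algebraMap_apply (kα α) k A]
  rw [injective_iff_fieldMap R k A K]
  constructor
  · intro h
    exact ⟨Classical.arbitrary ι, fun α _ =>
      (injective_iff_fieldMap (kα α) k A K).mpr (injective_rel_of_injective R (kα α) k A K h)⟩
  · rintro ⟨α₀, h⟩
    refine (injective_iff_map_eq_zero _).mpr fun z hz => eq_zero_of_relMap p R kα hanti hint K z fun α => ?_
    obtain ⟨γ, hγ, hγ₀⟩ := exists_ge_ge α α₀
    have h1 : relMap R (kα γ) k K z = 0 := (injective_iff_map_eq_zero _).mp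
      ((injective_iff_fieldMap (kα γ) k A K).mp (h γ hγ₀)) _ (by rw [fieldMap_relMap, hz, map_zero])
    -- `k_γ ⊆ k_α`
    letI : Algebra (kα γ) (kα α) := (Subfield.inclusion (hanti hγ)).toAlgebra
    haveI : IsScalarTower (kα γ) (kα α) k := IsScalarTower.of_algebraMap_eq fun _ => rfl
    have h2 : relMap R (kα α) k K z = relMap (kα γ) (kα α) k K (relMap R (kα γ) k K z) := by
      induction z using TensorProduct.induction_on with
      | zero => simp
      | add x y hx hy =>
        clear hz h1 hx hy
        simp only [relMap, ← LinearMap.comp_apply, ← LinearMap.baseChange_comp]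
        congr 2
        refine LinearMap.ext fun ω => ?_
        have hω : ω ∈ Submodule.span k (Set.range (KaehlerDifferential.D R k)) := by
          rw [KaehlerDifferential.span_range_derivation]; trivial
        induction hω using Submodule.span_induction with
        | mem x hx => obtain ⟨y, rfl⟩ := hx; simp
        | zero => simp
        | add x y _ _ hx hy => simp only [map_add, hx, hy]
        | smul r x _ hx => simp only [map_smul, hx]
      | tmul e ω =>
        simp only [relMap, LinearMap.baseChange_tmul]
        congr 1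
        have hω : ω ∈ Submodule.span k (Set.range (KaehlerDifferential.D R k)) := by
          rw [KaehlerDifferential.span_range_derivation]; trivial
        clear hz h1
        induction hω using Submodule.span_induction with
        | mem x hx => obtain ⟨y, rfl⟩ := hx; simp
        | zero => simp
        | add x y _ _ hx hy => simp only [map_add, hx, hy]
        | smul r x _ hx => simp only [map_smul, hx]
    rw [h2, h1, map_zero]

end

end Groth.L06.PBasis
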