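import Groth.Agent.L06.FormSmoothField2
import Groth.Agent.L06.RegularPow
import Groth.Agent.L07.FibreRegularLocal
import Groth.Agent.L07.RegularIdeal
import Mathlib.RingTheory.TensorProduct.Quotient

/-! The closed fibre of a local homomorphism, and quotients flat over the base. -/

set_option autoImplicit false
set_option maxSynthPendingDepth 3
set_option linter.style.haveILetI false
universe u

namespace Groth.L06.FormSmooth

open IsLocalRing
open scoped TensorProduct

variable {A B k : Type u} [CommRing A] [CommRing B] [Field k] [Algebra A B] [Algebra A k]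

theorem ker_algebraMap_eq [IsLocalRing A] (hk : Function.Surjective (algebraMap A k)) :
    RingHom.ker (algebraMap A k) = maximalIdeal A :=
  IsLocalRing.eq_maximalIdeal (RingHom.ker_isMaximal_of_surjective _ hk)

variable (B) in
theorem includeRight_surjective (hk : Function.Surjective (algebraMap A k)) :
    Function.Surjective (Algebra.TensorProduct.includeRight : B →ₐ[A] k ⊗[A] B) := by
  intro z
  induction z using TensorProduct.induction_on with
  | zero => exact ⟨0, map_zero _⟩
  | tmul c b =>
    obtain ⟨a, rfl⟩ := hk c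
    exact ⟨a • b, by rw [Algebra.TensorProduct.includeRight_apply, ← TensorProduct.smul_tmul, Algebra.smul_def, mul_one]⟩
  | add x y hx hy =>
    obtain ⟨a, rfl⟩ := hx
    obtain ⟨b, rfl⟩ := hy
    exact ⟨a + b, map_add _ _ _⟩

theorem ker_includeRight [IsLocalRing A] (hk : Function.Surjective (algebraMap A k)) :
    RingHom.ker (Algebra.TensorProduct.includeRight : B →ₐ[A] k ⊗[A] B).toRingHom =
      (maximalIdeal A).map (algebraMap A B) := by
  refine le_antisymm (fun b hb => ?_) (Ideal.map_le_iff_le_comap.mpr fun a ha => ?_)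
  · let gA : A →+* B ⧸ (maximalIdeal A).map (algebraMap A B) := (Ideal.Quotient.mk _).comp (algebraMap A B)
    have hker : RingHom.ker (algebraMap A k) ≤ RingHom.ker gA := fun a ha => by
      rw [ker_algebraMap_eq hk] at ha
      exact Ideal.Quotient.eq_zero_iff_mem.mpr (Ideal.mem_map_of_mem _ ha)
    let gL := (algebraMap A k).liftOfSurjective hk ⟨gA, hker⟩
    have hgL : ∀ a, gL (algebraMap A k a) = gA a := fun a => RingHom.liftOfRightInverse_comp_apply _ _ _ ⟨gA, hker⟩ a
    obtain ⟨ρ, hρ⟩ := exists_lift_tensor gL (Ideal.Quotient.mk ((maximalIdeal A).map (algebraMap A B)))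
      (RingHom.ext fun a => (hgL a).symm)
    replace hb : (1 : k) ⊗ₜ[A] b = 0 := hb
    have h1 := congrArg ρ hb
    rw [hρ, map_one, one_mul, map_zero] at h1
    exact Ideal.Quotient.eq_zero_iff_mem.mp h1
  · show (1 : k) ⊗ₜ[A] algebraMap A B a = 0
    rw [Algebra.algebraMap_eq_smul_one, ← TensorProduct.smul_tmul, Algebra.smul_def, mul_one]
    rw [show algebraMap A k a = 0 from (ker_algebraMap_eq hk).ge ha, TensorProduct.zero_tmul]

theorem nontrivial_fibre [IsLocalRing A] [IsLocalRing B] [IsLocalHom (algebraMap A B)]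
    (hk : Function.Surjective (algebraMap A k)) : Nontrivial (k ⊗[A] B) := by
  refine ⟨⟨1, 0, fun h => ?_⟩⟩
  have h1 : (1 : B) ∈ RingHom.ker (Algebra.TensorProduct.includeRight : B →ₐ[A] k ⊗[A] B).toRingHom := by
    rw [RingHom.mem_ker, map_one, h]
  rw [ker_includeRight hk] at h1
  exact (IsLocalRing.maximalIdeal.isMaximal B).ne_top
    ((Ideal.eq_top_iff_one _).mpr (IsLocalRing.map_maximalIdeal_le (algebraMap A B) h1))

theorem isLocalRing_fibre [IsLocalRing A] [IsLocalRing B] [IsLocalHom (algebraMap A B)]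
    (hk : Function.Surjective (algebraMap A k)) : IsLocalRing (k ⊗[A] B) :=
  haveI := nontrivial_fibre (B := B) hk
  IsLocalRing.of_surjective' _ (includeRight_surjective B hk)

theorem isNoetherianRing_fibre [IsNoetherianRing B] (hk : Function.Surjective (algebraMap A k)) :
    IsNoetherianRing (k ⊗[A] B) :=
  isNoetherianRing_of_surjective B _ (Algebra.TensorProduct.includeRight : B →ₐ[A] k ⊗[A] B).toRingHom
    (includeRight_surjective B hk)

theorem maximalIdeal_fibre [IsLocalRing B] [IsLocalRing (k ⊗[A] B)] (hk : Function.Surjective (algebraMap A k)) :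
    (maximalIdeal B).map (Algebra.TensorProduct.includeRight : B →ₐ[A] k ⊗[A] B).toRingHom =
      maximalIdeal (k ⊗[A] B) := by
  have hs := includeRight_surjective B hk
  haveI := Ideal.comap_isMaximal_of_surjective (Algebra.TensorProduct.includeRight : B →ₐ[A] k ⊗[A] B).toRingHom hs
    (K := maximalIdeal (k ⊗[A] B))
  rw [← IsLocalRing.eq_maximalIdeal this]
  exact Ideal.map_comap_of_surjective _ hs _

/-- the closed fibre of an adically formally smooth map is adically formally smooth -/
theorem fibre_of_adicSmooth [IsLocalRing B] [IsLocalRing (k ⊗[A] B)] (hk : Function.Surjective (algebraMap A k))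
    (h : CAlgX.IsAdicFormallySmooth A B (maximalIdeal B)) :
    CAlgX.IsAdicFormallySmooth k (k ⊗[A] B) (maximalIdeal (k ⊗[A] B)) := by
  intro C _ _ J hJ ψ ⟨N, hN⟩
  letI : Algebra A C := ((algebraMap k C).comp (algebraMap A k)).toAlgebra
  haveI : IsScalarTower A k C := IsScalarTower.of_algebraMap_eq' rfl
  obtain ⟨χ, hχ⟩ := h C J hJ ((ψ.restrictScalars A).comp Algebra.TensorProduct.includeRight) ⟨N, fun x hx => by
    refine hN _ ?_
    rw [← maximalIdeal_fibre hk, ← Ideal.map_pow]
    exact Ideal.mem_map_of_mem _ hx⟩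
  refine ⟨Algebra.TensorProduct.lift (Algebra.ofId k C) χ fun _ _ => Commute.all _ _, AlgHom.ext fun z => ?_⟩
  obtain ⟨b, rfl⟩ := includeRight_surjective B hk z
  have h1 : Ideal.Quotient.mk J (χ b) = ψ (Algebra.TensorProduct.includeRight b) := DFunLike.congr_fun hχ b
  rw [← h1, AlgHom.comp_apply, Algebra.TensorProduct.includeRight_apply, Algebra.TensorProduct.lift_tmul, map_one, one_mul]
  rfl

/-- regular parameters of the fibre cut out small quotients which are flat over the base -/
theorem exists_flat_quotient [IsLocalRing A] [IsNoetherianRing A] [IsLocalRing B] [IsNoetherianRing B]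
    [IsLocalHom (algebraMap A B)] [Module.Flat A B] (hk : Function.Surjective (algebraMap A k))
    [IsRegularLocalRing (k ⊗[A] B)] (N : ℕ) :
    ∃ (I : Ideal B) (M : ℕ), I ≤ maximalIdeal B ^ N ∧ Module.Flat A (B ⧸ I) ∧
      maximalIdeal B ^ M ≤ I ⊔ (maximalIdeal A).map (algebraMap A B) := by
  let inc := (Algebra.TensorProduct.includeRight : B →ₐ[A] k ⊗[A] B)
  letI : Algebra B (k ⊗[A] B) := inc.toRingHom.toAlgebra
  obtain ⟨d, y, hd, hy, -⟩ := Groth.L07.Order.exists_regular_parameters (k ⊗[A] B)
  choose x hx using fun i => includeRight_surjective B hk (y i)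
  let mB := (maximalIdeal A).map (algebraMap A B)
  have hyw : RingTheory.Sequence.IsWeaklyRegular (k ⊗[A] B) (List.ofFn x) := by
    rw [← RingTheory.Sequence.isWeaklyRegular_map_algebraMap_iff (k ⊗[A] B), List.map_ofFn]
    have : (algebraMap B (k ⊗[A] B)) ∘ x = y := funext hx
    rw [this]
    exact (Groth.L01.isRegular_of_ofList_eq_maximalIdeal _ (by rw [Groth.L07.RegIdeal.ofList_ofFn, hy])
      (by rw [List.length_ofFn]; exact hd)).1
  have hpow : RingTheory.Sequence.IsWeaklyRegular (k ⊗[A] B) (List.ofFn fun i => x i ^ (N + 1)) :=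
    Groth.L06.RegularPow.isWeaklyRegular_pow d x (fun _ => N + 1) (fun _ => Nat.le_add_left 1 N) hyw
  have hker : LinearMap.ker (Algebra.linearMap B (k ⊗[A] B)) = mB • (⊤ : Submodule B B) := by
    rw [smul_eq_mul, Ideal.mul_top]
    exact ker_includeRight hk
  let e : (B ⧸ (mB • (⊤ : Submodule B B))) ≃ₗ[B] k ⊗[A] B := (Submodule.quotEquivOfEq _ _ hker.symm).trans
    ((Algebra.linearMap B (k ⊗[A] B)).quotKerEquivOfSurjective (includeRight_surjective B hk))
  obtain ⟨-, hflat⟩ := Groth.L07.FibreRegularLocal.isWeaklyRegular_and_flat _ B ((e.isWeaklyRegular_congr _).mpr hpow)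
  let I : Ideal B := Ideal.span (Set.range fun i => x i ^ (N + 1))
  have hxm : ∀ i, x i ∈ maximalIdeal B := fun i => by
    by_contra hu
    rw [mem_maximalIdeal, mem_nonunits_iff, not_not] at hu
    have h1 : IsUnit (y i) := hx i ▸ hu.map inc
    exact (mem_maximalIdeal _).mp (hy.le (Ideal.subset_span ⟨i, rfl⟩)) h1
  haveI : Module.Flat A (B ⧸ (Ideal.ofList ((List.ofFn fun i => x i ^ (N + 1)).take d) • (⊤ : Submodule B B))) :=
    hflat d (by rw [List.length_ofFn])
  have hI : I = Ideal.ofList ((List.ofFn fun i => x i ^ (N + 1)).take d) • (⊤ : Submodule B B) := by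
    rw [List.take_of_length_le (by rw [List.length_ofFn]), Groth.L07.RegIdeal.ofList_ofFn, smul_eq_mul, Ideal.mul_top]
  haveI : Module.Flat A (B ⧸ I) := Module.Flat.of_linearEquiv ((Submodule.quotEquivOfEq _ _ hI).restrictScalars A)
  have hrad : maximalIdeal B ≤ (I ⊔ mB).radical := by
    intro b hb
    have h1 : inc b ∈ (Ideal.span (Set.range x)).map inc.toRingHom := by
      rw [Ideal.map_span, ← Set.range_comp, show inc.toRingHom ∘ x = y from funext hx, hy, ← maximalIdeal_fibre hk]
      exact Ideal.mem_map_of_mem _ hb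
    obtain ⟨c, hc, hcb⟩ := (Ideal.mem_map_iff_of_surjective _ (includeRight_surjective B hk)).mp h1
    have h2 : b - c ∈ mB := by
      show b - c ∈ (maximalIdeal A).map (algebraMap A B)
      rw [← ker_includeRight (k := k) hk, RingHom.mem_ker, map_sub, sub_eq_zero]
      exact hcb.symm
    have h3 : c ∈ (I ⊔ mB).radical := (Ideal.span_le.mpr (by
      rintro _ ⟨i, rfl⟩
      exact ⟨N + 1, Ideal.mem_sup_left (Ideal.subset_span ⟨i, rfl⟩)⟩)) hc
    rw [← add_sub_cancel c b]
    exact add_mem h3 (Ideal.le_radical (Ideal.mem_sup_right h2))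
  obtain ⟨M, hM⟩ := Ideal.exists_radical_pow_le_of_fg (I ⊔ mB) (Ideal.fg_of_isNoetherianRing _)
  refine ⟨I, M, Ideal.span_le.mpr ?_, inferInstance, (Ideal.pow_right_mono hrad M).trans hM⟩
  rintro _ ⟨i, rfl⟩
  exact Ideal.pow_le_pow_right (Nat.le_succ N) (Ideal.pow_mem_pow (hxm i) (N + 1))

end Groth.L06.FormSmooth
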