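import Groth.Agent.L06.FormSmoothFibre
import Groth.Agent.L07.RegularQuotient
import Groth.Agent.L07.AvramovDiagram
import Groth.Agent.L01.CompletionExt
import Mathlib.RingTheory.AdicCompletion.AsTensorProduct

/-! Flat complete local algebras with a prescribed regular closed fibre. -/

set_option autoImplicit false
set_option maxSynthPendingDepth 3
set_option linter.style.haveILetI false
universe u

namespace Groth.L06.FormSmooth

open IsLocalRing
open scoped TensorProduct

theorem exists_flat_cut {A C B₀ : Type u} [CommRing A] [IsLocalRing A] [IsNoetherianRing A] [CommRing C]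
    [IsLocalRing C] [IsNoetherianRing C] [Algebra A C] [IsLocalHom (algebraMap A C)] [Module.Flat A C]
    [CommRing B₀] [IsRegularLocalRing B₀] (hF : IsRegularLocalRing (C ⧸ (maximalIdeal A).map (algebraMap A C)))
    (q : C →+* B₀) (hq : Function.Surjective q) (hker : (maximalIdeal A).map (algebraMap A C) ≤ RingHom.ker q) :
    ∃ I : Ideal C, Module.Flat A (C ⧸ I) ∧ I ⊔ (maximalIdeal A).map (algebraMap A C) = RingHom.ker q := by
  let mC := (maximalIdeal A).map (algebraMap A C)
  let J : Ideal (C ⧸ mC) := (RingHom.ker q).map (Ideal.Quotient.mk mC)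
  haveI := hF
  have hJreg : IsRegularLocalRing ((C ⧸ mC) ⧸ J) := IsRegularLocalRing.of_ringEquiv
    ((RingHom.quotientKerEquivOfSurjective hq).symm.trans (DoubleQuot.quotQuotEquivQuotOfLE hker).symm)
  obtain ⟨⟨rs, hrs, hrsJ⟩, -⟩ := Groth.L07.RegQuot.regular_quotient_data J hJreg
  let l : List C := rs.map (Function.surjInv Ideal.Quotient.mk_surjective)
  have hl : l.map (Ideal.Quotient.mk mC) = rs := by
    rw [List.map_map, (funext (Function.surjInv_eq _) : Ideal.Quotient.mk mC ∘
      Function.surjInv Ideal.Quotient.mk_surjective = id), List.map_id]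
  have hreg : RingTheory.Sequence.IsWeaklyRegular (C ⧸ mC) l := by
    refine (RingTheory.Sequence.isWeaklyRegular_map_algebraMap_iff (C ⧸ mC) (C ⧸ mC) l).mp ?_
    rw [show l.map (algebraMap C (C ⧸ mC)) = rs from hl]
    exact hrs.1
  let e : (C ⧸ (mC • (⊤ : Submodule C C))) ≃ₗ[C] C ⧸ mC := Submodule.quotEquivOfEq _ _ (by rw [smul_eq_mul, Ideal.mul_top])
  obtain ⟨-, hflat⟩ := Groth.L07.FibreRegularLocal.isWeaklyRegular_and_flat l C ((e.isWeaklyRegular_congr _).mpr hreg)
  haveI := hflat l.length le_rfl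
  refine ⟨Ideal.ofList l, Module.Flat.of_linearEquiv ((Submodule.quotEquivOfEq (Ideal.ofList l)
    (Ideal.ofList (l.take l.length) • (⊤ : Submodule C C))
    (by rw [List.take_length, smul_eq_mul, Ideal.mul_top])).restrictScalars A), ?_⟩
  have h1 : (Ideal.ofList l).map (Ideal.Quotient.mk mC) = J := by rw [Ideal.map_ofList, hl, hrsJ]
  have h2 := congrArg (Ideal.comap (Ideal.Quotient.mk mC)) h1
  rw [Ideal.comap_map_of_surjective _ Ideal.Quotient.mk_surjective, Ideal.comap_map_of_surjective _ Ideal.Quotient.mk_surjective,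
    ← RingHom.ker_eq_comap_bot, Ideal.mk_ker, sup_eq_left.mpr hker] at h2
  exact h2

/-- completion does not change the closed fibre when that fibre is already complete -/
theorem exists_completion_ker {B₁ B₀ : Type u} [CommRing B₁] [IsLocalRing B₁] [IsNoetherianRing B₁] [CommRing B₀]
    [IsLocalRing B₀] [IsAdicComplete (maximalIdeal B₀) B₀] (q : B₁ →+* B₀) (hq : Function.Surjective q) :
    ∃ π : AdicCompletion (maximalIdeal B₁) B₁ →+* B₀, Function.Surjective π ∧
      (∀ b, π (algebraMap B₁ (AdicCompletion (maximalIdeal B₁) B₁) b) = q b) ∧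
      RingHom.ker π = (RingHom.ker q).map (algebraMap B₁ (AdicCompletion (maximalIdeal B₁) B₁)) := by
  haveI := Groth.L01.AnalUnram.isNoetherianRing_completion B₁
  let B := AdicCompletion (maximalIdeal B₁) B₁
  have hmax : (maximalIdeal B₁).map q = maximalIdeal B₀ := IsLocalRing.map_maximalIdeal_of_surjective q hq
  obtain ⟨π, hπ, hπm⟩ := Groth.L01.CompletionExt.exists_extend q hmax.le
  refine ⟨π, fun y => ?_, hπ, ?_⟩
  · obtain ⟨x, rfl⟩ := hq y
    exact ⟨algebraMap B₁ B x, hπ x⟩
  let 𝔞 : Ideal B := (RingHom.ker q).map (algebraMap B₁ B)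
  refine le_antisymm (fun x hx => ?_) (Ideal.map_le_iff_le_comap.mpr fun b hb => by
    show π (algebraMap B₁ B b) = 0
    rw [hπ, RingHom.mem_ker.mp hb])
  by_cases htop : 𝔞 = ⊤
  · show x ∈ 𝔞
    rw [htop]; trivial
  haveI : Nontrivial (B ⧸ 𝔞) := Ideal.Quotient.nontrivial_iff.mpr htop
  haveI : IsLocalRing (B ⧸ 𝔞) := IsLocalRing.of_surjective' _ Ideal.Quotient.mk_surjective
  rw [← Ideal.Quotient.eq_zero_iff_mem]
  refine IsHausdorff.haus (I := maximalIdeal (B ⧸ 𝔞)) inferInstance _ fun n => ?_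
  rw [SModEq.zero, smul_eq_mul, Ideal.mul_top, ← IsLocalRing.map_maximalIdeal_of_surjective _ Ideal.Quotient.mk_surjective,
    ← Ideal.map_pow]
  obtain ⟨y, hy⟩ := Groth.L01.CompletionExt.exists_sub_mem_pow n x
  have h1 : q y ∈ maximalIdeal B₀ ^ n := by
    have h2 : π (x - algebraMap B₁ B y) ∈ maximalIdeal B₀ ^ n := Ideal.pow_right_mono hπm n (by
      rw [← Ideal.map_pow]; exact Ideal.mem_map_of_mem _ hy)
    rw [map_sub, RingHom.mem_ker.mp hx, hπ, zero_sub] at h2
    exact neg_mem_iff.mp h2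
  rw [← hmax, ← Ideal.map_pow] at h1
  obtain ⟨z, hz, hzy⟩ := (Ideal.mem_map_iff_of_surjective _ hq).mp h1
  have h3 : Ideal.Quotient.mk 𝔞 x = Ideal.Quotient.mk 𝔞 (x - algebraMap B₁ B y + algebraMap B₁ B z) := by
    refine Ideal.Quotient.eq.mpr ?_
    rw [show x - (x - algebraMap B₁ B y + algebraMap B₁ B z) = algebraMap B₁ B (y - z) by rw [map_sub]; ring]
    exact Ideal.mem_map_of_mem _ (by rw [RingHom.mem_ker, map_sub, hzy, sub_self])
  rw [h3]
  refine Ideal.mem_map_of_mem _ (add_mem hy ?_)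
  rw [← Groth.L01.AnalUnram.completion_map_maximalIdeal, ← Ideal.map_pow]
  exact Ideal.mem_map_of_mem _ hz

set_option maxHeartbeats 800000 in
/-- flat complete local algebras with a prescribed complete regular closed fibre -/
theorem exists_flat_lift {A B₀ : Type u} [CommRing A] [IsLocalRing A] [IsNoetherianRing A] [CommRing B₀]
    [IsRegularLocalRing B₀] [IsAdicComplete (maximalIdeal B₀) B₀] (f : A →+* B₀)
    (hf : (maximalIdeal A).map f = ⊥) :
    ∃ (B : Type u) (_ : CommRing B) (_ : IsLocalRing B) (_ : IsNoetherianRing B) (_ : Algebra A B)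
      (_ : IsLocalHom (algebraMap A B)) (π : B →+* B₀), IsAdicComplete (maximalIdeal B) B ∧ Module.Flat A B ∧
        Function.Surjective π ∧ (∀ a, π (algebraMap A B a) = f a) ∧
        RingHom.ker π = (maximalIdeal A).map (algebraMap A B) := by
  haveI := Groth.L01.AnalUnram.isNoetherianRing_completion A
  let Ah := AdicCompletion (maximalIdeal A) A
  obtain ⟨g, hg, hgm⟩ := Groth.L01.CompletionExt.exists_extend f (hf.le.trans bot_le)
  have hg0 : (maximalIdeal Ah).map g = ⊥ := by
    rw [← Groth.L01.AnalUnram.completion_map_maximalIdeal (R := A), Ideal.map_map, ← hf]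
    congr 1
    exact RingHom.ext hg
  letI : Algebra Ah B₀ := g.toAlgebra
  haveI : IsLocalHom (algebraMap Ah B₀) := ((IsLocalRing.local_hom_TFAE (algebraMap Ah B₀)).out 0 2).mpr hgm
  obtain ⟨D⟩ := Groth.L07.AvramovDiagram.nonempty_diagram (A := Ah) (B := B₀)
  have hmS : (maximalIdeal D.R).map (algebraMap D.R D.S) ≤ RingHom.ker D.q := Ideal.map_le_iff_le_comap.mpr fun r hr => by
    show D.q (algebraMap D.R D.S r) = 0
    rw [D.comm]
    have h1 : D.p r ∈ maximalIdeal Ah := by
      rw [← IsLocalRing.map_maximalIdeal_of_surjective _ D.surjP]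
      exact Ideal.mem_map_of_mem _ hr
    exact Ideal.mem_bot.mp (hg0.le (Ideal.mem_map_of_mem g h1))
  obtain ⟨I, hIflat, hI⟩ := exists_flat_cut D.fibre D.q D.surjQ hmS
  haveI := hIflat
  let P : Ideal D.R := RingHom.ker D.p
  let S₁ := D.S ⧸ I
  let IS : Ideal S₁ := P.map (algebraMap D.R S₁)
  let B₁ := S₁ ⧸ IS
  have hIq : I ≤ RingHom.ker D.q := le_sup_left.trans hI.le
  let q₁ : S₁ →+* B₀ := Ideal.Quotient.lift I D.q fun x hx => hIq hx
  have hq₁ : ∀ r, q₁ (algebraMap D.R S₁ r) = g (D.p r) := fun r => D.comm r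
  let q₂ : B₁ →+* B₀ := Ideal.Quotient.lift IS q₁ fun x hx => by
    refine (Ideal.map_le_iff_le_comap.mpr fun r hr => ?_ : P.map (algebraMap D.R S₁) ≤ RingHom.ker q₁) hx
    show q₁ _ = 0
    rw [hq₁, RingHom.mem_ker.mp hr, map_zero]
  have hq₂ : Function.Surjective q₂ := fun y => by
    obtain ⟨x, rfl⟩ := D.surjQ y
    exact ⟨Ideal.Quotient.mk IS (Ideal.Quotient.mk I x), rfl⟩
  haveI : Nontrivial B₁ := q₂.domain_nontrivial
  haveI : IsLocalRing B₁ := IsLocalRing.of_surjective' ((Ideal.Quotient.mk IS).comp (Ideal.Quotient.mk I))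
    (Ideal.Quotient.mk_surjective.comp Ideal.Quotient.mk_surjective)
  let e : (D.R ⧸ P) ≃+* Ah := RingHom.quotientKerEquivOfSurjective D.surjP
  let γ : (D.R ⧸ P) →+* B₁ := Ideal.quotientMap IS (algebraMap D.R S₁) Ideal.le_comap_map
  have hγ : γ.Flat := by
    show (algebraMap (D.R ⧸ P) B₁).Flat
    rw [RingHom.flat_algebraMap_iff]
    haveI : Module.Flat (D.R ⧸ P) ((D.R ⧸ P) ⊗[D.R] S₁) := inferInstance
    exact Module.Flat.of_linearEquiv (Algebra.TensorProduct.quotIdealMapEquivQuotTensor S₁ P).toLinearEquiv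
  let h0 : A →+* B₁ := (γ.comp e.symm.toRingHom).comp (algebraMap A Ah)
  have hh0 : h0.Flat := by
    refine RingHom.Flat.comp ?_ (RingHom.Flat.comp (RingHom.Flat.of_bijective e.symm.bijective) hγ)
    rw [RingHom.flat_algebraMap_iff]
    infer_instance
  have he : ∀ r, γ (e.symm (D.p r)) = Ideal.Quotient.mk IS (algebraMap D.R S₁ r) := fun r => by
    rw [show e.symm (D.p r) = Ideal.Quotient.mk P r from (RingEquiv.symm_apply_eq _).mpr rfl]
    rfl
  have hcomm : ∀ a, q₂ (h0 a) = f a := fun a => by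
    obtain ⟨r, hr⟩ := D.surjP (algebraMap A Ah a)
    show q₂ (γ (e.symm (algebraMap A Ah a))) = _
    rw [← hr, he]
    show q₁ (algebraMap D.R S₁ r) = _
    rw [hq₁, hr, hg]
  have hkerq₂ : RingHom.ker q₂ = (maximalIdeal A).map h0 := by
    refine le_antisymm (fun x hx => ?_) (Ideal.map_le_iff_le_comap.mpr fun a ha => by
      show q₂ (h0 a) = 0
      rw [hcomm]
      exact Ideal.mem_bot.mp (hf.le (Ideal.mem_map_of_mem f ha)))
    obtain ⟨s, rfl⟩ := Ideal.Quotient.mk_surjective x
    obtain ⟨s, rfl⟩ := Ideal.Quotient.mk_surjective s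
    have hs : s ∈ RingHom.ker D.q := hx
    rw [← hI] at hs
    obtain ⟨i, hi, m, hm, rfl⟩ := Submodule.mem_sup.mp hs
    rw [map_add, Ideal.Quotient.eq_zero_iff_mem.mpr hi, zero_add]
    let θ : D.S →+* B₁ := (Ideal.Quotient.mk IS).comp (Ideal.Quotient.mk I)
    refine (Ideal.map_map (f := algebraMap D.R D.S) θ).le.trans ?_ (Ideal.mem_map_of_mem θ hm)
    have h4 : θ.comp (algebraMap D.R D.S) = (γ.comp e.symm.toRingHom).comp D.p := RingHom.ext fun r => (he r).symm
    rw [h4, ← Ideal.map_map, IsLocalRing.map_maximalIdeal_of_surjective _ D.surjP,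
      ← Groth.L01.AnalUnram.completion_map_maximalIdeal (R := A), Ideal.map_map]
  haveI := Groth.L01.AnalUnram.isNoetherianRing_completion B₁
  obtain ⟨π, hπs, hπ, hπk⟩ := exists_completion_ker q₂ hq₂
  let B := AdicCompletion (maximalIdeal B₁) B₁
  letI : Algebra A B₁ := h0.toAlgebra
  haveI : Module.Flat A B₁ := hh0
  haveI : Module.Flat A B := Module.Flat.trans A B₁ B
  have hcommB : ∀ a, π (algebraMap A B a) = f a := fun a => by
    rw [IsScalarTower.algebraMap_apply A B₁ B, hπ]
    exact hcomm a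
  have hk : RingHom.ker π = (maximalIdeal A).map (algebraMap A B) := by
    rw [hπk, hkerq₂, Ideal.map_map, IsScalarTower.algebraMap_eq A B₁ B]
    rfl
  haveI : IsLocalHom (algebraMap A B) := ((IsLocalRing.local_hom_TFAE (algebraMap A B)).out 0 2).mpr
    (hk ▸ IsLocalRing.le_maximalIdeal (RingHom.ker_ne_top π))
  exact ⟨B, inferInstance, inferInstance, inferInstance, inferInstance, inferInstance, π, inferInstance,
    inferInstance, hπs, hcommB, hk⟩

/-- identification of the closed fibre -/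
theorem exists_fibreEquiv {A B k B₀ : Type u} [CommRing A] [IsLocalRing A] [CommRing B] [Algebra A B] [Field k]
    [Algebra A k] [CommRing B₀] [Algebra k B₀] (hk : Function.Surjective (algebraMap A k)) (π : B →+* B₀)
    (hπ : Function.Surjective π) (hc : ∀ a, π (algebraMap A B a) = algebraMap k B₀ (algebraMap A k a))
    (hker : RingHom.ker π = (maximalIdeal A).map (algebraMap A B)) :
    ∃ e : k ⊗[A] B ≃ₐ[k] B₀, ∀ b, e (Algebra.TensorProduct.includeRight b) = π b := by
  letI : Algebra A B₀ := ((algebraMap k B₀).comp (algebraMap A k)).toAlgebra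
  haveI : IsScalarTower A k B₀ := IsScalarTower.of_algebraMap_eq' rfl
  let L : k ⊗[A] B →ₐ[k] B₀ :=
    Algebra.TensorProduct.lift (Algebra.ofId k B₀) (AlgHom.mk π hc) fun _ _ => Commute.all _ _
  have hL : ∀ b, L (Algebra.TensorProduct.includeRight b) = π b := fun b => by
    rw [Algebra.TensorProduct.includeRight_apply, Algebra.TensorProduct.lift_tmul, map_one, one_mul]
    rfl
  refine ⟨AlgEquiv.ofBijective L ⟨(injective_iff_map_eq_zero L).mpr fun z hz => ?_, fun y => ?_⟩, hL⟩
  · obtain ⟨b, rfl⟩ := includeRight_surjective B hk z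
    rw [hL, ← RingHom.mem_ker, hker, ← ker_includeRight (k := k) hk] at hz
    exact hz
  · obtain ⟨b, rfl⟩ := hπ y
    exact ⟨_, hL b⟩

end Groth.L06.FormSmooth
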