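import Groth.Prelude.Def_CAlgX
import Mathlib.RingTheory.Smooth.Local
import Mathlib.RingTheory.Filtration
import Mathlib.Algebra.Module.Torsion.Basic

/-! The Jacobian criterion from adic formal smoothness. -/

set_option autoImplicit false
set_option maxSynthPendingDepth 3
set_option linter.style.haveILetI false
universe u

namespace Groth.L06.FormSmooth

open IsLocalRing
open scoped TensorProduct

set_option maxHeartbeats 1000000 in
theorem injective_cotangent_of_adicSmooth {A P S : Type u} [CommRing A] [CommRing P] [CommRing S] [IsLocalRing P]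
    [IsNoetherianRing P] [IsLocalRing S] [Algebra A P] [Algebra A S] [Algebra P S] [IsScalarTower A P S]
    (hs : Function.Surjective (algebraMap P S)) (h : CAlgX.IsAdicFormallySmooth A S (maximalIdeal S)) :
    Function.Injective (KaehlerDifferential.cotangentComplexBaseChange A S P (ResidueField S)) := by
  let M := maximalIdeal P
  let I := RingHom.ker (algebraMap P S)
  have hIM : I ≤ M := IsLocalRing.le_maximalIdeal (RingHom.ker_ne_top _)
  have hcomap : ∀ x, algebraMap P (ResidueField S) x = 0 ↔ x ∈ M := fun x => by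
    haveI := Ideal.comap_isMaximal_of_surjective (algebraMap P S) hs (K := maximalIdeal S)
    show _ ↔ x ∈ maximalIdeal P
    rw [IsScalarTower.algebraMap_apply P S (ResidueField S), ← IsLocalRing.eq_maximalIdeal this]
    exact residue_eq_zero_iff _
  have hmS : M.map (algebraMap P S) = maximalIdeal S := by
    haveI := Ideal.comap_isMaximal_of_surjective (algebraMap P S) hs (K := maximalIdeal S)
    show (maximalIdeal P).map _ = _
    rw [← IsLocalRing.eq_maximalIdeal this]
    exact Ideal.map_comap_of_surjective _ hs _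
  obtain ⟨k, hk⟩ := Ideal.exists_pow_inf_eq_pow_smul M (I : Submodule P P)
  let N := k + 1
  have hN : M ^ N ⊓ I ≤ M * I := fun x hx => by
    have h1 : x ∈ M ^ N • (⊤ : Submodule P P) ⊓ (I : Submodule P P) := by
      rw [smul_eq_mul, Ideal.mul_top]; exact hx
    rw [hk N (Nat.le_succ k), show N - k = 1 from Nat.add_sub_cancel_left k 1, pow_one] at h1
    refine Submodule.smul_mono le_rfl inf_le_right h1
  let Q : Ideal P := M * I ⊔ M ^ N
  let J : Ideal (P ⧸ Q) := I.map (Ideal.Quotient.mkₐ A Q)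
  have hMJ : ∀ x ∈ M, ∀ y ∈ J, Ideal.Quotient.mk Q x * y = 0 := fun x hx y hy => by
    obtain ⟨i, hi, rfl⟩ := (Ideal.mem_map_iff_of_surjective _ (Ideal.Quotient.mkₐ_surjective A Q)).mp hy
    show Ideal.Quotient.mk Q x * Ideal.Quotient.mk Q i = 0
    rw [← map_mul, Ideal.Quotient.eq_zero_iff_mem]
    exact Ideal.mem_sup_left (Ideal.mul_mem_mul hx hi)
  have hJ : J ^ 2 = ⊥ := by
    rw [pow_two, eq_bot_iff, Ideal.mul_le]
    intro x hx y hy
    obtain ⟨i, hi, rfl⟩ := (Ideal.mem_map_iff_of_surjective _ (Ideal.Quotient.mkₐ_surjective A Q)).mp hx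
    exact Ideal.mem_bot.mpr (hMJ i (hIM hi) y hy)
  -- the map `S → (P/Q)/J`
  let q : P →ₐ[A] (P ⧸ Q) ⧸ J := (Ideal.Quotient.mkₐ A J).comp (Ideal.Quotient.mkₐ A Q)
  let π : P →ₐ[A] S := IsScalarTower.toAlgHom A P S
  let eS := Ideal.quotientKerAlgEquivOfSurjective (f := π) hs
  have hq' : ∀ x ∈ RingHom.ker π.toRingHom, q x = 0 := fun x hx =>
    Ideal.Quotient.eq_zero_iff_mem.mpr (Ideal.mem_map_of_mem _ hx)
  let ψ : S →ₐ[A] (P ⧸ Q) ⧸ J := (Ideal.Quotient.liftₐ (RingHom.ker π.toRingHom) q hq').comp eS.symm.toAlgHom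
  have hψ : ∀ x, ψ (π x) = q x := fun x => by
    have h0 : eS.symm (π x) = Ideal.Quotient.mk _ x := eS.injective ((eS.apply_symm_apply _).trans rfl)
    show Ideal.Quotient.liftₐ (RingHom.ker π.toRingHom) q hq' (eS.symm (π x)) = q x
    rw [h0]
    rfl
  obtain ⟨χ, hχ⟩ := h (P ⧸ Q) J hJ ψ ⟨N, fun s hs' => by
    rw [← hmS, ← Ideal.map_pow] at hs'
    obtain ⟨x, hx, rfl⟩ := (Ideal.mem_map_iff_of_surjective _ hs).mp hs'
    show ψ (π x) = 0
    rw [hψ]
    show Ideal.Quotient.mk J (Ideal.Quotient.mk Q x) = 0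
    rw [Ideal.Quotient.eq_zero_iff_mem.mpr (Ideal.mem_sup_right hx), map_zero]⟩
  have hdiff : ∀ x, Ideal.Quotient.mk Q x - χ (π x) ∈ J := fun x => by
    rw [← Ideal.Quotient.eq]
    exact (hψ x).symm.trans (DFunLike.congr_fun hχ (π x)).symm
  have htors : Module.IsTorsionBySet P J (M : Ideal P) := fun v ⟨x, hx⟩ => Subtype.ext (hMJ x hx v v.2)
  let gk := (algebraMap P (ResidueField S))
  have hgs : Function.Surjective gk := by
    intro c
    obtain ⟨s, rfl⟩ := residue_surjective c
    obtain ⟨x, rfl⟩ := hs s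
    exact ⟨x, IsScalarTower.algebraMap_apply P S (ResidueField S) x⟩
  let ek : (P ⧸ M) ≃+* ResidueField S := (Ideal.quotEquivOfEq (Ideal.ext fun x => (hcomap x).symm : M = RingHom.ker gk)).trans
    (RingHom.quotientKerEquivOfSurjective hgs)
  letI : Module (P ⧸ M) J := htors.module
  letI : Module (ResidueField S) J := Module.compHom J ek.symm.toRingHom
  haveI : IsScalarTower P (ResidueField S) J := IsScalarTower.of_algebraMap_smul fun x v => by
    show ek.symm (gk x) • v = x • v
    rw [show gk x = ek (Ideal.Quotient.mk M x) from rfl, RingEquiv.symm_apply_apply]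
    rfl
  let δ : P →ₗ[A] J := LinearMap.codRestrict (J.restrictScalars A)
    ((Ideal.Quotient.mkₐ A Q).toLinearMap - χ.toLinearMap ∘ₗ π.toLinearMap) hdiff
  let D : Derivation A P J := Derivation.mk' δ fun x y => Subtype.ext (by
    show Ideal.Quotient.mk Q (x * y) - χ (π (x * y)) =
      Ideal.Quotient.mk Q x * (Ideal.Quotient.mk Q y - χ (π y)) + Ideal.Quotient.mk Q y * (Ideal.Quotient.mk Q x - χ (π x))
    have h1 := Ideal.mul_mem_mul (hdiff x) (hdiff y)
    rw [← pow_two, hJ, Ideal.mem_bot] at h1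
    rw [map_mul, map_mul π, map_mul χ]
    linear_combination (-1 : P ⧸ Q) * h1)
  let G := LinearMap.liftBaseChange (ResidueField S) D.liftKaehlerDifferential
  refine (injective_iff_map_eq_zero _).mpr fun z hz => ?_
  obtain ⟨i, rfl⟩ : ∃ i, (1 : ResidueField S) ⊗ₜ[P] i = z := by
    clear hz
    induction z using TensorProduct.induction_on with
    | zero => exact ⟨0, TensorProduct.tmul_zero _ _⟩
    | tmul c i =>
      obtain ⟨x, rfl⟩ := hgs c
      exact ⟨x • i, by rw [← TensorProduct.smul_tmul, Algebra.smul_def, mul_one]⟩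
    | add x y hx hy =>
      obtain ⟨a, rfl⟩ := hx
      obtain ⟨b, rfl⟩ := hy
      exact ⟨a + b, TensorProduct.tmul_add _ _ _⟩
  have h1 := congrArg G hz
  rw [KaehlerDifferential.cotangentComplexBaseChange_tmul, one_smul, KaehlerDifferential.kerToTensor_apply, map_zero,
    LinearMap.liftBaseChange_tmul, one_smul, Derivation.liftKaehlerDifferential_comp_D] at h1
  have h2 : Ideal.Quotient.mk Q (i : P) - χ (π i) = 0 := congrArg Subtype.val h1
  rw [show π (i : P) = 0 from i.2, map_zero, sub_zero, Ideal.Quotient.eq_zero_iff_mem, Submodule.mem_sup] at h2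
  obtain ⟨a, ha, b, hb, hab⟩ := h2
  have hbI : b ∈ I := by
    rw [show b = (i : P) - a by rw [← hab]; ring]
    exact sub_mem i.2 (Ideal.mul_le_right (I := M) ha)
  have hi : (i : P) ∈ M * I := hab ▸ add_mem ha (hN ⟨hb, hbI⟩)
  clear_value G D
  clear h1 hz
  have key : ∀ x ∈ M * I, ∃ (hx : x ∈ I), (1 : ResidueField S) ⊗ₜ[P] (⟨x, hx⟩ : RingHom.ker (algebraMap P S)) = 0 := by
    intro x hx
    refine Submodule.mul_induction_on hx (fun m hm j hj => ⟨Ideal.mul_mem_left _ m hj, ?_⟩) (fun x y ⟨hx, hx'⟩ ⟨hy, hy'⟩ => ⟨add_mem hx hy, ?_⟩)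
    · rw [show (⟨m * j, _⟩ : RingHom.ker (algebraMap P S)) = m • ⟨j, hj⟩ from Subtype.ext rfl, ← TensorProduct.smul_tmul,
        Algebra.smul_def, (hcomap m).mpr hm, zero_mul, TensorProduct.zero_tmul]
    · rw [show (⟨x + y, _⟩ : RingHom.ker (algebraMap P S)) = ⟨x, hx⟩ + ⟨y, hy⟩ from Subtype.ext rfl,
        TensorProduct.tmul_add, hx', hy', add_zero]
  obtain ⟨_, h3⟩ := key _ hi
  exact h3

end Groth.L06.FormSmooth
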