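import Groth.Agent.L06.FormSmoothFibre
import Groth.Agent.L01.NilDescent

/-! Flat with adically formally smooth closed fibre implies adically formally smooth (EGA 0_IV 19.7.1). -/

set_option autoImplicit false
set_option maxSynthPendingDepth 3
set_option linter.style.haveILetI false
universe u

namespace Groth.L06.FormSmooth

open IsLocalRing
open scoped TensorProduct

variable {A B k : Type u} [CommRing A] [CommRing B] [Field k] [Algebra A B] [Algebra A k]

theorem mem_pow_of_kills {C : Type u} [CommRing C] [Algebra A C] [IsLocalRing A] [IsLocalRing B]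
    [IsLocalHom (algebraMap A B)] {J : Ideal C} (hJ : J ^ 2 = ⊥) (ψ : B →ₐ[A] C ⧸ J) {N : ℕ}
    (hN : ∀ x ∈ maximalIdeal B ^ N, ψ x = 0) :
    ∀ a ∈ maximalIdeal A ^ (2 * N), algebraMap A C a = 0 := by
  intro a ha
  rw [two_mul, pow_add] at ha
  have h1 : ∀ b ∈ maximalIdeal A ^ N, algebraMap A C b ∈ J := fun b hb => by
    rw [← Ideal.Quotient.eq_zero_iff_mem]
    show algebraMap A (C ⧸ J) b = 0
    rw [← ψ.commutes b]
    refine hN _ (Ideal.pow_right_mono (IsLocalRing.map_maximalIdeal_le (algebraMap A B)) N ?_)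
    rw [← Ideal.map_pow]
    exact Ideal.mem_map_of_mem _ hb
  refine Submodule.mul_induction_on ha (fun b hb c hc => ?_) (fun x y hx hy => by rw [map_add, hx, hy, add_zero])
  have h2 := Ideal.mul_mem_mul (h1 b hb) (h1 c hc)
  rwa [← pow_two, hJ, Ideal.mem_bot, ← map_mul] at h2

/-- a linear lift from a flat module over an Artinian thickening -/
theorem exists_linear_lift [IsLocalRing A] [IsNoetherianRing A] {M C D : Type u} [AddCommGroup M] [Module A M]
    [Module.Flat A M] [CommRing C] [Algebra A C] [AddCommGroup D] [Module A D] (n : ℕ)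
    (hn : ∀ a ∈ maximalIdeal A ^ n, algebraMap A C a = 0) (π : C →ₗ[A] D) (hπ : Function.Surjective π)
    (φ : M →ₗ[A] D) : ∃ s : M →ₗ[A] C, π ∘ₗ s = φ := by
  rcases n with _ | n
  · have h1 : (1 : C) = 0 := by rw [← map_one (algebraMap A C)]; exact hn 1 (by simp)
    refine ⟨0, LinearMap.ext fun m => ?_⟩
    obtain ⟨c, hc⟩ := hπ (φ m)
    rw [LinearMap.comp_apply, LinearMap.zero_apply, map_zero, ← hc, show c = 0 from by rw [← one_mul c, h1, zero_mul], map_zero]
  let R := A ⧸ maximalIdeal A ^ (n + 1)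
  let mR : Ideal R := (maximalIdeal A).map (Ideal.Quotient.mk _)
  haveI : mR.IsMaximal := Ideal.IsMaximal.map_of_surjective_of_ker_le Ideal.Quotient.mk_surjective
    (by rw [Ideal.mk_ker]; exact Ideal.pow_le_self n.succ_ne_zero)
  have hnil : IsNilpotent mR := ⟨n + 1, by rw [← Ideal.map_pow, Ideal.map_quotient_self]; rfl⟩
  haveI : Module.Flat R (R ⊗[R] (R ⊗[A] M)) := inferInstance
  haveI : Module.Free R (R ⊗[A] M) := Groth.L01.NilDescent.free_of_flat_baseChange mR hnil R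
    (fun x y h => h) (R ⊗[A] M)
  letI : Algebra R C := (Ideal.Quotient.lift _ (algebraMap A C) hn).toAlgebra
  haveI : IsScalarTower A R C := IsScalarTower.of_algebraMap_eq fun a => rfl
  have hD : Module.IsTorsionBySet A D (maximalIdeal A ^ (n + 1) : Ideal A) := fun d ⟨a, ha⟩ => by
    obtain ⟨c, rfl⟩ := hπ d
    rw [← map_smul, Algebra.smul_def, hn a ha, zero_mul, map_zero]
  letI : Module R D := hD.module
  haveI : IsScalarTower A R D := hD.isScalarTower
  let πR : C →ₗ[R] D :=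
    { toFun := π
      map_add' := map_add π
      map_smul' := fun r c => by
        obtain ⟨a, rfl⟩ := Ideal.Quotient.mk_surjective r
        show π (algebraMap R C (Ideal.Quotient.mk _ a) * c) = algebraMap A R a • π c
        rw [algebraMap_smul, ← map_smul, Algebra.smul_def]
        rfl }
  obtain ⟨L, hL⟩ := Module.projective_lifting_property πR (LinearMap.liftBaseChange R φ) hπ
  refine ⟨(L.restrictScalars A).comp (TensorProduct.mk A R M 1), LinearMap.ext fun m => ?_⟩
  exact (LinearMap.congr_fun hL (1 ⊗ₜ[A] m)).trans (by rw [LinearMap.liftBaseChange_tmul, one_smul])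

set_option maxHeartbeats 800000 in
theorem lift_step [IsLocalRing A] [IsNoetherianRing A] [IsLocalRing B] [IsNoetherianRing B]
    [IsLocalHom (algebraMap A B)] [Module.Flat A B] (hk : Function.Surjective (algebraMap A k))
    [IsRegularLocalRing (k ⊗[A] B)]
    (hF : CAlgX.IsAdicFormallySmooth k (k ⊗[A] B) (maximalIdeal (k ⊗[A] B)))
    {C : Type u} [CommRing C] [Algebra A C] (J : Ideal C) (hJ : J ^ 2 = ⊥)
    (hmJ : ∀ a ∈ maximalIdeal A, ∀ j ∈ J, algebraMap A C a * j = 0)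
    (ψ : B →ₐ[A] C ⧸ J) {N : ℕ} (hN : ∀ x ∈ maximalIdeal B ^ N, ψ x = 0) :
    ∃ χ : B →ₐ[A] C, (Ideal.Quotient.mkₐ A J).comp χ = ψ := by
  obtain ⟨I, M, hI, hflat, hM⟩ := exists_flat_quotient (B := B) hk N
  let φ : (B ⧸ I) →ₐ[A] C ⧸ J := Ideal.Quotient.liftₐ I ψ fun x hx => hN x (hI hx)
  obtain ⟨s, hs⟩ := exists_linear_lift (2 * N) (mem_pow_of_kills hJ ψ hN) (Ideal.Quotient.mkₐ A J).toLinearMap
    (Ideal.Quotient.mkₐ_surjective A J) φ.toLinearMap
  have hs' : ∀ y, Ideal.Quotient.mk J (s y) = φ y := fun y => LinearMap.congr_fun hs y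
  let E : Subalgebra A (C × (B ⧸ I)) := AlgHom.equalizer
    ((Ideal.Quotient.mkₐ A J).comp (AlgHom.fst A C (B ⧸ I))) (φ.comp (AlgHom.snd A C (B ⧸ I)))
  have hmemE : ∀ (c : C) (y : B ⧸ I), Ideal.Quotient.mk J c = φ y → (c, y) ∈ E := fun c y h => h
  let pB : E →ₐ[A] B ⧸ I := (AlgHom.snd A C (B ⧸ I)).comp E.val
  have hpB : Function.Surjective pB := fun y => ⟨⟨(s y, y), hmemE _ _ (hs' y)⟩, rfl⟩
  let mE : Ideal E := (maximalIdeal A).map (algebraMap A E)
  -- `mE` meets the kernel of the projection trivially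
  have hmE : ∀ z ∈ mE, (z : C × (B ⧸ I)).1 = s (z : C × (B ⧸ I)).2 := by
    intro z hz
    have hz' : z ∈ (maximalIdeal A) • (⊤ : Submodule A E) := by rw [Ideal.smul_top_eq_map]; exact hz
    refine Submodule.smul_induction_on hz' (fun a ha e _ => ?_) (fun x y hx hy => ?_)
    · show a • (e : C × (B ⧸ I)).1 = s (a • (e : C × (B ⧸ I)).2)
      rw [map_smul, ← sub_eq_zero, ← smul_sub, Algebra.smul_def]
      refine hmJ a ha _ (Ideal.Quotient.eq.mp ?_)
      rw [hs']
      exact e.2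
    · show (x : C × (B ⧸ I)).1 + (y : C × (B ⧸ I)).1 = s ((x : C × (B ⧸ I)).2 + (y : C × (B ⧸ I)).2)
      rw [map_add, hx, hy]
  let inc := (Algebra.TensorProduct.includeRight : B →ₐ[A] k ⊗[A] B)
  let IF : Ideal (k ⊗[A] B) := I.map inc.toRingHom
  let q0 : (B ⧸ I) →ₐ[A] (k ⊗[A] B) ⧸ IF := Ideal.Quotient.liftₐ I ((Ideal.Quotient.mkₐ A IF).comp inc)
    fun x hx => Ideal.Quotient.eq_zero_iff_mem.mpr (Ideal.mem_map_of_mem _ hx)
  have hq0s : Function.Surjective q0 := by
    intro y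
    obtain ⟨z, rfl⟩ := Ideal.Quotient.mk_surjective y
    obtain ⟨b, rfl⟩ := includeRight_surjective B hk z
    exact ⟨Ideal.Quotient.mk I b, rfl⟩
  have hker : ∀ a ∈ RingHom.ker (algebraMap A k), Ideal.Quotient.mk mE (algebraMap A E a) = 0 := fun a ha => by
    rw [ker_algebraMap_eq hk] at ha
    exact Ideal.Quotient.eq_zero_iff_mem.mpr (Ideal.mem_map_of_mem _ ha)
  let fk : k →+* E ⧸ mE := (algebraMap A k).liftOfSurjective hk ⟨(Ideal.Quotient.mk mE).comp (algebraMap A E), hker⟩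
  have hfk : ∀ a, fk (algebraMap A k a) = Ideal.Quotient.mk mE (algebraMap A E a) := fun a =>
    RingHom.liftOfRightInverse_comp_apply _ _ _ ⟨(Ideal.Quotient.mk mE).comp (algebraMap A E), hker⟩ a
  letI : Algebra k (E ⧸ mE) := fk.toAlgebra
  haveI : IsScalarTower A k (E ⧸ mE) := IsScalarTower.of_algebraMap_eq fun a => (hfk a).symm
  let p0' : (E ⧸ mE) →ₐ[A] (k ⊗[A] B) ⧸ IF := Ideal.Quotient.liftₐ mE (q0.comp pB) (by
    show mE ≤ RingHom.ker (q0.comp pB).toRingHom
    refine Ideal.map_le_iff_le_comap.mpr fun a ha => ?_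
    show (q0.comp pB) (algebraMap A E a) = 0
    rw [AlgHom.commutes, IsScalarTower.algebraMap_apply A k ((k ⊗[A] B) ⧸ IF),
      show algebraMap A k a = 0 from (ker_algebraMap_eq hk).ge ha, map_zero])
  let p0 : (E ⧸ mE) →ₐ[k] (k ⊗[A] B) ⧸ IF := AlgHom.mk p0'.toRingHom fun c => by
    obtain ⟨a, rfl⟩ := hk c
    show p0' (algebraMap k (E ⧸ mE) (algebraMap A k a)) = _
    rw [← IsScalarTower.algebraMap_apply, AlgHom.commutes, IsScalarTower.algebraMap_apply A k]
  have hp0 : ∀ z, p0 (Ideal.Quotient.mk mE z) = q0 (pB z) := fun z => rfl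
  have hp0s : Function.Surjective p0 := fun y => by
    obtain ⟨w, rfl⟩ := hq0s y
    obtain ⟨z, rfl⟩ := hpB w
    exact ⟨_, hp0 z⟩
  -- elements of the kernel come from the kernel of the projection
  have hkey : ∀ w, p0 w = 0 → ∃ z : E, pB z = 0 ∧ Ideal.Quotient.mk mE z = w := by
    intro w hw
    obtain ⟨z, rfl⟩ := Ideal.Quotient.mk_surjective w
    rw [hp0] at hw
    obtain ⟨b, hb⟩ := Ideal.Quotient.mk_surjective (pB z)
    rw [← hb] at hw
    replace hw : inc b ∈ IF := Ideal.Quotient.eq_zero_iff_mem.mp hw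
    obtain ⟨i, hi, hie⟩ := (Ideal.mem_map_iff_of_surjective inc.toRingHom (includeRight_surjective B hk)).mp hw
    have h2 : b - i ∈ (maximalIdeal A).map (algebraMap A B) := by
      rw [← ker_includeRight (k := k) hk, RingHom.mem_ker, map_sub, sub_eq_zero]
      exact hie.symm
    have h3 : pB z ∈ mE.map pB.toRingHom := by
      rw [← hb, show Ideal.Quotient.mk I b = Ideal.Quotient.mk I (b - i) from by
        rw [map_sub, Ideal.Quotient.eq_zero_iff_mem.mpr hi, sub_zero]]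
      rw [show mE.map pB.toRingHom = ((maximalIdeal A).map (algebraMap A B)).map (Ideal.Quotient.mk I) by
        rw [Ideal.map_map, Ideal.map_map]
        congr 1]
      exact Ideal.mem_map_of_mem _ h2
    obtain ⟨z2, hz2, hz2e⟩ := (Ideal.mem_map_iff_of_surjective pB.toRingHom hpB).mp h3
    refine ⟨z - z2, ?_, ?_⟩
    · rw [map_sub, sub_eq_zero]
      exact hz2e.symm
    · rw [map_sub, Ideal.Quotient.eq_zero_iff_mem.mpr hz2, sub_zero]
  have hzero : ∀ z : E, pB z = 0 → (z : C × (B ⧸ I)).1 ∈ J := fun z hz => by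
    rw [← Ideal.Quotient.eq_zero_iff_mem]
    refine z.2.trans ?_
    show φ (pB z) = 0
    rw [hz, map_zero]
  have hJ0 : RingHom.ker p0.toRingHom ^ 2 = ⊥ := by
    rw [pow_two, eq_bot_iff, Ideal.mul_le]
    intro w hw w' hw'
    obtain ⟨z, hz, rfl⟩ := hkey w hw
    obtain ⟨z', hz', rfl⟩ := hkey w' hw'
    rw [Ideal.mem_bot, ← map_mul]
    have h1 := Ideal.mul_mem_mul (hzero z hz) (hzero z' hz')
    rw [← pow_two, hJ, Ideal.mem_bot] at h1
    have : z * z' = 0 := Subtype.ext (Prod.ext h1 (by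
      show pB z * pB z' = 0
      rw [hz, zero_mul]))
    rw [this, map_zero]
  let e0 := Ideal.quotientKerAlgEquivOfSurjective hp0s
  obtain ⟨χ0, hχ0⟩ := hF (E ⧸ mE) (RingHom.ker p0.toRingHom) hJ0
    (e0.symm.toAlgHom.comp (Ideal.Quotient.mkₐ k IF)) ⟨M, fun x hx => by
      show e0.symm (Ideal.Quotient.mk IF x) = 0
      rw [← maximalIdeal_fibre hk, ← Ideal.map_pow] at hx
      obtain ⟨b, hb, rfl⟩ := (Ideal.mem_map_iff_of_surjective inc.toRingHom (includeRight_surjective B hk)).mp hx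
      obtain ⟨i, hi, r, hr, rfl⟩ := Submodule.mem_sup.mp (hM hb)
      rw [Ideal.Quotient.eq_zero_iff_mem.mpr ?_, map_zero]
      rw [map_add]
      refine add_mem (Ideal.mem_map_of_mem _ hi) ?_
      rw [show inc.toRingHom r = 0 from (ker_includeRight (k := k) hk).ge hr]
      exact zero_mem _⟩
  have hχ0' : ∀ x, p0 (χ0 x) = Ideal.Quotient.mk IF x := fun x => by
    have h1 : Ideal.Quotient.mk (RingHom.ker p0.toRingHom) (χ0 x) = e0.symm (Ideal.Quotient.mk IF x) :=
      DFunLike.congr_fun hχ0 x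
    have h2 := congrArg e0 h1
    rw [AlgEquiv.apply_symm_apply] at h2
    exact h2
  let Φ : E →ₐ[A] (B ⧸ I) × (E ⧸ mE) := pB.prod (Ideal.Quotient.mkₐ A mE)
  have hΦ : Function.Injective Φ := by
    refine (injective_iff_map_eq_zero Φ).mpr fun z hz => ?_
    have h1 : pB z = 0 := congrArg Prod.fst hz
    have h2 := hmE z (Ideal.Quotient.eq_zero_iff_mem.mp (congrArg Prod.snd hz))
    rw [show (z : C × (B ⧸ I)).2 = 0 from h1, map_zero] at h2
    exact Subtype.ext (Prod.ext h2 h1)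
  let T : B →ₐ[A] (B ⧸ I) × (E ⧸ mE) := (Ideal.Quotient.mkₐ A I).prod ((χ0.restrictScalars A).comp inc)
  have hT : ∀ b, T b ∈ Φ.range := by
    intro b
    let z1 : E := ⟨(s (Ideal.Quotient.mk I b), Ideal.Quotient.mk I b), hmemE _ _ (hs' _)⟩
    have h1 : p0 (χ0 (inc b) - Ideal.Quotient.mk mE z1) = 0 := by
      rw [map_sub, hχ0', hp0, sub_eq_zero]
      rfl
    obtain ⟨z, hz, hze⟩ := hkey _ h1
    refine ⟨z1 + z, Prod.ext ?_ ?_⟩
    · show pB (z1 + z) = Ideal.Quotient.mk I b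
      rw [map_add, hz, add_zero]
      rfl
    · show Ideal.Quotient.mk mE (z1 + z) = χ0 (inc b)
      rw [map_add, hze]
      ring
  let eE := AlgEquiv.ofInjective Φ hΦ
  let v : B →ₐ[A] E := eE.symm.toAlgHom.comp (T.codRestrict Φ.range hT)
  have hv : ∀ b, pB (v b) = Ideal.Quotient.mk I b := fun b => by
    have h1 : eE (v b) = ⟨T b, hT b⟩ := eE.apply_symm_apply _
    exact congrArg (fun t : Φ.range => (t : (B ⧸ I) × (E ⧸ mE)).1) h1
  refine ⟨((AlgHom.fst A C (B ⧸ I)).comp E.val).comp v, AlgHom.ext fun b => ?_⟩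
  show Ideal.Quotient.mk J ((v b : C × (B ⧸ I)).1) = ψ b
  rw [show Ideal.Quotient.mk J ((v b : C × (B ⧸ I)).1) = φ (pB (v b)) from (v b).2, hv]
  rfl

theorem adicSmooth_of_flat_fibre [IsLocalRing A] [IsNoetherianRing A] [IsLocalRing B] [IsNoetherianRing B]
    [IsLocalHom (algebraMap A B)] [Module.Flat A B] (hk : Function.Surjective (algebraMap A k))
    [IsLocalRing (k ⊗[A] B)]
    (hF : CAlgX.IsAdicFormallySmooth k (k ⊗[A] B) (maximalIdeal (k ⊗[A] B))) :
    CAlgX.IsAdicFormallySmooth A B (maximalIdeal B) := by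
  haveI := isNoetherianRing_fibre (B := B) hk
  haveI := regular_of_adicSmooth_field hF
  suffices h : ∀ (e : ℕ) (C : Type u) [CommRing C] [Algebra A C] (J : Ideal C), J ^ 2 = ⊥ →
      (∀ a ∈ maximalIdeal A ^ e, ∀ j ∈ J, algebraMap A C a * j = 0) →
      ∀ (ψ : B →ₐ[A] C ⧸ J) (N : ℕ), (∀ x ∈ maximalIdeal B ^ N, ψ x = 0) →
        ∃ χ : B →ₐ[A] C, (Ideal.Quotient.mkₐ A J).comp χ = ψ by
    intro C _ _ J hJ ψ ⟨N, hN⟩
    exact h (2 * N) C J hJ (fun a ha j _ => by rw [mem_pow_of_kills hJ ψ hN a ha, zero_mul]) ψ N hN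
  intro e
  induction e with
  | zero =>
    intro C _ _ J hJ he ψ N hN
    have hbot : J = ⊥ := eq_bot_iff.mpr fun j hj => by simpa using he 1 (by simp) j hj
    refine lift_step hk hF J hJ (fun a _ j hj => ?_) ψ hN
    rw [show j = 0 from by rw [hbot] at hj; exact hj, mul_zero]
  | succ e ih =>
    intro C _ _ J hJ he ψ N hN
    let J' : Ideal C := (maximalIdeal A).map (algebraMap A C) * J
    have hle : J' ≤ J := Ideal.mul_le_right
    let ψ' : B →ₐ[A] (C ⧸ J') ⧸ J.map (Ideal.Quotient.mkₐ A J') :=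
      (DoubleQuot.quotQuotEquivQuotOfLEₐ A hle).symm.toAlgHom.comp ψ
    have hJ1 : (J.map (Ideal.Quotient.mkₐ A J')) ^ 2 = ⊥ := by rw [← Ideal.map_pow, hJ, Ideal.map_bot]
    have hN' : ∀ x ∈ maximalIdeal B ^ N, ψ' x = 0 := fun x hx => by
      show (DoubleQuot.quotQuotEquivQuotOfLEₐ A hle).symm (ψ x) = 0
      rw [hN x hx, map_zero]
    obtain ⟨χ', hχ'⟩ := lift_step hk hF (C := C ⧸ J') (J.map (Ideal.Quotient.mkₐ A J')) hJ1 (fun a ha j hj => by
      obtain ⟨j0, hj0, rfl⟩ := (Ideal.mem_map_iff_of_surjective _ (Ideal.Quotient.mkₐ_surjective A J')).mp hj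
      show Ideal.Quotient.mk J' (algebraMap A C a) * Ideal.Quotient.mk J' j0 = 0
      rw [← map_mul, Ideal.Quotient.eq_zero_iff_mem]
      exact Ideal.mul_mem_mul (Ideal.mem_map_of_mem _ ha) hj0) ψ' hN'
    have hJ' : J' ^ 2 = ⊥ := le_bot_iff.mp ((Ideal.pow_right_mono hle 2).trans hJ.le)
    obtain ⟨χ, hχ⟩ := ih C J' hJ' (fun a ha j hj => by
      refine Submodule.mul_induction_on hj (fun b hb c hc => ?_) (fun x y hx hy => by rw [mul_add, hx, hy, add_zero])
      induction hb using Submodule.span_induction with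
      | mem x hx =>
        obtain ⟨t, ht, rfl⟩ := hx
        rw [← mul_assoc, ← map_mul]
        exact he _ (by rw [pow_succ]; exact Ideal.mul_mem_mul ha ht) c hc
      | zero => simp
      | add x y _ _ hx hy => rw [add_mul, mul_add, hx, hy, add_zero]
      | smul r x _ hx => rw [smul_eq_mul, mul_assoc, mul_left_comm, hx, mul_zero]) χ' (N + N) (fun x hx => by
        rw [pow_add] at hx
        refine Submodule.mul_induction_on hx (fun b hb c hc => ?_) (fun y z hy hz => by rw [map_add, hy, hz, add_zero])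
        have hin : ∀ y ∈ maximalIdeal B ^ N, χ' y ∈ J.map (Ideal.Quotient.mkₐ A J') := fun y hy => by
          rw [← Ideal.Quotient.eq_zero_iff_mem]
          exact (DFunLike.congr_fun hχ' y).trans (hN' y hy)
        have h1 := Ideal.mul_mem_mul (hin b hb) (hin c hc)
        rwa [← pow_two, hJ1, Ideal.mem_bot, ← map_mul] at h1)
    refine ⟨χ, AlgHom.ext fun b => ?_⟩
    have h1 : Ideal.Quotient.mk J' (χ b) = χ' b := DFunLike.congr_fun hχ b
    have h2 : Ideal.Quotient.mk (J.map (Ideal.Quotient.mkₐ A J')) (χ' b) = ψ' b := DFunLike.congr_fun hχ' b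
    have h3 := congrArg (DoubleQuot.quotQuotEquivQuotOfLEₐ A hle) h2
    rw [← h1] at h3
    show Ideal.Quotient.mk J (χ b) = ψ b
    exact h3.trans (AlgEquiv.apply_symm_apply _ _)

end Groth.L06.FormSmooth
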