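import Groth.Agent.L06.FormSmoothFlat
import Groth.Prelude.Def_EGA41
import Mathlib.RingTheory.LocalRing.ResidueField.Ideal

/-! Adic formal smoothness = flat with geometrically regular closed fibre. -/

set_option autoImplicit false
set_option maxSynthPendingDepth 3
set_option linter.style.haveILetI false
universe u

namespace Groth.L06.FormSmooth

open IsLocalRing
open scoped TensorProduct

theorem adicSmooth_iff_flat_geomRegular {A B k : Type u} [CommRing A] [CommRing B] [Field k] [Algebra A B] [Algebra A k]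
    [IsLocalRing A] [IsNoetherianRing A] [IsLocalRing B] [IsNoetherianRing B] [IsLocalHom (algebraMap A B)]
    (hk : Function.Surjective (algebraMap A k)) :
    CAlgX.IsAdicFormallySmooth A B (maximalIdeal B) ↔ (Module.Flat A B ∧ CAlg.IsGeometricallyRegular k (k ⊗[A] B)) := by
  haveI := isLocalRing_fibre (B := B) hk
  haveI := isNoetherianRing_fibre (B := B) hk
  refine ⟨fun h => ⟨flat_of_adicSmooth h, isGeometricallyRegular_of_adicSmooth (fibre_of_adicSmooth hk h)⟩, ?_⟩
  rintro ⟨hflat, hreg⟩
  exact adicSmooth_of_flat_fibre hk ((adicSmooth_iff_geometricallyRegular k _).mpr hreg)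

theorem residueField_surjective {A : Type u} [CommRing A] [IsLocalRing A] :
    Function.Surjective (algebraMap A (maximalIdeal A).ResidueField) :=
  Ideal.algebraMap_residueField_surjective _

/-- formal smoothness for adic topologies on both sides of a local homomorphism -/
theorem adicSmooth_two_sided_iff {A B : Type u} [CommRing A] [CommRing B] [Algebra A B] [IsLocalRing A] [IsLocalRing B]
    [IsLocalHom (algebraMap A B)] :
    EGA41.IsFormallySmoothAdic A (maximalIdeal A) B (maximalIdeal B) ↔ CAlgX.IsAdicFormallySmooth A B (maximalIdeal B) := by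
  constructor
  · intro h C _ _ J hJ ψ ⟨N, hN⟩
    exact h C J ⟨2, hJ⟩ ⟨2 * N, by
      rw [Ideal.map_eq_bot_iff_le_ker]
      exact fun a ha => mem_pow_of_kills hJ ψ hN a ha⟩ ψ ⟨N, hN⟩
  · intro h C _ _ J hJn _ u hu
    suffices H : ∀ (m : ℕ) (C : Type u) [CommRing C] [Algebra A C] (J : Ideal C), J ^ (m + 1) = ⊥ → ∀ u : B →ₐ[A] C ⧸ J,
        (∃ N, ∀ x ∈ maximalIdeal B ^ N, u x = 0) →
        ∃ v : B →ₐ[A] C, ((Ideal.Quotient.mkₐ A J).comp v = u) ∧ ∃ N, ∀ x ∈ maximalIdeal B ^ N, v x = 0 by
      obtain ⟨m, hm⟩ := hJn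
      obtain ⟨v, hv, -⟩ := H m C J (le_bot_iff.mp (by rw [← Submodule.zero_eq_bot, ← hm]; exact Ideal.pow_le_pow_right m.le_succ)) u hu
      exact ⟨v, hv⟩
    intro m
    induction m with
    | zero =>
      intro C _ _ J hJ u hu
      rw [zero_add, pow_one] at hJ
      subst hJ
      let e := AlgEquiv.quotientBot A C
      refine ⟨e.toAlgHom.comp u, AlgHom.ext fun b => e.injective ?_, ?_⟩
      · obtain ⟨c, hc⟩ := Ideal.Quotient.mk_surjective (u b)
        show e (Ideal.Quotient.mk ⊥ (e (u b))) = e (u b)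
        rw [← hc]
        rfl
      · obtain ⟨N, hN⟩ := hu
        exact ⟨N, fun x hx => by show e (u x) = 0; rw [hN x hx, map_zero]⟩
    | succ m ih =>
      intro C _ _ J hJ u hu
      let J' : Ideal C := J ^ (m + 1)
      have hle : J' ≤ J := Ideal.pow_le_self m.succ_ne_zero
      obtain ⟨v', hv', N, hN⟩ := ih (C ⧸ J') (J.map (Ideal.Quotient.mkₐ A J'))
        (by rw [← Ideal.map_pow]; exact Ideal.map_quotient_self _)
        ((DoubleQuot.quotQuotEquivQuotOfLEₐ A hle).symm.toAlgHom.comp u) (by
          obtain ⟨N, hN⟩ := hu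
          exact ⟨N, fun x hx => by
            show (DoubleQuot.quotQuotEquivQuotOfLEₐ A hle).symm (u x) = 0
            rw [hN x hx, map_zero]⟩)
      have hJ' : J' ^ 2 = ⊥ := le_bot_iff.mp (by rw [← hJ, ← pow_mul]; exact Ideal.pow_le_pow_right (by omega))
      obtain ⟨v, hv⟩ := h C J' hJ' v' ⟨N, hN⟩
      refine ⟨v, AlgHom.ext fun b => ?_, N + N, fun x hx => ?_⟩
      · have h1 : Ideal.Quotient.mk J' (v b) = v' b := DFunLike.congr_fun hv b
        have h2 : Ideal.Quotient.mk (J.map (Ideal.Quotient.mkₐ A J')) (v' b) =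
            (DoubleQuot.quotQuotEquivQuotOfLEₐ A hle).symm (u b) := DFunLike.congr_fun hv' b
        rw [← h1] at h2
        exact (congrArg (DoubleQuot.quotQuotEquivQuotOfLEₐ A hle) h2).trans (AlgEquiv.apply_symm_apply _ _)
      · rw [pow_add] at hx
        refine Submodule.mul_induction_on hx (fun b hb c hc => ?_) (fun y z hy hz => by rw [map_add, hy, hz, add_zero])
        have hin : ∀ y ∈ maximalIdeal B ^ N, v y ∈ J' := fun y hy => by
          rw [← Ideal.Quotient.eq_zero_iff_mem]
          exact (DFunLike.congr_fun hv y).trans (hN y hy)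
        have h1 := Ideal.mul_mem_mul (hin b hb) (hin c hc)
        rwa [← pow_two, hJ', Ideal.mem_bot, ← map_mul] at h1

end Groth.L06.FormSmooth
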