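import Groth.Agent.L06.SymGrPoly
import Groth.Agent.L06.FormSmoothDer
import Groth.Agent.L06.FormSmoothJacobiQ
import Mathlib.RingTheory.Smooth.Basic
import Mathlib.Algebra.Algebra.Subalgebra.Operations
import Mathlib.Algebra.Algebra.Operations

/-! Adic formal smoothness with formally smooth quotient: `J/J²` projective and symmetric graded ring. -/

set_option autoImplicit false
set_option maxSynthPendingDepth 3
set_option linter.style.haveILetI false
universe u

namespace Groth.L06.SymGr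

open scoped TensorProduct
open Groth.L06.FormSmooth (exists_descend)

variable {A B : Type u} [CommRing A] [CommRing B] [Algebra A B] (J : Ideal B)

instance isScalarTower_cotangent : IsScalarTower A (B ⧸ J) J.Cotangent :=
  IsScalarTower.of_algebraMap_smul fun a v => by
    rw [IsScalarTower.algebraMap_apply A B (B ⧸ J), algebraMap_smul, algebraMap_smul]

variable [Algebra.FormallySmooth A (B ⧸ J)]

/-- the derivation to `J/J²` attached to a section of `B/J² → B/J` -/
theorem exists_cotDer : ∃ r : Derivation A B J.Cotangent, ∀ x : ↥J, r x = J.toCotangent x := by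
  let π : (B ⧸ J ^ 2) →ₐ[A] B ⧸ J := Ideal.Quotient.factorₐ A (Ideal.pow_le_self two_ne_zero)
  have hπ : ∀ b, π (Ideal.Quotient.mk _ b) = Ideal.Quotient.mk J b := fun b => rfl
  have hker : ∀ z, π z = 0 → z ∈ J.cotangentIdeal := fun z hz => by
    obtain ⟨b, rfl⟩ := Ideal.Quotient.mk_surjective z
    exact Ideal.mk_mem_cotangentIdeal.mpr (Ideal.Quotient.eq_zero_iff_mem.mp ((hπ b).symm.trans hz))
  let s := Algebra.FormallySmooth.liftOfSurjective (AlgHom.id A (B ⧸ J)) π (Ideal.Quotient.factor_surjective (Ideal.pow_le_self two_ne_zero)) ⟨2, by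
    rw [Submodule.zero_eq_bot, eq_bot_iff, ← J.cotangentIdeal_square]
    exact Ideal.pow_right_mono (fun z hz => hker z hz) 2⟩
  have hs : ∀ c, π (s c) = c := Algebra.FormallySmooth.liftOfSurjective_apply _ _ _ _
  let q : B →ₐ[A] B ⧸ J ^ 2 := Ideal.Quotient.mkₐ A (J ^ 2)
  have hmem : ∀ b, q b - s (Ideal.Quotient.mk J b) ∈ J.cotangentIdeal := fun b => hker _ (by
    rw [map_sub, hs]
    exact sub_self _)
  let D : B →ₗ[A] J.Cotangent :=
    (J.cotangentEquivIdeal.symm.toLinearMap.restrictScalars A).comp (LinearMap.codRestrict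
      (J.cotangentIdeal.restrictScalars A) (q.toLinearMap - s.toLinearMap ∘ₗ (Ideal.Quotient.mkₐ A J).toLinearMap) hmem)
  have hD : ∀ b, J.cotangentEquivIdeal (D b) = ⟨_, hmem b⟩ := fun b => J.cotangentEquivIdeal.apply_symm_apply _
  refine ⟨Derivation.mk' D fun x y => J.cotangentEquivIdeal.injective (Subtype.ext ?_), fun x => ?_⟩
  · rw [map_add, map_smul, map_smul, hD, hD, hD]
    show q (x * y) - s (Ideal.Quotient.mk J (x * y)) =
      q x * (q y - s (Ideal.Quotient.mk J y)) + q y * (q x - s (Ideal.Quotient.mk J x))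
    have h1 := Ideal.mul_mem_mul (hmem x) (hmem y)
    rw [← pow_two, J.cotangentIdeal_square, Ideal.mem_bot] at h1
    rw [map_mul, map_mul, map_mul]
    linear_combination (-1 : B ⧸ J ^ 2) * h1
  · refine J.cotangentEquivIdeal.injective (Subtype.ext ?_)
    show ((J.cotangentEquivIdeal (D x) : J.cotangentIdeal) : B ⧸ J ^ 2) = _
    rw [hD]
    show q (x : B) - s (Ideal.Quotient.mk J (x : B)) = _
    rw [Ideal.Quotient.eq_zero_iff_mem.mpr x.2, map_zero, sub_zero]
    rfl

theorem projective_cotangent_of_adicSmooth (h : CAlgX.IsAdicFormallySmooth A B J) :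
    Module.Projective (B ⧸ J) J.Cotangent := by
  obtain ⟨r, hr⟩ := exists_cotDer (A := A) J
  let g : (J.Cotangent →₀ (B ⧸ J)) →ₗ[B ⧸ J] J.Cotangent := Finsupp.linearCombination (B ⧸ J) id
  have hg : Function.Surjective g := fun p => ⟨Finsupp.single p 1, by simp [g]⟩
  obtain ⟨D', hD'⟩ := Groth.L06.FormSmoothAdic.exists_der_lift (R := B ⧸ J) (𝔞 := ⊥) (𝔟 := J)
    ⟨1, by rw [pow_one, Ideal.map_bot]; exact bot_le⟩
    ((Groth.L06.FormSmoothAdic.calgx_iff J).mp h) (n := 1)
    (fun x hx => Ideal.Quotient.eq_zero_iff_mem.mpr (by rwa [pow_one] at hx)) g hg r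
  have hkill : ∀ x ∈ J, ∀ w : J.Cotangent →₀ (B ⧸ J), x • w = 0 := fun x hx w => by
    rw [← algebraMap_smul (B ⧸ J) x w, show algebraMap B (B ⧸ J) x = 0 from Ideal.Quotient.eq_zero_iff_mem.mpr hx, zero_smul]
  let D0 : ↥J →ₗ[B] (J.Cotangent →₀ (B ⧸ J)) :=
    { toFun := fun x => D' (x : B)
      map_add' := fun x y => map_add D' _ _
      map_smul' := fun c x => by
        show D' (c * (x : B)) = c • D' (x : B)
        rw [D'.leibniz, hkill _ x.2, add_zero] }
  obtain ⟨F, hF⟩ := exists_descend J.toCotangent J.toCotangent_surjective D0 fun x hx => by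
    rw [LinearMap.mem_ker, ← map_zero J.toCotangent, Ideal.toCotangent_eq, ZeroMemClass.coe_zero, sub_zero, pow_two] at hx
    exact Groth.L06.FormSmoothAdic.der_kills D' hkill _ hx
  refine Module.Projective.of_split (F.extendScalarsOfSurjective Ideal.Quotient.mk_surjective) g (LinearMap.ext fun v => ?_)
  obtain ⟨x, rfl⟩ := J.toCotangent_surjective v
  show g (F (J.toCotangent x)) = J.toCotangent x
  rw [hF]
  exact (hD' x).trans (hr x)

set_option maxHeartbeats 800000 in
theorem symGrBijective_of_adicSmooth (h : CAlgX.IsAdicFormallySmooth A B J) : PP16.SymGrBijective B J := by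
  haveI := projective_cotangent_of_adicSmooth J h
  obtain ⟨r, hr⟩ := exists_cotDer (A := A) J
  refine symGrBijective_of_injective J fun ι _ _ φ hφ => injective_of_test J φ hφ fun lin hlin => ?_
  let R := B ⧸ J
  let P := MvPolynomial J.Cotangent R
  let Q : Ideal P := MvPolynomial.idealOfVars J.Cotangent R ^ (Fintype.card ι + 1)
  let T := P ⧸ Q
  let I1 : Ideal T := (MvPolynomial.idealOfVars J.Cotangent R).map (Ideal.Quotient.mk Q)
  let cA : B →ₐ[A] T := (Ideal.Quotient.mkₐ A Q).comp ((IsScalarTower.toAlgHom A R P).comp (Ideal.Quotient.mkₐ A J))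
  let lA : J.Cotangent →ₗ[A] T := (Ideal.Quotient.mkₐ A Q).toLinearMap.comp (lin.restrictScalars A)
  have hl : ∀ v, lA v ∈ I1 := fun v => Ideal.mem_map_of_mem _ (hlin v)
  have hsm : ∀ (b : B) (v : J.Cotangent), lA (b • v) = cA b * lA v := fun b v => by
    show Ideal.Quotient.mk Q (lin (b • v)) = Ideal.Quotient.mk Q (MvPolynomial.C (Ideal.Quotient.mk J b)) * Ideal.Quotient.mk Q (lin v)
    rw [← map_mul, ← algebraMap_smul R b v, map_smul, MvPolynomial.smul_eq_C_mul]
    rfl
  let π2 := Ideal.Quotient.mkₐ A (I1 ^ 2)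
  have hπ2 : ∀ v w, π2 (lA v) * π2 (lA w) = 0 := fun v w => by
    rw [← map_mul]
    exact Ideal.Quotient.eq_zero_iff_mem.mpr (pow_two I1 ▸ Ideal.mul_mem_mul (hl v) (hl w))
  let u : B →ₐ[A] T ⧸ I1 ^ 2 := AlgHom.ofLinearMap (π2.toLinearMap.comp (cA.toLinearMap + lA.comp r.toLinearMap))
    (by show π2 (cA 1 + lA (r 1)) = 1; rw [map_one, r.map_one_eq_zero, map_zero, add_zero, map_one])
    fun x y => by
      show π2 (cA (x * y) + lA (r (x * y))) = π2 (cA x + lA (r x)) * π2 (cA y + lA (r y))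
      rw [r.leibniz, map_add lA, hsm, hsm, map_mul cA]
      simp only [map_add, map_mul]
      linear_combination (-1 : T ⧸ I1 ^ 2) * hπ2 (r x) (r y)
  have hu : ∀ x, u x = π2 (cA x + lA (r x)) := fun x => rfl
  have hI1 : I1 ^ (Fintype.card ι + 1) = ⊥ := by rw [← Ideal.map_pow, Ideal.map_quotient_self]
  have hJ2 : ∀ x ∈ J ^ 2, u x = 0 := fun x hx => by
    rw [pow_two] at hx
    rw [hu, show r x = 0 from Groth.L06.FormSmoothAdic.der_kills r (fun y hy v => Ideal.Cotangent.smul_eq_zero_of_mem hy v) x hx,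
      map_zero, add_zero, show cA x = 0 from ?_, map_zero]
    show Ideal.Quotient.mk Q (MvPolynomial.C (Ideal.Quotient.mk J x)) = 0
    rw [Ideal.Quotient.eq_zero_iff_mem.mpr (Ideal.mul_le_left (I := J) hx), map_zero, map_zero]
  have hnil : IsNilpotent (I1 ^ 2) := ⟨Fintype.card ι + 1, by rw [← pow_mul, mul_comm, pow_mul, hI1]; exact (eq_bot_iff.mpr (Ideal.pow_le_self two_ne_zero))⟩
  obtain ⟨f, hf⟩ := (Groth.L06.FormSmoothAdic.calgx_iff J).mp h T (I1 ^ 2) hnil
    ⟨1, by rw [pow_one, Ideal.map_bot]⟩ u ⟨2, hJ2⟩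
  have hf' : ∀ b, f b - (cA b + lA (r b)) ∈ I1 ^ 2 := fun b =>
    Ideal.Quotient.eq.mp ((DFunLike.congr_fun hf b).trans (hu b))
  refine ⟨f.toRingHom, fun b => ?_, fun x => ?_⟩
  · have h1 := add_mem (Ideal.pow_le_self two_ne_zero (hf' b)) (hl (r b))
    rw [sub_add_eq_sub_sub, sub_add_cancel] at h1
    exact h1
  · show f (x : B) - lA (J.toCotangent x) ∈ I1 ^ 2
    have h1 := hf' (x : B)
    rw [hr, show cA (x : B) = 0 from by
      show Ideal.Quotient.mk Q (MvPolynomial.C (Ideal.Quotient.mk J (x : B))) = 0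
      rw [Ideal.Quotient.eq_zero_iff_mem.mpr x.2, map_zero, map_zero], zero_add] at h1
    exact h1

set_option maxHeartbeats 1600000 in
theorem adicSmooth_of_symGr [Module.Projective (B ⧸ J) J.Cotangent] (hsym : PP16.SymGrBijective B J) :
    CAlgX.IsAdicFormallySmooth A B J := by
  intro R _ _ H hH ψ ⟨k, hk⟩
  let C := B ⧸ J
  let m := 2 * k + 1
  let Bm := B ⧸ J ^ m
  let qm : B →ₐ[A] Bm := Ideal.Quotient.mkₐ A (J ^ m)
  let ψm : Bm →ₐ[A] R ⧸ H := Ideal.Quotient.liftₐ (J ^ m) ψ fun x hx => hk x (Ideal.pow_le_pow_right (by omega) hx)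
  let π : Bm →ₐ[A] C := Ideal.Quotient.factorₐ A (Ideal.pow_le_self (by omega))
  let Jb : Ideal Bm := J.map qm
  have hJbm : Jb ^ m = ⊥ := by
    rw [← Ideal.map_pow]
    exact Ideal.map_quotient_self (J ^ m)
  have hkerπ : ∀ z, π z = 0 → z ∈ Jb := fun z hz => by
    obtain ⟨b, rfl⟩ := Ideal.Quotient.mk_surjective z
    exact Ideal.mem_map_of_mem qm (Ideal.Quotient.eq_zero_iff_mem.mp hz)
  let s : C →ₐ[A] Bm := Algebra.FormallySmooth.liftOfSurjective (AlgHom.id A C) π (Ideal.Quotient.factor_surjective (Ideal.pow_le_self (by omega)))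
    ⟨m, by rw [Submodule.zero_eq_bot, eq_bot_iff, ← hJbm]; exact Ideal.pow_right_mono (fun z hz => hkerπ z hz) m⟩
  have hs : ∀ c, π (s c) = c := Algebra.FormallySmooth.liftOfSurjective_apply _ _ _ _
  let χC : C →ₐ[A] R := Algebra.FormallySmooth.lift H ⟨2, hH⟩ (ψm.comp s)
  have hχC : ∀ c, Ideal.Quotient.mk H (χC c) = ψm (s c) := fun c => Algebra.FormallySmooth.mk_lift _ _ _ c
  letI : Algebra C Bm := s.toRingHom.toAlgebra
  letI : Algebra C R := χC.toRingHom.toAlgebra
  -- sections of `Jb → J/J²`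
  let p : ↥J →ₗ[B] ↥Jb := LinearMap.codRestrict (Jb.restrictScalars B) ((Submodule.mkQ (J ^ m)).comp J.subtype)
    fun x => Ideal.mem_map_of_mem qm x.2
  have hp : Function.Surjective p := fun y => by
    obtain ⟨j, hj, hjy⟩ := (Ideal.mem_map_iff_of_surjective _ (Ideal.Quotient.mkₐ_surjective A _)).mp y.2
    exact ⟨⟨j, hj⟩, Subtype.ext hjy⟩
  by_cases hk0 : k = 0
  · subst hk0
    haveI : Subsingleton (R ⧸ H) := subsingleton_of_zero_eq_one (by
      rw [← map_one ψ]; exact (hk 1 (by simp)).symm)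
    have h1 : H = ⊤ := Ideal.Quotient.subsingleton_iff.mp ‹_›
    haveI : Subsingleton R := subsingleton_of_zero_eq_one (by
      have : (1 : R) ∈ H ^ 2 := by rw [h1, Ideal.top_pow]; trivial
      rw [hH, Ideal.mem_bot] at this
      exact this.symm)
    exact ⟨{ toFun := fun _ => 0, map_one' := Subsingleton.elim _ _, map_mul' := fun _ _ => Subsingleton.elim _ _,
              map_zero' := rfl, map_add' := fun _ _ => Subsingleton.elim _ _, commutes' := fun _ => Subsingleton.elim _ _ },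
      AlgHom.ext fun _ => Subsingleton.elim _ _⟩
  obtain ⟨ρ0, hρ0⟩ := exists_descend p hp J.toCotangent fun x hx => by
    rw [LinearMap.mem_ker, ← map_zero J.toCotangent, Ideal.toCotangent_eq, ZeroMemClass.coe_zero, sub_zero]
    exact Ideal.pow_le_pow_right (by omega) (Ideal.Quotient.eq_zero_iff_mem.mp (congrArg Subtype.val hx))
  have hρker : ∀ x : ↥Jb, ρ0 x = 0 → (x : Bm) ∈ Jb ^ 2 := fun x hx => by
    obtain ⟨j, rfl⟩ := hp x
    rw [hρ0, ← map_zero J.toCotangent, Ideal.toCotangent_eq, ZeroMemClass.coe_zero, sub_zero] at hx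
    show qm (j : B) ∈ Jb ^ 2
    rw [← Ideal.map_pow]
    exact Ideal.mem_map_of_mem qm hx
  let JbC : Submodule C Bm := Jb.restrictScalars C
  let ρ : JbC →ₗ[C] J.Cotangent :=
    { toFun := fun x => ρ0 ⟨x.1, x.2⟩
      map_add' := fun x y => map_add ρ0 (⟨x.1, x.2⟩ : ↥Jb) ⟨y.1, y.2⟩
      map_smul' := fun c x => by
        have key : ∀ y : ↥Jb, ρ0 ⟨s c * y.1, Jb.mul_mem_left _ y.2⟩ = c • ρ0 y := fun y => by
          obtain ⟨b, hb⟩ := Ideal.Quotient.mk_surjective (s c)
          rw [show (⟨s c * y.1, Jb.mul_mem_left _ y.2⟩ : ↥Jb) = b • y from Subtype.ext (by rw [← hb]; rfl), map_smul,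
            ← algebraMap_smul C b]
          congr 1
          rw [← hs c, ← hb]
          rfl
        exact key ⟨x.1, x.2⟩ }
  have hρsurj : Function.Surjective ρ := fun v => by
    obtain ⟨j, rfl⟩ := J.toCotangent_surjective v
    exact ⟨⟨(p j).1, (p j).2⟩, hρ0 j⟩
  obtain ⟨σ0, hσ0⟩ := Module.projective_lifting_property ρ LinearMap.id hρsurj
  let σ : J.Cotangent →ₗ[C] Bm := JbC.subtype.comp σ0
  have hσmem : ∀ v, σ v ∈ Jb := fun v => (σ0 v).2
  have hσ : ∀ x : ↥J, qm x - σ (J.toCotangent x) ∈ Jb ^ 2 := fun x => by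
    refine hρker ⟨_, sub_mem (p x).2 (hσmem _)⟩ ?_
    refine (congrArg ρ0 (Subtype.ext rfl : _ = p x - (⟨(σ0 (J.toCotangent x)).1, (σ0 (J.toCotangent x)).2⟩ : ↥Jb))).trans ?_
    rw [map_sub, hρ0]
    exact sub_eq_zero.mpr (LinearMap.congr_fun hσ0 (J.toCotangent x)).symm
  -- lift to `R`
  let mkH : R →ₗ[C] R ⧸ H := (Ideal.Quotient.mkₐ C H).toLinearMap
  let T0 : J.Cotangent →ₗ[C] R ⧸ H :=
    { toFun := fun v => ψm (σ v)
      map_add' := fun v w => by rw [map_add, map_add]
      map_smul' := fun c v => by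
        rw [map_smul]
        show ψm (s c * σ v) = Ideal.Quotient.mk H (χC c) * ψm (σ v)
        rw [map_mul, hχC] }
  obtain ⟨lam, hlam⟩ := Module.projective_lifting_property mkH T0 Ideal.Quotient.mk_surjective
  have hlam' : ∀ v, Ideal.Quotient.mk H (lam v) = ψm (σ v) := fun v => LinearMap.congr_fun hlam v
  let Λ0 : Ideal R := Ideal.span (Set.range lam)
  have hψJ : Jb.map ψm.toRingHom = J.map ψ.toRingHom := by
    show (J.map qm.toRingHom).map ψm.toRingHom = _
    rw [Ideal.map_map]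
    rfl
  have hΛ : Λ0 ^ m = ⊥ := by
    have h1 : Λ0 ^ k ≤ H := by
      rw [← Ideal.mk_ker (I := H), ← Ideal.map_eq_bot_iff_le_ker, Ideal.map_pow, eq_bot_iff]
      refine (Ideal.pow_right_mono ?_ k).trans (le_of_eq (show (Jb.map ψm.toRingHom) ^ k = ⊥ from ?_))
      · rw [Ideal.map_span, Ideal.span_le]
        rintro _ ⟨_, ⟨v, rfl⟩, rfl⟩
        rw [hlam']
        exact Ideal.mem_map_of_mem ψm.toRingHom (hσmem v)
      · rw [hψJ, ← Ideal.map_pow, Ideal.map_eq_bot_iff_le_ker]
        exact hk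
    have h2 : (Λ0 ^ k) ^ 2 ≤ H ^ 2 := Ideal.pow_right_mono h1 2
    rw [hH, ← pow_mul] at h2
    exact eq_bot_iff.mpr ((Ideal.pow_le_pow_right (by omega)).trans h2)
  -- the graph
  let ω : J.Cotangent →ₗ[C] Bm × R := σ.prod lam
  let Ω := LinearMap.range ω
  let E : Subalgebra A (Bm × R) :=
    AlgHom.equalizer ((Ideal.Quotient.mkₐ A H).comp (AlgHom.snd A Bm R)) (ψm.comp (AlgHom.fst A Bm R))
  have hΩ : ∀ (i : ℕ), ∀ x ∈ Ω ^ i, x.1 ∈ Jb ^ i ∧ x.2 ∈ Λ0 ^ i ∧ x ∈ E := by
    intro i
    induction i with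
    | zero =>
      intro x hx
      rw [pow_zero] at hx
      obtain ⟨c, rfl⟩ := Submodule.mem_one.mp hx
      exact ⟨by simp, by simp, hχC c⟩
    | succ i ih =>
      intro x hx
      rw [pow_succ Ω i] at hx
      refine Submodule.mul_induction_on hx (fun a ha b hb => ?_) fun a b ha hb =>
        ⟨add_mem ha.1 hb.1, add_mem ha.2.1 hb.2.1, add_mem ha.2.2 hb.2.2⟩
      obtain ⟨v, rfl⟩ := hb
      obtain ⟨h1, h2, h3⟩ := ih a ha
      refine ⟨?_, ?_, mul_mem h3 (hlam' v)⟩
      · rw [pow_succ Jb i]; exact Ideal.mul_mem_mul h1 (hσmem v)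
      · rw [pow_succ Λ0 i]; exact Ideal.mul_mem_mul h2 (Ideal.subset_span ⟨v, rfl⟩)
  have hΩm : ∀ i, m ≤ i → Ω ^ i = ⊥ := fun i hi => eq_bot_iff.mpr fun x hx => by
    obtain ⟨h1, h2, -⟩ := hΩ i x hx
    have h1' := Ideal.pow_le_pow_right hi h1
    have h2' := Ideal.pow_le_pow_right hi h2
    rw [hJbm, Ideal.mem_bot] at h1'
    rw [hΛ, Ideal.mem_bot] at h2'
    exact Prod.ext h1' h2'
  -- graded injectivity
  letI : Algebra B (Bm × R) := ((algebraMap C (Bm × R)).comp (Ideal.Quotient.mk J)).toAlgebra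
  haveI : IsScalarTower B C (Bm × R) := IsScalarTower.of_algebraMap_eq' rfl
  have hinj : ∀ (n : ℕ), n < m → ∀ x ∈ Ω ^ n, x.1 ∈ Jb ^ (n + 1) → x = 0 := by
    intro n hn x hx hx1
    rcases Nat.eq_zero_or_pos n with rfl | hn0
    · rw [pow_zero] at hx
      obtain ⟨c, rfl⟩ := Submodule.mem_one.mp hx
      have h1 : π (s c) = 0 := by
        rw [zero_add, pow_one] at hx1
        obtain ⟨j, hj, hje⟩ := (Ideal.mem_map_iff_of_surjective _ (Ideal.Quotient.mkₐ_surjective A _)).mp hx1
        rw [show s c = Ideal.Quotient.mk (J ^ m) j from hje.symm]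
        exact Ideal.Quotient.eq_zero_iff_mem.mpr hj
      rw [hs] at h1
      rw [h1, map_zero]
    let ι := ULift.{u} (Fin n)
    haveI : Nonempty ι := ⟨⟨⟨0, hn0⟩⟩⟩
    have hcard : Fintype.card ι = n := by simp [ι]
    obtain ⟨φ, hφ, hbij⟩ := hsym ι
    let P0 : MultilinearMap B (fun _ : ι => J.Cotangent) (Bm × R) :=
      (MultilinearMap.mkPiAlgebra B ι (Bm × R)).compLinearMap fun _ => ω.restrictScalars B
    obtain ⟨Ψ, hΨ⟩ := exists_symLift P0 fun e v => by
      simp only [P0, MultilinearMap.compLinearMap_apply, MultilinearMap.mkPiAlgebra_apply]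
      exact Equiv.prod_comp e fun i => (ω.restrictScalars B) (v i)
    have hΨ' : ∀ v, Ψ (SymmetricPower.tprod B v) = ∏ i, ω (v i) := fun v => (hΨ v).trans rfl
    have hrange : ∀ y ∈ Ω ^ n, ∃ t, Ψ t = y := by
      have hspan : ∀ s : Finset ι, Ω ^ s.card ≤ Submodule.span C (Set.range fun v : ι → J.Cotangent => ∏ i ∈ s, ω (v i)) := by
        classical
        intro s
        induction s using Finset.induction_on with
        | empty =>
          intro y hy
          rw [Finset.card_empty, pow_zero] at hy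
          obtain ⟨c, rfl⟩ := Submodule.mem_one.mp hy
          rw [Algebra.algebraMap_eq_smul_one]
          exact Submodule.smul_mem _ c (Submodule.subset_span ⟨fun _ => 0, Finset.prod_empty⟩)
        | insert a s ha ih =>
          rw [Finset.card_insert_of_notMem ha, pow_succ' Ω s.card, Submodule.mul_le]
          rintro _ ⟨w, rfl⟩ t ht
          refine (Submodule.map_span_le (LinearMap.mulLeft C (ω w)) _ _).mpr ?_ ⟨t, ih ht, rfl⟩
          rintro _ ⟨v, rfl⟩
          refine Submodule.subset_span ⟨Function.update v a w, ?_⟩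
          show ∏ i ∈ insert a s, ω (Function.update v a w i) = ω w * ∏ i ∈ s, ω (v i)
          rw [Finset.prod_insert ha, Function.update_self]
          exact congrArg (ω w * ·) (Finset.prod_congr rfl fun i hi => by rw [Function.update_of_ne (ne_of_mem_of_not_mem hi ha)])
      intro y hy
      rw [← hcard] at hy
      have h1 := hspan Finset.univ (Finset.card_univ (α := ι) ▸ hy)
      suffices ∀ z ∈ Submodule.span C (Set.range fun v : ι → J.Cotangent => ∏ i, ω (v i)), ∃ t, Ψ t = z from this y h1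
      intro z hz
      induction hz using Submodule.span_induction with
      | mem z hz => obtain ⟨v, rfl⟩ := hz; exact ⟨_, hΨ' v⟩
      | zero => exact ⟨0, map_zero Ψ⟩
      | add a b _ _ ha hb =>
        obtain ⟨t, rfl⟩ := ha
        obtain ⟨t', rfl⟩ := hb
        exact ⟨t + t', map_add Ψ t t'⟩
      | smul c a _ ha =>
        obtain ⟨t, rfl⟩ := ha
        obtain ⟨b, rfl⟩ := Ideal.Quotient.mk_surjective c
        exact ⟨b • t, by rw [map_smul, ← algebraMap_smul C b]; rfl⟩
    obtain ⟨t, rfl⟩ := hrange x hx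
    have key : ∀ t, (Ψ t).1 ∈ Jb ^ Fintype.card ι ∧ ∃ y : ↥(J ^ Fintype.card ι), φ t = Submodule.Quotient.mk y ∧
        (Ψ t).1 - qm y ∈ Jb ^ (Fintype.card ι + 1) := by
      intro t
      have ht : t ∈ Submodule.span B (Set.range (SymmetricPower.tprod B (ι := ι) (M := J.Cotangent))) := by
        rw [SymmetricPower.span_tprod_eq_top]; trivial
      induction ht using Submodule.span_induction with
      | mem z hz =>
        obtain ⟨v, rfl⟩ := hz
        choose w hw using fun i => J.toCotangent_surjective (v i)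
        obtain rfl : v = fun i => J.toCotangent (w i) := funext fun i => (hw i).symm
        refine ⟨?_, ⟨∏ i, (w i : B), by simpa using PP16.prod_mem_pow J Finset.univ (fun i => (w i : B)) fun i _ => (w i).2⟩,
          hφ w, ?_⟩
        · rw [hΨ', Prod.fst_prod, ← Finset.card_univ, ← Finset.prod_const]
          exact Ideal.prod_mem_prod fun i _ => hσmem _
        · show (Ψ _).1 - qm (∏ i, (w i : B)) ∈ _
          rw [hΨ', Prod.fst_prod, map_prod qm]
          refine prod_sub_mem Jb Finset.univ _ _ (fun i => hσmem _) fun i => ?_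
          rw [← neg_sub]
          exact neg_mem (hσ (w i))
      | zero => exact ⟨by simp, 0, by rw [map_zero]; rfl, by simp⟩
      | add a b _ _ ha hb =>
        obtain ⟨ha, y, hy, hy'⟩ := ha
        obtain ⟨hb, z, hz, hz'⟩ := hb
        refine ⟨by rw [map_add]; exact add_mem ha hb, y + z, by rw [map_add, hy, hz]; rfl, ?_⟩
        rw [map_add Ψ, Prod.fst_add, Submodule.coe_add, map_add qm, add_sub_add_comm]
        exact add_mem hy' hz'
      | smul b a _ ha =>
        obtain ⟨ha, y, hy, hy'⟩ := ha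
        have hb : (Ψ (b • a)).1 = s (Ideal.Quotient.mk J b) * (Ψ a).1 := by
          rw [map_smul]; rfl
        refine ⟨by rw [hb]; exact Ideal.mul_mem_left _ _ ha, b • y, by rw [map_smul, hy]; rfl, ?_⟩
        show _ - qm (b * (y : B)) ∈ _
        rw [hb, map_mul qm, show s (Ideal.Quotient.mk J b) * (Ψ a).1 - qm b * qm (y : B) =
          (s (Ideal.Quotient.mk J b) - qm b) * (Ψ a).1 + qm b * ((Ψ a).1 - qm (y : B)) by ring]
        refine add_mem ?_ (Ideal.mul_mem_left _ _ hy')
        rw [pow_succ' Jb]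
        refine Ideal.mul_mem_mul (hkerπ _ ?_) ha
        rw [map_sub, hs]
        exact sub_self _
    obtain ⟨-, y, hy, hy'⟩ := key t
    have h2 : qm (y : B) ∈ Jb ^ (n + 1) := by
      have := sub_mem hx1 (Ideal.pow_le_pow_right (by omega : n + 1 ≤ Fintype.card ι + 1) hy')
      rwa [sub_sub_cancel] at this
    have h2' : (y : B) ∈ J ^ (Fintype.card ι + 1) := by
      rw [← Ideal.map_pow] at h2
      obtain ⟨j, hj, hje⟩ := (Ideal.mem_map_iff_of_surjective _ (Ideal.Quotient.mkₐ_surjective A _)).mp h2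
      rw [show (y : B) = ((y : B) - j) + j by ring]
      exact add_mem (Ideal.pow_le_pow_right (by omega) (Ideal.Quotient.eq.mp hje.symm))
        (Ideal.pow_le_pow_right (by omega) hj)
    have h3 : φ t = 0 := hy.trans ((Submodule.Quotient.mk_eq_zero _).mpr h2')
    rw [hbij.1 (h3.trans (map_zero φ).symm), map_zero]
  -- the graph is a subalgebra bijecting to `Bm`
  let M : ℕ → Submodule C (Bm × R) := fun j => ⨆ i, ⨆ (_ : j ≤ i), Ω ^ i
  have hMsucc : ∀ j, M j = Ω ^ j ⊔ M (j + 1) := fun j => by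
    refine le_antisymm (iSup₂_le fun i hi => ?_) (sup_le (le_iSup₂_of_le j le_rfl le_rfl)
      (iSup₂_le fun i hi => le_iSup₂_of_le i (Nat.le_of_succ_le hi) le_rfl))
    rcases Nat.lt_or_ge j i with h | h
    · exact le_sup_of_le_right (le_iSup₂_of_le i h le_rfl)
    · rw [Nat.le_antisymm h hi]; exact le_sup_left
  have hMm : M m = ⊥ := eq_bot_iff.mpr (iSup₂_le fun i hi => (hΩm i hi).le)
  have hMfst : ∀ j, ∀ x ∈ M j, x.1 ∈ Jb ^ j := fun j => by
    have : M j ≤ ((Jb ^ j).restrictScalars C).comap (LinearMap.fst C Bm R) :=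
      iSup₂_le fun i hi x hx => Ideal.pow_le_pow_right hi (hΩ i x hx).1
    exact fun x hx => this hx
  have hMinj : ∀ d j, j + d = m → ∀ x ∈ M j, x.1 = 0 → x = 0 := by
    intro d
    induction d with
    | zero => intro j hj x hx _; rw [add_zero] at hj; rw [hj, hMm] at hx; exact hx
    | succ d ih =>
      intro j hj x hx hx0
      rw [hMsucc] at hx
      obtain ⟨a, ha, b, hb, rfl⟩ := Submodule.mem_sup.mp hx
      have ha0 : a = 0 := hinj j (by omega) a ha (by
        rw [eq_neg_of_add_eq_zero_left hx0]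
        exact neg_mem (hMfst _ b hb))
      subst ha0
      rw [zero_add] at hx0 ⊢
      exact ih (j + 1) (by omega) b hb hx0
  have hgen : ∀ (j : ℕ), ∀ b ∈ Jb ^ j, ∃ a ∈ Ω ^ j, b - a.1 ∈ Jb ^ (j + 1) := by
    intro j
    induction j with
    | zero =>
      intro b _
      refine ⟨algebraMap C _ (π b), ?_, ?_⟩
      · rw [pow_zero]; exact Submodule.mem_one.mpr ⟨_, rfl⟩
      · rw [zero_add, pow_one]
        refine hkerπ _ ?_
        show π (b - s (π b)) = 0
        rw [map_sub, hs, sub_self]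
    | succ j ih =>
      intro b hb
      rw [pow_succ Jb j] at hb
      refine Submodule.mul_induction_on hb (fun c hc d hd => ?_) fun c d ⟨a, ha, ha'⟩ ⟨a', ha₂, ha₂'⟩ => ?_
      · obtain ⟨a, ha, ha'⟩ := ih c hc
        obtain ⟨x, hx, hxd⟩ := (Ideal.mem_map_iff_of_surjective _ (Ideal.Quotient.mkₐ_surjective A _)).mp hd
        refine ⟨a * ω (J.toCotangent ⟨x, hx⟩), by rw [pow_succ Ω j]; exact Submodule.mul_mem_mul ha ⟨_, rfl⟩, ?_⟩
        show c * d - a.1 * σ (J.toCotangent ⟨x, hx⟩) ∈ _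
        rw [show c * d - a.1 * σ (J.toCotangent ⟨x, hx⟩) = (c - a.1) * d + a.1 * (d - σ (J.toCotangent ⟨x, hx⟩)) by ring]
        refine add_mem ?_ ?_
        · rw [pow_succ Jb (j + 1)]; exact Ideal.mul_mem_mul ha' hd
        · rw [show j + 1 + 1 = j + 2 from rfl, pow_add Jb j 2]
          refine Ideal.mul_mem_mul (hΩ j a ha).1 ?_
          rw [← hxd]
          exact hσ ⟨x, hx⟩
      · refine ⟨a + a', add_mem ha ha₂, ?_⟩
        rw [Prod.fst_add, add_sub_add_comm]
        exact add_mem ha' ha₂'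
  have hMsurj : ∀ d j, j + d = m → ∀ b ∈ Jb ^ j, ∃ x ∈ M j, x.1 = b := by
    intro d
    induction d with
    | zero => intro j hj b hb; rw [add_zero] at hj; rw [hj, hJbm, Ideal.mem_bot] at hb; exact ⟨0, zero_mem _, hb.symm⟩
    | succ d ih =>
      intro j hj b hb
      obtain ⟨a, ha, ha'⟩ := hgen j b hb
      obtain ⟨y, hy, hyb⟩ := ih (j + 1) (by omega) _ ha'
      refine ⟨a + y, by rw [hMsucc]; exact Submodule.add_mem_sup ha hy, ?_⟩
      rw [Prod.fst_add, hyb]
      ring
  let Q : Subalgebra A (Bm × R) :=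
    { carrier := M 0
      one_mem' := le_iSup₂_of_le (f := fun i (_ : 0 ≤ i) => Ω ^ i) 0 le_rfl le_rfl (by rw [pow_zero]; exact Submodule.one_le.mp le_rfl)
      mul_mem' := fun {x y} hx hy => by
        have : M 0 * M 0 ≤ M 0 := by
          simp only [M, Submodule.iSup_mul, Submodule.mul_iSup]
          refine iSup_le fun i => iSup_le fun j => iSup_le fun _ => iSup_le fun _ => ?_
          rw [← pow_add]
          exact le_iSup₂_of_le _ (Nat.zero_le _) le_rfl
        exact this (Submodule.mul_mem_mul hx hy)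
      zero_mem' := zero_mem (M 0)
      add_mem' := fun {x y} hx hy => add_mem hx hy
      algebraMap_mem' := fun a => by
        refine le_iSup₂_of_le (f := fun i (_ : 0 ≤ i) => Ω ^ i) 0 le_rfl le_rfl ?_
        rw [pow_zero]
        exact Submodule.mem_one.mpr ⟨algebraMap A C a, Prod.ext (s.commutes a) (χC.commutes a)⟩ }
  have hQE : ∀ x ∈ M 0, x ∈ E := fun x hx => by
    have hC : ∀ (c : C) (x : Bm × R), x ∈ E → c • x ∈ E := fun c x hx => by
      rw [Algebra.smul_def]
      exact mul_mem (hχC c) hx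
    let E' : Submodule C (Bm × R) :=
      { carrier := E, zero_mem' := zero_mem E, add_mem' := fun ha hb => add_mem ha hb, smul_mem' := hC }
    exact (iSup₂_le fun i _ y hy => (hΩ i y hy).2.2 : M 0 ≤ E') hx
  let fQ : Q →ₐ[A] Bm := (AlgHom.fst A Bm R).comp Q.val
  have hfQ : Function.Bijective fQ := ⟨(injective_iff_map_eq_zero fQ).mpr fun x hx =>
    Subtype.ext (hMinj m 0 (zero_add m) x x.2 hx), fun b => by
      obtain ⟨x, hx, hxb⟩ := hMsurj m 0 (zero_add m) b (by simp)
      exact ⟨⟨x, hx⟩, hxb⟩⟩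
  let e := AlgEquiv.ofBijective fQ hfQ
  refine ⟨((AlgHom.snd A Bm R).comp Q.val).comp (e.symm.toAlgHom.comp qm), AlgHom.ext fun b => ?_⟩
  show Ideal.Quotient.mk H ((e.symm (qm b) : Bm × R).2) = ψ b
  have h1 : (Ideal.Quotient.mk H) ((e.symm (qm b) : Bm × R).2) = ψm ((e.symm (qm b) : Bm × R).1) :=
    hQE _ (e.symm (qm b)).2
  rw [h1, show ((e.symm (qm b) : Bm × R).1) = qm b from e.apply_symm_apply (qm b)]
  rfl

end Groth.L06.SymGr
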