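import Groth.Agent.L06.FormSmoothField
import Groth.Agent.L06.SymGrSmooth
import Groth.Agent.L06.FormSmoothRelJacobi
import Mathlib.RingTheory.Kaehler.Basic
import Mathlib.RingTheory.Derivation.Basic
import Mathlib.FieldTheory.Perfect

/-! The differential criterion over a field, with absolute differentials. -/

set_option autoImplicit false
set_option maxSynthPendingDepth 3
set_option linter.style.haveILetI false
universe u

namespace Groth.L06.FormSmooth

open IsLocalRing
open scoped TensorProduct
open KaehlerDifferential (mapBaseChange)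

theorem subsingleton_kaehler_bot (R : Type*) [CommRing R] (k : Type u) [Field k] [Algebra R (⊥ : Subfield k)] :
    Subsingleton Ω[(⊥ : Subfield k)⁄R] := by
  let Λ := (⊥ : Subfield k)
  let D := KaehlerDifferential.D R Λ
  let S : Subfield Λ :=
    { carrier := {x | D x = 0}
      one_mem' := D.map_one_eq_zero
      zero_mem' := map_zero D
      add_mem' := fun {x y} (hx : D x = 0) (hy : D y = 0) => show D (x + y) = 0 by rw [map_add, hx, hy, add_zero]
      neg_mem' := fun {x} (hx : D x = 0) => show D (-x) = 0 by rw [map_neg, hx, neg_zero]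
      mul_mem' := fun {x y} (hx : D x = 0) (hy : D y = 0) => show D (x * y) = 0 by
        rw [D.leibniz, hx, hy, smul_zero, smul_zero, add_zero]
      inv_mem' := fun x (hx : D x = 0) => show D x⁻¹ = 0 by rw [D.leibniz_inv, hx, smul_zero] }
  have hall : ∀ x : Λ, D x = 0 := fun x => by
    obtain ⟨y, hy, hyx⟩ := (bot_le : (⊥ : Subfield k) ≤ S.map Λ.subtype) x.2
    rw [show x = y from Subtype.ext hyx.symm]
    exact hy
  refine subsingleton_of_forall_eq 0 fun ω => ?_
  have hω : ω ∈ Submodule.span Λ (Set.range D) := by rw [KaehlerDifferential.span_range_derivation]; trivial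
  induction hω using Submodule.span_induction with
  | mem x hx => obtain ⟨y, rfl⟩ := hx; exact hall y
  | zero => rfl
  | add x y _ _ hx hy => rw [hx, hy, add_zero]
  | smul c x _ hx => rw [hx, smul_zero]

theorem bijective_kaehler_map (R : Type*) (Λ B : Type u) [CommRing Λ] [CommRing B] [Algebra Λ B] [CommRing R] [Algebra R Λ]
    [Algebra R B] [IsScalarTower R Λ B] [Subsingleton Ω[Λ⁄R]] :
    Function.Bijective (KaehlerDifferential.map R Λ B B) := by
  refine ⟨(injective_iff_map_eq_zero _).mpr fun z hz => ?_, KaehlerDifferential.map_surjective R Λ B⟩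
  obtain ⟨w, rfl⟩ := (KaehlerDifferential.exact_mapBaseChange_map R Λ B z).mp hz
  rw [Subsingleton.elim w 0, map_zero]

theorem injective_iff_bot (k A : Type u) [Field k] [CommRing A] [Algebra k A] (C : Type u) [CommRing C] [Algebra A C] :
    Function.Injective ((mapBaseChange ℤ k A).lTensor C) ↔
      Function.Injective ((mapBaseChange (⊥ : Subfield k) k A).lTensor C) := by
  let Λ := (⊥ : Subfield k)
  haveI := subsingleton_kaehler_bot ℤ k
  let c1 := KaehlerDifferential.map ℤ Λ k k
  let c2 := KaehlerDifferential.map ℤ Λ A A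
  have hc1 : Function.Bijective c1 := bijective_kaehler_map ℤ Λ k
  have hc2 : Function.Bijective c2 := bijective_kaehler_map ℤ Λ A
  let e1 : C ⊗[A] (A ⊗[k] Ω[k⁄ℤ]) ≃ₗ[A] C ⊗[A] (A ⊗[k] Ω[k⁄Λ]) :=
    TensorProduct.congr (LinearEquiv.refl A C) (LinearEquiv.baseChange k A _ _ (LinearEquiv.ofBijective c1 hc1))
  let e2 : C ⊗[A] Ω[A⁄ℤ] ≃ₗ[A] C ⊗[A] Ω[A⁄Λ] :=
    TensorProduct.congr (LinearEquiv.refl A C) (LinearEquiv.ofBijective c2 hc2)
  have key : ∀ z, (mapBaseChange Λ k A).lTensor C (e1 z) = e2 ((mapBaseChange ℤ k A).lTensor C z) := by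
    intro z
    induction z using TensorProduct.induction_on with
    | zero => simp
    | add x y hx hy => simp only [map_add, hx, hy]
    | tmul c w =>
      show c ⊗ₜ[A] mapBaseChange Λ k A ((LinearEquiv.baseChange k A _ _ (LinearEquiv.ofBijective c1 hc1)) w) =
        c ⊗ₜ[A] c2 (mapBaseChange ℤ k A w)
      congr 1
      induction w using TensorProduct.induction_on with
      | zero => simp
      | add x y hx hy => simp only [map_add, hx, hy]
      | tmul a v =>
        show mapBaseChange Λ k A (a ⊗ₜ[k] c1 v) = c2 (mapBaseChange ℤ k A (a ⊗ₜ[k] v))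
        rw [KaehlerDifferential.mapBaseChange_tmul, KaehlerDifferential.mapBaseChange_tmul, map_smul]
        congr 1
        have hv : v ∈ Submodule.span k (Set.range (KaehlerDifferential.D ℤ k)) := by
          rw [KaehlerDifferential.span_range_derivation]; trivial
        induction hv using Submodule.span_induction with
        | mem x hx =>
          obtain ⟨y, rfl⟩ := hx
          simp only [c1, c2, KaehlerDifferential.map_D, Algebra.algebraMap_self, RingHom.id_apply]
        | zero => simp
        | add x y _ _ hx hy => simp only [map_add, hx, hy]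
        | smul r x _ hx =>
          rw [map_smul, map_smul, hx, map_smul, ← algebraMap_smul A r (KaehlerDifferential.map ℤ ℤ k A x), map_smul,
            algebraMap_smul]
  have h1 : ⇑((mapBaseChange Λ k A).lTensor C) ∘ ⇑e1 = ⇑e2 ∘ ⇑((mapBaseChange ℤ k A).lTensor C) := funext key
  rw [← Function.Injective.of_comp_iff e2.injective, ← h1, Function.Injective.of_comp_iff' _ e1.bijective]

theorem adicSmooth_iff_symGr_injective (k A : Type u) [Field k] [CommRing A] [IsLocalRing A] [Algebra k A] :
    CAlgX.IsAdicFormallySmooth k A (maximalIdeal A) ↔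
      (PP16.SymGrBijective A (maximalIdeal A) ∧
        Function.Injective ((mapBaseChange ℤ k A).lTensor (ResidueField A))) := by
  rw [injective_iff_bot k A (ResidueField A)]
  let Λ := (⊥ : Subfield k)
  haveI := formallySmooth_bot_field k k
  haveI : IsScalarTower Λ k A := inferInstance
  haveI : Algebra.FormallySmooth Λ (A ⧸ maximalIdeal A) :=
    formallySmooth_bot_field k (ResidueField A)
  constructor
  · intro h
    exact ⟨Groth.L06.SymGr.symGrBijective_of_adicSmooth (A := Λ) (maximalIdeal A)
      (Groth.L06.FormSmoothAdic.restrictScalars_adicSmooth (A := k) _ h),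
      Groth.L06.FormSmoothAdic.injective_of_adicSmooth _ h⟩
  · rintro ⟨h1, h2⟩
    letI : Field (A ⧸ maximalIdeal A) := Ideal.Quotient.field _
    haveI : Module.Projective (A ⧸ maximalIdeal A) (maximalIdeal A).Cotangent := inferInstance
    haveI : Module.Projective (A ⧸ maximalIdeal A) ((A ⧸ maximalIdeal A) ⊗[A] Ω[A⁄k]) := inferInstance
    exact Groth.L06.FormSmoothAdic.adicSmooth_of_injective _
      (Groth.L06.SymGr.adicSmooth_of_symGr (A := Λ) _ h1) h2

end Groth.L06.FormSmooth
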