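import Groth.Agent.L06.FormSmoothAdic
import Groth.Agent.L06.LeftInverse
import Mathlib.RingTheory.Flat.FaithfullyFlat.Basic
import Mathlib.LinearAlgebra.TensorProduct.RightExactness

/-! Formal smoothness of formally projective algebras modulo an ideal of definition; descent. -/

set_option autoImplicit false
set_option maxSynthPendingDepth 3
set_option linter.style.haveILetI false
universe u

namespace Groth.L06.FormSmoothProj

open TensorProduct

/-- it is enough to lift through square-zero ideals killed by `𝔞` -/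
theorem of_step {A B : Type u} [CommRing A] [CommRing B] [Algebra A B] {𝔞 : Ideal A} {𝔟 : Ideal B}
    (h : ∀ (C : Type u) [CommRing C] [Algebra A C] (J : Ideal C), J ^ 2 = ⊥ → 𝔞.map (algebraMap A C) * J = ⊥ →
      (∃ k : ℕ, (𝔞 ^ k).map (algebraMap A C) = ⊥) →
      ∀ u : B →ₐ[A] C ⧸ J, (∃ k : ℕ, ∀ x ∈ 𝔟 ^ k, u x = 0) → ∃ v : B →ₐ[A] C, (Ideal.Quotient.mkₐ A J).comp v = u) :
    EGA41.IsFormallySmoothAdic A 𝔞 B 𝔟 := by
  refine Groth.L06.FormSmoothAdic.of_sqZero ?_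
  suffices H : ∀ (m : ℕ) (C : Type u) [CommRing C] [Algebra A C] (J : Ideal C), J ^ 2 = ⊥ →
      (𝔞 ^ m).map (algebraMap A C) * J = ⊥ → (∃ k : ℕ, (𝔞 ^ k).map (algebraMap A C) = ⊥) →
      ∀ u : B →ₐ[A] C ⧸ J, (∃ N, ∀ x ∈ 𝔟 ^ N, u x = 0) →
      ∃ v : B →ₐ[A] C, (Ideal.Quotient.mkₐ A J).comp v = u by
    intro C _ _ J hJ ⟨k, hk⟩ u hu
    exact H k C J hJ (by rw [hk, Ideal.bot_mul]) ⟨k, hk⟩ u hu
  intro m
  induction m with
  | zero =>
    intro C _ _ J hJ haJ ha u hu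
    rw [pow_zero, Ideal.one_eq_top, Ideal.map_top, Ideal.top_mul] at haJ
    exact h C J hJ (by rw [haJ, Ideal.mul_bot]) ha u hu
  | succ m ih =>
    intro C _ _ J hJ haJ ⟨k, hk⟩ u ⟨N, hN⟩
    let J' : Ideal C := (𝔞 ^ m).map (algebraMap A C) * J
    have hle : J' ≤ J := Ideal.mul_le_right
    have hJ1 : (J.map (Ideal.Quotient.mkₐ A J')) ^ 2 = ⊥ := by rw [← Ideal.map_pow, hJ, Ideal.map_bot]
    obtain ⟨v', hv'⟩ := ih (C ⧸ J') (J.map (Ideal.Quotient.mkₐ A J')) hJ1 (by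
        rw [show algebraMap A (C ⧸ J') = (Ideal.Quotient.mk J').comp (algebraMap A C) from rfl, ← Ideal.map_map]
        exact (Ideal.map_mul _ _ _).symm.trans (Ideal.map_quotient_self _))
      ⟨k, by
        rw [show algebraMap A (C ⧸ J') = (Ideal.Quotient.mk J').comp (algebraMap A C) from rfl, ← Ideal.map_map, hk,
          Ideal.map_bot]⟩
      ((DoubleQuot.quotQuotEquivQuotOfLEₐ A hle).symm.toAlgHom.comp u) ⟨N, fun x hx => by
        show (DoubleQuot.quotQuotEquivQuotOfLEₐ A hle).symm (u x) = 0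
        rw [hN x hx, map_zero]⟩
    have hker : ∀ x ∈ 𝔟 ^ N, Ideal.Quotient.mk (J.map (Ideal.Quotient.mkₐ A J')) (v' x) = 0 := fun x hx =>
      (DFunLike.congr_fun hv' x).trans (by
        show (DoubleQuot.quotQuotEquivQuotOfLEₐ A hle).symm (u x) = 0
        rw [hN x hx, map_zero])
    have hJ' : J' ^ 2 = ⊥ := le_bot_iff.mp (by rw [← hJ]; exact Ideal.pow_right_mono hle 2)
    have haJ' : 𝔞.map (algebraMap A C) * J' = ⊥ := by
      rw [← haJ, pow_succ', Ideal.map_mul, mul_assoc]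
    obtain ⟨v, hv⟩ := h C J' hJ' haJ' ⟨k, hk⟩ v' ⟨N * 2, Groth.L06.FormSmoothAdic.kills_lift hJ1 v' hker⟩
    refine ⟨v, AlgHom.ext fun b => ?_⟩
    have h1 : Ideal.Quotient.mk J' (v b) = v' b := DFunLike.congr_fun hv b
    have h2 : Ideal.Quotient.mk (J.map (Ideal.Quotient.mkₐ A J')) (v' b) =
        (DoubleQuot.quotQuotEquivQuotOfLEₐ A hle).symm (u b) := DFunLike.congr_fun hv' b
    rw [← h1] at h2
    exact (congrArg (DoubleQuot.quotQuotEquivQuotOfLEₐ A hle) h2).trans (AlgEquiv.apply_symm_apply _ _)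

/-- formal smoothness of `B/𝔞B` gives formal smoothness of `B` when `B` is formally projective -/
theorem of_quotient {A B : Type u} [CommRing A] [CommRing B] [Algebra A B] (𝔞 : Ideal A) (𝔟 : Ideal B)
    (hproj : ∀ (n : ℕ) (P Q : Type u) [AddCommGroup P] [Module A P] [AddCommGroup Q] [Module A Q],
      (∀ a ∈ 𝔞 ^ n, ∀ y : P, a • y = 0) → (∀ a ∈ 𝔞 ^ n, ∀ y : Q, a • y = 0) →
      ∀ f : P →ₗ[A] Q, Function.Surjective f → ∀ v : B →ₗ[A] Q, (∃ m : ℕ, ∀ x ∈ 𝔟 ^ m, v x = 0) →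
        ∃ w : B →ₗ[A] P, (∃ m : ℕ, ∀ x ∈ 𝔟 ^ m, w x = 0) ∧ f ∘ₗ w = v)
    (h0 : EGA41.IsFormallySmoothAdic (A ⧸ 𝔞) ⊥ (B ⧸ 𝔞.map (algebraMap A B))
      (𝔟.map (Ideal.Quotient.mk (𝔞.map (algebraMap A B))))) :
    EGA41.IsFormallySmoothAdic A 𝔞 B 𝔟 := by
  refine of_step fun C _ _ J hJ haJ ⟨k, hk⟩ u ⟨N, hN⟩ => ?_
  have hkill : ∀ a ∈ 𝔞 ^ k, ∀ y : C, a • y = 0 := fun a ha y => by
    rw [Algebra.smul_def, show algebraMap A C a = 0 from (Submodule.mem_bot C).mp (hk ▸ Ideal.mem_map_of_mem _ ha), zero_mul]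
  have hkill' : ∀ a ∈ 𝔞 ^ k, ∀ y : C ⧸ J, a • y = 0 := fun a ha y => by
    obtain ⟨y, rfl⟩ := Ideal.Quotient.mk_surjective y
    show Ideal.Quotient.mk J (a • y) = 0
    rw [hkill a ha, map_zero]
  obtain ⟨w, ⟨m, hm⟩, hw⟩ := hproj k C (C ⧸ J) hkill hkill' (Ideal.Quotient.mkₐ A J).toLinearMap
    Ideal.Quotient.mk_surjective u.toLinearMap ⟨N, hN⟩
  have hw' : ∀ x, Ideal.Quotient.mk J (w x) = u x := fun x => LinearMap.congr_fun hw x
  let n := max m N
  have hwn : ∀ x ∈ 𝔟 ^ n, w x = 0 := fun x hx => hm x (Ideal.pow_le_pow_right (le_max_left _ _) hx)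
  have hun : ∀ x ∈ 𝔟 ^ n, u x = 0 := fun x hx => hN x (Ideal.pow_le_pow_right (le_max_right _ _) hx)
  -- the fibre product
  let P : Subalgebra A (B × C) := AlgHom.equalizer (u.comp (AlgHom.fst A B C)) ((Ideal.Quotient.mkₐ A J).comp (AlgHom.snd A B C))
  have hP : ∀ p : P, Ideal.Quotient.mk J (p : B × C).2 = u (p : B × C).1 := fun p => (p.2).symm
  let mkP : ∀ (x : B) (c : C), Ideal.Quotient.mk J c = u x → P := fun x c h => ⟨(x, c), h.symm⟩
  let I0 : Ideal P :=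
    ((𝔟 ^ n).comap ((AlgHom.fst A B C).comp P.val).toRingHom) ⊓ RingHom.ker ((AlgHom.snd A B C).comp P.val).toRingHom
  let T : Ideal P := 𝔞.map (algebraMap A P) ⊔ I0
  -- elements of `T` lie on the graph of `w`
  have hT : ∀ t ∈ T, (t : B × C).2 = w (t : B × C).1 := by
    intro t ht
    obtain ⟨t₁, ht₁, t₂, ⟨h21, h22⟩, rfl⟩ := Submodule.mem_sup.mp ht
    have h1 : (t₁ : B × C).2 = w (t₁ : B × C).1 := by
      have : t₁ ∈ (𝔞 • ⊤ : Submodule A P) := by rw [Ideal.smul_top_eq_map]; exact ht₁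
      refine Submodule.smul_induction_on this (fun a ha y _ => ?_) (fun y z hy hz => ?_)
      · show a • (y : B × C).2 = w (a • (y : B × C).1)
        rw [map_smul, ← sub_eq_zero, ← smul_sub, Algebra.smul_def]
        refine (Submodule.mem_bot C).mp (haJ ▸ Ideal.mul_mem_mul (Ideal.mem_map_of_mem _ ha) ?_)
        rw [← Ideal.Quotient.eq_zero_iff_mem, map_sub, hP, hw', sub_self]
      · show (y : B × C).2 + (z : B × C).2 = w ((y : B × C).1 + (z : B × C).1)
        rw [map_add, hy, hz]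
    have h2 : (t₂ : B × C).2 = 0 := h22
    show (t₁ : B × C).2 + (t₂ : B × C).2 = w ((t₁ : B × C).1 + (t₂ : B × C).1)
    rw [map_add, h1, h2, show w (t₂ : B × C).1 = 0 from hwn _ h21]
  -- every element of `𝔟ⁿ + 𝔞B` is a first coordinate of `T`
  let Q : Ideal B := 𝔞.map (algebraMap A B) ⊔ 𝔟 ^ n
  have hQT : ∀ y ∈ Q, ∃ t ∈ T, (t : B × C).1 = y := by
    intro y hy
    obtain ⟨y₁, hy₁, y₂, hy₂, rfl⟩ := Submodule.mem_sup.mp hy
    have h1 : ∃ t ∈ T, (t : B × C).1 = y₁ := by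
      have : y₁ ∈ (𝔞 • ⊤ : Submodule A B) := by rw [Ideal.smul_top_eq_map]; exact hy₁
      refine Submodule.smul_induction_on this (fun a ha b _ => ?_) (fun b c hb hc => ?_)
      · refine ⟨a • mkP b (w b) (hw' b), Submodule.mem_sup_left ?_, rfl⟩
        rw [Algebra.smul_def]
        exact Ideal.mul_mem_right _ _ (Ideal.mem_map_of_mem _ ha)
      · obtain ⟨t, ht, rfl⟩ := hb
        obtain ⟨t', ht', rfl⟩ := hc
        exact ⟨t + t', add_mem ht ht', rfl⟩
    obtain ⟨t, ht, rfl⟩ := h1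
    exact ⟨t + mkP y₂ 0 (by rw [map_zero, hun _ hy₂]), add_mem ht (Submodule.mem_sup_right ⟨hy₂, rfl⟩), rfl⟩
  have haT : ∀ a ∈ 𝔞, algebraMap A (P ⧸ T) a = 0 := fun a ha => by
    show Ideal.Quotient.mk T (algebraMap A P a) = 0
    exact Ideal.Quotient.eq_zero_iff_mem.mpr (Submodule.mem_sup_left (Ideal.mem_map_of_mem _ ha))
  letI : Algebra (A ⧸ 𝔞) (P ⧸ T) := (Ideal.Quotient.lift 𝔞 (algebraMap A (P ⧸ T)) haT).toAlgebra
  have hcompat : ∀ a, algebraMap (A ⧸ 𝔞) (P ⧸ T) (Ideal.Quotient.mk 𝔞 a) = algebraMap A (P ⧸ T) a := fun a => rfl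
  haveI : IsScalarTower A (A ⧸ 𝔞) (P ⧸ T) := IsScalarTower.of_algebraMap_eq fun a => rfl
  have hTQ : ∀ p ∈ T, ((AlgHom.fst A B C).comp P.val) p ∈ Q := by
    intro p hp
    obtain ⟨t₁, ht₁, t₂, ⟨h21, h22⟩, rfl⟩ := Submodule.mem_sup.mp hp
    rw [map_add]
    refine add_mem (Submodule.mem_sup_left ?_) (Submodule.mem_sup_right h21)
    have h3 := Ideal.mem_map_of_mem ((AlgHom.fst A B C).comp P.val).toRingHom ht₁
    rw [Ideal.map_map, AlgHom.toRingHom_eq_coe, AlgHom.comp_algebraMap] at h3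
    exact h3
  let σ : (P ⧸ T) →ₐ[A] B ⧸ Q := Ideal.Quotient.liftₐ T ((Ideal.Quotient.mkₐ A Q).comp ((AlgHom.fst A B C).comp P.val))
    (fun p hp => Ideal.Quotient.eq_zero_iff_mem.mpr (hTQ p hp))
  have hσ : ∀ p : P, σ (Ideal.Quotient.mk T p) = Ideal.Quotient.mk Q (p : B × C).1 := fun p => rfl
  have hσs : Function.Surjective σ := fun z => by
    obtain ⟨y, rfl⟩ := Ideal.Quotient.mk_surjective z
    exact ⟨Ideal.Quotient.mk T (mkP y (w y) (hw' y)), rfl⟩
  let J' : Ideal (P ⧸ T) := RingHom.ker σ.toRingHom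
  have hrep : ∀ z ∈ J', ∃ p : P, Ideal.Quotient.mk T p = z ∧ (p : B × C).1 = 0 := fun z hz => by
    obtain ⟨p, rfl⟩ := Ideal.Quotient.mk_surjective z
    obtain ⟨t, ht, hte⟩ := hQT _ (Ideal.Quotient.eq_zero_iff_mem.mp ((hσ p).symm.trans hz))
    refine ⟨p - t, ?_, ?_⟩
    · rw [Ideal.Quotient.eq, sub_sub_cancel_left]; exact T.neg_mem ht
    · show (p : B × C).1 - (t : B × C).1 = 0
      rw [hte, sub_self]
  have hJ' : J' ^ 2 = ⊥ := le_bot_iff.mp (by
    rw [pow_two, Ideal.mul_le]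
    intro z hz z' hz'
    obtain ⟨p, rfl, hp⟩ := hrep z hz
    obtain ⟨p', rfl, hp'⟩ := hrep z' hz'
    have hJp : ∀ q : P, (q : B × C).1 = 0 → (q : B × C).2 ∈ J := fun q hq => by
      rw [← Ideal.Quotient.eq_zero_iff_mem, hP, hq, map_zero]
    have : p * p' = 0 := Subtype.ext (Prod.ext (by show (p : B × C).1 * (p' : B × C).1 = 0; rw [hp, zero_mul])
      ((Submodule.mem_bot C).mp (hJ ▸ (pow_two J).symm ▸ Ideal.mul_mem_mul (hJp p hp) (hJp p' hp'))))
    rw [← map_mul, this, map_zero]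
    exact Submodule.zero_mem _)
  let e : ((P ⧸ T) ⧸ J') ≃ₐ[A] B ⧸ Q := Ideal.quotientKerAlgEquivOfSurjective hσs
  have he : ∀ z, e (Ideal.Quotient.mk J' z) = σ z := fun z => rfl
  let q₀ : (B ⧸ 𝔞.map (algebraMap A B)) →ₐ[A] B ⧸ Q := Ideal.Quotient.factorₐ A le_sup_left
  let h₁ : (B ⧸ 𝔞.map (algebraMap A B)) →ₐ[A] (P ⧸ T) ⧸ J' := e.symm.toAlgHom.comp q₀
  let h : (B ⧸ 𝔞.map (algebraMap A B)) →ₐ[A ⧸ 𝔞] (P ⧸ T) ⧸ J' :=
    { h₁.toRingHom with
      commutes' := fun a => by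
        obtain ⟨a, rfl⟩ := Ideal.Quotient.mk_surjective a
        exact h₁.commutes a }
  obtain ⟨g, hg⟩ := h0 (P ⧸ T) J' ⟨2, hJ'⟩ ⟨1, by rw [pow_one, Ideal.map_bot]⟩ h ⟨n, fun x hx => by
    show e.symm (q₀ x) = 0
    rw [← Ideal.map_pow] at hx
    obtain ⟨y, hy, rfl⟩ := (Ideal.mem_map_iff_of_surjective _ Ideal.Quotient.mk_surjective).mp hx
    rw [show q₀ (Ideal.Quotient.mk _ y) = Ideal.Quotient.mk Q y from rfl,
      Ideal.Quotient.eq_zero_iff_mem.mpr (Submodule.mem_sup_right hy), map_zero]⟩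
  let g' : B →ₐ[A] P ⧸ T := (g.restrictScalars A).comp (Ideal.Quotient.mkₐ A _)
  have hg' : ∀ y, σ (g' y) = Ideal.Quotient.mk Q y := fun y => by
    rw [← he, show Ideal.Quotient.mk J' (g' y) = h (Ideal.Quotient.mk _ y) from DFunLike.congr_fun hg _]
    exact e.apply_symm_apply _
  have hex : ∀ y, ∃ c : C, ∃ hc : Ideal.Quotient.mk J c = u y, Ideal.Quotient.mk T (mkP y c hc) = g' y := by
    intro y
    obtain ⟨p, hp⟩ := Ideal.Quotient.mk_surjective (g' y)
    obtain ⟨t, ht, hte⟩ := hQT _ (Ideal.Quotient.eq.mp (show Ideal.Quotient.mk Q (p : B × C).1 = Ideal.Quotient.mk Q y by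
      rw [← hσ, hp, hg']))
    refine ⟨(p : B × C).2 - (t : B × C).2, ?_, ?_⟩
    · rw [map_sub, hP, hP, hte, ← map_sub, sub_sub_cancel]
    · rw [← hp, Ideal.Quotient.eq]
      convert T.neg_mem ht using 1
      refine Subtype.ext (Prod.ext ?_ ?_)
      · show y - (p : B × C).1 = -(t : B × C).1
        rw [hte, neg_sub]
      · show ((p : B × C).2 - (t : B × C).2) - (p : B × C).2 = -(t : B × C).2
        abel
  choose v hv hvT using hex
  have huniq : ∀ y (p : P), (p : B × C).1 = y → Ideal.Quotient.mk T p = g' y → v y = (p : B × C).2 := by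
    intro y p hp hpe
    have h1 := hT _ (Ideal.Quotient.eq.mp ((hvT y).trans hpe.symm))
    have h2 : v y - (p : B × C).2 = w (y - (p : B × C).1) := h1
    rw [hp, sub_self, map_zero, sub_eq_zero] at h2
    exact h2
  let V : B →ₐ[A] C :=
    { toFun := v
      map_one' := huniq 1 1 rfl (by rw [map_one, map_one])
      map_mul' := fun a b => huniq _ (mkP a (v a) (hv a) * mkP b (v b) (hv b)) rfl (by rw [map_mul, hvT, hvT, map_mul])
      map_zero' := huniq 0 0 rfl (by rw [map_zero, map_zero])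
      map_add' := fun a b => huniq _ (mkP a (v a) (hv a) + mkP b (v b) (hv b)) rfl (by rw [map_add, hvT, hvT, map_add])
      commutes' := fun a => huniq _ (algebraMap A P a) rfl (by rw [AlgHom.commutes]; rfl) }
  exact ⟨V, AlgHom.ext hv⟩

/-- descent along a finite faithfully flat projective algebra -/
theorem descend {A B A' : Type u} [CommRing A] [CommRing B] [CommRing A'] [Algebra A B] [Algebra A A']
    [Module.FaithfullyFlat A A'] [Module.Projective A A'] (𝔞 : Ideal A) (𝔟 : Ideal B)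
    (h : EGA41.IsFormallySmoothAdic A' (𝔞.map (algebraMap A A')) (A' ⊗[A] B)
      ((𝔞.map (algebraMap A A')).map (algebraMap A' (A' ⊗[A] B)) ⊔
        𝔟.map (Algebra.TensorProduct.includeRight : B →ₐ[A] A' ⊗[A] B).toRingHom)) :
    EGA41.IsFormallySmoothAdic A 𝔞 B 𝔟 := by
  obtain ⟨r, hr⟩ := Groth.L06.LeftInverse.exists_leftInverse_of_forall_maximal (Algebra.linearMap A A') fun m _ => by
    by_contra hcon
    push Not at hcon
    -- some functional is nonzero at `1` modulo `m`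
    obtain ⟨n, a, b, hab⟩ := Groth.L06.LeftInverse.exists_reduction (Algebra.linearMap A A')
    have hsum : (1 : A') ∈ (m • ⊤ : Submodule A A') := by
      have h1 : b (a 1) = 1 := by simpa using LinearMap.congr_fun hab 1
      rw [← h1]
      have hm : ∀ j, a 1 j ∈ m := fun j => by
        by_contra hj
        exact hcon _ hj ⟨LinearMap.proj j ∘ₗ a, LinearMap.ext_ring (by simp)⟩
      rw [← Finset.univ_sum_single (a 1), map_sum]
      refine Submodule.sum_mem _ fun j _ => ?_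
      rw [show Pi.single j (a 1 j) = a 1 j • Pi.single j (1 : A) by rw [← Pi.single_smul', smul_eq_mul, mul_one], map_smul]
      exact Submodule.smul_mem_smul (hm j) trivial
    refine Module.FaithfullyFlat.submodule_ne_top (M := A') (inferInstance : m.IsMaximal) ?_
    rw [Ideal.smul_top_eq_map] at hsum ⊢
    rw [(Ideal.eq_top_iff_one _).mpr hsum]
    rfl
  have hr1 : r 1 = 1 := by simpa using LinearMap.congr_fun hr 1
  refine Groth.L06.FormSmoothAdic.of_sqZero fun C _ _ J hJ ⟨k, hk⟩ u ⟨N, hN⟩ => ?_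
  let pC : A' ⊗[A] C →ₐ[A'] A' ⊗[A] (C ⧸ J) := Algebra.TensorProduct.map (AlgHom.id A' A') (Ideal.Quotient.mkₐ A J)
  have hps : Function.Surjective pC := LinearMap.lTensor_surjective A' (g := (Ideal.Quotient.mkₐ A J).toLinearMap) Ideal.Quotient.mk_surjective
  let K : Ideal (A' ⊗[A] C) := RingHom.ker pC.toRingHom
  have hK : K = J.map (Algebra.TensorProduct.includeRight : C →ₐ[A] A' ⊗[A] C) :=
    (Algebra.TensorProduct.lTensor_ker (A := A') (Ideal.Quotient.mkₐ A J) Ideal.Quotient.mk_surjective).trans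
      (congrArg _ Ideal.mk_ker)
  have hK2 : K ^ 2 = ⊥ := by rw [hK, ← Ideal.map_pow, hJ, Ideal.map_bot]
  let e : ((A' ⊗[A] C) ⧸ K) ≃ₐ[A'] A' ⊗[A] (C ⧸ J) := Ideal.quotientKerAlgEquivOfSurjective hps
  let u₂ : A' ⊗[A] B →ₐ[A'] A' ⊗[A] (C ⧸ J) := Algebra.TensorProduct.map (AlgHom.id A' A') u
  have hzero : ∀ {D : Type u} [CommRing D] [Algebra A D], (𝔞 ^ k).map (algebraMap A D) = ⊥ →
      ((𝔞.map (algebraMap A A')) ^ k).map (algebraMap A' (A' ⊗[A] D)) = ⊥ := fun {D} _ _ hD => by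
    rw [← Ideal.map_pow, Ideal.map_map, ← IsScalarTower.algebraMap_eq,
      ← (Algebra.TensorProduct.includeRight : D →ₐ[A] A' ⊗[A] D).comp_algebraMap, ← Ideal.map_map, hD, Ideal.map_bot]
  obtain ⟨G, hG⟩ := h (A' ⊗[A] C) K ⟨2, hK2⟩ ⟨k, hzero hk⟩ (e.symm.toAlgHom.comp u₂) ⟨k + N, fun x hx => by
    show e.symm (u₂ x) = 0
    have h1 := Ideal.mem_map_of_mem u₂.toRingHom (Ideal.sup_pow_add_le_pow_sup_pow hx)
    rw [Ideal.map_sup] at h1
    have hkq : (𝔞 ^ k).map (algebraMap A (C ⧸ J)) = ⊥ := by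
      rw [show algebraMap A (C ⧸ J) = (Ideal.Quotient.mk J).comp (algebraMap A C) from rfl, ← Ideal.map_map, hk, Ideal.map_bot]
    have hz1 : (((𝔞.map (algebraMap A A')).map (algebraMap A' (A' ⊗[A] B))) ^ k).map u₂.toRingHom = ⊥ := by
      rw [← Ideal.map_pow, Ideal.map_map, AlgHom.toRingHom_eq_coe, AlgHom.comp_algebraMap]
      exact hzero hkq
    have hz2 : ((𝔟.map (Algebra.TensorProduct.includeRight : B →ₐ[A] A' ⊗[A] B).toRingHom) ^ N).map u₂.toRingHom = ⊥ := by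
      rw [← Ideal.map_pow, Ideal.map_map, Ideal.map_eq_bot_iff_le_ker]
      intro b hb
      rw [RingHom.mem_ker]
      show u₂ (1 ⊗ₜ b) = 0
      rw [Algebra.TensorProduct.map_tmul, hN b hb, TensorProduct.tmul_zero]
    rw [hz1, hz2, sup_bot_eq, Submodule.mem_bot] at h1
    rw [show u₂ x = 0 from h1, map_zero]⟩
  let R : A' ⊗[A] C →ₗ[A] C := (TensorProduct.lid A C).toLinearMap ∘ₗ r.rTensor C
  have hR : ∀ (c : C) (z : A' ⊗[A] C), R ((1 ⊗ₜ c) * z) = c * R z := by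
    intro c z
    induction z using TensorProduct.induction_on with
    | zero => simp
    | add x y hx hy => rw [mul_add, map_add, hx, hy, map_add, mul_add]
    | tmul a d => simp [R, Algebra.TensorProduct.tmul_mul_tmul, mul_smul_comm]
  have hR1 : ∀ c : C, R (1 ⊗ₜ c) = c := fun c => by simp [R, hr1]
  let g : B →ₐ[A] A' ⊗[A] C := (G.restrictScalars A).comp Algebra.TensorProduct.includeRight
  have hg : ∀ b, pC (g b) = 1 ⊗ₜ u b := fun b => by
    have := congrArg e (DFunLike.congr_fun hG (1 ⊗ₜ b))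
    exact this.trans ((e.apply_symm_apply _).trans rfl)
  have hRp : ∀ z, Ideal.Quotient.mk J (R z) = (TensorProduct.lid A (C ⧸ J)) (r.rTensor (C ⧸ J) (pC z)) := by
    intro z
    induction z using TensorProduct.induction_on with
    | zero => simp
    | add x y hx hy => simp only [map_add, hx, hy]
    | tmul a d =>
      simp [R, pC]
      rfl
  have hv0 : ∀ b, Ideal.Quotient.mk J (R (g b)) = u b := fun b => by
    rw [hRp, hg, LinearMap.rTensor_tmul, TensorProduct.lid_tmul, hr1, one_smul]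
  let δ : B → A' ⊗[A] C := fun b => g b - 1 ⊗ₜ R (g b)
  have hδ : ∀ b, δ b ∈ K := fun b => by
    show pC (g b - 1 ⊗ₜ R (g b)) = 0
    rw [map_sub, hg, Algebra.TensorProduct.map_tmul, Ideal.Quotient.mkₐ_eq_mk, hv0, map_one, sub_self]
  have hmul : ∀ a b, R (g (a * b)) = R (g a) * R (g b) := fun a b => by
    have h1 : g (a * b) = (1 ⊗ₜ R (g a)) * (1 ⊗ₜ R (g b)) + (1 ⊗ₜ R (g a)) * δ b + (1 ⊗ₜ R (g b)) * δ a + δ a * δ b := by
      rw [map_mul]; simp only [δ]; ring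
    have h2 : δ a * δ b = 0 := (Submodule.mem_bot _).mp (hK2 ▸ (pow_two K).symm ▸ Ideal.mul_mem_mul (hδ a) (hδ b))
    have h3 : ∀ b, R (δ b) = 0 := fun b => by show R (g b - 1 ⊗ₜ R (g b)) = 0; rw [map_sub, hR1, sub_self]
    rw [h1, h2, add_zero, map_add, map_add, hR, hR, hR, h3, h3, hR1, mul_zero, mul_zero, add_zero, add_zero]
  exact ⟨AlgHom.ofLinearMap (R ∘ₗ g.toLinearMap)
    (by show R (g 1) = 1; rw [map_one, Algebra.TensorProduct.one_def, hR1]) hmul, AlgHom.ext hv0⟩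

end Groth.L06.FormSmoothProj
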