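import Groth.Agent.L06.CondSheaf
import Groth.Agent.L20.RG.Smooth
import Mathlib.RingTheory.Spectrum.Prime.FreeLocus
import Mathlib.RingTheory.Support
import Mathlib.RingTheory.LocalRing.Module
import Mathlib.LinearAlgebra.Basis.VectorSpace

/-!
# Modules which are free after a flat base change at the generic points of the fibres
-/

set_option autoImplicit false
set_option maxSynthPendingDepth 3
set_option linter.style.haveILetI false
set_option backward.isDefEq.respectTransparency.types false
set_option backward.isDefEq.respectTransparency false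

universe u

open TensorProduct IsLocalRing

noncomputable section

namespace Groth.L06.FreeGenericAlg

variable {B C M : Type u} [CommRing B] [CommRing C] [Algebra B C] [AddCommGroup M] [Module B M] {p : ℕ}

/-- A finite module becoming free of rank `p` over a ring with a prime above `P` is generated by `p` elements near `P`. -/
theorem exists_gens [Module.Finite B M] (P : Ideal B) [P.IsPrime] (P' : Ideal C) [P'.IsPrime]
    (hP : P'.comap (algebraMap B C) = P) (e : C ⊗[B] M ≃ₗ[C] (Fin p → C)) :
    ∃ g ∉ P, ∃ v : Fin p → M, ∀ m : M, g • m ∈ Submodule.span B (Set.range v) := by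
  classical
  let κ := P.ResidueField
  let κ' := P'.ResidueField
  letI : Algebra κ κ' := (Ideal.ResidueField.map P P' (algebraMap B C) hP.symm).toAlgebra
  haveI : IsScalarTower B κ κ' := IsScalarTower.of_algebraMap_eq fun b => by
    refine Eq.trans ?_ (Ideal.ResidueField.map_algebraMap P P' (algebraMap B C) hP.symm b).symm
    exact IsScalarTower.algebraMap_apply B C κ' b
  have hrank : Module.finrank κ (κ ⊗[B] M) = p := by
    rw [← Module.finrank_baseChange (R := κ') (S := κ) (M' := κ ⊗[B] M),
      (AlgebraTensorModule.cancelBaseChange B κ κ' κ' M).finrank_eq,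
      ((AlgebraTensorModule.cancelBaseChange B C κ' κ' M).symm.trans
        ((AlgebraTensorModule.congr (LinearEquiv.refl κ' κ') e).trans
          (TensorProduct.piScalarRight C κ' κ' (Fin p)))).finrank_eq, Module.finrank_fin_fun]
  have hs : ⊤ ≤ Submodule.span κ (Set.range fun m : M => (1 : κ) ⊗ₜ[B] m) := by
    intro z _
    induction z with
    | zero => exact zero_mem _
    | tmul a m =>
      have := Submodule.smul_mem (Submodule.span κ (Set.range fun m : M => (1 : κ) ⊗ₜ[B] m)) a
        (Submodule.subset_span ⟨m, rfl⟩)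
      rwa [TensorProduct.smul_tmul', smul_eq_mul, mul_one] at this
    | add x y hx hy => exact add_mem (hx trivial) (hy trivial)
  let σ := (Module.Basis.ofSpan hs).indexEquiv (Module.finBasisOfFinrankEq κ (κ ⊗[B] M) hrank)
  let b' := (Module.Basis.ofSpan hs).reindex σ
  have hb' : ∀ i, ∃ m : M, (1 : κ) ⊗ₜ[B] m = b' i := fun i =>
    Module.Basis.ofSpan_subset hs ⟨σ.symm i, ((Module.Basis.ofSpan hs).reindex_apply σ i).symm⟩
  choose v hv using hb'
  let N := Submodule.span B (Set.range v)
  have h0 : N.mkQ.baseChange κ = 0 := b'.ext fun i => by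
    rw [← hv i, LinearMap.baseChange_tmul, LinearMap.zero_apply, Submodule.mkQ_apply,
      (Submodule.Quotient.mk_eq_zero N).2 (Submodule.subset_span ⟨i, rfl⟩), TensorProduct.tmul_zero]
  haveI : Subsingleton (κ ⊗[B] (M ⧸ N)) := subsingleton_of_forall_eq 0 fun z => by
    obtain ⟨w, rfl⟩ := LinearMap.lTensor_surjective κ N.mkQ_surjective z
    exact LinearMap.congr_fun h0 w
  have hsupp : (⟨P, ‹_›⟩ : PrimeSpectrum B) ∉ Module.support B (M ⧸ N) := by
    rw [Module.mem_support_iff_nontrivial_residueField_tensorProduct, not_nontrivial_iff_subsingleton]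
    infer_instance
  rw [Module.mem_support_iff_of_finite] at hsupp
  obtain ⟨g, hg, hgP⟩ := SetLike.not_le_iff_exists.1 hsupp
  refine ⟨g, hgP, v, fun m => ?_⟩
  have := Module.mem_annihilator.1 hg (Submodule.Quotient.mk m)
  rwa [← Submodule.Quotient.mk_smul, Submodule.Quotient.mk_eq_zero] at this

/-- Relations among `p` generators die near a prime over which the module becomes free of rank `p`. -/
theorem exists_smul_eq_zero [Module.Flat B C] (φ : (Fin p → B) →ₗ[B] M) (hφ : Function.Surjective φ)
    (P : Ideal B) [P.IsPrime] (P' : Ideal C) [P'.IsPrime] (hP : P'.comap (algebraMap B C) = P)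
    (e : C ⊗[B] M ≃ₗ[C] (Fin p → C)) (k : Fin p → B) (hk : φ k = 0) : ∃ s ∉ P, s • k = 0 := by
  classical
  let ψ : (Fin p → C) →ₗ[C] (Fin p → C) :=
    e.toLinearMap ∘ₗ φ.baseChange C ∘ₗ (TensorProduct.piScalarRight B C C (Fin p)).symm.toLinearMap
  have hψ : Function.Surjective ψ := e.surjective.comp
    ((LinearMap.lTensor_surjective C hφ).comp (TensorProduct.piScalarRight B C C (Fin p)).symm.surjective)
  have hinj := OrzechProperty.injective_of_surjective_endomorphism ψ hψ
  have h1 : (1 : C) ⊗ₜ[B] k = 0 := by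
    apply (TensorProduct.piScalarRight B C C (Fin p)).injective
    apply hinj
    show e (φ.baseChange C ((TensorProduct.piScalarRight B C C (Fin p)).symm _)) = ψ _
    rw [LinearEquiv.symm_apply_apply, LinearMap.baseChange_tmul, hk, tmul_zero, map_zero, map_zero, map_zero]
  let f : B →ₗ[B] (Fin p → B) := LinearMap.toSpanSingleton B _ k
  let I := LinearMap.ker f
  by_contra hne
  push Not at hne
  have hle : I ≤ P := fun s hs => by
    by_contra hsP
    exact hne s hsP (by simpa [I, f] using hs)
  let f' : B ⧸ I →ₗ[B] (Fin p → B) := I.liftQ f le_rfl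
  have hf' : Function.Injective (f'.lTensor C) := Module.Flat.lTensor_preserves_injective_linearMap f'
    (LinearMap.ker_eq_bot.1 (Submodule.ker_liftQ_eq_bot' _ f rfl))
  have h2 : (1 : C) ⊗ₜ[B] (Submodule.Quotient.mk 1 : B ⧸ I) = 0 := hf' (by
    rw [map_zero, LinearMap.lTensor_tmul]
    show (1 : C) ⊗ₜ f 1 = 0
    rw [show f 1 = k from one_smul B k, h1])
  let χ : B ⧸ I →ₗ[B] C ⧸ P' := I.liftQ (Algebra.linearMap B (C ⧸ P')) fun a ha => LinearMap.mem_ker.2
    (Ideal.Quotient.eq_zero_iff_mem.2 (show algebraMap B C a ∈ P' from by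
      rw [← Ideal.mem_comap, hP]; exact hle ha))
  have h3 := congrArg
    (AlgebraTensorModule.lift (LinearMap.toSpanSingleton C (B ⧸ I →ₗ[B] C ⧸ P') χ)) h2
  rw [map_zero, AlgebraTensorModule.lift_tmul, LinearMap.toSpanSingleton_apply, one_smul] at h3
  change Ideal.Quotient.mk P' (algebraMap B C 1) = 0 at h3
  rw [map_one] at h3
  exact ‹P'.IsPrime›.ne_top ((Ideal.eq_top_iff_one P').2 (Ideal.Quotient.eq_zero_iff_mem.1 h3))

open Groth.L20.RG in
/-- An element killed at all generic points of the fibres is zero. -/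
theorem eq_zero_of_fibre_generic {A : Type u} [CommRing A] [Algebra A B] [Algebra.Smooth A B] (h : DomFib A B) (b : B)
    (hb : ∀ P : Ideal B, P.IsPrime →
      (∀ Q : Ideal B, Q.IsPrime → Q.comap (algebraMap A B) = P.comap (algebraMap A B) → P ≤ Q) →
      ∃ s ∉ P, s * b = 0) : b = 0 := by
  refine Groth.L06.CondSheaf.eq_zero_of_tensor (A := A) b fun 𝔭 h𝔭 => ?_
  haveI := h𝔭.isPrime
  let A' := Localization.AtPrime 𝔭
  refine ⟨A', inferInstance, inferInstance, inferInstance, maximalIdeal A', inferInstance,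
    IsLocalization.AtPrime.comap_maximalIdeal A' 𝔭, ?_⟩
  have h' := h.baseChange A'
  haveI hm := isPrime_map_maximalIdeal h'
  let j : B →ₐ[A] A' ⊗[A] B := Algebra.TensorProduct.includeRight
  let m' := (maximalIdeal A').map (algebraMap A' (A' ⊗[A] B))
  let P := m'.comap j.toRingHom
  have hP : P.comap (algebraMap A B) = 𝔭 := by
    ext a
    show j (algebraMap A B a) ∈ m' ↔ a ∈ 𝔭
    rw [AlgHom.commutes, IsScalarTower.algebraMap_apply A A' (A' ⊗[A] B)]
    refine ⟨fun ha => ?_, fun ha => Ideal.mem_map_of_mem _ ((IsLocalization.AtPrime.to_map_mem_maximal_iff A' 𝔭 a).2 ha)⟩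
    by_contra hna
    exact hm.ne_top (Ideal.eq_top_of_isUnit_mem _ ha
      ((IsLocalization.map_units A' (⟨a, hna⟩ : 𝔭.primeCompl)).map _))
  obtain ⟨s, hs, hsb⟩ := hb P (Ideal.comap_isPrime _ _) fun Q hQ hQP => by
    rw [hP] at hQP
    let κ := Q.ResidueField
    have hu : ∀ y : 𝔭.primeCompl, IsUnit (algebraMap A κ (y : A)) := fun y => by
      rw [isUnit_iff_ne_zero, IsScalarTower.algebraMap_apply A B κ, Ne, Ideal.algebraMap_residueField_eq_zero,
        ← Ideal.mem_comap, hQP]
      exact y.2
    let f' : A' →ₐ[A] κ := IsLocalization.liftAlgHom (M := 𝔭.primeCompl) (f := Algebra.ofId A κ) hu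
    let Φ : A' ⊗[A] B →ₐ[A] κ :=
      Algebra.TensorProduct.lift f' (IsScalarTower.toAlgHom A B κ) fun _ _ => Commute.all _ _
    have hΦ : m' ≤ RingHom.ker Φ.toRingHom := Ideal.map_le_iff_le_comap.2 fun x hx => by
      show Φ (x ⊗ₜ 1) = 0
      rw [Algebra.TensorProduct.lift_tmul, map_one, mul_one]
      obtain ⟨⟨a, y⟩, hay⟩ := IsLocalization.surj 𝔭.primeCompl x
      have ha : a ∈ 𝔭 := (IsLocalization.AtPrime.to_map_mem_maximal_iff A' 𝔭 a).1
        (hay ▸ Ideal.mul_mem_right _ _ hx)
      have := congrArg f' hay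
      rw [map_mul, AlgHom.commutes, AlgHom.commutes, IsScalarTower.algebraMap_apply A B κ a,
        Ideal.algebraMap_residueField_eq_zero.2 (by rw [← Ideal.mem_comap, hQP]; exact ha)] at this
      exact (mul_eq_zero.1 this).resolve_right (hu y).ne_zero
    intro c hc
    have h1 : Φ (1 ⊗ₜ c) = 0 := hΦ hc
    rw [Algebra.TensorProduct.lift_tmul, map_one, one_mul] at h1
    exact Ideal.algebraMap_residueField_eq_zero.1 h1
  let t : A' ⊗[A] B := (1 : A') ⊗ₜ s
  have hreg := mul_injective h' (one_tmul_ne_zero h' (b := t) hs) A'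
  have h0 : LinearMap.lTensor A' (LinearMap.mulLeft A' t) ((1 : A') ⊗ₜ[A'] ((1 : A') ⊗ₜ[A] b)) = 0 := by
    rw [LinearMap.lTensor_tmul, LinearMap.mulLeft_apply, Algebra.TensorProduct.tmul_mul_tmul, mul_one, hsb,
      tmul_zero, tmul_zero]
  have := congrArg (TensorProduct.lid A' (A' ⊗[A] B)) (hreg (h0.trans (map_zero _).symm))
  rwa [TensorProduct.lid_tmul, one_smul, map_zero] at this

end Groth.L06.FreeGenericAlg
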