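import Groth.Agent.L06.FreeGenericRep
import Groth.Agent.L06.FlatDimSheaf
import Groth.Agent.L06.FlatIrreducibleFibres
import Groth.Agent.L20.FibreFree
import Groth.Agent.S2768

/-!
# Flatness in the top dimension and freeness at the generic points of the fibres
-/

set_option autoImplicit false
set_option maxSynthPendingDepth 3
set_option linter.style.haveILetI false
set_option backward.isDefEq.respectTransparency.types false
set_option backward.isDefEq.respectTransparency false

universe u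

open CategoryTheory CategoryTheory.Limits AlgebraicGeometry Opposite TopologicalSpace TensorProduct
open Groth.L19.LimMod (FreeOn freeOn_of_iso freeOn_mono freeOn_pullback)
open Groth.L22.Cyc (FibGen rtrdeg rtrdeg_fiberι)

noncomputable section

namespace Groth.L06.FreeGenericFlat

variable {X S : Scheme.{u}}

/-- In a smooth family with irreducible fibres of dimension `d` the points of transcendence degree at least `d` over
their images are the generic points of the fibres. -/
theorem le_rtrdeg_iff (q : X ⟶ S) (d : ℕ) [SmoothOfRelativeDimension d q] [GeometricallyIrreducible q] (x : X) :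
    (d : Cardinal.{u}) ≤ rtrdeg q x ↔ FlatFun.IsGenericPtOfFibre q x := by
  haveI : Smooth q := SmoothOfRelativeDimension.smooth d q
  let F := q.fiber (q x)
  letI : F.Over (Spec (CommRingCat.of (S.residueField (q x)))) := ⟨q.fiberToSpecResidueField (q x)⟩
  haveI : LocallyOfFiniteType (F ↘ Spec (CommRingCat.of (S.residueField (q x)))) :=
    MorphismProperty.pullback_snd q (S.fromSpecResidueField (q x)) inferInstance
  let z : F := q.asFiber x
  have hz : q.fiberι (q x) z = x := q.fiberι_asFiber x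
  obtain ⟨a, b, ha, hb, hloc⟩ := Groth.L22.SchemeDim.exists_localDim (S.residueField (q x)) F z
  have hd : ((a + b : ℕ) : WithBot ℕ∞) = (d : WithBot ℕ∞) := hloc.symm.trans (Groth.Agent.S2768.result d q x)
  have hab : a + b = d := by exact_mod_cast hd
  have htr : rtrdeg q x = (a : Cardinal.{u}) := by
    rw [← hz, rtrdeg_fiberι]
    exact ha
  rw [htr, Nat.cast_le]
  have hgen : ∀ x', q x' = q x → ∃ w : F, q.fiberι (q x) w = x' := fun x' hx' => by
    have : x' ∈ Set.range (q.fiberι (q x)) := by rw [q.range_fiberι]; exact hx'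
    exact this
  constructor
  · intro hle x' hx'
    have hb0 : b = 0 := by omega
    haveI : Ring.KrullDimLE 0 (F.presheaf.stalk z) := Ring.krullDimLE_iff.2 (by rw [hb, hb0])
    obtain ⟨P, hP⟩ : genericPoint F ∈ Set.range (F.fromSpecStalk z) := by
      rw [Scheme.range_fromSpecStalk]; exact genericPoint_specializes z
    have hPc : P = IsLocalRing.closedPoint (F.presheaf.stalk z) := PrimeSpectrum.ext
      (IsLocalRing.eq_maximalIdeal (Ideal.isMaximal_of_isPrime P.asIdeal) )
    rw [hPc, Scheme.fromSpecStalk_closedPoint] at hP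
    obtain ⟨w, rfl⟩ := hgen x' hx'
    exact Eq.subst (motive := fun y => y ⤳ q.fiberι (q x) w) ((congrArg (q.fiberι (q x)) hP.symm).trans hz)
      ((genericPoint_specializes w).map (q.fiberι (q x)).continuous)
  · intro hx
    haveI : Subsingleton (PrimeSpectrum (F.presheaf.stalk z)) := ⟨fun P Q => by
      refine (F.fromSpecStalk z).isEmbedding.injective ?_
      have h1 : ∀ P, F.fromSpecStalk z P = z := fun P => by
        have hP : F.fromSpecStalk z P ⤳ z := by
          have : F.fromSpecStalk z P ∈ Set.range (F.fromSpecStalk z) := Set.mem_range_self P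
          rwa [Scheme.range_fromSpecStalk] at this
        refine (q.fiberι (q x)).isEmbedding.injective ?_
        refine ((hP.map (q.fiberι (q x)).continuous).antisymm ?_).eq
        have h2 : q (q.fiberι (q x) (F.fromSpecStalk z P)) = q x := (q.range_fiberι (q x)).subset ⟨_, rfl⟩
        rw [hz]
        exact hx _ h2
      rw [h1, h1]⟩
    have hb0 : b = 0 := by
      have h0 : ringKrullDim (F.presheaf.stalk z) = 0 := Order.krullDim_eq_zero
      rw [hb] at h0
      exact_mod_cast h0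
    omega

/-- A free module over a flat scheme is flat. -/
theorem isFlatOverAt_of_free (g : X ⟶ S) [Flat g] (M : X.Modules) [Coh.IsQCoh M] {p : ℕ} {U : X.Opens} {x : X}
    (hx : x ∈ U) (hU : FreeOn M p U) : FlatMod.IsFlatOverAt g M x := by
  obtain ⟨_, ⟨A, hA, rfl⟩, hxA, -⟩ :=
    S.isBasis_affineOpens.exists_subset_of_mem_open (Set.mem_univ (g x)) isOpen_univ
  replace hA : IsAffineOpen A := hA
  obtain ⟨_, ⟨V, hV, rfl⟩, hxV, hVle⟩ :=
    X.isBasis_affineOpens.exists_subset_of_mem_open (show x ∈ U ⊓ g ⁻¹ᵁ A from ⟨hx, hxA⟩) (U ⊓ g ⁻¹ᵁ A).2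
  replace hV : IsAffineOpen V := hV
  have e : V ≤ g ⁻¹ᵁ A := fun z hz => (hVle hz).2
  refine (Groth.L06.FlatLimitPreserving.flat_sections_iff g M hA hV e).1 ?_ x hxV
  obtain ⟨i⟩ := hU
  obtain ⟨φ, hφ, hinj⟩ := Groth.L15.FittSheaf.exists_sections_of_free_hom M i.inv hV fun z hz => (hVle hz).1
  letI := (g.appLE A V e).hom.toAlgebra
  letI : Module Γ(S, A) Γ(M, V) := Module.compHom _ (g.appLE A V e).hom
  haveI : IsScalarTower Γ(S, A) Γ(X, V) Γ(M, V) := IsScalarTower.of_algebraMap_smul fun _ _ => rfl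
  haveI : Module.Flat Γ(S, A) Γ(X, V) := RingHom.flat_algebraMap_iff.1 (g.flat_appLE hA hV e)
  haveI : Module.Flat Γ(S, A) (ULift.{u} (Fin p) →₀ Γ(X, V)) := Module.Flat.trans Γ(S, A) Γ(X, V) _
  exact Module.Flat.of_linearEquiv ((LinearEquiv.ofBijective φ ⟨hinj inferInstance, hφ⟩).symm.restrictScalars Γ(S, A))

/-- At the generic point of a fibre flatness over the base gives freeness nearby. -/
theorem exists_free_of_flat (g : X ⟶ S) [Smooth g] [GeometricallyIrreducible g] (M : X.Modules) [Coh.IsQCoh M]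
    (hM : CohB1.IsFP M) {x : X} (hx : FlatFun.IsGenericPtOfFibre g x) (h : FlatMod.IsFlatOverAt g M x) :
    ∃ (U : X.Opens) (n : ℕ), x ∈ U ∧ FreeOn M n U := by
  refine Groth.L20.FibreFree.exists_free_nhd M hM x ?_
  obtain ⟨_, ⟨A₀, hA₀, rfl⟩, hxA₀, -⟩ :=
    S.isBasis_affineOpens.exists_subset_of_mem_open (Set.mem_univ (g x)) isOpen_univ
  replace hA₀ : IsAffineOpen A₀ := hA₀
  obtain ⟨_, ⟨V₀, hV₀, rfl⟩, hxV₀, hV₀A⟩ :=
    X.isBasis_affineOpens.exists_subset_of_mem_open (show x ∈ g ⁻¹ᵁ A₀ from hxA₀) (g ⁻¹ᵁ A₀).2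
  replace hV₀ : IsAffineOpen V₀ := hV₀
  obtain ⟨a, haO, hxa⟩ := hA₀.exists_basicOpen_le (V := ⟨g '' V₀, g.isOpenMap _ V₀.2⟩) ⟨g x, x, hxV₀, rfl⟩ hxA₀
  let e₀ : V₀ ≤ g ⁻¹ᵁ A₀ := hV₀A
  let A := S.basicOpen a
  let V := X.basicOpen (g.appLE A₀ V₀ e₀ a)
  have hd : V = V₀ ⊓ g ⁻¹ᵁ A := Scheme.basicOpen_appLE _ _ _ _ _
  have hA : IsAffineOpen A := hA₀.basicOpen a
  have hV : IsAffineOpen V := hV₀.basicOpen _
  have e : V ≤ g ⁻¹ᵁ A := fun z hz => (hd.le hz).2
  have hxV : x ∈ V := hd.ge ⟨hxV₀, hxa⟩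
  have hs : ∀ s ∈ A, ∃ w ∈ V, g w = s := fun s hs => by
    obtain ⟨w, hw, rfl⟩ := haO hs
    exact ⟨w, hd.ge ⟨hw, hs⟩, rfl⟩
  letI := (g.appLE A V e).hom.toAlgebra
  letI : Module Γ(S, A) Γ(M, V) := Module.compHom _ (g.appLE A V e).hom
  haveI : IsScalarTower Γ(S, A) Γ(X, V) Γ(M, V) := IsScalarTower.of_algebraMap_smul fun _ _ => rfl
  haveI : Algebra.Smooth Γ(S, A) Γ(X, V) := RingHom.smooth_algebraMap.1 (g.smooth_appLE hA hV e)
  have hdom : Groth.L20.RG.DomFib Γ(S, A) Γ(X, V) :=
    .of_smooth_geomIrredFibres (Groth.L06.FreeGenericSheaf.geomIrredFibres_appLE g hA hV e hs)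
  haveI := Groth.L20.ModStalk.finitePresentation_sections M hM hV
  let q := (hV.primeIdealOf ⟨x, hxV⟩).asIdeal
  haveI : q.IsPrime := (hV.primeIdealOf ⟨x, hxV⟩).isPrime
  haveI hflat : Module.Flat Γ(S, A) (LocalizedModule q.primeCompl Γ(M, V)) :=
    (Groth.L20.ModStalk.isFlatOverAt_iff g M hA hV e hxV).1 h
  let p := q.comap (algebraMap Γ(S, A) Γ(X, V))
  haveI : p.IsPrime := Ideal.comap_isPrime _ _
  let C := p.ResidueField ⊗[Γ(S, A)] Γ(X, V)
  haveI : IsDomain C := hdom p.ResidueField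
  letI : Algebra Γ(X, V) C := Algebra.TensorProduct.rightAlgebra
  haveI : IsScalarTower Γ(S, A) Γ(X, V) C := IsScalarTower.of_algebraMap_eq fun r => by
    show algebraMap Γ(S, A) C r =
      (Algebra.TensorProduct.includeRight : Γ(X, V) →ₐ[Γ(S, A)] C) (algebraMap Γ(S, A) Γ(X, V) r)
    exact (AlgHom.commutes _ r).symm
  haveI : Algebra.IsPushout Γ(S, A) p.ResidueField Γ(X, V) C := inferInstance
  have hq' : (⊥ : Ideal C).comap (algebraMap Γ(X, V) C) = q := by
    refine le_antisymm ?_ ?_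
    · let P' := PrimeSpectrum.preimageEquivFiber Γ(S, A) Γ(X, V) ⟨p, inferInstance⟩ ⟨⟨q, inferInstance⟩, rfl⟩
      have hP : P'.asIdeal.comap (algebraMap Γ(X, V) C) = q := by
        have := (PrimeSpectrum.preimageEquivFiber Γ(S, A) Γ(X, V) ⟨p, inferInstance⟩).symm_apply_apply
          ⟨⟨q, inferInstance⟩, rfl⟩
        exact congrArg (fun w => w.1.asIdeal) this
      exact (Ideal.comap_mono bot_le).trans hP.le
    · let Q : PrimeSpectrum Γ(X, V) := ⟨(⊥ : Ideal C).comap (algebraMap Γ(X, V) C), inferInstance⟩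
      have hQp : Q.asIdeal.comap (algebraMap Γ(S, A) Γ(X, V)) = p := by
        rw [Ideal.comap_comap, ← IsScalarTower.algebraMap_eq,
          IsScalarTower.algebraMap_eq Γ(S, A) p.ResidueField C, ← Ideal.comap_comap,
          (Ideal.eq_bot_or_top ((⊥ : Ideal C).comap (algebraMap p.ResidueField C))).resolve_right
            (Ideal.comap_ne_top _ bot_ne_top)]
        exact Ideal.ker_algebraMap_residueField p
      have hQV : hV.fromSpec Q ∈ V := by
        show _ ∈ (V : Set X)
        rw [← hV.range_fromSpec]; exact Set.mem_range_self Q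
      have hQ : g (hV.fromSpec Q) = g x := by
        have hsp : Spec.map (g.appLE A V e) Q = Spec.map (g.appLE A V e) (hV.primeIdealOf ⟨x, hxV⟩) :=
          PrimeSpectrum.ext hQp
        have h1 := congrArg hA.fromSpec hsp
        rw [← Scheme.Hom.comp_apply, ← Scheme.Hom.comp_apply, hA.SpecMap_appLE_fromSpec _ hV,
          Scheme.Hom.comp_apply, Scheme.Hom.comp_apply, hV.fromSpec_primeIdealOf] at h1
        exact h1
      have h2 : hV.primeIdealOf ⟨x, hxV⟩ ⤳ Q :=
        hV.fromSpec.isOpenEmbedding.isInducing.specializes_iff.1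
          (by rw [hV.fromSpec_primeIdealOf]; exact hx _ hQ)
      exact (PrimeSpectrum.le_iff_specializes _ Q).2 h2
  haveI : IsFractionRing C (Localization.AtPrime (⊥ : Ideal C)) := by
    have : (⊥ : Ideal C).primeCompl = nonZeroDivisors C := by
      ext c
      rw [Ideal.mem_primeCompl_iff, Ideal.mem_bot, mem_nonZeroDivisors_iff_ne_zero]
    show IsLocalization (nonZeroDivisors C) _
    rw [← this]
    infer_instance
  letI : Field (Localization.AtPrime (⊥ : Ideal C)) := IsFractionRing.toField C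
  have hker : RingHom.ker (algebraMap Γ(S, A) p.ResidueField) = q.comap (algebraMap Γ(S, A) Γ(X, V)) :=
    Ideal.ker_algebraMap_residueField p
  have hfl : Module.Flat Γ(X, V) (LocalizedModule q.primeCompl Γ(M, V)) :=
    Groth.L20.FibreFree.flat_of_local_fibre (R := Γ(S, A)) (A := Γ(X, V)) (M := Γ(M, V)) q hker
      (⊥ : Ideal C) hq' (L := Localization.AtPrime (⊥ : Ideal C)) inferInstance
  haveI := Groth.L20.FibreFree.free_stalk hV hxV hfl
  infer_instance

variable (f : X ⟶ S) (F : X.Modules) [Coh.IsQCoh F]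

/-- `F_d` is the disjoint union of the `H_p`. -/
theorem main [IsAffine X] [IsAffine S] (d : ℕ) [SmoothOfRelativeDimension d f] [GeometricallyIrreducible f]
    (hF : CohB1.IsFP F) :
    ∃ c : ℕ, ∀ T : Over S,
      (FlatFun.DimFibresLT d (PicF.XTproj f T)
        {x | ¬ FlatMod.IsFlatOverAt (PicF.XTproj f T) (FGA.ET f F T) x}) ↔
      ∀ t : T.left, ∃ (V : T.left.Opens) (p : ℕ), t ∈ V ∧ p ≤ c ∧
        FlatFun.FreeAtGenericPts (PicF.XTproj f (Over.mk (V.ι ≫ T.hom)))
          (FGA.ET f F (Over.mk (V.ι ≫ T.hom))) p := by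
  haveI : Smooth f := SmoothOfRelativeDimension.smooth d f
  haveI := Groth.L20.ModStalk.finitePresentation_sections F hF (isAffineOpen_top X)
  obtain ⟨c, gens, hgens⟩ := Module.Finite.exists_fin' Γ(X, ⊤) Γ(F, ⊤)
  refine ⟨c, fun T => ?_⟩
  haveI : SmoothOfRelativeDimension d (PicF.XTproj f T) :=
    (smoothOfRelativeDimension_isStableUnderBaseChange (n := d)).of_isPullback
      (IsPullback.of_hasPullback f T.hom) inferInstance
  haveI : Smooth (PicF.XTproj f T) := SmoothOfRelativeDimension.smooth d _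
  haveI : GeometricallyIrreducible (PicF.XTproj f T) :=
    inferInstanceAs (GeometricallyIrreducible (pullback.snd f T.hom))
  haveI : Coh.IsQCoh (FGA.ET f F T) := FlatLimitPreserving.isQCoh_ET f F T
  constructor
  · intro hflat t
    obtain ⟨x, hxt, hx⟩ := FreeGenericLimit.exists_isGenericPtOfFibre (PicF.XTproj f T) t
    have hfl : FlatMod.IsFlatOverAt (PicF.XTproj f T) (FGA.ET f F T) x := by
      by_contra hn
      exact absurd (hflat x hn) (not_lt.2 ((le_rtrdeg_iff (PicF.XTproj f T) d x).2 hx))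
    have hFT : CohB1.IsFP (FGA.ET f F T) := Groth.L19.LimMod.isFP_pullback' (pullback.fst f T.hom) F hF
    obtain ⟨U, n, hxU, hU⟩ := exists_free_of_flat (PicF.XTproj f T) (FGA.ET f F T) hFT hx hfl
    refine ⟨⟨PicF.XTproj f T '' U, (PicF.XTproj f T).isOpenMap _ U.2⟩, n, ⟨x, hxU, hxt⟩, ?_, fun s => ?_⟩
    · obtain ⟨C, _, _, -, P', hP', -, ⟨e⟩⟩ :=
        FreeGenericSheaf.pullback_data (pullback.fst f T.hom) F hxU hU (isAffineOpen_top X) (Set.mem_univ _)
      haveI : Nontrivial C := ⟨0, 1, fun h01 => hP'.ne_top ((Ideal.eq_top_iff_one _).2 (h01 ▸ zero_mem _))⟩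
      exact le_of_fin_surjective C
        (e.toLinearMap ∘ₗ gens.baseChange C ∘ₗ (TensorProduct.piScalarRight Γ(X, ⊤) C C (Fin c)).symm.toLinearMap)
        (e.surjective.comp ((LinearMap.lTensor_surjective C hgens).comp (LinearEquiv.surjective _)))
    · let O : T.left.Opens := ⟨PicF.XTproj f T '' U, (PicF.XTproj f T).isOpenMap _ U.2⟩
      haveI : GeometricallyIrreducible (PicF.XTproj f (Over.mk (O.ι ≫ T.hom))) :=
        inferInstanceAs (GeometricallyIrreducible (pullback.snd f (O.ι ≫ T.hom)))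
      let m : Over.mk (O.ι ≫ T.hom) ⟶ T := Over.homMk O.ι rfl
      obtain ⟨x', hx's, hx'⟩ := FreeGenericLimit.exists_isGenericPtOfFibre (PicF.XTproj f (Over.mk (O.ι ≫ T.hom))) s
      obtain ⟨y, hy, hys⟩ := s.2
      obtain ⟨z, hz, hz'⟩ := Scheme.exists_preimage_of_isPullback (FlatLimitPreserving.isPullback_XTmap f m) y s hys
      refine ⟨x', hx's, hx', FreeGenericLimit.isFreeNear_map f F n m x' ⟨U, ?_, hU⟩⟩
      exact ((hx' z (hz'.trans hx's.symm)).map (PicF.XTmap f m).continuous).mem_open U.2 (hz ▸ hy)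
  · intro h x hx
    show rtrdeg (PicF.XTproj f T) x < (d : Cardinal.{u})
    by_contra hlt
    have hgen := (le_rtrdeg_iff (PicF.XTproj f T) d x).1 (not_lt.1 hlt)
    obtain ⟨V, p, htV, -, hC⟩ := h (PicF.XTproj f T x)
    let m : Over.mk (V.ι ≫ T.hom) ⟶ T := Over.homMk V.ι rfl
    let g' := PicF.XTproj f (Over.mk (V.ι ≫ T.hom))
    have hsq := FlatLimitPreserving.isPullback_XTmap f m
    let tV : V.toScheme := ⟨PicF.XTproj f T x, htV⟩
    obtain ⟨x', hx't, hx', U', hxU', hU'⟩ := hC tV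
    obtain ⟨z, hz, hz'⟩ := Scheme.exists_preimage_of_isPullback hsq x tV rfl
    have hmx : PicF.XTmap f m x' = x := by
      refine ((((hx' z (hz'.trans hx't.symm)).map (PicF.XTmap f m).continuous).trans (specializes_of_eq hz)).antisymm
        (hgen _ ?_)).eq
      show (PicF.XTmap f m ≫ PicF.XTproj f T) x' = _
      rw [hsq.w, Scheme.Hom.comp_apply]
      exact congrArg m.left hx't
    haveI : Coh.IsQCoh (FGA.ET f F (Over.mk (V.ι ≫ T.hom))) := FlatLimitPreserving.isQCoh_ET f F _
    haveI : Flat g' := inferInstanceAs (Flat (pullback.snd f (V.ι ≫ T.hom)))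
    have hf' := (FlatLimitPreserving.isFlatOverAt_iff_map f F m x').1
      (isFlatOverAt_of_free g' (FGA.ET f F (Over.mk (V.ι ≫ T.hom))) hxU' hU')
    apply hx
    haveI : Flat m.left := inferInstanceAs (Flat V.ι)
    exact hmx ▸ Groth.Agent.S1392.result _ _ _ _ hsq _ (FlatLimitPreserving.isQCoh_ET f F T) x'
      (Flat.stalkMap m.left _) hf'

end Groth.L06.FreeGenericFlat
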