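import Groth.Agent.L06.FlatDimLimit
import Groth.Agent.L19.LimMod.Free
import Mathlib.AlgebraicGeometry.Geometrically.Irreducible
import Mathlib.AlgebraicGeometry.Morphisms.Smooth

/-!
# "Free at the generic points of the fibres" is limit preserving
-/

set_option autoImplicit false
set_option maxSynthPendingDepth 3
set_option linter.style.haveILetI false
set_option backward.isDefEq.respectTransparency.types false
set_option backward.isDefEq.respectTransparency false

universe u

open CategoryTheory CategoryTheory.Limits AlgebraicGeometry Opposite TopologicalSpace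
open Groth.L19.LimMod (FreeOn freeOn_of_iso freeOn_mono freeOn_pullback)

noncomputable section

namespace Groth.L06.FreeGenericLimit

variable {X S : Scheme.{u}}

/-- A geometrically irreducible fibre has a generic point. -/
theorem exists_isGenericPtOfFibre (f : X ⟶ S) [GeometricallyIrreducible f] (t : S) :
    ∃ x : X, f x = t ∧ FlatFun.IsGenericPtOfFibre f x := by
  have h : f (f.fiberι t (genericPoint (f.fiber t))) = t := (f.range_fiberι t).subset ⟨_, rfl⟩
  refine ⟨_, h, fun x' hx' => ?_⟩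
  obtain ⟨w, rfl⟩ : x' ∈ Set.range (f.fiberι t) := by rw [f.range_fiberι]; exact hx'.trans h
  exact (genericPoint_specializes w).map (f.fiberι t).continuous

variable (f : X ⟶ S) (F : X.Modules) (p : ℕ)

theorem isFreeNear_map {T T' : Over S} (g : T' ⟶ T) (x : PicF.XT f T')
    (h : FlatFun.IsFreeOfRankNear (FGA.ET f F T) p (PicF.XTmap f g x)) :
    FlatFun.IsFreeOfRankNear (FGA.ET f F T') p x := by
  obtain ⟨U, hxU, hU⟩ := h
  exact ⟨PicF.XTmap f g ⁻¹ᵁ U, hxU, freeOn_of_iso (FGA.ETiso f F g) (freeOn_pullback (PicF.XTmap f g) hU)⟩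

theorem stable [GeometricallyIrreducible f] ⦃T T₀ : Over S⦄ (k : T ⟶ T₀)
    (h : FlatFun.FreeAtGenericPts (PicF.XTproj f T₀) (FGA.ET f F T₀) p) :
    FlatFun.FreeAtGenericPts (PicF.XTproj f T) (FGA.ET f F T) p := by
  intro t
  obtain ⟨x', hx't, hx'⟩ := exists_isGenericPtOfFibre (PicF.XTproj f T) t
  obtain ⟨x, hxt, hx, U, hxU, hU⟩ := h (k.left t)
  have hsq := FlatLimitPreserving.isPullback_XTmap f k
  obtain ⟨z, hz, hz'⟩ := Scheme.exists_preimage_of_isPullback hsq x t hxt
  refine ⟨x', hx't, hx', isFreeNear_map f F p k x' ⟨U, ?_, hU⟩⟩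
  exact ((hx' z (hz'.trans hx't.symm)).map (PicF.XTmap f k).continuous).mem_open U.2 (hz ▸ hxU)

theorem isLimitPreserving [Smooth f] [GeometricallyIrreducible f] [Coh.IsQCoh F]
    (hF : CohB1.IsFP F) :
    AlgSp.IsLimitPreserving
      (FlatFun.genPSp S (fun T => FlatFun.FreeAtGenericPts (PicF.XTproj f T) (FGA.ET f F T) p)) := by
  intro I _ _ D c hc hD hT
  refine ⟨Types.FilteredColimit.isColimitOf _ _ (fun x => ?_) fun i j xi xj _ => ?_⟩
  · have hP := (FlatFun.genPSp_nonempty_iff_of_stable _ (stable f F p) c.pt).1 ⟨x⟩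
    let E := FlatDimLimit.system f D
    let cE := FlatDimLimit.systemCone f c
    have hlE := FlatDimLimit.isLimitSystemCone f c hc
    haveI : ∀ i, IsAffine (D.obj i).left := hD
    haveI := hT
    let D' := D ⋙ Over.forget S
    haveI : ∀ i, IsAffine (D'.obj i) := hD
    haveI : ∀ {i j : I} (a : i ⟶ j), IsAffineHom (D'.map a) := fun _ => inferInstance
    haveI : ∀ (i j : I) (a : i ⟶ j), IsAffineHom (E.map a) := fun i j a =>
      MorphismProperty.of_isPullback (P := @IsAffineHom)
        (FlatLimitPreserving.isPullback_XTmap f (D.map a)).flip inferInstance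
    haveI : ∀ {i j : I} (a : i ⟶ j), IsAffineHom (E.map a) := fun {i j} a => inferInstance
    by_cases hgood : ∃ i, FlatFun.FreeAtGenericPts (PicF.XTproj f (D.obj i)) (FGA.ET f F (D.obj i)) p
    · obtain ⟨i, hi⟩ := hgood
      obtain ⟨y⟩ := FlatFun.genPSp_nonempty_of
        (fun T : Over S => FlatFun.FreeAtGenericPts (PicF.XTproj f T) (FGA.ET f F T) p) hi
      exact ⟨op i, y, Subsingleton.elim (α := (FlatFun.genPSp S _).obj (op c.pt)) _ _⟩
    exfalso
    -- the bad points of the bases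
    let G : ∀ i, Set (E.obj i) := fun i => {z | FlatFun.IsFreeOfRankNear (FGA.ET f F (D.obj i)) p z}
    have hG : ∀ i, IsOpen (G i) := fun i => isOpen_iff_forall_mem_open.2 fun z hz => by
      obtain ⟨U, hzU, hU⟩ := hz
      exact ⟨(U : Set (PicF.XT f (D.obj i))), fun w hw => ⟨U, hw, hU⟩, U.2, hzU⟩
    let C : ∀ i, Set (D'.obj i) := fun i => ((PicF.XTproj f (D.obj i)) '' G i)ᶜ
    have hC : ∀ i, IsClosed (C i) := fun i =>
      ((PicF.XTproj f (D.obj i)).isOpenMap _ (hG i)).isClosed_compl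
    have hCne : ∀ i, (C i).Nonempty := fun i => by
      by_contra hne
      refine hgood ⟨i, fun t => ?_⟩
      obtain ⟨w, hw, rfl⟩ : t ∈ (PicF.XTproj f (D.obj i)) '' G i := by
        by_contra ht
        exact hne ⟨t, ht⟩
      obtain ⟨y, hyt, hy⟩ := exists_isGenericPtOfFibre (PicF.XTproj f (D.obj i)) (PicF.XTproj f (D.obj i) w)
      exact ⟨y, hyt, hy, (hy w hyt.symm).mem_open (hG i) hw⟩
    obtain ⟨t, ht⟩ := exists_mem_of_isClosed_of_nonempty D' ((Over.forget S).mapCone c) hc C hC hCne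
      (fun i => by
        haveI : CompactSpace (D'.obj i) := inferInstance
        exact (hC i).isCompact)
      (fun {i i'} a y hy hy' => hy (by
        obtain ⟨w, hw, hwy⟩ := hy'
        obtain ⟨z, hz, hz'⟩ :=
          Scheme.exists_preimage_of_isPullback (FlatLimitPreserving.isPullback_XTmap f (D.map a)) w y hwy
        exact ⟨z, isFreeNear_map f F p (D.map a) z (hz ▸ hw), hz'⟩))
    obtain ⟨x₀, hx₀, -, U, hxU, hU⟩ := hP (t : c.pt.left)
    -- freeness descends to a stage
    obtain ⟨_, ⟨_, ⟨k, V, hV, rfl⟩, rfl⟩, hxV, hVU⟩ :=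
      (isBasis_preimage_isAffineOpen E cE hlE).exists_subset_of_mem_open (show x₀ ∈ (U : Set _) from hxU) U.2
    haveI := FlatLimitPreserving.isQCoh_ET f F (D.obj k)
    have hFk : CohB1.IsFP (FGA.ET f F (D.obj k)) := Groth.L19.LimMod.isFP_pullback' (pullback.fst f (D.obj k).hom) F hF
    have hfree : FreeOn ((Scheme.Modules.pullback (cE.π.app k)).obj (FGA.ET f F (D.obj k))) p (cE.π.app k ⁻¹ᵁ V) :=
      freeOn_mono (fun z hz => hVU hz) (freeOn_of_iso (FGA.ETiso f F (c.π.app k)).symm hU)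
    obtain ⟨j, ψ, hj⟩ := Groth.L19.LimMod.exists_freeOn E cE hlE (F := FGA.ET f F (D.obj k)) hFk (𝟙 k) hV hfree
    apply ht j
    refine ⟨cE.π.app j x₀, ⟨E.map ψ ⁻¹ᵁ V, ?_, ?_⟩, ?_⟩
    · show E.map ψ (cE.π.app j x₀) ∈ V
      rw [← Scheme.Hom.comp_apply, cE.w ψ]
      exact hxV
    · refine freeOn_of_iso (FGA.ETiso f F (D.map ψ)) ?_
      rw [Category.comp_id] at hj
      exact hj
    · have hsq := (FlatLimitPreserving.isPullback_XTmap f (c.π.app j)).w
      refine (congrArg (fun m : PicF.XT f c.pt ⟶ (D.obj j).left => m x₀) hsq).trans ?_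
      show (c.π.app j).left (PicF.XTproj f c.pt x₀) = (c.π.app j).left t
      exact congrArg _ hx₀
  · refine ⟨op (IsCofiltered.min i.unop j.unop), (IsCofiltered.minToLeft i.unop j.unop).op,
      (IsCofiltered.minToRight i.unop j.unop).op, ?_⟩
    exact Subsingleton.elim (α := (FlatFun.genPSp S _).obj (op (D.obj (IsCofiltered.min i.unop j.unop)))) _ _

end Groth.L06.FreeGenericLimit
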