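import Mathlib.AlgebraicGeometry.AffineScheme
import Mathlib.AlgebraicGeometry.Morphisms.QuasiCompact
import Mathlib.RingTheory.Localization.Ideal
import Mathlib.RingTheory.Localization.AtPrime.Basic

/-!
# Closed conditions on an affine open are local
-/

set_option autoImplicit false
set_option maxSynthPendingDepth 3
set_option linter.style.haveILetI false
set_option backward.isDefEq.respectTransparency.types false
set_option backward.isDefEq.respectTransparency false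

universe u

open CategoryTheory AlgebraicGeometry TopologicalSpace Opposite

noncomputable section

namespace Groth.L06.LocalIdeal

variable {W : Scheme.{u}} (P : ∀ (Y : Scheme.{u}), (Y ⟶ W) → Prop)

/-- A property of morphisms which is given by vanishing of ideals near every point of an affine open is given by
vanishing of an ideal on the open. -/
theorem exists_ideal_of_local (hcomp : ∀ (Y Z : Scheme.{u}) (h : Z ⟶ Y) (g : Y ⟶ W), P Y g → P Z (h ≫ g))
    (hloc : ∀ (Y : Scheme.{u}) (g : Y ⟶ W), (∀ y : Y, ∃ O : Y.Opens, y ∈ O ∧ P O (O.ι ≫ g)) → P Y g)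
    (Q : Prop) {U : W.Opens} (hU : IsAffineOpen U)
    (h : ∀ u ∈ U, ∃ a : Γ(W, U), u ∈ W.basicOpen a ∧ ∃ c : Ideal Γ(W, W.basicOpen a), (Q → c.FG) ∧
      ∀ (R : CommRingCat.{u}) (φ : Γ(W, W.basicOpen a) ⟶ R),
        P (Spec R) (Spec.map φ ≫ (hU.basicOpen a).fromSpec) ↔ c ≤ RingHom.ker φ.hom) :
    ∃ I : Ideal Γ(W, U), (Q → I.FG) ∧
      ∀ (R : CommRingCat.{u}) (φ : Γ(W, U) ⟶ R),
        P (Spec R) (Spec.map φ ≫ hU.fromSpec) ↔ I ≤ RingHom.ker φ.hom := by
  classical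
  choose a ha c hcfg hc using h
  obtain ⟨t, ht⟩ := hU.isCompact.elim_finite_subcover (fun u : U => (W.basicOpen (a u.1 u.2) : Set W))
    (fun u => (W.basicOpen _).2) fun u hu => Set.mem_iUnion.2 ⟨⟨u, hu⟩, ha u hu⟩
  let g : t → Γ(W, U) := fun k => a k.1.1 k.1.2
  let cc : ∀ k : t, Ideal Γ(W, W.basicOpen (g k)) := fun k => c k.1.1 k.1.2
  let ρ : ∀ k : t, Γ(W, U) ⟶ Γ(W, W.basicOpen (g k)) := fun k =>
    W.presheaf.map (homOfLE (W.basicOpen_le (g k))).op
  letI alg : ∀ k : t, Algebra Γ(W, U) Γ(W, W.basicOpen (g k)) := fun k => (ρ k).hom.toAlgebra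
  haveI loc : ∀ k : t, IsLocalization.Away (g k) Γ(W, W.basicOpen (g k)) := fun k => hU.isLocalization_basicOpen (g k)
  have hspan : Ideal.span (Set.range g) = ⊤ := hU.iSup_basicOpen_eq_self_iff.1 <| by
    refine le_antisymm (iSup_le fun i => W.basicOpen_le _) fun x hx => ?_
    obtain ⟨u, hu, hxu⟩ := Set.mem_iUnion₂.1 (ht hx)
    exact Opens.mem_iSup.2 ⟨⟨_, ⟨⟨u, hu⟩, rfl⟩⟩, hxu⟩
  have hps : ∀ k (R : CommRingCat.{u}) (ψ : Γ(W, W.basicOpen (g k)) ⟶ R),
      Spec.map ψ ≫ (hU.basicOpen (g k)).fromSpec = Spec.map (ρ k ≫ ψ) ≫ hU.fromSpec := fun k R ψ => by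
    rw [Spec.map_comp, Category.assoc, hU.map_fromSpec (hU.basicOpen (g k))]
  have hlift : ∀ k {R : CommRingCat.{u}} (χ : Γ(W, U) ⟶ R), IsUnit (χ (g k)) →
      ∃ ψ : Γ(W, W.basicOpen (g k)) ⟶ R, ρ k ≫ ψ = χ := fun k R χ hu =>
    ⟨CommRingCat.ofHom (IsLocalization.Away.lift (g k) (g := χ.hom) hu),
      CommRingCat.hom_ext (IsLocalization.Away.lift_comp (g k) hu)⟩
  -- elements of a local ideal extend
  have compat : ∀ (k : t) (y : Γ(W, U)), ρ k y ∈ cc k → ∀ l : t, ∃ m : ℕ, ρ l (g k ^ m * y) ∈ cc l := by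
    intro k y hy l
    let Q₀ := Γ(W, W.basicOpen (g l)) ⧸ cc l
    let r : Q₀ := Ideal.Quotient.mk _ (ρ l (g k))
    let Q₁ : CommRingCat.{u} := CommRingCat.of (Localization.Away r)
    let ψl : Γ(W, W.basicOpen (g l)) ⟶ Q₁ :=
      CommRingCat.ofHom ((algebraMap Q₀ (Localization.Away r)).comp (Ideal.Quotient.mk _))
    have hl : P (Spec Q₁) (Spec.map ψl ≫ (hU.basicOpen (g l)).fromSpec) :=
      (hc _ _ Q₁ ψl).2 fun z hz => by
        show algebraMap Q₀ (Localization.Away r) (Ideal.Quotient.mk _ z) = 0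
        rw [Ideal.Quotient.eq_zero_iff_mem.2 hz, map_zero]
    obtain ⟨ψk, hψk⟩ := hlift k (ρ l ≫ ψl) (IsLocalization.Away.algebraMap_isUnit r)
    rw [hps, ← hψk, ← hps] at hl
    have h0 := (hc _ _ Q₁ ψk).1 hl hy
    rw [RingHom.mem_ker, show ψk.hom (ρ k y) = (ρ k ≫ ψk) y from rfl, hψk] at h0
    obtain ⟨⟨_, m, rfl⟩, hm⟩ := (IsLocalization.map_eq_zero_iff (Submonoid.powers r) (Localization.Away r) _).1 h0
    refine ⟨m, Ideal.Quotient.eq_zero_iff_mem.1 ?_⟩
    rw [map_mul (ρ l).hom, map_pow (ρ l).hom, map_mul, map_pow]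
    exact hm
  let I : Ideal Γ(W, U) := ⨅ k : t, (cc k).comap (ρ k).hom
  have hext : ∀ (k : t), ∀ z ∈ cc k, ∃ w ∈ I, ∃ n : ℕ, z * ρ k (g k ^ n) = ρ k w := by
    intro k z hz
    obtain ⟨⟨y, ⟨_, n, rfl⟩⟩, hy⟩ := IsLocalization.surj (Submonoid.powers (g k)) z
    change z * ρ k (g k ^ n) = ρ k y at hy
    have hy' : ρ k y ∈ cc k := hy ▸ Ideal.mul_mem_right _ _ hz
    choose m hm using compat k y hy'
    refine ⟨g k ^ (Finset.univ.sup m) * y, Ideal.mem_iInf.2 fun l => ?_, n + Finset.univ.sup m, ?_⟩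
    · show ρ l (g k ^ Finset.univ.sup m * y) ∈ cc l
      rw [← Nat.sub_add_cancel (Finset.le_sup (f := m) (Finset.mem_univ l)), pow_add, mul_assoc, map_mul]
      exact Ideal.mul_mem_left _ _ (hm l)
    · rw [pow_add, map_mul (ρ k).hom, map_mul (ρ k).hom, ← mul_assoc, hy, mul_comm]
  have hmap : ∀ k, cc k ≤ I.map (ρ k).hom := fun k z hz => by
    obtain ⟨w, hw, n, hn⟩ := hext k z hz
    have hu : IsUnit (ρ k (g k ^ n)) := IsLocalization.map_units _ (⟨_, n, rfl⟩ : Submonoid.powers (g k))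
    exact (Ideal.mul_unit_mem_iff_mem _ hu).1 (hn ▸ Ideal.mem_map_of_mem _ hw)
  refine ⟨I, fun hQ => ?_, fun R φ => ⟨fun hP => ?_, fun hle => ?_⟩⟩
  · have hex : ∀ k : t, ∀ z ∈ (hcfg k.1.1 k.1.2 hQ).choose, ∃ w ∈ I, ∃ n : ℕ, z * ρ k (g k ^ n) = ρ k w :=
      fun k z hz => hext k z ((hcfg k.1.1 k.1.2 hQ).choose_spec.le (Ideal.subset_span hz))
    choose w hw n hn using hex
    let G : Finset Γ(W, U) := Finset.univ.biUnion fun k : t =>
      (hcfg k.1.1 k.1.2 hQ).choose.attach.image fun z => w k z.1 z.2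
    refine ⟨G, le_antisymm (Ideal.span_le.2 fun x hx => ?_) fun x hx => ?_⟩
    · obtain ⟨k, -, hk⟩ := Finset.mem_biUnion.1 hx
      obtain ⟨z, -, rfl⟩ := Finset.mem_image.1 hk
      exact hw _ _ _
    · have hk : ∀ k : t, cc k ≤ (Ideal.span (G : Set Γ(W, U))).map (ρ k).hom := fun k => by
        rw [show cc k = Ideal.span _ from (hcfg k.1.1 k.1.2 hQ).choose_spec.symm]
        refine Ideal.span_le.2 fun z hz => ?_
        have hu : IsUnit (ρ k (g k ^ n k z hz)) :=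
          IsLocalization.map_units _ (⟨_, _, rfl⟩ : Submonoid.powers (g k))
        refine (Ideal.mul_unit_mem_iff_mem _ hu).1 ?_
        rw [hn k z hz]
        exact Ideal.mem_map_of_mem _ (Ideal.subset_span (Finset.mem_biUnion.2
          ⟨k, Finset.mem_univ _, Finset.mem_image.2 ⟨⟨z, hz⟩, Finset.mem_attach _ _, rfl⟩⟩))
      refine Submodule.mem_of_span_eq_top_of_smul_pow_mem _ _ hspan _ fun ⟨_, k, hkr⟩ => ?_
      subst hkr
      obtain ⟨_, ⟨j, rfl⟩, hj⟩ := (IsLocalization.algebraMap_mem_map_algebraMap_iff (Submonoid.powers (g k))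
        Γ(W, W.basicOpen (g k)) _ x).1 (hk k (Ideal.mem_iInf.1 hx k))
      exact ⟨j, by simpa [smul_eq_mul] using hj⟩
  · intro x hx
    have hk : ∀ k : t, ∃ j : ℕ, φ (g k) ^ j * φ x = 0 := fun k => by
      let R₁ : CommRingCat.{u} := CommRingCat.of (Localization.Away (φ (g k)))
      let χ : Γ(W, U) ⟶ R₁ := φ ≫ CommRingCat.ofHom (algebraMap R (Localization.Away (φ (g k))))
      obtain ⟨ψ, hψ⟩ := hlift k χ (IsLocalization.Away.algebraMap_isUnit (S := Localization.Away (φ (g k))) (φ (g k)) :)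
      have h1 : P (Spec R₁) (Spec.map ψ ≫ (hU.basicOpen (g k)).fromSpec) := by
        rw [hps, hψ, Spec.map_comp, Category.assoc]
        exact hcomp _ _ _ _ hP
      have h2 := (hc _ _ R₁ ψ).1 h1 (Ideal.mem_iInf.1 hx k)
      rw [RingHom.mem_ker, show ψ.hom ((ρ k).hom x) = (ρ k ≫ ψ) x from rfl, hψ] at h2
      obtain ⟨⟨_, j, rfl⟩, hj⟩ :=
        (IsLocalization.map_eq_zero_iff (Submonoid.powers (φ (g k))) (Localization.Away (φ (g k))) _).1 h2
      exact ⟨j, hj⟩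
    refine Submodule.mem_of_span_eq_top_of_smul_pow_mem (RingHom.ker φ.hom) _ hspan _ fun ⟨_, k, hkr⟩ => ?_
    subst hkr
    obtain ⟨j, hj⟩ := hk k
    exact ⟨j, by rw [RingHom.mem_ker, smul_eq_mul, map_mul, map_pow]; exact hj⟩
  · refine hloc _ _ fun y => ?_
    obtain ⟨k, hky⟩ : ∃ k, φ (g k) ∉ y.asIdeal := by
      by_contra hcon
      push Not at hcon
      exact (y.isPrime.comap φ.hom).ne_top (top_le_iff.1 (hspan ▸ Ideal.span_le.2 (Set.range_subset_iff.2 hcon)))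
    let R₁ : CommRingCat.{u} := CommRingCat.of (Localization.Away (φ (g k)))
    let j : R ⟶ R₁ := CommRingCat.ofHom (algebraMap R (Localization.Away (φ (g k))))
    haveI : IsOpenImmersion (Spec.map j) := IsOpenImmersion.of_isLocalization (φ (g k))
    obtain ⟨ψ, hψ⟩ := hlift k (φ ≫ j) (IsLocalization.Away.algebraMap_isUnit (S := Localization.Away (φ (g k))) (φ (g k)) :)
    have h1 : P (Spec R₁) (Spec.map j ≫ Spec.map φ ≫ hU.fromSpec) := by
      rw [← Category.assoc, ← Spec.map_comp, ← hψ, ← hps]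
      refine (hc _ _ R₁ ψ).2 ((hmap k).trans ?_)
      rw [Ideal.map_le_iff_le_comap]
      intro x hx
      show (ρ k ≫ ψ) x = 0
      rw [hψ]
      show j.hom (φ.hom x) = 0
      rw [RingHom.mem_ker.1 (hle hx), map_zero]
    refine ⟨(Spec.map j).opensRange, ?_, ?_⟩
    · show y ∈ Set.range (PrimeSpectrum.comap (algebraMap R (Localization.Away (φ (g k)))))
      rw [PrimeSpectrum.localization_away_comap_range _ (φ (g k))]
      exact hky
    · rw [← (Spec.map j).isoOpensRange_inv_comp, Category.assoc]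
      exact hcomp _ _ _ _ h1

end Groth.L06.LocalIdeal
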