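import Groth.Agent.L06.FreeGenericSheaf
import Groth.Agent.L06.LocalIdeal
import Groth.Agent.L20.RG.Projective
import Groth.Agent.L13.Fitting.Minors

/-!
# The locus where a module is free at the generic points of the fibres, over a small affine piece
-/

set_option autoImplicit false
set_option maxSynthPendingDepth 3
set_option linter.style.haveILetI false
set_option backward.isDefEq.respectTransparency.types false
set_option backward.isDefEq.respectTransparency false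

universe u

open CategoryTheory CategoryTheory.Limits AlgebraicGeometry Opposite TopologicalSpace TensorProduct
open Groth.L19.LimMod (FreeOn freeOn_of_iso freeOn_mono freeOn_pullback)

noncomputable section

namespace Groth.L06.FreeGenericPiece

variable {X S : Scheme.{u}}

/-- The points near which the module is generated by `p` sections. -/
def good (F : X.Modules) (p : ℕ) : X.Opens :=
  ⟨((Fitt.sheafIdeal F p).support : Set X)ᶜ, (Fitt.sheafIdeal F p).support.isClosed.isOpen_compl⟩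

/-- Near `x` a module which becomes free of rank `p` is generated by `p` sections. -/
theorem mem_good {X' : Scheme.{u}} (q : X' ⟶ X) (F : X.Modules) [Coh.IsQCoh F] (hF : CohB1.IsFT F) {p : ℕ} {x' : X'}
    {U' : X'.Opens} (hx' : x' ∈ U') (hU : FreeOn ((Scheme.Modules.pullback q).obj F) p U') : q x' ∈ good F p := by
  obtain ⟨_, ⟨V, hV, rfl⟩, hxV, -⟩ :=
    X.isBasis_affineOpens.exists_subset_of_mem_open (Set.mem_univ (q x')) isOpen_univ
  replace hV : IsAffineOpen V := hV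
  haveI := Groth.L20.ModStalk.finite_sections F ⟨inferInstance, hF⟩ hV
  obtain ⟨C, _, _, -, P', _, hP', ⟨e⟩⟩ := FreeGenericSheaf.pullback_data q F hx' hU hV hxV
  show q x' ∉ (Fitt.sheafIdeal F p).support
  rw [Groth.L15.FittSheaf.notMem_support_iff F hF p (U := ⟨V, hV⟩) hxV]
  intro hle
  have htop : (Fitt.ideal Γ(X, V) Γ(F, V) p).map (algebraMap Γ(X, V) C) = ⊤ := by
    rw [← Groth.L13.Fitting.ideal_baseChange, Groth.L13.Fitting.ideal_congr e,
      Groth.L13.Fitting.ideal_of_basis (Pi.basisFun C (Fin p)), if_pos le_rfl]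
  refine ‹P'.IsPrime›.ne_top (top_le_iff.1 (htop ▸ Ideal.map_le_iff_le_comap.2 ?_))
  rw [hP']
  exact hle

variable (f : X ⟶ S) [Smooth f] [GeometricallyIrreducible f]

/-- The image of the points near which the module is generated by `p` sections. -/
def base (F : X.Modules) (p : ℕ) : S.Opens := ⟨f '' (good F p), f.isOpenMap _ (good F p).2⟩

variable (F : X.Modules) [Coh.IsQCoh F] (p : ℕ)

/-- The condition which is represented. -/
abbrev Cond (T : Over S) : Prop := FlatFun.FreeAtGenericPts (PicF.XTproj f T) (FGA.ET f F T) p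

theorem mem_base (hF : CohB1.IsFT F) {T : Over S} (h : Cond f F p T) (t : T.left) : T.hom t ∈ base f F p := by
  obtain ⟨x, hxt, -, U, hxU, hU⟩ := h t
  refine ⟨pullback.fst f T.hom x, mem_good _ F hF hxU hU, ?_⟩
  have hw := congrArg (fun m => m x) (pullback.condition (f := f) (g := T.hom))
  simp only [Scheme.Hom.comp_apply] at hw
  exact hw.trans (congrArg T.hom hxt)

/-- Affine pieces over the base on which the module is generated by `p` sections. -/
theorem exists_piece (hF : CohB1.IsFT F) {s : S} (hs : s ∈ base f F p) :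
    ∃ (A : S.Opens) (_ : IsAffineOpen A) (V : X.Opens) (_ : IsAffineOpen V) (_ : V ≤ f ⁻¹ᵁ A)
      (φ : (Fin p → Γ(X, V)) →ₗ[Γ(X, V)] Γ(F, V)),
      s ∈ A ∧ Function.Surjective φ ∧ ∀ t ∈ A, ∃ x ∈ V, f x = t := by
  obtain ⟨y, hy, rfl⟩ := hs
  obtain ⟨W, hW, hyW, φ₀, hφ₀⟩ := Groth.L15.FittSheaf.exists_gens_of_notMem_support F hF hy
  obtain ⟨_, ⟨A₀, hA₀, rfl⟩, hyA₀, -⟩ :=
    S.isBasis_affineOpens.exists_subset_of_mem_open (Set.mem_univ (f y)) isOpen_univ
  replace hA₀ : IsAffineOpen A₀ := hA₀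
  obtain ⟨_, ⟨V₀, hV₀, rfl⟩, hyV₀, hV₀le⟩ :=
    X.isBasis_affineOpens.exists_subset_of_mem_open (show y ∈ W ⊓ f ⁻¹ᵁ A₀ from ⟨hyW, hyA₀⟩) (W ⊓ f ⁻¹ᵁ A₀).2
  replace hV₀ : IsAffineOpen V₀ := hV₀
  obtain ⟨a, haO, hya⟩ := hA₀.exists_basicOpen_le
    (V := ⟨f '' V₀, f.isOpenMap _ V₀.2⟩) ⟨f y, y, hyV₀, rfl⟩ hyA₀
  have e₀ : V₀ ≤ f ⁻¹ᵁ A₀ := fun z hz => (hV₀le hz).2
  let d := f.appLE A₀ V₀ e₀ a
  have hd : X.basicOpen d = V₀ ⊓ f ⁻¹ᵁ S.basicOpen a := Scheme.basicOpen_appLE _ _ _ _ _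
  have hVW : X.basicOpen d ≤ hW.fromSpec.opensRange :=
    le_trans (fun z hz => (hV₀le (X.basicOpen_le d hz)).1) hW.opensRange_fromSpec.ge
  obtain ⟨π, _, -⟩ := Groth.L15.FittSheaf.exists_free_hom_of_sections F hW φ₀ hφ₀
  obtain ⟨φ, hφ, -⟩ := Groth.L15.FittSheaf.exists_sections_of_free_hom F π (hV₀.basicOpen d) hVW
  refine ⟨S.basicOpen a, hA₀.basicOpen a, X.basicOpen d, hV₀.basicOpen d, fun z hz => (hd.le hz).2,
    φ ∘ₗ ((Finsupp.domLCongr Equiv.ulift).trans (Finsupp.linearEquivFunOnFinite _ _ (Fin p))).symm.toLinearMap,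
    hya, hφ.comp (LinearEquiv.surjective _), fun t ht => ?_⟩
  obtain ⟨x, hx, rfl⟩ := haO ht
  exact ⟨x, hd.ge ⟨hx, ht⟩, rfl⟩

omit [Smooth f] [GeometricallyIrreducible f] in
theorem baseChange_injective_iff {B B' M : Type u} [CommRing B] [CommRing B'] [Algebra B B'] [AddCommGroup M]
    [Module B M] {p : ℕ} (φ : (Fin p → B) →ₗ[B] M) (hφ : Function.Surjective φ) (s : Set (Fin p → B))
    (hs : Submodule.span B s = LinearMap.ker φ) :
    Function.Injective (φ.baseChange B') ↔ ∀ k ∈ s, ∀ i, algebraMap B B' (k i) = 0 := by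
  classical
  have h1 : ∀ k : Fin p → B, ∀ i, TensorProduct.piScalarRight B B' B' (Fin p) ((1 : B') ⊗ₜ k) i = algebraMap B B' (k i) :=
    fun k i => by simp [Algebra.smul_def]
  constructor
  · intro hinj k hk i
    have hk0 : φ k = 0 := LinearMap.mem_ker.1 (hs ▸ Submodule.subset_span hk)
    have h0 : (1 : B') ⊗ₜ[B] k = 0 := hinj (by rw [map_zero, LinearMap.baseChange_tmul, hk0, tmul_zero])
    rw [← h1, h0, map_zero, Pi.zero_apply]
  · intro h
    have hz : ∀ k ∈ LinearMap.ker φ, (1 : B') ⊗ₜ[B] k = 0 := fun k hk => by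
      have hle : Submodule.span B s ≤ LinearMap.ker (TensorProduct.mk B B' (Fin p → B) 1) :=
        Submodule.span_le.2 fun k hk => (TensorProduct.piScalarRight B B' B' (Fin p)).injective (by
          rw [map_zero]
          exact funext fun i => (h1 k i).trans (h k hk i))
      exact hle (hs.ge hk)
    have h0 : ∀ w : B' ⊗[B] LinearMap.ker φ, (LinearMap.ker φ).subtype.lTensor B' w = 0 := fun w => by
      induction w with
      | zero => exact map_zero _
      | tmul b k =>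
        rw [LinearMap.lTensor_tmul, ← mul_one b, ← smul_eq_mul, ← TensorProduct.smul_tmul',
          Submodule.subtype_apply, hz _ k.2, smul_zero]
      | add x y hx hy => rw [map_add, hx, hy, add_zero]
    rw [injective_iff_map_eq_zero]
    intro z hz0
    obtain ⟨w, rfl⟩ := ((lTensor_exact B' φ.exact_subtype_ker_map hφ) z).1 hz0
    exact h0 w

theorem exists_ideal_piece {A : S.Opens} (hA : IsAffineOpen A) {V : X.Opens} (hV : IsAffineOpen V) (e : V ≤ f ⁻¹ᵁ A)
    (φ : (Fin p → Γ(X, V)) →ₗ[Γ(X, V)] Γ(F, V)) (hφ : Function.Surjective φ) (hs : ∀ t ∈ A, ∃ x ∈ V, f x = t) :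
    ∃ c : Ideal Γ(S, A), (CohB1.IsFP F → c.FG) ∧ ∀ (T : Over S) [IsAffine T.left] (hT : ⊤ ≤ T.hom ⁻¹ᵁ A),
      Cond f F p T ↔ c ≤ RingHom.ker (T.hom.appLE A ⊤ hT).hom := by
  classical
  letI := (f.appLE A V e).hom.toAlgebra
  haveI : Algebra.Smooth Γ(S, A) Γ(X, V) := RingHom.smooth_algebraMap.1 (f.smooth_appLE hA hV e)
  have hdom : Groth.L20.RG.DomFib Γ(S, A) Γ(X, V) :=
    .of_smooth_geomIrredFibres (FreeGenericSheaf.geomIrredFibres_appLE f hA hV e hs)
  obtain ⟨s, hspan, hfin⟩ : ∃ s : Set (Fin p → Γ(X, V)), Submodule.span Γ(X, V) s = LinearMap.ker φ ∧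
      (CohB1.IsFP F → s.Finite) := by
    by_cases hFP : CohB1.IsFP F
    · haveI := Groth.L20.ModStalk.finitePresentation_sections F hFP hV
      obtain ⟨G, hG⟩ := Module.FinitePresentation.fg_ker φ hφ
      exact ⟨G, hG, fun _ => G.finite_toSet⟩
    · exact ⟨_, Submodule.span_eq _, fun h => absurd h hFP⟩
  obtain ⟨c, hcfg, hc⟩ := Groth.L20.RG.exists_content hdom (⋃ k ∈ s, Set.range k)
  refine ⟨c, fun hFP => hcfg ((hfin hFP).biUnion fun k _ => Set.finite_range k), fun T _ hT => ?_⟩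
  let q : PicF.XT f T ⟶ X := pullback.fst f T.hom
  let g := PicF.XTproj f T
  have hsq : IsPullback q g f T.hom := IsPullback.of_hasPullback f T.hom
  have hpb := Scheme.Hom.isPullback_resLE hsq (UT := (⊤ : T.left.Opens)) (US := A) (UX := V)
    hT e (UY := q ⁻¹ᵁ V) (by simp)
  haveI : IsAffine A.toScheme := hA
  haveI : IsAffine V.toScheme := hV
  haveI : IsAffine (⊤ : T.left.Opens).toScheme := isAffineOpen_top _
  have hV' : IsAffineOpen (q ⁻¹ᵁ V) := IsAffine.of_isPullback hpb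
  have hpo : IsPushout (f.appLE A V e) (T.hom.appLE A ⊤ hT) (q.appLE V (q ⁻¹ᵁ V) le_rfl)
      (g.appLE ⊤ (q ⁻¹ᵁ V) le_top) := by
    refine (isPushout_appTop_of_isPullback hpb).of_iso A.topIso V.topIso (⊤ : T.left.Opens).topIso
      (q ⁻¹ᵁ V).topIso ?_ ?_ ?_ ?_ <;>
    simp only [Scheme.Hom.appTop, Scheme.Hom.resLE_app_top, Category.assoc, Iso.inv_hom_id, Category.comp_id]
  letI := (T.hom.appLE A ⊤ hT).hom.toAlgebra
  letI := (q.appLE V (q ⁻¹ᵁ V) le_rfl).hom.toAlgebra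
  letI := (g.appLE ⊤ (q ⁻¹ᵁ V) le_top).hom.toAlgebra
  letI : Algebra Γ(S, A) Γ(PicF.XT f T, q ⁻¹ᵁ V) :=
    ((q.appLE V (q ⁻¹ᵁ V) le_rfl).hom.comp (f.appLE A V e).hom).toAlgebra
  haveI : IsScalarTower Γ(S, A) Γ(X, V) Γ(PicF.XT f T, q ⁻¹ᵁ V) := IsScalarTower.of_algebraMap_eq fun _ => rfl
  haveI : IsScalarTower Γ(S, A) Γ(T.left, ⊤) Γ(PicF.XT f T, q ⁻¹ᵁ V) :=
    IsScalarTower.of_algebraMap_eq' (congrArg CommRingCat.Hom.hom hpo.w)
  haveI : Algebra.IsPushout Γ(S, A) Γ(T.left, ⊤) Γ(X, V) Γ(PicF.XT f T, q ⁻¹ᵁ V) :=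
    (CommRingCat.isPushout_iff_isPushout.mp hpo).symm
  let E := Algebra.IsPushout.equiv Γ(S, A) Γ(T.left, ⊤) Γ(X, V) Γ(PicF.XT f T, q ⁻¹ᵁ V)
  have hc' : c ≤ RingHom.ker (T.hom.appLE A ⊤ hT).hom ↔
      Function.Injective (φ.baseChange Γ(PicF.XT f T, q ⁻¹ᵁ V)) := by
    rw [baseChange_injective_iff φ hφ s hspan]
    refine (hc Γ(T.left, ⊤)).symm.trans ?_
    simp only [Set.mem_iUnion, Set.mem_range, forall_exists_index]
    have hE : ∀ x, (1 : Γ(T.left, ⊤)) ⊗ₜ[Γ(S, A)] x = 0 ↔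
        algebraMap Γ(X, V) Γ(PicF.XT f T, q ⁻¹ᵁ V) x = 0 := fun x => by
      rw [← map_eq_zero_iff E E.injective, Algebra.IsPushout.equiv_tmul, map_one, one_mul]
    exact ⟨fun h k hk i => (hE _).1 (h _ k hk i rfl), fun h x k hk i hi => (hE x).2 (hi ▸ h k hk i)⟩
  rw [hc']
  haveI : Coh.IsQCoh (FGA.ET f F T) := FlatLimitPreserving.isQCoh_ET f F T
  obtain ⟨eM⟩ := Groth.L06.RelFPModules.sections_pullback q F hV' hV le_rfl
  let φ' : (Fin p → Γ(PicF.XT f T, q ⁻¹ᵁ V)) →ₗ[Γ(PicF.XT f T, q ⁻¹ᵁ V)] Γ(FGA.ET f F T, q ⁻¹ᵁ V) :=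
    eM.toLinearMap ∘ₗ φ.baseChange _ ∘ₗ
      (TensorProduct.piScalarRight Γ(X, V) _ Γ(PicF.XT f T, q ⁻¹ᵁ V) (Fin p)).symm.toLinearMap
  have hφ' : Function.Surjective φ' :=
    eM.surjective.comp ((LinearMap.lTensor_surjective _ hφ).comp (LinearEquiv.surjective _))
  have hinj : Function.Injective φ' ↔ Function.Injective (φ.baseChange Γ(PicF.XT f T, q ⁻¹ᵁ V)) := by
    refine (eM.injective.of_comp_iff _).trans ?_
    exact Function.Injective.of_comp_iff' _ (LinearEquiv.bijective _)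
  rw [← hinj]
  haveI : Smooth g := inferInstanceAs (Smooth (pullback.snd f T.hom))
  haveI : GeometricallyIrreducible g := inferInstanceAs (GeometricallyIrreducible (pullback.snd f T.hom))
  have hsT : ∀ t ∈ (⊤ : T.left.Opens), ∃ x ∈ q ⁻¹ᵁ V, g x = t := fun t _ => by
    obtain ⟨w, hw, hwt⟩ := hs (T.hom t) (hT (Set.mem_univ t))
    obtain ⟨z, hz, hz'⟩ := Scheme.exists_preimage_of_isPullback hsq w t hwt
    exact ⟨z, show q z ∈ (V : Set X) by rw [hz]; exact hw, hz'⟩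
  constructor
  · intro hC
    refine FreeGenericSheaf.injective_of_generic g (FGA.ET f F T) (isAffineOpen_top _) hV' le_top hsT φ' hφ'
      fun t _ => ?_
    obtain ⟨x, hxt, hx, U, hxU, hU⟩ := hC t
    exact ⟨x, hxt, hx, _, 𝟙 _, inferInstance, x, U, rfl, hxU,
      freeOn_of_iso ((Scheme.Modules.pullbackId _).app _).symm hU⟩
  · intro hi t
    obtain ⟨π, _, hπ⟩ := Groth.L15.FittSheaf.exists_free_hom_of_sections (FGA.ET f F T) hV'
      (φ' ∘ₗ ((Finsupp.domLCongr Equiv.ulift).trans (Finsupp.linearEquivFunOnFinite _ _ (Fin p))).toLinearMap)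
      (hφ'.comp (LinearEquiv.surjective _))
    haveI := hπ (hi.comp (LinearEquiv.injective _))
    obtain ⟨w, hw, hwt⟩ := hsT t trivial
    obtain ⟨x, hxt, hx⟩ := FreeGenericLimit.exists_isGenericPtOfFibre g t
    exact ⟨x, hxt, hx, hV'.fromSpec.opensRange,
      hV'.opensRange_fromSpec.ge ((hx w (hwt.trans hxt.symm)).mem_open (q ⁻¹ᵁ V).2 hw), ⟨(asIso π).symm⟩⟩

end Groth.L06.FreeGenericPiece
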