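import Groth.Agent.L06.FreeGenericPiece
import Groth.Agent.L13.FixedLocus.Glue
import Mathlib.AlgebraicGeometry.Morphisms.Immersion

/-!
# "Free at the generic points of the fibres" is representable by a subscheme
-/

set_option autoImplicit false
set_option maxSynthPendingDepth 3
set_option linter.style.haveILetI false
set_option backward.isDefEq.respectTransparency.types false
set_option backward.isDefEq.respectTransparency false

universe u

open CategoryTheory CategoryTheory.Limits AlgebraicGeometry Opposite TopologicalSpace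
open Groth.L06.FreeGenericPiece (Cond base good exists_piece exists_ideal_piece mem_base)

noncomputable section

namespace Groth.L06.FreeGenericRep

variable {X S : Scheme.{u}}

theorem specMap_fromSpec_appLE {A : S.Opens} (hA : IsAffineOpen A) {R : CommRingCat.{u}} (ψ : Γ(S, A) ⟶ R)
    (h : ⊤ ≤ (Spec.map ψ ≫ hA.fromSpec) ⁻¹ᵁ A) :
    (Spec.map ψ ≫ hA.fromSpec).appLE A ⊤ h = ψ ≫ (Scheme.ΓSpecIso R).inv := by
  rw [Scheme.Hom.comp_appLE, hA.fromSpec_app_self, Category.assoc, Scheme.Hom.map_appLE,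
    Scheme.ΓSpecIso_inv_naturality]
  exact congrArg _ (Spec.map ψ).appLE_eq_app

variable (f : X ⟶ S) [Smooth f] [GeometricallyIrreducible f] (F : X.Modules) [Coh.IsQCoh F] (p : ℕ)

theorem exists_ideal (hF : CohB1.IsFT F) (U : (base f F p).toScheme.affineOpens) :
    ∃ I : Ideal Γ((base f F p).toScheme, U.1), (CohB1.IsFP F → I.FG) ∧
      ∀ (R : CommRingCat.{u}) (φ : Γ((base f F p).toScheme, U.1) ⟶ R),
        Cond f F p (Over.mk ((Spec.map φ ≫ U.2.fromSpec) ≫ (base f F p).ι)) ↔ I ≤ RingHom.ker φ.hom := by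
  let W := base f F p
  refine Groth.L06.LocalIdeal.exists_ideal_of_local
    (fun (Y : Scheme.{u}) (g : Y ⟶ W.toScheme) => Cond f F p (Over.mk (g ≫ W.ι))) (fun Y Z h g hP => ?_)
    (fun Y g hP => ?_) _ U.2 fun u hu => ?_
  · exact FreeGenericLimit.stable f F p (Over.homMk h (Category.assoc _ _ _).symm : Over.mk ((h ≫ g) ≫ W.ι) ⟶ Over.mk (g ≫ W.ι)) hP
  · refine FreeGenericSheaf.of_flat_cover f F hF p (Over.mk (g ≫ W.ι)) fun y => ?_
    obtain ⟨O, hy, hO⟩ := hP y
    exact ⟨Over.mk ((O.ι ≫ g) ≫ W.ι), Over.homMk O.ι (Category.assoc _ _ _).symm,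
      inferInstanceAs (Flat O.ι), ⟨⟨y, hy⟩, rfl⟩, hO⟩
  · obtain ⟨A, hA, V, hV, e, φ, huA, hφ, hs⟩ := exists_piece f F p hF (show W.ι u ∈ W from u.2)
    obtain ⟨c, hcfg, hc⟩ := exists_ideal_piece f F p hA hV e φ hφ hs
    obtain ⟨a, ha, hua⟩ := U.2.exists_basicOpen_le (V := W.ι ⁻¹ᵁ A) ⟨u, huA⟩ hu
    refine ⟨a, hua, c.map (W.ι.appLE A (W.toScheme.basicOpen a) ha).hom, fun hQ => (hcfg hQ).map _,
      fun R ψ => ?_⟩
    have he : (Spec.map ψ ≫ (U.2.basicOpen a).fromSpec) ≫ W.ι =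
        Spec.map (W.ι.appLE A (W.toScheme.basicOpen a) ha ≫ ψ) ≫ hA.fromSpec := by
      rw [Category.assoc, Spec.map_comp, Category.assoc,
        hA.SpecMap_appLE_fromSpec W.ι (U.2.basicOpen a) ha]
    show Cond f F p (Over.mk ((Spec.map ψ ≫ (U.2.basicOpen a).fromSpec) ≫ W.ι)) ↔ _
    rw [he, Ideal.map_le_iff_le_comap, RingHom.comap_ker, ← CommRingCat.hom_comp]
    have hT : ⊤ ≤ (Spec.map (W.ι.appLE A (W.toScheme.basicOpen a) ha ≫ ψ) ≫ hA.fromSpec) ⁻¹ᵁ A := fun z _ => by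
      show _ ∈ (A : Set S)
      rw [Scheme.Hom.comp_apply, ← hA.range_fromSpec]
      exact Set.mem_range_self _
    haveI : IsAffine (Over.mk (Spec.map (W.ι.appLE A (W.toScheme.basicOpen a) ha ≫ ψ) ≫ hA.fromSpec)).left :=
      inferInstanceAs (IsAffine (Spec R))
    rw [hc (Over.mk _) hT]
    show c ≤ RingHom.ker (((Spec.map (W.ι.appLE A _ ha ≫ ψ) ≫ hA.fromSpec).appLE A ⊤ hT).hom) ↔ _
    rw [specMap_fromSpec_appLE hA, CommRingCat.hom_comp, RingHom.ker_comp_of_injective _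
      (ConcreteCategory.bijective_of_isIso (Scheme.ΓSpecIso R).inv).1]

theorem isCompact_base_inter (hFP : CohB1.IsFP F) (hF : CohB1.IsFT F) {U₀ : S.Opens} (hU₀ : IsAffineOpen U₀) :
    IsCompact ((base f F p : Set S) ∩ U₀) := by
  classical
  have hV : ∀ u : U₀, ∃ V : X.Opens, IsAffineOpen V ∧ (∀ z ∈ V, f z ∈ U₀) ∧ u.1 ∈ f '' V := fun u => by
    obtain ⟨x, hxu, -⟩ := FreeGenericLimit.exists_isGenericPtOfFibre f u.1
    obtain ⟨_, ⟨V, hV, rfl⟩, hxV, hVle⟩ :=
      X.isBasis_affineOpens.exists_subset_of_mem_open (show x ∈ f ⁻¹ᵁ U₀ by show f x ∈ (U₀ : Set S); rw [hxu]; exact u.2) (f ⁻¹ᵁ U₀).2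
    exact ⟨V, hV, fun z hz => hVle hz, x, hxV, hxu⟩
  choose V hV hVle hVu using hV
  obtain ⟨t, ht⟩ := hU₀.isCompact.elim_finite_subcover (fun u : U₀ => f '' (V u : Set X))
    (fun u => f.isOpenMap _ (V u).2) fun u hu => Set.mem_iUnion.2 ⟨⟨u, hu⟩, hVu _⟩
  have heq : (base f F p : Set S) ∩ U₀ = ⋃ u ∈ t, f '' ((good F p : Set X) ∩ V u) := by
    ext s
    simp only [Set.mem_iUnion, Set.mem_inter_iff, exists_prop]
    constructor
    · rintro ⟨⟨y, hy, rfl⟩, hyU⟩
      obtain ⟨u, hut, x₁, hx₁, hx₁y⟩ := Set.mem_iUnion₂.1 (ht hyU)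
      obtain ⟨x, hx, hxg⟩ := FreeGenericLimit.exists_isGenericPtOfFibre f (f y)
      exact ⟨u, hut, x, ⟨(hxg y hx.symm).mem_open (good F p).2 hy, (hxg x₁ (hx₁y.trans hx.symm)).mem_open (V u).2 hx₁⟩, hx⟩
    · rintro ⟨u, -, x, ⟨hxg, hxV⟩, rfl⟩
      exact ⟨⟨x, hxg, rfl⟩, hVle u x hxV⟩
  rw [heq]
  refine t.isCompact_biUnion fun u _ => IsCompact.image ?_ f.continuous
  haveI := Groth.L20.ModStalk.finitePresentation_sections F hFP (hV u)
  obtain ⟨G, hG⟩ := Groth.L13.Fitting.ideal_fg_of_finitePresentation (R := Γ(X, V u)) (M := Γ(F, V u)) p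
  have hc : IsCompact ((PrimeSpectrum.zeroLocus (G : Set Γ(X, V u)))ᶜ) := (PrimeSpectrum.isCompact_isOpen_iff.2 ⟨G, rfl⟩).1
  refine (congrArg IsCompact ?_).mp (hc.image (hV u).fromSpec.continuous)
  rw [← PrimeSpectrum.zeroLocus_span (G : Set Γ(X, V u)), show Ideal.span (G : Set Γ(X, V u)) = _ from hG]
  ext z
  constructor
  · rintro ⟨P, hP, rfl⟩
    have hz : (hV u).fromSpec P ∈ V u := by
      show _ ∈ (V u : Set X)
      rw [← (hV u).range_fromSpec]; exact Set.mem_range_self P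
    refine ⟨(Groth.L15.FittSheaf.notMem_support_iff F hF p (U := ⟨V u, hV u⟩) hz).2 fun hle => hP ?_, hz⟩
    rwa [show (hV u).primeIdealOf ⟨_, hz⟩ = P from
      (hV u).fromSpec.isOpenEmbedding.injective ((hV u).fromSpec_primeIdealOf _)] at hle
  · rintro ⟨hzg, hz⟩
    exact ⟨(hV u).primeIdealOf ⟨z, hz⟩,
      fun h => (Groth.L15.FittSheaf.notMem_support_iff F hF p (U := ⟨V u, hV u⟩) hz).1 hzg h,
      (hV u).fromSpec_primeIdealOf ⟨z, hz⟩⟩

/-- The functor `H_p` is representable by a subscheme. -/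
theorem exists_representable (hF : CohB1.IsFT F) :
    ∃ Z : Over S, IsImmersion Z.hom ∧
      Nonempty ((FlatFun.genPSp S (fun T => FlatFun.FreeAtGenericPts (PicF.XTproj f T) (FGA.ET f F T) p)).RepresentableBy Z) ∧
      (CohB1.IsFP F → LocallyOfFinitePresentation Z.hom ∧ QuasiCompact Z.hom ∧ QuasiSeparated Z.hom) := by
  let W := base f F p
  choose I hIfg hI using exists_ideal f F p hF
  obtain ⟨Z, t, ht, hker, hZ⟩ := Groth.L13.FixedLocus.exists_closedImmersion_of_ideals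
    (fun (Y : Scheme.{u}) (g : Y ⟶ W.toScheme) => Cond f F p (Over.mk (g ≫ W.ι)))
    (fun Y Z h g hP => FreeGenericLimit.stable f F p (Over.homMk h (Category.assoc _ _ _).symm : Over.mk ((h ≫ g) ≫ W.ι) ⟶ Over.mk (g ≫ W.ι)) hP)
    (fun Y g hP => FreeGenericSheaf.of_flat_cover f F hF p (Over.mk (g ≫ W.ι)) fun y => by
      obtain ⟨O, hy, hO⟩ := hP y
      exact ⟨Over.mk ((O.ι ≫ g) ≫ W.ι), Over.homMk O.ι (Category.assoc _ _ _).symm,
        inferInstanceAs (Flat O.ι), ⟨⟨y, hy⟩, rfl⟩, hO⟩) I hI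
  haveI := ht
  haveI : Mono (t ≫ W.ι) := inferInstance
  refine ⟨Over.mk (t ≫ W.ι), inferInstanceAs (IsImmersion (t ≫ W.ι)), ⟨?_⟩, fun hFP => ?_⟩
  · have key : ∀ T : Over S, Nonempty (T ⟶ Over.mk (t ≫ W.ι)) ↔ Cond f F p T := fun T => by
      constructor
      · rintro ⟨k⟩
        refine FreeGenericLimit.stable f F p (?_ : T ⟶ Over.mk (t ≫ W.ι)) ((hZ Z t).1 ⟨𝟙 Z, Category.id_comp t⟩)
        exact k
      · intro hT
        have hrange : Set.range T.hom ⊆ Set.range W.ι := by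
          rw [Scheme.Opens.range_ι]
          rintro _ ⟨z, rfl⟩
          exact mem_base f F p hF hT z
        let g := IsOpenImmersion.lift W.ι T.hom hrange
        have hg : g ≫ W.ι = T.hom := IsOpenImmersion.lift_fac _ _ _
        obtain ⟨g', hg'⟩ := (hZ T.left g).2 (FreeGenericLimit.stable f F p (Over.homMk (𝟙 T.left) (by
          simpa using hg.symm) : Over.mk (g ≫ W.ι) ⟶ T) hT)
        exact ⟨Over.homMk g' (by
          show g' ≫ t ≫ W.ι = T.hom
          rw [← Category.assoc, hg', hg])⟩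
    haveI : ∀ T : Over S, Subsingleton (T ⟶ Over.mk (t ≫ W.ι)) := fun T =>
      ⟨fun a b => Over.OverMorphism.ext ((cancel_mono (t ≫ W.ι)).1 ((Over.w a).trans (Over.w b).symm))⟩
    exact
      { homEquiv := fun {T} =>
          { toFun := fun k => Classical.choice (FlatFun.genPSp_nonempty_of _ ((key T).1 ⟨k⟩))
            invFun := fun x => Classical.choice ((key T).2
              ((FlatFun.genPSp_nonempty_iff_of_stable _ (FreeGenericLimit.stable f F p) T).1 ⟨x⟩))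
            left_inv := fun _ => Subsingleton.elim _ _
            right_inv := fun _ => Subsingleton.elim _ _ }
        homEquiv_comp := fun _ _ => Subsingleton.elim _ _ }
  · haveI : QuasiCompact W.ι := quasiCompact_iff_forall_isAffineOpen.2 fun U₀ hU₀ => by
      refine W.ι.isOpenEmbedding.isEmbedding.isInducing.isCompact_iff.2 ?_
      show IsCompact (W.ι '' (W.ι ⁻¹' (U₀ : Set S)))
      rw [Set.image_preimage_eq_range_inter, Scheme.Opens.range_ι]
      exact isCompact_base_inter f F p hFP hF hU₀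
    haveI := Groth.L13.FixedLocus.locallyOfFinitePresentation_of_fg t fun U => by
      rw [hker U]; exact hIfg U hFP
    exact ⟨inferInstanceAs (LocallyOfFinitePresentation (t ≫ W.ι)), inferInstanceAs (QuasiCompact (t ≫ W.ι)),
      inferInstanceAs (QuasiSeparated (t ≫ W.ι))⟩

end Groth.L06.FreeGenericRep
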