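import Groth.Agent.L06.FreeGenericAlg
import Groth.Agent.L06.FreeGenericLimit
import Groth.Agent.L15.FittFree
import Groth.Agent.L20.ResDescent

/-!
# "Free at the generic points of the fibres" is an fpqc sheaf
-/

set_option autoImplicit false
set_option maxSynthPendingDepth 3
set_option linter.style.haveILetI false
set_option backward.isDefEq.respectTransparency.types false
set_option backward.isDefEq.respectTransparency false

universe u

open CategoryTheory CategoryTheory.Limits AlgebraicGeometry Opposite TopologicalSpace TensorProduct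
open Groth.L19.LimMod (FreeOn freeOn_of_iso freeOn_mono freeOn_pullback)

noncomputable section

namespace Groth.L06.FreeGenericSheaf

variable {X T S : Scheme.{u}}

/-- A free pullback along a flat morphism in algebraic terms. -/
theorem pullback_data {X' : Scheme.{u}} (q : X' ⟶ X) (M : X.Modules) [Coh.IsQCoh M] {p : ℕ} {x' : X'}
    {U' : X'.Opens} (hx' : x' ∈ U') (hU : FreeOn ((Scheme.Modules.pullback q).obj M) p U') {W : X.Opens}
    (hW : IsAffineOpen W) (hxW : q x' ∈ W) :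
    ∃ (C : Type u) (_ : CommRing C) (_ : Algebra Γ(X, W) C) (_ : Flat q → Module.Flat Γ(X, W) C) (P' : Ideal C)
      (_ : P'.IsPrime), P'.comap (algebraMap Γ(X, W) C) = (hW.primeIdealOf ⟨q x', hxW⟩).asIdeal ∧
        Nonempty (C ⊗[Γ(X, W)] Γ(M, W) ≃ₗ[C] (Fin p → C)) := by
  obtain ⟨_, ⟨V, hV, rfl⟩, hxV, hVle⟩ :=
    X'.isBasis_affineOpens.exists_subset_of_mem_open (show x' ∈ U' ⊓ q ⁻¹ᵁ W from ⟨hx', hxW⟩) (U' ⊓ q ⁻¹ᵁ W).2
  replace hV : IsAffineOpen V := hV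
  have hVW : V ≤ q ⁻¹ᵁ W := fun z hz => (hVle hz).2
  letI := (q.appLE W V hVW).hom.toAlgebra
  obtain ⟨i⟩ := hU
  haveI := Groth.L19.LimMod.isQCoh_pullback q M
  obtain ⟨φ, hφ, hinj⟩ := Groth.L15.FittSheaf.exists_sections_of_free_hom _ i.inv hV fun z hz => (hVle hz).1
  obtain ⟨e⟩ := Groth.L06.RelFPModules.sections_pullback q M hV hW hVW
  refine ⟨Γ(X', V), inferInstance, inferInstance, fun _ => RingHom.flat_algebraMap_iff.1 (q.flat_appLE hW hV hVW),
    (hV.primeIdealOf ⟨x', hxV⟩).asIdeal, (hV.primeIdealOf ⟨x', hxV⟩).isPrime, ?_,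
    ⟨e.trans ((LinearEquiv.ofBijective φ ⟨hinj inferInstance, hφ⟩).symm.trans
      ((Finsupp.domLCongr Equiv.ulift).trans (Finsupp.linearEquivFunOnFinite _ _ (Fin p))))⟩⟩
  refine congrArg PrimeSpectrum.asIdeal
    (a₁ := Spec.map (q.appLE W V hVW) (hV.primeIdealOf ⟨x', hxV⟩)) (hW.fromSpec.isOpenEmbedding.injective ?_)
  rw [← Scheme.Hom.comp_apply, hW.SpecMap_appLE_fromSpec _ hV, Scheme.Hom.comp_apply, hV.fromSpec_primeIdealOf,
    hW.fromSpec_primeIdealOf]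

/-- Geometric irreducibility of the fibres of a surjective affine piece. -/
theorem geomIrredFibres_appLE (g : X ⟶ T) [GeometricallyIrreducible g] {A : T.Opens} (hA : IsAffineOpen A)
    {V : X.Opens} (hV : IsAffineOpen V) (e : V ≤ g ⁻¹ᵁ A) (hs : ∀ t ∈ A, ∃ x ∈ V, g x = t) :
    GeometricallyIrreducible (Spec.map (g.appLE A V e)) := by
  haveI : IsAffine A.toScheme := hA
  haveI : IsAffine V.toScheme := hV
  haveI : MorphismProperty.RespectsIso @GeometricallyIrreducible.{u} :=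
    MorphismProperty.IsStableUnderBaseChange.respectsIso
  haveI hsurj : Surjective (g.resLE A V e) := ⟨fun t => by
    obtain ⟨x, hx, hxt⟩ := hs t.1 t.2
    refine ⟨⟨x, hx⟩, A.ι.isOpenEmbedding.injective ?_⟩
    rw [← Scheme.Hom.comp_apply, Scheme.Hom.resLE_comp_ι, Scheme.Hom.comp_apply]
    exact hxt⟩
  have h1 : GeometricallyIrreducible (g.resLE A V e) := by
    haveI : Surjective (X.homOfLE e ≫ g ∣_ A) := hsurj
    exact inferInstanceAs (GeometricallyIrreducible (X.homOfLE e ≫ g ∣_ A))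
  have h2 : GeometricallyIrreducible (Spec.map (g.resLE A V e).appTop) :=
    (MorphismProperty.arrow_mk_iso_iff @GeometricallyIrreducible
      (arrowIsoSpecΓOfIsAffine (g.resLE A V e))).1 h1
  have h3 : g.appLE A V e = A.topIso.inv ≫ (g.resLE A V e).appTop ≫ V.topIso.hom := by
    rw [Iso.eq_inv_comp]
    exact (arrowResLEAppIso g A V e).hom.w
  rw [h3, Spec.map_comp, Spec.map_comp]
  exact (MorphismProperty.cancel_right_of_respectsIso @GeometricallyIrreducible _ _).2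
    ((MorphismProperty.cancel_left_of_respectsIso @GeometricallyIrreducible _ _).2 h2)

/-- Generators of the sections near a point. -/
theorem surjective_of_gens (M : X.Modules) [Coh.IsQCoh M] {V : X.Opens} (hV : IsAffineOpen V) (d : Γ(X, V)) {p : ℕ}
    (v : Fin p → Γ(M, V)) (hv : ∀ m, d • m ∈ Submodule.span Γ(X, V) (Set.range v)) :
    Function.Surjective (Fintype.linearCombination Γ(X, X.basicOpen d)
      fun i => Groth.L18.Frame.rs M (X.basicOpen_le d) (v i)) := by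
  let V₁ := X.basicOpen d
  let r₁ : Γ(M, V) → Γ(M, V₁) := fun m => Groth.L18.Frame.rs M (X.basicOpen_le d) m
  let w : Fin p → Γ(M, V₁) := fun i => r₁ (v i)
  let φ : (Fin p → Γ(X, V₁)) →ₗ[Γ(X, V₁)] Γ(M, V₁) := Fintype.linearCombination Γ(X, V₁) w
  show Function.Surjective φ
  letI := Module.compHom Γ(M, V₁) (X.presheaf.map (homOfLE (X.basicOpen_le d)).op).hom
  letI : Algebra Γ(X, V) Γ(X, V₁) := (X.presheaf.map (homOfLE (X.basicOpen_le d)).op).hom.toAlgebra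
  haveI : IsScalarTower Γ(X, V) Γ(X, V₁) Γ(M, V₁) := IsScalarTower.of_algebraMap_smul fun _ _ => rfl
  haveI : IsLocalization.Away d Γ(X, V₁) := hV.isLocalization_basicOpen d
  haveI := Groth.L20.ModStalk.isLocalizedModule_res M hV d
  let res : Γ(M, V) →ₗ[Γ(X, V)] Γ(M, V₁) :=
    { toFun := r₁
      map_add' := fun a b => map_add _ a b
      map_smul' := fun c s => Groth.L18.Frame.rs_smul M (X.basicOpen_le d) c s }
  haveI : IsLocalizedModule (Submonoid.powers d) res := Groth.L20.ModStalk.isLocalizedModule_res M hV d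
  have hsub : ∀ m, d • res m ∈ LinearMap.range φ := fun m => by
    have h1 : res (d • m) ∈ Submodule.span Γ(X, V) (Set.range w) := by
      have := Submodule.mem_map_of_mem (f := res) (hv m)
      rwa [Submodule.map_span, ← Set.range_comp] at this
    rw [map_smul] at h1
    rw [Fintype.range_linearCombination]
    exact Submodule.span_le_restrictScalars Γ(X, V) Γ(X, V₁) _ h1
  intro m₁
  obtain ⟨⟨m, ⟨_, n, rfl⟩⟩, hn⟩ := IsLocalizedModule.surj (Submonoid.powers d) res m₁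
  replace hn : d ^ n • m₁ = res m := hn
  have h3 := hsub m
  rw [← hn, ← mul_smul, ← algebraMap_smul Γ(X, V₁)] at h3
  exact (Submodule.smul_mem_iff_of_isUnit _ (by
    rw [map_mul, map_pow]
    exact (IsLocalization.Away.algebraMap_isUnit d).mul ((IsLocalization.Away.algebraMap_isUnit d).pow n))).1 h3

/-- A surjection from a free module is bijective on a piece if the module is free at the generic points of the fibres. -/
theorem injective_of_generic (g : X ⟶ T) [Smooth g] [GeometricallyIrreducible g] (M : X.Modules) [Coh.IsQCoh M]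
    {A₁ : T.Opens} (hA₁ : IsAffineOpen A₁) {V₁ : X.Opens} (hV₁ : IsAffineOpen V₁) (e₁ : V₁ ≤ g ⁻¹ᵁ A₁)
    (hs : ∀ t ∈ A₁, ∃ x ∈ V₁, g x = t) {p : ℕ} (φ : (Fin p → Γ(X, V₁)) →ₗ[Γ(X, V₁)] Γ(M, V₁))
    (hφ : Function.Surjective φ)
    (h : ∀ t ∈ A₁, ∃ x : X, g x = t ∧ FlatFun.IsGenericPtOfFibre g x ∧
      ∃ (X' : Scheme.{u}) (q : X' ⟶ X) (_ : Flat q) (x' : X') (U' : X'.Opens),
        q x' = x ∧ x' ∈ U' ∧ FreeOn ((Scheme.Modules.pullback q).obj M) p U') :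
    Function.Injective φ := by
  letI := (g.appLE A₁ V₁ e₁).hom.toAlgebra
  haveI : Algebra.Smooth Γ(T, A₁) Γ(X, V₁) := RingHom.smooth_algebraMap.1 (g.smooth_appLE hA₁ hV₁ e₁)
  have hdom : Groth.L20.RG.DomFib Γ(T, A₁) Γ(X, V₁) :=
    .of_smooth_geomIrredFibres (geomIrredFibres_appLE g hA₁ hV₁ e₁ hs)
  rw [injective_iff_map_eq_zero]
  intro k hk
  funext i
  refine Groth.L06.FreeGenericAlg.eq_zero_of_fibre_generic hdom (k i) fun P hP hmin => ?_
  let P₀ : PrimeSpectrum Γ(X, V₁) := ⟨P, hP⟩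
  let w₀ := hV₁.fromSpec P₀
  have hw₀ : w₀ ∈ V₁ := by
    show w₀ ∈ (V₁ : Set X)
    rw [← hV₁.range_fromSpec]; exact Set.mem_range_self P₀
  have hpt : ∀ Q : PrimeSpectrum Γ(X, V₁),
      hA₁.fromSpec (Spec.map (g.appLE A₁ V₁ e₁) Q) = g (hV₁.fromSpec Q) := fun Q => by
    rw [← Scheme.Hom.comp_apply, hA₁.SpecMap_appLE_fromSpec _ hV₁, Scheme.Hom.comp_apply]
  obtain ⟨x₂, hx₂t, hx₂, X₂, q₂, hq₂, y₂, U₂, hqy, hyU, hfree₂⟩ := h (g w₀) (e₁ hw₀)
  subst hqy
  have hspec : q₂ y₂ ⤳ w₀ := hx₂ w₀ hx₂t.symm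
  have hx₂V : q₂ y₂ ∈ V₁ := hspec.mem_open V₁.2 hw₀
  let P₂ := hV₁.primeIdealOf ⟨q₂ y₂, hx₂V⟩
  have hP₂ : hV₁.fromSpec P₂ = q₂ y₂ := hV₁.fromSpec_primeIdealOf _
  have heq : P₂.asIdeal = P := by
    refine le_antisymm ?_ (hmin P₂.asIdeal P₂.isPrime ?_)
    · have : P₂ ⤳ P₀ := hV₁.fromSpec.isOpenEmbedding.isInducing.specializes_iff.1 (by rw [hP₂]; exact hspec)
      exact (PrimeSpectrum.le_iff_specializes P₂ P₀).2 this
    · refine congrArg PrimeSpectrum.asIdeal (a₁ := Spec.map (g.appLE A₁ V₁ e₁) P₂)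
        (a₂ := Spec.map (g.appLE A₁ V₁ e₁) P₀) (hA₁.fromSpec.isOpenEmbedding.injective ?_)
      rw [hpt, hpt, hP₂, hx₂t]
  obtain ⟨C₂, _, _, hflat, Q', _, hQ', ⟨e₂⟩⟩ := pullback_data q₂ M hyU hfree₂ hV₁ hx₂V
  haveI := hflat hq₂
  obtain ⟨s, hs, hsk⟩ := Groth.L06.FreeGenericAlg.exists_smul_eq_zero φ hφ P₂.asIdeal Q' hQ' e₂ k hk
  exact ⟨s, heq ▸ hs, congrFun hsk i⟩

theorem freeAtGenericPts_of_cover (g : X ⟶ T) [Smooth g] [GeometricallyIrreducible g] (M : X.Modules)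
    [Coh.IsQCoh M] (hM : CohB1.IsFT M) (p : ℕ)
    (h : ∀ t : T, ∃ x : X, g x = t ∧ FlatFun.IsGenericPtOfFibre g x ∧
      ∃ (X' : Scheme.{u}) (q : X' ⟶ X) (_ : Flat q) (x' : X') (U' : X'.Opens),
        q x' = x ∧ x' ∈ U' ∧ FreeOn ((Scheme.Modules.pullback q).obj M) p U') :
    FlatFun.FreeAtGenericPts g M p := by
  classical
  intro t
  obtain ⟨x, hxt, hx, X', q, hq, x', U', hqx, hxU', hfree⟩ := h t
  subst hqx
  refine ⟨q x', hxt, hx, ?_⟩
  obtain ⟨_, ⟨T₀, hT₀, rfl⟩, htT₀, -⟩ :=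
    T.isBasis_affineOpens.exists_subset_of_mem_open (Set.mem_univ t) isOpen_univ
  replace hT₀ : IsAffineOpen T₀ := hT₀
  obtain ⟨_, ⟨V, hV, rfl⟩, hxV, hVT⟩ :=
    X.isBasis_affineOpens.exists_subset_of_mem_open (show q x' ∈ g ⁻¹ᵁ T₀ by show g (q x') ∈ (T₀ : Set T); rw [hxt]; exact htT₀) (g ⁻¹ᵁ T₀).2
  replace hV : IsAffineOpen V := hV
  haveI := Groth.L20.ModStalk.finite_sections M ⟨inferInstance, hM⟩ hV
  obtain ⟨C, _, _, _, P', _, hP', ⟨e⟩⟩ := pullback_data q M hxU' hfree hV hxV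
  obtain ⟨g₀, hg₀, v, hv⟩ := Groth.L06.FreeGenericAlg.exists_gens _ P' hP' e
  have hxg : q x' ∈ X.basicOpen g₀ := by
    show (⟨q x', hxV⟩ : V).1 ∈ X.basicOpen g₀
    rw [← hV.fromSpec_primeIdealOf ⟨q x', hxV⟩]
    show hV.primeIdealOf ⟨q x', hxV⟩ ∈ hV.fromSpec ⁻¹ᵁ X.basicOpen g₀
    rw [hV.fromSpec_preimage_basicOpen]
    exact hg₀
  obtain ⟨a, haO, hta⟩ := hT₀.exists_basicOpen_le
    (V := ⟨g '' X.basicOpen g₀, g.isOpenMap _ (X.basicOpen g₀).2⟩) ⟨t, q x', hxg, hxt⟩ htT₀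
  let d := g₀ * g.appLE T₀ V hVT a
  have hd : X.basicOpen d = X.basicOpen g₀ ⊓ g ⁻¹ᵁ T.basicOpen a := by
    rw [Scheme.basicOpen_mul, Scheme.basicOpen_appLE, ← inf_assoc,
      inf_eq_left.2 (X.basicOpen_le g₀)]
  let A₁ := T.basicOpen a
  let V₁ := X.basicOpen d
  have hA₁ : IsAffineOpen A₁ := hT₀.basicOpen a
  have hV₁ : IsAffineOpen V₁ := hV.basicOpen d
  have e₁ : V₁ ≤ g ⁻¹ᵁ A₁ := fun z hz => (hd.le hz).2
  have hx₁ : q x' ∈ V₁ := hd.ge ⟨hxg, show g (q x') ∈ A₁ by rw [hxt]; exact hta⟩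
  have hs : ∀ s ∈ A₁, ∃ w ∈ V₁, g w = s := fun s hs => by
    obtain ⟨w, hw, rfl⟩ := haO hs
    exact ⟨w, hd.ge ⟨hw, hs⟩, rfl⟩
  -- the generators on the smaller piece
  let r₁ : Γ(M, V) → Γ(M, V₁) := fun m => Groth.L18.Frame.rs M (X.basicOpen_le d) m
  let w : Fin p → Γ(M, V₁) := fun i => r₁ (v i)
  let φ : (Fin p → Γ(X, V₁)) →ₗ[Γ(X, V₁)] Γ(M, V₁) := Fintype.linearCombination Γ(X, V₁) w
  have hφ : Function.Surjective φ := by
    refine surjective_of_gens M hV d v fun m => ?_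
    show (g₀ * g.appLE T₀ V hVT a) • m ∈ _
    rw [mul_comm, mul_smul]
    exact Submodule.smul_mem _ _ (hv m)
  have hφ' : Function.Injective φ :=
    injective_of_generic g M hA₁ hV₁ e₁ hs φ hφ fun t' _ => h t'
  obtain ⟨π, _, hπ⟩ := Groth.L15.FittSheaf.exists_free_hom_of_sections M hV₁
    (φ ∘ₗ ((Finsupp.domLCongr Equiv.ulift).trans
      (Finsupp.linearEquivFunOnFinite Γ(X, V₁) Γ(X, V₁) (Fin p))).toLinearMap)
    (hφ.comp (LinearEquiv.surjective _))
  haveI := hπ (hφ'.comp (LinearEquiv.injective _))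
  exact ⟨hV₁.fromSpec.opensRange, hV₁.opensRange_fromSpec.ge hx₁, ⟨(asIso π).symm⟩⟩

/-- The condition is flat local on the base. -/
theorem of_flat_cover (f : X ⟶ S) [Smooth f] [GeometricallyIrreducible f] (F : X.Modules) [Coh.IsQCoh F]
    (hF : CohB1.IsFT F) (p : ℕ) (T₀ : Over S)
    (h : ∀ t : T₀.left, ∃ (T' : Over S) (m : T' ⟶ T₀), Flat m.left ∧ t ∈ Set.range m.left ∧
      FlatFun.FreeAtGenericPts (PicF.XTproj f T') (FGA.ET f F T') p) :
    FlatFun.FreeAtGenericPts (PicF.XTproj f T₀) (FGA.ET f F T₀) p := by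
  haveI := FlatLimitPreserving.isQCoh_ET f F T₀
  haveI : Smooth (PicF.XTproj f T₀) := inferInstanceAs (Smooth (pullback.snd f T₀.hom))
  haveI : GeometricallyIrreducible (PicF.XTproj f T₀) :=
    inferInstanceAs (GeometricallyIrreducible (pullback.snd f T₀.hom))
  refine freeAtGenericPts_of_cover (PicF.XTproj f T₀) (FGA.ET f F T₀)
    (Groth.L20.ResDescent.isFT_pullback (pullback.fst f T₀.hom) F hF) p fun t => ?_
  obtain ⟨x, hxt, hx⟩ := FreeGenericLimit.exists_isGenericPtOfFibre (PicF.XTproj f T₀) t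
  obtain ⟨T', m, hm, ⟨z, hz⟩, hk⟩ := h t
  obtain ⟨x', hx'z, hx', U', hxU', hU'⟩ := hk z
  have hsq := FlatLimitPreserving.isPullback_XTmap f m
  haveI : Flat (PicF.XTmap f m) := MorphismProperty.of_isPullback (P := @Flat) hsq.flip hm
  obtain ⟨z₀, hz₀, hz₀'⟩ := Scheme.exists_preimage_of_isPullback hsq x z (hxt.trans hz.symm)
  refine ⟨x, hxt, hx, _, PicF.XTmap f m, inferInstance, x', U', ?_, hxU', freeOn_of_iso (FGA.ETiso f F m).symm hU'⟩
  refine ((((hx' z₀ (hz₀'.trans hx'z.symm)).map (PicF.XTmap f m).continuous).trans (specializes_of_eq hz₀)).antisymm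
    (hx _ ?_)).eq
  show (PicF.XTmap f m ≫ PicF.XTproj f T₀) x' = _
  rw [hsq.w, Scheme.Hom.comp_apply, hxt]
  exact (congrArg m.left hx'z).trans hz

/-- The functor `H_p` is an fpqc sheaf. -/
theorem isSheaf (f : X ⟶ S) [Smooth f] [GeometricallyIrreducible f] (F : X.Modules) [Coh.IsQCoh F]
    (hF : CohB1.IsFT F) (p : ℕ) :
    Presheaf.IsSheaf (QuotSh.J Scheme.fpqcPrecoverage S)
      (FlatFun.genPSp S (fun T => FlatFun.FreeAtGenericPts (PicF.XTproj f T) (FGA.ET f F T) p)) := by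
  refine Groth.L06.CondSheaf.isSheaf_genPSp Scheme.fpqcPrecoverage _ (FreeGenericLimit.stable f F p)
    fun {Y} R hR {Y'} g h hk => ?_
  obtain ⟨ι, Z, c, hc⟩ := (R.pullbackArrows g).exists_eq_ofArrows
  have hmem : Presieve.ofArrows Z c ∈ Scheme.precoverage @Flat Y' :=
    hc ▸ Scheme.propQCPrecoverage_le_precoverage (P := @Flat) _ (Precoverage.pullbackArrows_mem g hR)
  obtain ⟨hsurj, hflat⟩ := (Scheme.ofArrows_mem_precoverage_iff _).1 hmem
  refine of_flat_cover f F hF p (Over.mk h) fun t => ?_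
  obtain ⟨i, z, hz⟩ := hsurj t
  have hi : (Sieve.generate R).pullback g (c i) := by
    rw [← Sieve.pullbackArrows_comm]
    exact ⟨Z i, 𝟙 _, c i, hc ▸ Presieve.ofArrows.mk i, Category.id_comp _⟩
  exact ⟨Over.mk (c i ≫ h), Over.homMk (c i) rfl, hflat i, ⟨z, hz⟩, hk _ _ hi⟩

end Groth.L06.FreeGenericSheaf
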