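import Groth.Agent.L06.FreeGenericRep

/-!
# The stratum where a module is locally free of given rank
-/

set_option autoImplicit false
set_option maxSynthPendingDepth 3
set_option linter.style.haveILetI false
set_option backward.isDefEq.respectTransparency.types false
set_option backward.isDefEq.respectTransparency false

universe u

open CategoryTheory CategoryTheory.Limits AlgebraicGeometry Opposite TopologicalSpace
open Groth.L19.LimMod (FreeOn freeOn_of_iso freeOn_mono freeOn_pullback)

noncomputable section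

namespace Groth.L06.FreeRankStratum

variable {X : Scheme.{u}}

theorem geometricallyIrreducible_id : GeometricallyIrreducible (𝟙 X) := by
  constructor
  intro K _ y P p₁ p₂ h
  haveI : IsIso p₂ := h.isIso_snd_of_isIso
  exact (asIso p₂).hom.homeomorph.irreducibleSpace_iff.2 inferInstance

theorem cond_iff (F : X.Modules) [Coh.IsQCoh F] (r : ℕ) (T : Over X) :
    Groth.L06.FreeGenericPiece.Cond (𝟙 X) F r T ↔
      FlatMod.IsFinLocFreeOfRank r ((Scheme.Modules.pullback T.hom).obj F) := by
  let g := PicF.XTproj (𝟙 X) T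
  haveI : IsIso g := inferInstanceAs (IsIso (pullback.snd (𝟙 X) T.hom))
  have hfst : pullback.fst (𝟙 X) T.hom = g ≫ T.hom := by
    have := pullback.condition (f := 𝟙 X) (g := T.hom)
    rw [Category.comp_id] at this
    exact this
  have hinv : inv g ≫ pullback.fst (𝟙 X) T.hom = T.hom := by rw [hfst, IsIso.inv_hom_id_assoc]
  constructor
  · intro h t
    obtain ⟨x, hxt, -, U, hxU, hU⟩ := h t
    refine ⟨inv g ⁻¹ᵁ U, ?_, freeOn_of_iso
      ((Scheme.Modules.pullbackComp (inv g) (pullback.fst (𝟙 X) T.hom)).app F ≪≫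
        (Scheme.Modules.pullbackCongr hinv).app F) (freeOn_pullback (inv g) hU)⟩
    show inv g t ∈ (U : Set _)
    rw [← hxt]
    show inv g (g x) ∈ (U : Set _)
    rw [← Scheme.Hom.comp_apply, IsIso.hom_inv_id]
    exact hxU
  · intro h t
    obtain ⟨U, htU, hU⟩ := h t
    have hx : g (inv g t) = t := by rw [← Scheme.Hom.comp_apply, IsIso.inv_hom_id]; rfl
    refine ⟨inv g t, hx, fun x' hx' => specializes_of_eq (g.isOpenEmbedding.injective hx').symm, g ⁻¹ᵁ U, ?_,
      freeOn_of_iso ((Scheme.Modules.pullbackComp g T.hom).app F ≪≫ (Scheme.Modules.pullbackCongr hfst.symm).app F)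
        (freeOn_pullback g hU)⟩
    show g (inv g t) ∈ (U : Set _)
    rw [hx]
    exact htU

theorem exists_stratum (F : X.Modules) [Coh.IsQCoh F] (hF : CohB1.IsFT F) (r : ℕ) :
    ∃ (Z : Scheme.{u}) (i : Z ⟶ X), IsImmersion i ∧ ∀ (T : Scheme.{u}) (f : T ⟶ X),
      (∃ g : T ⟶ Z, g ≫ i = f) ↔ FlatMod.IsFinLocFreeOfRank r ((Scheme.Modules.pullback f).obj F) := by
  haveI := geometricallyIrreducible_id (X := X)
  obtain ⟨Z, hi, ⟨R⟩, -⟩ := Groth.L06.FreeGenericRep.exists_representable (𝟙 X) F r hF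
  refine ⟨Z.left, Z.hom, hi, fun T f => ?_⟩
  refine Iff.trans ?_ (cond_iff F r (Over.mk f))
  refine Iff.trans ?_ (FlatFun.genPSp_nonempty_iff_of_stable _ (FreeGenericLimit.stable (𝟙 X) F r) (Over.mk f))
  exact ⟨fun ⟨g, hg⟩ => ⟨R.homEquiv (Over.homMk g hg)⟩, fun ⟨x⟩ => ⟨(R.homEquiv.symm x).left, Over.w (R.homEquiv.symm x)⟩⟩

end Groth.L06.FreeRankStratum
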