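import Groth.Agent.L28.EtCartan.Frobenius
import Mathlib.Algebra.Homology.DerivedCategory.Ext.ExactSequences

/-!
# Cohomology of the cokernel of Frobenius on the structure sheaf
-/

set_option autoImplicit false
set_option maxSynthPendingDepth 3
set_option linter.style.haveILetI false
set_option backward.isDefEq.respectTransparency.types false
set_option backward.isDefEq.respectTransparency false

universe u

open CategoryTheory CategoryTheory.Limits AlgebraicGeometry Opposite

namespace Groth.L06.FrobSplit

/-- An injective semilinear endomorphism of a finite dimensional space is surjective when the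
field endomorphism is bijective. -/
theorem surjective_of_injective {k V : Type u} [Field k] [AddCommGroup V] [Module k V]
    [FiniteDimensional k V] (σ : k →+* k) [RingHomSurjective σ] (f : V →ₛₗ[σ] V)
    (hf : Function.Injective f) : Function.Surjective f := by
  let b := Module.finBasis k V
  have hli : LinearIndependent k (fun i => f (b i)) := by
    rw [Fintype.linearIndependent_iff]
    intro g hg
    choose g' hg' using fun i => RingHomSurjective.is_surjective (σ := σ) (g i)
    have h : ∑ i, g' i • b i = 0 := hf (by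
      rw [map_sum, map_zero]
      simpa [LinearMap.map_smulₛₗ, hg'] using hg)
    intro i
    rw [← hg' i, Fintype.linearIndependent_iff.1 b.linearIndependent g' h i, map_zero]
  rw [← LinearMap.range_eq_top, eq_top_iff]
  have := hli.span_eq_top_of_card_eq_finrank' (by simp)
  rw [← this, Submodule.span_le]
  rintro _ ⟨i, rfl⟩
  exact ⟨b i, rfl⟩

variable {X : Scheme.{u}}

theorem eq_frobAb {p : ℕ} (hp : p.Prime) (h0 : (p : Γ(X, ⊤)) = 0)
    (φ : Coh.toAb (Coh.structureModule X) ⟶ Coh.toAb (Coh.structureModule X))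
    (hφ : ∀ (U : X.Opens) (t : Γ(X, U)), φ.hom.app (op U) t = t ^ p) :
    φ = Groth.L28.EtCartan.frobAb p hp h0 :=
  ObjectProperty.hom_ext _ (NatTrans.ext (funext fun U =>
    ConcreteCategory.hom_ext _ _ fun t => hφ U.unop t))

theorem subsingleton_H_cokernel_of_split (p : ℕ) [Fact p.Prime] (k : Type u) [Field k] [CharP k p]
    [PerfectField k] [X.Over (Spec (CommRingCat.of k))] [IsProper (X ↘ Spec (CommRingCat.of k))]
    (φ : Coh.toAb (Coh.structureModule X) ⟶ Coh.toAb (Coh.structureModule X))
    (hφ : ∀ (U : X.Opens) (t : Γ(X, U)), φ.hom.app (op U) t = t ^ p)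
    (s : Coh.toAb (Coh.structureModule X) ⟶ Coh.toAb (Coh.structureModule X))
    (hs : φ ≫ s = 𝟙 _) (i : ℕ) : Subsingleton (Sheaf.H (Limits.cokernel φ) i) := by
  have h0 : (p : Γ(X, ⊤)) = 0 := by
    have h := congrArg (Coh.toGlobal (X ↘ Spec (CommRingCat.of k))) (CharP.cast_eq_zero k p)
    rwa [map_natCast, map_zero] at h
  have hp : p.Prime := Fact.out
  haveI := Groth.L28.EtCartan.finite_HH_structure (X := X) (k := k) i
  haveI : ExpChar k p := ExpChar.prime hp
  haveI : RingHomSurjective (frobenius k p) := ⟨(bijective_frobenius (R := k) (p := p)).2⟩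
  let f : Coh.HH X (Coh.structureModule X) i →ₛₗ[frobenius k p]
      Coh.HH X (Coh.structureModule X) i :=
    { toFun := fun v => Sheaf.H.map φ i v
      map_add' := fun v w => map_add _ v w
      map_smul' := fun c v => by
        rw [eq_frobAb hp h0 φ hφ]
        exact Groth.L28.EtCartan.frobH_smul (k := k) p hp h0 i c v }
  have hinj : Function.Injective f := fun v w h => by
    have e := congrArg (fun z => Sheaf.H.map s i z) h
    have e' : Sheaf.H.map s i (Sheaf.H.map φ i v) = Sheaf.H.map s i (Sheaf.H.map φ i w) := e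
    rwa [← Sheaf.H.map_comp_apply, ← Sheaf.H.map_comp_apply, hs, Sheaf.H.map_id_apply,
      Sheaf.H.map_id_apply] at e'
  have hsurj := surjective_of_injective _ f hinj
  obtain ⟨t, ht⟩ : ∃ t, cokernel.π φ ≫ t = 𝟙 _ - s ≫ φ :=
    ⟨cokernel.desc φ (𝟙 _ - s ≫ φ) (by
      rw [Preadditive.comp_sub, ← Category.assoc, hs, Category.comp_id, Category.id_comp, sub_self]),
      cokernel.π_desc _ _ _⟩
  have htc : t ≫ cokernel.π φ = 𝟙 _ := by
    rw [← cancel_epi (cokernel.π φ), ← Category.assoc, ht, Preadditive.sub_comp, Category.assoc,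
      cokernel.condition, comp_zero, sub_zero, Category.comp_id, Category.id_comp]
  refine ⟨fun z z' => ?_⟩
  suffices h : ∀ z : Sheaf.H (Limits.cokernel φ) i, z = 0 by rw [h z, h z']
  intro z
  obtain ⟨w, hw⟩ := hsurj (Sheaf.H.map t i z)
  have e := congrArg (fun y => Sheaf.H.map (cokernel.π φ) i y) hw
  have e' : Sheaf.H.map (cokernel.π φ) i (Sheaf.H.map φ i w) =
      Sheaf.H.map (cokernel.π φ) i (Sheaf.H.map t i z) := e
  rw [← Sheaf.H.map_comp_apply, ← Sheaf.H.map_comp_apply, htc, cokernel.condition,
    Sheaf.H.map_id_apply, Sheaf.H.map_apply, Abelian.Ext.mk₀_zero, Abelian.Ext.comp_zero] at e'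
  exact e'.symm

theorem bijective_H_map_of_subsingleton_cokernel {p : ℕ} (hp : p ≠ 0) [IsReduced X]
    (φ : Coh.toAb (Coh.structureModule X) ⟶ Coh.toAb (Coh.structureModule X))
    (hφ : ∀ (U : X.Opens) (t : Γ(X, U)), φ.hom.app (op U) t = t ^ p)
    (hB : ∀ i : ℕ, Subsingleton (Sheaf.H (Limits.cokernel φ) i))
    (i : ℕ) : Function.Bijective (Sheaf.H.map φ i) := by
  haveI : Mono φ.hom := by
    haveI : ∀ U, Mono (φ.hom.app U) := fun U => by
      induction U using Opposite.rec with
      | _ U =>
        rw [AddCommGrpCat.mono_iff_injective, injective_iff_map_eq_zero]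
        intro t ht
        have h : (show Γ(X, U) from t) ^ p = 0 := (hφ U t).symm.trans ht
        exact (pow_eq_zero_iff hp).1 h
    exact NatTrans.mono_of_mono_app _
  haveI : Mono φ := (sheafToPresheaf _ _).mono_of_mono_map ‹Mono φ.hom›
  let S := ShortComplex.mk φ (cokernel.π φ) (cokernel.condition φ)
  have hS : S.ShortExact :=
    { exact := S.exact_of_g_is_cokernel (cokernelIsCokernel φ) }
  constructor
  · intro v w h
    rw [← sub_eq_zero]
    replace h : Sheaf.H.map φ i (v - w) = 0 := by rw [map_sub, h, sub_self]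
    rw [Sheaf.H.map_apply] at h
    cases i with
    | zero =>
      exact Abelian.Ext.postcomp_mk₀_injective_of_mono _ φ (h.trans (map_zero _).symm)
    | succ n =>
      obtain ⟨x, hx⟩ := Abelian.Ext.covariant_sequence_exact₁ _ hS (v - w) h rfl
      rw [← hx, (hB n).elim x 0, Abelian.Ext.zero_comp]
  · intro v
    obtain ⟨x, hx⟩ := Abelian.Ext.covariant_sequence_exact₂ _ hS v ((hB i).elim _ _)
    exact ⟨x, by rw [Sheaf.H.map_apply]; exact hx⟩

end Groth.L06.FrobSplit
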