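import Groth.Agent.L06.GenericSpecialise
import Groth.Agent.L06.FiniteImage
import Mathlib.AlgebraicGeometry.Fiber
import Mathlib.AlgebraicGeometry.Properties
import Mathlib.AlgebraicGeometry.Morphisms.FiniteType
import Mathlib.AlgebraicGeometry.Morphisms.QuasiCompact
import Mathlib.RingTheory.FiniteStability

/-! Non-reducedness and nowhere density spread from the generic fibre to nearby fibres. -/

set_option autoImplicit false
set_option maxSynthPendingDepth 3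
set_option linter.style.haveILetI false
set_option backward.isDefEq.respectTransparency.types false
set_option backward.isDefEq.respectTransparency false

universe u

open CategoryTheory CategoryTheory.Limits AlgebraicGeometry TopologicalSpace TensorProduct

noncomputable section

namespace Groth.L06.GenericFibreOpen

variable {A : Type u} [CommRing A] (p₀ : Ideal A) [p₀.IsPrime] (hle : ∀ p : Ideal A, p.IsPrime → p₀ ≤ p)
  (B : Type u) [CommRing B] [Algebra A B] [Algebra.FiniteType A B]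

include hle in
theorem not_isReduced_fiber (h : ¬ _root_.IsReduced (p₀.Fiber B)) :
    ∃ f ∉ p₀, ∀ p : PrimeSpectrum A, f ∉ p.asIdeal → ¬ _root_.IsReduced (p.asIdeal.Fiber B) := by
  let K := p₀.ResidueField
  let eK := Algebra.TensorProduct.cancelBaseChange A (A ⧸ p₀) K K B
  have h' : ¬ _root_.IsReduced (K ⊗[A ⧸ p₀] ((A ⧸ p₀) ⊗[A] B)) := fun h' =>
    h (isReduced_of_injective eK.symm.toRingEquiv.toRingHom eK.symm.injective)
  obtain ⟨f, hf, hk⟩ := GenericSpecialise.exists_not_isReduced K h'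
  obtain ⟨f, rfl⟩ := Ideal.Quotient.mk_surjective f
  refine ⟨f, fun hfp => hf (Ideal.Quotient.eq_zero_iff_mem.2 hfp), fun p hp hred => ?_⟩
  let k := p.asIdeal.ResidueField
  letI : Algebra (A ⧸ p₀) k := (Ideal.Quotient.lift p₀ (algebraMap A k) fun a ha =>
    Ideal.algebraMap_residueField_eq_zero.2 (hle _ p.2 ha)).toAlgebra
  haveI : IsScalarTower A (A ⧸ p₀) k := IsScalarTower.of_algebraMap_eq fun _ => rfl
  let ek := Algebra.TensorProduct.cancelBaseChange A (A ⧸ p₀) k k B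
  exact hk k (fun h0 => hp (Ideal.algebraMap_residueField_eq_zero.1 h0))
    (isReduced_of_injective ek.toRingEquiv.toRingHom ek.injective)

omit [Algebra.FiniteType A B] in
theorem minimal_comap_equiv {C D : Type u} [CommRing C] [CommRing D] (e : C ≃+* D) {q : Ideal D}
    (hq : q ∈ minimalPrimes D) : q.comap e.toRingHom ∈ minimalPrimes C := by
  haveI := hq.1.1
  refine ⟨⟨Ideal.comap_isPrime _ _, bot_le⟩, fun q' hq' h => ?_⟩
  haveI := hq'.1
  have h2 := hq.2 ⟨Ideal.comap_isPrime e.symm.toRingHom q', bot_le⟩ (fun x hx => by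
    have h3 : e (e.symm x) ∈ q := h hx
    rwa [e.apply_symm_apply] at h3)
  intro x hx
  have := h2 hx
  simpa using this

include hle in
theorem exists_minimalPrimes_fiber (I : Ideal B)
    (h : ∀ q ∈ minimalPrimes (p₀.Fiber B),
      ¬ I ≤ q.comap (Algebra.TensorProduct.includeRight : B →ₐ[A] p₀.Fiber B)) :
    ∃ f ∉ p₀, ∀ p : PrimeSpectrum A, f ∉ p.asIdeal → ∀ q ∈ minimalPrimes (p.asIdeal.Fiber B),
      ¬ I ≤ q.comap (Algebra.TensorProduct.includeRight : B →ₐ[A] p.asIdeal.Fiber B) := by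
  let K := p₀.ResidueField
  let eK := Algebra.TensorProduct.cancelBaseChange A (A ⧸ p₀) K K B
  haveI : IsNoetherianRing (K ⊗[A ⧸ p₀] ((A ⧸ p₀) ⊗[A] B)) := Algebra.FiniteType.isNoetherianRing K _
  let j : B →ₐ[A] (A ⧸ p₀) ⊗[A] B := Algebra.TensorProduct.includeRight
  have h' : ∀ q ∈ minimalPrimes (K ⊗[A ⧸ p₀] ((A ⧸ p₀) ⊗[A] B)), ¬ I.map j ≤
      q.comap (Algebra.TensorProduct.includeRight : _ →ₐ[A ⧸ p₀] K ⊗[A ⧸ p₀] ((A ⧸ p₀) ⊗[A] B)) := fun q hq hle' => by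
    refine h _ (minimal_comap_equiv eK.symm.toRingEquiv hq) fun x hx => ?_
    have h1 : (1 : K) ⊗ₜ[A ⧸ p₀] ((1 : A ⧸ p₀) ⊗ₜ[A] x) ∈ q := hle' (Ideal.mem_map_of_mem _ hx)
    show eK.symm ((1 : K) ⊗ₜ[A] x) ∈ q
    rwa [Algebra.TensorProduct.cancelBaseChange_symm_tmul]
  obtain ⟨f, hf, hk⟩ := GenericSpecialise.exists_notMem_minimalPrimes K (I.map j) h'
  obtain ⟨f, rfl⟩ := Ideal.Quotient.mk_surjective f
  refine ⟨f, fun hfp => hf (Ideal.Quotient.eq_zero_iff_mem.2 hfp), fun p hp q hq hIq => ?_⟩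
  let k := p.asIdeal.ResidueField
  letI : Algebra (A ⧸ p₀) k := (Ideal.Quotient.lift p₀ (algebraMap A k) fun a ha =>
    Ideal.algebraMap_residueField_eq_zero.2 (hle _ p.2 ha)).toAlgebra
  haveI : IsScalarTower A (A ⧸ p₀) k := IsScalarTower.of_algebraMap_eq fun _ => rfl
  let ek := Algebra.TensorProduct.cancelBaseChange A (A ⧸ p₀) k k B
  refine hk k (fun h0 => hp (Ideal.algebraMap_residueField_eq_zero.1 h0)) _
    (minimal_comap_equiv ek.toRingEquiv hq) (Ideal.map_le_iff_le_comap.2 fun x hx => ?_)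
  show ek ((1 : k) ⊗ₜ[A ⧸ p₀] ((1 : A ⧸ p₀) ⊗ₜ[A] x)) ∈ q
  rw [Algebra.TensorProduct.cancelBaseChange_tmul, one_smul]
  exact hIq hx

theorem interior_zeroLocus_eq_empty {C : Type u} [CommRing C] (J : Ideal C)
    (h : ∀ q ∈ minimalPrimes C, ¬ J ≤ q) : interior (PrimeSpectrum.zeroLocus (J : Set C)) = ∅ := by
  rw [Set.eq_empty_iff_forall_notMem]
  intro x hx
  obtain ⟨_, ⟨s, rfl⟩, hxs, hs⟩ :=
    PrimeSpectrum.isTopologicalBasis_basic_opens.exists_subset_of_mem_open hx isOpen_interior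
  haveI := x.2
  obtain ⟨q, hq, hqx⟩ := Ideal.exists_minimalPrimes_le (I := (⊥ : Ideal C)) (J := x.asIdeal) bot_le
  exact h q hq (interior_subset (hs (a := ⟨q, hq.1.1⟩) fun hsq => hxs (hqx hsq)))

theorem not_le_of_interior {C : Type u} [CommRing C] [IsNoetherianRing C] (J : Ideal C)
    (h : interior (PrimeSpectrum.zeroLocus (J : Set C)) = ∅) (q : Ideal C) (hq : q ∈ minimalPrimes C) :
    ¬ J ≤ q := fun hJ => by
  classical
  obtain ⟨S, hS⟩ := IsNoetherian.noetherian J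
  choose v hv n hvn using fun z : S => FiniteImage.exists_mul_pow_eq_zero hq
    (hJ (hS ▸ Submodule.subset_span z.2 : (z : C) ∈ J))
  refine Set.eq_empty_iff_forall_notMem.1 h ⟨q, hq.1.1⟩ (interior_maximal (fun x hx => ?_)
    (PrimeSpectrum.basicOpen (∏ z, v z)).isOpen ?_)
  · show (J : Set C) ⊆ x.asIdeal
    rw [← hS]
    refine Submodule.span_le.2 fun z hz => x.2.mem_of_pow_mem (n ⟨z, hz⟩) ((x.2.mem_or_mem ?_).resolve_left
      fun hvz => hx (Ideal.mem_of_dvd _ (Finset.dvd_prod_of_mem v (Finset.mem_univ ⟨z, hz⟩)) hvz))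
    rw [hvn ⟨z, hz⟩]
    exact zero_mem _
  · intro hmem
    haveI := hq.1.1
    obtain ⟨z, -, hz⟩ := Ideal.IsPrime.prod_mem_iff.1 hmem
    exact hv z hz

variable {X Y : Scheme.{u}} (f : X ⟶ Y)

/-- The affine pieces of a fibre. -/
theorem exists_piece {U : Y.Opens} (hU : IsAffineOpen U) {W : X.Opens} (hW : IsAffineOpen W)
    (e : W ≤ f ⁻¹ᵁ U) (p : PrimeSpectrum Γ(Y, U)) :
    letI : Algebra Γ(Y, U) Γ(X, W) := (f.appLE U W e).hom.toAlgebra
    ∃ j : Spec (CommRingCat.of (p.asIdeal.Fiber Γ(X, W))) ⟶ f.fiber (hU.fromSpec p),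
      IsOpenImmersion j ∧
      (∀ Q, f.fiberι _ (j Q) = hW.fromSpec (PrimeSpectrum.comap (Algebra.TensorProduct.includeRight :
        Γ(X, W) →ₐ[Γ(Y, U)] p.asIdeal.Fiber Γ(X, W)).toRingHom Q)) ∧
      ∀ z, f.fiberι (hU.fromSpec p) z ∈ W → z ∈ Set.range j := by
  letI : Algebra Γ(Y, U) Γ(X, W) := (f.appLE U W e).hom.toAlgebra
  let φ := Spec.map (CommRingCat.ofHom (algebraMap Γ(Y, U) Γ(X, W)))
  let g₀ := Spec.map (CommRingCat.ofHom (algebraMap Γ(Y, U) p.asIdeal.ResidueField))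
  let i₂ : Spec (CommRingCat.of p.asIdeal.ResidueField) ⟶ Spec (Y.residueField (hU.fromSpec p)) :=
    Spec.map (Scheme.Spec.residueFieldIso Γ(Y, U) p).hom ≫ Spec.map (hU.fromSpec.residueFieldMap p)
  have h₁ : φ ≫ hU.fromSpec = hW.fromSpec ≫ f := hU.SpecMap_appLE_fromSpec f hW e
  have h₂ : g₀ ≫ hU.fromSpec = i₂ ≫ Y.fromSpecResidueField (hU.fromSpec p) := by
    simp only [i₂, Category.assoc, Scheme.Hom.SpecMap_residueFieldMap_fromSpecResidueField]
    rw [← Scheme.Spec.map_residueFieldIso_inv_eq_fromSpecResidueField]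
    simp only [g₀, ← Spec.map_comp_assoc, Category.assoc, Iso.inv_hom_id, Category.comp_id]
  let m := pullback.map φ g₀ f (Y.fromSpecResidueField (hU.fromSpec p)) hW.fromSpec i₂ hU.fromSpec h₁ h₂
  let s := (pullbackSpecIso Γ(Y, U) p.asIdeal.ResidueField Γ(X, W)).inv ≫ (pullbackSymmetry g₀ φ).hom
  have hsm : (s ≫ m) ≫ f.fiberι _ = Spec.map (CommRingCat.ofHom (Algebra.TensorProduct.includeRight :
      Γ(X, W) →ₐ[Γ(Y, U)] p.asIdeal.Fiber Γ(X, W)).toRingHom) ≫ hW.fromSpec := by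
    simp only [Scheme.Hom.fiberι, m, s, pullback.map, Category.assoc, pullback.lift_fst]
    rw [pullbackSymmetry_hom_comp_fst_assoc, pullbackSpecIso_inv_snd_assoc]
    rfl
  refine ⟨s ≫ m, inferInstance, fun Q => congr($hsm Q), fun z hz => ?_⟩
  obtain ⟨q, hq⟩ : f.fiberι _ z ∈ Set.range hW.fromSpec := by rw [hW.range_fromSpec]; exact hz
  have hqp : φ q = p := by
    refine hU.fromSpec.isOpenEmbedding.injective ?_
    have h3 := congr($h₁ q)
    rw [Scheme.Hom.comp_apply, Scheme.Hom.comp_apply, hq] at h3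
    refine h3.trans ?_
    exact Set.ext_iff.1 (f.range_fiberι (hU.fromSpec p)) _ |>.1 ⟨z, rfl⟩
  let Q := PrimeSpectrum.preimageHomeomorphFiber Γ(Y, U) Γ(X, W) p ⟨q, hqp⟩
  have hQ : PrimeSpectrum.comap (Algebra.TensorProduct.includeRight :
      Γ(X, W) →ₐ[Γ(Y, U)] p.asIdeal.Fiber Γ(X, W)).toRingHom Q = q :=
    congrArg Subtype.val ((PrimeSpectrum.preimageHomeomorphFiber Γ(Y, U) Γ(X, W) p).symm_apply_apply ⟨q, hqp⟩)
  refine ⟨Q, (f.fiberι _).isEmbedding.injective ?_⟩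
  exact (congr($hsm Q)).trans ((congrArg hW.fromSpec hQ).trans hq)

theorem exists_affine_cover [QuasiCompact f] {U : Y.Opens} (hU : IsAffineOpen U) :
    ∃ (ι : Type u) (_ : Finite ι) (W : ι → X.Opens), (∀ i, IsAffineOpen (W i)) ∧ (∀ i, W i ≤ f ⁻¹ᵁ U) ∧
      ∀ x, f x ∈ U → ∃ i, x ∈ W i := by
  have hc : IsCompact ((f ⁻¹ᵁ U : X.Opens) : Set X) :=
    QuasiCompact.isCompact_preimage (f := f) _ U.isOpen hU.isCompact
  choose W hW hxW hWU using fun x : (f ⁻¹ᵁ U : X.Opens) =>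
    exists_isAffineOpen_mem_and_subset (U := f ⁻¹ᵁ U) x.2
  obtain ⟨t, ht⟩ := hc.elim_finite_subcover (fun x : (f ⁻¹ᵁ U : X.Opens) => (W x : Set X))
    (fun x => (W x).isOpen) (fun x hx => Set.mem_iUnion.2 ⟨⟨x, hx⟩, hxW ⟨x, hx⟩⟩)
  refine ⟨t, inferInstance, fun i => W i, fun i => hW i, fun i => hWU i, fun x hx => ?_⟩
  obtain ⟨i, hi, hxi⟩ := Set.mem_iUnion₂.1 (ht hx)
  exact ⟨⟨i, hi⟩, hxi⟩

/-- Spreading out a property of affine pieces of the generic fibre. -/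
theorem exists_open [IrreducibleSpace Y] :
    ∃ (U : Y.Opens) (hU : IsAffineOpen U) (p₀ : PrimeSpectrum Γ(Y, U)),
      hU.fromSpec p₀ = genericPoint Y ∧ (∀ p : Ideal Γ(Y, U), p.IsPrime → p₀.asIdeal ≤ p) ∧
      ∀ s ∉ p₀.asIdeal, (Y.basicOpen s : Set Y).Nonempty ∧
        ∀ y ∈ Y.basicOpen s, ∃ p : PrimeSpectrum Γ(Y, U), s ∉ p.asIdeal ∧ hU.fromSpec p = y := by
  obtain ⟨U, hU, hηU, -⟩ := exists_isAffineOpen_mem_and_subset (U := ⊤) (x := genericPoint Y) trivial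
  obtain ⟨p₀, hp₀⟩ : genericPoint Y ∈ Set.range hU.fromSpec := by rw [hU.range_fromSpec]; exact hηU
  have hpre : ∀ (s : Γ(Y, U)) (p : PrimeSpectrum Γ(Y, U)), hU.fromSpec p ∈ Y.basicOpen s ↔ s ∉ p.asIdeal := by
    intro s p
    rw [← Scheme.Hom.mem_preimage, hU.fromSpec_preimage_basicOpen]
    rfl
  refine ⟨U, hU, p₀, hp₀, fun p hp => ?_, fun s hs => ⟨⟨_, (hpre s p₀).2 hs⟩, fun y hy => ?_⟩⟩
  · have h : hU.fromSpec p₀ ⤳ hU.fromSpec ⟨p, hp⟩ := hp₀ ▸ genericPoint_specializes _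
    exact (PrimeSpectrum.le_iff_specializes _ _).2 (hU.fromSpec.isOpenEmbedding.isInducing.specializes_iff.1 h)
  · obtain ⟨p, rfl⟩ : y ∈ Set.range hU.fromSpec := by rw [hU.range_fromSpec]; exact Y.basicOpen_le s hy
    exact ⟨p, (hpre s p).1 hy, rfl⟩

theorem finiteType [LocallyOfFiniteType f] {U : Y.Opens} (hU : IsAffineOpen U) {W : X.Opens}
    (hW : IsAffineOpen W) (e : W ≤ f ⁻¹ᵁ U) : (f.appLE U W e).hom.FiniteType :=
  HasRingHomProperty.appLE @LocallyOfFiniteType f ‹_› ⟨U, hU⟩ ⟨W, hW⟩ e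

theorem fibre_not_reduced [IrreducibleSpace Y] [LocallyOfFiniteType f] [QuasiCompact f]
    (h : ¬ IsReduced (f.fiber (genericPoint Y))) :
    ∃ V : Y.Opens, (V : Set Y).Nonempty ∧ ∀ y ∈ V, ¬ IsReduced (f.fiber y) := by
  obtain ⟨U, hU, p₀, hp₀, hle, hbas⟩ := exists_open (Y := Y)
  obtain ⟨ι, _, W, hW, e, hcov⟩ := exists_affine_cover f hU
  rw [← hp₀] at h
  letI := fun i => (f.appLE U (W i) (e i)).hom.toAlgebra
  haveI : ∀ i, Algebra.FiniteType Γ(Y, U) Γ(X, W i) := fun i => finiteType f hU (hW i) (e i)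
  obtain ⟨i, hi⟩ : ∃ i, ¬ _root_.IsReduced (p₀.asIdeal.Fiber Γ(X, W i)) := by
    by_contra! hall
    refine h ?_
    haveI : ∀ z, _root_.IsReduced ((f.fiber (hU.fromSpec p₀)).presheaf.stalk z) := fun z => by
      have hz : f.fiberι _ z ∈ f ⁻¹' {hU.fromSpec p₀} := by rw [← f.range_fiberι]; exact ⟨z, rfl⟩
      have hzU : f (f.fiberι _ z) ∈ U := by
        rw [show f (f.fiberι _ z) = hU.fromSpec p₀ from hz]
        exact hU.range_fromSpec.le ⟨p₀, rfl⟩
      obtain ⟨i, hi⟩ := hcov _ hzU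
      obtain ⟨j, hj, -, hjc⟩ := exists_piece f hU (hW i) (e i) p₀
      obtain ⟨w, rfl⟩ := hjc z hi
      haveI := hall i
      exact isReduced_of_injective (asIso (j.stalkMap w)).commRingCatIsoToRingEquiv.toRingHom
        (RingEquiv.injective _)
    exact isReduced_of_isReduced_stalk _
  obtain ⟨s, hs, hk⟩ := not_isReduced_fiber p₀.asIdeal hle Γ(X, W i) hi
  refine ⟨Y.basicOpen s, (hbas s hs).1, fun y hy hred => ?_⟩
  obtain ⟨p, hsp, rfl⟩ := (hbas s hs).2 y hy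
  obtain ⟨j, hj, -, -⟩ := exists_piece f hU (hW i) (e i) p
  exact hk p hsp ((affine_isReduced_iff _).1 (isReduced_of_isOpenImmersion j))

theorem fibre_nowhereDense [IrreducibleSpace Y] [LocallyOfFiniteType f] [QuasiCompact f]
    (Z : Set X) (hZ : IsClosed Z) (h : IsNowhereDense ((f.fiberι (genericPoint Y)) ⁻¹' Z)) :
    ∃ V : Y.Opens, (V : Set Y).Nonempty ∧ ∀ y ∈ V, IsNowhereDense ((f.fiberι y) ⁻¹' Z) := by
  classical
  obtain ⟨U, hU, p₀, hp₀, hle, hbas⟩ := exists_open (Y := Y)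
  obtain ⟨ι, _, W, hW, e, hcov⟩ := exists_affine_cover f hU
  haveI := Fintype.ofFinite ι
  rw [← hp₀] at h
  letI := fun i => (f.appLE U (W i) (e i)).hom.toAlgebra
  haveI : ∀ i, Algebra.FiniteType Γ(Y, U) Γ(X, W i) := fun i => finiteType f hU (hW i) (e i)
  choose I hI using fun i => (PrimeSpectrum.isClosed_iff_zeroLocus_ideal _).1
    (hZ.preimage (hW i).fromSpec.continuous)
  have key : ∀ (i : ι) (p : PrimeSpectrum Γ(Y, U)),
      ∃ j : Spec (CommRingCat.of (p.asIdeal.Fiber Γ(X, W i))) ⟶ f.fiber (hU.fromSpec p),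
        IsOpenImmersion j ∧ (∀ z, f.fiberι (hU.fromSpec p) z ∈ W i → z ∈ Set.range j) ∧
        j ⁻¹' (f.fiberι (hU.fromSpec p) ⁻¹' Z) = PrimeSpectrum.zeroLocus
          ((I i).map (Algebra.TensorProduct.includeRight :
            Γ(X, W i) →ₐ[Γ(Y, U)] p.asIdeal.Fiber Γ(X, W i)) : Set (p.asIdeal.Fiber Γ(X, W i))) := by
    intro i p
    obtain ⟨j, hj, hjι, hjc⟩ := exists_piece f hU (hW i) (e i) p
    refine ⟨j, hj, hjc, ?_⟩
    ext Q
    rw [Set.mem_preimage, Set.mem_preimage, PrimeSpectrum.mem_zeroLocus]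
    rw [hjι, ← Set.mem_preimage, hI i, PrimeSpectrum.mem_zeroLocus, SetLike.coe_subset_coe, SetLike.coe_subset_coe]
    exact Ideal.map_le_iff_le_comap.symm
  have hgen : ∀ i, ∃ s ∉ p₀.asIdeal, ∀ p : PrimeSpectrum Γ(Y, U), s ∉ p.asIdeal →
      ∀ q ∈ minimalPrimes (p.asIdeal.Fiber Γ(X, W i)),
      ¬ I i ≤ q.comap (Algebra.TensorProduct.includeRight : Γ(X, W i) →ₐ[Γ(Y, U)] p.asIdeal.Fiber Γ(X, W i)) := by
    intro i
    haveI : IsNoetherianRing (p₀.asIdeal.Fiber Γ(X, W i)) := Algebra.FiniteType.isNoetherianRing p₀.asIdeal.ResidueField _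
    obtain ⟨j, hj, -, hpre⟩ := key i p₀
    refine exists_minimalPrimes_fiber p₀.asIdeal hle Γ(X, W i) (I i) fun q hq hIq => ?_
    refine not_le_of_interior _ ?_ q hq (Ideal.map_le_iff_le_comap.2 hIq)
    rw [← hpre, ← j.isOpenEmbedding.isOpenMap.preimage_interior_eq_interior_preimage j.continuous,
      (hZ.preimage (f.fiberι _).continuous).isNowhereDense_iff.1 h, Set.preimage_empty]
  choose s hs hk using hgen
  have hprod : ∏ i, s i ∉ p₀.asIdeal := fun hmem => by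
    obtain ⟨i, -, hi⟩ := Ideal.IsPrime.prod_mem_iff.1 hmem
    exact hs i hi
  refine ⟨Y.basicOpen (∏ i, s i), (hbas _ hprod).1, fun y hy => ?_⟩
  obtain ⟨p, hsp, rfl⟩ := (hbas _ hprod).2 y hy
  rw [(hZ.preimage (f.fiberι _).continuous).isNowhereDense_iff, Set.eq_empty_iff_forall_notMem]
  intro z hz
  have hzf : f.fiberι _ z ∈ f ⁻¹' {hU.fromSpec p} := by rw [← f.range_fiberι]; exact ⟨z, rfl⟩
  have hzU : f (f.fiberι _ z) ∈ U := by
    rw [show f (f.fiberι _ z) = hU.fromSpec p from hzf]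
    exact hU.range_fromSpec.le ⟨p, rfl⟩
  obtain ⟨i, hi⟩ := hcov _ hzU
  obtain ⟨j, hj, hjc, hpre⟩ := key i p
  obtain ⟨w, rfl⟩ := hjc z hi
  have h1 := interior_zeroLocus_eq_empty
    ((I i).map (Algebra.TensorProduct.includeRight : Γ(X, W i) →ₐ[Γ(Y, U)] p.asIdeal.Fiber Γ(X, W i)))
    fun q hq hIq => hk i p (fun h' => hsp (Ideal.mem_of_dvd _ (Finset.dvd_prod_of_mem s (Finset.mem_univ i)) h'))
      q hq (Ideal.map_le_iff_le_comap.1 hIq)
  rw [← hpre, ← j.isOpenEmbedding.isOpenMap.preimage_interior_eq_interior_preimage j.continuous] at h1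
  exact Set.eq_empty_iff_forall_notMem.1 h1 w hz

end Groth.L06.GenericFibreOpen
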