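import Groth.Agent.L06.GenericFibreOpen
import Mathlib.AlgebraicGeometry.Morphisms.SchemeTheoreticallyDominant
import Mathlib.AlgebraicGeometry.Noetherian
import Mathlib.RingTheory.Ideal.AssociatedPrime.Finiteness

/-! Scheme-theoretic density spreads from the generic fibre to nearby fibres. -/

set_option autoImplicit false
set_option maxSynthPendingDepth 3
set_option linter.style.haveILetI false
set_option backward.isDefEq.respectTransparency.types false
set_option backward.isDefEq.respectTransparency false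

universe u

open CategoryTheory CategoryTheory.Limits AlgebraicGeometry TopologicalSpace TensorProduct Opposite

noncomputable section

namespace Groth.L06.GenericSchDense

open GenericFibreOpen

/-- A non-zero-divisor in an ideal with zero annihilator. -/
theorem exists_mem_notMem_associated {B F : Type u} [CommRing B] [CommRing F] [IsNoetherianRing F] (ι : B →+* F)
    (I : Ideal B) (h : ∀ s : F, (∀ b ∈ I, ι b * s = 0) → s = 0) :
    ∃ b ∈ I, ∀ s : F, ι b * s = 0 → s = 0 := by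
  classical
  have hfin := associatedPrimes.finite F F
  by_contra! hcon
  have hsub : (I : Set B) ⊆ ⋃ q ∈ (hfin.toFinset : Set (Ideal F)), (q.comap ι : Set B) := fun b hb => by
    obtain ⟨s, hs, hs0⟩ := hcon b hb
    have hz : ι b ∈ ⋃ p ∈ associatedPrimes F F, (p : Set F) := by
      rw [biUnion_associatedPrimes_eq_zero_divisors]
      exact ⟨s, hs0, hs⟩
    obtain ⟨q, hq, hbq⟩ := Set.mem_iUnion₂.1 hz
    exact Set.mem_iUnion₂.2 ⟨q, hfin.mem_toFinset.2 hq, hbq⟩
  obtain ⟨q, hq, hle⟩ := (Ideal.subset_union_prime ⊥ ⊥ (fun q hq _ _ => by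
    haveI : q.IsPrime := (AssociatedPrimes.mem_iff.1 (hfin.mem_toFinset.1 hq)).isPrime
    infer_instance)).1 hsub
  obtain ⟨-, x, hx⟩ := isAssociatedPrime_iff.1 (AssociatedPrimes.mem_iff.1 (hfin.mem_toFinset.1 hq))
  have hne : x ≠ 0 := fun h0 => by
    haveI : q.IsPrime := (AssociatedPrimes.mem_iff.1 (hfin.mem_toFinset.1 hq)).isPrime
    refine Ideal.IsPrime.ne_top ‹_› ((Ideal.eq_top_iff_one q).2 ?_)
    rw [hx, h0]
    exact Submodule.mem_colon_singleton.2 (by simp)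
  refine hne (h x fun b hb => ?_)
  have := hle hb
  rw [Ideal.mem_comap, hx] at this
  simpa using Submodule.mem_colon_singleton.1 this

variable {A : Type u} [CommRing A] (p₀ : Ideal A) [p₀.IsPrime] (hle : ∀ p : Ideal A, p.IsPrime → p₀ ≤ p)
  (B : Type u) [CommRing B] [Algebra A B] [Algebra.FiniteType A B]

include hle in
theorem nzd_fiber (b : B)
    (h : ∀ s : p₀.Fiber B, (Algebra.TensorProduct.includeRight : B →ₐ[A] p₀.Fiber B) b * s = 0 → s = 0) :
    ∃ f ∉ p₀, ∀ p : PrimeSpectrum A, f ∉ p.asIdeal → ∀ s : p.asIdeal.Fiber B,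
      (Algebra.TensorProduct.includeRight : B →ₐ[A] p.asIdeal.Fiber B) b * s = 0 → s = 0 := by
  let K := p₀.ResidueField
  let eK := Algebra.TensorProduct.cancelBaseChange A (A ⧸ p₀) K K B
  let B' := (A ⧸ p₀) ⊗[A] B
  let b' : B' := (1 : A ⧸ p₀) ⊗ₜ b
  let μ : B' →ₗ[B'] B' := LinearMap.lsmul B' B' b'
  have hmul : ∀ (k : Type u) [CommRing k] [Algebra (A ⧸ p₀) k] (z : k ⊗[A ⧸ p₀] B'),
      (μ.restrictScalars (A ⧸ p₀)).baseChange k z = ((1 : k) ⊗ₜ b') * z := by
    intro k _ _ z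
    induction z using TensorProduct.induction_on with
    | zero => simp
    | add x y hx hy => rw [map_add, hx, hy, mul_add]
    | tmul c m => simp [μ, Algebra.TensorProduct.tmul_mul_tmul]
  have hK : Function.Injective ((μ.restrictScalars (A ⧸ p₀)).baseChange K) := by
    rw [injective_iff_map_eq_zero]
    intro z hz
    rw [hmul] at hz
    have h1 := congrArg eK hz
    rw [map_mul, map_zero, Algebra.TensorProduct.cancelBaseChange_tmul, one_smul] at h1
    exact (map_eq_zero_iff eK eK.injective).1 (h _ h1)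
  haveI : FaithfulSMul (A ⧸ p₀) K :=
    (faithfulSMul_iff_algebraMap_injective _ _).2 (IsFractionRing.injective (A ⧸ p₀) K)
  obtain ⟨f, hf, hk⟩ := GenericSpecialise.exists_baseChange_injective μ K hK
  obtain ⟨f, rfl⟩ := Ideal.Quotient.mk_surjective f
  refine ⟨f, fun hfp => hf (Ideal.Quotient.eq_zero_iff_mem.2 hfp), fun p hp s hs => ?_⟩
  let k := p.asIdeal.ResidueField
  letI : Algebra (A ⧸ p₀) k := (Ideal.Quotient.lift p₀ (algebraMap A k) fun a ha =>
    Ideal.algebraMap_residueField_eq_zero.2 (hle _ p.2 ha)).toAlgebra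
  haveI : IsScalarTower A (A ⧸ p₀) k := IsScalarTower.of_algebraMap_eq fun _ => rfl
  let ek := Algebra.TensorProduct.cancelBaseChange A (A ⧸ p₀) k k B
  have h2 : (μ.restrictScalars (A ⧸ p₀)).baseChange k (ek.symm s) = 0 := by
    rw [hmul]
    apply ek.injective
    rw [map_mul, map_zero, Algebra.TensorProduct.cancelBaseChange_tmul, one_smul, ek.apply_symm_apply]
    exact hs
  have h3 : ek.symm s = 0 :=
    hk k (Ne.isUnit fun h0 => hp (Ideal.algebraMap_residueField_eq_zero.1 h0)) (h2.trans (map_zero _).symm)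
  exact (map_eq_zero_iff _ ek.symm.injective).1 h3

variable {F : Type u} [CommRing F] {P : Scheme.{u}} (j : Spec (CommRingCat.of F) ⟶ P) [IsOpenImmersion j]

/-- The element of the sections over an affine piece given by a ring element. -/
def lift : F ≃+* Γ(P, j ''ᵁ ⊤) :=
  ((j.appIso ⊤) ≪≫ Scheme.ΓSpecIso (CommRingCat.of F)).commRingCatIsoToRingEquiv.symm

theorem basicOpen_lift (h : F) : P.basicOpen (lift j h) = j ''ᵁ PrimeSpectrum.basicOpen h := by
  refine Eq.trans ?_ (congrArg (fun V => j ''ᵁ V) (AlgebraicGeometry.basicOpen_eq_of_affine (R := CommRingCat.of F) h))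
  rw [Scheme.image_basicOpen]
  rfl

theorem app_eq_zero_iff_of_le (O : P.Opens) {T : P.Opens} (s : Γ(P, T)) (hs : O.ι.app T s = 0) {V : P.Opens}
    (hV : V ≤ T) (hVO : V ≤ O) : P.presheaf.map (homOfLE hV).op s = 0 := by
  have hle : V ≤ O.ι ''ᵁ O.ι ⁻¹ᵁ T := fun z hz => ⟨⟨z, hVO hz⟩, hV hz, rfl⟩
  rw [Scheme.Opens.ι_app] at hs
  have h2 := congrArg (P.presheaf.map (homOfLE hle).op) hs
  rw [map_zero] at h2
  exact (ConcreteCategory.congr_hom (P.presheaf.map_comp
    (homOfLE (x := O.ι ''ᵁ O.ι ⁻¹ᵁ T) (Set.image_preimage_subset _ _)).op (homOfLE hle).op) s).trans h2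

theorem app_injective_of_nzd (O : P.Opens) (h : F) (hO : j ''ᵁ PrimeSpectrum.basicOpen h ≤ O)
    (hnzd : ∀ s : F, h * s = 0 → s = 0) : Function.Injective (O.ι.app (j ''ᵁ ⊤)) := by
  rw [injective_iff_map_eq_zero]
  intro s hs
  have hT : IsAffineOpen (j ''ᵁ ⊤) := (isAffineOpen_top _).image_of_isOpenImmersion j
  haveI := hT.isLocalization_basicOpen (lift j h)
  have h1 : algebraMap Γ(P, j ''ᵁ ⊤) Γ(P, P.basicOpen (lift j h)) s = 0 :=
    app_eq_zero_iff_of_le O s hs (P.basicOpen_le _) ((basicOpen_lift j h).le.trans hO)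
  obtain ⟨⟨_, n, rfl⟩, hn⟩ := (IsLocalization.map_eq_zero_iff (Submonoid.powers (lift j h))
    Γ(P, P.basicOpen (lift j h)) s).1 h1
  obtain ⟨t, rfl⟩ := (lift j).surjective s
  replace hn : h ^ n * t = 0 := (lift j).injective (by simpa using hn)
  rw [map_eq_zero_iff _ (lift j).injective]
  clear hs h1
  induction n with
  | zero => simpa using hn
  | succ n ih => exact ih (hnzd _ (by rw [← mul_assoc, ← pow_succ']; exact hn))

theorem eq_zero_of_injective (O : P.Opens) (hinj : Function.Injective (O.ι.app (j ''ᵁ ⊤))) (J : Set F)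
    (hJ : ∀ Q, j Q ∈ O → ∃ h ∈ J, h ∉ Q.asIdeal) (s : F) (hs : ∀ h ∈ J, h * s = 0) : s = 0 := by
  rw [← map_eq_zero_iff _ (lift j).injective]
  apply hinj
  rw [map_zero, Scheme.Opens.ι_app]
  refine TopCat.Sheaf.eq_of_locally_eq' P.sheaf
    (fun h : J => P.basicOpen (lift j h.1) ⊓ (O.ι ''ᵁ O.ι ⁻¹ᵁ (j ''ᵁ ⊤))) _ (fun h => homOfLE inf_le_right) ?_ _ _
    fun h => ?_
  · rintro z ⟨⟨z, hzO⟩, ⟨Q, -, hQ⟩, rfl⟩
    have hjQ : j Q = z := hQ
    obtain ⟨h, hh, hhQ⟩ := hJ Q (hjQ ▸ hzO)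
    refine Opens.mem_iSup.2 ⟨⟨h, hh⟩, ?_, ⟨⟨z, hzO⟩, ⟨Q, trivial, hQ⟩, rfl⟩⟩
    rw [basicOpen_lift]
    exact ⟨Q, hhQ, hQ⟩
  · let V := P.basicOpen (lift j h.1) ⊓ (O.ι ''ᵁ O.ι ⁻¹ᵁ (j ''ᵁ ⊤))
    have hu : IsUnit (P.presheaf.map (homOfLE (inf_le_left.trans (P.basicOpen_le _) : V ≤ j ''ᵁ ⊤)).op (lift j h.1)) := by
      have := (P.toRingedSpace.isUnit_res_basicOpen (lift j h.1)).map
        (P.presheaf.map (homOfLE (inf_le_left : V ≤ P.basicOpen (lift j h.1))).op).hom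
      exact (ConcreteCategory.congr_hom (P.presheaf.map_comp (homOfLE (P.basicOpen_le (lift j h.1))).op
        (homOfLE (inf_le_left : V ≤ P.basicOpen (lift j h.1))).op) (lift j h.1)).symm ▸ this
    have h0 : P.presheaf.map (homOfLE (inf_le_left.trans (P.basicOpen_le _) : V ≤ j ''ᵁ ⊤)).op (lift j s) = 0 := by
      refine hu.mul_right_eq_zero.1 ?_
      rw [← map_mul, ← map_mul, hs _ h.2, map_zero, map_zero]
    show P.presheaf.map _ (P.presheaf.map _ (lift j s)) = P.presheaf.map _ 0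
    rw [map_zero]
    exact (ConcreteCategory.congr_hom (P.presheaf.map_comp _ _) (lift j s)).symm.trans h0

variable {X Y : Scheme.{u}} (f : X ⟶ Y)

theorem main [IrreducibleSpace Y] [LocallyOfFiniteType f] [QuasiCompact f] (U : X.Opens)
    (h : IsSchemeTheoreticallyDominant (f.fiberι (genericPoint Y) ⁻¹ᵁ U).ι) :
    ∃ V : Y.Opens, (V : Set Y).Nonempty ∧ ∀ y ∈ V, IsSchemeTheoreticallyDominant (f.fiberι y ⁻¹ᵁ U).ι := by
  classical
  obtain ⟨U₀, hU, p₀, hp₀, hle, hbas⟩ := exists_open (Y := Y)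
  obtain ⟨ι, _, W, hW, e, hcov⟩ := exists_affine_cover f hU
  haveI := Fintype.ofFinite ι
  rw [← hp₀] at h
  letI := fun i => (f.appLE U₀ (W i) (e i)).hom.toAlgebra
  haveI : ∀ i, Algebra.FiniteType Γ(Y, U₀) Γ(X, W i) := fun i => finiteType f hU (hW i) (e i)
  haveI : ∀ y, LocallyOfFiniteType (f.fiberToSpecResidueField y) := fun y =>
    MorphismProperty.pullback_snd (P := (@LocallyOfFiniteType : MorphismProperty Scheme.{u})) _ _ ‹_›
  haveI : ∀ y, IsLocallyNoetherian (f.fiber y) := fun y =>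
    LocallyOfFiniteType.isLocallyNoetherian (f.fiberToSpecResidueField y)
  choose I hI using fun i => (PrimeSpectrum.isClosed_iff_zeroLocus_ideal _).1
    ((U.isOpen.isClosed_compl).preimage (hW i).fromSpec.continuous)
  have key : ∀ (i : ι) (p : PrimeSpectrum Γ(Y, U₀)),
      ∃ j : Spec (CommRingCat.of (p.asIdeal.Fiber Γ(X, W i))) ⟶ f.fiber (hU.fromSpec p),
        IsOpenImmersion j ∧ (∀ z, f.fiberι (hU.fromSpec p) z ∈ W i → z ∈ Set.range j) ∧
        ∀ Q, j Q ∈ f.fiberι (hU.fromSpec p) ⁻¹ᵁ U ↔ ∃ b ∈ I i, (Algebra.TensorProduct.includeRight :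
          Γ(X, W i) →ₐ[Γ(Y, U₀)] p.asIdeal.Fiber Γ(X, W i)) b ∉ Q.asIdeal := by
    intro i p
    obtain ⟨j, hj, hjι, hjc⟩ := exists_piece f hU (hW i) (e i) p
    refine ⟨j, hj, hjc, fun Q => ?_⟩
    show f.fiberι _ (j Q) ∈ U ↔ _
    rw [hjι]
    have h1 := Set.ext_iff.1 (hI i) (PrimeSpectrum.comap (Algebra.TensorProduct.includeRight :
          Γ(X, W i) →ₐ[Γ(Y, U₀)] p.asIdeal.Fiber Γ(X, W i)).toRingHom Q)
    rw [PrimeSpectrum.mem_zeroLocus] at h1
    constructor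
    · intro hmem
      by_contra! hcon
      exact h1.2 (fun b hb => hcon b hb) hmem
    · rintro ⟨b, hb, hbQ⟩
      by_contra hmem
      exact hbQ (h1.1 hmem hb)
  have hgen : ∀ i, ∃ b ∈ I i, ∃ s ∉ p₀.asIdeal, ∀ p : PrimeSpectrum Γ(Y, U₀), s ∉ p.asIdeal →
      ∀ t : p.asIdeal.Fiber Γ(X, W i), (Algebra.TensorProduct.includeRight :
        Γ(X, W i) →ₐ[Γ(Y, U₀)] p.asIdeal.Fiber Γ(X, W i)) b * t = 0 → t = 0 := by
    intro i
    haveI : IsNoetherianRing (p₀.asIdeal.Fiber Γ(X, W i)) :=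
      Algebra.FiniteType.isNoetherianRing p₀.asIdeal.ResidueField _
    obtain ⟨j, hj, -, hpre⟩ := key i p₀
    haveI := h
    let inc : Γ(X, W i) →ₐ[Γ(Y, U₀)] p₀.asIdeal.Fiber Γ(X, W i) := Algebra.TensorProduct.includeRight
    obtain ⟨b, hb, hbn⟩ := exists_mem_notMem_associated inc.toRingHom (I i) fun s hs =>
      eq_zero_of_injective j (f.fiberι (hU.fromSpec p₀) ⁻¹ᵁ U) (Scheme.Hom.app_injective _ _) (inc '' I i)
        (fun Q hQ => by
          obtain ⟨b, hb, hbQ⟩ := (hpre Q).1 hQ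
          exact ⟨_, ⟨b, hb, rfl⟩, hbQ⟩) s (by rintro _ ⟨b, hb, rfl⟩; exact hs b hb)
    exact ⟨b, hb, nzd_fiber p₀.asIdeal hle Γ(X, W i) b hbn⟩
  choose b hb s hs hk using hgen
  have hprod : ∏ i, s i ∉ p₀.asIdeal := fun hmem => by
    obtain ⟨i, -, hi⟩ := Ideal.IsPrime.prod_mem_iff.1 hmem
    exact hs i hi
  refine ⟨Y.basicOpen (∏ i, s i), (hbas _ hprod).1, fun y hy => ?_⟩
  obtain ⟨p, hsp, rfl⟩ := (hbas _ hprod).2 y hy
  choose j hj hjc hpre using fun i => key i p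
  haveI := hj
  constructor
  refine Scheme.IdealSheafData.ext_of_iSup_eq_top
    (fun i => ⟨j i ''ᵁ ⊤, (isAffineOpen_top _).image_of_isOpenImmersion (j i)⟩) (eq_top_iff.2 fun z _ => ?_) fun i => ?_
  · have hzU : f (f.fiberι _ z) ∈ U₀ := by
      have hzf : f.fiberι _ z ∈ f ⁻¹' {hU.fromSpec p} := by rw [← f.range_fiberι]; exact ⟨z, rfl⟩
      rw [show f (f.fiberι _ z) = hU.fromSpec p from hzf]
      exact hU.range_fromSpec.le ⟨p, rfl⟩
    obtain ⟨i, hi⟩ := hcov _ hzU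
    obtain ⟨w, rfl⟩ := hjc i z hi
    exact Opens.mem_iSup.2 ⟨i, w, trivial, rfl⟩
  · rw [Scheme.Hom.ker_apply]
    refine ((RingHom.injective_iff_ker_eq_bot _).1 (app_injective_of_nzd (j i) _
      ((Algebra.TensorProduct.includeRight : Γ(X, W i) →ₐ[Γ(Y, U₀)] p.asIdeal.Fiber Γ(X, W i)) (b i)) ?_
      (hk i p fun h' => hsp (Ideal.mem_of_dvd _ (Finset.dvd_prod_of_mem s (Finset.mem_univ i)) h')))).trans ?_
    · rintro _ ⟨Q, hQ, rfl⟩
      exact (hpre i Q).2 ⟨b i, hb i, hQ⟩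
    · simp

end Groth.L06.GenericSchDense
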