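import Groth.Agent.L20.GenericFreeness
import Mathlib.RingTheory.Ideal.MinimalPrime.Noetherian
import Mathlib.RingTheory.Ideal.MinimalPrime.Localization
import Mathlib.RingTheory.Flat.Stability
import Mathlib.RingTheory.Flat.Localization

/-! Over a nonempty open of a domain, properties of the generic fibre pass to the special fibres:
injectivity, non-reducedness, nowhere density. -/

set_option autoImplicit false
set_option maxSynthPendingDepth 3
set_option linter.style.haveILetI false

universe u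

open TensorProduct

noncomputable section

namespace Groth.L06.GenericSpecialise

variable {A : Type u} [CommRing A]

/-- An algebra map out of `A[1/f]` to an `A`-algebra in which `f` is invertible. -/
def awayHom (f : A) {k : Type u} [CommRing k] [Algebra A k] (hu : IsUnit (algebraMap A k f)) :
    Localization.Away f →ₐ[A] k :=
  { IsLocalization.Away.lift f (g := algebraMap A k) hu with
    commutes' := fun r => IsLocalization.Away.lift_eq f hu r }

/-- A linear map with a retraction after inverting `f` stays injective on every algebra where `f` is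
invertible. -/
theorem baseChange_injective_of_retraction (f : A) {N P : Type u} [AddCommGroup N] [Module A N]
    [AddCommGroup P] [Module A P] (i : N →ₗ[A] P)
    (r : Localization.Away f ⊗[A] P →ₗ[Localization.Away f] Localization.Away f ⊗[A] N)
    (hr : ∀ n : N, r (1 ⊗ₜ i n) = 1 ⊗ₜ n) {k : Type u} [CommRing k] [Algebra A k]
    (hu : IsUnit (algebraMap A k f)) : Function.Injective (i.baseChange k) := by
  let ψ : P →ₗ[A] k ⊗[A] N := ((awayHom f hu).toLinearMap.rTensor N) ∘ₗ (r.restrictScalars A) ∘ₗ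
    (TensorProduct.mk A (Localization.Away f) P 1)
  let Ψ : k ⊗[A] P →ₗ[k] k ⊗[A] N := LinearMap.liftBaseChange k ψ
  have hψ : Ψ ∘ₗ i.baseChange k = LinearMap.id := by
    ext n
    simp [Ψ, ψ, hr, awayHom]
  exact Function.LeftInverse.injective (g := Ψ) fun x => LinearMap.congr_fun hψ x

/-- Elements of a free module over `A[1/f]` are detected in any algebra receiving it injectively,
and a nonzero free module stays nonzero at every point. -/
theorem exists_functional (f : A) {N : Type u} [AddCommGroup N] [Module A N]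
    [Module.Free (Localization.Away f) (Localization.Away f ⊗[A] N)]
    (z : Localization.Away f ⊗[A] N) (hz : z ≠ 0) :
    ∃ c : Localization.Away f, c ≠ 0 ∧ ∀ (k : Type u) [CommRing k] [Algebra A k]
      (hu : IsUnit (algebraMap A k f)), ∃ χ : k ⊗[A] N →ₗ[k] k,
        χ ((awayHom f hu).toLinearMap.rTensor N z) = awayHom f hu c := by
  let b := Module.Free.chooseBasis (Localization.Away f) (Localization.Away f ⊗[A] N)
  obtain ⟨i, hi⟩ : ∃ i, b.repr z i ≠ 0 := by
    by_contra! h
    exact hz (b.repr.injective (Finsupp.ext fun i => by simpa using h i))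
  refine ⟨b.repr z i, hi, fun k _ _ hu => ?_⟩
  let co : Localization.Away f ⊗[A] N →ₗ[Localization.Away f] Localization.Away f :=
    (Finsupp.lapply i) ∘ₗ b.repr.toLinearMap
  let χ : k ⊗[A] N →ₗ[k] k := LinearMap.liftBaseChange k
    ((awayHom f hu).toLinearMap ∘ₗ (co.restrictScalars A) ∘ₗ (TensorProduct.mk A (Localization.Away f) N 1))
  refine ⟨χ, ?_⟩
  show _ = awayHom f hu (co z)
  clear hz hi
  induction z using TensorProduct.induction_on with
  | zero => simp
  | add x y hx hy => rw [map_add, map_add, hx, hy, map_add, map_add]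
  | tmul a n =>
    have e : a ⊗ₜ[A] n = a • ((1 : Localization.Away f) ⊗ₜ[A] n) := by simp [TensorProduct.smul_tmul']
    conv_rhs => rw [e, map_smul, smul_eq_mul, map_mul]
    simp [χ]

variable [IsDomain A]

theorem eq_zero_of_free (f : A) {N : Type u} [AddCommGroup N] [Module A N]
    [Module.Free (Localization.Away f) (Localization.Away f ⊗[A] N)] (K : Type u) [Field K] [Algebra A K]
    [FaithfulSMul A K] (hu : IsUnit (algebraMap A K f))
    (z : Localization.Away f ⊗[A] N) (hz : (awayHom f hu).toLinearMap.rTensor N z = 0) : z = 0 := by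
  by_contra hne
  obtain ⟨c, hc, h⟩ := exists_functional f z hne
  obtain ⟨χ, hχ⟩ := h K hu
  rw [hz, map_zero] at hχ
  apply hc
  obtain ⟨⟨a, ⟨_, n, rfl⟩⟩, hn⟩ := IsLocalization.surj (Submonoid.powers f) c
  have h1 : algebraMap A K a = 0 := by
    have := congrArg (awayHom f hu) hn
    rw [map_mul, ← hχ, zero_mul, AlgHom.commutes] at this
    exact this.symm
  rw [(FaithfulSMul.algebraMap_injective A K) (h1.trans (map_zero _).symm), map_zero] at hn
  exact (IsLocalization.map_units (Localization.Away f) (⟨f ^ n, n, rfl⟩ : Submonoid.powers f)).mul_left_eq_zero.1 hn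

theorem ne_zero_of_ne_zero (f : A) {g : A} (hg : algebraMap A (Localization.Away f) g ≠ 0) : g ≠ 0 :=
  fun h => hg (by rw [h, map_zero])

variable {B : Type u} [CommRing B] [Algebra A B] [Algebra.FiniteType A B]

theorem free_mul {M : Type u} [AddCommGroup M] [Module A M] (f g : A)
    [Module.Free (Localization.Away f) (Localization.Away f ⊗[A] M)] :
    Module.Free (Localization.Away (f * g)) (Localization.Away (f * g) ⊗[A] M) := by
  refine Groth.L20.GF.free_of_isUnit (f := f) _ ?_ M
  have hu : IsUnit (algebraMap A (Localization.Away (f * g)) (f * g)) :=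
    IsLocalization.Away.algebraMap_isUnit _
  rw [map_mul, IsUnit.mul_iff] at hu
  exact hu.1

/-- If a map of finite modules over a finite type algebra is injective on the generic fibre, it is
injective on all fibres over a nonempty open. -/
theorem exists_baseChange_injective {N P : Type u} [AddCommGroup N] [Module B N] [Module A N]
    [IsScalarTower A B N] [Module.Finite B N] [AddCommGroup P] [Module B P] [Module A P]
    [IsScalarTower A B P] [Module.Finite B P] (i : N →ₗ[B] P)
    (K : Type u) [Field K] [Algebra A K] [FaithfulSMul A K]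
    (hi : Function.Injective ((i.restrictScalars A).baseChange K)) :
    ∃ f : A, f ≠ 0 ∧ ∀ (k : Type u) [CommRing k] [Algebra A k], IsUnit (algebraMap A k f) →
      Function.Injective ((i.restrictScalars A).baseChange k) := by
  obtain ⟨f₁, hf₁, hfr₁, -⟩ := Groth.L20.GF.exists_free_and_nearlyFP (R := A) (S := B) N
  obtain ⟨f₂, hf₂, hfr₂, -⟩ := Groth.L20.GF.exists_free_and_nearlyFP (R := A) (S := B) (P ⧸ LinearMap.range i)
  refine ⟨f₁ * f₂, mul_ne_zero hf₁ hf₂, fun k _ _ hu => ?_⟩
  haveI := free_mul (M := N) f₁ f₂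
  haveI : Module.Free (Localization.Away (f₁ * f₂)) (Localization.Away (f₁ * f₂) ⊗[A] (P ⧸ LinearMap.range i)) := by
    rw [mul_comm f₁ f₂]
    exact free_mul f₂ f₁
  let F := Localization.Away (f₁ * f₂)
  let i' := i.restrictScalars A
  let iF := i'.baseChange F
  let q : P →ₗ[A] P ⧸ LinearMap.range i := (LinearMap.range i).mkQ.restrictScalars A
  let qF := q.baseChange F
  have hq : Function.Surjective qF := LinearMap.lTensor_surjective F (Submodule.mkQ_surjective _)
  have hex : Function.Exact iF qF :=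
    lTensor_exact F (f := i') (g := q) (LinearMap.exact_map_mkQ_range i) (Submodule.mkQ_surjective _)
  have huK : IsUnit (algebraMap A K (f₁ * f₂)) :=
    (map_ne_zero_iff _ (FaithfulSMul.algebraMap_injective A K)).2 (mul_ne_zero hf₁ hf₂) |>.isUnit
  have hiF : Function.Injective iF := by
    rw [injective_iff_map_eq_zero]
    intro z hz
    refine eq_zero_of_free (f₁ * f₂) K huK z (hi ?_)
    rw [map_zero]
    have : ∀ z : F ⊗[A] N, (i'.baseChange K) ((awayHom (f₁ * f₂) huK).toLinearMap.rTensor N z) =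
        (awayHom (f₁ * f₂) huK).toLinearMap.rTensor P (iF z) := fun z => by
      induction z using TensorProduct.induction_on with
      | zero => simp
      | add x y hx hy => simp [map_add, hx, hy]
      | tmul a n => simp [iF, i']
    rw [this, hz, map_zero]
  haveI : Module.Projective F (F ⊗[A] (P ⧸ LinearMap.range i)) := Module.Projective.of_free
  obtain ⟨s, hs⟩ := Module.projective_lifting_property qF LinearMap.id hq
  have hmem : ∀ x, (LinearMap.id - s ∘ₗ qF : F ⊗[A] P →ₗ[F] F ⊗[A] P) x ∈ LinearMap.range iF := fun x => by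
    rw [← LinearMap.exact_iff.1 hex, LinearMap.mem_ker]
    simp [← LinearMap.comp_apply qF s, hs]
  let r : F ⊗[A] P →ₗ[F] F ⊗[A] N :=
    (LinearEquiv.ofInjective iF hiF).symm.toLinearMap ∘ₗ (LinearMap.id - s ∘ₗ qF).codRestrict _ hmem
  refine baseChange_injective_of_retraction (f₁ * f₂) i' r (fun n => hiF ?_) hu
  have h0 : qF (iF (1 ⊗ₜ n)) = 0 := hex.apply_apply_eq_zero _
  have e1 : ∀ y, iF (r y) = y - s (qF y) := fun y => by
    show iF ((LinearEquiv.ofInjective iF hiF).symm ((LinearMap.id - s ∘ₗ qF).codRestrict _ hmem y)) = _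
    rw [← LinearEquiv.ofInjective_apply (h := hiF), LinearEquiv.apply_symm_apply]
    rfl
  rw [e1]
  simp only [iF, LinearMap.baseChange_tmul] at h0
  simp [iF, h0]

variable (K : Type u) [Field K] [Algebra A K] [IsFractionRing A K]

theorem exists_smul_eq {M : Type u} [AddCommGroup M] [Module A M] (z : K ⊗[A] M) :
    ∃ (a : A) (m : M), a ≠ 0 ∧ a • z = 1 ⊗ₜ m := by
  obtain ⟨⟨m, a⟩, h⟩ := IsLocalizedModule.surj (nonZeroDivisors A) (TensorProduct.mk A K M 1) z
  exact ⟨a, m, nonZeroDivisors.ne_zero a.2, h⟩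

theorem exists_not_isReduced (h : ¬ IsReduced (K ⊗[A] B)) :
    ∃ f : A, f ≠ 0 ∧ ∀ (k : Type u) [Field k] [Algebra A k], algebraMap A k f ≠ 0 → ¬ IsReduced (k ⊗[A] B) := by
  haveI : FaithfulSMul A K := (faithfulSMul_iff_algebraMap_injective A K).2 (IsFractionRing.injective A K)
  obtain ⟨z, hzn, hz⟩ : ∃ z : K ⊗[A] B, IsNilpotent z ∧ z ≠ 0 := by
    by_contra! h'
    exact h ⟨fun z hz => h' z hz⟩
  obtain ⟨a, b, ha, hb⟩ := exists_smul_eq K z
  obtain ⟨n, hn⟩ := hzn
  have hbn : (1 : K) ⊗ₜ[A] b ^ n = 0 := by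
    have := congrArg (· ^ n) hb
    simpa [smul_pow, hn] using this.symm
  obtain ⟨⟨d, hd⟩, hd'⟩ := (IsLocalizedModule.eq_iff_exists (nonZeroDivisors A) (TensorProduct.mk A K B 1)
    (x₁ := b ^ n) (x₂ := 0)).1 (by simpa using hbn)
  replace hd' : d • b ^ n = 0 := by simpa using hd'
  let b' : B := d • b
  have hb' : IsNilpotent b' := ⟨n + 1, by
    rw [smul_pow, pow_succ d n, pow_succ b n, mul_smul, ← smul_mul_assoc d, hd', zero_mul, smul_zero]⟩
  have hne : (1 : K) ⊗ₜ[A] b' ≠ 0 := fun h0 => by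
    rw [TensorProduct.tmul_smul, ← hb, smul_smul, ← algebraMap_smul K (d * a) z] at h0
    exact hz (((map_ne_zero_iff _ (IsFractionRing.injective A K)).2
      (mul_ne_zero (nonZeroDivisors.ne_zero hd) ha)).isUnit.smul_eq_zero.1 h0)
  let N : Submodule B B := Submodule.span B {b'}
  have hbN : b' ∈ N := Submodule.subset_span rfl
  haveI : Module.Finite B N := Module.Finite.iff_fg.2 (Submodule.fg_span (Set.finite_singleton b'))
  haveI : Module.Flat A K := IsLocalization.flat K (nonZeroDivisors A)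
  obtain ⟨f₁, hf₁, hinj⟩ := exists_baseChange_injective N.subtype K
    (Module.Flat.lTensor_preserves_injective_linearMap (M := K) (N.subtype.restrictScalars A) N.subtype_injective)
  obtain ⟨f₂, hf₂, hfr, -⟩ := Groth.L20.GF.exists_free_and_nearlyFP (R := A) (S := B) N
  have hz' : (1 : Localization.Away f₂) ⊗ₜ[A] (⟨b', hbN⟩ : N) ≠ 0 := fun h0 => hne (by
    have hu : IsUnit (algebraMap A K f₂) := ((map_ne_zero_iff _ (IsFractionRing.injective A K)).2 hf₂).isUnit
    have := congrArg ((awayHom f₂ hu).toLinearMap.rTensor N) h0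
    simp only [LinearMap.rTensor_tmul, AlgHom.toLinearMap_apply, map_one, map_zero] at this
    simpa using congrArg ((N.subtype.restrictScalars A).baseChange K) this)
  obtain ⟨c, hc, hχ⟩ := exists_functional f₂ _ hz'
  obtain ⟨⟨c', ⟨_, m, rfl⟩⟩, hcm⟩ := IsLocalization.surj (Submonoid.powers f₂) c
  have hc' : c' ≠ 0 := fun h0 => hc (by
    rw [h0, map_zero] at hcm
    exact (IsLocalization.map_units (Localization.Away f₂) (⟨f₂ ^ m, m, rfl⟩ : Submonoid.powers f₂)).mul_left_eq_zero.1 hcm)
  refine ⟨f₁ * f₂ * c', mul_ne_zero (mul_ne_zero hf₁ hf₂) hc', fun k _ _ hk hred => ?_⟩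
  simp only [map_mul, mul_ne_zero_iff] at hk
  obtain ⟨⟨hk₁, hk₂⟩, hk₃⟩ := hk
  obtain ⟨χ, hχ⟩ := hχ k hk₂.isUnit
  have h0 : (1 : k) ⊗ₜ[A] b' = 0 :=
    hred.eq_zero _ (hb'.map (Algebra.TensorProduct.includeRight : B →ₐ[A] k ⊗[A] B))
  have h1 : (1 : k) ⊗ₜ[A] (⟨b', hbN⟩ : N) = 0 := hinj k hk₁.isUnit (by simpa using h0)
  simp only [LinearMap.rTensor_tmul, AlgHom.toLinearMap_apply, map_one, h1, map_zero] at hχ
  apply hk₃
  have h2 := congrArg (awayHom f₂ hk₂.isUnit) hcm
  rw [map_mul, ← hχ, zero_mul, AlgHom.commutes] at h2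
  exact h2.symm

/-- If `V(I)` is nowhere dense in the generic fibre, some `h ∈ I` is nowhere zero on a dense set of
every fibre over a nonempty open. -/
theorem exists_notMem_minimalPrimes [IsNoetherianRing (K ⊗[A] B)] (I : Ideal B)
    (h : ∀ q ∈ minimalPrimes (K ⊗[A] B),
      ¬ I ≤ q.comap (Algebra.TensorProduct.includeRight : B →ₐ[A] K ⊗[A] B)) :
    ∃ f : A, f ≠ 0 ∧ ∀ (k : Type u) [Field k] [Algebra A k], algebraMap A k f ≠ 0 →
      ∀ q ∈ minimalPrimes (k ⊗[A] B),
        ¬ I ≤ q.comap (Algebra.TensorProduct.includeRight : B →ₐ[A] k ⊗[A] B) := by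
  classical
  haveI : FaithfulSMul A K := (faithfulSMul_iff_algebraMap_injective A K).2 (IsFractionRing.injective A K)
  let ι : B →ₐ[A] K ⊗[A] B := Algebra.TensorProduct.includeRight
  let T := (minimalPrimes.finite_of_isNoetherianRing (K ⊗[A] B)).toFinset
  obtain ⟨h₀, hh₀, hh₀'⟩ : ∃ h₀ ∈ I, ∀ q ∈ T, h₀ ∉ q.comap ι := by
    by_contra! hcon
    have hsub : (I : Set B) ⊆ ⋃ q ∈ (T : Set (Ideal (K ⊗[A] B))), (q.comap ι : Set B) := fun x hx => by
      obtain ⟨q, hq, hxq⟩ := hcon x hx
      exact Set.mem_iUnion₂.2 ⟨q, hq, hxq⟩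
    obtain ⟨q, hq, hle⟩ := (Ideal.subset_union_prime ⊥ ⊥ (fun q hq _ _ => by
      haveI : q.IsPrime := ((minimalPrimes.finite_of_isNoetherianRing _).mem_toFinset.1 hq).1.1
      infer_instance)).1 hsub
    exact h q ((minimalPrimes.finite_of_isNoetherianRing _).mem_toFinset.1 hq) hle
  replace hh₀' : ∀ q ∈ minimalPrimes (K ⊗[A] B), ι h₀ ∉ q := fun q hq =>
    hh₀' q ((minimalPrimes.finite_of_isNoetherianRing _).mem_toFinset.2 hq)
  let M := B ⧸ nilradical B
  let μ : M →ₗ[B] M := LinearMap.lsmul B M h₀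
  have hμ : Function.Injective ((μ.restrictScalars A).baseChange K) := by
    rw [injective_iff_map_eq_zero]
    intro z hz
    obtain ⟨a, m, ha, hm⟩ := exists_smul_eq K z
    obtain ⟨b, rfl⟩ := Ideal.Quotient.mk_surjective m
    have h1 : (1 : K) ⊗ₜ[A] Ideal.Quotient.mk (nilradical B) (h₀ * b) = 0 := by
      have := congrArg ((μ.restrictScalars A).baseChange K) hm
      rw [LinearMap.map_smul_of_tower, hz, smul_zero, LinearMap.baseChange_tmul] at this
      exact this.symm
    obtain ⟨⟨d, hd⟩, hd'⟩ := (IsLocalizedModule.eq_iff_exists (nonZeroDivisors A) (TensorProduct.mk A K M 1)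
      (x₁ := Ideal.Quotient.mk (nilradical B) (h₀ * b)) (x₂ := 0)).1 (by simpa using h1)
    replace hd' : d • (h₀ * b) ∈ nilradical B := by
      rw [← Ideal.Quotient.eq_zero_iff_mem, ← Ideal.Quotient.mkₐ_eq_mk A, map_smul]
      simpa [Submonoid.smul_def] using hd'
    have h2 : ι b ∈ nilradical (K ⊗[A] B) := by
      rw [nilradical, Ideal.radical_eq_sInf, Ideal.mem_sInf]
      intro q hq
      haveI := hq.2
      obtain ⟨q₀, hq₀, hq₀q⟩ := Ideal.exists_minimalPrimes_le (I := (⊥ : Ideal (K ⊗[A] B))) (J := q) bot_le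
      haveI := hq₀.1.1
      refine hq₀q ?_
      have h3 : ι (d • (h₀ * b)) ∈ q₀ := by
        obtain ⟨n, hn⟩ := hd'
        refine Ideal.IsPrime.mem_of_pow_mem ‹_› n ?_
        rw [← map_pow, hn, map_zero]
        exact zero_mem _
      rw [map_smul, map_mul, Algebra.smul_def] at h3
      refine ((Ideal.IsPrime.mem_or_mem ‹_› h3).resolve_left fun hdq => ?_) |>
        (Ideal.IsPrime.mem_or_mem ‹_›) |>.resolve_left (hh₀' q₀ hq₀)
      refine Ideal.IsPrime.ne_top ‹_› (Ideal.eq_top_of_isUnit_mem _ hdq ?_)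
      rw [IsScalarTower.algebraMap_apply A K (K ⊗[A] B)]
      exact ((map_ne_zero_iff _ (IsFractionRing.injective A K)).2 (nonZeroDivisors.ne_zero hd)).isUnit.map _
    obtain ⟨n, hn⟩ := h2
    have h4 : (1 : K) ⊗ₜ[A] (b ^ n) = 0 := by
      have : ι (b ^ n) = 0 := by rw [map_pow, hn]
      simpa [ι] using this
    obtain ⟨⟨d', hd'₀⟩, hd''⟩ := (IsLocalizedModule.eq_iff_exists (nonZeroDivisors A) (TensorProduct.mk A K B 1)
      (x₁ := b ^ n) (x₂ := 0)).1 (by simpa using h4)
    replace hd'' : d' • b ^ n = 0 := by simpa [Submonoid.smul_def] using hd''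
    have h5 : d' • b ∈ nilradical B := ⟨n + 1, by
      rw [smul_pow, pow_succ d' n, pow_succ b n, mul_smul, ← smul_mul_assoc d', hd'', zero_mul, smul_zero]
      exact zero_mem _⟩
    have h6 : (1 : K) ⊗ₜ[A] Ideal.Quotient.mk (nilradical B) (d' • b) = 0 := by
      rw [Ideal.Quotient.eq_zero_iff_mem.2 h5, TensorProduct.tmul_zero]
    rw [show Ideal.Quotient.mk (nilradical B) (d' • b) = d' • Ideal.Quotient.mk (nilradical B) b from
      map_smul (Ideal.Quotient.mkₐ A _) d' b, TensorProduct.tmul_smul, ← hm, smul_smul,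
      ← algebraMap_smul K (d' * a) z] at h6
    exact ((map_ne_zero_iff _ (IsFractionRing.injective A K)).2
      (mul_ne_zero (nonZeroDivisors.ne_zero hd'₀) ha)).isUnit.smul_eq_zero.1 h6
  obtain ⟨f, hf, hinj⟩ := exists_baseChange_injective μ K hμ
  refine ⟨f, hf, fun k _ _ hk q hq hle => ?_⟩
  haveI := hq.1.1
  let S := k ⊗[A] M
  let π : k ⊗[A] B →ₐ[k] S := Algebra.TensorProduct.map (AlgHom.id k k) (Ideal.Quotient.mkₐ A (nilradical B))
  have hπ : Function.Surjective π := fun s => by
    induction s using TensorProduct.induction_on with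
    | zero => exact ⟨0, map_zero _⟩
    | add x y hx hy =>
      obtain ⟨x, rfl⟩ := hx
      obtain ⟨y, rfl⟩ := hy
      exact ⟨x + y, map_add _ _ _⟩
    | tmul c m =>
      obtain ⟨b, rfl⟩ := Ideal.Quotient.mk_surjective m
      exact ⟨c ⊗ₜ b, rfl⟩
  have hker : RingHom.ker π ≤ q := by
    have := Algebra.TensorProduct.lTensor_ker (A := k) (Ideal.Quotient.mkₐ A (nilradical B))
      Ideal.Quotient.mk_surjective
    rw [show RingHom.ker π = _ from this, Ideal.map_le_iff_le_comap]
    intro x hx
    rw [Ideal.mem_comap]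
    obtain ⟨n, hn⟩ := (Ideal.Quotient.eq_zero_iff_mem.1 hx : x ∈ nilradical B)
    refine Ideal.IsPrime.mem_of_pow_mem ‹_› n ?_
    rw [← map_pow, hn, map_zero]
    exact zero_mem _
  have hqS : q.map π ∈ minimalPrimes S := by
    refine ⟨⟨Ideal.map_isPrime_of_surjective hπ hker, bot_le⟩, fun q' hq' hle' => ?_⟩
    haveI := hq'.1
    have h7 : q ≤ q'.comap π := hq.2 ⟨inferInstance, bot_le⟩ (by
      refine (Ideal.comap_mono hle').trans_eq ?_
      rw [Ideal.comap_map_of_surjective _ hπ]
      exact sup_eq_left.2 hker)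
    exact Ideal.map_le_iff_le_comap.2 h7
  have hmem : π (Algebra.TensorProduct.includeRight h₀) ∈ q.map π := Ideal.mem_map_of_mem _ (hle hh₀)
  refine notMem_nonZeroDivisors_of_mem_mem_minimalPrimes hmem hqS (mem_nonZeroDivisors_iff_right.2 fun s hs => ?_)
  refine hinj k hk.isUnit ?_
  rw [map_zero, ← hs]
  clear hs
  induction s using TensorProduct.induction_on with
  | zero => simp
  | add x y hx hy => rw [map_add, hx, hy, add_mul]
  | tmul c m =>
    show c ⊗ₜ[A] (h₀ • m) = c ⊗ₜ[A] m * ((1 : k) ⊗ₜ[A] Ideal.Quotient.mk (nilradical B) h₀)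
    rw [Algebra.TensorProduct.tmul_mul_tmul, mul_one, mul_comm m, Algebra.smul_def]
    rfl

end Groth.L06.GenericSpecialise
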