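import Groth.Agent.L06.GeomRegField
import Mathlib.FieldTheory.SeparablyGenerated
import Mathlib.FieldTheory.PurelyInseparable.PerfectClosure
import Mathlib.RingTheory.MvPolynomial.Localization
import Mathlib.RingTheory.EssentialFiniteness

/-! Geometric properties and finitely generated field extensions (EGA IV 6.7.7). -/

set_option autoImplicit false
set_option maxSynthPendingDepth 3
set_option linter.style.haveILetI false
universe u

namespace Groth.L06.GeomFG

open scoped TensorProduct
open PropLoc

/-- `Q` after all finite extensions of the base field -/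
def Geom (Q : ∀ (R : Type u) [CommRing R], Prop) (k : Type u) [Field k] (R : Type u) [CommRing R] [Algebra k R] : Prop :=
  ∀ (L : Type u) [Field L] [Algebra k L], Module.Finite k L → Loc Q (L ⊗[k] R)

/-- regular local rings have the property -/
def RegImp (Q : ∀ (R : Type u) [CommRing R], Prop) : Prop :=
  ∀ (R : Type u) [CommRing R], IsRegularLocalRing R → Q R

theorem regImp_reg : RegImp.{u} QReg := fun _ _ h => h

theorem regImp_nor : RegImp.{u} QNor := fun R _ h => by
  haveI := h
  exact ⟨Groth.L01.isDomain_of_regular R, Groth.L03.RegularNormal.isIntegrallyClosed R⟩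

theorem regImp_red : RegImp.{u} QRed := fun R _ h => by
  haveI := h
  haveI := Groth.L01.isDomain_of_regular R
  exact (inferInstance : IsReduced R)

theorem regImp_cm : RegImp.{u} QCM := fun R _ h => by
  haveI := h
  intro _
  haveI := Groth.L04.isCohenMacaulayLocalRing_of_regular (R := R)
  rw [← LocCoh.IsCohenMacaulayLocalRing.supportDim_eq_depth (R := R), Module.supportDim_self_eq_ringKrullDim]

theorem isNoetherianRing_tensor (k L R : Type u) [Field k] [Field L] [Algebra k L] [Algebra.EssFiniteType k L]
    [CommRing R] [Algebra k R] [IsNoetherianRing R] : IsNoetherianRing (L ⊗[k] R) := by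
  haveI := Algebra.EssFiniteType.isNoetherianRing R (R ⊗[k] L)
  exact isNoetherianRing_of_ringEquiv (R ⊗[k] L) (Algebra.TensorProduct.comm k R L).toRingEquiv

variable {Q : ∀ (R : Type u) [CommRing R], Prop} (hQ : Good Q) (hr : RegImp Q)
include hQ hr

theorem loc_of_regular_fibres {R S : Type u} [CommRing R] [IsNoetherianRing R] [CommRing S] [IsNoetherianRing S]
    [Algebra R S] [Module.Flat R S] (h : ∀ (q : Ideal R) [q.IsPrime], Loc QReg (q.Fiber S)) (hR : Loc Q R) : Loc Q S :=
  hQ.ascend hR fun q _ p _ => hr _ (h q p)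

theorem loc_separable (K R L : Type u) [Field K] [CommRing R] [Algebra K R] [IsNoetherianRing R] [Field L] [Algebra K L]
    [Algebra.IsSeparable K L] [Module.Finite K L] (h : Loc Q R) : Loc Q (L ⊗[K] R) := by
  haveI : IsNoetherianRing (R ⊗[K] L) := IsNoetherianRing.of_finite R _
  refine loc_of_ringEquiv hQ (Algebra.TensorProduct.comm K R L).toRingEquiv (loc_of_regular_fibres hQ hr (fun q _ => ?_) h)
  haveI : Algebra.FormallyEtale K L := Algebra.FormallyEtale.of_isSeparable K L
  haveI : IsArtinianRing (q.Fiber (R ⊗[K] L)) := IsArtinianRing.of_finite q.ResidueField _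
  haveI : IsReduced (q.Fiber (R ⊗[K] L)) := Algebra.FormallyUnramified.isReduced_of_field q.ResidueField _
  exact GeomRegField.loc_reg_of_isArtinianRing _

theorem loc_mvPolynomial {R σ : Type u} [CommRing R] [IsNoetherianRing R] [Finite σ] (h : Loc Q R) :
    Loc Q (MvPolynomial σ R) := by
  haveI : IsNoetherianRing (MvPolynomial σ R) := inferInstance
  refine loc_of_regular_fibres hQ hr (fun q _ => ?_) h
  haveI : IsRegularRing (MvPolynomial σ q.ResidueField) := inferInstance
  haveI : IsRegularRing (q.Fiber (MvPolynomial σ R)) := IsRegularRing.of_ringEquiv (R := MvPolynomial σ q.ResidueField)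
    (MvPolynomial.algebraTensorAlgEquiv R q.ResidueField).symm.toRingEquiv
  exact loc_reg_iff.mpr inferInstance

theorem loc_purelyTranscendental (k F R : Type u) [Field k] [Field F] [Algebra k F] {σ : Type u} [Finite σ]
    [Algebra (MvPolynomial σ k) F] [IsScalarTower k (MvPolynomial σ k) F] [IsFractionRing (MvPolynomial σ k) F]
    [CommRing R] [Algebra k R] [IsNoetherianRing R] (h : Loc Q R) : Loc Q (F ⊗[k] R) := by
  let P := MvPolynomial σ k
  let T := P ⊗[k] R
  let eT : MvPolynomial σ R ≃+* T := (MvPolynomial.algebraTensorAlgEquiv k R).symm.toRingEquiv.trans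
    (Algebra.TensorProduct.comm k R P).toRingEquiv
  haveI : IsNoetherianRing T := isNoetherianRing_of_ringEquiv (MvPolynomial σ R) eT
  have hT : Loc Q T := loc_of_ringEquiv hQ eT (loc_mvPolynomial hQ hr h)
  letI : Algebra T (F ⊗[P] T) := Algebra.TensorProduct.rightAlgebra
  haveI : IsLocalization (Algebra.algebraMapSubmonoid T (nonZeroDivisors P)) (F ⊗[P] T) :=
    IsLocalization.tensorRight (R := P) (S := T) F (nonZeroDivisors P)
  haveI : IsNoetherianRing (F ⊗[P] T) :=
    IsLocalization.isNoetherianRing (Algebra.algebraMapSubmonoid T (nonZeroDivisors P)) (F ⊗[P] T) inferInstance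
  exact loc_of_ringEquiv hQ (Algebra.TensorProduct.cancelBaseChange k P P F R).toRingEquiv
    (loc_localization hQ (Algebra.algebraMapSubmonoid T (nonZeroDivisors P)) (F ⊗[P] T) hT)

omit hr in
theorem loc_descend_field {k L N R : Type u} [Field k] [Field L] [Field N] [Algebra k L] [Algebra k N] [Algebra L N]
    [IsScalarTower k L N] [Algebra.EssFiniteType k L] [Algebra.EssFiniteType k N] [CommRing R] [Algebra k R]
    [IsNoetherianRing R] (h : Loc Q (N ⊗[k] R)) : Loc Q (L ⊗[k] R) := by
  haveI := isNoetherianRing_tensor k L R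
  haveI := isNoetherianRing_tensor k N R
  let e : N ⊗[k] R ≃+* (L ⊗[k] R) ⊗[L] N :=
    ((Algebra.TensorProduct.cancelBaseChange k L L N R).symm.toRingEquiv).trans
      (Algebra.TensorProduct.comm L N (L ⊗[k] R)).toRingEquiv
  haveI : IsNoetherianRing ((L ⊗[k] R) ⊗[L] N) := isNoetherianRing_of_ringEquiv (N ⊗[k] R) e
  exact hQ.descend (S := (L ⊗[k] R) ⊗[L] N) (loc_of_ringEquiv hQ e h)

omit hQ hr in
theorem exists_finset_perfect {k Ω : Type u} [Field k] [Field Ω] [Algebra k Ω] (P : IntermediateField k Ω)
    (T C : Set Ω) (hC : C.Finite) (h : C ⊆ (IntermediateField.adjoin P T : IntermediateField P Ω)) :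
    ∃ P₀ : Finset Ω, (P₀ : Set Ω) ⊆ P ∧ C ⊆ (IntermediateField.adjoin k ((P₀ : Set Ω) ∪ T) : IntermediateField k Ω) := by
  classical
  induction C, hC using Set.Finite.induction_on with
  | empty => exact ⟨∅, by simp, Set.empty_subset _⟩
  | @insert x C _ _ ih =>
    obtain ⟨P₀, hP₀, hC₀⟩ := ih ((Set.subset_insert _ _).trans h)
    have hx : x ∈ (IntermediateField.adjoin k ((P : Set Ω) ∪ T) : IntermediateField k Ω) := by
      rw [← IntermediateField.adjoin_adjoin_left, IntermediateField.adjoin_self]
      exact h (Set.mem_insert x C)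
    obtain ⟨U, hU, hxU⟩ := IntermediateField.exists_finset_of_mem_adjoin hx
    refine ⟨P₀ ∪ U.filter (· ∈ P), ?_, Set.insert_subset ?_ (hC₀.trans ?_)⟩
    · intro z hz
      rcases Finset.mem_union.mp hz with hz | hz
      · exact hP₀ hz
      · exact (Finset.mem_filter.mp hz).2
    · refine IntermediateField.adjoin.mono _ _ _ (fun z hz => ?_) hxU
      rcases hU hz with hzP | hzT
      · exact Or.inl (Finset.mem_union_right _ (Finset.mem_filter.mpr ⟨hz, hzP⟩))
      · exact Or.inr hzT
    · exact SetLike.coe_subset_coe.mpr (IntermediateField.adjoin.mono _ _ _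
        (Set.union_subset_union_left _ (Finset.coe_subset.mpr Finset.subset_union_left)))

set_option maxHeartbeats 1000000 in
/-- base change by finitely generated fields, from the finite purely inseparable ones -/
theorem loc_fg {k R : Type u} [Field k] [CommRing R] [Algebra k R] [IsNoetherianRing R]
    (h : ∀ (k' : Type u) [Field k'] [Algebra k k'], Module.Finite k k' → IsPurelyInseparable k k' → Loc Q (k' ⊗[k] R))
    (L : Type u) [Field L] [Algebra k L] [Algebra.EssFiniteType k L] : Loc Q (L ⊗[k] R) := by
  classical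
  let Ω := AlgebraicClosure L
  let j : L →ₐ[k] Ω := IsScalarTower.toAlgHom k L Ω
  let P := perfectClosure k Ω
  obtain ⟨G, hG⟩ := IntermediateField.fg_top k L
  let G' : Finset Ω := G.image j
  let E := IntermediateField.adjoin P (G' : Set Ω)
  haveI : Algebra.EssFiniteType P E :=
    IntermediateField.essFiniteType_iff.mpr (IntermediateField.fg_adjoin_of_finite G'.finite_toSet)
  obtain ⟨s, hs, hsep⟩ := exists_isTranscendenceBasis_and_isSeparable_of_perfectField P E
  let s' : Finset Ω := s.image (fun x : E => (x : Ω))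
  have hG'E : ∀ g ∈ G', g ∈ E := fun g hg => IntermediateField.subset_adjoin _ _ hg
  -- coefficients
  let Fs : IntermediateField P E := IntermediateField.adjoin P (s : Set E)
  let coeffs : Set Ω := ⋃ g : G', ((fun c : Fs => ((c : E) : Ω)) '' ((minpoly Fs (⟨g, hG'E g g.2⟩ : E)).coeffs : Set Fs))
  have hcoef : coeffs ⊆ (IntermediateField.adjoin P (s' : Set Ω) : IntermediateField P Ω) := by
    intro z hz
    obtain ⟨g, c, -, rfl⟩ := Set.mem_iUnion.mp hz
    have h1 : ((c : E) : Ω) ∈ (Fs.map E.val : IntermediateField P Ω) := ⟨(c : E), c.2, rfl⟩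
    rw [IntermediateField.adjoin_map] at h1
    rw [show (s' : Set Ω) = E.val '' (s : Set E) by simp [s', Finset.coe_image]]
    exact h1
  have hs'E : (s' : Set Ω) ⊆ (IntermediateField.adjoin P (G' : Set Ω) : IntermediateField P Ω) := by
    intro z hz
    obtain ⟨x, -, rfl⟩ := Finset.mem_image.mp (Finset.mem_coe.mp hz)
    exact x.2
  obtain ⟨P₁, hP₁, hs₁⟩ := exists_finset_perfect P _ _ s'.finite_toSet hs'E
  obtain ⟨P₂, hP₂, hc₂⟩ := exists_finset_perfect P _ _
    (Set.finite_iUnion fun g => (Finset.finite_toSet _).image _) hcoef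
  let k1 : IntermediateField k Ω := IntermediateField.adjoin k ((P₁ ∪ P₂ : Finset Ω) : Set Ω)
  have hk1P : k1 ≤ P := IntermediateField.adjoin_le_iff.mpr (by
    rw [Finset.coe_union]; exact Set.union_subset hP₁ hP₂)
  haveI : IsPurelyInseparable k k1 := (le_perfectClosure_iff k Ω k1).mp hk1P
  haveI : FiniteDimensional k k1 := IntermediateField.finiteDimensional_adjoin fun x hx => by
    have hxP : x ∈ P := hk1P (IntermediateField.subset_adjoin _ _ hx)
    exact (IsPurelyInseparable.isIntegral' k (⟨x, hxP⟩ : P)).map P.val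
  haveI := GeomRegField.isNoetherianRing_left (K := k) (L := k1) (R := R)
  have h1 : Loc Q (k1 ⊗[k] R) := h k1 inferInstance inferInstance
  -- the purely transcendental part
  let F : IntermediateField k1 Ω := IntermediateField.adjoin k1 (s' : Set Ω)
  have hindep : AlgebraicIndependent k1 (fun x : s => ((x : E) : Ω)) := by
    letI : Algebra k1 P := (IntermediateField.inclusion hk1P).toRingHom.toAlgebra
    haveI : IsScalarTower k1 P Ω := IsScalarTower.of_algebraMap_eq fun x => rfl
    have h2 : AlgebraicIndependent P (fun x : s => ((x : E) : Ω)) := hs.1.map' (f := E.val) Subtype.val_injective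
    exact h2.restrictScalars (algebraMap k1 P).injective
  have hmemF : ∀ x : s, ((x : E) : Ω) ∈ F := fun x =>
    IntermediateField.subset_adjoin _ _ (Finset.mem_image.mpr ⟨x, x.2, rfl⟩)
  let φ : MvPolynomial s k1 →ₐ[k1] F := MvPolynomial.aeval (fun x : s => (⟨_, hmemF x⟩ : F))
  have hφ : ∀ p, ((φ p : F) : Ω) = MvPolynomial.aeval (fun x : s => ((x : E) : Ω)) p := fun p =>
    AlgHom.congr_fun (MvPolynomial.comp_aeval (fun x : s => (⟨_, hmemF x⟩ : F)) F.val) p
  have hφi : Function.Injective φ := fun a b hab => hindep (by rw [← hφ, ← hφ, hab])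
  letI : Algebra (MvPolynomial s k1) F := φ.toRingHom.toAlgebra
  haveI : IsScalarTower k1 (MvPolynomial s k1) F := IsScalarTower.of_algebraMap_eq fun x => (φ.commutes x).symm
  haveI : FaithfulSMul (MvPolynomial s k1) F := (faithfulSMul_iff_algebraMap_injective _ _).mpr hφi
  haveI : IsFractionRing (MvPolynomial s k1) F := by
    refine IsFractionRing.of_field _ _ fun z => ?_
    have hz : (z : Ω) ∈ IntermediateField.adjoin k1 (Set.range fun x : s => ((x : E) : Ω)) := by
      refine IntermediateField.adjoin.mono _ _ _ ?_ z.2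
      intro w hw
      obtain ⟨x, hx, rfl⟩ := Finset.mem_image.mp (Finset.mem_coe.mp hw)
      exact ⟨⟨x, hx⟩, rfl⟩
    obtain ⟨r, q, hrq⟩ := (IntermediateField.mem_adjoin_range_iff _ _ _).mp hz
    refine ⟨r, q, Subtype.ext ?_⟩
    show (z : Ω) = ((φ r : F) : Ω) / ((φ q : F) : Ω)
    rw [hφ, hφ, hrq]
  have hF : Loc Q (F ⊗[k1] (k1 ⊗[k] R)) := loc_purelyTranscendental hQ hr k1 F _ (σ := s) h1
  haveI : Algebra.EssFiniteType k1 F :=
    IntermediateField.essFiniteType_iff.mpr (IntermediateField.fg_adjoin_of_finite s'.finite_toSet)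
  haveI : IsNoetherianRing (F ⊗[k1] (k1 ⊗[k] R)) := isNoetherianRing_tensor k1 F _
  -- the separable part
  let N : IntermediateField F Ω := IntermediateField.adjoin F (G' : Set Ω)
  have hsepG : ∀ g ∈ G', IsSeparable F g := by
    intro g hg
    let gE : E := ⟨g, hG'E g hg⟩
    haveI := hsep
    have hgs : IsSeparable Fs gE := Algebra.IsSeparable.isSeparable Fs gE
    let q := minpoly Fs gE
    let i : Fs →+* Ω := (E.val.toRingHom).comp (algebraMap Fs E)
    have hlift : q.map i ∈ Polynomial.lifts (algebraMap F Ω) := by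
      refine (Polynomial.lifts_iff_coeff_lifts _).mpr fun n => ?_
      rw [Polynomial.coeff_map]
      by_cases hn : q.coeff n = 0
      · exact ⟨0, by rw [map_zero, hn, map_zero]⟩
      · have hc : ((q.coeff n : E) : Ω) ∈ coeffs := Set.mem_iUnion.mpr
          ⟨⟨g, hg⟩, q.coeff n, Polynomial.coeff_mem_coeffs hn, rfl⟩
        have hk : IntermediateField.adjoin k ((P₂ : Set Ω) ∪ (s' : Set Ω)) ≤ F.restrictScalars k := by
          refine IntermediateField.adjoin_le_iff.mpr (Set.union_subset (fun w hw => ?_) fun w hw => ?_)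
          · exact F.algebraMap_mem (⟨w, IntermediateField.subset_adjoin _ _ (Finset.mem_union_right _ hw)⟩ : k1)
          · exact IntermediateField.subset_adjoin k1 _ hw
        exact ⟨⟨_, hk (hc₂ hc)⟩, rfl⟩
    obtain ⟨q', hq'⟩ := (Polynomial.mem_lifts _).mp hlift
    have hroot : Polynomial.aeval g q' = 0 := by
      rw [Polynomial.aeval_def, ← Polynomial.eval_map, hq', Polynomial.eval_map]
      have := congrArg E.val (minpoly.aeval Fs gE)
      rw [map_zero, Polynomial.aeval_def] at this
      exact (Polynomial.hom_eval₂ q (algebraMap Fs E) E.val.toRingHom gE).symm.trans this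
    have hq'sep : q'.Separable := by
      rw [← Polynomial.separable_map (algebraMap F Ω), hq', Polynomial.separable_map]
      exact hgs
    exact hq'sep.of_dvd (minpoly.dvd F g hroot)
  haveI : Algebra.IsSeparable F N := (IntermediateField.isSeparable_adjoin_iff_isSeparable F Ω).mpr hsepG
  haveI : Finite (G' : Set Ω) := G'.finite_toSet.to_subtype
  haveI : FiniteDimensional F N := IntermediateField.finiteDimensional_adjoin fun g hg => (hsepG g hg).isIntegral
  have hN : Loc Q (N ⊗[F] (F ⊗[k1] (k1 ⊗[k] R))) := loc_separable hQ hr F _ N hF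
  haveI : IsNoetherianRing (N ⊗[F] (F ⊗[k1] (k1 ⊗[k] R))) := isNoetherianRing_tensor F N _
  -- descend
  have hjN : ∀ x : L, j x ∈ N := by
    intro x
    have hx : x ∈ IntermediateField.adjoin k (G : Set L) := hG ▸ IntermediateField.mem_top
    have h2 : IntermediateField.adjoin k (G : Set L) ≤ ((N.restrictScalars k1).restrictScalars k).comap j :=
      IntermediateField.adjoin_le_iff.mpr fun g hg =>
        IntermediateField.subset_adjoin F _ (Finset.mem_coe.mpr (Finset.mem_image_of_mem j hg))
    exact h2 hx
  letI : Algebra k N := ((algebraMap F N).comp (algebraMap k F)).toAlgebra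
  haveI : IsScalarTower k F N := IsScalarTower.of_algebraMap_eq' rfl
  letI : Algebra L N := ((j.toRingHom).codRestrict N hjN).toAlgebra
  haveI : IsScalarTower k L N := IsScalarTower.of_algebraMap_eq fun x => Subtype.ext (j.commutes x).symm
  haveI : Algebra.EssFiniteType k F := Algebra.EssFiniteType.comp k k1 F
  haveI : Algebra.EssFiniteType k N := Algebra.EssFiniteType.comp k F N
  refine loc_descend_field hQ (N := N) (loc_of_ringEquiv hQ ?_ hN)
  exact (Algebra.TensorProduct.congr (AlgEquiv.refl : N ≃ₐ[F] N)
      (Algebra.TensorProduct.cancelBaseChange k k1 F F R)).toRingEquiv.trans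
    (Algebra.TensorProduct.cancelBaseChange k F F N R).toRingEquiv

end Groth.L06.GeomFG
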