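import Groth.Agent.L02.CMMor.BaseChange
import Groth.Agent.L02.CMMor.Groupoid
import Groth.Agent.L07.FieldCharts
import Groth.Agent.L06.GeomFG2
import Groth.Agent.L20.FibreScheme
import Mathlib.AlgebraicGeometry.Morphisms.Flat

/-!
Geometric properties of fibres (regular, normal) checked on affine charts, and their behaviour
under finitely generated field extensions and fppf base change.
-/

set_option autoImplicit false
set_option linter.style.haveILetI false
set_option maxSynthPendingDepth 3
set_option synthInstance.maxHeartbeats 400000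
set_option backward.isDefEq.respectTransparency.types false
set_option backward.isDefEq.respectTransparency false
universe u

open CategoryTheory CategoryTheory.Limits AlgebraicGeometry TensorProduct

namespace Groth.L06.GeomFibreLocal

variable (P : ∀ (R : Type u) [CommRing R], Prop)

/-- All local rings of all finite base changes of `C` satisfy `P`. -/
def GeoRing (k : Type u) [Field k] (C : Type u) [CommRing C] [Algebra k C] : Prop :=
  ∀ (K : Type u) [Field K] [Algebra k K], Module.Finite k K →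
    ∀ (q : Ideal (K ⊗[k] C)) [q.IsPrime], P (Localization.AtPrime q)

/-- All local rings of all finite base changes of `Z` satisfy `P`. -/
def GeoSch {k : Type u} [Field k] {Z : Scheme.{u}} (f : Z ⟶ Spec (CommRingCat.of k)) : Prop :=
  ∀ (K : Type u) [Field K] [Algebra k K], Module.Finite k K →
    ∀ z : ↥(pullback f (Spec.map (CommRingCat.ofHom (algebraMap k K)))),
      P ((pullback f (Spec.map (CommRingCat.ofHom (algebraMap k K)))).presheaf.stalk z)

/-- The hypotheses on `P` which are used. -/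
structure Adm : Prop where
  congr : ∀ {R S : Type u} [CommRing R] [CommRing S], (R ≃+* S) → P R → P S
  fg : ∀ (k C K : Type u) [Field k] [CommRing C] [Algebra k C] [IsNoetherianRing C] [Field K] [Algebra k K]
    [Algebra.EssFiniteType k K], GeoRing P k C ↔ GeoRing P K (K ⊗[k] C)

/-- Regularity. -/
def Reg (R : Type u) [CommRing R] : Prop := IsRegularLocalRing R

/-- Normality. -/
def Nor (R : Type u) [CommRing R] : Prop := IsDomain R ∧ IsIntegrallyClosed R

theorem geoRing_nor_iff (k C : Type u) [Field k] [CommRing C] [Algebra k C] :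
    GeoRing Nor k C ↔ EGA4.IsGeomNormal k C :=
  Iff.rfl

theorem geoRing_reg_iff (k C : Type u) [Field k] [CommRing C] [Algebra k C] [IsNoetherianRing C] :
    GeoRing Reg k C ↔ CAlg.IsGeometricallyRegular k C := by
  refine ⟨fun h K _ _ hK => ?_, fun h K _ _ hK q _ => ?_⟩
  · haveI := hK
    haveI := Groth.L06.GeomFG.isNoetherianRing_tensor k K C
    exact ⟨fun q _ => h K hK q⟩
  · haveI := h K hK
    exact IsRegularRing.isRegularLocalRing_localization q

theorem adm_nor : Adm Nor where
  congr e h := Groth.L07.GeomRk.normal_congr e h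
  fg k C K _ _ _ _ _ _ _ :=
    ⟨fun h => Groth.L06.GeomFG.geom_extend Groth.L06.PropLoc.good_nor Groth.L06.GeomFG.regImp_nor h K,
      fun h => Groth.L06.GeomFG.geom_descend Groth.L06.PropLoc.good_nor K h⟩

theorem adm_reg : Adm Reg where
  congr e h := @IsRegularLocalRing.of_ringEquiv _ _ h _ _ e
  fg k C K _ _ _ _ _ _ _ := by
    haveI := Groth.L06.GeomFG.isNoetherianRing_tensor k K C
    rw [geoRing_reg_iff, geoRing_reg_iff]
    constructor
    · intro h L _ _ hL
      haveI := hL
      haveI := Groth.L06.GeomFG.isNoetherianRing_tensor K L (TensorProduct k K C)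
      refine Groth.L06.PropLoc.loc_reg_iff.mp (Groth.L06.GeomFG.geom_extend Groth.L06.PropLoc.good_reg
        Groth.L06.GeomFG.regImp_reg (fun k' _ _ hk' => ?_) K L hL)
      haveI := hk'
      haveI := Groth.L06.GeomFG.isNoetherianRing_tensor k k' C
      exact Groth.L06.PropLoc.loc_reg_iff.mpr (h k' hk')
    · intro h k' _ _ hk'
      haveI := hk'
      haveI := Groth.L06.GeomFG.isNoetherianRing_tensor k k' C
      refine Groth.L06.PropLoc.loc_reg_iff.mp (Groth.L06.GeomFG.geom_descend Groth.L06.PropLoc.good_reg K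
        (fun L _ _ hL => ?_) k' hk')
      haveI := hL
      haveI := Groth.L06.GeomFG.isNoetherianRing_tensor K L (TensorProduct k K C)
      exact Groth.L06.PropLoc.loc_reg_iff.mpr (h L hL)

variable {P}

theorem isNoetherianRing_chart {Z : Scheme.{u}} [IsLocallyNoetherian Z] {C : Type u} [CommRing C]
    (i : Spec (CommRingCat.of C) ⟶ Z) [IsOpenImmersion i] : IsNoetherianRing C := by
  haveI : IsLocallyNoetherian (Spec (CommRingCat.of C)) := isLocallyNoetherian_of_isOpenImmersion i
  exact (isLocallyNoetherian_Spec (R := CommRingCat.of C)).1 inferInstance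

theorem stalk_to_loc (hP : Adm P) {Z : Scheme.{u}} {C : Type u} [CommRing C]
    (c : Spec (CommRingCat.of C) ⟶ Z) [IsOpenImmersion c] (q : PrimeSpectrum C)
    (h : P (Z.presheaf.stalk (c.base q))) : P (Localization.AtPrime q.asIdeal) :=
  hP.congr (Spec.stalkIso (CommRingCat.of C) q).commRingCatIsoToRingEquiv
    (hP.congr (asIso (c.stalkMap q)).commRingCatIsoToRingEquiv h)

theorem loc_to_stalk (hP : Adm P) {Z : Scheme.{u}} {C : Type u} [CommRing C]
    (c : Spec (CommRingCat.of C) ⟶ Z) [IsOpenImmersion c] (q : PrimeSpectrum C)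
    (h : P (Localization.AtPrime q.asIdeal)) : P (Z.presheaf.stalk (c.base q)) :=
  hP.congr (asIso (c.stalkMap q)).commRingCatIsoToRingEquiv.symm
    (hP.congr (Spec.stalkIso (CommRingCat.of C) q).commRingCatIsoToRingEquiv.symm h)

section Field

variable {k : Type u} [Field k] {Z : Scheme.{u}} (f : Z ⟶ Spec (CommRingCat.of k))

/-- Criterion by a covering family of charts. -/
theorem geoSch_of_cover (hP : Adm P)
    (h : ∀ z : Z, ∃ (C : Type u) (_ : CommRing C) (_ : Algebra k C) (i : Spec (CommRingCat.of C) ⟶ Z),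
      IsOpenImmersion i ∧ z ∈ Set.range i ∧
        Spec.map (CommRingCat.ofHom (algebraMap k C)) = i ≫ f ∧ GeoRing P k C) : GeoSch P f := by
  intro K _ _ hK w
  letI : Z.Over (Spec (CommRingCat.of k)) := ⟨f⟩
  obtain ⟨C, _, _, i, hi, hz, hw, hC⟩ :=
    h ((pullback.fst f (Spec.map (CommRingCat.ofHom (algebraMap k K)))).base w)
  obtain ⟨c, hc, -, -, hr⟩ := Groth.L07.FieldCharts.exists_bc_chart k Z i hw K
  obtain ⟨q, rfl⟩ : w ∈ Set.range c.base := by rw [hr]; exact hz
  exact loc_to_stalk hP c q (hC K hK q.asIdeal)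

theorem geoRing_of_chart (hP : Adm P) (h : GeoSch P f) {C : Type u} [CommRing C] [Algebra k C]
    (i : Spec (CommRingCat.of C) ⟶ Z) [IsOpenImmersion i]
    (hw : Spec.map (CommRingCat.ofHom (algebraMap k C)) = i ≫ f) : GeoRing P k C := by
  intro K _ _ hK q hq
  letI : Z.Over (Spec (CommRingCat.of k)) := ⟨f⟩
  obtain ⟨c, hc, -, -, -⟩ := Groth.L07.FieldCharts.exists_bc_chart k Z i hw K
  exact stalk_to_loc hP c ⟨q, hq⟩ (h K hK _)

/-- Invariance under finitely generated extensions of the base field. -/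
theorem geoSch_iff_baseChange (hP : Adm P) [IsLocallyNoetherian Z] {k' : Type u} [Field k'] [Algebra k k']
    [Algebra.EssFiniteType k k'] {Z' : Scheme.{u}} {p : Z' ⟶ Z} {q : Z' ⟶ Spec (CommRingCat.of k')}
    (h : IsPullback p q f (Spec.map (CommRingCat.ofHom (algebraMap k k')))) :
    GeoSch P f ↔ GeoSch P q := by
  letI : Z.Over (Spec (CommRingCat.of k)) := ⟨f⟩
  have chart : ∀ (C : Type u) [CommRing C] [Algebra k C] (i : Spec (CommRingCat.of C) ⟶ Z) [IsOpenImmersion i],
      Spec.map (CommRingCat.ofHom (algebraMap k C)) = i ≫ f →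
      ∃ c : Spec (CommRingCat.of (k' ⊗[k] C)) ⟶ Z', IsOpenImmersion c ∧
        Spec.map (CommRingCat.ofHom (algebraMap k' (k' ⊗[k] C))) = c ≫ q ∧
        ∀ z', p z' ∈ Set.range i → z' ∈ Set.range c := by
    intro C _ _ i _ hw
    obtain ⟨c, hc, -, h2, hr⟩ := Groth.L07.FieldCharts.exists_bc_chart k Z i hw k'
    refine ⟨c ≫ h.isoPullback.inv, inferInstance, ?_, fun z' hz' => ?_⟩
    · rw [Category.assoc, h.isoPullback_inv_snd]
      exact h2.symm
    · obtain ⟨t, ht⟩ : h.isoPullback.hom z' ∈ Set.range c.base := by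
        rw [hr]
        change pullback.fst f (Spec.map (CommRingCat.ofHom (algebraMap k k'))) (h.isoPullback.hom z') ∈ Set.range i
        rw [← Scheme.Hom.comp_apply, h.isoPullback_hom_fst]
        exact hz'
      refine ⟨t, ?_⟩
      change h.isoPullback.inv (c t) = z'
      exact (congrArg h.isoPullback.inv ht).trans (congrArg (fun m : Z' ⟶ Z' => m z') h.isoPullback.hom_inv_id)
  constructor
  · intro hf
    refine geoSch_of_cover q hP fun z' => ?_
    obtain ⟨C, _, _, i, t, hi, ht, hw⟩ := Groth.L07.FieldCharts.exists_affine_chart f (p z')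
    obtain ⟨c, hc, hcw, hmem⟩ := chart C i hw
    haveI := isNoetherianRing_chart i
    exact ⟨_, inferInstance, inferInstance, c, hc, hmem z' ⟨t, ht⟩, hcw,
      (hP.fg k C k').mp (geoRing_of_chart f hP hf i hw)⟩
  · intro hq
    refine geoSch_of_cover f hP fun z => ?_
    obtain ⟨C, _, _, i, t, hi, ht, hw⟩ := Groth.L07.FieldCharts.exists_affine_chart f z
    obtain ⟨c, hc, hcw, -⟩ := chart C i hw
    haveI := isNoetherianRing_chart i
    exact ⟨C, inferInstance, inferInstance, i, hi, ⟨t, ht⟩, hw,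
      (hP.fg k C k').mpr (geoRing_of_chart q hP hq c hcw)⟩

end Field

section Morphism

variable {X Y : Scheme.{u}} (f : X ⟶ Y)

/-- Geometric property of all fibres. -/
def GeoFib (P : ∀ (R : Type u) [CommRing R], Prop) : Prop :=
  ∀ y : Y, GeoSch P (k := Y.residueField y) (f.fiberToSpecResidueField y)

/-- The point with values in `κ(p)` of an affine open. -/
noncomputable def pt {V : Y.Opens} (hV : IsAffineOpen V) (p : Ideal Γ(Y, V)) [p.IsPrime] :
    Spec (CommRingCat.of p.ResidueField) ⟶ Y :=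
  Spec.map (CommRingCat.ofHom (algebraMap Γ(Y, V) p.ResidueField)) ≫ hV.fromSpec

theorem isPullback_lift {T S : Scheme.{u}} (b : T ⟶ Y) (a : S ⟶ Y) (φ : S ⟶ T) (h : φ ≫ b = a) :
    IsPullback (pullback.lift (pullback.fst f a) (pullback.snd f a ≫ φ)
        (by rw [pullback.condition, Category.assoc, h]) : pullback f a ⟶ pullback f b)
      (pullback.snd f a) (pullback.snd f b) φ := by
  subst h
  refine IsPullback.of_right ?_ (pullback.lift_snd _ _ _) (IsPullback.of_hasPullback f b)
  rw [pullback.lift_fst]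
  exact IsPullback.of_hasPullback f (φ ≫ b)

theorem exists_switch {V : Y.Opens} (hV : IsAffineOpen V) (p : Ideal Γ(Y, V)) [p.IsPrime] :
    ∃ (y : Y) (_ : Algebra (Y.residueField y) p.ResidueField)
      (_ : Algebra.EssFiniteType (Y.residueField y) p.ResidueField)
      (π : pullback f (pt hV p) ⟶ f.fiber y),
      y = hV.fromSpec.base ⟨p, inferInstance⟩ ∧
      IsPullback π (pullback.snd f (pt hV p)) (f.fiberToSpecResidueField y)
        (Spec.map (CommRingCat.ofHom (algebraMap (Y.residueField y) p.ResidueField))) := by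
  let a := pt hV p
  let y := a (IsLocalRing.closedPoint p.ResidueField)
  let ψ : Y.residueField y ⟶ CommRingCat.of p.ResidueField := Y.descResidueField (Scheme.stalkClosedPointTo a)
  have hψ : Spec.map ψ ≫ Y.fromSpecResidueField y = a :=
    Scheme.descResidueField_stalkClosedPointTo_fromSpecResidueField p.ResidueField Y a
  have hyV : y ∈ V := by
    have : hV.fromSpec ((Spec.map (CommRingCat.ofHom (algebraMap Γ(Y, V) p.ResidueField)))
        (IsLocalRing.closedPoint p.ResidueField)) ∈ Set.range hV.fromSpec := ⟨_, rfl⟩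
    rw [hV.range_fromSpec] at this
    exact this
  let θ : Γ(Y, V) ⟶ Y.residueField y := Y.presheaf.germ V y hyV ≫ Y.residue y
  have hθ : θ ≫ ψ = CommRingCat.ofHom (algebraMap Γ(Y, V) p.ResidueField) := by
    rw [← Spec.map_inj, ← cancel_mono hV.fromSpec, Spec.map_comp, Category.assoc]
    change _ = a
    rw [← hψ]
    congr 1
    rw [Spec.map_comp, Category.assoc, Scheme.fromSpecResidueField,
      ← hV.fromSpecStalk_eq_fromSpecStalk hyV]
    rfl
  letI : Algebra Γ(Y, V) (Y.residueField y) := θ.hom.toAlgebra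
  letI : Algebra (Y.residueField y) p.ResidueField := ψ.hom.toAlgebra
  haveI : IsScalarTower Γ(Y, V) (Y.residueField y) p.ResidueField :=
    IsScalarTower.of_algebraMap_eq fun r => (DFunLike.congr_fun (congrArg CommRingCat.Hom.hom hθ) r).symm
  haveI : Algebra.EssFiniteType Γ(Y, V) p.ResidueField := inferInstance
  haveI : Algebra.EssFiniteType (Y.residueField y) p.ResidueField :=
    Algebra.EssFiniteType.of_comp Γ(Y, V) (Y.residueField y) p.ResidueField
  refine ⟨y, inferInstance, inferInstance,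
    _, ?_, isPullback_lift f (Y.fromSpecResidueField y) a (Spec.map ψ) hψ⟩
  · change (Spec.map (CommRingCat.ofHom (algebraMap Γ(Y, V) p.ResidueField)) ≫ hV.fromSpec)
      (IsLocalRing.closedPoint p.ResidueField) = _
    rw [Scheme.Hom.comp_apply]
    congr 1
    refine PrimeSpectrum.ext ?_
    change Ideal.comap (algebraMap Γ(Y, V) p.ResidueField) (IsLocalRing.maximalIdeal p.ResidueField) = p
    rw [IsLocalRing.maximalIdeal_eq_bot]
    exact Ideal.ker_algebraMap_residueField p

theorem exists_fibre_chart {V : Y.Opens} (hV : IsAffineOpen V) {U : X.Opens} (hU : IsAffineOpen U)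
    (e : U ≤ f ⁻¹ᵁ V) (p : Ideal Γ(Y, V)) [p.IsPrime] :
    letI := (f.appLE V U e).hom.toAlgebra
    ∃ c : Spec (CommRingCat.of (p.Fiber Γ(X, U))) ⟶ pullback f (pt hV p), IsOpenImmersion c ∧
      Spec.map (CommRingCat.ofHom (algebraMap p.ResidueField (p.Fiber Γ(X, U)))) =
        c ≫ pullback.snd f (pt hV p) ∧
      Set.range c.base = (pullback.fst f (pt hV p)).base ⁻¹' (U : Set X) := by
  letI := (f.appLE V U e).hom.toAlgebra
  have hP := isPullback_SpecMap_of_isPushout _ _ _ _
    (CommRingCat.isPushout_tensorProduct Γ(Y, V) p.ResidueField Γ(X, U))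
  have e₂ : Spec.map (CommRingCat.ofHom (algebraMap Γ(Y, V) Γ(X, U))) ≫ hV.fromSpec = hU.fromSpec ≫ f :=
    hV.SpecMap_appLE_fromSpec f hU e
  refine ⟨hP.isoPullback.hom ≫ pullback.map _ _ (pt hV p) f (𝟙 _) hU.fromSpec hV.fromSpec
    (Category.id_comp _).symm e₂ ≫ (pullbackSymmetry _ _).hom, inferInstance, ?_, ?_⟩
  · rw [Category.assoc, Category.assoc, pullbackSymmetry_hom_comp_snd, pullback.map, pullback.lift_fst,
      hP.isoPullback_hom_fst_assoc, Category.comp_id]
    rfl
  · have hsurj : Function.Surjective hP.isoPullback.hom := hP.isoPullback.hom.homeomorph.surjective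
    rw [Scheme.Hom.comp_base, TopCat.coe_comp, hsurj.range_comp, Scheme.Hom.comp_base, TopCat.coe_comp,
      Set.range_comp, Scheme.Pullback.range_map, ← hU.range_fromSpec]
    ext z
    constructor
    · rintro ⟨z', ⟨-, h2⟩, rfl⟩
      rw [Set.mem_preimage, ← Scheme.Hom.comp_apply, pullbackSymmetry_hom_comp_fst]
      exact h2
    · intro hz
      refine ⟨(pullbackSymmetry (pt hV p) f).inv z, ⟨?_, ?_⟩, ?_⟩
      · rw [Scheme.Hom.id_base]; exact ⟨_, rfl⟩
      · rw [Set.mem_preimage, ← Scheme.Hom.comp_apply, pullbackSymmetry_inv_comp_snd]; exact hz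
      · rw [← Scheme.Hom.comp_apply, Iso.inv_hom_id]; rfl

theorem isNoetherianRing_fiber [hN : ∀ y, IsLocallyNoetherian (f.fiber y)] {V : Y.Opens} (hV : IsAffineOpen V)
    {U : X.Opens} (hU : IsAffineOpen U) (e : U ≤ f ⁻¹ᵁ V) (p : Ideal Γ(Y, V)) [p.IsPrime] :
    letI := (f.appLE V U e).hom.toAlgebra
    IsNoetherianRing (p.Fiber Γ(X, U)) := by
  letI := (f.appLE V U e).hom.toAlgebra
  obtain ⟨y, _, _, π, -, hπ⟩ := exists_switch f hV p
  haveI := Groth.L21.GorensteinBaseChange.isLocallyNoetherian_of_fg (k := Y.residueField y)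
    (IntermediateField.fg_top_iff.2 inferInstance) (f.fiberToSpecResidueField y) hπ
  obtain ⟨c, hc, -, -⟩ := exists_fibre_chart f hV hU e p
  exact isNoetherianRing_chart c

/-- The fibre property read on affine opens. -/
theorem geoFib_iff {P : ∀ (R : Type u) [CommRing R], Prop} (hP : Adm P)
    [hN : ∀ y, IsLocallyNoetherian (f.fiber y)] :
    GeoFib f P ↔ ∀ (U : X.Opens) (V : Y.Opens) (_ : IsAffineOpen U) (_ : IsAffineOpen V) (hUV : U ≤ f ⁻¹ᵁ V)
      (p : Ideal Γ(Y, V)) [p.IsPrime],
        letI := (f.appLE V U hUV).hom.toAlgebra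
        GeoRing P p.ResidueField (p.Fiber Γ(X, U)) := by
  constructor
  · intro h U V hU hV hUV p _
    letI := (f.appLE V U hUV).hom.toAlgebra
    obtain ⟨y, _, _, π, -, hπ⟩ := exists_switch f hV p
    obtain ⟨c, hc, hcw, -⟩ := exists_fibre_chart f hV hU hUV p
    exact geoRing_of_chart _ hP ((geoSch_iff_baseChange (k := Y.residueField y) _ hP hπ).mp (h y)) c hcw
  · intro h y₀
    obtain ⟨V, hV, hyV, -⟩ := exists_isAffineOpen_mem_and_subset (x := y₀) (U := ⊤) trivial
    let q := hV.primeIdealOf ⟨y₀, hyV⟩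
    obtain ⟨y, _, _, π, hy, hπ⟩ := exists_switch f hV q.asIdeal
    have hy0 : y = y₀ := hy.trans (hV.fromSpec_primeIdealOf ⟨y₀, hyV⟩)
    subst hy0
    refine (geoSch_iff_baseChange (k := Y.residueField y) _ hP hπ).mpr (geoSch_of_cover _ hP fun z => ?_)
    let x := (pullback.fst f (pt hV q.asIdeal)) z
    have hxV : x ∈ f ⁻¹ᵁ V := by
      change f x ∈ V
      have hx : f x = pt hV q.asIdeal (pullback.snd f (pt hV q.asIdeal) z) := by
        rw [← Scheme.Hom.comp_apply, ← Scheme.Hom.comp_apply, pullback.condition]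
      rw [hx]; change hV.fromSpec _ ∈ (V : Set Y)
      have : hV.fromSpec (Spec.map (CommRingCat.ofHom (algebraMap Γ(Y, V) q.asIdeal.ResidueField))
        (pullback.snd f (pt hV q.asIdeal) z)) ∈ Set.range hV.fromSpec := ⟨_, rfl⟩
      rw [hV.range_fromSpec] at this
      exact this
    obtain ⟨U, hU, hxU, hUV⟩ := exists_isAffineOpen_mem_and_subset hxV
    letI := (f.appLE V U hUV).hom.toAlgebra
    obtain ⟨c, hc, hcw, hr⟩ := exists_fibre_chart f hV hU hUV q.asIdeal
    exact ⟨_, inferInstance, inferInstance, c, hc, by rw [hr]; exact hxU, hcw, h U V hU hV hUV q.asIdeal⟩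

theorem flat_iff_appLE : Flat f ↔ ∀ (U : X.Opens) (V : Y.Opens) (_ : IsAffineOpen U) (_ : IsAffineOpen V)
    (hUV : U ≤ f ⁻¹ᵁ V), (f.appLE V U hUV).hom.Flat :=
  ⟨fun _ U V hU hV hUV => f.flat_appLE hV hU hUV,
    fun h => (HasRingHomProperty.iff_appLE (P := @Flat)).mpr fun V U e => h U.1 V.1 U.2 V.2 e⟩

theorem hom_iff {P : ∀ (R : Type u) [CommRing R], Prop} (hP : Adm P)
    [hN : ∀ y, IsLocallyNoetherian (f.fiber y)] :
    (∀ (U : X.Opens) (V : Y.Opens) (_ : IsAffineOpen U) (_ : IsAffineOpen V) (hUV : U ≤ f ⁻¹ᵁ V),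
      letI := (f.appLE V U hUV).hom.toAlgebra
      Module.Flat Γ(Y, V) Γ(X, U) ∧
        ∀ (p : Ideal Γ(Y, V)) [p.IsPrime], GeoRing P p.ResidueField (p.Fiber Γ(X, U))) ↔
      Flat f ∧ GeoFib f P := by
  rw [geoFib_iff f hP, flat_iff_appLE]
  exact ⟨fun h => ⟨fun U V hU hV e => (h U V hU hV e).1, fun U V hU hV e p _ => (h U V hU hV e).2 p⟩,
    fun h U V hU hV e => ⟨h.1 U V hU hV e, fun p _ => h.2 U V hU hV e p⟩⟩

theorem flat_descends {X' Y' : Scheme.{u}} (f' : X' ⟶ Y') (g' : X' ⟶ X) (g : Y' ⟶ Y) [Flat g] [Surjective g]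
    (hc : IsPullback g' f' f g) [Flat f'] : Flat f := by
  haveI : Surjective g' := MorphismProperty.of_isPullback hc.flip inferInstance
  haveI : Flat g' := MorphismProperty.of_isPullback hc.flip inferInstance
  refine (Flat.iff_flat_stalkMap f).mpr fun x => ?_
  obtain ⟨x', rfl⟩ := g'.surjective x
  have h : ((g' ≫ f).stalkMap x').hom.Flat :=
    (Groth.L23.flat_stalkMap_congr hc.w x').2
      (Groth.L23.flat_stalkMap_comp f' g x' (Flat.stalkMap f' x') (Flat.stalkMap g _))
  exact Groth.L20.flat_stalkMap_of_comp g' f x' h (Flat.stalkMap g' x')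

theorem geoFib_iff_baseChange {P : ∀ (R : Type u) [CommRing R], Prop} (hP : Adm P) {X' Y' : Scheme.{u}}
    (f' : X' ⟶ Y') (g' : X' ⟶ X) (g : Y' ⟶ Y) [LocallyOfFiniteType g] [Surjective g]
    (hc : IsPullback g' f' f g) [hN : ∀ y, IsLocallyNoetherian (f.fiber y)] :
    GeoFib f P ↔ GeoFib f' P := by
  have key : ∀ y' : Y', GeoSch P (k := Y.residueField (g y')) (f.fiberToSpecResidueField (g y')) ↔
      GeoSch P (k := Y'.residueField y') (f'.fiberToSpecResidueField y') := by
    intro y'
    letI : Algebra (Y.residueField (g y')) (Y'.residueField y') := (g.residueFieldMap y').hom.toAlgebra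
    haveI : Algebra.EssFiniteType (Y.residueField (g y')) (Y'.residueField y') :=
      IntermediateField.fg_top_iff.1 (Groth.L21.GorensteinBaseChange.fg_residueFieldMap g y')
    exact geoSch_iff_baseChange _ hP (isPullback_fiberToSpecResidueField_of_isPullback hc y')
  exact ⟨fun h y' => (key y').mp (h _), fun h y => by obtain ⟨y', rfl⟩ := g.surjective y; exact (key y').mpr (h y')⟩

theorem hom_iff_baseChange {P : ∀ (R : Type u) [CommRing R], Prop} (hP : Adm P) {X' Y' : Scheme.{u}}
    (f' : X' ⟶ Y') (g' : X' ⟶ X) (g : Y' ⟶ Y) [Flat g] [LocallyOfFiniteType g] [Surjective g]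
    (hc : IsPullback g' f' f g) (hN : ∀ y, IsLocallyNoetherian (f.fiber y))
    (hN' : ∀ y, IsLocallyNoetherian (f'.fiber y)) :
    (∀ (U : X.Opens) (V : Y.Opens) (_ : IsAffineOpen U) (_ : IsAffineOpen V) (hUV : U ≤ f ⁻¹ᵁ V),
      letI := (f.appLE V U hUV).hom.toAlgebra
      Module.Flat Γ(Y, V) Γ(X, U) ∧
        ∀ (p : Ideal Γ(Y, V)) [p.IsPrime], GeoRing P p.ResidueField (p.Fiber Γ(X, U))) ↔
    (∀ (U : X'.Opens) (V : Y'.Opens) (_ : IsAffineOpen U) (_ : IsAffineOpen V) (hUV : U ≤ f' ⁻¹ᵁ V),
      letI := (f'.appLE V U hUV).hom.toAlgebra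
      Module.Flat Γ(Y', V) Γ(X', U) ∧
        ∀ (p : Ideal Γ(Y', V)) [p.IsPrime], GeoRing P p.ResidueField (p.Fiber Γ(X', U))) := by
  haveI := hN
  haveI := hN'
  rw [hom_iff f hP, hom_iff f' hP, geoFib_iff_baseChange f hP f' g' g hc]
  exact and_congr_left fun _ => ⟨fun _ => MorphismProperty.of_isPullback hc inferInstance,
    fun _ => flat_descends f f' g' g hc⟩

end Morphism

end Groth.L06.GeomFibreLocal
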