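import Groth.Agent.L06.PropInstances
import Groth.Agent.L06.J0Complete
import Groth.Agent.L06.J2Dim
import Groth.Agent.L05.Hensel.IntegralDomain
import Groth.Agent.L05.Hensel.Perm
import Groth.Agent.S0568
import Groth.Agent.S4696
import Groth.Agent.S9405

/-! Fibres of a flat local homomorphism of complete local rings from the closed fibre (EGA IV 7.9). -/

set_option autoImplicit false
set_option maxSynthPendingDepth 3
set_option linter.style.haveILetI false
universe u

namespace Groth.L06.GeomLocal

open IsLocalRing PropLoc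
open scoped TensorProduct

theorem finite_quotient_pow {C D : Type u} [CommRing C] [CommRing D] [Algebra C D] [IsNoetherianRing D]
    (M : Ideal D) [Module.Finite C (D ⧸ M)] : ∀ N : ℕ, Module.Finite C (D ⧸ M ^ N) := by
  intro N
  induction N with
  | zero =>
    haveI : Subsingleton (D ⧸ M ^ 0) := Ideal.Quotient.subsingleton_iff.mpr (by rw [pow_zero, Ideal.one_eq_top])
    exact Module.Finite.of_finite
  | succ N ih =>
    let f : (D ⧸ M ^ (N + 1)) →ₗ[C] D ⧸ M ^ N := (Ideal.Quotient.factorₐ C (Ideal.pow_le_pow_right (Nat.le_succ N))).toLinearMap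
    have hker : Module.Finite C (LinearMap.ker f) := by
      obtain ⟨G, hG⟩ := IsNoetherian.noetherian (M ^ N)
      obtain ⟨E, hE⟩ := (inferInstance : Module.Finite C (D ⧸ M)).fg_top
      choose r hr using fun z : D ⧸ M => Ideal.Quotient.mk_surjective z
      classical
      refine Module.Finite.iff_fg.mpr ⟨(E ×ˢ G).image fun z => Ideal.Quotient.mk (M ^ (N + 1)) (r z.1 * z.2), le_antisymm ?_ ?_⟩
      · rw [Submodule.span_le]
        intro w hw
        obtain ⟨⟨z, g⟩, hzg, rfl⟩ := Finset.mem_image.mp hw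
        show Ideal.Quotient.mk (M ^ N) (r z * g) = 0
        exact Ideal.Quotient.eq_zero_iff_mem.mpr (Ideal.mul_mem_left _ _ (hG ▸ Submodule.subset_span (Finset.mem_product.mp hzg).2))
      · intro w hw
        obtain ⟨w, rfl⟩ := Ideal.Quotient.mk_surjective w
        have hwN : w ∈ M ^ N := Ideal.Quotient.eq_zero_iff_mem.mp hw
        set S := Submodule.span C (↑((E ×ˢ G).image fun z => Ideal.Quotient.mk (M ^ (N + 1)) (r z.1 * z.2)) : Set (D ⧸ M ^ (N + 1))) with hS
        suffices key : ∀ g ∈ G, ∀ d : D, Ideal.Quotient.mk (M ^ (N + 1)) (d * g) ∈ S by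
          have key' : ∀ v ∈ Submodule.span D (G : Set D), ∀ d : D, Ideal.Quotient.mk (M ^ (N + 1)) (d * v) ∈ S := by
            intro v hv
            induction hv using Submodule.span_induction with
            | mem g hg => exact key g hg
            | zero => intro d; rw [mul_zero, map_zero]; exact zero_mem _
            | add a b _ _ ha hb => intro d; rw [mul_add, map_add]; exact add_mem (ha d) (hb d)
            | smul c a _ ha => intro d; rw [smul_eq_mul, ← mul_assoc]; exact ha (d * c)
          simpa using key' w (hG.symm ▸ hwN) 1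
        intro g hg d
        have hd : Ideal.Quotient.mk M d ∈ Submodule.span C (E : Set (D ⧸ M)) := hE ▸ Submodule.mem_top
        have hgN : g ∈ M ^ N := hG ▸ Submodule.subset_span hg
        obtain ⟨cf, -, hcf⟩ := Submodule.mem_span_finset.mp hd
        have hdiff : d * g - (∑ z ∈ E, cf z • r z) * g ∈ M ^ (N + 1) := by
          rw [← sub_mul, pow_succ']
          refine Ideal.mul_mem_mul ?_ hgN
          rw [← Ideal.Quotient.eq, map_sum, ← hcf]
          refine Finset.sum_congr rfl fun z _ => ?_
          rw [← Ideal.Quotient.mkₐ_eq_mk C, map_smul, Ideal.Quotient.mkₐ_eq_mk, hr]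
        rw [Ideal.Quotient.eq.mpr hdiff, Finset.sum_mul, map_sum]
        refine Submodule.sum_mem _ fun z hz => ?_
        rw [smul_mul_assoc, ← Ideal.Quotient.mkₐ_eq_mk C, map_smul]
        exact Submodule.smul_mem _ _ (Submodule.subset_span (Finset.mem_image.mpr ⟨(z, g), Finset.mem_product.mpr ⟨hz, hg⟩, rfl⟩))
    haveI := hker
    haveI := ih
    have hf : Function.Surjective f := Ideal.Quotient.factor_surjective (Ideal.pow_le_pow_right (Nat.le_succ N))
    haveI : Module.Finite C ((D ⧸ M ^ (N + 1)) ⧸ LinearMap.ker f) := Module.Finite.equiv (f.quotKerEquivOfSurjective hf).symm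
    exact Module.Finite.of_submodule_quotient (LinearMap.ker f)

theorem isNoetherianRing_right {A B C : Type u} [CommRing A] [CommRing B] [CommRing C] [Algebra A B] [Algebra A C]
    [IsNoetherianRing B] [Module.Finite A C] : IsNoetherianRing (C ⊗[A] B) := by
  haveI : IsNoetherianRing (B ⊗[A] C) := IsNoetherianRing.of_finite B _
  exact isNoetherianRing_of_ringEquiv _ (Algebra.TensorProduct.comm A B C).toRingEquiv

theorem isMaximal_comap_right {A B C : Type u} [CommRing A] [CommRing B] [CommRing C] [Algebra A B] [Algebra A C]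
    [Module.Finite A C] (M : Ideal (C ⊗[A] B)) [M.IsMaximal] :
    (M.comap (Algebra.TensorProduct.includeRight (R := A) (A := C) (B := B)).toRingHom).IsMaximal := by
  let e := (Algebra.TensorProduct.comm A B C).toRingEquiv
  haveI : (M.comap e.toRingHom).IsMaximal := Ideal.comap_isMaximal_of_surjective e.toRingHom e.surjective
  haveI : Algebra.IsIntegral B (B ⊗[A] C) := Algebra.IsIntegral.of_finite B _
  have := Ideal.isMaximal_comap_of_isIntegral_of_isMaximal (R := B) (M.comap e.toRingHom)
  rw [show M.comap (Algebra.TensorProduct.includeRight (R := A) (A := C) (B := B)).toRingHom =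
    (M.comap e.toRingHom).comap (algebraMap B (B ⊗[A] C)) by
      rw [Ideal.comap_comap]
      congr 1]
  exact this

variable {Q : ∀ (R : Type u) [CommRing R], Prop} (hQ : Good Q)
include hQ

set_option maxHeartbeats 1000000 in
theorem core {A B : Type u} [CommRing A] [IsDomain A] [IsLocalRing A] [IsNoetherianRing A]
    [IsAdicComplete (maximalIdeal A) A] [CommRing B] [IsNoetherianRing B] [Algebra A B] [Module.Flat A B]
    (hA : ¬ IsField A)
    (hmax : ∀ (M : Ideal B), M.IsMaximal → M.comap (algebraMap A B) = maximalIdeal A)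
    (hloc : ∀ (q : Ideal B), q.IsPrime → IsLocalRing (B ⧸ q))
    (hres : ∀ (M : Ideal B), M.IsMaximal → Module.Finite A (B ⧸ M))
    (H : ∀ (k' : Type u) [Field k'] [Algebra A k'], Module.Finite A k' → Loc Q (k' ⊗[A] B))
    (q : Ideal B) [q.IsPrime] (hq : q.comap (algebraMap A B) = ⊥) : Q (Localization.AtPrime q) := by
  classical
  obtain ⟨f0, hf0, hJ0⟩ := J0Complete.j0_of_finiteType (A := A) (B := A)
  obtain ⟨a, ha, ha0⟩ : ∃ a ∈ maximalIdeal A, a ≠ 0 :=
    Submodule.exists_mem_ne_zero_of_ne_bot (IsLocalRing.isField_iff_maximalIdeal_eq.not.mp hA)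
  let f := f0 * a
  have hf : algebraMap A B f ∉ q := fun h => mul_ne_zero hf0 ha0
    (by have h' : f ∈ q.comap (algebraMap A B) := h; rwa [hq, Ideal.mem_bot] at h')
  obtain ⟨q', hq', hmaxq⟩ := set_has_maximal_iff_noetherian.mpr (inferInstance : IsNoetherian B B)
    {Q : Ideal B | Q.IsPrime ∧ q ≤ Q ∧ algebraMap A B f ∉ Q} ⟨q, inferInstance, le_rfl, hf⟩
  obtain ⟨hq'p, hqq', hfq'⟩ := hq'
  haveI := hq'p
  -- the one dimensional quotient
  let D := B ⧸ q'
  haveI : IsLocalRing D := hloc q' hq'p
  let y : D := Ideal.Quotient.mk q' (algebraMap A B f)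
  have hy0 : y ≠ 0 := fun h => hfq' (Ideal.Quotient.eq_zero_iff_mem.mp h)
  have hprimes : ∀ P : Ideal D, P.IsPrime → P ≠ ⊥ → y ∈ P := by
    intro P hP hne
    by_contra hyP
    have hle : q' ≤ P.comap (Ideal.Quotient.mk q') := fun z hz => by
      rw [Ideal.mem_comap, Ideal.Quotient.eq_zero_iff_mem.mpr hz]; exact P.zero_mem
    refine hmaxq (P.comap (Ideal.Quotient.mk q')) ⟨Ideal.IsPrime.comap _, hqq'.trans hle, hyP⟩ (lt_of_le_of_ne hle fun heq => hne ?_)
    rw [← Ideal.map_comap_of_surjective _ Ideal.Quotient.mk_surjective P, ← heq, Ideal.map_quotient_self]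
  have hymax : y ∈ maximalIdeal D := by
    let M := (maximalIdeal D).comap (Ideal.Quotient.mk q')
    haveI : M.IsMaximal := Ideal.comap_isMaximal_of_surjective _ Ideal.Quotient.mk_surjective
    have hfm : f ∈ maximalIdeal A := Ideal.mul_mem_left _ _ ha
    rw [← hmax M inferInstance] at hfm
    exact hfm
  have hnf : ¬ IsField D := fun h => by
    rw [IsLocalRing.isField_iff_maximalIdeal_eq.mp h, Ideal.mem_bot] at hymax
    exact hy0 hymax
  have hdimle : ∀ P : Ideal D, P.IsPrime → P ≠ ⊥ → P = maximalIdeal D := by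
    intro P hP hne
    by_contra hPm
    have hS : ((Ideal.span {y}).minimalPrimes).Finite := Ideal.finite_minimalPrimes_of_isNoetherianRing _ _
    have hcov : (maximalIdeal D : Set D) ⊆ ⋃ R ∈ hS.toFinset, (R : Set D) := by
      intro z hz
      by_cases hz0 : z = 0
      · obtain ⟨R, hR, hRm⟩ := Ideal.exists_minimalPrimes_le (I := Ideal.span {y}) (J := maximalIdeal D)
          ((Ideal.span_singleton_le_iff_mem _).mpr hymax)
        exact Set.mem_biUnion (hS.mem_toFinset.mpr hR) (hz0 ▸ R.zero_mem)
      obtain ⟨R, hR, hRm⟩ := Ideal.exists_minimalPrimes_le (I := Ideal.span {z}) (J := maximalIdeal D)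
        ((Ideal.span_singleton_le_iff_mem _).mpr hz)
      haveI : R.IsPrime := hR.1.1
      have hzR : z ∈ R := hR.1.2 (Ideal.mem_span_singleton_self z)
      have hR0 : R ≠ ⊥ := fun h => hz0 (by simpa [h] using hzR)
      have hht : R.height ≤ 1 := Ideal.height_le_one_of_isPrincipal_of_mem_minimalPrimes (Ideal.span {z}) R hR
      refine Set.mem_biUnion (hS.mem_toFinset.mpr ⟨⟨inferInstance, (Ideal.span_singleton_le_iff_mem _).mpr (hprimes R inferInstance hR0)⟩, fun R' hR' hle => ?_⟩) hzR
      obtain ⟨hR'p, hR'y⟩ := hR'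
      haveI := hR'p
      have hR'0 : R' ≠ ⊥ := fun h => hy0 (by simpa [h] using hR'y (Ideal.mem_span_singleton_self y))
      rcases eq_or_lt_of_le hle with h | h
      · exact h.ge
      · exfalso
        have h2 := (Ideal.height_add_one_le_of_lt_of_isPrime h).trans hht
        have h1 : R'.height = 0 := by
          have h3 : R'.height + 1 ≤ 0 + 1 := by rwa [zero_add]
          exact le_antisymm ((ENat.add_le_add_iff_right ENat.one_ne_top).mp h3) bot_le
        rw [Ideal.height_eq_zero_iff, IsDomain.minimalPrimes_eq_singleton_bot, Set.mem_singleton_iff] at h1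
        exact hR'0 h1
    obtain ⟨R, hR, hle⟩ := (Ideal.subset_union_prime (⊥ : Ideal D) (⊥ : Ideal D) fun R hR _ _ => (hS.mem_toFinset.mp hR).1.1).mp hcov
    have hR' := hS.mem_toFinset.mp hR
    have hRm : R = maximalIdeal D := le_antisymm (le_maximalIdeal hR'.1.1.ne_top) hle
    exact hPm (le_antisymm (le_maximalIdeal hP.ne_top) (hRm ▸ hR'.2 ⟨hP, (Ideal.span_singleton_le_iff_mem _).mpr (hprimes P hP hne)⟩
      (hRm ▸ le_maximalIdeal hP.ne_top)))
  let P : Ideal A := Ideal.comap (algebraMap A B) q'
  have hfP : f ∉ P := hfq'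
  haveI : P.IsPrime := Ideal.IsPrime.comap _
  let C := A ⧸ P
  haveI : IsLocalRing C := IsLocalRing.of_surjective' _ Ideal.Quotient.mk_surjective
  haveI := Groth.L01.NagataComplete.isAdicComplete_quotient P
  letI : Algebra C D := (Ideal.quotientMap q' (algebraMap A B) le_rfl).toAlgebra
  haveI : IsScalarTower A C D := IsScalarTower.of_algebraMap_eq fun z => rfl
  have hCD : Function.Injective (algebraMap C D) := Ideal.quotientMap_injective' le_rfl
  -- finiteness
  haveI hfinD : Module.Finite C D := by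
    let I := (maximalIdeal C).map (algebraMap C D)
    have hyI : y ∈ I := by
      have h1 : Ideal.Quotient.mk P f ∈ maximalIdeal C := by
        rw [← IsLocalRing.map_maximalIdeal_of_surjective (Ideal.Quotient.mk P) Ideal.Quotient.mk_surjective]
        exact Ideal.mem_map_of_mem _ (Ideal.mul_mem_left _ _ ha)
      exact Ideal.mem_map_of_mem (algebraMap C D) h1
    have hIm : I ≤ maximalIdeal D := by
      rw [Ideal.map_le_iff_le_comap]
      intro z hz
      obtain ⟨z, rfl⟩ := Ideal.Quotient.mk_surjective z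
      rw [← IsLocalRing.map_maximalIdeal_of_surjective (Ideal.Quotient.mk P) Ideal.Quotient.mk_surjective,
        ← Ideal.mem_comap, Ideal.comap_map_of_surjective _ Ideal.Quotient.mk_surjective, ← RingHom.ker_eq_comap_bot,
        Ideal.mk_ker, sup_eq_left.mpr (le_maximalIdeal (Ideal.IsPrime.ne_top ‹P.IsPrime›))] at hz
      let M := (maximalIdeal D).comap (Ideal.Quotient.mk q')
      haveI : M.IsMaximal := Ideal.comap_isMaximal_of_surjective _ Ideal.Quotient.mk_surjective
      rw [← hmax M inferInstance] at hz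
      exact hz
    have hrad : maximalIdeal D ≤ I.radical := by
      rw [Ideal.radical_eq_sInf]
      refine le_sInf fun R ⟨hIR, hR⟩ => ?_
      exact (hdimle R hR fun h => hy0 (by simpa [h] using hIR hyI)).ge
    obtain ⟨N, hN⟩ := Ideal.exists_pow_le_of_le_radical_of_fg hrad (IsNoetherian.noetherian _)
    let M := (maximalIdeal D).comap (Ideal.Quotient.mk q')
    haveI : M.IsMaximal := Ideal.comap_isMaximal_of_surjective _ Ideal.Quotient.mk_surjective
    haveI := hres M inferInstance
    haveI : Module.Finite A (D ⧸ maximalIdeal D) := by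
      let g : (B ⧸ M) →ₐ[A] (D ⧸ maximalIdeal D) := Ideal.Quotient.liftₐ M
        ((Ideal.Quotient.mkₐ A (maximalIdeal D)).comp (Ideal.Quotient.mkₐ A q')) fun z hz => Ideal.Quotient.eq_zero_iff_mem.mpr hz
      refine Module.Finite.of_surjective g.toLinearMap fun z => ?_
      obtain ⟨z, rfl⟩ := Ideal.Quotient.mk_surjective z
      obtain ⟨z, rfl⟩ := Ideal.Quotient.mk_surjective z
      exact ⟨Ideal.Quotient.mk M z, rfl⟩
    haveI : Module.Finite C (D ⧸ maximalIdeal D) := Module.Finite.of_restrictScalars_finite A C _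
    haveI := finite_quotient_pow (C := C) (maximalIdeal D) N
    haveI : Module.Finite C (D ⧸ I) := Module.Finite.of_surjective (Ideal.Quotient.factorₐ C hN).toLinearMap
      (Ideal.Quotient.factor_surjective hN)
    haveI : IsHausdorff (maximalIdeal C) D := by
      refine ⟨fun z hz => ?_⟩
      have hb : (⨅ i, I ^ i) = ⊥ := Ideal.iInf_pow_eq_bot_of_isLocalRing _ fun htop =>
        (maximalIdeal.isMaximal D).ne_top (top_le_iff.mp (htop ▸ hIm))
      rw [← Submodule.mem_bot D, ← hb, Submodule.mem_iInf]
      intro i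
      have := SModEq.zero.mp (hz i)
      rwa [Ideal.smul_top_eq_map, Submodule.restrictScalars_mem, Ideal.map_pow] at this
    refine Groth.Agent.S0544.result C (maximalIdeal C) D ?_
    exact Module.Finite.equiv ((Submodule.quotEquivOfEq _ _ (Ideal.smul_top_eq_map (maximalIdeal C))) ≪≫ₗ
      Submodule.Quotient.restrictScalarsEquiv C I).symm
  haveI : Algebra.IsIntegral C D := Algebra.IsIntegral.of_finite C D
  have hdimC : ringKrullDim C ≤ 1 := by
    rw [← Groth.L22.AffineDim.ringKrullDim_eq_of_isIntegral hCD]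
    haveI : Ring.KrullDimLE 1 D := Ring.krullDimLE_one_iff_of_noZeroDivisors.mpr fun R hne hR => hdimle R hR hne ▸ maximalIdeal.isMaximal D
    exact Ring.krullDimLE_iff.mp ‹_›
  have hCnf : ¬ IsField C := fun h => hnf (isField_of_isIntegral_of_isField' h)
  -- the normalization of the quotient
  let L := FractionRing C
  let C' := integralClosure C L
  letI : CommRing C' := Subalgebra.toCommRing (integralClosure C L)
  haveI : Module.Finite C C' := (Groth.Agent.S0568.result A).2 P L inferInstance
  haveI : IsNoetherianRing C' := IsNoetherianRing.of_finite C C'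
  haveI : IsFractionRing C' L := integralClosure.isFractionRing_of_finite_extension L L
  haveI : IsIntegrallyClosed C' := integralClosure.isIntegrallyClosedOfFiniteExtension L
  haveI := J2.dimensionLEOne_of_finite hdimC C'
  haveI : IsDedekindDomain C' := { }
  haveI : HenselianLocalRing C := Groth.L05.henselianLocalRing_of_henselianRing
  haveI : IsLocalRing C' := Groth.L05.isLocalRing_of_finite_domain (A := C) C'
  have hC'nf : ¬ IsField C' := fun h => by
    haveI : Algebra.IsIntegral C C' := Algebra.IsIntegral.of_finite C C'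
    exact hCnf (isField_of_isIntegral_of_isField (S := C') (fun a b hab => IsFractionRing.injective C L (congrArg Subtype.val hab)) h)
  haveI : IsDiscreteValuationRing C' :=
    ((IsDiscreteValuationRing.TFAE C' hC'nf).out 0 2 rfl rfl).mpr inferInstance
  obtain ⟨t, ht⟩ := IsDiscreteValuationRing.exists_irreducible C'
  have htm := ht.maximalIdeal_eq
  haveI : Module.Finite A C' := Module.Finite.trans C C'
  let B2 := ↥C' ⊗[A] B
  haveI : IsNoetherianRing B2 := isNoetherianRing_right (A := A) (B := B) (C := C')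
  have hB2 : Loc Q B2 := by
    refine loc_of_maximal hQ fun M hM => ?_
    haveI := isMaximal_comap_right M
    let P2 := M.comap (algebraMap C' B2)
    haveI : P2.IsPrime := Ideal.IsPrime.comap _
    have hP2 : P2.comap (algebraMap A C') = maximalIdeal A := by
      rw [← hmax _ ‹(M.comap (Algebra.TensorProduct.includeRight (R := A) (A := C') (B := B)).toRingHom).IsMaximal›,
        Ideal.comap_comap, Ideal.comap_comap, AlgHom.toRingHom_eq_coe, AlgHom.comp_algebraMap]
      rfl
    haveI : Algebra.IsIntegral A C' := Algebra.IsIntegral.of_finite A C'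
    have hP2m : P2 = maximalIdeal C' := IsLocalRing.eq_maximalIdeal
      (Ideal.isMaximal_of_isIntegral_of_isMaximal_comap (R := A) P2 (hP2 ▸ maximalIdeal.isMaximal A))
    have htM : algebraMap C' B2 t ∈ M := by
      have : t ∈ P2 := by rw [hP2m, htm]; exact Ideal.mem_span_singleton_self t
      exact this
    haveI : Module.Flat C' B2 := inferInstance
    have hreg' : algebraMap B2 (Localization.AtPrime M) (algebraMap C' B2 t) ∈ nonZeroDivisors (Localization.AtPrime M) := by
      haveI : Module.Flat C' (Localization.AtPrime M) := Module.Flat.trans C' B2 (Localization.AtPrime M)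
      refine mem_nonZeroDivisors_iff_right.mpr fun z hz => ?_
      have h1 : IsSMulRegular C' t := isSMulRegular_iff_right_eq_zero_of_smul.mpr fun c hc =>
        (mul_eq_zero.mp hc).resolve_left ht.ne_zero
      refine (IsSMulRegular.of_flat (S := Localization.AtPrime M) h1).right_eq_zero_of_smul ?_
      rw [IsScalarTower.algebraMap_apply C' B2 (Localization.AtPrime M), smul_eq_mul, mul_comm]
      exact hz
    refine hQ.lift _ ((IsLocalization.AtPrime.to_map_mem_maximal_iff _ M _).mpr htM) hreg'
      (quotient_span_localization hQ _ M htM ?_)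
    haveI : (Ideal.span {t}).IsMaximal := htm ▸ maximalIdeal.isMaximal C'
    letI : Field (C' ⧸ Ideal.span {t}) := Ideal.Quotient.field _
    haveI : Module.Finite A (C' ⧸ Ideal.span {t}) := Module.Finite.trans C' _
    have e : ((C' ⧸ Ideal.span {t}) ⊗[A] B) ≃+* (↥C' ⊗[A] B) ⧸ Ideal.span {algebraMap C' (↥C' ⊗[A] B) t} :=
      (((Algebra.TensorProduct.cancelBaseChange A C' C' (C' ⧸ Ideal.span {t}) B).symm.toRingEquiv).trans
        (Algebra.TensorProduct.comm C' (C' ⧸ Ideal.span {t}) B2).toRingEquiv).trans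
        ((Algebra.TensorProduct.quotIdealMapEquivTensorQuot B2 (Ideal.span {t})).symm.toRingEquiv.trans
          (Ideal.quotEquivOfEq (by rw [Ideal.map_span, Set.image_singleton])))
    haveI : IsNoetherianRing ((C' ⧸ Ideal.span {t}) ⊗[A] B) := isNoetherianRing_right (A := A) (B := B)
    exact loc_of_ringEquiv hQ e (H (C' ⧸ Ideal.span {t}) inferInstance)
  -- the fibre over `P`
  have hfib : Loc Q (P.Fiber B) := by
    letI : Algebra B2 (L ⊗[C'] B2) := Algebra.TensorProduct.rightAlgebra
    haveI : IsLocalization (Algebra.algebraMapSubmonoid B2 (nonZeroDivisors C')) (L ⊗[C'] B2) :=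
      IsLocalization.tensorRight (R := C') (S := B2) L (nonZeroDivisors C')
    have h1 := loc_localization hQ (Algebra.algebraMapSubmonoid B2 (nonZeroDivisors C')) (L ⊗[C'] B2) hB2
    let eL : L ≃ₐ[A] P.ResidueField := (IsLocalization.algEquiv (nonZeroDivisors C) L P.ResidueField).restrictScalars A
    have e : (L ⊗[C'] B2) ≃+* P.Fiber B :=
      ((Algebra.TensorProduct.cancelBaseChange A C' C' L B).toRingEquiv).trans
        (Algebra.TensorProduct.congr eL (AlgEquiv.refl : B ≃ₐ[A] B)).toRingEquiv
    haveI : IsNoetherianRing (L ⊗[C'] B2) :=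
      IsLocalization.isNoetherianRing (Algebra.algebraMapSubmonoid B2 (nonZeroDivisors C')) (L ⊗[C'] B2) inferInstance
    exact loc_of_ringEquiv hQ e h1
  obtain ⟨i, hl, hfl, qf, hqf, ⟨e⟩⟩ := Groth.L06.FlatFibre.exists_local_fibre P q' (S := B)
  letI := i
  haveI := hl
  haveI := hfl
  haveI hRP : IsRegularLocalRing (Localization.AtPrime P) := hJ0 ⟨P, inferInstance⟩ fun h => hfP (Ideal.mul_mem_right _ _ h)
  obtain ⟨d, hd⟩ := Groth.L01.exists_dim_eq_nat (R := Localization.AtPrime P)
  haveI : IsNoetherianRing (P.Fiber B) := by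
    haveI := Groth.L06.FibreComp.isNoetherianRing_baseChange (B := B) P P.ResidueField
    exact isNoetherianRing_of_ringEquiv _ (Algebra.TensorProduct.comm A P.ResidueField B).toRingEquiv.symm
  exact of_le hQ hqq' (of_regular_base hQ d hd (hQ.of_equiv e (hfib qf)))

set_option maxHeartbeats 1000000 in
/-- all fibres of a flat local homomorphism of complete local rings -/
theorem complete_case {A B : Type u} [CommRing A] [IsLocalRing A] [IsNoetherianRing A]
    [IsAdicComplete (maximalIdeal A) A] [CommRing B] [IsLocalRing B] [IsNoetherianRing B]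
    [IsAdicComplete (maximalIdeal B) B] [Algebra A B] [IsLocalHom (algebraMap A B)] [Module.Flat A B]
    [Module.Finite A (B ⧸ maximalIdeal B)]
    (H : ∀ (k' : Type u) [Field k'] [Algebra A k'], Module.Finite A k' → Loc Q (k' ⊗[A] B))
    (p : Ideal A) [p.IsPrime] (K : Type u) [Field K] [Algebra p.ResidueField K] [Algebra A K]
    [IsScalarTower A p.ResidueField K] [Module.Finite p.ResidueField K] : Loc Q (K ⊗[A] B) := by
  classical
  by_cases hp : p.IsMaximal
  · haveI := hp
    haveI : Module.Finite A p.ResidueField := Module.Finite.of_surjective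
      (Algebra.linearMap A p.ResidueField) (Ideal.algebraMap_residueField_surjective p)
    haveI : Module.Finite A K := Module.Finite.trans p.ResidueField K
    exact H K inferInstance
  letI : Algebra (A ⧸ p) K := ((algebraMap p.ResidueField K).comp (algebraMap (A ⧸ p) p.ResidueField)).toAlgebra
  haveI : IsScalarTower (A ⧸ p) p.ResidueField K := IsScalarTower.of_algebraMap_eq' rfl
  haveI : IsScalarTower A (A ⧸ p) K := IsScalarTower.of_algebraMap_eq fun a => by
    rw [IsScalarTower.algebraMap_apply (A ⧸ p) p.ResidueField K, ← IsScalarTower.algebraMap_apply A (A ⧸ p) p.ResidueField,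
      ← IsScalarTower.algebraMap_apply A p.ResidueField K]
  let b := Module.finBasis p.ResidueField K
  choose m hm using fun i => IsIntegral.exists_multiple_integral_of_isLocalization (nonZeroDivisors (A ⧸ p)) (b i)
    (Algebra.IsIntegral.isIntegral (R := p.ResidueField) (b i))
  let sgen : Fin (Module.finrank p.ResidueField K) → K := fun i => m i • b i
  haveI : Algebra.IsIntegral A (A ⧸ p) := Algebra.IsIntegral.of_finite A _
  have hs : ∀ x ∈ Set.range sgen, IsIntegral A x := by
    rintro _ ⟨i, rfl⟩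
    exact isIntegral_trans (sgen i) (hm i)
  let A' := Algebra.adjoin A (Set.range sgen)
  letI : CommRing A' := Subalgebra.toCommRing (Algebra.adjoin A (Set.range sgen))
  haveI : Module.Finite A A' := ⟨(Submodule.fg_top _).mpr (fg_adjoin_of_finite (Set.finite_range sgen) hs)⟩
  haveI : IsNoetherianRing A' := IsNoetherianRing.of_finite A A'
  haveI : Algebra.IsIntegral A A' := Algebra.IsIntegral.of_finite A A'
  haveI : IsFractionRing A' K := by
    refine IsFractionRing.of_field A' K (fun z => ?_)
    let F := Subfield.closure (A' : Set K)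
    have hAF : ∀ x : A, algebraMap A K x ∈ F := fun x => Subfield.subset_closure (A'.algebraMap_mem x)
    have hκ : ∀ c : p.ResidueField, algebraMap p.ResidueField K c ∈ F := fun c => by
      obtain ⟨x, y, -, rfl⟩ := IsFractionRing.div_surjective (A := A ⧸ p) c
      obtain ⟨x, rfl⟩ := Ideal.Quotient.mk_surjective x
      obtain ⟨y, rfl⟩ := Ideal.Quotient.mk_surjective y
      rw [map_div₀, ← Ideal.Quotient.algebraMap_eq, ← IsScalarTower.algebraMap_apply, ← IsScalarTower.algebraMap_apply,
        ← IsScalarTower.algebraMap_apply, ← IsScalarTower.algebraMap_apply]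
      exact div_mem (hAF x) (hAF y)
    have hb : ∀ i, b i ∈ F := fun i => by
      have hne : algebraMap (A ⧸ p) p.ResidueField (m i : A ⧸ p) ≠ 0 :=
        IsFractionRing.to_map_ne_zero_of_mem_nonZeroDivisors (m i).2
      have heq : sgen i = algebraMap p.ResidueField K (algebraMap (A ⧸ p) p.ResidueField (m i : A ⧸ p)) * b i := by
        show (m i : A ⧸ p) • b i = _
        rw [Algebra.smul_def, IsScalarTower.algebraMap_apply (A ⧸ p) p.ResidueField K]
      rw [show b i = sgen i / algebraMap p.ResidueField K (algebraMap (A ⧸ p) p.ResidueField (m i : A ⧸ p)) by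
        rw [heq, mul_div_cancel_left₀ _ ((map_ne_zero _).mpr hne)]]
      exact div_mem (Subfield.subset_closure (Algebra.subset_adjoin ⟨i, rfl⟩)) (hκ _)
    have hz : z ∈ F := by
      rw [← b.sum_repr z]
      exact sum_mem fun i _ => by rw [Algebra.smul_def]; exact mul_mem (hκ _) (hb i)
    obtain ⟨x, hx, y, hy, rfl⟩ := Subfield.mem_closure_iff.mp hz
    have hcl : Subring.closure (A' : Set K) ≤ A'.toSubring := Subring.closure_le.mpr fun w hw => hw
    exact ⟨⟨x, hcl hx⟩, ⟨y, hcl hy⟩, rfl⟩
  haveI : HenselianLocalRing A := Groth.L05.henselianLocalRing_of_henselianRing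
  haveI : HenselianLocalRing B := Groth.L05.henselianLocalRing_of_henselianRing
  haveI : IsLocalRing A' := Groth.L05.isLocalRing_of_finite_domain (A := A) A'
  haveI : IsAdicComplete (maximalIdeal A') A' := by
    let J := (maximalIdeal A).map (algebraMap A A')
    haveI : IsAdicComplete (maximalIdeal A) A' := Groth.Agent.S9405.isAdicComplete_of_finite _ _
    haveI : IsAdicComplete J A' := (IsAdicComplete.map_algebraMap_iff _ _).mpr ‹_›
    have hcomap := IsLocalRing.eq_maximalIdeal (Ideal.isMaximal_comap_of_isIntegral_of_isMaximal (R := A) (maximalIdeal A'))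
    have hJ : J ≤ maximalIdeal A' := Ideal.map_le_iff_le_comap.mpr hcomap.ge
    have hrad : maximalIdeal A' ≤ J.radical := by
      rw [Ideal.radical_eq_sInf]
      refine le_sInf fun R ⟨hJR, hR⟩ => ?_
      haveI := hR
      have hRA : R.comap (algebraMap A A') = maximalIdeal A :=
        ((maximalIdeal.isMaximal A).eq_of_le (Ideal.IsPrime.ne_top (Ideal.IsPrime.comap _)) (Ideal.map_le_iff_le_comap.mp hJR)).symm
      exact (IsLocalRing.eq_maximalIdeal (Ideal.isMaximal_of_isIntegral_of_isMaximal_comap (R := A) R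
        (hRA ▸ maximalIdeal.isMaximal A))).ge
    obtain ⟨N, hN⟩ := Ideal.exists_pow_le_of_le_radical_of_fg hrad (IsNoetherian.noetherian _)
    exact Groth.Agent.S9405.isAdicComplete_of_pow_le hJ hN
  have hA' : ¬ IsField A' := fun h => hp (by
    have hker : p = (⊥ : Ideal A').comap (algebraMap A A') := by
      ext x
      rw [Ideal.mem_comap, Ideal.mem_bot, ← Ideal.algebraMap_residueField_eq_zero (I := p),
        ← map_eq_zero (algebraMap p.ResidueField K), ← IsScalarTower.algebraMap_apply,
        IsScalarTower.algebraMap_apply A A' K, map_eq_zero_iff _ (IsFractionRing.injective A' K)]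
    haveI : (⊥ : Ideal A').IsMaximal := (IsLocalRing.isField_iff_maximalIdeal_eq.mp h) ▸ maximalIdeal.isMaximal A'
    exact hker ▸ Ideal.isMaximal_comap_of_isIntegral_of_isMaximal (R := A) (⊥ : Ideal A'))
  let e : B ⊗[A] A' ≃ₐ[A] A' ⊗[A] B := Algebra.TensorProduct.comm A B A'
  haveI : IsNoetherianRing (A' ⊗[A] B) := isNoetherianRing_right
  have hquot : ∀ (q : Ideal (A' ⊗[A] B)), Nonempty
      (((B ⊗[A] A') ⧸ q.comap e.toRingHom) ≃ₐ[A] (A' ⊗[A] B) ⧸ q) := fun q =>
    ⟨Ideal.quotientEquivAlg _ q e (Ideal.map_comap_of_surjective e.toRingHom e.surjective q).symm⟩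
  have hcore : ∀ (q : Ideal (A' ⊗[A] B)) [q.IsPrime], q.comap (algebraMap A' (A' ⊗[A] B)) = ⊥ →
      Q (Localization.AtPrime q) := by
    intro q _ hq
    refine core hQ hA' (fun M hM => ?_) (fun q _ => ?_) (fun M hM => ?_) (fun k' _ _ hk' => ?_) q hq
    · haveI := isMaximal_comap_right M
      haveI : (M.comap (algebraMap A' (A' ⊗[A] B))).IsPrime := Ideal.IsPrime.comap _
      refine IsLocalRing.eq_maximalIdeal (Ideal.isMaximal_of_isIntegral_of_isMaximal_comap (R := A) _ ?_)
      have h1 := IsLocalRing.eq_maximalIdeal ‹(M.comap (Algebra.TensorProduct.includeRight (R := A) (A := A') (B := B)).toRingHom).IsMaximal›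
      rw [Ideal.comap_comap, ← IsScalarTower.algebraMap_eq,
        ← AlgHom.comp_algebraMap (Algebra.TensorProduct.includeRight (R := A) (A := A') (B := B)), ← Ideal.comap_comap]
      rw [show M.comap ((Algebra.TensorProduct.includeRight (R := A) (A := A') (B := B)) : B →+* A' ⊗[A] B) = maximalIdeal B from h1,
        ((IsLocalRing.local_hom_TFAE (algebraMap A B)).out 0 4 rfl rfl).mp inferInstance]
      exact maximalIdeal.isMaximal A
    · haveI : (q.comap e.toRingHom).IsPrime := Ideal.IsPrime.comap _
      haveI : Module.Finite B ((B ⊗[A] A') ⧸ q.comap e.toRingHom) := Module.Finite.trans (B ⊗[A] A') _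
      haveI : IsLocalRing ((B ⊗[A] A') ⧸ q.comap e.toRingHom) :=
        Groth.L05.isLocalRing_of_finite_domain (A := B) ((B ⊗[A] A') ⧸ q.comap e.toRingHom)
      exact RingEquiv.isLocalRing (A := (B ⊗[A] A') ⧸ q.comap e.toRingHom) (hquot q).some.toRingEquiv
    · let M' := M.comap e.toRingHom
      haveI : M'.IsMaximal := Ideal.comap_isMaximal_of_surjective _ e.surjective
      haveI : Module.Finite B ((B ⊗[A] A') ⧸ M') := Module.Finite.trans (B ⊗[A] A') _
      haveI : Algebra.IsIntegral B (B ⊗[A] A') := Algebra.IsIntegral.of_finite B _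
      have hMB : maximalIdeal B ≤ M'.comap (algebraMap B (B ⊗[A] A')) :=
        (IsLocalRing.eq_maximalIdeal (Ideal.isMaximal_comap_of_isIntegral_of_isMaximal (R := B) M')).ge
      let f : (B ⧸ maximalIdeal B) →ₐ[A] (B ⊗[A] A') ⧸ M' := Ideal.Quotient.liftₐ (maximalIdeal B)
        ((Ideal.Quotient.mkₐ A M').comp (IsScalarTower.toAlgHom A B (B ⊗[A] A')))
        (fun x hx => Ideal.Quotient.eq_zero_iff_mem.mpr (hMB hx))
      letI : Algebra (B ⧸ maximalIdeal B) ((B ⊗[A] A') ⧸ M') := RingHom.toAlgebra (R := B ⧸ maximalIdeal B) (S := (B ⊗[A] A') ⧸ M') f.toRingHom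
      haveI : IsScalarTower A (B ⧸ maximalIdeal B) ((B ⊗[A] A') ⧸ M') :=
        IsScalarTower.of_algebraMap_eq fun x => (f.commutes x).symm
      haveI : IsScalarTower B (B ⧸ maximalIdeal B) ((B ⊗[A] A') ⧸ M') := IsScalarTower.of_algebraMap_eq fun x => rfl
      haveI : Module.Finite (B ⧸ maximalIdeal B) ((B ⊗[A] A') ⧸ M') := Module.Finite.of_restrictScalars_finite B _ _
      haveI : Module.Finite A ((B ⊗[A] A') ⧸ M') := Module.Finite.trans (B ⧸ maximalIdeal B) _
      haveI : Module.Finite A ((A' ⊗[A] B) ⧸ M) := Module.Finite.equiv (hquot M).some.toLinearEquiv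
      exact Module.Finite.of_restrictScalars_finite A A' _
    · letI : Algebra A k' := ((algebraMap A' k').comp (algebraMap A A')).toAlgebra
      haveI : IsScalarTower A A' k' := IsScalarTower.of_algebraMap_eq' rfl
      haveI := hk'
      haveI : Module.Finite A k' := Module.Finite.trans A' k'
      haveI : IsNoetherianRing (k' ⊗[A] B) := isNoetherianRing_right
      exact loc_of_ringEquiv hQ (Algebra.TensorProduct.cancelBaseChange A A' A' k' B).toRingEquiv.symm (H k' inferInstance)
  let T := A' ⊗[A] B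
  letI : Algebra T (K ⊗[A'] T) := Algebra.TensorProduct.rightAlgebra
  haveI : IsLocalization (Algebra.algebraMapSubmonoid T (nonZeroDivisors A')) (K ⊗[A'] T) :=
    IsLocalization.tensorRight (R := A') (S := T) K (nonZeroDivisors A')
  haveI : IsNoetherianRing (K ⊗[A'] T) :=
    IsLocalization.isNoetherianRing (Algebra.algebraMapSubmonoid T (nonZeroDivisors A')) (K ⊗[A'] T) inferInstance
  refine loc_of_ringEquiv hQ (Algebra.TensorProduct.cancelBaseChange A A' A' K B).toRingEquiv ?_
  intro P _
  let q := P.comap (algebraMap T (K ⊗[A'] T))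
  haveI : IsLocalization.AtPrime (Localization.AtPrime P) q :=
    IsLocalization.isLocalization_isLocalization_atPrime_isLocalization
      (Algebra.algebraMapSubmonoid T (nonZeroDivisors A')) (Localization.AtPrime P) P
  refine hQ.of_equiv (IsLocalization.algEquiv q.primeCompl (Localization.AtPrime q) (Localization.AtPrime P)).toRingEquiv
    (hcore q ((Submodule.eq_bot_iff _).mpr fun x hx => ?_))
  by_contra hx0
  have hu : IsUnit (algebraMap T (K ⊗[A'] T) (algebraMap A' T x)) := IsLocalization.map_units (K ⊗[A'] T)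
    (⟨_, Algebra.mem_algebraMapSubmonoid_of_mem (⟨x, mem_nonZeroDivisors_of_ne_zero hx0⟩ : nonZeroDivisors A')⟩ :
      Algebra.algebraMapSubmonoid T (nonZeroDivisors A'))
  exact Ideal.IsPrime.ne_top ‹P.IsPrime› (Ideal.eq_top_of_isUnit_mem _ hx hu)

omit hQ in
/-- in a tensor product over `A`, scalars from the completion move across a field killed by the maximal ideal -/
theorem compatibleSMul {A C k' N : Type u} [CommRing A] [CommRing C] [Algebra A C] (I : Ideal A)
    (hC : ∀ c : C, ∃ a : A, c - algebraMap A C a ∈ I.map (algebraMap A C))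
    [CommRing k'] [Algebra A k'] [Algebra C k'] [IsScalarTower A C k']
    (hI : ∀ a ∈ I, algebraMap A k' a = 0)
    [AddCommGroup N] [Module A N] [Module C N] [IsScalarTower A C N] :
    TensorProduct.CompatibleSMul A C k' N := by
  refine ⟨fun c x y => ?_⟩
  have hzero : ∀ (d : C), d ∈ I.map (algebraMap A C) → ∀ (x : k') (y : N),
      (d • x) ⊗ₜ[A] y = 0 ∧ x ⊗ₜ[A] (d • y) = 0 := by
    intro d hd
    induction hd using Submodule.span_induction with
    | mem d hd =>
      obtain ⟨a, ha, rfl⟩ := hd
      intro x y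
      have hax : a • x = 0 := by rw [Algebra.smul_def, hI a ha, zero_mul]
      refine ⟨?_, ?_⟩
      · rw [algebraMap_smul, hax, TensorProduct.zero_tmul]
      · rw [algebraMap_smul, ← TensorProduct.smul_tmul, hax, TensorProduct.zero_tmul]
    | zero => intro x y; simp
    | add d d' _ _ h h' =>
      intro x y
      simp [add_smul, TensorProduct.add_tmul, TensorProduct.tmul_add, h x y, h' x y]
    | smul r d _ h =>
      intro x y
      constructor
      · rw [smul_eq_mul, mul_comm, mul_smul]; exact (h (r • x) y).1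
      · rw [smul_eq_mul, mul_comm, mul_smul]; exact (h x (r • y)).2
  obtain ⟨a, ha⟩ := hC c
  have hc : c = algebraMap A C a + (c - algebraMap A C a) := by ring
  rw [hc, add_smul, add_smul, TensorProduct.add_tmul, TensorProduct.tmul_add, (hzero _ ha x y).1, (hzero _ ha x y).2,
    algebraMap_smul, algebraMap_smul, TensorProduct.smul_tmul]

omit hQ in
theorem exists_cpl_approx {A : Type u} [CommRing A] [IsLocalRing A] [IsNoetherianRing A] (c : EGA4.Cpl A) :
    ∃ a : A, c - algebraMap A (EGA4.Cpl A) a ∈ (maximalIdeal A).map (algebraMap A (EGA4.Cpl A)) := by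
  obtain ⟨z, hz⟩ := (AdicCompletion.residueField_map_bijective_of_fg (IsNoetherian.noetherian (maximalIdeal A))).2
    (IsLocalRing.residue _ c)
  obtain ⟨a, rfl⟩ := IsLocalRing.residue_surjective z
  refine ⟨a, ?_⟩
  rw [IsLocalRing.ResidueField.map_residue] at hz
  exact AdicCompletion.maximalIdeal_eq_map (R := A) ▸ Ideal.Quotient.eq.mp hz.symm

set_option maxHeartbeats 1000000 in
/-- EGA IV 7.9: properties of all fibres from the completed closed fibre -/
theorem general {A B : Type u} [CommRing A] [CommRing B] [IsNoetherianRing A] [IsNoetherianRing B]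
    [IsLocalRing A] [IsLocalRing B] [Algebra A B] [IsLocalHom (algebraMap A B)] [Module.Flat A B]
    [Module.Finite (IsLocalRing.ResidueField A) (IsLocalRing.ResidueField B)]
    (hA : ∀ (p : Ideal A) [p.IsPrime] (K : Type u) [Field K] [Algebra p.ResidueField K],
      Module.Finite p.ResidueField K → Loc Q (K ⊗[p.ResidueField] p.Fiber (EGA4.Cpl A)))
    (H : ∀ (k' : Type u) [Field k'] [Algebra (maximalIdeal A).ResidueField k'],
      Module.Finite (maximalIdeal A).ResidueField k' →
        Loc Q (k' ⊗[(maximalIdeal A).ResidueField] (maximalIdeal A).Fiber (EGA4.Cpl B)))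
    (p : Ideal A) [p.IsPrime] (K : Type u) [Field K] [Algebra p.ResidueField K]
    (hK : Module.Finite p.ResidueField K) : Loc Q (K ⊗[p.ResidueField] p.Fiber B) := by
  haveI := hK
  letI : Algebra A K := ((algebraMap p.ResidueField K).comp (algebraMap A p.ResidueField)).toAlgebra
  haveI : IsScalarTower A p.ResidueField K := IsScalarTower.of_algebraMap_eq' rfl
  haveI : IsScalarTower A B (EGA4.Cpl B) := IsScalarTower.of_algebraMap_eq fun a => rfl
  haveI hnA : IsNoetherianRing (EGA4.Cpl A) := Groth.Agent.S0543.result A _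
  haveI hnB : IsNoetherianRing (EGA4.Cpl B) := Groth.Agent.S0543.result B _
  haveI := Groth.L06.NormalAscent.faithfullyFlat_cpl B
  obtain ⟨i, hi, hff⟩ := Groth.L06.FormalFibres.exists_cpl_algebra A B
  letI := i
  haveI := hi
  haveI := hff
  haveI : IsNoetherianRing (B ⊗[A] K) := Groth.L06.FibreComp.isNoetherianRing_baseChange p K
  haveI : IsNoetherianRing (EGA4.Cpl A ⊗[A] K) := Groth.L06.FibreComp.isNoetherianRing_baseChange p K
  haveI : IsNoetherianRing (EGA4.Cpl B ⊗[A] K) := Groth.L06.FibreComp.isNoetherianRing_baseChange p K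
  -- reduce to the completion of `B`
  let e1 := Groth.L06.FibreComp.fibreEquivBase (B := B) p K
  let e1' : K ⊗[p.ResidueField] p.Fiber (EGA4.Cpl B) ≃+* (B ⊗[A] K) ⊗[B] EGA4.Cpl B :=
    Groth.L06.FibreComp.fibreEquiv p K
  let e2 := Groth.L06.FibreComp.fibreEquivBase (B := EGA4.Cpl B) p K
  let e3 : K ⊗[p.ResidueField] p.Fiber (EGA4.Cpl B) ≃+* (EGA4.Cpl A ⊗[A] K) ⊗[EGA4.Cpl A] EGA4.Cpl B :=
    Groth.L06.FibreComp.fibreEquiv p K
  let e4 := Groth.L06.FibreComp.fibreEquivBase (B := EGA4.Cpl A) p K
  haveI : IsNoetherianRing (K ⊗[p.ResidueField] p.Fiber (EGA4.Cpl B)) := isNoetherianRing_of_ringEquiv (EGA4.Cpl B ⊗[A] K) e2.symm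
  haveI : IsNoetherianRing ((B ⊗[A] K) ⊗[B] EGA4.Cpl B) := isNoetherianRing_of_ringEquiv (K ⊗[p.ResidueField] p.Fiber (EGA4.Cpl B)) e1'
  haveI : IsNoetherianRing ((EGA4.Cpl A ⊗[A] K) ⊗[EGA4.Cpl A] EGA4.Cpl B) := isNoetherianRing_of_ringEquiv (K ⊗[p.ResidueField] p.Fiber (EGA4.Cpl B)) e3
  haveI : IsNoetherianRing (K ⊗[p.ResidueField] p.Fiber (EGA4.Cpl A)) := isNoetherianRing_of_ringEquiv (EGA4.Cpl A ⊗[A] K) e4.symm
  refine loc_of_ringEquiv hQ e1.symm (hQ.descend (S := (B ⊗[A] K) ⊗[B] EGA4.Cpl B) (loc_of_ringEquiv hQ (R := K ⊗[p.ResidueField] p.Fiber (EGA4.Cpl B)) e1' ?_))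
  refine loc_of_ringEquiv hQ (R := (EGA4.Cpl A ⊗[A] K) ⊗[EGA4.Cpl A] EGA4.Cpl B) e3.symm (hQ.ascend (loc_of_ringEquiv hQ e4 (hA p K hK)) fun Q₀ _ => ?_)
  obtain ⟨j, hj, ⟨eQ⟩⟩ := Groth.L06.FibreComp.exists_fibre_baseChange (B := EGA4.Cpl A) (C := EGA4.Cpl B) Q₀
  letI := j
  haveI := hj
  let q := Q₀.comap (algebraMap (EGA4.Cpl A) (EGA4.Cpl A ⊗[A] K))
  haveI : Module.Finite q.ResidueField Q₀.ResidueField := Groth.Agent.S4696.finite_residueField p K Q₀
  haveI : IsNoetherianRing (EGA4.Cpl B ⊗[EGA4.Cpl A] Q₀.ResidueField) := Groth.L06.FibreComp.isNoetherianRing_baseChange q Q₀.ResidueField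
  haveI : IsNoetherianRing (Q₀.ResidueField ⊗[q.ResidueField] q.Fiber (EGA4.Cpl B)) := isNoetherianRing_of_ringEquiv _
    (Groth.L06.FibreComp.fibreEquivBase (B := EGA4.Cpl B) q Q₀.ResidueField).symm
  haveI : IsNoetherianRing (Q₀.ResidueField ⊗[EGA4.Cpl A] EGA4.Cpl B) := isNoetherianRing_of_ringEquiv _
    (Algebra.TensorProduct.comm (EGA4.Cpl A) (EGA4.Cpl B) Q₀.ResidueField).toRingEquiv
  refine loc_of_ringEquiv hQ eQ.symm (loc_of_ringEquiv hQ
    (Algebra.TensorProduct.cancelBaseChange (EGA4.Cpl A) q.ResidueField q.ResidueField Q₀.ResidueField (EGA4.Cpl B)).toRingEquiv.symm ?_)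
  -- the complete case
  have hmA := AdicCompletion.maximalIdeal_eq_map (R := A)
  haveI : IsLocalHom (algebraMap (EGA4.Cpl A) (EGA4.Cpl B)) := by
    refine ((IsLocalRing.local_hom_TFAE (algebraMap (EGA4.Cpl A) (EGA4.Cpl B))).out 0 2 rfl rfl).mpr ?_
    rw [hmA, Ideal.map_map, ← IsScalarTower.algebraMap_eq, IsScalarTower.algebraMap_eq A B (EGA4.Cpl B),
      ← Ideal.map_map, AdicCompletion.maximalIdeal_eq_map]
    exact Ideal.map_mono (IsLocalRing.map_maximalIdeal_le _)
  haveI : Module.Finite (EGA4.Cpl A) (EGA4.Cpl B ⧸ maximalIdeal (EGA4.Cpl B)) := by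
    haveI : Module.Finite A (ResidueField A) :=
      Module.Finite.of_surjective (Algebra.linearMap A (ResidueField A)) IsLocalRing.residue_surjective
    haveI : Module.Finite A (B ⧸ maximalIdeal B) :=
      (Module.Finite.trans (ResidueField A) (ResidueField B) : Module.Finite A (ResidueField B))
    haveI : Module.Finite A (EGA4.Cpl B ⧸ maximalIdeal (EGA4.Cpl B)) := by
      let g : (B ⧸ maximalIdeal B) →ₐ[A] EGA4.Cpl B ⧸ maximalIdeal (EGA4.Cpl B) := Ideal.Quotient.liftₐ _
        ((Ideal.Quotient.mkₐ A (maximalIdeal (EGA4.Cpl B))).comp (IsScalarTower.toAlgHom A B (EGA4.Cpl B)))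
        (fun x hx => Ideal.Quotient.eq_zero_iff_mem.mpr
          (AdicCompletion.maximalIdeal_eq_map (R := B) ▸ Ideal.mem_map_of_mem _ hx))
      refine Module.Finite.of_surjective g.toLinearMap fun c => ?_
      obtain ⟨c, rfl⟩ := Ideal.Quotient.mk_surjective c
      obtain ⟨b, hb⟩ := exists_cpl_approx c
      rw [← AdicCompletion.maximalIdeal_eq_map] at hb
      exact ⟨Ideal.Quotient.mk _ b, (Ideal.Quotient.eq.mpr hb).symm⟩
    exact Module.Finite.of_restrictScalars_finite A _ _
  refine complete_case hQ (A := EGA4.Cpl A) (B := EGA4.Cpl B) (fun k' _ _ hk' => ?_) q Q₀.ResidueField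
  -- transfer of the hypothesis
  haveI := hk'
  haveI : Algebra.IsIntegral (EGA4.Cpl A) k' := Algebra.IsIntegral.of_finite _ k'
  haveI : (⊥ : Ideal k').IsMaximal := Ideal.bot_isMaximal
  have hkerA := IsLocalRing.eq_maximalIdeal (Ideal.isMaximal_comap_of_isIntegral_of_isMaximal (R := EGA4.Cpl A) (⊥ : Ideal k'))
  letI : Algebra A k' := ((algebraMap (EGA4.Cpl A) k').comp (algebraMap A (EGA4.Cpl A))).toAlgebra
  haveI : IsScalarTower A (EGA4.Cpl A) k' := IsScalarTower.of_algebraMap_eq' rfl
  have hzero : ∀ c ∈ (maximalIdeal A).map (algebraMap A (EGA4.Cpl A)), algebraMap (EGA4.Cpl A) k' c = 0 := by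
    intro c hc
    rw [← hmA, ← hkerA] at hc
    exact hc
  have hI : ∀ a ∈ maximalIdeal A, algebraMap A k' a = 0 := fun a ha => by
    rw [IsScalarTower.algebraMap_apply A (EGA4.Cpl A) k']
    exact hzero _ (Ideal.mem_map_of_mem _ ha)
  letI : Algebra (maximalIdeal A).ResidueField k' :=
    (Ideal.ResidueField.lift (maximalIdeal A) (algebraMap A k') (fun a ha => hI a ha)
      (fun a ha => (IsLocalRing.notMem_maximalIdeal.mp ha).map (algebraMap A k'))).toAlgebra
  haveI : IsScalarTower A (maximalIdeal A).ResidueField k' := IsScalarTower.of_algebraMap_eq fun a =>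
    (Ideal.ResidueField.lift_algebraMap (maximalIdeal A) _ _ _ a).symm
  haveI : Module.Finite A k' := by
    obtain ⟨t, ht⟩ := hk'.fg_top
    refine ⟨⟨t, eq_top_iff.mpr fun x _ => ?_⟩⟩
    have hx : x ∈ Submodule.span (EGA4.Cpl A) (t : Set k') := ht ▸ Submodule.mem_top
    induction hx using Submodule.span_induction with
    | mem x hx => exact Submodule.subset_span hx
    | zero => exact zero_mem _
    | add x y _ _ hx hy => exact add_mem (hx trivial) (hy trivial)
    | smul c x _ hx =>
      obtain ⟨a, ha⟩ := exists_cpl_approx c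
      have h0 := hzero _ ha
      rw [map_sub, sub_eq_zero] at h0
      rw [Algebra.smul_def, h0, ← IsScalarTower.algebraMap_apply, ← Algebra.smul_def]
      exact Submodule.smul_mem _ _ (hx trivial)
  haveI : Module.Finite (maximalIdeal A).ResidueField k' := Module.Finite.of_restrictScalars_finite A _ _
  haveI : IsNoetherianRing (k' ⊗[EGA4.Cpl A] EGA4.Cpl B) := isNoetherianRing_right
  haveI : IsNoetherianRing (k' ⊗[(maximalIdeal A).ResidueField] (maximalIdeal A).Fiber (EGA4.Cpl B)) := by
    haveI := Groth.L06.FibreComp.isNoetherianRing_baseChange (B := EGA4.Cpl B) (maximalIdeal A) k'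
    exact isNoetherianRing_of_ringEquiv _ (Groth.L06.FibreComp.fibreEquivBase (B := EGA4.Cpl B) (maximalIdeal A) k').symm
  haveI := compatibleSMul (N := EGA4.Cpl B) (k' := k') (maximalIdeal A) exists_cpl_approx hI
  exact loc_of_ringEquiv hQ
    (((Algebra.TensorProduct.cancelBaseChange A (maximalIdeal A).ResidueField (maximalIdeal A).ResidueField k' (EGA4.Cpl B)).toRingEquiv).trans
      (Algebra.TensorProduct.equivOfCompatibleSMul A (EGA4.Cpl A) A k' (EGA4.Cpl B)).toRingEquiv.symm)
    (H k' inferInstance)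

end Groth.L06.GeomLocal
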