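import Groth.Agent.L06.FormSmoothCrit
import Groth.Agent.L06.FormSmoothField2
import Groth.Agent.L06.DiffCotRank
import Groth.Agent.L01.Regular
import Groth.Agent.S2036
import Groth.Agent.S2082
import Groth.Agent.L04.RegularPd
import Mathlib.RingTheory.RegularLocalRing.Polynomial
import Mathlib.RingTheory.KrullDimension.Regular
import Mathlib.RingTheory.Kaehler.Polynomial

/-!
Lifting a differential basis of a subfield of the residue field of a geometrically regular local
algebra gives a flat map from a polynomial ring with regular closed fibre.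
-/

set_option autoImplicit false
set_option linter.style.haveILetI false
set_option maxSynthPendingDepth 3
noncomputable section
universe u

open IsLocalRing TensorProduct KaehlerDifferential
open Groth.L06.FormSmooth (diffMap)
open Groth.L06.DiffCot (delta)

namespace Groth.L06.GeomRegBasisFlat

section Cotangent

variable {R : Type u} [CommRing R] [IsLocalRing R]

theorem toCotangent_sum_smul {ι : Type*} (s : Finset ι) (a : ι → R) (x : ι → maximalIdeal R) :
    (maximalIdeal R).toCotangent (∑ i ∈ s, a i • x i) =
      ∑ i ∈ s, residue R (a i) • (maximalIdeal R).toCotangent (x i) := by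
  rw [map_sum]
  refine Finset.sum_congr rfl fun i _ => ?_
  rw [map_smul, ← ResidueField.algebraMap_eq, algebraMap_smul]

theorem mem_of_sum_mem_sq [IsNoetherianRing R] {d : ℕ}
    (hd : Module.finrank (ResidueField R) (CotangentSpace R) = d) (g : Fin d → R)
    (hg : Ideal.span (Set.range g) = maximalIdeal R) (a : Fin d → R)
    (h : ∑ j, a j * g j ∈ maximalIdeal R ^ 2) (j : Fin d) : a j ∈ maximalIdeal R := by
  classical
  have hgm : ∀ j, g j ∈ maximalIdeal R := fun j => hg ▸ Ideal.subset_span ⟨j, rfl⟩
  let x : Fin d → maximalIdeal R := fun j => ⟨g j, hgm j⟩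
  have hsp : Submodule.span R (Set.range x) = ⊤ := by
    apply Submodule.map_injective_of_injective (maximalIdeal R).injective_subtype
    rw [Submodule.map_span, Submodule.map_top, Submodule.range_subtype, ← Set.range_comp]
    exact hg
  have hv : LinearIndependent (ResidueField R) (fun j => (maximalIdeal R).toCotangent (x j)) := by
    rw [linearIndependent_iff_card_eq_finrank_span, Fintype.card_fin, Set.finrank]
    have := CotangentSpace.span_image_eq_top_iff.mpr hsp
    rw [← Set.range_comp] at this
    rw [show (fun j => (maximalIdeal R).toCotangent (x j)) = (maximalIdeal R).toCotangent ∘ x from rfl, this,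
      finrank_top, hd]
  have h0 : ∑ j, residue R (a j) • (maximalIdeal R).toCotangent (x j) = 0 := by
    rw [← toCotangent_sum_smul, Ideal.toCotangent_eq_zero, Submodule.coe_sum]
    simpa [x] using h
  exact (residue_eq_zero_iff _).mp (Fintype.linearIndependent_iff.mp hv _ h0 j)

end Cotangent

/-- Regular parameters mapping to part of a regular system of parameters. -/
theorem flat_and_regular_quotient (R A : Type u) [CommRing R] [CommRing A] [IsRegularLocalRing R]
    [IsRegularLocalRing A] [Algebra R A] [IsLocalHom (algebraMap R A)] {d : ℕ} (hd : ringKrullDim R = d)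
    (g : Fin d → R) (hg : Ideal.span (Set.range g) = maximalIdeal R)
    (hind : ∀ a : Fin d → A, ∑ j, a j * algebraMap R A (g j) ∈ maximalIdeal A ^ 2 → ∀ j, a j ∈ maximalIdeal A) :
    Module.Flat R A ∧ IsRegularLocalRing (A ⧸ (maximalIdeal R).map (algebraMap R A)) := by
  classical
  let I := (maximalIdeal R).map (algebraMap R A)
  have hI : I ≤ maximalIdeal A := IsLocalRing.map_maximalIdeal_le _
  have hgm : ∀ j, algebraMap R A (g j) ∈ maximalIdeal A := fun j =>
    hI (Ideal.mem_map_of_mem _ (hg ▸ Ideal.subset_span ⟨j, rfl⟩))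
  let v : Fin d → CotangentSpace A := fun j => (maximalIdeal A).toCotangent ⟨_, hgm j⟩
  have hv : LinearIndependent (ResidueField A) v := by
    rw [Fintype.linearIndependent_iff]
    intro c hc j
    choose a ha using fun j => residue_surjective (c j)
    rw [← ha j, residue_eq_zero_iff]
    refine hind a ?_ j
    simp only [← ha, v] at hc
    rw [← toCotangent_sum_smul, Ideal.toCotangent_eq_zero, Submodule.coe_sum] at hc
    simpa using hc
  set n := Module.finrank (ResidueField A) (CotangentSpace A) with hn
  have hA : ringKrullDim A = (n : ℕ) :=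
    ((IsRegularLocalRing.iff_finrank_cotangentSpace A).mp inferInstance).symm
  let W := Submodule.span (ResidueField A) (Set.range v)
  have hW : Module.finrank (ResidueField A) W = d := by
    rw [finrank_span_eq_card hv, Fintype.card_fin]
  obtain ⟨C, hC⟩ := exists_isCompl W
  have hdn : d + Module.finrank (ResidueField A) C = n := by
    rw [← hW]; exact Submodule.finrank_add_eq_of_isCompl hC
  set c := Module.finrank (ResidueField A) C
  let b := Module.finBasis (ResidueField A) C
  choose h hh using fun i => (maximalIdeal A).toCotangent_surjective (b i : CotangentSpace A)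
  let H : Fin c → A := fun i => h i
  have hspan : maximalIdeal A ≤ Ideal.span (Set.range fun j => algebraMap R A (g j)) ⊔ Ideal.span (Set.range H) := by
    refine Groth.L01.maximalIdeal_le_of_le_sup_sq fun x hx => ?_
    obtain ⟨w, hw, e, he, hwe⟩ := Submodule.mem_sup.mp
      (hC.sup_eq_top ▸ Submodule.mem_top : (maximalIdeal A).toCotangent ⟨x, hx⟩ ∈ W ⊔ C)
    obtain ⟨r, rfl⟩ := (Submodule.mem_span_range_iff_exists_fun _).mp hw
    choose a ha using fun j => residue_surjective (r j)
    choose a' ha' using fun i => residue_surjective (b.repr ⟨e, he⟩ i)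
    have he' : e = ∑ i, residue A (a' i) • (maximalIdeal A).toCotangent (h i) := by
      simp only [ha', hh]
      have h0 := congrArg Subtype.val (b.sum_repr ⟨e, he⟩)
      rw [Submodule.coe_sum] at h0
      exact h0.symm
    simp only [← ha, v] at hwe
    rw [he', ← toCotangent_sum_smul, ← toCotangent_sum_smul, ← map_add, Ideal.toCotangent_eq] at hwe
    simp only [Submodule.coe_add, Submodule.coe_sum, Submodule.coe_smul, smul_eq_mul] at hwe
    rw [← sub_sub_cancel (∑ j, a j * algebraMap R A (g j) + ∑ i, a' i * (h i : A)) x]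
    exact sub_mem (Ideal.mem_sup_left (add_mem
      (Ideal.mem_sup_left (Ideal.sum_mem _ fun j _ => Ideal.mul_mem_left _ _ (Ideal.subset_span ⟨j, rfl⟩)))
      (Ideal.mem_sup_right (Ideal.sum_mem _ fun i _ => Ideal.mul_mem_left _ _ (Ideal.subset_span ⟨i, rfl⟩)))))
      (Ideal.mem_sup_right hwe)
  have hIspan : I = Ideal.span (Set.range fun j => algebraMap R A (g j)) := by
    show Ideal.map _ _ = _
    rw [← hg, Ideal.map_span, ← Set.range_comp]
    rfl
  have hIne : I ≠ ⊤ := fun hI' => (maximalIdeal.isMaximal A).ne_top (top_le_iff.mp (hI'.ge.trans hI))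
  haveI : IsLocalRing (A ⧸ I) := Groth.L01.isLocalRing_quotient hIne
  have hmS : (maximalIdeal (A ⧸ I)).spanFinrank ≤ c := by
    have hm : maximalIdeal (A ⧸ I) = Ideal.span (Set.range fun i => Ideal.Quotient.mk I (H i)) := by
      refine le_antisymm ?_ (Ideal.span_le.mpr ?_)
      · rw [← IsLocalRing.map_maximalIdeal_of_surjective _ Ideal.Quotient.mk_surjective]
        refine (Ideal.map_mono hspan).trans ?_
        rw [Ideal.map_sup, ← hIspan, Ideal.map_quotient_self, bot_sup_eq, Ideal.map_span, ← Set.range_comp]
        rfl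
      · rintro _ ⟨i, rfl⟩
        rw [← IsLocalRing.map_maximalIdeal_of_surjective _ Ideal.Quotient.mk_surjective]
        exact Ideal.mem_map_of_mem _ (h i).2
    rw [hm]
    refine (Submodule.spanFinrank_span_le_ncard_of_finite (Set.finite_range _)).trans ?_
    rw [← Nat.card_coe_set_eq]
    exact (Finite.card_range_le _).trans (Nat.card_fin c).le
  have hmI : I.spanFinrank ≤ d := by
    rw [hIspan]
    refine (Submodule.spanFinrank_span_le_ncard_of_finite (Set.finite_range _)).trans ?_
    rw [← Nat.card_coe_set_eq]
    exact (Finite.card_range_le _).trans (Nat.card_fin d).le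
  obtain ⟨s, hs⟩ := Groth.L01.exists_dim_eq_nat (R := A ⧸ I)
  have hns : n ≤ s + d := by
    have h1 := ringKrullDim_le_ringKrullDim_quotient_add_spanFinrank I
      (by rw [IsLocalRing.ringJacobson_eq_maximalIdeal]; exact hI)
    rw [hA, hs, ← Nat.cast_add, Nat.cast_le] at h1
    omega
  have hsc : s ≤ (maximalIdeal (A ⧸ I)).spanFinrank := by
    have h1 := ringKrullDim_le_spanFinrank_maximalIdeal (A ⧸ I)
    rw [hs, Nat.cast_le] at h1
    exact h1
  have hregS : IsRegularLocalRing (A ⧸ I) :=
    IsRegularLocalRing.of_spanFinrank_maximalIdeal_le (A ⧸ I) (by rw [hs, Nat.cast_le]; omega)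
  refine ⟨?_, hregS⟩
  haveI := Groth.L04.isCohenMacaulayLocalRing_of_regular A
  refine Groth.Agent.S2082.result ?_
  rw [hA, hd, hs, ← Nat.cast_add, Nat.cast_inj]
  omega

theorem diffMap_mk_tmul (k B : Type u) [CommRing k] [CommRing B] [IsLocalRing B] [Algebra k B]
    (c : ResidueField B) (z : Ω[k⁄ℤ]) :
    diffMap k B (c ⊗ₜ z) = c • ((1 : ResidueField B) ⊗ₜ[B] KaehlerDifferential.map ℤ ℤ k B z) := by
  show LinearMap.liftBaseChange (ResidueField B) _ _ = _
  rw [LinearMap.liftBaseChange_tmul]
  rfl

theorem smul_one_tmul (B : Type u) [CommRing B] [IsLocalRing B] (r : B) (x : Ω[B⁄ℤ]) :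
    (1 : ResidueField B) ⊗ₜ[B] (r • x) = residue B r • ((1 : ResidueField B) ⊗ₜ[B] x) := by
  rw [TensorProduct.tmul_smul, ← algebraMap_smul (ResidueField B) r]
  rfl

/-- Independence in the cotangent space from differentials. -/
theorem indep_of_differentials (p : ℕ) [Fact p.Prime] (k : Type u) [Field k] [CharP k p]
    (R A : Type u) [CommRing R] [CommRing A] [IsRegularLocalRing R] [IsLocalRing A]
    [Algebra k R] [Algebra k A] [Algebra R A] [IsScalarTower k R A] [IsLocalHom (algebraMap R A)]
    (hinj : Function.Injective (diffMap k A)) {d : ℕ} (hd : ringKrullDim R = d)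
    (g : Fin d → R) (hg : Ideal.span (Set.range g) = maximalIdeal R) {m : ℕ} (y : Fin m → R)
    (r : Fin d → Fin m → R) (hr : ∀ j i, r j i ∈ maximalIdeal R)
    (hD : ∀ j, D k R (g j) = ∑ i, r j i • D k R (y i))
    (a : Fin d → A) (ha : ∑ j, a j * algebraMap R A (g j) ∈ maximalIdeal A ^ 2) (j : Fin d) :
    a j ∈ maximalIdeal A := by
  classical
  have hgm : ∀ j, g j ∈ maximalIdeal R := fun j => hg ▸ Ideal.subset_span ⟨j, rfl⟩
  have hcot : Module.finrank (ResidueField R) (CotangentSpace R) = d := by
    have h1 := (IsRegularLocalRing.iff_finrank_cotangentSpace R).mp inferInstance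
    rw [hd, Nat.cast_inj] at h1
    exact h1
  haveI : CharP (ResidueField R) p := charP_of_injective_algebraMap (algebraMap k (ResidueField R)).injective p
  have hpR : (p : R) ∈ RingHom.ker (algebraMap R (ResidueField R)) ^ 2 := by
    rw [← map_natCast (algebraMap k R), CharP.cast_eq_zero, map_zero]
    exact zero_mem _
  have hker : RingHom.ker (algebraMap R (ResidueField R)) = maximalIdeal R := IsLocalRing.ker_residue (R := R)
  -- independence of the differentials of the parameters
  have hindR : LinearIndependent (ResidueField R) (fun j => delta R (ResidueField R) (g j)) := by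
    rw [Fintype.linearIndependent_iff]
    intro c hc j
    choose b hb using fun j => residue_surjective (c j)
    rw [← hb j, residue_eq_zero_iff]
    refine mem_of_sum_mem_sq hcot g hg b ?_ j
    rw [← hker]
    refine Groth.L06.DiffCot.mem_sq residue_surjective p hpR
      (Ideal.sum_mem _ fun j _ => Ideal.mul_mem_left _ _ (hker.ge (hgm j))) ?_
    let δ : R →+ ResidueField R ⊗[R] Ω[R⁄ℤ] :=
      AddMonoidHom.mk' (delta R (ResidueField R)) (Groth.L06.DiffCot.delta_add R (ResidueField R))
    show δ (∑ j, b j * g j) = 0
    rw [map_sum, ← hc]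
    refine Finset.sum_congr rfl fun j _ => ?_
    show delta R (ResidueField R) (b j * g j) = _
    rw [Groth.L06.DiffCot.delta_mul_of_mem (hker.ge (hgm j)), ← hb]
    rfl
  -- lifts to differentials of `k`
  have hw : ∀ j, ∃ w : R ⊗[k] Ω[k⁄ℤ],
      mapBaseChange ℤ k R w = D ℤ R (g j) - ∑ i, r j i • D ℤ R (y i) := by
    intro j
    refine (exact_mapBaseChange_map ℤ k R _).mp ?_
    rw [map_sub, map_sum, map_D]
    simp only [map_smul, map_D, Algebra.algebraMap_self, RingHom.id_apply]
    rw [hD, sub_self]
  choose w hw using hw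
  let toL : R ⊗[k] Ω[k⁄ℤ] →ₗ[k] ResidueField R ⊗[k] Ω[k⁄ℤ] :=
    LinearMap.rTensor _ (IsScalarTower.toAlgHom k R (ResidueField R)).toLinearMap
  have key1 : ∀ z, diffMap k R (toL z) = (1 : ResidueField R) ⊗ₜ[R] mapBaseChange ℤ k R z := by
    intro z
    induction z using TensorProduct.induction_on with
    | zero => simp
    | add a b ha hb => simp only [map_add, ha, hb, tmul_add]
    | tmul s x =>
      show diffMap k R (residue R s ⊗ₜ x) = _
      rw [diffMap_mk_tmul, mapBaseChange_tmul, smul_one_tmul]
  have hu : ∀ j, diffMap k R (toL (w j)) = delta R (ResidueField R) (g j) := by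
    intro j
    rw [key1, hw, tmul_sub, tmul_sum]
    rw [Finset.sum_eq_zero fun i _ => by rw [smul_one_tmul, (residue_eq_zero_iff _).mpr (hr j i), zero_smul],
      sub_zero]
    rfl
  have huL : LinearIndependent (ResidueField R) (fun j => toL (w j)) := by
    refine LinearIndependent.of_comp (diffMap k R) ?_
    rw [show (diffMap k R ∘ fun j => toL (w j)) = fun j => delta R (ResidueField R) (g j) from funext hu]
    exact hindR
  -- extend the residue field
  let e := AlgebraTensorModule.cancelBaseChange k (ResidueField R) (ResidueField A) (ResidueField A) (Ω[k⁄ℤ])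
  let toK : R ⊗[k] Ω[k⁄ℤ] →ₗ[k] ResidueField A ⊗[k] Ω[k⁄ℤ] :=
    LinearMap.rTensor _ (IsScalarTower.toAlgHom k R (ResidueField A)).toLinearMap
  have key2 : ∀ z, e ((1 : ResidueField A) ⊗ₜ toL z) = toK z := by
    intro z
    induction z using TensorProduct.induction_on with
    | zero => simp
    | add a b ha hb => simp only [map_add, tmul_add, ha, hb]
    | tmul s x =>
      show e (1 ⊗ₜ (residue R s ⊗ₜ x)) = algebraMap R (ResidueField A) s ⊗ₜ x
      rw [AlgebraTensorModule.cancelBaseChange_tmul, ← Algebra.algebraMap_eq_smul_one]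
      rfl
  have huK : LinearIndependent (ResidueField A) (fun j => toK (w j)) := by
    let B := Module.Basis.extend huL.linearIndepOn_id
    let idx : Fin d → huL.linearIndepOn_id.extend (Set.subset_univ _) := fun j =>
      ⟨toL (w j), Module.Basis.subset_extend huL.linearIndepOn_id ⟨j, rfl⟩⟩
    have hidx : Function.Injective idx := fun i j h => huL.injective (congrArg Subtype.val h)
    have h1 := ((Algebra.TensorProduct.basis (ResidueField A) B).linearIndependent.comp idx hidx).map'
      e.toLinearMap e.ker
    convert h1 using 1 <;> try rfl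
    funext j
    simp only [Function.comp_apply, Algebra.TensorProduct.basis_apply, B, Module.Basis.extend_apply_self]
    exact (key2 _).symm
  have key3 : ∀ z, diffMap k A (toK z) =
      (1 : ResidueField A) ⊗ₜ[A] KaehlerDifferential.map ℤ ℤ R A (mapBaseChange ℤ k R z) := by
    intro z
    induction z using TensorProduct.induction_on with
    | zero => simp
    | add a b ha hb => simp only [map_add, ha, hb, tmul_add]
    | tmul s x =>
      show diffMap k A (algebraMap R (ResidueField A) s ⊗ₜ x) = _
      have hcomp : KaehlerDifferential.map ℤ ℤ R A (KaehlerDifferential.map ℤ ℤ k R x) =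
          KaehlerDifferential.map ℤ ℤ k A x := by
        induction (KaehlerDifferential.span_range_derivation ℤ k ▸ Submodule.mem_top :
            x ∈ Submodule.span k (Set.range (D ℤ k))) using Submodule.span_induction with
        | mem z hz =>
          obtain ⟨t, rfl⟩ := hz
          rw [map_D, map_D, map_D, ← IsScalarTower.algebraMap_apply]
        | zero => simp
        | add a b _ _ ha hb => simp only [map_add, ha, hb]
        | smul t z _ hz =>
          rw [map_smul (KaehlerDifferential.map ℤ ℤ k R), map_smul (KaehlerDifferential.map ℤ ℤ k A),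
            ← algebraMap_smul R t, map_smul, hz, algebraMap_smul]
      rw [diffMap_mk_tmul, mapBaseChange_tmul, map_smul, ← algebraMap_smul A s, smul_one_tmul, hcomp]
      rfl
  have hvA : ∀ j, diffMap k A (toK (w j)) = delta A (ResidueField A) (algebraMap R A (g j)) := by
    intro j
    rw [key3, hw, map_sub, map_sum, map_D, tmul_sub, tmul_sum]
    rw [Finset.sum_eq_zero fun i _ => by
      rw [map_smul, ← algebraMap_smul A, smul_one_tmul, (residue_eq_zero_iff _).mpr
        (IsLocalRing.map_maximalIdeal_le (algebraMap R A) (Ideal.mem_map_of_mem _ (hr j i))), zero_smul], sub_zero]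
    rfl
  have hindA : LinearIndependent (ResidueField A) (fun j => delta A (ResidueField A) (algebraMap R A (g j))) := by
    have := huK.map' (diffMap k A) (LinearMap.ker_eq_bot.mpr hinj)
    rwa [show (diffMap k A ∘ fun j => toK (w j)) = fun j => delta A (ResidueField A) (algebraMap R A (g j)) from
      funext hvA] at this
  rw [← residue_eq_zero_iff]
  refine Fintype.linearIndependent_iff.mp hindA (fun j => residue A (a j)) ?_ j
  have hkerA : RingHom.ker (algebraMap A (ResidueField A)) = maximalIdeal A := IsLocalRing.ker_residue (R := A)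
  let δ : A →+ ResidueField A ⊗[A] Ω[A⁄ℤ] :=
    AddMonoidHom.mk' (delta A (ResidueField A)) (Groth.L06.DiffCot.delta_add A (ResidueField A))
  rw [← hkerA] at ha
  rw [← Groth.L06.DiffCot.delta_sq ha]
  show _ = δ _
  rw [map_sum]
  refine Finset.sum_congr rfl fun j _ => ?_
  show _ = delta A (ResidueField A) _
  rw [Groth.L06.DiffCot.delta_mul_of_mem (hkerA.ge
    (IsLocalRing.map_maximalIdeal_le (algebraMap R A) (Ideal.mem_map_of_mem _ (hgm j))))]
  rfl

/-- The theorem. -/
theorem main (p : ℕ) [Fact p.Prime] (k : Type u) [Field k] [CharP k p] (A : Type u) [CommRing A] [IsLocalRing A]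
    [IsNoetherianRing A] [Algebra k A] (hA : CAlg.IsGeometricallyRegular k A)
    (F : IntermediateField k (ResidueField A)) (m : ℕ) (φ : MvPolynomial (Fin m) k →ₐ[k] A)
    (hφ : ∀ i : Fin m, residue A (φ (MvPolynomial.X i)) ∈ F)
    (hb : LinearIndependent F (fun i : Fin m => D k F ⟨residue A (φ (MvPolynomial.X i)), hφ i⟩)) :
    letI := φ.toRingHom.toAlgebra
    Module.Flat (MvPolynomial (Fin m) k) A ∧
      IsRegularLocalRing (A ⧸ Ideal.map φ.toRingHom (Ideal.comap φ.toRingHom (maximalIdeal A))) := by
  classical
  let P := MvPolynomial (Fin m) k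
  letI : Algebra P A := φ.toRingHom.toAlgebra
  let q : Ideal P := (maximalIdeal A).comap φ.toRingHom
  haveI : q.IsPrime := Ideal.IsPrime.comap _
  let R := Localization.AtPrime q
  have hunit : ∀ s : q.primeCompl, IsUnit (φ.toRingHom s) := fun s => by
    by_contra h
    exact s.2 h
  let ψ : R →+* A := IsLocalization.lift hunit
  letI : Algebra R A := ψ.toAlgebra
  haveI : IsScalarTower P R A := IsScalarTower.of_algebraMap_eq fun x => (IsLocalization.lift_eq hunit x).symm
  haveI : IsScalarTower k R A := IsScalarTower.of_algebraMap_eq fun x => by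
    show _ = ψ (algebraMap k R x)
    rw [IsScalarTower.algebraMap_apply k P R, IsLocalization.lift_eq hunit]
    exact (φ.commutes x).symm
  haveI : IsLocalHom (algebraMap R A) := ⟨fun x hx => by
    obtain ⟨⟨a, s⟩, has⟩ := IsLocalization.surj q.primeCompl x
    have h1 : IsUnit (φ.toRingHom a) := by
      have h2 := congrArg ψ has
      rw [map_mul, IsLocalization.lift_eq hunit, IsLocalization.lift_eq hunit] at h2
      rw [← h2]
      exact hx.mul (hunit s)
    have h3 : IsUnit (algebraMap P R a) :=
      IsLocalization.map_units R (⟨a, fun ha => (mem_maximalIdeal _).mp ha h1⟩ : q.primeCompl)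
    rw [← has] at h3
    exact isUnit_of_mul_isUnit_left h3⟩
  haveI : IsRegularLocalRing R := IsRegularRing.isRegularLocalRing_localization q
  haveI hregA : IsRegularLocalRing A := by
    haveI : IsRegularRing (k ⊗[k] A) := hA k (Module.Finite.self k)
    haveI : IsRegularRing A := IsRegularRing.of_ringEquiv (Algebra.TensorProduct.lid k A).toRingEquiv
    exact IsRegularLocalRing.of_isRegularRing_of_isLocalRing A
  have hinj : Function.Injective (diffMap k A) :=
    Groth.L06.FormSmooth.injective_diffMap_of_adicSmooth ((Groth.Agent.S2036.result p).mp hA)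
  -- residue classes lie in `F`
  have hPF : ∀ a : P, residue A (φ a) ∈ F := by
    intro a
    induction a using MvPolynomial.induction_on with
    | C c =>
      rw [← MvPolynomial.algebraMap_eq, φ.commutes, ← ResidueField.algebraMap_eq,
        ← IsScalarTower.algebraMap_apply]
      exact F.algebraMap_mem c
    | add a b ha hb => rw [map_add, map_add]; exact add_mem ha hb
    | mul_X a i ha => rw [map_mul, map_mul]; exact mul_mem ha (hφ i)
  have hRF : ∀ x : R, algebraMap R (ResidueField A) x ∈ F.toSubalgebra := by
    intro x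
    obtain ⟨⟨a, s⟩, has⟩ := IsLocalization.surj q.primeCompl x
    have h2 := congrArg (residue A) (congrArg ψ has)
    rw [map_mul, map_mul, IsLocalization.lift_eq hunit, IsLocalization.lift_eq hunit] at h2
    have hs : residue A (φ.toRingHom s) ≠ 0 := ((hunit s).map _).ne_zero
    show residue A (ψ x) ∈ F
    rw [eq_div_iff hs |>.mpr h2]
    exact div_mem (hPF a) (hPF s)
  let σ : R →ₐ[k] F := (IsScalarTower.toAlgHom k R (ResidueField A)).codRestrict F.toSubalgebra hRF
  letI : Algebra R F := σ.toAlgebra
  haveI : IsScalarTower k R F := IsScalarTower.of_algebraMap_eq fun x => (σ.commutes x).symm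
  let y : Fin m → R := fun i => algebraMap P R (MvPolynomial.X i)
  have hy : ∀ i, algebraMap R F (y i) = ⟨residue A (φ (MvPolynomial.X i)), hφ i⟩ := fun i =>
    Subtype.ext (congrArg (residue A) (IsLocalization.lift_eq hunit (MvPolynomial.X i)))
  have hspanD : ∀ x : R, D k R x ∈ Submodule.span R (Set.range fun i => D k R (y i)) := by
    let S := Submodule.span R (Set.range fun i => D k R (y i))
    have hP : ∀ a : P, D k R (algebraMap P R a) ∈ S := by
      intro a
      induction a using MvPolynomial.induction_on with
      | C c =>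
        rw [← MvPolynomial.algebraMap_eq, ← IsScalarTower.algebraMap_apply, Derivation.map_algebraMap]
        exact zero_mem _
      | add a b ha hb => rw [map_add, map_add]; exact add_mem ha hb
      | mul_X a i ha =>
        rw [map_mul, Derivation.leibniz]
        exact add_mem (Submodule.smul_mem _ _ (Submodule.subset_span ⟨i, rfl⟩)) (Submodule.smul_mem _ _ ha)
    intro x
    obtain ⟨⟨a, s⟩, has⟩ := IsLocalization.surj q.primeCompl x
    have h2 := congrArg (D k R) has
    rw [Derivation.leibniz] at h2
    obtain ⟨v, hv⟩ := IsLocalization.map_units R s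
    have h3 : (v : R) • D k R x ∈ S := by
      rw [hv, show algebraMap P R s • D k R x = D k R (algebraMap P R a) - x • D k R (algebraMap P R s) by
        rw [← h2]; abel]
      exact sub_mem (hP a) (Submodule.smul_mem _ _ (hP s))
    simpa [smul_smul] using Submodule.smul_mem S (↑v⁻¹ : R) h3
  obtain ⟨d, hd⟩ := Groth.L01.exists_dim_eq_nat (R := R)
  obtain ⟨g, hg⟩ : ∃ g : Fin d → R, Ideal.span (Set.range g) = maximalIdeal R := by
    have h1 : ((maximalIdeal R).spanFinrank : WithBot ℕ∞) = d :=
      IsRegularLocalRing.spanFinrank_maximalIdeal.trans hd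
    rw [Nat.cast_inj] at h1
    obtain ⟨t, ht, hts⟩ := Submodule.FG.exists_span_finset_card_eq_spanFinrank
      (Ideal.fg_of_isNoetherianRing (maximalIdeal R))
    let eqv : Fin d ≃ t := (Finset.equivFinOfCardEq (ht.trans h1)).symm
    refine ⟨fun j => (eqv j : R), ?_⟩
    rw [show (fun j => (eqv j : R)) = Subtype.val ∘ eqv from rfl, Set.range_comp, eqv.range_eq_univ,
      Set.image_univ, Subtype.range_coe]
    exact hts
  have hcoef : ∀ j, ∃ r : Fin m → R, (∀ i, r i ∈ maximalIdeal R) ∧ D k R (g j) = ∑ i, r i • D k R (y i) := by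
    intro j
    obtain ⟨r, hr⟩ := (Submodule.mem_span_range_iff_exists_fun R).mp (hspanD (g j))
    refine ⟨r, fun i => ?_, hr.symm⟩
    have hg0 : algebraMap R F (g j) = 0 := Subtype.ext ((residue_eq_zero_iff _).mpr
      (IsLocalRing.map_maximalIdeal_le (algebraMap R A)
        (Ideal.mem_map_of_mem _ (hg ▸ Ideal.subset_span ⟨j, rfl⟩))))
    have h := congrArg (KaehlerDifferential.map k k R F) hr
    simp only [map_sum, map_smul, map_D, hy, hg0, map_zero] at h
    simp only [← algebraMap_smul F (r _)] at h
    have := Fintype.linearIndependent_iff.mp hb _ h i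
    by_contra hri
    exact ((IsLocalRing.notMem_maximalIdeal.mp hri).map (algebraMap R F)).ne_zero this
  choose r hr hD using hcoef
  obtain ⟨hflat, hreg⟩ := flat_and_regular_quotient R A hd g hg
    (indep_of_differentials p k R A hinj hd g hg y r hr hD)
  refine ⟨?_, ?_⟩
  · haveI := hflat
    haveI : Module.Flat P R := IsLocalization.flat R q.primeCompl
    exact Module.Flat.trans P R A
  · have hmap : Ideal.map φ.toRingHom q = (maximalIdeal R).map (algebraMap R A) := by
      rw [← Localization.AtPrime.map_eq_maximalIdeal, Ideal.map_map, ← IsScalarTower.algebraMap_eq]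
      rfl
    exact hmap ▸ hreg

end Groth.L06.GeomRegBasisFlat
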