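import Groth.Agent.L06.NormalLocus
import Mathlib.RingTheory.Ideal.MinimalPrime.Noetherian
import Mathlib.RingTheory.Ideal.MinimalPrime.Localization
import Mathlib.RingTheory.Polynomial.ScaleRoots
import Mathlib.RingTheory.Ideal.Quotient.Operations
import Mathlib.RingTheory.Nilpotent.Lemmas

/-! Openness of the normal locus when the normalization is finite. -/

set_option autoImplicit false
set_option linter.style.haveILetI false
noncomputable section
universe u

namespace Groth.L06.NorLocusFinite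

variable {A : Type u} [CommRing A] [IsNoetherianRing A] [IsReduced A]

theorem eq_zero_of_forall_minimal {x : A} (h : ∀ q ∈ minimalPrimes A, x ∈ q) : x = 0 := by
  refine IsNilpotent.eq_zero (mem_nilradical.mp ?_)
  rw [nilradical, ← Ideal.sInf_minimalPrimes, Submodule.mem_sInf]
  exact h

theorem mem_nonZeroDivisors_of_forall {b : A} (h : ∀ q ∈ minimalPrimes A, b ∉ q) : b ∈ nonZeroDivisors A := by
  refine mem_nonZeroDivisors_iff_right.mpr fun x hx => eq_zero_of_forall_minimal fun q hq => ?_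
  exact (hq.1.1.mem_or_mem (hx ▸ q.zero_mem)).resolve_right (h q hq)

theorem isOpen_norLocus (h : Module.Finite A (integralClosure A (FractionRing A))) :
    IsOpen (EGA4.norLocus A) := by
  classical
  let K := FractionRing A
  refine Groth.L06.isOpen_norLocus_of_minimal fun p hp _ => ?_
  let others : Set (Ideal A) := {q ∈ minimalPrimes A | q ≠ p.asIdeal}
  have hfin : others.Finite := (minimalPrimes.finite_of_isNoetherianRing A).subset (Set.sep_subset _ _)
  have hnle : ∀ q ∈ others, ¬ q ≤ p.asIdeal := fun q hq hle => hq.2 (le_antisymm hle (hp.2 hq.1.1 hle))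
  obtain ⟨g, hgp, hg⟩ : ∃ g : A, g ∉ p.asIdeal ∧ ∀ q ∈ others, g ∈ q := by
    have hne : ∀ q ∈ others, ∃ x ∈ q, x ∉ p.asIdeal := fun q hq => SetLike.not_le_iff_exists.mp (hnle q hq)
    choose! x hx hxp using hne
    refine ⟨∏ q ∈ hfin.toFinset, x q, fun hmem => ?_, fun q hq => ?_⟩
    · obtain ⟨q, hq, hqx⟩ := (Ideal.IsPrime.prod_mem_iff (p := p.asIdeal)).mp hmem
      exact hxp q (hfin.mem_toFinset.mp hq) hqx
    · obtain ⟨c, hc⟩ := Finset.dvd_prod_of_mem x (hfin.mem_toFinset.mpr hq)
      rw [hc]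
      exact q.mul_mem_right c (hx q hq)
  have hgK : ∀ c ∈ p.asIdeal, g * c = 0 := fun c hc => eq_zero_of_forall_minimal fun q hq => by
    by_cases hqp : q = p.asIdeal
    · exact hqp ▸ p.asIdeal.mul_mem_left g hc
    · exact q.mul_mem_right c (hg q ⟨hq, hqp⟩)
  obtain ⟨T, hT⟩ := h.fg_top
  obtain ⟨s, hs⟩ := IsLocalization.exist_integer_multiples (nonZeroDivisors A) T (fun z => (z.1 : K))
  have hsA : ∀ z : K, IsIntegral A z → ∃ r : A, algebraMap A K s * z = algebraMap A K r := by
    intro z hz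
    have hmem : (⟨z, hz⟩ : integralClosure A K) ∈ (⊤ : Submodule A _) := Submodule.mem_top
    rw [← hT] at hmem
    suffices ∀ w : integralClosure A K, w ∈ Submodule.span A (T : Set (integralClosure A K)) →
        ∃ r : A, algebraMap A K s * w.1 = algebraMap A K r from this _ hmem
    intro w hw
    induction hw using Submodule.span_induction with
    | mem b hb =>
      obtain ⟨r, hr⟩ := hs b hb
      exact ⟨r, by rw [hr, Algebra.smul_def]⟩
    | zero => exact ⟨0, by simp⟩
    | add a b _ _ ha hb =>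
      obtain ⟨r₁, h₁⟩ := ha
      obtain ⟨r₂, h₂⟩ := hb
      exact ⟨r₁ + r₂, by rw [Subalgebra.coe_add, mul_add, h₁, h₂, map_add]⟩
    | smul c a _ ha =>
      obtain ⟨r, hr⟩ := ha
      exact ⟨c * r, by rw [Subalgebra.coe_smul, Algebra.smul_def, mul_left_comm, hr, map_mul]⟩
  have hsp : (s : A) ∉ p.asIdeal := fun hmem => notMem_nonZeroDivisors_of_mem_mem_minimalPrimes hmem hp s.2
  refine ⟨PrimeSpectrum.basicOpen ((s : A) * g), (PrimeSpectrum.basicOpen _).isOpen, ?_, ?_⟩
  · exact fun hmem => (p.isPrime.mem_or_mem hmem).elim hsp hgp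
  rintro q hq
  have hsq : (s : A) ∉ q.asIdeal := fun hmem => hq (q.asIdeal.mul_mem_right g hmem)
  have hgq : g ∉ q.asIdeal := fun hmem => hq (q.asIdeal.mul_mem_left _ hmem)
  have hpq : p.asIdeal ≤ q.asIdeal := fun c hc =>
    (q.isPrime.mem_or_mem (hgK c hc ▸ q.asIdeal.zero_mem)).resolve_left hgq
  let R := Localization.AtPrime q.asIdeal
  have hker : ∀ a : A, algebraMap A R a = 0 ↔ a ∈ p.asIdeal := fun a => by
    rw [IsLocalization.map_eq_zero_iff q.asIdeal.primeCompl]
    exact ⟨fun ⟨t, ht⟩ => (p.isPrime.mem_or_mem (ht ▸ p.asIdeal.zero_mem)).resolve_left fun hh => t.2 (hpq hh),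
      fun ha => ⟨⟨g, hgq⟩, hgK a ha⟩⟩
  haveI : IsDomain R := by
    haveI : NoZeroDivisors R := ⟨fun {x y} hxy => by
      obtain ⟨⟨a, t⟩, hat⟩ := IsLocalization.surj q.asIdeal.primeCompl x
      obtain ⟨⟨b, t'⟩, hbt⟩ := IsLocalization.surj q.asIdeal.primeCompl y
      have : algebraMap A R (a * b) = 0 := by
        rw [map_mul, ← hat, ← hbt, mul_mul_mul_comm, hxy, zero_mul]
      refine (p.isPrime.mem_or_mem ((hker _).mp this)).imp (fun h' => ?_) (fun h' => ?_)
      · exact (IsLocalization.map_units _ t).mul_left_eq_zero.mp (hat.trans ((hker _).mpr h'))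
      · exact (IsLocalization.map_units _ t').mul_left_eq_zero.mp (hbt.trans ((hker _).mpr h'))⟩
    exact NoZeroDivisors.to_isDomain _
  refine ⟨inferInstance, (isIntegrallyClosed_iff (FractionRing R)).mpr fun {x} hx => ?_⟩
  let L := FractionRing R
  have hne : ∀ a ∉ p.asIdeal, algebraMap A L a ≠ 0 := fun a ha => by
    rw [IsScalarTower.algebraMap_apply A R L, Ne, map_eq_zero_iff _ (IsFractionRing.injective R L), hker]
    exact ha
  let ρ : K →ₐ[A] L := IsLocalization.liftAlgHom (M := nonZeroDivisors A) (f := Algebra.ofId A L)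
    fun t => (hne t fun hmem => notMem_nonZeroDivisors_of_mem_mem_minimalPrimes hmem hp t.2).isUnit
  have hρker : ∀ y : K, ρ y = 0 → algebraMap A K g * y = 0 := by
    intro y hy
    obtain ⟨c, t, rfl⟩ := IsLocalization.exists_mk'_eq (nonZeroDivisors A) y
    have hc : c ∈ p.asIdeal := by
      by_contra hc
      refine hne c hc ?_
      rw [← AlgHom.commutes ρ, ← IsLocalization.mk'_spec K c t, map_mul, hy, zero_mul]
    rw [IsLocalization.mul_mk'_eq_mk'_of_mul, hgK c hc, IsLocalization.mk'_zero]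
  -- a preimage of an integral multiple of `x`
  obtain ⟨u, hux⟩ := IsIntegral.exists_multiple_integral_of_isLocalization q.asIdeal.primeCompl x hx
  obtain ⟨a, b, hb, hab⟩ := IsFractionRing.div_surjective (A := R) ((u : A) • x)
  obtain ⟨⟨a₀, ta⟩, hat⟩ := IsLocalization.surj q.asIdeal.primeCompl a
  obtain ⟨⟨b₀, tb⟩, hbt⟩ := IsLocalization.surj q.asIdeal.primeCompl b
  have hb₀ : b₀ ∉ p.asIdeal := fun hmem => by
    rw [← hker, ← hbt] at hmem
    exact nonZeroDivisors.ne_zero hb ((IsLocalization.map_units _ tb).mul_left_eq_zero.mp hmem)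
  obtain ⟨k, hkp, hk⟩ : ∃ k ∈ p.asIdeal, ∀ q' ∈ others, k ∉ q' := by
    by_contra hno
    simp only [not_exists, not_and, not_forall, not_not] at hno
    have hsub : (p.asIdeal : Set A) ⊆ ⋃ q' ∈ (hfin.toFinset : Set (Ideal A)), (q' : Set A) := fun z hz => by
      obtain ⟨q', hq', hzq⟩ := hno z hz
      exact Set.mem_biUnion (hfin.mem_toFinset.mpr hq') hzq
    obtain ⟨q', hq', hle⟩ := (Ideal.subset_union_prime ⊥ ⊥ (fun i hi _ _ => (hfin.mem_toFinset.mp hi).1.1.1)).mp hsub
    have h1 := hfin.mem_toFinset.mp hq'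
    exact h1.2 (le_antisymm (h1.1.2 hp.1 hle) hle)
  let b₁ : A := b₀ * (ta : A) * g + k
  have hb₁ : b₁ ∈ nonZeroDivisors A := mem_nonZeroDivisors_of_forall fun q' hq' hmem => by
    by_cases hqp : q' = p.asIdeal
    · subst hqp
      rcases p.isPrime.mem_or_mem ((Ideal.add_mem_iff_left _ hkp).mp hmem) with h1 | h1
      · rcases p.isPrime.mem_or_mem h1 with h2 | h2
        · exact hb₀ h2
        · exact ta.2 (hpq h2)
      · exact hgp h1
    · exact hk q' ⟨hq', hqp⟩ ((Ideal.add_mem_iff_right _ (q'.mul_mem_left _ (hg q' ⟨hq', hqp⟩))).mp hmem)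
  let y : K := IsLocalization.mk' K (a₀ * (tb : A) * g) (⟨b₁, hb₁⟩ : nonZeroDivisors A)
  have hρy : ρ y = (u : A) • x := by
    have hk0 : algebraMap A L k = 0 := by
      rw [IsScalarTower.algebraMap_apply A R L, (hker k).mpr hkp, map_zero]
    have h1 : ρ y * algebraMap A L b₁ = algebraMap A L (a₀ * (tb : A) * g) := by
      rw [← AlgHom.commutes ρ b₁, ← map_mul, IsLocalization.mk'_spec, AlgHom.commutes]
    rw [map_add, hk0, add_zero] at h1
    have hb0 : algebraMap A L (b₀ * (ta : A) * g) ≠ 0 := hne _ fun hmem => by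
      rcases p.isPrime.mem_or_mem hmem with h1 | h1
      · rcases p.isPrime.mem_or_mem h1 with h2 | h2
        · exact hb₀ h2
        · exact ta.2 (hpq h2)
      · exact hgp h1
    refine mul_right_cancel₀ hb0 (h1.trans ?_)
    have hba : algebraMap R L b ≠ 0 := IsFractionRing.to_map_ne_zero_of_mem_nonZeroDivisors hb
    rw [← hab, map_mul, map_mul, map_mul, map_mul, IsScalarTower.algebraMap_apply A R L a₀, ← hat,
      IsScalarTower.algebraMap_apply A R L b₀, ← hbt, map_mul, map_mul, ← IsScalarTower.algebraMap_apply A R L,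
      ← IsScalarTower.algebraMap_apply A R L]
    show _ = (algebraMap R L a / algebraMap R L b) * _
    rw [div_mul_eq_mul_div, eq_div_iff hba]
    ring
  have hz : IsIntegral A (algebraMap A K g * y) := by
    obtain ⟨P, hP, hPx⟩ := hux
    refine ⟨Polynomial.X * P.scaleRoots g, Polynomial.monic_X.mul (Polynomial.monic_scaleRoots_iff g |>.mpr hP), ?_⟩
    have h0 : ρ (Polynomial.aeval y P) = 0 := by
      rw [← Polynomial.aeval_algHom_apply, hρy]
      exact hPx
    rw [Polynomial.eval₂_mul, Polynomial.eval₂_X, Polynomial.scaleRoots_eval₂_mul,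
      mul_right_comm, ← mul_assoc]
    have := hρker _ h0
    rw [Polynomial.aeval_def] at this
    linear_combination (y * algebraMap A K g ^ P.natDegree) * this
  obtain ⟨r, hr⟩ := hsA _ hz
  have hU : IsUnit (algebraMap A R ((s : A) * g * u)) :=
    IsLocalization.map_units R (⟨(s : A) * g * u, fun hmem => by
      rcases q.isPrime.mem_or_mem hmem with h1 | h1
      · exact (q.isPrime.mem_or_mem h1).elim hsq hgq
      · exact u.2 h1⟩ : q.asIdeal.primeCompl)
  obtain ⟨v, hv⟩ := hU.exists_right_inv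
  refine ⟨algebraMap A R r * v, ?_⟩
  have h1 := congrArg ρ hr
  rw [map_mul, map_mul, AlgHom.commutes, AlgHom.commutes, AlgHom.commutes, hρy, Algebra.smul_def] at h1
  have h2 := congrArg (algebraMap R L) hv
  rw [map_mul, map_one, map_mul, map_mul, map_mul, map_mul, ← IsScalarTower.algebraMap_apply, ← IsScalarTower.algebraMap_apply,
    ← IsScalarTower.algebraMap_apply] at h2
  rw [map_mul, ← IsScalarTower.algebraMap_apply, ← h1]
  linear_combination x * h2

end Groth.L06.NorLocusFinite
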