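import Groth.Agent.L06.Unibranch
import Groth.Agent.L06.NorLocusFinite
import Groth.Agent.L06.Constr
import Groth.Agent.L22.Norm.Branch
import Groth.Agent.L28.Unibranch.Alg
import Groth.Agent.L07.ChevalleyNorm
import Mathlib.FieldTheory.PurelyInseparable.Basic
import Mathlib.RingTheory.Spectrum.Prime.Chevalley
import Mathlib.RingTheory.Kaehler.Basic
import Mathlib.AlgebraicGeometry.Noetherian

/-!
# Constructibility of the geometrically unibranch locus
-/

set_option autoImplicit false
set_option maxSynthPendingDepth 3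
set_option linter.style.haveILetI false

universe u

open CategoryTheory AlgebraicGeometry TopologicalSpace Topology TensorProduct

noncomputable section

namespace Groth.L06.GeomUnibranchCons

/-- Geometric unibranchness only depends on the reduced ring. -/
theorem isGeomUnibranch_of_redEquiv {A A₁ : Type u} [CommRing A] [CommRing A₁] [IsLocalRing A] [IsLocalRing A₁]
    (σ : CAlg2.red A ≃+* CAlg2.red A₁) (h : CAlg2.IsGeomUnibranch A) : CAlg2.IsGeomUnibranch A₁ := by
  haveI := h.1.1
  haveI : IsDomain (CAlg2.red A₁) := σ.symm.injective.isDomain σ.symm.toRingHom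
  let φ : FractionRing (CAlg2.red A) ≃+* FractionRing (CAlg2.red A₁) :=
    IsFractionRing.ringEquivOfRingEquiv σ
  have hφ : ∀ a, φ (algebraMap _ _ a) = algebraMap _ _ (σ a) := fun a =>
    IsFractionRing.ringEquivOfRingEquiv_algebraMap σ a
  have hmem : ∀ x, x ∈ integralClosure (CAlg2.red A) (FractionRing (CAlg2.red A)) →
      φ x ∈ integralClosure (CAlg2.red A₁) (FractionRing (CAlg2.red A₁)) := by
    rintro x ⟨P, hP, hPx⟩
    refine ⟨P.map σ.toRingHom, hP.map _, ?_⟩
    rw [Polynomial.eval₂_map]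
    have : (algebraMap (CAlg2.red A₁) (FractionRing (CAlg2.red A₁))).comp σ.toRingHom =
        φ.toRingHom.comp (algebraMap _ _) := RingHom.ext fun a => (hφ a).symm
    rw [this]
    have := congrArg φ.toRingHom hPx
    rw [Polynomial.hom_eval₂, map_zero] at this
    exact this
  have hmem' : ∀ x, x ∈ integralClosure (CAlg2.red A₁) (FractionRing (CAlg2.red A₁)) →
      φ.symm x ∈ integralClosure (CAlg2.red A) (FractionRing (CAlg2.red A)) := by
    rintro x ⟨P, hP, hPx⟩
    refine ⟨P.map σ.symm.toRingHom, hP.map _, ?_⟩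
    rw [Polynomial.eval₂_map]
    have : (algebraMap (CAlg2.red A) (FractionRing (CAlg2.red A))).comp σ.symm.toRingHom =
        φ.symm.toRingHom.comp (algebraMap _ _) := RingHom.ext fun a => φ.injective (by
          show φ (algebraMap _ _ (σ.symm a)) = φ (φ.symm (algebraMap _ _ a))
          rw [hφ, σ.apply_symm_apply, φ.apply_symm_apply])
    rw [this]
    have := congrArg φ.symm.toRingHom hPx
    rw [Polynomial.hom_eval₂, map_zero] at this
    exact this
  let τ : CAlg2.normRed A ≃+* CAlg2.normRed A₁ :=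
    { toFun := fun x => ⟨φ x.1, hmem _ x.2⟩
      invFun := fun x => ⟨φ.symm x.1, hmem' _ x.2⟩
      left_inv := fun x => Subtype.ext (φ.symm_apply_apply _)
      right_inv := fun x => Subtype.ext (φ.apply_symm_apply _)
      map_mul' := fun x y => Subtype.ext (map_mul φ _ _)
      map_add' := fun x y => Subtype.ext (map_add φ _ _) }
  haveI := h.1.2
  refine ⟨⟨inferInstance, IsLocalRing.of_surjective' τ.toRingHom τ.surjective⟩, fun m' hm' x => ?_⟩
  haveI : (m'.comap τ.toRingHom).IsMaximal := Ideal.comap_isMaximal_of_surjective _ τ.surjective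
  obtain ⟨y, rfl⟩ := Ideal.Quotient.mk_surjective x
  obtain ⟨z, rfl⟩ := τ.surjective y
  obtain ⟨n, a, ha⟩ := h.2 (m'.comap τ.toRingHom) (Ideal.Quotient.mk _ z)
  have hq : ringExpChar (CAlg2.normRed A ⧸ m'.comap τ.toRingHom) = ringExpChar (CAlg2.normRed A₁ ⧸ m') := by
    haveI : IsDomain (CAlg2.normRed A ⧸ m'.comap τ.toRingHom) := Ideal.Quotient.isDomain _
    haveI : IsDomain (CAlg2.normRed A₁ ⧸ m') := Ideal.Quotient.isDomain _
    haveI := ringExpChar.expChar (CAlg2.normRed A ⧸ m'.comap τ.toRingHom)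
    haveI := expChar_of_injective_ringHom
      (Ideal.quotientMap_injective (f := τ.toRingHom) (I := m'))
      (ringExpChar (CAlg2.normRed A ⧸ m'.comap τ.toRingHom))
    exact (ringExpChar.eq _ _).symm
  obtain ⟨a₁, ha₁⟩ := Ideal.Quotient.mk_surjective (σ (Ideal.Quotient.mk _ a))
  refine ⟨n, a₁, ?_⟩
  have h2 := congrArg (Ideal.quotientMap m' τ.toRingHom le_rfl) ha
  rw [map_pow, Ideal.quotientMap_mk, hq] at h2
  refine Eq.trans ?_ h2
  show Ideal.Quotient.mk m' _ = Ideal.quotientMap m' τ.toRingHom le_rfl (Ideal.Quotient.mk _ _)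
  rw [Ideal.quotientMap_mk]
  congr 1
  apply Subtype.ext
  show algebraMap _ _ (Ideal.Quotient.mk _ a₁) = _
  rw [ha₁]
  exact (hφ (Ideal.Quotient.mk _ a)).symm

theorem iff_of_surjective {A A₁ : Type u} [CommRing A] [CommRing A₁] [IsLocalRing A] [IsLocalRing A₁]
    (π : A →+* A₁) (hπ : Function.Surjective π) (hker : RingHom.ker π ≤ nilradical A) :
    CAlg2.IsGeomUnibranch A ↔ CAlg2.IsGeomUnibranch A₁ := by
  let σ₀ : CAlg2.red A →+* CAlg2.red A₁ :=
    Ideal.Quotient.lift (nilradical A) ((Ideal.Quotient.mk (nilradical A₁)).comp π) fun a ha => by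
      rw [RingHom.comp_apply, Ideal.Quotient.eq_zero_iff_mem]
      exact (mem_nilradical.mp ha).map π
  have hσ : Function.Bijective σ₀ := by
    refine ⟨RingHom.lift_injective_of_ker_le_ideal _ _ fun a ha => ?_, fun b => ?_⟩
    · rw [RingHom.mem_ker, RingHom.comp_apply, Ideal.Quotient.eq_zero_iff_mem, mem_nilradical] at ha
      exact mem_nilradical.mpr (Groth.L06.Unibranch.isNilpotent_of_map π hker ha)
    · obtain ⟨b, rfl⟩ := Ideal.Quotient.mk_surjective b
      obtain ⟨a, rfl⟩ := hπ b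
      exact ⟨Ideal.Quotient.mk _ a, rfl⟩
  exact ⟨isGeomUnibranch_of_redEquiv (RingEquiv.ofBijective σ₀ hσ),
    isGeomUnibranch_of_redEquiv (RingEquiv.ofBijective σ₀ hσ).symm⟩

/-- The points over which two maps to a field may differ. -/
def sepSet (A B : Type u) [CommRing A] [CommRing B] [Algebra A B] : Set (PrimeSpectrum A) :=
  PrimeSpectrum.comap (algebraMap A (B ⊗[A] B)) ''
    (PrimeSpectrum.zeroLocus (KaehlerDifferential.ideal A B : Set (B ⊗[A] B)))ᶜ

/-- Two integral extensions of a field embed compatibly into a field. -/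
theorem exists_common_field {k M₁ M₂ : Type u} [Field k] [Field M₁] [Field M₂] (f₁ : k →+* M₁) (f₂ : k →+* M₂)
    (h₁ : f₁.IsIntegral) (h₂ : f₂.IsIntegral) :
    ∃ (Ω : Type u) (_ : Field Ω) (g₁ : M₁ →+* Ω) (g₂ : M₂ →+* Ω), g₁.comp f₁ = g₂.comp f₂ := by
  letI := f₁.toAlgebra
  letI := f₂.toAlgebra
  haveI : Algebra.IsIntegral k M₁ := ⟨h₁⟩
  haveI : Algebra.IsIntegral k M₂ := ⟨h₂⟩
  let ι₁ : M₁ →ₐ[k] AlgebraicClosure k := IsAlgClosed.lift
  let ι₂ : M₂ →ₐ[k] AlgebraicClosure k := IsAlgClosed.lift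
  exact ⟨AlgebraicClosure k, inferInstance, ι₁.toRingHom, ι₂.toRingHom,
    RingHom.ext fun a => (ι₁.commutes a).trans (ι₂.commutes a).symm⟩

/-- An integral extension of fields whose points are determined by the base is purely inseparable. -/
theorem pow_mem_of_hom_ext {k M : Type u} [Field k] [Field M] (f : k →+* M) (hf : f.IsIntegral)
    (h : ∀ (Ω : Type u) [Field Ω] (g₁ g₂ : M →+* Ω), g₁.comp f = g₂.comp f → g₁ = g₂) (x : M) :
    ∃ (n : ℕ) (y : k), f y = x ^ ringExpChar M ^ n := by
  letI := f.toAlgebra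
  haveI : Algebra.IsIntegral k M := ⟨hf⟩
  haveI : IsPurelyInseparable k M := by
    rw [isPurelyInseparable_iff_finSepDegree_eq_one, Field.finSepDegree, Nat.card_eq_one_iff_unique]
    refine ⟨⟨fun σ τ => AlgHom.coe_ringHom_injective (h _ _ _ ?_)⟩, inferInstance⟩
    exact RingHom.ext fun a => (σ.commutes a).trans (τ.commutes a).symm
  haveI := ringExpChar.expChar k
  obtain ⟨n, y, hy⟩ := IsPurelyInseparable.pow_mem k (ringExpChar k) x
  exact ⟨n, y, by rw [Groth.L06.Unibranch.ringExpChar_of_hom f f.injective]; exact hy⟩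

open Groth.L28.Unibranch (toNorm)

theorem comap_toNorm {O : Type u} [CommRing O] [IsLocalRing O] (m : Ideal (CAlg2.normRed O)) [m.IsMaximal] :
    m.comap (toNorm O) = IsLocalRing.maximalIdeal O := by
  letI := (toNorm O).toAlgebra
  haveI : Algebra.IsIntegral O (CAlg2.normRed O) := ⟨Groth.L28.Unibranch.toNorm_isIntegral O⟩
  exact IsLocalRing.eq_maximalIdeal (Ideal.isMaximal_comap_of_isIntegral_of_isMaximal m)

/-- The map of residue fields at a maximal ideal of the normalization. -/
def resMap (O : Type u) [CommRing O] [IsLocalRing O] (m : Ideal (CAlg2.normRed O)) [m.IsMaximal] :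
    IsLocalRing.ResidueField O →+* CAlg2.normRed O ⧸ m :=
  Ideal.Quotient.lift (IsLocalRing.maximalIdeal O) ((Ideal.Quotient.mk m).comp (toNorm O)) fun _ ha =>
    Ideal.Quotient.eq_zero_iff_mem.mpr ((comap_toNorm m).ge ha)

theorem resMap_residue {O : Type u} [CommRing O] [IsLocalRing O] (m : Ideal (CAlg2.normRed O)) [m.IsMaximal]
    (a : O) : resMap O m (IsLocalRing.residue O a) = Ideal.Quotient.mk m (toNorm O a) := rfl

theorem resMap_isIntegral {O : Type u} [CommRing O] [IsLocalRing O] (m : Ideal (CAlg2.normRed O)) [m.IsMaximal] :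
    (resMap O m).IsIntegral :=
  RingHom.IsIntegral.tower_top (IsLocalRing.residue O) _
    ((Groth.L28.Unibranch.toNorm_isIntegral O).trans _ _
      (RingHom.isIntegral_of_surjective _ Ideal.Quotient.mk_surjective))

/-- Points of the normalization over the closed point determined by the base: geometrically unibranch. -/
theorem isGeomUnibranch_of_hom_ext {O : Type u} [CommRing O] [IsLocalRing O] [IsDomain (CAlg2.red O)]
    (hkey : ∀ (Ω : Type u) [Field Ω] (ψ₁ ψ₂ : CAlg2.normRed O →+* Ω),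
      ψ₁.comp (toNorm O) = ψ₂.comp (toNorm O) →
      RingHom.ker (ψ₁.comp (toNorm O)) = IsLocalRing.maximalIdeal O → ψ₁ = ψ₂) :
    CAlg2.IsGeomUnibranch O := by
  have hker : ∀ (m : Ideal (CAlg2.normRed O)) [m.IsMaximal] {Ω : Type u} [Field Ω]
      (g : CAlg2.normRed O ⧸ m →+* Ω), RingHom.ker ((g.comp (Ideal.Quotient.mk m)).comp (toNorm O)) =
        IsLocalRing.maximalIdeal O := fun m _ Ω _ g => by
    letI : Field (CAlg2.normRed O ⧸ m) := Ideal.Quotient.field m
    rw [← RingHom.comap_ker, ← RingHom.comap_ker, (RingHom.injective_iff_ker_eq_bot g).mp g.injective,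
      ← RingHom.ker_eq_comap_bot, Ideal.mk_ker, comap_toNorm]
  have huniq : ∀ (m₁ m₂ : Ideal (CAlg2.normRed O)) [m₁.IsMaximal] [m₂.IsMaximal], m₁ = m₂ := by
    intro m₁ m₂ _ _
    letI : Field (CAlg2.normRed O ⧸ m₁) := Ideal.Quotient.field m₁
    letI : Field (CAlg2.normRed O ⧸ m₂) := Ideal.Quotient.field m₂
    obtain ⟨Ω, _, g₁, g₂, hg⟩ := exists_common_field (resMap O m₁) (resMap O m₂) (resMap_isIntegral m₁)
      (resMap_isIntegral m₂)
    have h := hkey Ω (g₁.comp (Ideal.Quotient.mk m₁)) (g₂.comp (Ideal.Quotient.mk m₂))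
      (RingHom.ext fun a => RingHom.congr_fun hg (IsLocalRing.residue O a)) (hker m₁ g₁)
    have h2 := congrArg RingHom.ker h
    rwa [← RingHom.comap_ker, ← RingHom.comap_ker, (RingHom.injective_iff_ker_eq_bot g₁).mp g₁.injective,
      (RingHom.injective_iff_ker_eq_bot g₂).mp g₂.injective, ← RingHom.ker_eq_comap_bot,
      ← RingHom.ker_eq_comap_bot, Ideal.mk_ker, Ideal.mk_ker] at h2
  obtain ⟨m₀, hm₀⟩ := Ideal.exists_maximal (CAlg2.normRed O)
  refine Groth.L06.Unibranch.isGeomUnibranch_def.mpr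
    ⟨⟨inferInstance, IsLocalRing.of_unique_max_ideal ⟨m₀, hm₀, fun m hm => @huniq m m₀ hm hm₀⟩⟩, ?_⟩
  intro m hm x
  letI : Field (CAlg2.normRed O ⧸ m) := Ideal.Quotient.field m
  obtain ⟨n, y, hy⟩ := pow_mem_of_hom_ext (resMap O m) (resMap_isIntegral m) (fun Ω _ g₁ g₂ hg =>
    Ideal.Quotient.ringHom_ext (hkey Ω _ _ (RingHom.ext fun a => RingHom.congr_fun hg (IsLocalRing.residue O a))
      (hker m g₁))) (Ideal.Quotient.mk m x)
  obtain ⟨a, rfl⟩ := IsLocalRing.residue_surjective y
  refine ⟨n, a, Ideal.Quotient.eq.mp ?_⟩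
  rw [map_pow, ← resMap_residue m a, hy]

/-- Outside `sepSet`, points of the normalization agreeing on the base agree. -/
theorem hom_ext_of_not_mem {A B O : Type u} [CommRing A] [CommRing B] [Algebra A B] [CommRing O] [IsLocalRing O]
    [Algebra A O] (p : Ideal A) [p.IsPrime] [IsLocalization.AtPrime O p] [Algebra B (CAlg2.normRed O)]
    [IsLocalization (Algebra.algebraMapSubmonoid B p.primeCompl) (CAlg2.normRed O)]
    (hj : ∀ a, algebraMap B (CAlg2.normRed O) (algebraMap A B a) = toNorm O (algebraMap A O a))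
    (hq : (⟨p, inferInstance⟩ : PrimeSpectrum A) ∉ sepSet A B)
    (Ω : Type u) [Field Ω] (ψ₁ ψ₂ : CAlg2.normRed O →+* Ω) (h12 : ψ₁.comp (toNorm O) = ψ₂.comp (toNorm O))
    (hk : RingHom.ker (ψ₁.comp (toNorm O)) = IsLocalRing.maximalIdeal O) : ψ₁ = ψ₂ := by
  letI : Algebra A Ω := ((ψ₁.comp (toNorm O)).comp (algebraMap A O)).toAlgebra
  let φ₁ : B →ₐ[A] Ω := { ψ₁.comp (algebraMap B _) with commutes' := fun a => congrArg ψ₁ (hj a) }
  let φ₂ : B →ₐ[A] Ω := { ψ₂.comp (algebraMap B _) with
    commutes' := fun a => (congrArg ψ₂ (hj a)).trans (RingHom.congr_fun h12 (algebraMap A O a)).symm }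
  let Φ := Algebra.TensorProduct.productMap φ₁ φ₂
  haveI : (RingHom.ker Φ).IsPrime := RingHom.ker_isPrime _
  refine IsLocalization.ringHom_ext (Algebra.algebraMapSubmonoid B p.primeCompl) (RingHom.ext fun b => ?_)
  have hb : ((1 : B) ⊗ₜ[A] b - b ⊗ₜ[A] (1 : B)) ∈ RingHom.ker Φ := by
    by_contra hb
    refine hq ⟨⟨RingHom.ker Φ, inferInstance⟩, fun hle => hb (hle ?_), PrimeSpectrum.ext ?_⟩
    · rw [← KaehlerDifferential.span_range_eq_ideal]
      exact Ideal.subset_span ⟨b, rfl⟩
    · show (RingHom.ker Φ).comap (algebraMap A (B ⊗[A] B)) = p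
      ext a
      rw [Ideal.mem_comap, RingHom.mem_ker, AlgHom.commutes]
      show (ψ₁.comp (toNorm O)) (algebraMap A O a) = 0 ↔ a ∈ p
      rw [← RingHom.mem_ker, hk, IsLocalization.AtPrime.to_map_mem_maximal_iff O p]
  rw [RingHom.mem_ker, map_sub, sub_eq_zero, Algebra.TensorProduct.productMap_apply_tmul,
    Algebra.TensorProduct.productMap_apply_tmul, map_one, map_one, one_mul, mul_one] at hb
  exact hb.symm

/-- Over `sepSet`, geometric unibranchness fails. -/
theorem not_mem_of_isGeomUnibranch {A B O : Type u} [CommRing A] [CommRing B] [Algebra A B] [CommRing O]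
    [IsLocalRing O] [Algebra A O] (p : Ideal A) [p.IsPrime] [IsLocalization.AtPrime O p]
    [Algebra B (CAlg2.normRed O)]
    [IsLocalization (Algebra.algebraMapSubmonoid B p.primeCompl) (CAlg2.normRed O)]
    (hj : ∀ a, algebraMap B (CAlg2.normRed O) (algebraMap A B a) = toNorm O (algebraMap A O a))
    (h : CAlg2.IsGeomUnibranch O) : (⟨p, inferInstance⟩ : PrimeSpectrum A) ∉ sepSet A B := by
  rintro ⟨Q, hQ, hQq⟩
  refine hQ ?_
  rw [PrimeSpectrum.mem_zeroLocus, ← KaehlerDifferential.span_range_eq_ideal, SetLike.coe_subset_coe,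
    Ideal.span_le]
  rintro _ ⟨b, rfl⟩
  let Ω := Q.asIdeal.ResidueField
  let π := algebraMap (B ⊗[A] B) Ω
  let φ₁ : B →+* Ω := π.comp (Algebra.TensorProduct.includeLeft (S := A) : B →ₐ[A] B ⊗[A] B).toRingHom
  let φ₂ : B →+* Ω := π.comp (Algebra.TensorProduct.includeRight : B →ₐ[A] B ⊗[A] B).toRingHom
  have hA₁ : ∀ a, φ₁ (algebraMap A B a) = π (algebraMap A _ a) := fun a =>
    congrArg π ((Algebra.TensorProduct.includeLeft (S := A) : B →ₐ[A] B ⊗[A] B).commutes a)
  have hA₂ : ∀ a, φ₂ (algebraMap A B a) = π (algebraMap A _ a) := fun a =>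
    congrArg π ((Algebra.TensorProduct.includeRight : B →ₐ[A] B ⊗[A] B).commutes a)
  have hπker : ∀ z, π z = 0 ↔ z ∈ Q.asIdeal := fun z => Ideal.algebraMap_residueField_eq_zero
  have hmem : ∀ a : A, π (algebraMap A _ a) = 0 ↔ a ∈ p := fun a => by
    rw [hπker, ← show Q.asIdeal.comap (algebraMap A (B ⊗[A] B)) = p from congrArg PrimeSpectrum.asIdeal hQq]
    rfl
  have hu : ∀ φ : B →+* Ω, (∀ a, φ (algebraMap A B a) = π (algebraMap A _ a)) →
      ∀ s : Algebra.algebraMapSubmonoid B p.primeCompl, IsUnit (φ s) := by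
    rintro φ hφ ⟨_, a, ha, rfl⟩
    rw [hφ, isUnit_iff_ne_zero]
    exact fun h0 => ha ((hmem a).mp h0)
  let ψ₁ : CAlg2.normRed O →+* Ω := IsLocalization.lift (hu φ₁ hA₁)
  let ψ₂ : CAlg2.normRed O →+* Ω := IsLocalization.lift (hu φ₂ hA₂)
  have e₁ : ∀ b, ψ₁ (algebraMap B _ b) = φ₁ b := fun b => IsLocalization.lift_eq (hu φ₁ hA₁) b
  have e₂ : ∀ b, ψ₂ (algebraMap B _ b) = φ₂ b := fun b => IsLocalization.lift_eq (hu φ₂ hA₂) b
  have hO : ψ₁.comp (toNorm O) = ψ₂.comp (toNorm O) := IsLocalization.ringHom_ext p.primeCompl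
    (RingHom.ext fun a => by
      simp only [RingHom.comp_apply, ← hj, e₁, e₂, hA₁, hA₂])
  have hmax : RingHom.ker (ψ₁.comp (toNorm O)) = IsLocalRing.maximalIdeal O := by
    have h1 : (RingHom.ker (ψ₁.comp (toNorm O))).comap (algebraMap A O) = p := by
      ext a
      rw [Ideal.mem_comap, RingHom.mem_ker, RingHom.comp_apply, ← hj, e₁, hA₁, hmem]
    refine (IsLocalization.map_under p.primeCompl O _).symm.trans ?_
    rw [Ideal.under_def, h1, IsLocalization.AtPrime.map_eq_maximalIdeal p O]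
  have heq := Groth.L28.Unibranch.hom_ext_normRed h ψ₁ ψ₂ hO hmax
  show (1 : B) ⊗ₜ[A] b - b ⊗ₜ[A] (1 : B) ∈ Q.asIdeal
  rw [← hπker, map_sub, sub_eq_zero]
  show φ₂ b = φ₁ b
  rw [← e₁, ← e₂, heq]

theorem domain_iff {A B K : Type u} [CommRing A] [IsDomain A] [Field K] [Algebra A K] [IsFractionRing A K]
    [CommRing B] [Algebra A B] [Algebra B K] [IsScalarTower A B K] [IsIntegralClosure B A K]
    (q : PrimeSpectrum A) :
    CAlg2.IsGeomUnibranch (Localization.AtPrime q.asIdeal) ↔ q ∉ sepSet A B := by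
  obtain ⟨j, hj, hloc⟩ := Groth.L22.Norm.exists_isLocalization_normRed (A := A) (B := B) (K := K)
    (O := Localization.AtPrime q.asIdeal) q.asIdeal
  letI := j.toAlgebra
  haveI := hloc
  have hjA : ∀ a, j (algebraMap A B a) = toNorm _ (algebraMap A _ a) := fun a => RingHom.congr_fun hj a
  refine ⟨fun h => not_mem_of_isGeomUnibranch q.asIdeal hjA h, fun h => ?_⟩
  haveI : IsDomain (CAlg2.red (Localization.AtPrime q.asIdeal)) := by
    haveI : (nilradical (Localization.AtPrime q.asIdeal)).IsPrime := by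
      rw [nilradical_eq_zero]; exact Ideal.isPrime_bot
    exact Ideal.Quotient.isDomain _
  exact isGeomUnibranch_of_hom_ext (hom_ext_of_not_mem q.asIdeal hjA h)

/-- The geometrically unibranch locus of a Noetherian domain with finite normalization. -/
theorem isConstructible_domain {A : Type u} [CommRing A] [IsDomain A] [IsNoetherianRing A]
    (h : Module.Finite A (integralClosure A (FractionRing A))) :
    IsConstructible {q : PrimeSpectrum A | CAlg2.IsGeomUnibranch (Localization.AtPrime q.asIdeal)} := by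
  let B := integralClosure A (FractionRing A)
  haveI : Module.Finite A B := h
  have e : {q : PrimeSpectrum A | CAlg2.IsGeomUnibranch (Localization.AtPrime q.asIdeal)} = (sepSet A B)ᶜ :=
    Set.ext fun q => domain_iff (K := FractionRing A) q
  rw [e]
  haveI : IsNoetherianRing B := IsNoetherianRing.of_finite A B
  haveI : Algebra.FiniteType A (B ⊗[A] B) := inferInstance
  haveI : IsNoetherianRing (B ⊗[A] B) := Algebra.FiniteType.isNoetherianRing A _
  refine IsConstructible.compl (PrimeSpectrum.isConstructible_comap_image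
    (RingHom.finitePresentation_algebraMap.mpr (Algebra.FinitePresentation.of_finiteType.mp inferInstance)) ?_)
  exact Groth.L06.Constr.isConstructible_of_isOpen (PrimeSpectrum.isClosed_zeroLocus _).isOpen_compl

/-- The normalization of a quotient by a minimal prime is finite. -/
theorem finite_quotient_minimal {A : Type u} [CommRing A] [IsNoetherianRing A] [IsReduced A]
    (h : Module.Finite A (integralClosure A (FractionRing A))) {P : Ideal A} (hP : P ∈ minimalPrimes A) [P.IsPrime] :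
    Module.Finite (A ⧸ P) (integralClosure (A ⧸ P) (FractionRing (A ⧸ P))) := by
  classical
  let F := FractionRing A
  let L := FractionRing (A ⧸ P)
  have hfin : (minimalPrimes A).Finite := minimalPrimes.finite_of_isNoetherianRing A
  have havoid : ∀ (J : Ideal A) (s : Set (Ideal A)), s ⊆ minimalPrimes A → (∀ Q ∈ s, ¬ J ≤ Q) →
      ∃ x ∈ J, ∀ Q ∈ s, x ∉ Q := by
    intro J s hs hJ
    by_contra hc
    push Not at hc
    obtain ⟨Q, hQ, hle⟩ := (Ideal.subset_union_prime (s := (hfin.subset hs).toFinset) (f := id) J J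
      (fun Q hQ _ _ => (hs ((hfin.subset hs).mem_toFinset.mp hQ)).1.1) (I := J)).mp (fun x hx => by
        obtain ⟨Q, hQ, hxQ⟩ := hc x hx
        exact Set.mem_iUnion₂.mpr ⟨Q, (hfin.subset hs).mem_toFinset.mpr hQ, hxQ⟩)
    exact hJ Q ((hfin.subset hs).mem_toFinset.mp hQ) hle
  obtain ⟨t, htQ, htP⟩ : ∃ t, (∀ Q ∈ minimalPrimes A, Q ≠ P → t ∈ Q) ∧ t ∉ P := by
    have hnle : ¬ (hfin.toFinset.erase P).inf id ≤ P := fun hle => by
      obtain ⟨Q, hQ, hQP⟩ := (Ideal.IsPrime.inf_le' ‹_›).mp hle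
      obtain ⟨hne, hQm⟩ := Finset.mem_erase.mp hQ
      rw [Set.Finite.mem_toFinset] at hQm
      exact hne (le_antisymm hQP (hP.2 hQm.1 hQP))
    obtain ⟨t, ht, htP⟩ := SetLike.not_le_iff_exists.mp hnle
    refine ⟨t, fun Q hQ hne => ?_, htP⟩
    exact (Finset.inf_le (f := id) (Finset.mem_erase.mpr ⟨hne, hfin.mem_toFinset.mpr hQ⟩) : _ ≤ Q) ht
  obtain ⟨s, hsP, hsQ⟩ := havoid P (minimalPrimes A \ {P}) Set.diff_subset (fun Q ⟨hQ, hne⟩ hle =>
    hne (le_antisymm (hQ.2 hP.1 hle) hle))
  have hts : t * s = 0 := NorLocusFinite.eq_zero_of_forall_minimal fun Q hQ => by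
    by_cases hne : Q = P
    · subst hne; exact Ideal.mul_mem_left _ _ hsP
    · exact Ideal.mul_mem_right _ _ (htQ Q hQ hne)
  have hnzd : ∀ c, c ∉ P → t * c + s ∈ nonZeroDivisors A := fun c hc =>
    NorLocusFinite.mem_nonZeroDivisors_of_forall fun Q hQ hmem => by
      by_cases hne : Q = P
      · subst hne
        exact (Ideal.IsPrime.mem_or_mem ‹_› ((Ideal.add_mem_iff_left _ hsP).mp hmem)).elim htP hc
      · exact hsQ Q ⟨hQ, hne⟩ ((Ideal.add_mem_iff_right _ (Ideal.mul_mem_right _ _ (htQ Q hQ hne))).mp hmem)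
  have hmap : ∀ d : nonZeroDivisors A, IsUnit (algebraMap A L d) := fun d => by
    rw [isUnit_iff_ne_zero, IsScalarTower.algebraMap_apply A (A ⧸ P) L]
    intro h0
    exact Ideal.disjoint_nonZeroDivisors_of_mem_minimalPrimes hP |>.le_bot
      ⟨Ideal.Quotient.eq_zero_iff_mem.mp (IsFractionRing.injective (A ⧸ P) L (h0.trans (map_zero _).symm)), d.2⟩
  let π : F →+* L := IsLocalization.lift hmap
  have hπ : ∀ a, π (algebraMap A F a) = algebraMap (A ⧸ P) L (Ideal.Quotient.mk P a) := fun a =>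
    (IsLocalization.lift_eq hmap a).trans (IsScalarTower.algebraMap_apply A (A ⧸ P) L a)
  let π' : integralClosure A F →ₗ[A] integralClosure (A ⧸ P) L :=
    { toFun := fun y => ⟨π y.1, by
        obtain ⟨G, hG, hGy⟩ := y.2
        refine ⟨G.map (Ideal.Quotient.mk P), hG.map _, ?_⟩
        rw [Polynomial.eval₂_map, show (algebraMap (A ⧸ P) L).comp (Ideal.Quotient.mk P) =
          π.comp (algebraMap A F) from RingHom.ext fun a => (hπ a).symm, ← Polynomial.hom_eval₂, hGy, map_zero]⟩
      map_add' := fun a b => Subtype.ext (map_add π _ _)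
      map_smul' := fun r y => Subtype.ext (by
        show π (r • y.1) = r • π y.1
        rw [Algebra.smul_def, map_mul, hπ, Algebra.smul_def, IsScalarTower.algebraMap_apply A (A ⧸ P) L]
        rfl) }
  have hsurj : Function.Surjective π' := by
    rintro ⟨x, hx⟩
    obtain ⟨a, c, hc, rfl⟩ := IsFractionRing.div_surjective (A := A ⧸ P) x
    obtain ⟨a, rfl⟩ := Ideal.Quotient.mk_surjective a
    obtain ⟨c, rfl⟩ := Ideal.Quotient.mk_surjective c
    have hcP : c ∉ P := fun h0 => nonZeroDivisors.ne_zero hc (Ideal.Quotient.eq_zero_iff_mem.mpr h0)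
    let e : F := IsLocalization.mk' F t ⟨t * 1 + s, hnzd 1 P.one_notMem⟩
    let y : F := IsLocalization.mk' F (t * a) ⟨t * c + s, hnzd c hcP⟩
    have hd : ∀ r u (hu : r * u + s ∈ nonZeroDivisors A) (v : A),
        π (IsLocalization.mk' F v ⟨r * u + s, hu⟩) * algebraMap (A ⧸ P) L (Ideal.Quotient.mk P (r * u)) =
          algebraMap (A ⧸ P) L (Ideal.Quotient.mk P v) := fun r u hu v => by
      rw [← hπ v, ← IsLocalization.mk'_spec F v ⟨r * u + s, hu⟩, map_mul π, hπ, map_add,
        Ideal.Quotient.eq_zero_iff_mem.mpr hsP, add_zero]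
    have hne : ∀ u, u ∉ P → algebraMap (A ⧸ P) L (Ideal.Quotient.mk P u) ≠ 0 := fun u hu =>
      (map_ne_zero_iff _ (IsFractionRing.injective (A ⧸ P) L)).mpr fun h0 => hu (Ideal.Quotient.eq_zero_iff_mem.mp h0)
    have hπy : π y = algebraMap (A ⧸ P) L (Ideal.Quotient.mk P a) / algebraMap (A ⧸ P) L (Ideal.Quotient.mk P c) := by
      rw [eq_div_iff (hne c hcP)]
      refine mul_right_cancel₀ (hne t htP) ?_
      rw [mul_assoc, ← map_mul, ← map_mul, ← map_mul, ← map_mul, mul_comm c t, mul_comm a t]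
      exact hd t c (hnzd c hcP) (t * a)
    have hey : e * y = y := by
      show IsLocalization.mk' F t _ * IsLocalization.mk' F (t * a) _ = IsLocalization.mk' F (t * a) _
      rw [← IsLocalization.mk'_mul, IsLocalization.mk'_eq_iff_eq]
      refine congrArg _ ?_
      show (t * c + s) * (t * (t * a)) = (t * 1 + s) * (t * c + s) * (t * a)
      linear_combination -(t * c + s) * a * hts
    have hker : ∀ z, π z = 0 → e * z = 0 := fun z hz => by
      obtain ⟨u, v, rfl⟩ := IsLocalization.exists_mk'_eq (nonZeroDivisors A) z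
      have hu : u ∈ P := by
        have h1 := congrArg π (IsLocalization.mk'_spec F u v)
        rw [map_mul, hz, zero_mul, hπ] at h1
        exact Ideal.Quotient.eq_zero_iff_mem.mp (IsFractionRing.injective (A ⧸ P) L (h1.symm.trans (map_zero _).symm))
      show IsLocalization.mk' F t _ * _ = 0
      rw [← IsLocalization.mk'_mul, IsLocalization.mk'_eq_zero_iff]
      exact ⟨1, by
        rw [Submonoid.coe_one, one_mul]
        refine NorLocusFinite.eq_zero_of_forall_minimal fun Q hQ => ?_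
        by_cases hne : Q = P
        · subst hne; exact Ideal.mul_mem_left _ _ hu
        · exact Ideal.mul_mem_right _ _ (htQ Q hQ hne)⟩
    obtain ⟨G, hG, hGx⟩ := hx
    obtain ⟨G₀, hG₀, -, hG₀m⟩ := Polynomial.lifts_and_degree_eq_and_monic
      (show G ∈ Polynomial.lifts (Ideal.Quotient.mk P) from
        (Polynomial.mem_lifts G).mpr (Polynomial.map_surjective _ Ideal.Quotient.mk_surjective G)) hG
    have hyint : IsIntegral A y := by
      refine ⟨Polynomial.X * G₀, Polynomial.monic_X.mul hG₀m, ?_⟩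
      rw [Polynomial.eval₂_mul, Polynomial.eval₂_X, ← hey, mul_assoc, mul_left_comm, hker, mul_zero]
      rw [Polynomial.hom_eval₂, hey, hπy, show π.comp (algebraMap A F) =
        (algebraMap (A ⧸ P) L).comp (Ideal.Quotient.mk P) from RingHom.ext hπ, ← Polynomial.eval₂_map, hG₀, hGx]
    exact ⟨⟨y, hyint⟩, Subtype.ext hπy⟩
  haveI := h
  haveI : Module.Finite A (integralClosure (A ⧸ P) L) := Module.Finite.of_surjective π' hsurj
  exact Module.Finite.of_restrictScalars_finite A (A ⧸ P) _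

/-- The geometrically unibranch locus of a reduced Noetherian ring with finite normalization. -/
theorem isConstructible_reduced {A : Type u} [CommRing A] [IsNoetherianRing A] [IsReduced A]
    (h : Module.Finite A (integralClosure A (FractionRing A))) :
    IsConstructible {q : PrimeSpectrum A | CAlg2.IsGeomUnibranch (Localization.AtPrime q.asIdeal)} := by
  classical
  have hfin : (minimalPrimes A).Finite := minimalPrimes.finite_of_isNoetherianRing A
  haveI := hfin.to_subtype
  haveI hPp : ∀ P : minimalPrimes A, P.1.IsPrime := fun P => P.2.1.1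
  let T : ∀ P : minimalPrimes A, Set (PrimeSpectrum (A ⧸ P.1)) := fun P =>
    {q | CAlg2.IsGeomUnibranch (Localization.AtPrime q.asIdeal)}
  let U : minimalPrimes A → Set (PrimeSpectrum A) := fun P =>
    PrimeSpectrum.comap (Ideal.Quotient.mk P.1) '' T P ∩
      ⋂ Q : minimalPrimes A, if Q = P then Set.univ else (PrimeSpectrum.zeroLocus (Q.1 : Set A))ᶜ
  have key : ∀ (P : minimalPrimes A) (q : PrimeSpectrum A),
      (∀ Q : minimalPrimes A, Q ≠ P → ¬ Q.1 ≤ q.asIdeal) → ∀ q' : PrimeSpectrum (A ⧸ P.1),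
      PrimeSpectrum.comap (Ideal.Quotient.mk P.1) q' = q →
      (CAlg2.IsGeomUnibranch (Localization.AtPrime q.asIdeal) ↔ q' ∈ T P) := by
    intro P q huniq q' hq'
    subst hq'
    show CAlg2.IsGeomUnibranch (Localization.AtPrime (q'.asIdeal.comap (Ideal.Quotient.mk P.1))) ↔ _
    let π := Localization.localRingHom (q'.asIdeal.comap (Ideal.Quotient.mk P.1)) q'.asIdeal (Ideal.Quotient.mk P.1) rfl
    refine iff_of_surjective π (fun b => ?_) (fun b hb => ?_)
    · obtain ⟨r, ⟨s, hs⟩, rfl⟩ := IsLocalization.exists_mk'_eq q'.asIdeal.primeCompl b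
      obtain ⟨a, rfl⟩ := Ideal.Quotient.mk_surjective r
      obtain ⟨t, rfl⟩ := Ideal.Quotient.mk_surjective s
      exact ⟨IsLocalization.mk' _ a ⟨t, hs⟩, Localization.localRingHom_mk' _ _ _ _ _ _⟩
    · obtain ⟨a, ⟨t, ht⟩, rfl⟩ :=
        IsLocalization.exists_mk'_eq (q'.asIdeal.comap (Ideal.Quotient.mk P.1)).primeCompl b
      rw [RingHom.mem_ker, Localization.localRingHom_mk', IsLocalization.mk'_eq_zero_iff] at hb
      obtain ⟨⟨s, hs⟩, hsa⟩ := hb
      obtain ⟨s, rfl⟩ := Ideal.Quotient.mk_surjective s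
      rw [← map_mul, Ideal.Quotient.eq_zero_iff_mem] at hsa
      obtain ⟨r, hr, hrq⟩ : ∃ r, (∀ Q : minimalPrimes A, Q ≠ P → r ∈ Q.1) ∧
          r ∈ (q'.asIdeal.comap (Ideal.Quotient.mk P.1)).primeCompl := by
        choose! g hg hgq using fun Q (hQ : Q ≠ P) => SetLike.not_le_iff_exists.mp (huniq Q hQ)
        haveI := Fintype.ofFinite (minimalPrimes A)
        exact ⟨∏ Q ∈ Finset.univ.erase P, g Q, fun Q hQ => Ideal.prod_mem Q.1 (Finset.mem_erase.mpr ⟨hQ, Finset.mem_univ _⟩) (hg Q hQ),
          Submonoid.prod_mem _ fun Q hQ => hgq Q (Finset.mem_erase.mp hQ).1⟩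
      refine mem_nilradical.mpr ⟨1, ?_⟩
      rw [pow_one, IsLocalization.mk'_eq_zero_iff]
      refine ⟨⟨r * s, mul_mem hrq hs⟩, ?_⟩
      show r * s * a = 0
      refine NorLocusFinite.eq_zero_of_forall_minimal fun Q hQ => ?_
      by_cases hne : (⟨Q, hQ⟩ : minimalPrimes A) = P
      · rw [mul_assoc]
        exact Ideal.mul_mem_left _ _ (by rw [show Q = P.1 from congrArg Subtype.val hne]; exact hsa)
      · exact Ideal.mul_mem_right _ _ (Ideal.mul_mem_right _ _ (hr ⟨Q, hQ⟩ hne))
  have e : {q : PrimeSpectrum A | CAlg2.IsGeomUnibranch (Localization.AtPrime q.asIdeal)} = ⋃ P, U P := by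
    ext q
    simp only [Set.mem_iUnion]
    constructor
    · intro hq
      obtain ⟨P₀, hP₀, hP₀q⟩ := Ideal.exists_minimalPrimes_le (I := (⊥ : Ideal A)) (J := q.asIdeal) bot_le
      haveI : P₀.IsPrime := hP₀.1.1
      have huniq : ∀ Q : minimalPrimes A, Q ≠ ⟨P₀, hP₀⟩ → ¬ Q.1 ≤ q.asIdeal := fun Q hne hle => by
        haveI : IsReduced (Localization.AtPrime q.asIdeal) := inferInstance
        haveI hnp : (nilradical (Localization.AtPrime q.asIdeal)).IsPrime :=
          (Ideal.Quotient.isDomain_iff_prime _).mp hq.1.1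
        rw [nilradical_eq_zero] at hnp
        have key : ∀ Q : minimalPrimes A, Q.1 ≤ q.asIdeal → Q.1 =
            (⊥ : Ideal (Localization.AtPrime q.asIdeal)).comap (algebraMap A (Localization.AtPrime q.asIdeal)) := by
          intro Q hle
          haveI : ((⊥ : Ideal (Localization.AtPrime q.asIdeal)).comap
              (algebraMap A (Localization.AtPrime q.asIdeal))).IsPrime := Ideal.IsPrime.comap _
          refine (le_antisymm (fun x hx => ?_) (Q.2.2 ⟨inferInstance, bot_le⟩ fun x hx => ?_)).symm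
          all_goals
            rw [Ideal.mem_comap, Ideal.mem_bot, IsLocalization.map_eq_zero_iff q.asIdeal.primeCompl] at hx
            obtain ⟨⟨c, hc⟩, hcx⟩ := hx
            exact ((Q.2.1.1).mem_or_mem (hcx ▸ Q.1.zero_mem)).resolve_left fun h => hc (hle h)
        exact hne (Subtype.ext ((key Q hle).trans (key ⟨P₀, hP₀⟩ hP₀q).symm))
      have hq' : (Ideal.map (Ideal.Quotient.mk P₀) q.asIdeal).IsPrime :=
        Ideal.map_isPrime_of_surjective Ideal.Quotient.mk_surjective (by rw [Ideal.mk_ker]; exact hP₀q)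
      have hcq : PrimeSpectrum.comap (Ideal.Quotient.mk P₀) ⟨_, hq'⟩ = q := PrimeSpectrum.ext (by
        show (Ideal.map (Ideal.Quotient.mk P₀) q.asIdeal).comap (Ideal.Quotient.mk P₀) = _
        rw [Ideal.comap_map_of_surjective _ Ideal.Quotient.mk_surjective, ← RingHom.ker_eq_comap_bot, Ideal.mk_ker,
          sup_eq_left.mpr hP₀q])
      refine ⟨⟨P₀, hP₀⟩, ⟨⟨_, hq'⟩, (key ⟨P₀, hP₀⟩ q huniq _ hcq).mp hq, hcq⟩, Set.mem_iInter.mpr fun Q => ?_⟩
      split_ifs with hne
      · trivial
      · exact huniq Q hne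
    · rintro ⟨P, ⟨q', hq', rfl⟩, hQ⟩
      refine (key P _ (fun Q hne => ?_) q' rfl).mpr hq'
      have := Set.mem_iInter.mp hQ Q
      rw [if_neg hne] at this
      exact this
  rw [e]
  refine IsConstructible.iUnion fun P => ?_
  refine (PrimeSpectrum.isConstructible_comap_image ?_ (isConstructible_domain (finite_quotient_minimal h P.2))).inter
    (Groth.L06.Constr.isConstructible_of_isOpen (isOpen_iInter_of_finite fun Q => ?_))
  · exact RingHom.FinitePresentation.of_surjective _ Ideal.Quotient.mk_surjective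
      (by rw [Ideal.mk_ker]; exact IsNoetherian.noetherian _)
  · split_ifs
    · exact isOpen_univ
    · exact (PrimeSpectrum.isClosed_zeroLocus _).isOpen_compl

/-- The geometrically unibranch locus of a Noetherian ring with finite normalization of the reduction. -/
theorem isConstructible_ring {R : Type u} [CommRing R] [IsNoetherianRing R]
    (h : Module.Finite (CAlg2.red R) (CAlg2.normRed R)) :
    IsConstructible {q : PrimeSpectrum R | CAlg2.IsGeomUnibranch (Localization.AtPrime q.asIdeal)} := by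
  haveI : IsReduced (CAlg2.red R) := (Ideal.isRadical_iff_quotient_reduced _).mp (Ideal.radical_isRadical _)
  let m := Ideal.Quotient.mk (nilradical R)
  have hsurj : Function.Surjective (PrimeSpectrum.comap m) := fun q =>
    ⟨⟨q.asIdeal.map m, Ideal.map_isPrime_of_surjective Ideal.Quotient.mk_surjective (by
      rw [Ideal.mk_ker]; exact nilradical_le_prime _)⟩, PrimeSpectrum.ext (by
      show (q.asIdeal.map m).comap m = _
      rw [Ideal.comap_map_of_surjective _ Ideal.Quotient.mk_surjective, ← RingHom.ker_eq_comap_bot, Ideal.mk_ker]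
      exact sup_eq_left.mpr (nilradical_le_prime _))⟩
  have e : {q : PrimeSpectrum R | CAlg2.IsGeomUnibranch (Localization.AtPrime q.asIdeal)} =
      PrimeSpectrum.comap m '' {q | CAlg2.IsGeomUnibranch (Localization.AtPrime q.asIdeal)} := by
    have key : ∀ q' : PrimeSpectrum (CAlg2.red R),
        CAlg2.IsGeomUnibranch (Localization.AtPrime (PrimeSpectrum.comap m q').asIdeal) ↔
          CAlg2.IsGeomUnibranch (Localization.AtPrime q'.asIdeal) := by
      intro q'
      show CAlg2.IsGeomUnibranch (Localization.AtPrime (q'.asIdeal.comap m)) ↔ _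
      refine iff_of_surjective (Localization.localRingHom (q'.asIdeal.comap m) q'.asIdeal m rfl)
        (fun b => ?_) (fun b hb => ?_)
      · obtain ⟨r, ⟨s, hs⟩, rfl⟩ := IsLocalization.exists_mk'_eq q'.asIdeal.primeCompl b
        obtain ⟨a, rfl⟩ := Ideal.Quotient.mk_surjective r
        obtain ⟨t, rfl⟩ := Ideal.Quotient.mk_surjective s
        exact ⟨IsLocalization.mk' _ a ⟨t, hs⟩, Localization.localRingHom_mk' _ _ _ _ _ _⟩
      · obtain ⟨a, ⟨t, ht⟩, rfl⟩ := IsLocalization.exists_mk'_eq (q'.asIdeal.comap m).primeCompl b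
        rw [RingHom.mem_ker, Localization.localRingHom_mk', IsLocalization.mk'_eq_zero_iff] at hb
        obtain ⟨⟨s, hs⟩, hsa⟩ := hb
        obtain ⟨s, rfl⟩ := Ideal.Quotient.mk_surjective s
        rw [← map_mul, Ideal.Quotient.eq_zero_iff_mem, mem_nilradical] at hsa
        obtain ⟨k, hk⟩ := hsa
        refine mem_nilradical.mpr ⟨k, ?_⟩
        rw [← IsLocalization.mk'_pow, IsLocalization.mk'_eq_zero_iff]
        exact ⟨⟨s, hs⟩ ^ k, by rw [SubmonoidClass.coe_pow, ← mul_pow]; exact hk⟩
    ext q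
    obtain ⟨q', rfl⟩ := hsurj q
    exact ⟨fun hq => ⟨q', (key q').mp hq, rfl⟩, fun ⟨q'', hq'', he⟩ => he ▸ (key q'').mpr hq''⟩
  rw [e]
  exact PrimeSpectrum.isConstructible_comap_image (RingHom.FinitePresentation.of_surjective _
    Ideal.Quotient.mk_surjective (by rw [Ideal.mk_ker]; exact IsNoetherian.noetherian _)) (isConstructible_reduced h)

theorem main (X : Scheme.{u}) [IsLocallyNoetherian X]
    (hfin : ∀ U : X.affineOpens, Module.Finite (CAlg2.red Γ(X, U.1)) (CAlg2.normRed Γ(X, U.1))) :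
    Topology.IsLocallyConstructible {x : X | CAlg2.IsGeomUnibranch (X.presheaf.stalk x)} := by
  intro x
  obtain ⟨U, hU, hxU, -⟩ := exists_isAffineOpen_mem_and_subset (x := x) (U := (⊤ : X.Opens)) trivial
  refine ⟨U, U.2.mem_nhds hxU, U.2, ?_⟩
  haveI := IsLocallyNoetherian.component_noetherian ⟨U, hU⟩
  have hc := isConstructible_ring (hfin ⟨U, hU⟩)
  let e := (hU.isoSpec.hom).homeomorph
  have h2 := hc.preimage_of_isOpenEmbedding e.isOpenEmbedding
  refine Eq.subst (motive := IsConstructible) (Set.ext fun ⟨z, hz⟩ => ?_) h2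
  refine Iff.symm ?_
  show CAlg2.IsGeomUnibranch (X.presheaf.stalk z) ↔
    CAlg2.IsGeomUnibranch (Localization.AtPrime (hU.primeIdealOf ⟨z, hz⟩).asIdeal)
  letI := X.presheaf.algebra_section_stalk (⟨z, hz⟩ : U)
  haveI := hU.isLocalization_stalk ⟨z, hz⟩
  let ε := IsLocalization.algEquiv (hU.primeIdealOf ⟨z, hz⟩).asIdeal.primeCompl (X.presheaf.stalk z)
    (Localization.AtPrime (hU.primeIdealOf ⟨z, hz⟩).asIdeal)
  exact iff_of_surjective ε.toRingEquiv.toRingHom ε.surjective fun a ha => by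
    rw [show a = 0 from ε.injective (ha.trans (map_zero ε).symm)]; exact Ideal.zero_mem _

end Groth.L06.GeomUnibranchCons
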