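import Groth.Agent.L06.SmoothBranches
import Groth.Agent.L19.SmoothNormal
import Groth.Agent.L20.NormalWE
import Mathlib.RingTheory.Localization.Integral
import Mathlib.FieldTheory.PurelyInseparable.Basic

/-! Branches of smooth algebras after henselization, with purely inseparable residue extension. -/

set_option autoImplicit false
set_option linter.style.haveILetI false
set_option maxSynthPendingDepth 3
universe u

open IsLocalRing Groth.L05.Henselization Groth.L05.Henselization.Branches
open scoped TensorProduct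

namespace Groth.L06.SmoothBranches

theorem ker_includeRight_of_flat (A B N : Type u) [CommRing A] [CommRing B] [CommRing N] [Algebra A B]
    [Algebra A N] [Module.Flat A B] (I : Ideal A) (j : (A ⧸ I) →ₐ[A] N) (hj : Function.Injective j) :
    RingHom.ker (Algebra.TensorProduct.includeRight : B →ₐ[A] N ⊗[A] B).toRingHom = I.map (algebraMap A B) := by
  refine le_antisymm (fun x hx => ?_) ?_
  · have hx' : (Algebra.TensorProduct.includeRight : B →ₐ[A] N ⊗[A] B) x = 0 := hx
    have h := Module.Flat.rTensor_preserves_injective_linearMap (M := B) j.toLinearMap hj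
    have h0 : (1 : A ⧸ I) ⊗ₜ[A] x = 0 := h (by
      rw [map_zero, LinearMap.rTensor_tmul]
      show (j 1) ⊗ₜ[A] x = 0
      rw [map_one]; exact hx')
    have h1 : x ⊗ₜ[A] (1 : A ⧸ I) = 0 := by
      simpa using congrArg (Algebra.TensorProduct.comm A (A ⧸ I) B) h0
    have h2 : (Ideal.Quotient.mk (I.map (algebraMap A B)) x) = 0 :=
      (Algebra.TensorProduct.quotIdealMapEquivTensorQuot B I).injective (by simpa using h1)
    exact Ideal.Quotient.eq_zero_iff_mem.mp h2
  · rw [Ideal.map_le_iff_le_comap]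
    intro a ha
    show (Algebra.TensorProduct.includeRight : B →ₐ[A] N ⊗[A] B) (algebraMap A B a) = 0
    rw [AlgHom.commutes, Algebra.TensorProduct.algebraMap_apply, ← j.commutes, Ideal.Quotient.algebraMap_eq,
      Ideal.Quotient.eq_zero_iff_mem.2 ha, map_zero, TensorProduct.zero_tmul]

theorem isPrime_map_of_smooth_hens (R S Ah Bh : Type u) [CommRing R] [CommRing S] [Algebra R S]
    [Algebra.Smooth R S] [CommRing Ah] [HenselianLocalRing Ah]
    [Algebra R Ah] [CommRing Bh] [IsLocalRing Bh] [Algebra Ah Bh] [IsLocalHom (algebraMap Ah Bh)]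
    [Algebra (Ah ⊗[R] S) Bh] [IsScalarTower Ah (Ah ⊗[R] S) Bh] [Algebra.WeaklyEtale (Ah ⊗[R] S) Bh]
    (q' : ℕ) [ExpChar (ResidueField Bh) q']
    (hres : ∀ b : Bh, ∃ (e : ℕ) (a : Ah), b ^ q' ^ e - algebraMap Ah Bh a ∈ maximalIdeal Bh)
    (P : Ideal Ah) [P.IsPrime] : (P.map (algebraMap Ah Bh)).IsPrime := by
  let W := Ah ⊗[R] S
  let R₀ := Ah ⧸ P
  haveI : IsLocalRing R₀ := IsLocalRing.of_surjective' _ Ideal.Quotient.mk_surjective
  haveI : HenselianLocalRing R₀ := Groth.L05.henselianLocalRing_of_integral (A := Ah) R₀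
  let K := FractionRing R₀
  let N := integralClosure R₀ K
  haveI : IsIntegrallyClosed N := integralClosure.isIntegrallyClosedOfFiniteExtension K (L := K)
  haveI : IsLocalRing N := Groth.L05.isLocalRing_of_integral_domain (A := R₀) N
  haveI : Algebra.IsIntegral Ah N := Algebra.IsIntegral.trans R₀ (B := N)
  let j : R₀ →ₐ[Ah] N := IsScalarTower.toAlgHom Ah R₀ N
  have hj : Function.Injective j := fun a b h => IsFractionRing.injective R₀ K (congrArg Subtype.val h)
  let WN := N ⊗[Ah] W
  let iW : W →ₐ[Ah] WN := Algebra.TensorProduct.includeRight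
  letI : Algebra W WN := iW.toRingHom.toAlgebra
  haveI : IsScalarTower Ah W WN := .of_algebraMap_eq fun a => (iW.commutes a).symm
  haveI : Module.Flat Ah W := inferInstance
  have hkW : RingHom.ker (algebraMap W WN) = P.map (algebraMap Ah W) := ker_includeRight_of_flat Ah W N P j hj
  let jW : (W ⧸ P.map (algebraMap Ah W)) →ₐ[W] WN :=
    Ideal.Quotient.liftₐ _ (Algebra.ofId W WN) fun w hw => hkW.ge hw
  have hjW : Function.Injective jW := by
    refine (injective_iff_map_eq_zero jW).2 fun x hx => ?_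
    obtain ⟨w, rfl⟩ := Ideal.Quotient.mk_surjective x
    exact Ideal.Quotient.eq_zero_iff_mem.2 (hkW.le hx)
  let U := WN ⊗[W] Bh
  letI : CommRing U := inferInstanceAs (CommRing (WN ⊗[W] Bh))
  let iB : Bh →+* U := (Algebra.TensorProduct.includeRight : Bh →ₐ[W] U).toRingHom
  haveI : Module.Flat W Bh := Algebra.WeaklyEtale.flat
  have hkB : RingHom.ker iB = P.map (algebraMap Ah Bh) := by
    have h := ker_includeRight_of_flat W Bh WN _ jW hjW
    rw [Ideal.map_map, ← IsScalarTower.algebraMap_eq] at h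
    exact h
  let iN : N →+* U := (algebraMap WN U).comp (Algebra.TensorProduct.includeLeftRingHom : N →+* WN)
  have hcompat : ∀ a : Ah, iN (algebraMap Ah N a) = iB (algebraMap Ah Bh a) := fun a => by
    show algebraMap WN U ((Algebra.TensorProduct.includeLeft : N →ₐ[Ah] WN) (algebraMap Ah N a)) =
      (Algebra.TensorProduct.includeRight : Bh →ₐ[W] U) (algebraMap Ah Bh a)
    rw [AlgHom.commutes, IsScalarTower.algebraMap_apply Ah W WN, IsScalarTower.algebraMap_apply Ah W Bh,
      AlgHom.commutes, Algebra.TensorProduct.algebraMap_apply, Algebra.TensorProduct.algebraMap_apply]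
    rfl
  haveI : Algebra.IsIntegral W WN := ⟨fun z => by
    have h := Algebra.IsIntegral.isIntegral (R := W) ((Algebra.TensorProduct.comm Ah N W) z)
    let e : W ⊗[Ah] N →ₐ[W] WN :=
      { (Algebra.TensorProduct.comm Ah W N).toRingEquiv.toRingHom with
        commutes' := fun w => by
          show Algebra.TensorProduct.comm Ah W N (w ⊗ₜ[Ah] 1) = _
          rfl }
    have h' := h.map e
    rwa [show e (Algebra.TensorProduct.comm Ah N W z) = z from
      (Algebra.TensorProduct.comm Ah N W).symm_apply_apply z] at h'⟩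
  have hint : iB.IsIntegral := fun z => by
    letI : Algebra Bh U := Algebra.TensorProduct.rightAlgebra
    have h := Algebra.IsIntegral.isIntegral (R := Bh) ((Algebra.TensorProduct.comm W WN Bh) z)
    let e : Bh ⊗[W] WN →ₐ[Bh] U :=
      { (Algebra.TensorProduct.comm W Bh WN).toRingEquiv.toRingHom with
        commutes' := fun b => by
          show Algebra.TensorProduct.comm W Bh WN (b ⊗ₜ[W] 1) = _
          rfl }
    have h' := h.map e
    rwa [show e (Algebra.TensorProduct.comm W WN Bh z) = z from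
      (Algebra.TensorProduct.comm W WN Bh).symm_apply_apply z] at h'
  have hPne : P.map (algebraMap Ah Bh) ≤ maximalIdeal Bh :=
    (Ideal.map_mono (IsLocalRing.le_maximalIdeal ‹P.IsPrime›.ne_top)).trans
      (((IsLocalRing.local_hom_TFAE (algebraMap Ah Bh)).out 0 2 rfl rfl).mp inferInstance)
  haveI : Nontrivial U := nontrivial_of_ne 1 0 fun h =>
    (maximalIdeal.isMaximal Bh).ne_top ((Ideal.eq_top_iff_one _).mpr
      (hPne (hkB.le (RingHom.mem_ker.mpr ((map_one iB).trans h)))))
  have hoverB : ∀ Q : Ideal U, Q.IsMaximal → Q.comap iB = maximalIdeal Bh := fun Q hQ => by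
    letI := iB.toAlgebra
    haveI : Algebra.IsIntegral Bh U := ⟨hint⟩
    haveI := hQ
    exact eq_maximalIdeal (Ideal.isMaximal_comap_of_isIntegral_of_isMaximal (R := Bh) Q)
  have hoverN : ∀ Q : Ideal U, Q.IsMaximal → Q.comap iN = maximalIdeal N := fun Q hQ => by
    haveI := hQ.isPrime
    haveI : (Q.comap iN).IsPrime := Ideal.IsPrime.comap _
    refine eq_maximalIdeal (Ideal.isMaximal_of_isIntegral_of_isMaximal_comap (R := Ah) _ ?_)
    have : (Q.comap iN).comap (algebraMap Ah N) = maximalIdeal Ah := Ideal.ext fun a => by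
      show iN (algebraMap Ah N a) ∈ Q ↔ _
      rw [hcompat, ← Ideal.mem_comap, hoverB Q hQ, ← Ideal.mem_comap, IsLocalRing.maximalIdeal_comap]
    rw [this]; infer_instance
  let J : Ideal U := Ideal.jacobson ⊥
  have hJne : J ≠ ⊤ := fun h => by
    obtain ⟨Q, hQ⟩ := Ideal.exists_maximal U
    exact hQ.ne_top (top_le_iff.1 (h ▸ sInf_le ⟨bot_le, hQ⟩))
  haveI : Nontrivial (U ⧸ J) := Ideal.Quotient.nontrivial_iff.mpr hJne
  have hmJ : ∀ b ∈ maximalIdeal Bh, iB b ∈ J := fun b hb =>
    Ideal.mem_sInf.2 fun {Q} hQ => (hoverB Q hQ.2).ge hb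
  let φ : ResidueField Bh →+* U ⧸ J :=
    Ideal.Quotient.lift (maximalIdeal Bh) ((Ideal.Quotient.mk J).comp iB) fun b hb =>
      Ideal.Quotient.eq_zero_iff_mem.mpr (hmJ b hb)
  haveI : ExpChar (U ⧸ J) q' := expChar_of_injective_ringHom φ.injective q'
  have htm : ∀ (n : N) (w : W) (b : Bh), ((n ⊗ₜ[Ah] w : WN) ⊗ₜ[W] b : U) = iN n * iB (w • b) := by
    intro n w b
    have hw : (n ⊗ₜ[Ah] w : WN) = w • (n ⊗ₜ[Ah] (1 : W)) := by
      rw [Algebra.smul_def]
      show _ = ((1 : N) ⊗ₜ[Ah] w) * _
      rw [Algebra.TensorProduct.tmul_mul_tmul, one_mul, mul_one]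
    rw [hw, TensorProduct.smul_tmul]
    show _ = ((n ⊗ₜ[Ah] (1 : W) : WN) ⊗ₜ[W] (1 : Bh)) * ((1 : WN) ⊗ₜ[W] (w • b))
    rw [Algebra.TensorProduct.tmul_mul_tmul, mul_one, one_mul]
  have hpow : ∀ z : U, ∃ (e : ℕ) (n : N), z ^ q' ^ e - iN n ∈ J := by
    have hadd : ∀ x y : U, (∃ (e : ℕ) (n : N), x ^ q' ^ e - iN n ∈ J) →
        (∃ (e : ℕ) (n : N), y ^ q' ^ e - iN n ∈ J) → ∃ (e : ℕ) (n : N), (x + y) ^ q' ^ e - iN n ∈ J := by
      rintro x y ⟨m, s, hs⟩ ⟨k, t, ht⟩
      refine ⟨m + k, s ^ q' ^ k + t ^ q' ^ m, ?_⟩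
      rw [← Ideal.Quotient.eq, map_pow] at hs ht
      rw [← Ideal.Quotient.eq, map_pow, map_add, add_pow_expChar_pow, map_add, map_add, map_pow, map_pow,
        map_pow, map_pow, ← hs, ← ht, ← pow_mul, ← pow_mul, ← pow_add, ← pow_add, add_comm k m]
    have hzero : ∃ (e : ℕ) (n : N), (0 : U) ^ q' ^ e - iN n ∈ J := ⟨0, 0, by simp⟩
    intro z
    induction z using TensorProduct.induction_on with
    | zero => exact hzero
    | add x y hx hy => exact hadd x y hx hy
    | tmul wn b =>
      induction wn using TensorProduct.induction_on with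
      | zero => rw [TensorProduct.zero_tmul]; exact hzero
      | add x y hx hy => rw [TensorProduct.add_tmul]; exact hadd _ _ hx hy
      | tmul n w =>
        obtain ⟨e, a, ha⟩ := hres (w • b)
        refine ⟨e, n ^ q' ^ e * algebraMap Ah N a, ?_⟩
        rw [htm, mul_pow, map_mul, map_pow, hcompat, ← mul_sub]
        have h := hmJ _ ha
        rw [map_sub, map_pow] at h
        exact J.mul_mem_left _ h
  haveI : IsLocalRing U := by
    obtain ⟨Q₀, hQ₀⟩ := Ideal.exists_maximal U
    refine IsLocalRing.of_unique_max_ideal ⟨Q₀, hQ₀, fun Q hQ => hQ.eq_of_le hQ₀.ne_top fun z hz => ?_⟩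
    obtain ⟨e, n, hn⟩ := hpow z
    have hq0 : 0 < q' ^ e := pow_pos (expChar_pos (U ⧸ J) q') e
    have hJQ : ∀ Q : Ideal U, Q.IsMaximal → J ≤ Q := fun Q hQ => sInf_le ⟨bot_le, hQ⟩
    have h1 : iN n ∈ Q := by
      simpa using Q.sub_mem (Ideal.pow_mem_of_mem _ hz _ hq0) (hJQ Q hQ hn)
    have h2 : iN n ∈ Q₀ := (hoverN Q₀ hQ₀).ge ((hoverN Q hQ).le h1)
    refine hQ₀.isPrime.mem_of_pow_mem (q' ^ e) ?_
    simpa using Q₀.add_mem (hJQ Q₀ hQ₀ hn) h2
  haveI : Algebra.Smooth N WN := inferInstance
  have hNn : EGA4.IsNormalRing N := fun p hp =>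
    ⟨IsLocalization.isDomain_localization p.primeCompl_le_nonZeroDivisors,
      isIntegrallyClosed_of_isLocalization (Localization.AtPrime p) p.primeCompl p.primeCompl_le_nonZeroDivisors⟩
  let Q : Ideal WN := (maximalIdeal U).comap (algebraMap WN U)
  obtain ⟨hdom, hicl⟩ := Groth.L19.SmoothNormal.isNormalRing_of_smooth N WN hNn Q
  let Lq := Localization.AtPrime Q
  have hu : ∀ t : Q.primeCompl, IsUnit (algebraMap WN U t.1) := fun t => IsLocalRing.notMem_maximalIdeal.mp t.2
  letI : Algebra Lq U := (IsLocalization.lift (M := Q.primeCompl) hu).toAlgebra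
  haveI : IsScalarTower WN Lq U := IsScalarTower.of_algebraMap_smul (A := Lq) fun r x => by
    show IsLocalization.lift hu (algebraMap WN Lq r) * x = r • x
    rw [IsLocalization.lift_eq]
    show (r ⊗ₜ[W] (1 : Bh)) * x = r • x
    induction x using TensorProduct.induction_on with
    | zero => rw [mul_zero, smul_zero]
    | tmul a b => rw [Algebra.TensorProduct.tmul_mul_tmul, one_mul, TensorProduct.smul_tmul', smul_eq_mul]
    | add a b ha hb => rw [mul_add, smul_add, ha, hb]
  haveI : IsLocalHom (algebraMap Lq U) := by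
    refine ((IsLocalRing.local_hom_TFAE _).out 0 2 rfl rfl).mpr ?_
    have hm : Q.map (algebraMap WN Lq) = maximalIdeal Lq := Localization.AtPrime.map_eq_maximalIdeal
    rw [← hm, Ideal.map_map, ← IsScalarTower.algebraMap_eq, Ideal.map_le_iff_le_comap]
  haveI : IsLocalization (⊥ : Submonoid U) U := IsLocalization.self bot_le
  haveI : Algebra.WeaklyEtale WN U := inferInstance
  haveI : Algebra.WeaklyEtale Lq U :=
    Groth.L20.weaklyEtale_of_isLocalization Q.primeCompl (⊥ : Submonoid U) Lq U
  haveI := hdom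
  haveI := hicl
  haveI : IsDomain U := (Groth.L20.NormalWE.isNormal Lq U).1
  exact hkB ▸ RingHom.ker_isPrime iB

theorem card_minimalPrimes_hens {R S Ah Bh : Type u} [CommRing R] [CommRing S]
    [Algebra R S] [Algebra.Smooth R S] (q : Ideal S) [q.IsPrime] (p : Ideal R) [p.IsPrime] [q.LiesOver p]
    (hpi : @IsPurelyInseparable p.ResidueField q.ResidueField _ _
      (Ideal.ResidueField.mapₐ p q (Algebra.ofId R S) (q.over_def p)).toRingHom.toAlgebra)
    [CommRing Ah] [IsLocalRing Ah] [Algebra (Localization.AtPrime p) Ah]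
    [IsLocalHom (algebraMap (Localization.AtPrime p) Ah)] [hAh : Hensel.IsHenselization (Localization.AtPrime p) Ah]
    [CommRing Bh] [IsLocalRing Bh] [Algebra (Localization.AtPrime q) Bh]
    [IsLocalHom (algebraMap (Localization.AtPrime q) Bh)] [hBh : Hensel.IsHenselization (Localization.AtPrime q) Bh] :
    (minimalPrimes Ah).encard = (minimalPrimes Bh).encard := by
  let A := Localization.AtPrime p
  let B := Localization.AtPrime q
  let fAB : A →+* B := Localization.localRingHom p q (algebraMap R S) (q.over_def p)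
  let f : A →+* Bh := (algebraMap B Bh).comp fAB
  haveI : IsLocalHom fAB := Localization.isLocalHom_localRingHom p q (algebraMap R S) (q.over_def p)
  haveI : IsLocalHom f := RingHom.isLocalHom_comp _ _
  haveI := hBh.henselian
  obtain ⟨g, hg, -⟩ := hAh.universal Bh f inferInstance
  letI : Algebra Ah Bh := g.toAlgebra
  have hmA := map_maximalIdeal_of_isHenselization A Ah
  haveI : IsLocalHom (algebraMap Ah Bh) := by
    refine ((IsLocalRing.local_hom_TFAE (algebraMap Ah Bh)).out 0 2 rfl rfl).mpr ?_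
    rw [← hmA, Ideal.map_map, show (algebraMap Ah Bh).comp (algebraMap A Ah) = f from hg]
    exact ((IsLocalRing.local_hom_TFAE f).out 0 2 rfl rfl).mp inferInstance
  letI : Algebra R Ah := ((algebraMap A Ah).comp (algebraMap R A)).toAlgebra
  haveI : IsScalarTower R A Ah := .of_algebraMap_eq fun _ => rfl
  letI : Algebra S Bh := ((algebraMap B Bh).comp (algebraMap S B)).toAlgebra
  haveI : IsScalarTower S B Bh := .of_algebraMap_eq fun _ => rfl
  letI : Algebra R Bh := ((algebraMap S Bh).comp (algebraMap R S)).toAlgebra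
  haveI : IsScalarTower R S Bh := .of_algebraMap_eq fun _ => rfl
  let gR : Ah →ₐ[R] Bh :=
    { g with
      commutes' := fun r => by
        show g (algebraMap A Ah (algebraMap R A r)) = algebraMap B Bh (algebraMap S B (algebraMap R S r))
        rw [← RingHom.comp_apply g, hg]
        show algebraMap B Bh (fAB (algebraMap R A r)) = _
        rw [Localization.localRingHom_to_map] }
  let Φ : Ah ⊗[R] S →ₐ[R] Bh :=
    Algebra.TensorProduct.lift gR (IsScalarTower.toAlgHom R S Bh) fun _ _ => Commute.all _ _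
  letI : Algebra (Ah ⊗[R] S) Bh := Φ.toRingHom.toAlgebra
  haveI : IsScalarTower Ah (Ah ⊗[R] S) Bh := .of_algebraMap_eq fun a => by
    show g a = Φ (a ⊗ₜ[R] 1)
    rw [Algebra.TensorProduct.lift_tmul, map_one, mul_one]
    rfl
  let W := Ah ⊗[R] S
  let W' := S ⊗[R] Ah
  let e : W →+* W' := (Algebra.TensorProduct.comm R Ah S).toRingEquiv.toRingHom
  letI : Algebra W W' := e.toAlgebra
  letI : Algebra W' Bh := (Φ.toRingHom.comp (Algebra.TensorProduct.comm R S Ah).toRingEquiv.toRingHom).toAlgebra
  haveI : IsScalarTower W W' Bh := .of_algebraMap_eq fun w => by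
    show Φ w = Φ ((Algebra.TensorProduct.comm R S Ah) ((Algebra.TensorProduct.comm R Ah S) w))
    induction w using TensorProduct.induction_on with
    | zero => simp
    | tmul a s => rw [Algebra.TensorProduct.comm_tmul, Algebra.TensorProduct.comm_tmul]
    | add a b ha hb => simp only [map_add, ← ha, ← hb]
  haveI : IsScalarTower S W' Bh := .of_algebraMap_eq fun s => by
    show algebraMap S Bh s = Φ ((Algebra.TensorProduct.comm R S Ah) (s ⊗ₜ[R] 1))
    rw [Algebra.TensorProduct.comm_tmul, Algebra.TensorProduct.lift_tmul, map_one, one_mul]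
    rfl
  haveI : Algebra.WeaklyEtale A Ah := weaklyEtale_hens
  haveI : Algebra.WeaklyEtale B Bh := weaklyEtale_hens
  haveI : Algebra.WeaklyEtale R A := Groth.L20.weaklyEtale_isLocalization p.primeCompl A
  haveI : Algebra.WeaklyEtale S B := Groth.L20.weaklyEtale_isLocalization q.primeCompl B
  haveI : Algebra.WeaklyEtale R Ah := Algebra.WeaklyEtale.trans R A Ah
  haveI : Algebra.WeaklyEtale S Bh := Algebra.WeaklyEtale.trans S B Bh
  obtain ⟨hflat, hlm⟩ := Groth.L20.TorAmp.weaklyEtale_cancel S W' Bh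
  haveI : Algebra.WeaklyEtale W' Bh := ⟨hflat, hlm⟩
  haveI : Algebra.WeaklyEtale W W' := Groth.L05.HensTensor.weaklyEtale_of_bijective W W'
    (Algebra.TensorProduct.comm R Ah S).toRingEquiv.bijective
  haveI : Algebra.WeaklyEtale (Ah ⊗[R] S) Bh := Algebra.WeaklyEtale.trans W W' Bh
  haveI := hAh.henselian
  haveI : Module.Flat Ah (Ah ⊗[R] S) := inferInstance
  haveI : Module.Flat Ah Bh := Module.Flat.trans Ah (Ah ⊗[R] S) Bh
  haveI : Module.FaithfullyFlat Ah Bh := Module.FaithfullyFlat.of_flat_of_isLocalHom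
  -- residue fields
  letI : Algebra p.ResidueField q.ResidueField :=
    (Ideal.ResidueField.mapₐ p q (Algebra.ofId R S) (q.over_def p)).toRingHom.toAlgebra
  haveI := hpi
  let q' := ringExpChar p.ResidueField
  haveI : ExpChar p.ResidueField q' := inferInstance
  haveI : ExpChar (ResidueField Bh) q' :=
    expChar_of_injective_ringHom (ResidueField.map f).injective q'
  refine encard_minimalPrimes_eq fun P hP => ?_
  haveI := hP.isPrime
  refine isPrime_map_of_smooth_hens R S Ah Bh q' (fun b => ?_) P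
  obtain ⟨y, hy⟩ := (residueField_map_bijective_of_isHenselization B Bh).2 (residue Bh b)
  obtain ⟨e, a, ha⟩ := IsPurelyInseparable.pow_mem p.ResidueField q' (y : q.ResidueField)
  obtain ⟨a, rfl⟩ := residue_surjective (R := A) a
  refine ⟨e, algebraMap A Ah a, (residue_eq_zero_iff _).1 ?_⟩
  rw [map_sub, map_pow, ← hy, ← map_pow, sub_eq_zero]
  have h1 : residue Bh (algebraMap Ah Bh (algebraMap A Ah a)) = ResidueField.map (algebraMap B Bh) (residue B (fAB a)) := by
    show residue Bh ((g.comp (algebraMap A Ah)) a) = _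
    rw [hg]
    rfl
  rw [h1]
  refine congrArg _ (ha.symm.trans ?_)
  have h2 : (algebraMap p.ResidueField q.ResidueField) =
      ResidueField.map fAB := by
    refine Ideal.ResidueField.ringHom_ext (RingHom.ext fun r => ?_)
    show Ideal.ResidueField.mapₐ p q (Algebra.ofId R S) (q.over_def p) (algebraMap R p.ResidueField r) =
      ResidueField.map fAB (residue A (algebraMap R A r))
    rw [AlgHom.commutes, ResidueField.map_residue, Localization.localRingHom_to_map]
    rfl
  exact RingHom.congr_fun h2 _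

end Groth.L06.SmoothBranches
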