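import Groth.Agent.L05.Henselization.Noeth
import Groth.Agent.L05.Henselization.StrictUniq
import Groth.Agent.L05.StrictGalois.EssEtale
import Groth.Agent.L05.StrictGalois.Frac
import Groth.Agent.L05.HensTensor.FinLocal
import Mathlib.RingTheory.Flat.EquationalCriterion
import Mathlib.RingTheory.Flat.FaithfullyFlat.Algebra
import Mathlib.RingTheory.Filtration

/-! Essentially étale stages inside a flat local algebra and henselian density. -/

set_option autoImplicit false
set_option linter.style.haveILetI false
universe u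

open IsLocalRing
open scoped TensorProduct

namespace Groth.L06.HensStage

/-- Flatness can be checked on stages. -/
theorem flat_of_forall_stage {B S : Type u} [CommRing B] [CommRing S] [Algebra B S]
    (h : ∀ {l : ℕ} (f : Fin l → B), ∃ (L : Type u) (_ : CommRing L) (_ : Algebra L S) (j : L →+* B),
      Module.Flat L S ∧ (algebraMap B S).comp j = algebraMap L S ∧ ∀ i, f i ∈ Set.range j) :
    Module.Flat B S := by
  rw [Module.Flat.iff_forall_isTrivialRelation]
  intro l f x hrel
  obtain ⟨L, _, _, j, hflat, hj, hf⟩ := h f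
  choose g hg using hf
  have hgs : ∀ (c : L) (s : S), c • s = j c • s := fun c s => by
    rw [Algebra.smul_def, Algebra.smul_def, ← hj, RingHom.comp_apply]
  have hrel' : ∑ i, g i • x i = 0 := by
    rw [← hrel]
    exact Finset.sum_congr rfl fun i _ => by rw [hgs, hg]
  obtain ⟨k, a, y, hxy, ha⟩ := (Module.Flat.iff_forall_isTrivialRelation.1 hflat) hrel'
  refine ⟨k, fun i m => j (a i m), y, fun i => ?_, fun m => ?_⟩
  · rw [hxy i]
    exact Finset.sum_congr rfl fun m _ => hgs _ _
  · rw [← map_zero j, ← ha m, map_sum]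
    exact Finset.sum_congr rfl fun i _ => by rw [map_mul, hg]

section Stage

variable {A S : Type u} [CommRing A] [IsLocalRing A] [CommRing S] [IsLocalRing S] [Algebra A S]
  [IsLocalHom (algebraMap A S)] {C : Type u} [CommRing C] [Algebra A C] (ψ : C →ₐ[A] S)

/-- The prime of a stage. -/
abbrev stagePrime : Ideal C := (maximalIdeal S).comap ψ.toRingHom

/-- The local stage. -/
abbrev Stage : Type u := Localization.AtPrime (stagePrime ψ)

/-- The map of a local stage. -/
noncomputable def stageHom : Stage ψ →ₐ[A] S :=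
  IsLocalization.liftAlgHom (M := (stagePrime ψ).primeCompl) (f := ψ)
    fun y => IsLocalRing.notMem_maximalIdeal.1 y.2

theorem stageHom_algebraMap (c : C) : stageHom ψ (algebraMap C (Stage ψ) c) = ψ c :=
  IsLocalization.lift_eq (M := (stagePrime ψ).primeCompl) _ c

theorem isUnit_of_isUnit_stageHom (z : Stage ψ) (hz : IsUnit (stageHom ψ z)) : IsUnit z := by
  obtain ⟨c, s, rfl⟩ := IsLocalization.exists_mk'_eq (stagePrime ψ).primeCompl z
  refine (IsLocalization.AtPrime.isUnit_mk'_iff (Stage ψ) (stagePrime ψ) c s).2 ?_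
  have h := congrArg (stageHom ψ) (IsLocalization.mk'_spec (Stage ψ) c s)
  rw [map_mul, stageHom_algebraMap, stageHom_algebraMap] at h
  exact IsLocalRing.notMem_maximalIdeal.2 (h ▸ hz.mul (IsLocalRing.notMem_maximalIdeal.1 s.2))

variable [Algebra.Etale A C] [Module.Flat A S]

theorem flat_stage : letI := (stageHom ψ).toRingHom.toAlgebra; Module.Flat (Stage ψ) S := by
  letI := (stageHom ψ).toRingHom.toAlgebra
  haveI : IsScalarTower A (Stage ψ) S := .of_algebraMap_eq fun a => ((stageHom ψ).commutes a).symm
  haveI : Algebra.FormallyUnramified C (Stage ψ) :=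
    Algebra.FormallyUnramified.of_isLocalization (stagePrime ψ).primeCompl
  haveI : Algebra.FormallyUnramified A (Stage ψ) := Algebra.FormallyUnramified.comp A C _
  haveI : Algebra.EssFiniteType C (Stage ψ) :=
    Algebra.EssFiniteType.of_isLocalization _ (stagePrime ψ).primeCompl
  haveI : Algebra.EssFiniteType A (Stage ψ) := Algebra.EssFiniteType.comp A C _
  exact Algebra.FormallyUnramified.flat_of_restrictScalars A (Stage ψ) S

theorem stageHom_injective : Function.Injective (stageHom ψ) := by
  letI := (stageHom ψ).toRingHom.toAlgebra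
  haveI : Module.Flat (Stage ψ) S := flat_stage ψ
  haveI : IsLocalHom (algebraMap (Stage ψ) S) := ⟨isUnit_of_isUnit_stageHom ψ⟩
  haveI : Module.FaithfullyFlat (Stage ψ) S := Module.FaithfullyFlat.of_flat_of_isLocalHom
  exact FaithfulSMul.algebraMap_injective (Stage ψ) S

theorem essEt_range : ∃ _ : IsLocalRing (stageHom ψ).range,
    EGA4loc.IsEssentiallyEtale A (stageHom ψ).range := by
  let e : Stage ψ ≃ₐ[A] (stageHom ψ).range := AlgEquiv.ofInjective _ (stageHom_injective ψ)
  refine ⟨e.toRingEquiv.isLocalRing, C, inferInstance, inferInstance, stagePrime ψ, inferInstance,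
    inferInstance, ?_, ⟨e.symm⟩⟩
  rw [Ideal.comap_comap, AlgHom.toRingHom_eq_coe, ψ.comp_algebraMap]
  exact IsLocalRing.maximalIdeal_comap (algebraMap A S)

theorem mem_range_stageHom (c : C) : ψ c ∈ (stageHom ψ).range :=
  ⟨_, stageHom_algebraMap ψ c⟩

end Stage

section Dense

/-- Approximation modulo powers of the maximal ideal of the base. -/
theorem exists_approx {A G H : Type u} [CommRing A] [CommRing G] [CommRing H] [Algebra A G] [Algebra A H]
    (g : G →ₐ[A] H) (I : Ideal A) (h1 : ∀ h : H, ∃ c, h - g c ∈ I.map (algebraMap A H)) :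
    ∀ (n : ℕ) (h : H), ∃ c, h - g c ∈ (I ^ n).map (algebraMap A H) := by
  intro n
  induction n with
  | zero => intro h; exact ⟨0, by simp [Ideal.one_eq_top, Ideal.map_top]⟩
  | succ n ih =>
    intro h
    obtain ⟨c, hc⟩ := ih h
    have key : ∀ z ∈ (I ^ n • ⊤ : Submodule A H), ∃ c, z - g c ∈ (I ^ (n + 1)).map (algebraMap A H) := by
      intro z hz
      refine Submodule.smul_induction_on hz (fun a ha m _ => ?_) fun x y hx hy => ?_
      · obtain ⟨c', hc'⟩ := h1 m
        refine ⟨a • c', ?_⟩
        rw [map_smul, ← smul_sub, Algebra.smul_def, pow_succ, Ideal.map_mul]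
        exact Ideal.mul_mem_mul (Ideal.mem_map_of_mem _ ha) hc'
      · obtain ⟨a, ha⟩ := hx
        obtain ⟨b, hb⟩ := hy
        exact ⟨a + b, by rw [map_add, add_sub_add_comm]; exact add_mem ha hb⟩
    obtain ⟨c', hc'⟩ := key (h - g c) (by rw [Ideal.smul_top_eq_map]; exact hc)
    exact ⟨c + c', by rwa [map_add, ← sub_sub]⟩

/-- An element of an étale stage close to a henselian ring lies in it. -/
theorem mem_range_of_henselian (A G S : Type u) [CommRing A] [CommRing G] [HenselianLocalRing G]
    [IsNoetherianRing G] [CommRing S] [IsLocalRing S] [Algebra A G] [Algebra A S] [Algebra G S]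
    [IsScalarTower A G S] [IsLocalHom (algebraMap G S)] [Module.Flat G S]
    (hmS : (maximalIdeal G).map (algebraMap G S) = maximalIdeal S)
    {C : Type u} [CommRing C] [Algebra A C] [Algebra.Etale A C] (ψ : C →ₐ[A] S) (y : C)
    (hx : ∀ n : ℕ, ∃ c : G, ψ y - algebraMap G S c ∈ maximalIdeal S ^ n) :
    ψ y ∈ Set.range (algebraMap G S) := by
  let T := G ⊗[A] C
  let Φ : T →ₐ[G] S := Algebra.TensorProduct.lift (Algebra.ofId G S) ψ fun _ _ => Commute.all _ _
  let q : Ideal T := (maximalIdeal S).comap Φ.toRingHom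
  haveI : q.IsPrime := Ideal.IsPrime.comap _
  haveI : q.LiesOver (maximalIdeal G) := ⟨by
    rw [Ideal.under_def, Ideal.comap_comap, AlgHom.toRingHom_eq_coe, Φ.comp_algebraMap]
    exact (IsLocalRing.maximalIdeal_comap (algebraMap G S)).symm⟩
  haveI : Algebra.Etale G T := inferInstance
  haveI : Algebra.QuasiFinite G T := inferInstance
  obtain ⟨hfin, -⟩ := Groth.L05.HensTensor.finite_localization_atPrime G T q
  haveI := hfin
  let Φ' : Localization.AtPrime q →ₐ[G] S := IsLocalization.liftAlgHom (M := q.primeCompl) (f := Φ)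
    fun t => IsLocalRing.notMem_maximalIdeal.1 t.2
  have hΦ' : ∀ t : T, Φ' (algebraMap T _ t) = Φ t := fun t =>
    IsLocalization.lift_eq (M := q.primeCompl) _ t
  letI : Algebra (Localization.AtPrime q) S := Φ'.toRingHom.toAlgebra
  haveI : IsScalarTower G (Localization.AtPrime q) S := .of_algebraMap_eq fun a => (Φ'.commutes a).symm
  haveI : Algebra.FormallyUnramified T (Localization.AtPrime q) :=
    Algebra.FormallyUnramified.of_isLocalization q.primeCompl
  haveI : Algebra.FormallyUnramified G (Localization.AtPrime q) := Algebra.FormallyUnramified.comp G T _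
  haveI : Module.Flat (Localization.AtPrime q) S :=
    Algebra.FormallyUnramified.flat_of_restrictScalars G (Localization.AtPrime q) S
  haveI : IsLocalHom (algebraMap (Localization.AtPrime q) S) := by
    refine ((IsLocalRing.local_hom_TFAE (algebraMap (Localization.AtPrime q) S)).out 0 2 rfl rfl).mpr ?_
    rw [← Localization.AtPrime.map_eq_maximalIdeal, Ideal.map_map, Ideal.map_le_iff_le_comap]
    intro z hz
    show Φ' (algebraMap T _ z) ∈ maximalIdeal S
    rw [hΦ']
    exact hz
  haveI : Module.FaithfullyFlat (Localization.AtPrime q) S := Module.FaithfullyFlat.of_flat_of_isLocalHom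
  set w : Localization.AtPrime q := algebraMap T _ (1 ⊗ₜ[A] y) with hw
  have hwS : Φ' w = ψ y := by
    rw [hw, hΦ']
    show Φ (1 ⊗ₜ[A] y) = ψ y
    rw [Algebra.TensorProduct.lift_tmul, map_one, one_mul]
  let R : Submodule G (Localization.AtPrime q) := LinearMap.range (Algebra.linearMap G _)
  have hmem : ∀ n : ℕ, R.mkQ w ∈ (maximalIdeal G ^ n • ⊤ : Submodule G (_ ⧸ R)) := by
    intro n
    obtain ⟨c, hc⟩ := hx n
    have h1 : w - algebraMap G _ c ∈ (maximalIdeal G ^ n).map (algebraMap G (Localization.AtPrime q)) := by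
      rw [← Ideal.comap_map_eq_self_of_faithfullyFlat (B := S)
        ((maximalIdeal G ^ n).map (algebraMap G (Localization.AtPrime q))), Ideal.mem_comap, Ideal.map_map,
        ← IsScalarTower.algebraMap_eq, Ideal.map_pow, hmS]
      show Φ' (w - algebraMap G _ c) ∈ _
      rw [map_sub, hwS, AlgHom.commutes]
      exact hc
    have h2 : w - algebraMap G _ c ∈ (maximalIdeal G ^ n • ⊤ : Submodule G (Localization.AtPrime q)) := by
      rw [Ideal.smul_top_eq_map]; exact h1
    have h3 := Submodule.mem_map_of_mem (f := R.mkQ) h2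
    rw [Submodule.map_smul'', map_sub, show R.mkQ (algebraMap G _ c) = 0 from
      (Submodule.Quotient.mk_eq_zero R).2 ⟨c, rfl⟩, sub_zero] at h3
    exact Submodule.smul_mono le_rfl le_top h3
  have h0 : R.mkQ w = 0 := by
    have h := (Submodule.mem_iInf _).2 hmem
    rw [Ideal.iInf_pow_smul_eq_bot_of_isLocalRing (maximalIdeal G) Ideal.IsPrime.ne_top'] at h
    exact (Submodule.mem_bot G).1 h
  obtain ⟨c, hc⟩ := (Submodule.Quotient.mk_eq_zero R).1 h0
  exact ⟨c, by rw [← hwS, ← hc]; exact (Φ'.commutes c).symm⟩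

end Dense

end Groth.L06.HensStage
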