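import Groth.Agent.L06.HensCritNorm
import Groth.Agent.L06.HensStage
import Mathlib.FieldTheory.IsAlgClosed.AlgebraicClosure

/-! Flatness from the normalization condition inside a strict henselization. -/

set_option autoImplicit false
set_option maxSynthPendingDepth 3
set_option linter.style.haveILetI false
universe u

open IsLocalRing Polynomial Groth.L05.Henselization Groth.L05.StrictGalois
open scoped TensorProduct nonZeroDivisors

namespace Groth.L06.HensCrit

/-- In a reduced zero-dimensional ring every element has a complementary annihilator. -/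
theorem exists_annihilator {R : Type u} [CommRing R] [IsReduced R]
    (hmax : ∀ P : Ideal R, P.IsPrime → P.IsMaximal) (b : R) :
    ∃ w y : R, w * b = 0 ∧ w + b * y = 1 ∧ w * w = w := by
  let K : Ideal R := LinearMap.ker (LinearMap.mulRight R b)
  have htop : K ⊔ Ideal.span {b} = ⊤ := by
    by_contra hne
    obtain ⟨M, hM, hle⟩ := Ideal.exists_le_maximal _ hne
    have hmin : M ∈ (⊥ : Ideal R).minimalPrimes :=
      ⟨⟨hM.isPrime, bot_le⟩, fun Q hQ hQM => ((hmax Q hQ.1).eq_of_le hM.ne_top hQM).ge⟩
    have hbM : b ∈ M := hle (Ideal.mem_sup_right (Ideal.mem_span_singleton_self b))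
    haveI := hM.isPrime
    have hb0 : algebraMap R (Localization.AtPrime M) b = 0 := by
      have h1 : algebraMap R (Localization.AtPrime M) b ∈ nilradical (Localization.AtPrime M) := by
        rw [nilradical_eq_sInf, Submodule.mem_sInf]
        intro (P : Ideal (Localization.AtPrime M)) hP
        haveI : P.IsPrime := hP
        have hdisj := ((IsLocalization.isPrime_iff_isPrime_disjoint M.primeCompl _ P).1 hP).2
        have hPM : P.comap (algebraMap R (Localization.AtPrime M)) ≤ M := fun x hx => by
          by_contra hxM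
          exact Set.disjoint_left.1 hdisj hxM hx
        exact hmin.2 ⟨Ideal.IsPrime.comap _, bot_le⟩ hPM hbM
      rwa [nilradical_eq_zero] at h1
    obtain ⟨t, ht⟩ := (IsLocalization.map_eq_zero_iff M.primeCompl _ b).1 hb0
    exact t.2 (hle (Ideal.mem_sup_left (show (t : R) * b = 0 from ht)))
  obtain ⟨w, hw, v, hv, hwv⟩ := Submodule.mem_sup.1 (htop.ge (Submodule.mem_top (x := (1 : R))))
  obtain ⟨y, rfl⟩ := Ideal.mem_span_singleton'.1 hv
  have hwb : w * b = 0 := hw
  refine ⟨w, y, hwb, by rw [mul_comm b]; exact hwv, ?_⟩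
  calc w * w = w * (1 - y * b) := by rw [← hwv, add_sub_cancel_right]
    _ = w - y * (w * b) := by ring
    _ = w := by rw [hwb, mul_zero, sub_zero]

variable {A S : Type u} [CommRing A] [IsLocalRing A] [CommRing S] [IsLocalRing S] [Algebra A S]
  [IsLocalHom (algebraMap A S)] [hS : Hensel.IsStrictHenselization A S]

include hS in
/-- Primes of `(A⁰)⁻¹ D` are maximal. -/
theorem isMaximal_locSub [IsReduced A] [IsNoetherianRing A] [Module.Flat A S] (D : Subalgebra A S)
    (P : Ideal (locSub A S D)) (hP : P.IsPrime) : P.IsMaximal := by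
  classical
  haveI := hP
  have hmin : (minimalPrimes A).Finite := Ideal.finite_minimalPrimes_of_isNoetherianRing A ⊥
  haveI := isArtinianRing_fractionRing_of_finite A hmin
  let L := locSub A S D
  letI := fracAlgebra A S
  haveI := fracTower A S
  have hmem : ∀ c : FractionRing A, algebraMap (FractionRing A) (FractionRing S) c ∈ L := fun c => by
    obtain ⟨b, s, rfl⟩ := IsLocalization.exists_mk'_eq A⁰ c
    refine ⟨s, s.2, algebraMap A S b, D.algebraMap_mem b, ?_⟩
    rw [IsScalarTower.algebraMap_apply A (FractionRing A) (FractionRing S), ← map_mul, mul_comm,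
      IsLocalization.mk'_spec, ← IsScalarTower.algebraMap_apply A (FractionRing A) (FractionRing S),
      ← IsScalarTower.algebraMap_apply A S (FractionRing S)]
  letI : Algebra (FractionRing A) L :=
    ((algebraMap (FractionRing A) (FractionRing S)).codRestrict L hmem).toAlgebra
  haveI : Algebra.IsIntegral (FractionRing A) L := ⟨fun x => by
    obtain ⟨a, ha, d, hd, had⟩ := x.2
    obtain ⟨E, _, _, hE, hff, hdE⟩ := exists_essEt_stage A S {d}
    haveI := flat_of_essEt hE
    obtain ⟨a', ha', hint⟩ := Groth.L06.EGA4locInter.exists_integral_denominator hmin hE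
      (algebraMap E (FractionRing E) ⟨d, hdE (by simp)⟩)
    rw [IsScalarTower.algebraMap_apply A E (FractionRing E), ← map_mul] at hint
    have h1 : IsIntegral A (algebraMap A (FractionRing S) (a' * a) * (x : FractionRing S)) := by
      have h := ((isIntegral_algHom_iff (IsScalarTower.toAlgHom A E (FractionRing E))
        (IsFractionRing.injective E (FractionRing E))).1 hint).map
        ((IsScalarTower.toAlgHom A S (FractionRing S)).comp E.val)
      rw [map_mul, mul_assoc, had, IsScalarTower.algebraMap_apply A S (FractionRing S), ← map_mul]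
      exact h
    obtain ⟨u, hu⟩ := IsUnit.exists_left_inv
      (IsLocalization.map_units (M := A⁰) (FractionRing A) ⟨a' * a, mul_mem ha' ha⟩)
    have h2 : (x : FractionRing S) = algebraMap (FractionRing A) (FractionRing S) u *
        (algebraMap A (FractionRing S) (a' * a) * (x : FractionRing S)) := by
      rw [← mul_assoc, IsScalarTower.algebraMap_apply A (FractionRing A) (FractionRing S), ← map_mul, hu,
        map_one, one_mul]
    have h3 : IsIntegral (FractionRing A) (x : FractionRing S) := by
      rw [h2]; exact isIntegral_algebraMap.mul h1.tower_top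
    let incl : L →ₐ[FractionRing A] FractionRing S :=
      { L.val.toRingHom with commutes' := fun c => rfl }
    exact (isIntegral_algHom_iff incl Subtype.val_injective).1 h3⟩
  exact Ideal.isMaximal_of_isIntegral_of_isMaximal_comap (R := FractionRing A) P
    (IsArtinianRing.isMaximal_of_isPrime _)

include hS in
/-- Compatible points extend to the normalization of the strict henselization. -/
theorem exists_extend_strict [IsReduced A] [Module.Flat A S] (hmin : (minimalPrimes A).Finite)
    (D : Subalgebra A S) [IsLocalRing D] [IsLocalHom (algebraMap D S)]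
    (hJ : ∀ x : normSub D, ∃ y : normSub D,
      ((y : locSub A S D) : FractionRing S) ∈ Algebra.adjoin A
        (Set.range (normIncl A S) ∪ algebraMap S (FractionRing S) '' (D : Set S)) ∧
      x - y ∈ Ideal.jacobson (⊥ : Ideal (normSub D)))
    (hA0 : ∀ a, normIncl A S a ∈ locSub A S D)
    {Ω : Type u} [Field Ω] (χ : normSub D →+* Ω) (e : S →+* Ω)
    (hχ : (RingHom.ker χ).IsMaximal) (he : ∀ z ∈ maximalIdeal S, e z = 0)
    (hD : ∀ d : D, χ (algebraMap D (normSub D) d) = e (d : S)) :
    ∃ h : integralClosure S (FractionRing S) →+* Ω, (RingHom.ker h).IsMaximal ∧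
      (∀ z : S, h (algebraMap S _ z) = e z) ∧
      ∀ (x : normSub D) (hx : ((x : locSub A S D) : FractionRing S) ∈ integralClosure S (FractionRing S)),
        h ⟨_, hx⟩ = χ x := by
  classical
  letI : Algebra A Ω := (e.comp (algebraMap A S)).toAlgebra
  let eA : S →ₐ[A] Ω := { e with commutes' := fun _ => rfl }
  have hint : ∀ a, IsIntegral D (⟨normIncl A S a, hA0 a⟩ : locSub A S D) := fun a => by
    refine (isIntegral_algHom_iff ((locSub A S D).val.restrictScalars D) Subtype.val_injective).1 ?_
    exact ((Algebra.IsIntegral.isIntegral (R := A) a).map (normIncl A S)).tower_top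
  let ι₀ : integralClosure A (FractionRing A) →+* normSub D :=
    { toFun := fun a => ⟨⟨normIncl A S a, hA0 a⟩, hint a⟩
      map_one' := Subtype.ext (Subtype.ext (map_one _))
      map_mul' := fun a b => Subtype.ext (Subtype.ext (map_mul _ a b))
      map_zero' := Subtype.ext (Subtype.ext (map_zero _))
      map_add' := fun a b => Subtype.ext (Subtype.ext (map_add _ a b)) }
  let χA : integralClosure A (FractionRing A) →ₐ[A] Ω :=
    { χ.comp ι₀ with
      commutes' := fun r => by
        show χ (ι₀ (algebraMap A _ r)) = _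
        rw [show ι₀ (algebraMap A _ r) = algebraMap D (normSub D) (algebraMap A D r) from
          Subtype.ext (Subtype.ext (((normIncl A S).commutes r).trans
            (IsScalarTower.algebraMap_apply A D (FractionRing S) r))), hD]
        rfl }
  let nm : integralClosure A (FractionRing A) ⊗[A] S →+* integralClosure S (FractionRing S) :=
    (normMap A S).toRingHom.codRestrict _ (isIntegral_normMap A S)
  have hnm : Function.Bijective nm := ⟨fun a b h => normMap_injective A S (congrArg Subtype.val h),
    fun x => by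
      obtain ⟨z, hz⟩ := exists_normMap_eq_strict (hS := hS) hmin x.2
      exact ⟨z, Subtype.ext hz⟩⟩
  let eq := RingEquiv.ofBijective nm hnm
  let h : integralClosure S (FractionRing S) →+* Ω :=
    (Algebra.TensorProduct.productMap χA eA).toRingHom.comp eq.symm.toRingHom
  have hh : ∀ z, h (nm z) = Algebra.TensorProduct.productMap χA eA z := fun z => by
    show Algebra.TensorProduct.productMap χA eA (eq.symm (eq z)) = _
    rw [eq.symm_apply_apply]
  have hhE : ∀ z : S, h (algebraMap S _ z) = e z := fun z => by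
    have : nm ((1 : integralClosure A (FractionRing A)) ⊗ₜ z) = algebraMap S _ z := Subtype.ext (by
      show normMap A S _ = _
      rw [normMap_tmul, map_one, one_mul]
      rfl)
    rw [← this, hh, Algebra.TensorProduct.productMap_apply_tmul, map_one, one_mul]
    rfl
  haveI hhprime : (RingHom.ker h).IsPrime := RingHom.ker_isPrime h
  have hcomap : (RingHom.ker h).comap (algebraMap S (integralClosure S (FractionRing S))) = maximalIdeal S := by
    haveI hcp : ((RingHom.ker h).comap (algebraMap S (integralClosure S (FractionRing S)))).IsPrime :=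
      Ideal.IsPrime.comap _
    refine le_antisymm (IsLocalRing.le_maximalIdeal hcp.ne_top) fun z hz => ?_
    show h _ = 0
    rw [hhE, he z hz]
  haveI hhmax : (RingHom.ker h).IsMaximal :=
    Ideal.isMaximal_of_isIntegral_of_isMaximal_comap (R := S) _ (hcomap ▸ inferInstance)
  have hmem : ∀ x : normSub D, ((x : locSub A S D) : FractionRing S) ∈ integralClosure S (FractionRing S) :=
    fun x => (x.2.map ((locSub A S D).val.restrictScalars D)).tower_top
  let res : normSub D →+* integralClosure S (FractionRing S) :=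
    { toFun := fun x => ⟨_, hmem x⟩
      map_one' := rfl
      map_mul' := fun _ _ => rfl
      map_zero' := rfl
      map_add' := fun _ _ => rfl }
  haveI hresprime : (RingHom.ker (h.comp res)).IsPrime := RingHom.ker_isPrime _
  haveI hresmax : (RingHom.ker (h.comp res)).IsMaximal := by
    refine @Ideal.isMaximal_of_isIntegral_of_isMaximal_comap D _ (normSub D) _ _ inferInstance _ hresprime ?_
    rw [show (RingHom.ker (h.comp res)).comap (algebraMap D (normSub D)) = maximalIdeal D from Ideal.ext fun d => by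
      show h (res (algebraMap D (normSub D) d)) = 0 ↔ _
      rw [show res (algebraMap D (normSub D) d) = algebraMap S _ (d : S) from rfl, hhE]
      refine ⟨fun h0 => ?_, fun hd => he _ (map_nonunit (algebraMap D S) d hd)⟩
      by_contra hd
      exact ((IsLocalRing.notMem_maximalIdeal.1 hd).map (e.comp (algebraMap D S))).ne_zero h0]
    infer_instance
  refine ⟨h, hhmax, hhE, fun x hx => ?_⟩
  obtain ⟨y, hy, hxy⟩ := hJ x
  have hzero : ∀ {g : normSub D →+* Ω}, (RingHom.ker g).IsMaximal → g x = g y := fun {g} hg => by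
    rw [← sub_eq_zero, ← map_sub]
    exact (Ideal.mem_sInf.1 hxy (show RingHom.ker g ∈ {J | ⊥ ≤ J ∧ J.IsMaximal} from ⟨bot_le, hg⟩) :)
  let V : Subalgebra A (FractionRing S) :=
    { carrier := {w | ∃ v : normSub D, ((v : locSub A S D) : FractionRing S) = w ∧ h (res v) = χ v}
      mul_mem' := by
        rintro a b ⟨v, hv, hv'⟩ ⟨w, hw, hw'⟩
        exact ⟨v * w, by rw [← hv, ← hw]; rfl, by rw [map_mul, map_mul, map_mul, hv', hw']⟩
      add_mem' := by
        rintro a b ⟨v, hv, hv'⟩ ⟨w, hw, hw'⟩
        exact ⟨v + w, by rw [← hv, ← hw]; rfl, by rw [map_add, map_add, map_add, hv', hw']⟩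
      algebraMap_mem' := fun r => ⟨algebraMap D (normSub D) (algebraMap A D r),
        (IsScalarTower.algebraMap_apply A D (FractionRing S) r).symm, by
          rw [hD]
          exact hhE _⟩ }
  have hV : Algebra.adjoin A (Set.range (normIncl A S) ∪ algebraMap S (FractionRing S) '' (D : Set S)) ≤ V := by
    refine Algebra.adjoin_le ?_
    rintro w (⟨a, rfl⟩ | ⟨d, hd, rfl⟩)
    · refine ⟨ι₀ a, rfl, ?_⟩
      have : res (ι₀ a) = nm (a ⊗ₜ 1) := Subtype.ext (by
        show normIncl A S a = normMap A S _
        rw [normMap_tmul, map_one, mul_one])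
      rw [this, hh, Algebra.TensorProduct.productMap_apply_tmul, map_one, mul_one]
      rfl
    · refine ⟨algebraMap D (normSub D) ⟨d, hd⟩, rfl, ?_⟩
      rw [hD]
      exact hhE d
  obtain ⟨v, hv, hv'⟩ := hV hy
  have hvy : v = y := Subtype.ext (Subtype.ext hv)
  subst hvy
  show h (res x) = χ x
  rw [hzero hχ, ← hv']
  exact hzero (g := h.comp res) hresmax

include hS in
/-- An element of an étale stage over `D` vanishing in `S` vanishes near the stage prime. -/
theorem exists_mul_eq_zero [IsReduced A] [IsNoetherianRing A] [Module.Flat A S] (D : Subalgebra A S)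
    [IsLocalRing D] [IsLocalHom (algebraMap D S)]
    (hJ : ∀ x : normSub D, ∃ y : normSub D,
      ((y : locSub A S D) : FractionRing S) ∈ Algebra.adjoin A
        (Set.range (normIncl A S) ∪ algebraMap S (FractionRing S) '' (D : Set S)) ∧
      x - y ∈ Ideal.jacobson (⊥ : Ideal (normSub D)))
    (hA0 : ∀ a, normIncl A S a ∈ locSub A S D)
    (P : Type u) [CommRing P] [Algebra D P] [Algebra.Etale D P] (ψ : P →ₐ[D] S) (z : P) (hz : ψ z = 0) :
    ∃ t : P, IsUnit (ψ t) ∧ t * z = 0 := by
  classical
  have hmin : (minimalPrimes A).Finite := Ideal.finite_minimalPrimes_of_isNoetherianRing A ⊥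
  haveI : IsReduced S := isReduced_strict' (A := A)
  haveI : Algebra.IsSeparable (ResidueField A) (ResidueField S) := hS.isSepClosure.separable
  haveI : Algebra.Smooth D P := inferInstance
  haveI : Algebra.QuasiFinite D P := inferInstance
  let L := locSub A S D
  haveI : IsReduced L := isReduced_of_injective L.val Subtype.val_injective
  haveI : IsReduced (L ⊗[D] P) := Groth.L20.isReduced_of_weaklyEtale L (L ⊗[D] P)
  haveI : IsReduced (P ⊗[D] L) :=
    isReduced_of_injective (Algebra.TensorProduct.comm D P L) (AlgEquiv.injective _)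
  have hmaxR : ∀ R : Ideal (P ⊗[D] L), R.IsPrime → R.IsMaximal := by
    intro R hR
    haveI := hR
    let c := (Algebra.TensorProduct.comm D L P).toRingEquiv.toRingHom
    have hc : Function.Bijective c := (Algebra.TensorProduct.comm D L P).toRingEquiv.bijective
    haveI : (R.comap c).IsPrime := Ideal.IsPrime.comap _
    haveI : (R.comap c).IsMaximal := by
      obtain ⟨M, hM, hle⟩ := Ideal.exists_le_maximal (R.comap c) (Ideal.IsPrime.ne_top ‹_›)
      haveI := hM.isPrime
      have h1 : R.comap c = M := Algebra.QuasiFinite.eq_of_le_of_under_eq (R := L) _ _ hle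
        ((isMaximal_locSub (hS := hS) D _ (Ideal.IsPrime.comap _)).eq_of_le
          (Ideal.IsPrime.ne_top (Ideal.IsPrime.comap _)) (Ideal.comap_mono hle))
      rwa [h1]
    rw [← Ideal.map_comap_of_surjective c hc.2 R]
    exact Ideal.IsMaximal.map_bijective c hc this
  let ΨL : P ⊗[D] L →ₐ[D] FractionRing S :=
    Algebra.TensorProduct.productMap ((IsScalarTower.toAlgHom D S (FractionRing S)).comp ψ) L.val
  let mB : P ⊗[D] normSub D →ₐ[P] P ⊗[D] L :=
    Algebra.TensorProduct.map (AlgHom.id P P) (integralClosure D L).val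
  let Ψ : P ⊗[D] normSub D →ₐ[D] FractionRing S := ΨL.comp (mB.restrictScalars D)
  have hΨ : ∀ w, Ψ w ∈ integralClosure S (FractionRing S) := fun w => by
    induction w with
    | zero => rw [map_zero]; exact zero_mem _
    | tmul p x =>
      show ΨL (mB (p ⊗ₜ x)) ∈ _
      rw [Algebra.TensorProduct.map_tmul, Algebra.TensorProduct.productMap_apply_tmul]
      exact mul_mem ((integralClosure S (FractionRing S)).algebraMap_mem _) ((x.2.map L.val).tower_top)
    | add a b ha hb => rw [map_add]; exact add_mem ha hb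
  have hmB : Function.Bijective (TensorProduct.toIntegralClosure D P L) :=
    TensorProduct.toIntegralClosure_bijective_of_smooth
  let kS := ResidueField S
  let φ : P →+* kS := (residue S).comp ψ.toRingHom
  let qP : Ideal P := (maximalIdeal S).comap ψ.toRingHom
  haveI hqP : qP.IsPrime := Ideal.IsPrime.comap _
  have hφker : RingHom.ker φ = qP := Ideal.ext fun p => residue_eq_zero_iff (ψ p)
  have hkSA : (algebraMap A kS).IsIntegral := by
    rw [IsScalarTower.algebraMap_eq A (ResidueField A) kS]
    exact RingHom.IsIntegral.trans _ _ (RingHom.isIntegral_of_surjective _ residue_surjective)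
      fun x => (Algebra.IsSeparable.isIntegral (ResidueField A) x)
  have hφA : φ.comp ((algebraMap D P).comp (algebraMap A D)) = algebraMap A kS := RingHom.ext fun a => by
    show residue S (ψ (algebraMap D P (algebraMap A D a))) = residue S (algebraMap A S a)
    rw [ψ.commutes]
    rfl
  have hφint : φ.IsIntegral := by
    refine RingHom.IsIntegral.tower_top ((algebraMap D P).comp (algebraMap A D)) φ ?_
    rw [hφA]; exact hkSA
  haveI hqPmax : qP.IsMaximal := by
    rw [← hφker]
    letI := φ.toAlgebra
    haveI : Algebra.IsIntegral P kS := ⟨hφint⟩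
    haveI : (⊥ : Ideal kS).IsMaximal := Ideal.bot_isMaximal
    exact Ideal.isMaximal_comap_of_isIntegral_of_isMaximal (R := P) (⊥ : Ideal kS)
  let b₀ : P ⊗[D] normSub D := z ⊗ₜ 1
  let ann : Ideal (P ⊗[D] normSub D) := LinearMap.ker (LinearMap.mulRight _ b₀ :
    (P ⊗[D] normSub D) →ₗ[P ⊗[D] normSub D] _)
  have hann : ∀ w, w ∈ ann ↔ w * b₀ = 0 := fun w => Iff.rfl
  by_contra hcon
  push Not at hcon
  have hle : ann.comap (algebraMap P (P ⊗[D] normSub D)) ≤ qP := by
    intro t ht
    by_contra htq
    refine hcon t (IsLocalRing.notMem_maximalIdeal.1 htq) ?_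
    have h2 : (t ⊗ₜ[D] (1 : normSub D)) * (z ⊗ₜ 1) = 0 := ht
    rw [Algebra.TensorProduct.tmul_mul_tmul, mul_one] at h2
    refine Algebra.TensorProduct.includeLeft_injective (S := D) (A := P) (B := normSub D)
      (fun a b h => ?_) (h2.trans (map_zero
        (Algebra.TensorProduct.includeLeft : P →ₐ[D] P ⊗[D] normSub D)).symm)
    exact Subtype.ext (IsFractionRing.injective S (FractionRing S)
      (congrArg (fun w : normSub D => ((w : L) : FractionRing S)) h))
  haveI : Algebra.IsIntegral D (normSub D) := inferInstance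
  haveI : Algebra.IsIntegral P (P ⊗[D] normSub D) :=
    Algebra.IsIntegral.tensorProduct (R := D) (A := P) (B := normSub D)
  obtain ⟨Q, hQann, hQ, hQP⟩ := Ideal.exists_ideal_over_prime_of_isIntegral qP ann hle
  haveI := hQ
  let B' := P ⊗[D] normSub D
  let Ω := AlgebraicClosure (FractionRing (B' ⧸ Q))
  let μ : B' →+* Ω := ((algebraMap (FractionRing (B' ⧸ Q)) Ω).comp
    (algebraMap (B' ⧸ Q) (FractionRing (B' ⧸ Q)))).comp (Ideal.Quotient.mk Q)
  have hμ : ∀ w, μ w = 0 ↔ w ∈ Q := fun w => by
    show algebraMap (FractionRing (B' ⧸ Q)) Ω (algebraMap (B' ⧸ Q) _ (Ideal.Quotient.mk Q w)) = 0 ↔ _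
    rw [map_eq_zero_iff _ (algebraMap (FractionRing (B' ⧸ Q)) Ω).injective,
      map_eq_zero_iff _ (IsFractionRing.injective (B' ⧸ Q) (FractionRing (B' ⧸ Q))), Ideal.Quotient.eq_zero_iff_mem]
  let π : P →+* Ω := μ.comp (algebraMap P B')
  have hπker : ∀ p, π p = 0 ↔ p ∈ qP := fun p => by
    show μ _ = 0 ↔ _
    rw [hμ, ← hQP]
    rfl
  obtain ⟨e₁, he₁⟩ : ∃ e₁ : kS →+* Ω, ∀ p, e₁ (φ p) = π p := by
    let kP := P ⧸ qP
    letI : Field kP := Ideal.Quotient.field qP
    letI : Algebra kP kS := (Ideal.Quotient.lift qP φ fun p hp => hφker.ge hp).toAlgebra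
    letI : Algebra kP Ω := (Ideal.Quotient.lift qP π fun p hp => (hπker p).2 hp).toAlgebra
    haveI : Algebra.IsAlgebraic kP kS := by
      refine ⟨fun x => IsIntegral.isAlgebraic ?_⟩
      obtain ⟨f, hf, hfx⟩ := hφint x
      refine ⟨f.map (Ideal.Quotient.mk qP), hf.map _, ?_⟩
      rw [Polynomial.eval₂_map]
      exact hfx
    let f : kS →ₐ[kP] Ω := IsAlgClosed.lift
    exact ⟨f.toRingHom, fun p => f.commutes (Ideal.Quotient.mk qP p)⟩
  let e : S →+* Ω := e₁.comp (residue S)
  have he : ∀ p, e (ψ p) = π p := he₁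
  let χ : normSub D →+* Ω := μ.comp (Algebra.TensorProduct.includeRight : normSub D →ₐ[D] B').toRingHom
  have hχD : ∀ d : D, χ (algebraMap D (normSub D) d) = π (algebraMap D P d) := fun d => by
    show μ ((Algebra.TensorProduct.includeRight : normSub D →ₐ[D] B') (algebraMap D (normSub D) d)) =
      μ (algebraMap P B' (algebraMap D P d))
    rw [AlgHom.commutes, ← IsScalarTower.algebraMap_apply]
  have hem : ∀ w ∈ maximalIdeal S, e w = 0 := fun w hw => by
    show e₁ (residue S w) = 0
    rw [(residue_eq_zero_iff w).2 hw, map_zero]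
  haveI hχprime : (RingHom.ker χ).IsPrime := RingHom.ker_isPrime _
  have hχmax : (RingHom.ker χ).IsMaximal := by
    refine @Ideal.isMaximal_of_isIntegral_of_isMaximal_comap D _ (normSub D) _ _ inferInstance _ hχprime ?_
    rw [show (RingHom.ker χ).comap (algebraMap D (normSub D)) = maximalIdeal D from Ideal.ext fun d => by
      show χ (algebraMap D (normSub D) d) = 0 ↔ _
      rw [hχD, hπker, ← IsLocalRing.maximalIdeal_comap (algebraMap D S)]
      show ψ (algebraMap D P d) ∈ maximalIdeal S ↔ _
      rw [ψ.commutes]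
      rfl]
    infer_instance
  have heD : ∀ d : D, χ (algebraMap D (normSub D) d) = e (d : S) := fun d => by
    rw [hχD, ← he, ψ.commutes]
    rfl
  obtain ⟨h, hhmax, hhE, hhχ⟩ := exists_extend_strict (hS := hS) hmin D hJ hA0 χ e hχmax hem heD
  have hhΨ : ∀ w : B', h ⟨Ψ w, hΨ w⟩ = μ w := by
    intro w
    induction w using TensorProduct.induction_on with
    | zero =>
      rw [map_zero μ, show (⟨Ψ 0, hΨ 0⟩ : integralClosure S (FractionRing S)) = 0 from
        Subtype.ext (map_zero Ψ), map_zero]
    | tmul p x =>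
      have hx' : ((x : L) : FractionRing S) ∈ integralClosure S (FractionRing S) := (x.2.map L.val).tower_top
      rw [show (⟨Ψ (p ⊗ₜ x), hΨ _⟩ : integralClosure S (FractionRing S)) =
        algebraMap S _ (ψ p) * ⟨_, hx'⟩ from Subtype.ext (by
          show ΨL (mB (p ⊗ₜ x)) = _
          rw [Algebra.TensorProduct.map_tmul, Algebra.TensorProduct.productMap_apply_tmul]
          rfl), map_mul, hhE, hhχ x hx', he p]
      show μ (p ⊗ₜ 1) * μ (1 ⊗ₜ x) = _
      rw [← map_mul, Algebra.TensorProduct.tmul_mul_tmul, mul_one, one_mul]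
    | add a b ha hb =>
      rw [map_add μ, show (⟨Ψ (a + b), hΨ _⟩ : integralClosure S (FractionRing S)) =
        ⟨Ψ a, hΨ a⟩ + ⟨Ψ b, hΨ b⟩ from Subtype.ext (map_add Ψ a b), map_add, ha, hb]
  obtain ⟨Mt, hMtp, hMt⟩ : ∃ Mt : Ideal (FractionRing S), Mt.IsPrime ∧
      Mt.comap (integralClosure S (FractionRing S)).val.toRingHom ≤ RingHom.ker h := by
    haveI := hhmax.isPrime
    obtain ⟨p, hp, hpk⟩ := Ideal.exists_minimalPrimes_le
      (bot_le : (⊥ : Ideal (integralClosure S (FractionRing S))) ≤ RingHom.ker h)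
    obtain ⟨Mt, hMtp, hMt⟩ := Ideal.exists_comap_eq_of_mem_minimalPrimes_of_injective
      (f := (integralClosure S (FractionRing S)).val.toRingHom) Subtype.val_injective p hp
    exact ⟨Mt, hMtp, hMt.le.trans hpk⟩
  let R₁ : Ideal (P ⊗[D] L) := Mt.comap ΨL.toRingHom
  haveI := hMtp
  haveI : R₁.IsPrime := Ideal.IsPrime.comap _
  have hb₁ : mB b₀ ∈ R₁ := by
    show ΨL (mB (z ⊗ₜ 1)) ∈ Mt
    rw [Algebra.TensorProduct.map_tmul, Algebra.TensorProduct.productMap_apply_tmul]
    show algebraMap S (FractionRing S) (ψ z) * _ ∈ Mt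
    rw [hz, map_zero, zero_mul]
    exact Submodule.zero_mem _
  obtain ⟨ε, y, hεb, hεy, hεid⟩ := exists_annihilator hmaxR (mB b₀)
  have hεint : IsIntegral P ε := ⟨X * (X - Polynomial.C 1), monic_X.mul (monic_X_sub_C 1), by
    rw [eval₂_mul, eval₂_sub, eval₂_X, eval₂_C, map_one, mul_sub, mul_one, hεid, sub_self]⟩
  obtain ⟨ε', hε'⟩ := hmB.2 ⟨ε, hεint⟩
  have hε'm : mB ε' = ε := congrArg Subtype.val hε'
  have hprod : ε' * b₀ = 0 := by
    refine hmB.1 (Subtype.ext ?_)
    show mB (ε' * b₀) = mB 0
    rw [map_mul, map_zero, hε'm, hεb]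
  have hεQ : μ ε' = 0 := (hμ ε').2 (hQann ((hann ε').2 hprod))
  have hε1 : Ψ ε' - 1 ∈ Mt := by
    have h2 : ε - 1 ∈ R₁ := by
      rw [show ε - 1 = -(mB b₀ * y) by rw [← hεy]; ring]
      exact R₁.neg_mem (R₁.mul_mem_right _ hb₁)
    show ΨL (mB ε') - 1 ∈ _
    rw [hε'm, ← map_one ΨL, ← map_sub]
    exact h2
  have h1mem : (⟨Ψ ε', hΨ ε'⟩ - 1 : integralClosure S (FractionRing S)) ∈ RingHom.ker h :=
    hMt (show Ψ ε' - 1 ∈ Mt from hε1)
  rw [RingHom.mem_ker, map_sub, hhΨ, hεQ, map_one, zero_sub, neg_eq_zero] at h1mem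
  exact one_ne_zero h1mem

/-- Flatness from flat submodules containing every finite set. -/
theorem flat_of_forall_finset {R M : Type u} [CommRing R] [AddCommGroup M] [Module R M]
    (h : ∀ F : Finset M, ∃ (N : Type u) (_ : AddCommGroup N) (_ : Module R N) (f : N →ₗ[R] M),
      Module.Flat R N ∧ Function.Injective f ∧ (F : Set M) ⊆ Set.range f) : Module.Flat R M := by
  classical
  rw [Module.Flat.iff_forall_isTrivialRelation]
  intro l c x hrel
  obtain ⟨N, _, _, f, hflat, hinj, hF⟩ := h (Finset.univ.image x)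
  choose x' hx' using fun i => hF (Finset.mem_coe.2 (Finset.mem_image_of_mem x (Finset.mem_univ i)))
  have hrel' : ∑ i, c i • x' i = 0 := hinj (by
    rw [map_sum, map_zero, ← hrel]
    exact Finset.sum_congr rfl fun i _ => by rw [map_smul, hx'])
  obtain ⟨k, a, y, hxy, ha⟩ := (Module.Flat.iff_forall_isTrivialRelation.1 hflat) hrel'
  refine ⟨k, a, fun j => f (y j), fun i => ?_, ha⟩
  rw [← hx' i, hxy i, map_sum]
  exact Finset.sum_congr rfl fun j _ => map_smul f _ _

include hS in
theorem flat_of_norm [IsReduced A] [IsNoetherianRing A] (D : Subalgebra A S)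
    [IsLocalRing D] [IsLocalHom (algebraMap D S)]
    (A' D' : Subalgebra A (FractionRing S))
    (hA' : ∀ x : (FractionRing S), x ∈ A' ↔ (IsIntegral A x ∧
      ∃ a ∈ nonZeroDivisors A, ∃ b : A, algebraMap A (FractionRing S) a * x = algebraMap A (FractionRing S) b))
    (hD' : ∀ x : (FractionRing S), x ∈ D' ↔ (IsIntegral D x ∧
      ∃ a ∈ nonZeroDivisors A, ∃ d ∈ D, algebraMap A (FractionRing S) a * x = algebraMap S (FractionRing S) d))
    (hle : A' ≤ D') (ι : D →ₐ[A] D') (hι : ∀ d : D, (ι d : (FractionRing S)) = algebraMap S (FractionRing S) d)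
    (hsurj : Function.Surjective ((Ideal.Quotient.mkₐ A (Ideal.jacobson (⊥ : Ideal D'))).comp
          (Algebra.TensorProduct.productMap (Subalgebra.inclusion hle) ι))) :
    Module.Flat D S := by
  classical
  haveI : Module.Flat A S := flat_of_isStrictHenselization A S
  letI := fracAlgebra A S
  haveI := fracTower A S
  have hA0 : ∀ a, normIncl A S a ∈ locSub A S D := fun a => by
    obtain ⟨b, s, hbs⟩ := IsLocalization.exists_mk'_eq A⁰ (a : FractionRing A)
    refine ⟨s, s.2, algebraMap A S b, D.algebraMap_mem b, ?_⟩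
    show _ * algebraMap (FractionRing A) (FractionRing S) (a : FractionRing A) = _
    rw [← hbs, IsScalarTower.algebraMap_apply A (FractionRing A) (FractionRing S), ← map_mul, mul_comm,
      IsLocalization.mk'_spec, ← IsScalarTower.algebraMap_apply A (FractionRing A) (FractionRing S),
      ← IsScalarTower.algebraMap_apply A S (FractionRing S)]
  have hto : ∀ x : normSub D, ((x : locSub A S D) : FractionRing S) ∈ D' := fun x =>
    (hD' _).2 ⟨(isIntegral_locSub_iff _).1 x.2, x.1.2⟩
  let f : normSub D →+* D' :=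
    { toFun := fun x => ⟨_, hto x⟩
      map_one' := rfl
      map_mul' := fun _ _ => rfl
      map_zero' := rfl
      map_add' := fun _ _ => rfl }
  have hf : Function.Bijective f := by
    refine ⟨fun x y h => Subtype.ext (Subtype.ext (congrArg (fun w : D' => (w : FractionRing S)) h)), fun w => ?_⟩
    obtain ⟨hw, hL⟩ := (hD' _).1 w.2
    exact ⟨⟨⟨(w : FractionRing S), hL⟩, (isIntegral_locSub_iff ⟨(w : FractionRing S), hL⟩).2 hw⟩, rfl⟩
  have hfinj : Function.Injective (algebraMap (FractionRing A) (FractionRing S)) := by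
    refine (injective_iff_map_eq_zero _).2 fun w hw => ?_
    obtain ⟨b, s, rfl⟩ := IsLocalization.exists_mk'_eq A⁰ w
    have h := congrArg (algebraMap (FractionRing A) (FractionRing S)) (IsLocalization.mk'_spec (FractionRing A) b s)
    rw [map_mul, hw, zero_mul, ← IsScalarTower.algebraMap_apply, IsScalarTower.algebraMap_apply A S (FractionRing S)] at h
    haveI : Module.FaithfullyFlat A S := Module.FaithfullyFlat.of_flat_of_isLocalHom
    have hb : b = 0 := FaithfulSMul.algebraMap_injective A S
      (IsFractionRing.injective S (FractionRing S) (h.symm.trans (by rw [map_zero, map_zero])))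
    rw [hb, IsLocalization.mk'_zero]
  have hA'n : ∀ a : A', (a : FractionRing S) ∈ Set.range (normIncl A S) := fun x => by
    obtain ⟨hxi, a, ha, b, hab⟩ := (hA' _).1 x.2
    let g : FractionRing A →ₐ[A] FractionRing S := IsScalarTower.toAlgHom A _ _
    have hgx : g (IsLocalization.mk' (FractionRing A) b ⟨a, ha⟩) = (x : FractionRing S) := by
      refine (isUnit_algebraMap_frac A S ha).mul_left_cancel ?_
      rw [hab, ← g.commutes a, ← map_mul, mul_comm, IsLocalization.mk'_spec, g.commutes]
    exact ⟨⟨_, (isIntegral_algHom_iff g hfinj).1 (hgx.symm ▸ hxi)⟩, hgx⟩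
  have hJ : ∀ x : normSub D, ∃ y : normSub D,
      ((y : locSub A S D) : FractionRing S) ∈ Algebra.adjoin A
        (Set.range (normIncl A S) ∪ algebraMap S (FractionRing S) '' (D : Set S)) ∧
      x - y ∈ Ideal.jacobson (⊥ : Ideal (normSub D)) := by
    intro x
    obtain ⟨w, hw⟩ := hsurj (Ideal.Quotient.mk _ (f x))
    set pm := Algebra.TensorProduct.productMap (Subalgebra.inclusion hle) ι with hpm
    have hadj : ∀ v, (pm v : FractionRing S) ∈ Algebra.adjoin A
        (Set.range (normIncl A S) ∪ algebraMap S (FractionRing S) '' (D : Set S)) := by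
      intro v
      induction v using TensorProduct.induction_on with
      | zero => rw [map_zero]; exact zero_mem _
      | add a b ha hb => rw [map_add, Subalgebra.coe_add]; exact add_mem ha hb
      | tmul a d =>
        rw [hpm, Algebra.TensorProduct.productMap_apply_tmul, Subalgebra.coe_mul, hι]
        exact mul_mem (Algebra.subset_adjoin (Or.inl (hA'n a)))
          (Algebra.subset_adjoin (Or.inr ⟨(d : S), d.2, rfl⟩))
    obtain ⟨y, hy⟩ := hf.2 (pm w)
    refine ⟨y, ?_, sub_mem_jacobson_normSub f hf x y ?_⟩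
    · rw [show ((y : locSub A S D) : FractionRing S) = (f y : FractionRing S) from rfl, hy]
      exact hadj w
    · rw [hy, ← Ideal.Quotient.eq]
      exact hw.symm
  refine flat_of_forall_finset fun F => ?_
  obtain ⟨e⟩ := strictHenselization_algEquiv A S
  obtain ⟨X, hX⟩ := exists_lift_finset (F.image e.symm)
  let ψ : D ⊗[A] X.R →ₐ[D] S :=
    Algebra.TensorProduct.lift (Algebra.ofId D S) (e.toAlgHom.comp (Groth.L05.Henselization.ι X)) fun _ _ => Commute.all _ _
  let q : Ideal (D ⊗[A] X.R) := (maximalIdeal S).comap ψ.toRingHom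
  haveI : q.IsPrime := Ideal.IsPrime.comap _
  let ψ' : Localization.AtPrime q →ₐ[D] S := IsLocalization.liftAlgHom (M := q.primeCompl) (f := ψ)
    fun t => IsLocalRing.notMem_maximalIdeal.1 t.2
  have hψ' : ∀ t, ψ' (algebraMap _ (Localization.AtPrime q) t) = ψ t := fun t =>
    IsLocalization.lift_eq (M := q.primeCompl) _ t
  haveI : Algebra.Etale D (D ⊗[A] X.R) := inferInstance
  haveI : Module.Flat (D ⊗[A] X.R) (Localization.AtPrime q) := IsLocalization.flat _ q.primeCompl
  haveI : Module.Flat D (Localization.AtPrime q) := Module.Flat.trans D (D ⊗[A] X.R) _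
  refine ⟨Localization.AtPrime q, inferInstance, inferInstance, ψ'.toLinearMap, inferInstance, ?_, fun x hx => ?_⟩
  · refine (injective_iff_map_eq_zero ψ'.toLinearMap).2 fun w hw => ?_
    obtain ⟨c, s, rfl⟩ := IsLocalization.exists_mk'_eq q.primeCompl w
    have h := congrArg ψ' (IsLocalization.mk'_spec (Localization.AtPrime q) c s)
    rw [map_mul, show ψ' (IsLocalization.mk' (Localization.AtPrime q) c s) = 0 from hw, zero_mul, hψ'] at h
    obtain ⟨t, ht, htc⟩ := exists_mul_eq_zero (hS := hS) D hJ hA0 _ ψ c h.symm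
    rw [IsLocalization.mk'_eq_zero_iff]
    exact ⟨⟨t, IsLocalRing.notMem_maximalIdeal.2 ht⟩, htc⟩
  · obtain ⟨y, hy⟩ := hX (e.symm x) (Finset.mem_image_of_mem _ (Finset.mem_coe.1 hx))
    refine ⟨algebraMap _ _ ((1 : D) ⊗ₜ[A] y), ?_⟩
    show ψ' _ = x
    rw [hψ']
    show ψ (1 ⊗ₜ[A] y) = x
    rw [Algebra.TensorProduct.lift_tmul, map_one, one_mul]
    exact (congrArg e hy).trans (e.apply_symm_apply x)

end Groth.L06.HensCrit
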