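import Groth.Agent.L06.HensStage
import Groth.Agent.L19.FlatComp

/-! A henselization inside a strict henselization is a union of essentially étale algebras
exactly when the base is flat below it. -/

set_option autoImplicit false
set_option linter.style.haveILetI false
universe u

open IsLocalRing Groth.L05.Henselization Groth.L05.StrictGalois Groth.L06.HensStage

namespace Groth.L06.HensCrit

variable {A S : Type u} [CommRing A] [IsLocalRing A] [CommRing S] [IsLocalRing S] [Algebra A S]
  [IsLocalHom (algebraMap A S)] [hS : Hensel.IsStrictHenselization A S]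

include hS in
/-- The maximal ideal of a flatly embedded subalgebra is generated by that of the base. -/
theorem map_maximalIdeal_sub (D : Subalgebra A S) [IsLocalRing D] [IsLocalHom (algebraMap D S)]
    [Module.Flat D S] : (maximalIdeal A).map (algebraMap A D) = maximalIdeal D := by
  haveI : Module.FaithfullyFlat D S := Module.FaithfullyFlat.of_flat_of_isLocalHom
  rw [← Ideal.comap_map_eq_self_of_faithfullyFlat (B := S) ((maximalIdeal A).map (algebraMap A D)),
    Ideal.map_map, ← IsScalarTower.algebraMap_eq, map_maximalIdeal_of_isStrictHenselization A S]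
  exact IsLocalRing.maximalIdeal_comap (algebraMap D S)

include hS in
theorem flat_of_ind (D : Subalgebra A S) [IsLocalRing D] (Dh : Type u) [CommRing Dh] [IsLocalRing Dh]
    [Algebra D Dh] [IsLocalHom (algebraMap D Dh)] [Hensel.IsHenselization D Dh] [Algebra Dh S]
    [IsScalarTower D Dh S] (hinj : Function.Injective (algebraMap Dh S))
    (hind : ∀ s : Finset S, (s : Set S) ⊆ Set.range (algebraMap Dh S) →
      ∃ E : Subalgebra A S, (s : Set S) ⊆ (E : Set S) ∧ (E : Set S) ⊆ Set.range (algebraMap Dh S) ∧
        ∃ _ : IsLocalRing E, EGA4loc.IsEssentiallyEtale A E) :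
    Module.Flat D S := by
  classical
  haveI : Module.Flat A S := flat_of_isStrictHenselization A S
  haveI : Module.Flat Dh S := by
    refine flat_of_forall_stage fun {l} f => ?_
    obtain ⟨E, hsE, hER, _, hE⟩ := hind (Finset.univ.image fun i => algebraMap Dh S (f i)) fun x hx => by
      obtain ⟨i, -, rfl⟩ := Finset.mem_image.1 (Finset.mem_coe.1 hx)
      exact ⟨_, rfl⟩
    haveI := formallyEtale_of_essEt hE
    haveI := essFiniteType_of_essEt hE
    haveI : Module.Flat E S := Algebra.FormallyUnramified.flat_of_restrictScalars A E S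
    let θ : Dh ≃+* (algebraMap Dh S).range :=
      RingEquiv.ofBijective (algebraMap Dh S).rangeRestrict
        ⟨fun a b h => hinj (congrArg Subtype.val h), (algebraMap Dh S).rangeRestrict_surjective⟩
    let incl : E →+* (algebraMap Dh S).range := RingHom.codRestrict E.val.toRingHom _ fun e => hER e.2
    refine ⟨E, inferInstance, inferInstance, θ.symm.toRingHom.comp incl, inferInstance,
      RingHom.ext fun e => ?_, fun i => ?_⟩
    · exact congrArg Subtype.val (θ.apply_symm_apply (incl e))
    · refine ⟨⟨algebraMap Dh S (f i), hsE (Finset.mem_coe.2 (Finset.mem_image_of_mem _ (Finset.mem_univ i)))⟩, hinj ?_⟩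
      exact congrArg Subtype.val (θ.apply_symm_apply (incl ⟨algebraMap Dh S (f i), _⟩))
  haveI : Module.Flat D Dh := flat_of_isHenselization D Dh
  exact Module.Flat.trans D Dh S

include hS in
theorem ind_of_flat [IsNoetherianRing A] (D : Subalgebra A S) [IsLocalRing D]
    [IsLocalHom (algebraMap D S)] [Module.Flat D S]
    (Dh : Type u) [CommRing Dh] [IsLocalRing Dh] [Algebra D Dh] [IsLocalHom (algebraMap D Dh)]
    [hH : Hensel.IsHenselization D Dh] [Algebra Dh S] [IsScalarTower D Dh S] :
    Function.Injective (algebraMap Dh S) ∧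
        ∀ s : Finset S, (s : Set S) ⊆ Set.range (algebraMap Dh S) →
          ∃ E : Subalgebra A S, (s : Set S) ⊆ (E : Set S) ∧ (E : Set S) ⊆ Set.range (algebraMap Dh S) ∧
            ∃ _ : IsLocalRing E, EGA4loc.IsEssentiallyEtale A E := by
  classical
  haveI : Module.Flat A S := flat_of_isStrictHenselization A S
  haveI : Algebra.IsSeparable (ResidueField A) (ResidueField S) := hS.isSepClosure.separable
  haveI : Module.FaithfullyFlat D S := Module.FaithfullyFlat.of_flat_of_isLocalHom
  haveI : IsNoetherianRing S := (isNoetherianRing_iff_strict A S).1 inferInstance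
  haveI : IsNoetherianRing D := Groth.L19.isNoetherianRing_of_faithfullyFlat D S
  haveI : IsNoetherianRing Dh := (isNoetherianRing_iff_hens D Dh).1 inferInstance
  have hmD := map_maximalIdeal_sub D
  have hmS := map_maximalIdeal_of_isStrictHenselization A S
  have hmDS : (maximalIdeal D).map (algebraMap D S) = maximalIdeal S := by
    rw [← hmD, Ideal.map_map, ← IsScalarTower.algebraMap_eq, hmS]
  have hmH := map_maximalIdeal_of_isHenselization D Dh
  have hmHS : (maximalIdeal Dh).map (algebraMap Dh S) = maximalIdeal S := by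
    rw [← hmH, Ideal.map_map, ← IsScalarTower.algebraMap_eq, hmDS]
  have hpow := fun n => (quotientMap_pow_bijective D (maximalIdeal D)
    (isPairHenselization_of_isHenselization (S := Dh)) n).2
  have hinj : Function.Injective (algebraMap Dh S) := by
    refine (injective_iff_map_eq_zero _).2 fun x hx => ?_
    have hmem : ∀ n : ℕ, x ∈ maximalIdeal Dh ^ n := by
      intro n
      obtain ⟨q, hq⟩ := hpow n (Ideal.Quotient.mk _ x)
      obtain ⟨d, rfl⟩ := Ideal.Quotient.mk_surjective q
      rw [Ideal.quotientMap_mk, Ideal.Quotient.eq, Ideal.map_pow, hmH] at hq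
      have h1 : algebraMap D S d ∈ maximalIdeal S ^ n := by
        have h := Ideal.mem_map_of_mem (algebraMap Dh S) hq
        rwa [Ideal.map_pow, hmHS, map_sub, hx, sub_zero, ← IsScalarTower.algebraMap_apply] at h
      have h2 : d ∈ maximalIdeal D ^ n := by
        rw [← Ideal.comap_map_eq_self_of_faithfullyFlat (B := S) (maximalIdeal D ^ n), Ideal.mem_comap,
          Ideal.map_pow, hmDS]
        exact h1
      have h3 := Ideal.mem_map_of_mem (algebraMap D Dh) h2
      rw [Ideal.map_pow, hmH] at h3
      simpa using sub_mem h3 hq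
    have h := Ideal.mem_iInf.2 hmem
    rwa [Ideal.iInf_pow_eq_bot_of_isLocalRing (maximalIdeal Dh) Ideal.IsPrime.ne_top', Ideal.mem_bot] at h
  refine ⟨hinj, ?_⟩
  letI : Algebra A Dh := ((algebraMap D Dh).comp (algebraMap A D)).toAlgebra
  haveI : IsScalarTower A D Dh := .of_algebraMap_eq fun _ => rfl
  haveI : IsScalarTower A Dh S := .of_algebraMap_eq fun a => by
    rw [IsScalarTower.algebraMap_apply A D S, IsScalarTower.algebraMap_apply D Dh S]
    rfl
  haveI : IsLocalHom (algebraMap A D) := ⟨fun a ha => by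
    have := ha.map (algebraMap D S)
    rw [← IsScalarTower.algebraMap_apply] at this
    exact IsLocalHom.map_nonunit (f := algebraMap A S) a this⟩
  haveI : IsLocalHom (algebraMap Dh S) :=
    ((IsLocalRing.local_hom_TFAE (algebraMap Dh S)).out 0 2 rfl rfl).mpr hmHS.le
  let kD := ResidueField D
  let j : kD →ₐ[ResidueField A] ResidueField S :=
    { ResidueField.map (algebraMap D S) with
      commutes' := fun r => by
        obtain ⟨a, rfl⟩ := residue_surjective r
        rfl }
  haveI : Algebra.IsSeparable (ResidueField A) kD := Algebra.IsSeparable.of_algHom _ _ j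
  haveI := isLocalRing_col A kD
  haveI := henselianLocalRing_col A kD
  haveI := isNoetherianRing_col A kD
  haveI := isLocalHom_col A kD
  haveI : HenselianLocalRing Dh := hH.henselian
  let τ : kD →ₐ[A] Dh ⧸ maximalIdeal Dh :=
    { ResidueField.map (algebraMap D Dh) with
      commutes' := fun a => rfl }
  obtain ⟨g₀, hg₀, -⟩ := existsUnique_algHom (A := A) (K := kD) (maximalIdeal Dh) τ
  have hg₀r : ∀ c, Ideal.Quotient.mk (maximalIdeal Dh) (g₀ c) = τ (ε A kD c) :=
    fun c => DFunLike.congr_fun hg₀ c
  let g : Col A kD →ₐ[A] S := (IsScalarTower.toAlgHom A Dh S).comp g₀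
  haveI hgloc : IsLocalHom g.toRingHom := ⟨fun c hc => by
    have h1 : IsUnit (g₀ c) := IsLocalHom.map_nonunit (f := algebraMap Dh S) _ hc
    refine isUnit_of_isUnit_ε (isUnit_iff_ne_zero.2 fun h0 => ?_)
    have h2 := hg₀r c
    rw [h0, map_zero, Ideal.Quotient.eq_zero_iff_mem] at h2
    exact h2 h1⟩
  letI : Algebra (Col A kD) S := g.toRingHom.toAlgebra
  haveI : IsScalarTower A (Col A kD) S := .of_algebraMap_eq fun a => (g.commutes a).symm
  haveI : IsLocalHom (algebraMap (Col A kD) S) := hgloc
  have hu : ∀ (X : Obj A kD) (x : X.R), x ∉ stagePrime (g.comp (ι X)) → IsUnit (ι X x) := fun X x hx =>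
    IsLocalHom.map_nonunit (f := g.toRingHom) _ (IsLocalRing.notMem_maximalIdeal.1 hx)
  let lift : ∀ X : Obj A kD, Stage (g.comp (ι X)) →ₐ[A] Col A kD := fun X =>
    IsLocalization.liftAlgHom (M := (stagePrime (g.comp (ι X))).primeCompl) (f := ι X) fun y => hu X y.1 y.2
  have hlift : ∀ (X : Obj A kD) (x : X.R), lift X (algebraMap _ _ x) = ι X x := fun X x =>
    IsLocalization.lift_eq (M := (stagePrime (g.comp (ι X))).primeCompl) _ x
  have hgl : ∀ X : Obj A kD, g.comp (lift X) = stageHom (g.comp (ι X)) := fun X => by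
    refine IsLocalization.algHom_ext (stagePrime (g.comp (ι X))).primeCompl (AlgHom.ext fun x => ?_)
    show g (lift X (algebraMap _ _ x)) = stageHom (g.comp (ι X)) (algebraMap _ _ x)
    rw [hlift, stageHom_algebraMap]
    rfl
  haveI : Module.Flat (Col A kD) S := by
    refine flat_of_forall_stage fun {l} f => ?_
    obtain ⟨X, hX⟩ := exists_lift_finset (Finset.univ.image f)
    letI := (stageHom (g.comp (ι X))).toRingHom.toAlgebra
    refine ⟨Stage (g.comp (ι X)), inferInstance, (stageHom (g.comp (ι X))).toRingHom.toAlgebra,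
      (lift X).toRingHom, flat_stage _, congrArg AlgHom.toRingHom (hgl X), fun i => ?_⟩
    obtain ⟨y, hy⟩ := hX (f i) (Finset.mem_image_of_mem _ (Finset.mem_univ i))
    exact ⟨algebraMap _ _ y, (hlift X y).trans hy⟩
  have hmC : (maximalIdeal (Col A kD)).map (algebraMap (Col A kD) S) = maximalIdeal S := by
    rw [maximalIdeal_col, Ideal.map_map, ← IsScalarTower.algebraMap_eq, hmS]
  have hmAH : (maximalIdeal A).map (algebraMap A Dh) = maximalIdeal Dh := by
    rw [IsScalarTower.algebraMap_eq A D Dh, ← Ideal.map_map, hmD, hmH]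
  have hsub : ∀ h : Dh, algebraMap Dh S h ∈ Set.range (algebraMap (Col A kD) S) := by
    intro h
    obtain ⟨e⟩ := strictHenselization_algEquiv A S
    obtain ⟨Y, y, hy⟩ := ι_surj (e.symm (algebraMap Dh S h))
    let ψ : Y.R →ₐ[A] S := e.toAlgHom.comp (ι Y)
    have hψy : ψ y = algebraMap Dh S h := by
      show e (ι Y y) = _
      rw [hy, e.apply_symm_apply]
    rw [← hψy]
    refine mem_range_of_henselian A (Col A kD) S hmC ψ y fun n => ?_
    rw [hψy]
    obtain ⟨c, hc⟩ := exists_approx g₀ (maximalIdeal A) (fun x => by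
      obtain ⟨r, hr⟩ := (residueField_map_bijective_of_isHenselization D Dh).2 (residue Dh x)
      obtain ⟨c, hc⟩ := ε_surjective_of_separable A kD r
      refine ⟨c, ?_⟩
      rw [hmAH, ← Ideal.Quotient.eq_zero_iff_mem, map_sub, hg₀r, hc, sub_eq_zero]
      exact hr.symm) n h
    refine ⟨c, ?_⟩
    have h1 := Ideal.mem_map_of_mem (algebraMap Dh S) hc
    rwa [Ideal.map_map, ← IsScalarTower.algebraMap_eq, Ideal.map_pow, hmS, map_sub] at h1
  intro s hs
  have hs' : ∀ x ∈ s, ∃ c : Col A kD, g c = x := fun x hx => by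
    obtain ⟨h, rfl⟩ := hs (Finset.mem_coe.2 hx)
    exact hsub h
  choose! cc hcc using hs'
  obtain ⟨X, hX⟩ := exists_lift_finset (s.image cc)
  obtain ⟨hloc, hEt⟩ := essEt_range (g.comp (ι X))
  refine ⟨(stageHom (g.comp (ι X))).range, fun x hx => ?_, ?_, hloc, hEt⟩
  · obtain ⟨y, hy⟩ := hX (cc x) (Finset.mem_image_of_mem _ (Finset.mem_coe.1 hx))
    rw [← hcc x (Finset.mem_coe.1 hx), ← hy]
    exact mem_range_stageHom (g.comp (ι X)) y
  · rintro _ ⟨z, rfl⟩
    exact ⟨g₀ (lift X z), DFunLike.congr_fun (hgl X) z⟩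

end Groth.L06.HensCrit
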