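import Groth.Agent.L05.StrictGalois.NormStrict
import Groth.Agent.L06.EGA4locInter
import Groth.Agent.L05.Henselization.Noeth
import Groth.Agent.L05.Henselization.Branches
import Groth.Agent.L05.Henselization.Fibres
import Mathlib.RingTheory.Flat.FaithfullyFlat.Algebra

/-! Normalization of flatly embedded subalgebras of a strict henselization. -/

set_option autoImplicit false
set_option maxSynthPendingDepth 3
set_option linter.style.haveILetI false
universe u

open IsLocalRing Groth.L05.Henselization Groth.L05.StrictGalois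
open scoped TensorProduct nonZeroDivisors

namespace Groth.L06.HensCrit

variable {A S : Type u} [CommRing A] [IsLocalRing A] [CommRing S] [IsLocalRing S] [Algebra A S]
  [IsLocalHom (algebraMap A S)] [hS : Hensel.IsStrictHenselization A S]

include hS in
theorem isReduced_strict' [IsReduced A] : IsReduced S := by
  haveI := flat_of_isStrictHenselization A S
  haveI : Module.FaithfullyFlat A S := faithfullyFlat_of_flat_local
  exact (isReduced_iff_of_isIndEtale A S (isIndEtale_of_isStrictHenselization A S)).1 inferInstance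

include hS in
/-- The normalization of the strict henselization is the base change of that of the base. -/
theorem exists_normMap_eq_strict [IsReduced A] [Module.Flat A S] (hmin : (minimalPrimes A).Finite)
    {x : FractionRing S} (hx : IsIntegral S x) : ∃ z, normMap A S z = x := by
  classical
  obtain ⟨c, ⟨s, hs⟩, rfl⟩ := IsLocalization.exists_mk'_eq S⁰ x
  obtain ⟨p, hp, hpx⟩ := hx
  obtain ⟨E, _, _, hE, hff, hmem⟩ := exists_essEt_stage A S ({c, s} ∪ p.coeffs)
  haveI := hff
  haveI := flat_of_essEt hE
  have hsE : s ∈ E := hmem (by simp)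
  have hcE : c ∈ E := hmem (by simp)
  let sE : E⁰ := ⟨⟨s, hsE⟩, mem_nonZeroDivisors_iff_right.2 fun w hw => Subtype.ext
    (mem_nonZeroDivisors_iff_right.1 hs _ (congrArg Subtype.val hw : (w : S) * s = 0))⟩
  let y : FractionRing E := IsLocalization.mk' _ (⟨c, hcE⟩ : E) sE
  let jj : FractionRing E →+* FractionRing S :=
    IsLocalization.map (M := E⁰) (T := S⁰) (FractionRing S) (algebraMap E S)
      fun a ha => algebraMapSubmonoid_le E S ⟨a, ha, rfl⟩
  have hjE : ∀ e : E, jj (algebraMap E _ e) = algebraMap S (FractionRing S) (e : S) := fun e =>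
    IsLocalization.map_eq _ e
  have hjy : jj y = IsLocalization.mk' (FractionRing S) c ⟨s, hs⟩ := by
    rw [IsLocalization.eq_mk'_iff_mul_eq]
    show jj y * algebraMap S _ ((sE : E) : S) = _
    rw [← hjE, ← map_mul, IsLocalization.mk'_spec, hjE]
  have hjinj : Function.Injective jj := by
    refine (injective_iff_map_eq_zero jj).2 fun w hw => ?_
    obtain ⟨a, b, rfl⟩ := IsLocalization.exists_mk'_eq E⁰ w
    have h := congrArg jj (IsLocalization.mk'_spec (FractionRing E) a b)
    rw [map_mul, hw, zero_mul, hjE] at h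
    have ha : (a : S) = 0 := IsFractionRing.injective S (FractionRing S) (h.symm.trans (map_zero _).symm)
    rw [show a = 0 from Subtype.ext ha, IsLocalization.mk'_zero]
  have hlift : p ∈ Polynomial.lifts (algebraMap E S) := (Polynomial.lifts_iff_coeff_lifts _).2 fun i => by
    by_cases h : p.coeff i = 0
    · exact ⟨0, by rw [map_zero, h]⟩
    · exact ⟨⟨p.coeff i, hmem (Finset.mem_coe.2 (Finset.mem_union_right _ (Polynomial.coeff_mem_coeffs h)))⟩, rfl⟩
  obtain ⟨q, hq, -, hqm⟩ := Polynomial.lifts_and_natDegree_eq_and_monic hlift hp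
  have hy : IsIntegral E y := by
    refine ⟨q, hqm, hjinj ?_⟩
    rw [map_zero, Polynomial.hom_eval₂, show jj.comp (algebraMap E (FractionRing E)) =
      (algebraMap S (FractionRing S)).comp (algebraMap E S) from RingHom.ext hjE, ← Polynomial.eval₂_map, hq, hjy]
    exact hpx
  obtain ⟨z, hz⟩ := exists_normMap_eq hmin hE hy
  letI := fracAlgebra A S
  letI := fracAlgebra A E
  haveI := fracTower A S
  haveI := fracTower A E
  have hcomp : jj.comp (algebraMap (FractionRing A) (FractionRing E)) = algebraMap (FractionRing A) (FractionRing S) :=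
    IsLocalization.ringHom_ext A⁰ (RingHom.ext fun a => by
      show jj (algebraMap (FractionRing A) (FractionRing E) (algebraMap A _ a)) = algebraMap (FractionRing A) (FractionRing S) (algebraMap A _ a)
      rw [← IsScalarTower.algebraMap_apply A (FractionRing A) (FractionRing E) a,
        ← IsScalarTower.algebraMap_apply A (FractionRing A) (FractionRing S) a,
        IsScalarTower.algebraMap_apply A E (FractionRing E), hjE,
        IsScalarTower.algebraMap_apply A S (FractionRing S)]
      rfl)
  refine ⟨Algebra.TensorProduct.map (AlgHom.id A _) E.val z, ?_⟩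
  rw [← hjy, ← hz]
  clear hz
  induction z with
  | zero => simp
  | tmul a e =>
    rw [Algebra.TensorProduct.map_tmul, normMap_tmul, normMap_tmul, map_mul, hjE]
    exact congrArg (· * _) (RingHom.congr_fun hcomp (a : FractionRing A)).symm
  | add a b ha hb => simp only [map_add, ha, hb]

include hS in
theorem finite_maximal_tensor [IsReduced A] [IsNoetherianRing A] [Module.Flat A S] :
    {M : Ideal (integralClosure A (FractionRing A) ⊗[A] S) | M.IsMaximal}.Finite := by
  have hmin : (minimalPrimes A).Finite := Ideal.finite_minimalPrimes_of_isNoetherianRing A ⊥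
  haveI : IsNoetherianRing S := (isNoetherianRing_iff_strict A S).1 inferInstance
  haveI : IsReduced S := isReduced_strict' (A := A)
  let nm : integralClosure A (FractionRing A) ⊗[A] S →+* integralClosure S (FractionRing S) :=
    (normMap A S).toRingHom.codRestrict _ (isIntegral_normMap A S)
  have hnm : Function.Bijective nm := ⟨fun a b h => normMap_injective A S (congrArg Subtype.val h),
    fun x => by
      obtain ⟨z, hz⟩ := exists_normMap_eq_strict hmin x.2
      exact ⟨z, Subtype.ext hz⟩⟩
  refine ((Groth.L06.EGA4locInter.finite_maximal_integralClosure S).image fun N => N.comap nm).subset fun M hM => ?_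
  haveI : M.IsMaximal := hM
  exact ⟨M.map nm, Ideal.IsMaximal.map_bijective nm hnm hM, Ideal.comap_map_of_bijective nm hnm⟩

section Descent

variable (D : Subalgebra A S) (B : Type u) [CommRing B] [Algebra A B]

/-- The base change of the inclusion. -/
noncomputable def incT : B ⊗[A] D →ₐ[A] B ⊗[A] S := Algebra.TensorProduct.map (AlgHom.id A B) D.val

theorem comap_map_incT [Module.FaithfullyFlat D S] (I : Ideal (B ⊗[A] D)) :
    (I.map (incT D B)).comap (incT D B) = I := by
  let T := D ⊗[A] B
  let U := T ⊗[D] S
  let κ : U →+* B ⊗[A] S :=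
    ((Algebra.TensorProduct.comm A S B).toRingEquiv.toRingHom.comp
      (Algebra.TensorProduct.cancelBaseChange A D D S B).toRingEquiv.toRingHom).comp
      (Algebra.TensorProduct.comm D T S).toRingEquiv.toRingHom
  have hκ : Function.Bijective κ :=
    ((Algebra.TensorProduct.comm A S B).toRingEquiv.bijective.comp
      (Algebra.TensorProduct.cancelBaseChange A D D S B).toRingEquiv.bijective).comp
      (Algebra.TensorProduct.comm D T S).toRingEquiv.bijective
  let c : B ⊗[A] D →+* T := (Algebra.TensorProduct.comm A B D).toRingEquiv.toRingHom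
  have hc : Function.Bijective c := (Algebra.TensorProduct.comm A B D).toRingEquiv.bijective
  have hfac : (incT D B).toRingHom = (κ.comp (algebraMap T U)).comp c := by
    refine RingHom.ext fun z => ?_
    induction z using TensorProduct.induction_on with
    | zero => simp
    | add a b ha hb => simp only [map_add, ha, hb]
    | tmul b d =>
      show b ⊗ₜ[A] (d : S) = Algebra.TensorProduct.comm A S B
        (Algebra.TensorProduct.cancelBaseChange A D D S B ((Algebra.TensorProduct.comm D T S) ((d ⊗ₜ[A] b) ⊗ₜ[D] (1 : S))))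
      rw [Algebra.TensorProduct.comm_tmul, Algebra.TensorProduct.cancelBaseChange_tmul,
        Algebra.TensorProduct.comm_tmul, Algebra.smul_def, mul_one]
      rfl
  show (I.map (incT D B).toRingHom).comap (incT D B).toRingHom = I
  rw [hfac, ← Ideal.map_map, ← Ideal.map_map, ← Ideal.comap_comap, ← Ideal.comap_comap,
    Ideal.comap_map_of_bijective κ hκ, Ideal.comap_map_eq_self_of_faithfullyFlat,
    Ideal.comap_map_of_bijective c hc]

theorem incT_injective [Module.FaithfullyFlat D S] : Function.Injective (incT D B) := by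
  refine (injective_iff_map_eq_zero _).2 fun z hz => ?_
  have h : z ∈ ((⊥ : Ideal (B ⊗[A] D)).map (incT D B)).comap (incT D B) := by
    rw [Ideal.mem_comap, hz]; exact zero_mem _
  rwa [comap_map_incT, Ideal.mem_bot] at h

end Descent

include hS in
/-- The Jacobson radical of an integral base change of a flatly embedded subalgebra. -/
theorem jacobson_tensor (D : Subalgebra A S) [IsLocalRing D] [IsLocalHom (algebraMap D S)]
    [Module.FaithfullyFlat D S] (hmD : (maximalIdeal A).map (algebraMap A D) = maximalIdeal D)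
    (B : Type u) [CommRing B] [Algebra A B] [Algebra.IsIntegral A B] :
    Ideal.jacobson (⊥ : Ideal (B ⊗[A] D)) =
      (Ideal.jacobson (⊥ : Ideal B)).map (Algebra.TensorProduct.includeLeft : B →ₐ[A] B ⊗[A] D) ⊔
        (maximalIdeal D).map (Algebra.TensorProduct.includeRight : D →ₐ[A] B ⊗[A] D) := by
  haveI : IsLocalHom (algebraMap A D) := ⟨fun a ha => by
    have := ha.map (algebraMap D S)
    rw [← IsScalarTower.algebraMap_apply] at this
    exact IsLocalHom.map_nonunit (f := algebraMap A S) a this⟩
  let J := Ideal.jacobson (⊥ : Ideal B)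
  let IJ : Ideal (B ⊗[A] D) := J.map (Algebra.TensorProduct.includeLeft : B →ₐ[A] B ⊗[A] D)
  have hmD' : (maximalIdeal D).map (Algebra.TensorProduct.includeRight : D →ₐ[A] B ⊗[A] D) ≤ IJ := by
    rw [← hmD, ← Ideal.map_coe, Ideal.map_map]
    rw [show (RingHomClass.toRingHom (Algebra.TensorProduct.includeRight : D →ₐ[A] B ⊗[A] D)).comp
        (algebraMap A D) = (RingHomClass.toRingHom (Algebra.TensorProduct.includeLeft : B →ₐ[A] B ⊗[A] D)).comp
        (algebraMap A B) from RingHom.ext fun a =>
          ((Algebra.TensorProduct.includeRight : D →ₐ[A] B ⊗[A] D).commutes a).trans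
            ((Algebra.TensorProduct.includeLeft : B →ₐ[A] B ⊗[A] D).commutes a).symm]
    rw [← Ideal.map_map, Ideal.map_coe]
    exact Ideal.map_mono (map_maximalIdeal_le_jacobson B)
  let c := (Algebra.TensorProduct.comm A D B).toRingEquiv.toRingHom
  have hc : Function.Bijective c := (Algebra.TensorProduct.comm A D B).toRingEquiv.bijective
  have hcD : ∀ d : D, c (algebraMap D (D ⊗[A] B) d) = (Algebra.TensorProduct.includeRight : D →ₐ[A] B ⊗[A] D) d :=
    fun d => by simp [c]
  have hmax : ∀ P : Ideal (B ⊗[A] D), P.IsPrime → IJ ≤ P → P.IsMaximal := by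
    intro P hP hle
    haveI : (P.comap c).IsPrime := Ideal.IsPrime.comap _
    have h1 : (P.comap c).comap (algebraMap D (D ⊗[A] B)) = maximalIdeal D := by
      haveI : ((P.comap c).comap (algebraMap D (D ⊗[A] B))).IsPrime := Ideal.IsPrime.comap _
      refine le_antisymm (IsLocalRing.le_maximalIdeal (Ideal.IsPrime.ne_top ‹_›)) fun e he => ?_
      show c (algebraMap D _ e) ∈ P
      rw [hcD]
      exact hle (hmD' (Ideal.mem_map_of_mem _ he))
    haveI : (P.comap c).IsMaximal :=
      Ideal.isMaximal_of_isIntegral_of_isMaximal_comap (R := D) _ (h1 ▸ inferInstance)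
    rw [← Ideal.map_comap_of_surjective c hc.2 P]
    exact Ideal.IsMaximal.map_bijective c hc this
  have hover : ∀ P : Ideal (B ⊗[A] D), P.IsMaximal →
      (maximalIdeal D).map (Algebra.TensorProduct.includeRight : D →ₐ[A] B ⊗[A] D) ≤ P := by
    intro P hP
    haveI := hP
    haveI : (P.comap c).IsMaximal := Ideal.comap_isMaximal_of_surjective c hc.2
    rw [Ideal.map_le_iff_le_comap]
    intro d hd
    show (Algebra.TensorProduct.includeRight : D →ₐ[A] B ⊗[A] D) d ∈ P
    rw [← hcD]
    exact (IsLocalRing.eq_maximalIdeal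
      (Ideal.isMaximal_comap_of_isIntegral_of_isMaximal (R := D) (P.comap c))).ge hd
  refine le_antisymm (le_trans ?_ le_sup_left) (sup_le ?_ ?_)
  · intro x hx
    haveI : IsReduced (B ⧸ J) := (Ideal.isRadical_iff_quotient_reduced J).1 (Ideal.isRadical_jacobson _)
    haveI : Algebra.WeaklyEtale A S :=
      Groth.L27.IndEtale.weaklyEtale A S (isIndEtale_of_isStrictHenselization A S)
    haveI : IsReduced ((B ⧸ J) ⊗[A] S) := Groth.L20.isReduced_of_weaklyEtale (B ⧸ J) ((B ⧸ J) ⊗[A] S)
    haveI : IsReduced ((B ⧸ J) ⊗[A] D) := isReduced_of_injective _ (incT_injective D (B ⧸ J))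
    let g := Algebra.TensorProduct.map (Ideal.Quotient.mkₐ A J) (AlgHom.id A D)
    have hker : RingHom.ker g = IJ := by
      rw [Algebra.TensorProduct.rTensor_ker _ Ideal.Quotient.mk_surjective]
      show _ = J.map _
      congr 1
      exact Ideal.Quotient.mkₐ_ker A J
    show x ∈ IJ
    rw [← hker]
    have hrad : (RingHom.ker g).IsRadical := fun y ⟨n, hn⟩ => by
      rw [RingHom.mem_ker] at hn ⊢
      rw [map_pow] at hn
      exact IsReduced.eq_zero _ ⟨n, hn⟩
    refine hrad ?_
    rw [Ideal.radical_eq_sInf, Submodule.mem_sInf]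
    intro P hP
    haveI := hmax P hP.2 (hker ▸ hP.1)
    exact (sInf_le ⟨bot_le, this⟩ : Ideal.jacobson ⊥ ≤ P) hx
  · refine le_sInf fun P hP => ?_
    haveI := hP.2
    rw [Ideal.map_le_iff_le_comap]
    haveI : (P.comap (Algebra.TensorProduct.includeLeft : B →ₐ[A] B ⊗[A] D)).IsPrime := Ideal.IsPrime.comap _
    refine sInf_le ⟨bot_le, Ideal.isMaximal_of_isIntegral_of_isMaximal_comap (R := A) _ ?_⟩
    have h2 : (P.comap (Algebra.TensorProduct.includeLeft : B →ₐ[A] B ⊗[A] D)).comap (algebraMap A B) =
        maximalIdeal A := by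
      refine le_antisymm (IsLocalRing.le_maximalIdeal (Ideal.IsPrime.ne_top (Ideal.IsPrime.comap _))) fun a ha => ?_
      show (Algebra.TensorProduct.includeLeft : B →ₐ[A] B ⊗[A] D) (algebraMap A B a) ∈ P
      rw [AlgHom.commutes, ← (Algebra.TensorProduct.includeRight : D →ₐ[A] B ⊗[A] D).commutes]
      exact hover P hP.2 (Ideal.mem_map_of_mem _ (map_nonunit (algebraMap A D) a ha))
    rw [h2]
    infer_instance
  · exact le_sInf fun P hP => hover P hP.2

include hS in
/-- A flatly embedded subalgebra satisfies the normalization conditions. -/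
theorem norm_conditions [IsReduced A] [IsNoetherianRing A] (D : Subalgebra A S) [IsLocalRing D]
    [IsLocalHom (algebraMap D S)] [Module.Flat D S]
    (hmD : (maximalIdeal A).map (algebraMap A D) = maximalIdeal D)
    (A' D' : Subalgebra A (FractionRing S))
    (hA' : ∀ x : (FractionRing S), x ∈ A' ↔ (IsIntegral A x ∧
      ∃ a ∈ nonZeroDivisors A, ∃ b : A, algebraMap A (FractionRing S) a * x = algebraMap A (FractionRing S) b))
    (hD' : ∀ x : (FractionRing S), x ∈ D' ↔ (IsIntegral D x ∧
      ∃ a ∈ nonZeroDivisors A, ∃ d ∈ D, algebraMap A (FractionRing S) a * x = algebraMap S (FractionRing S) d))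
    (hle : A' ≤ D') (ι : D →ₐ[A] D') (hι : ∀ d : D, (ι d : (FractionRing S)) = algebraMap S (FractionRing S) d) :
      ({N : Ideal D' | N.IsMaximal}.Finite ∧
        Function.Surjective ((Ideal.Quotient.mkₐ A (Ideal.jacobson (⊥ : Ideal D'))).comp
          (Algebra.TensorProduct.productMap (Subalgebra.inclusion hle) ι)) ∧
        RingHom.ker ((Ideal.Quotient.mkₐ A (Ideal.jacobson (⊥ : Ideal D'))).comp
          (Algebra.TensorProduct.productMap (Subalgebra.inclusion hle) ι)) =
          (Ideal.jacobson (⊥ : Ideal A')).map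
              (Algebra.TensorProduct.includeLeft : A' →ₐ[A] A' ⊗[A] D) ⊔
            (maximalIdeal D).map
              (Algebra.TensorProduct.includeRight : D →ₐ[A] A' ⊗[A] D)) := by
  have hmin : (minimalPrimes A).Finite := Ideal.finite_minimalPrimes_of_isNoetherianRing A ⊥
  haveI : Module.Flat A S := flat_of_isStrictHenselization A S
  haveI : Module.FaithfullyFlat D S := Module.FaithfullyFlat.of_flat_of_isLocalHom
  haveI : Algebra.IsIntegral A A' :=
    ⟨fun x => (isIntegral_algHom_iff A'.val Subtype.val_injective).1 ((hA' _).1 x.2).1⟩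
  letI := fracAlgebra A S
  haveI := fracTower A S
  let A0 := integralClosure A (FractionRing A)
  have hincl : ∀ a : A0, normIncl A S a ∈ A' := fun a => by
    refine (hA' _).2 ⟨(Algebra.IsIntegral.isIntegral (R := A) a).map (normIncl A S), ?_⟩
    obtain ⟨b, s, hbs⟩ := IsLocalization.exists_mk'_eq A⁰ (a : FractionRing A)
    refine ⟨s, s.2, b, ?_⟩
    show _ * algebraMap (FractionRing A) (FractionRing S) (a : FractionRing A) = _
    rw [← hbs, IsScalarTower.algebraMap_apply A (FractionRing A) (FractionRing S), ← map_mul, mul_comm,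
      IsLocalization.mk'_spec, ← IsScalarTower.algebraMap_apply]
  let eA : A0 →ₐ[A] A' := (normIncl A S).codRestrict A' hincl
  have hfinj : Function.Injective (algebraMap (FractionRing A) (FractionRing S)) := by
    refine (injective_iff_map_eq_zero _).2 fun w hw => ?_
    obtain ⟨b, s, rfl⟩ := IsLocalization.exists_mk'_eq A⁰ w
    have h := congrArg (algebraMap (FractionRing A) (FractionRing S)) (IsLocalization.mk'_spec (FractionRing A) b s)
    rw [map_mul, hw, zero_mul, ← IsScalarTower.algebraMap_apply, IsScalarTower.algebraMap_apply A S (FractionRing S)] at h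
    haveI : Module.FaithfullyFlat A S := Module.FaithfullyFlat.of_flat_of_isLocalHom
    have hb : b = 0 := FaithfulSMul.algebraMap_injective A S
      (IsFractionRing.injective S (FractionRing S) (h.symm.trans (by rw [map_zero, map_zero])))
    rw [hb, IsLocalization.mk'_zero]
  have heA : Function.Bijective eA := by
    refine ⟨fun a b h => Subtype.ext (hfinj (congrArg Subtype.val h : normIncl A S a = normIncl A S b)), fun x => ?_⟩
    obtain ⟨hxi, a, ha, b, hab⟩ := (hA' _).1 x.2
    let f : FractionRing A →ₐ[A] FractionRing S := IsScalarTower.toAlgHom A _ _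
    have hfx : f (IsLocalization.mk' (FractionRing A) b ⟨a, ha⟩) = (x : FractionRing S) := by
      refine (isUnit_algebraMap_frac A S ha).mul_left_cancel ?_
      rw [hab, ← f.commutes a, ← map_mul, mul_comm, IsLocalization.mk'_spec, f.commutes]
    exact ⟨⟨_, (isIntegral_algHom_iff f hfinj).1 (hfx.symm ▸ hxi)⟩, Subtype.ext hfx⟩
  let pm := Algebra.TensorProduct.productMap (Subalgebra.inclusion hle) ι
  let Φ : A0 ⊗[A] D →ₐ[A] FractionRing S := (normMap A S).comp (incT D A0)
  have hΦinj : Function.Injective Φ := (normMap_injective A S).comp (incT_injective D A0)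
  let eT : A0 ⊗[A] D →ₐ[A] A' ⊗[A] D := Algebra.TensorProduct.map eA (AlgHom.id A D)
  have heT : Function.Surjective eT := Algebra.TensorProduct.map_surjective _ _ heA.2 Function.surjective_id
  have hpm : ∀ z, (pm (eT z) : FractionRing S) = Φ z := by
    intro z
    induction z using TensorProduct.induction_on with
    | zero => simp
    | add a b ha hb => simp only [map_add, Subalgebra.coe_add, ha, hb]
    | tmul a d =>
      show _ = normMap A S (a ⊗ₜ[A] (d : S))
      rw [normMap_tmul, Algebra.TensorProduct.map_tmul, Algebra.TensorProduct.productMap_apply_tmul,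
        Subalgebra.coe_mul]
      exact congrArg₂ (· * ·) rfl (hι d)
  have hsurj : ∀ x : D', ∃ z, Φ z = (x : FractionRing S) := by
    intro x
    obtain ⟨hxi, a, ha, d, hd, had⟩ := (hD' _).1 x.2
    obtain ⟨w, hw⟩ := exists_normMap_eq_strict (hS := hS) hmin (x := (x : FractionRing S)) hxi.tower_top
    have h1 : incT D A0 ((1 : A0) ⊗ₜ[A] (⟨d, hd⟩ : D)) = algebraMap A _ a * w := normMap_injective A S (by
      rw [map_mul, AlgHom.commutes, hw, had]
      show normMap A S (1 ⊗ₜ[A] d) = _
      rw [normMap_tmul, map_one, one_mul])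
    have h2 : (1 : A0) ⊗ₜ[A] (⟨d, hd⟩ : D) ∈
        ((Ideal.span {algebraMap A (A0 ⊗[A] D) a}).map (incT D A0)).comap (incT D A0) := by
      rw [Ideal.mem_comap, h1, Ideal.map_span, Set.image_singleton, AlgHom.commutes]
      exact Ideal.mem_span_singleton'.2 ⟨w, mul_comm _ _⟩
    rw [comap_map_incT] at h2
    obtain ⟨t, ht⟩ := Ideal.mem_span_singleton'.1 h2
    refine ⟨t, (isUnit_algebraMap_frac A S ha).mul_left_cancel ?_⟩
    rw [had, mul_comm, ← Φ.commutes, ← map_mul, ht]
    show normMap A S (1 ⊗ₜ[A] d) = _
    rw [normMap_tmul, map_one, one_mul]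
  have hbij : Function.Bijective pm := by
    refine ⟨fun a b h => ?_, fun x => ?_⟩
    · obtain ⟨a, rfl⟩ := heT a
      obtain ⟨b, rfl⟩ := heT b
      exact congrArg eT (hΦinj (by rw [← hpm, ← hpm, h]))
    · obtain ⟨z, hz⟩ := hsurj x
      exact ⟨eT z, Subtype.ext ((hpm z).trans hz)⟩
  refine ⟨?_, Ideal.Quotient.mk_surjective.comp hbij.2, ?_⟩
  · let g : A0 ⊗[A] D →+* D' := (pm.comp eT).toRingHom
    have hgs : Function.Surjective g := hbij.2.comp heT
    have hfin0 : {M : Ideal (A0 ⊗[A] D) | M.IsMaximal}.Finite := by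
      refine ((finite_maximal_tensor (A := A) (S := S)).image fun N => N.comap (incT D A0)).subset fun M hM => ?_
      haveI : M.IsMaximal := hM
      have hne : M.map (incT D A0) ≠ ⊤ := fun h => hM.ne_top (by
        rw [← comap_map_incT D A0 M, h, Ideal.comap_top])
      obtain ⟨N, hN, hle'⟩ := Ideal.exists_le_maximal _ hne
      exact ⟨N, hN, (hM.eq_of_le (Ideal.comap_ne_top _ hN.ne_top) (Ideal.map_le_iff_le_comap.1 hle')).symm⟩
    refine Set.Finite.of_finite_image (hfin0.subset ?_) ((Ideal.comap_injective_of_surjective g hgs).injOn)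
    rintro _ ⟨N, hN, rfl⟩
    haveI : N.IsMaximal := hN
    exact Ideal.comap_isMaximal_of_surjective g hgs
  · rw [← jacobson_tensor (hS := hS) D hmD A']
    ext z
    rw [RingHom.mem_ker, AlgHom.comp_apply, Ideal.Quotient.mkₐ_eq_mk, Ideal.Quotient.eq_zero_iff_mem]
    exact mem_jacobson_iff_of_bijective pm.toRingHom hbij z

end Groth.L06.HensCrit
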