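import Groth.Prelude.Def_EGA41
import Mathlib.RingTheory.Kaehler.Basic
import Mathlib.RingTheory.TensorProduct.Basic
import Mathlib.LinearAlgebra.TensorProduct.RightExactness

/-! Base changed maps between modules of differentials in towers of rings. -/

set_option autoImplicit false
set_option maxSynthPendingDepth 3
set_option linter.style.haveILetI false
universe u u' w

namespace Groth.L06.ImperfTower

open TensorProduct

section
variable {R : Type u} {S : Type u'} {M : Type w} [CommRing R] [CommRing S] [CommRing M] [Algebra R S] [Algebra S M]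

theorem kaehler_induction {P : M ⊗[S] Ω[S⁄R] → Prop} (h0 : P 0) (hadd : ∀ x y, P x → P y → P (x + y))
    (hD : ∀ (c : M) (b : S), P (c ⊗ₜ KaehlerDifferential.D R S b)) : ∀ z, P z := by
  intro z
  induction z using TensorProduct.induction_on with
  | zero => exact h0
  | add x y hx hy => exact hadd x y hx hy
  | tmul c w =>
    induction (KaehlerDifferential.span_range_derivation R S ▸ Submodule.mem_top :
        w ∈ Submodule.span S (Set.range (KaehlerDifferential.D R S))) using Submodule.span_induction generalizing c with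
    | mem y hy => obtain ⟨b, rfl⟩ := hy; exact hD c b
    | zero => rw [TensorProduct.tmul_zero]; exact h0
    | add a b _ _ ha hb => rw [TensorProduct.tmul_add]; exact hadd _ _ (ha c) (hb c)
    | smul r a _ ha => rw [← TensorProduct.smul_tmul]; exact ha _

end

variable {k₀ : Type u} {k : Type u'} {K M : Type w} [CommRing k₀] [CommRing k] [CommRing K] [CommRing M]
  [Algebra k₀ k] [Algebra k₀ K] [Algebra k K] [IsScalarTower k₀ k K] [Algebra K M] [Algebra k M] [IsScalarTower k K M]

/-- `M ⊗_k Ω_{k/k₀} → M ⊗_K Ω_{K/k₀}`. -/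
noncomputable def push : M ⊗[k] Ω[k⁄k₀] →ₗ[M] M ⊗[K] Ω[K⁄k₀] :=
  ((KaehlerDifferential.mapBaseChange k₀ k K).baseChange M) ∘ₗ
    (TensorProduct.AlgebraTensorModule.cancelBaseChange k K M M Ω[k⁄k₀]).symm.toLinearMap

theorem push_tmul_D (c : M) (a : k) :
    push (k₀ := k₀) (K := K) (c ⊗ₜ[k] KaehlerDifferential.D k₀ k a) =
      c ⊗ₜ[K] KaehlerDifferential.D k₀ K (algebraMap k K a) := by
  simp [push, TensorProduct.AlgebraTensorModule.cancelBaseChange_symm_tmul, KaehlerDifferential.mapBaseChange_tmul]

theorem baseChange_push : ∀ v : M ⊗[k] Ω[k⁄k₀],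
    (KaehlerDifferential.map k₀ k K K).baseChange M (push (K := K) v) = 0 :=
  kaehler_induction (by simp) (fun x y hx hy => by simp [map_add, hx, hy]) fun c a => by
    rw [push_tmul_D, LinearMap.baseChange_tmul, KaehlerDifferential.map_D, Algebra.algebraMap_self, RingHom.id_apply,
      Derivation.map_algebraMap, TensorProduct.tmul_zero]

theorem exists_push {z : M ⊗[K] Ω[K⁄k₀]} (hz : (KaehlerDifferential.map k₀ k K K).baseChange M z = 0) :
    ∃ v : M ⊗[k] Ω[k⁄k₀], push (K := K) v = z := by
  have hex := lTensor_exact M (KaehlerDifferential.exact_mapBaseChange_map k₀ k K)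
    (KaehlerDifferential.map_surjective k₀ k K)
  obtain ⟨w, hw⟩ := (hex z).mp hz
  refine ⟨TensorProduct.AlgebraTensorModule.cancelBaseChange k K M M Ω[k⁄k₀] w, ?_⟩
  rw [push, LinearMap.comp_apply, LinearEquiv.coe_toLinearMap, LinearEquiv.symm_apply_apply]
  exact hw

theorem mapBaseChange_push [Algebra k₀ M] [IsScalarTower k₀ k M] [IsScalarTower k₀ K M] : ∀ v : M ⊗[k] Ω[k⁄k₀],
    KaehlerDifferential.mapBaseChange k₀ K M (push (K := K) v) = KaehlerDifferential.mapBaseChange k₀ k M v :=
  kaehler_induction (by simp) (fun x y hx hy => by simp [map_add, hx, hy]) fun c a => by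
    rw [push_tmul_D, KaehlerDifferential.mapBaseChange_tmul, KaehlerDifferential.mapBaseChange_tmul,
      KaehlerDifferential.map_D, KaehlerDifferential.map_D, ← IsScalarTower.algebraMap_apply]

end Groth.L06.ImperfTower
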