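import Groth.Agent.L22.Cyc.FiniteDeg
import Groth.Agent.L22.Cyc.Mult
import Groth.Agent.L20.Weight.Lifts
import Groth.Agent.L23.QFDescent
import Mathlib.AlgebraicGeometry.Morphisms.QuasiFinite
import Mathlib.AlgebraicGeometry.Morphisms.Etale
import Mathlib.FieldTheory.PurelyInseparable.Tower
import Mathlib.RingTheory.Unramified.LocalRing

/-!
# Multiplicity times inseparable degree is a weighting
-/

set_option autoImplicit false
set_option maxSynthPendingDepth 3
set_option linter.style.haveILetI false
set_option backward.isDefEq.respectTransparency.types false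

universe u

open CategoryTheory CategoryTheory.Limits AlgebraicGeometry

noncomputable section

namespace Groth.L06.InsepWeight

open Groth.L22.Cyc (mult fibIdeal)

variable {X Y Z : Scheme.{u}}

/-- The separable degree of a residue field extension. -/
def sepDeg (f : X ⟶ Y) (x : X) : ℕ :=
  letI := (f.residueFieldMap x).hom.toAlgebra
  Field.finSepDegree (Y.residueField (f x)) (X.residueField x)

/-- The inseparable degree of a residue field extension. -/
def insDeg (f : X ⟶ Y) (x : X) : ℕ :=
  letI := (f.residueFieldMap x).hom.toAlgebra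
  Field.finInsepDegree (Y.residueField (f x)) (X.residueField x)

theorem residueDegree_eq (f : X ⟶ Y) [LocallyQuasiFinite f] (x : X) :
    f.residueDegree x = sepDeg f x * insDeg f x := by
  letI := (f.residueFieldMap x).hom.toAlgebra
  haveI : Module.Finite (Y.residueField (f x)) (X.residueField x) :=
    RingHom.finite_algebraMap.mp (Groth.L20.Weight.finite_residueFieldMap f x)
  exact (Field.finSepDegree_mul_finInsepDegree (Y.residueField (f x)) (X.residueField x)).symm

theorem insDeg_congr (f : X ⟶ Y) {f' : X ⟶ Y} (h : f = f') (x : X) : insDeg f x = insDeg f' x := by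
  subst h; rfl

theorem insDeg_comp (f : X ⟶ Y) (g : Y ⟶ Z) [LocallyQuasiFinite g] (x : X) :
    insDeg (f ≫ g) x = insDeg g (f x) * insDeg f x := by
  letI := (f.residueFieldMap x).hom.toAlgebra
  letI : Algebra (Z.residueField (g (f x))) (Y.residueField (f x)) :=
    (g.residueFieldMap (f x)).hom.toAlgebra
  letI : Algebra (Z.residueField (g (f x))) (X.residueField x) :=
    ((f ≫ g).residueFieldMap x).hom.toAlgebra
  haveI : IsScalarTower (Z.residueField (g (f x))) (Y.residueField (f x)) (X.residueField x) :=
    IsScalarTower.of_algebraMap_eq fun a =>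
      congrArg (fun φ => φ.hom a) (Scheme.residueFieldMap_comp f g x)
  haveI : Module.Finite (Z.residueField (g (f x))) (Y.residueField (f x)) :=
    RingHom.finite_algebraMap.mp (Groth.L20.Weight.finite_residueFieldMap g (f x))
  exact (Field.finInsepDegree_mul_finInsepDegree_of_isAlgebraic
    (Z.residueField (g (f x))) (Y.residueField (f x)) (X.residueField x)).symm

theorem insDeg_eq_one (f : X ⟶ Y) [Etale f] (x : X) : insDeg f x = 1 := by
  letI := (f.residueFieldMap x).hom.toAlgebra
  exact Algebra.IsSeparable.finInsepDegree_eq (Y.residueField (f x)) (X.residueField x)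

theorem mult_eq_one (f : X ⟶ Y) [Etale f] (x : X) : mult f x = 1 := by
  algebraize [(f.stalkMap x).hom]
  haveI : IsLocalHom (algebraMap (Y.presheaf.stalk (f x)) (X.presheaf.stalk x)) :=
    inferInstanceAs <| IsLocalHom (f.stalkMap x).hom
  haveI : Algebra.EssFiniteType (Y.presheaf.stalk (f x)) (X.presheaf.stalk x) := by
    rw [← RingHom.essFiniteType_algebraMap, RingHom.algebraMap_toAlgebra]
    exact LocallyOfFiniteType.stalkMap f x
  haveI : Algebra.FormallyUnramified (Y.presheaf.stalk (f x)) (X.presheaf.stalk x) :=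
    FormallyUnramified.stalkMap f x
  have h : fibIdeal f x = IsLocalRing.maximalIdeal (X.presheaf.stalk x) :=
    Algebra.FormallyUnramified.map_maximalIdeal
  haveI : IsSimpleModule (X.presheaf.stalk x)
      (X.presheaf.stalk x ⧸ IsLocalRing.maximalIdeal (X.presheaf.stalk x)) :=
    isSimpleModule_iff_isCoatom.mpr (IsLocalRing.maximalIdeal.isMaximal _).out
  rw [mult, h]
  exact Module.length_eq_one _ _

theorem isArtinianRing_stalk [IsLocallyArtinian X] (x : X) : IsArtinianRing (X.presheaf.stalk x) := by
  obtain ⟨U, hU, hxU, -⟩ := exists_isAffineOpen_mem_and_subset (U := (⊤ : X.Opens)) (x := x) trivial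
  haveI : IsArtinianRing Γ(X, U) := IsLocallyArtinian.isArtinianRing_presheaf_obj ⟨U, hU⟩
  letI := TopCat.Presheaf.algebra_section_stalk X.presheaf (⟨x, hxU⟩ : U)
  haveI := hU.isLocalization_stalk ⟨x, hxU⟩
  exact (IsArtinianRing.localization_surjective (hU.primeIdealOf ⟨x, hxU⟩).asIdeal.primeCompl
    (X.presheaf.stalk x)).isArtinianRing

theorem mult_ne_top (f : X ⟶ Y) [LocallyQuasiFinite f] (x : X) : mult f x ≠ ⊤ := by
  obtain ⟨z, hz⟩ : x ∈ Set.range (f.fiberι (f x)) := by rw [Scheme.Hom.range_fiberι]; rfl
  haveI := isArtinianRing_stalk z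
  obtain ⟨hs, hk⟩ := Groth.L18.stalkMap_fiberι f (f x) z
  have h : Module.length ((f.fiber (f x)).presheaf.stalk z) ((f.fiber (f x)).presheaf.stalk z) =
      mult f (f.fiberι (f x) z) := by
    rw [← Groth.L22.Cyc.length_self_of_ringEquiv (RingHom.quotientKerEquivOfSurjective hs),
      ← Module.length_eq_of_surjective (S := X.presheaf.stalk (f.fiberι (f x) z))
        (R := X.presheaf.stalk (f.fiberι (f x) z) ⧸ _) (M := X.presheaf.stalk (f.fiberι (f x) z) ⧸ _)
        Ideal.Quotient.mk_surjective, hk]
    rfl
  rw [← hz, ← h]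
  exact Module.length_ne_top

variable (f : X ⟶ Y)

/-- Multiplicity in the fibre times inseparable degree. -/
def wt (x : X) : ℤ := ((mult f x).toNat : ℤ) * (insDeg f x : ℤ)

theorem wt_pos [LocallyQuasiFinite f] (x : X) : 0 < wt f x := by
  have h1 : 0 < (mult f x).toNat := by
    obtain ⟨m, hm⟩ := ENat.ne_top_iff_exists.mp (mult_ne_top f x)
    have h := Groth.L22.Cyc.one_le_mult f x
    rw [← hm] at h ⊢
    rw [ENat.toNat_natCast]
    exact_mod_cast h
  have h2 : 0 < insDeg f x := by
    letI := (f.residueFieldMap x).hom.toAlgebra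
    haveI : Module.Finite (Y.residueField (f x)) (X.residueField x) :=
      RingHom.finite_algebraMap.mp (Groth.L20.Weight.finite_residueFieldMap f x)
    exact Module.finrank_pos
  exact mul_pos (by exact_mod_cast h1) (by exact_mod_cast h2)

theorem isWeighting [LocallyQuasiFinite f] [Flat f] [LocallyOfFinitePresentation f] :
    MoreMor.IsWeighting f (wt f) := by
  intro V g hg U hU
  haveI := hU
  let π := U.ι ≫ pullback.snd f g
  let h := U.ι ≫ pullback.fst f g
  haveI : Etale h := inferInstanceAs (Etale (U.ι ≫ pullback.fst f g))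
  haveI : Flat π := inferInstanceAs (Flat (U.ι ≫ pullback.snd f g))
  haveI : LocallyOfFinitePresentation π :=
    inferInstanceAs (LocallyOfFinitePresentation (U.ι ≫ pullback.snd f g))
  have w : h ≫ f = π ≫ g := by simp only [h, π, Category.assoc, pullback.condition]
  have key : ∀ u : U.toScheme,
      π.residueDegree u * (mult π u).toNat = (mult f (h u)).toNat * insDeg f (h u) * sepDeg π u := by
    intro u
    have h1 := Groth.L22.Cyc.mult_congr _ w u
    rw [Groth.L22.Cyc.mult_comp h f, Groth.L22.Cyc.mult_comp π g, mult_eq_one h, mult_eq_one g, one_mul, mul_one] at h1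
    have h2 := insDeg_congr _ w u
    rw [insDeg_comp h f, insDeg_comp π g, insDeg_eq_one h, insDeg_eq_one g, one_mul, mul_one] at h2
    rw [residueDegree_eq, ← h1, ← h2]
    ring
  have heq : MoreMor.fibreIntegral π (fun u => wt f (pullback.fst f g (U.ι u))) =
      fun v => ((π.finrank v : ℕ) : ℤ) := by
    funext v
    rw [Groth.L22.Cyc.finrank_eq_sum π v, MoreMor.fibreIntegral]
    haveI : Finite {u : U.toScheme // π u = v} := (π.finite_preimage_singleton v).to_subtype
    rw [← finsum_set_coe_eq_finsum_mem (π ⁻¹' {v})]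
    show _ = ((∑ᶠ u : {u : U.toScheme // π u = v}, π.residueDegree u.1 * (mult π u.1).toNat : ℕ) : ℤ)
    letI := Fintype.ofFinite {u : U.toScheme // π u = v}
    rw [finsum_eq_sum_of_fintype, finsum_eq_sum_of_fintype, Nat.cast_sum]
    refine Finset.sum_congr rfl fun u _ => ?_
    rw [key u.1]
    simp only [wt, sepDeg, Nat.cast_mul]
    rfl
  rw [heq]
  exact π.isLocallyConstant_finrank.comp (fun n : ℕ => (n : ℤ))

end Groth.L06.InsepWeight
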