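import Groth.Agent.L06.ModuleModel
import Groth.Agent.L16.CohKernel
import Mathlib.RingTheory.LocalRing.Module
import Mathlib.RingTheory.IsTensorProduct

/-!
# Kernels of surjections onto finitely presented modules that are flat over the base
-/

set_option autoImplicit false
set_option maxSynthPendingDepth 3
set_option linter.style.haveILetI false
set_option backward.isDefEq.respectTransparency.types false
set_option backward.isDefEq.respectTransparency false

universe u

open CategoryTheory CategoryTheory.Limits AlgebraicGeometry TensorProduct TopologicalSpace Opposite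

noncomputable section

namespace Groth.L06.KernelFP

/-- Tensoring a short exact sequence with flat quotient stays injective on the left. -/
theorem lTensor_ker_injective {R : Type u} [CommRing R] (A : Type u) [AddCommGroup A] [Module R A]
    {F M : Type u} [AddCommGroup F] [Module R F] [AddCommGroup M] [Module R M] [Module.Flat R M]
    (g : F →ₗ[R] M) (hg : Function.Surjective g) :
    Function.Injective ((LinearMap.ker g).subtype.lTensor A) := by
  classical
  let f : (A →₀ R) →ₗ[R] A := Finsupp.linearCombination R id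
  have hf : Function.Surjective f := Finsupp.linearCombination_id_surjective R A
  exact lTensor_injective_of_exact_of_exact_of_rTensor_injective f.exact_subtype_ker_map hf
    g.exact_subtype_ker_map hg (Module.Flat.rTensor_preserves_injective_linearMap _ Subtype.val_injective)
    (Module.Flat.lTensor_preserves_injective_linearMap _ Subtype.val_injective)

/-- Finite presentation of the kernel does not depend on the chosen free cover. -/
theorem fp_ker_of_fp_ker {R : Type u} [CommRing R] {P P' N : Type u} [AddCommGroup P] [Module R P]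
    [Module.Free R P] [Module.Finite R P] [AddCommGroup P'] [Module R P'] [Module.Free R P'] [Module.Finite R P']
    [AddCommGroup N] [Module R N] (π : P →ₗ[R] N) (hπ : Function.Surjective π) (π' : P' →ₗ[R] N)
    (hπ' : Function.Surjective π') [Module.FinitePresentation R (LinearMap.ker π')] :
    Module.FinitePresentation R (LinearMap.ker π) := by
  haveI : Module.FinitePresentation R P := Module.finitePresentation_of_projective R P
  obtain ⟨t, ht⟩ := Module.projective_lifting_property π' π hπ'
  obtain ⟨s, hs⟩ := Module.projective_lifting_property π π' hπ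
  have ht' : ∀ a, π' (t a) = π a := fun a => LinearMap.congr_fun ht a
  have hs' : ∀ b, π (s b) = π' b := fun b => LinearMap.congr_fun hs b
  let Q : Submodule R (P × P') := LinearMap.ker (π ∘ₗ LinearMap.fst R P P' - π' ∘ₗ LinearMap.snd R P P')
  have hQ : ∀ x : P × P', x ∈ Q ↔ π x.1 = π' x.2 := fun x => by
    simp [Q, LinearMap.mem_ker, sub_eq_zero]
  let p : Q →ₗ[R] P := LinearMap.fst R P P' ∘ₗ Q.subtype
  have hp : Function.Surjective p := fun a => ⟨⟨(a, t a), (hQ _).2 (ht' a).symm⟩, rfl⟩
  let j : LinearMap.ker π' ≃ₗ[R] LinearMap.ker p :=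
    { toFun := fun b => ⟨⟨((0 : P), (b : P')), (hQ _).2 (by rw [map_zero, LinearMap.mem_ker.1 b.2])⟩, rfl⟩
      invFun := fun x => ⟨(x.1 : P × P').2, LinearMap.mem_ker.2 (by
        have h1 : (x.1 : P × P').1 = 0 := x.2
        have h2 := (hQ _).1 x.1.2
        rw [h1, map_zero] at h2
        exact h2.symm)⟩
      left_inv := fun b => rfl
      right_inv := fun x => Subtype.ext (Subtype.ext (Prod.ext (show (0 : P) = _ from x.2.symm) rfl))
      map_add' := fun a b => Subtype.ext (Subtype.ext (Prod.ext (add_zero (0 : P)).symm rfl))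
      map_smul' := fun r a => Subtype.ext (Subtype.ext (Prod.ext (smul_zero r).symm rfl)) }
  haveI : Module.FinitePresentation R (LinearMap.ker p) := Module.FinitePresentation.of_equiv j
  haveI : Module.FinitePresentation R Q := Module.finitePresentation_of_ker p hp
  let q : Q →ₗ[R] LinearMap.ker π := LinearMap.codRestrict _ (p - s ∘ₗ LinearMap.snd R P P' ∘ₗ Q.subtype)
    fun x => LinearMap.mem_ker.2 (by
      show π ((x : P × P').1 - s (x : P × P').2) = 0
      rw [map_sub, hs', (hQ _).1 x.2, sub_self])
  have hq : Function.Surjective q := fun a => ⟨⟨((a : P), (0 : P')), (hQ _).2 (by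
    rw [map_zero]; exact a.2)⟩, Subtype.ext (show (a : P) - s 0 = a by rw [map_zero, sub_zero])⟩
  let i : P' →ₗ[R] Q := LinearMap.codRestrict Q (s.prod LinearMap.id) fun b => (hQ _).2 (hs' b)
  have hker : LinearMap.ker q = LinearMap.range i := by
    ext x
    constructor
    · intro hx
      refine ⟨(x : P × P').2, Subtype.ext (Prod.ext ?_ rfl)⟩
      have : (x : P × P').1 - s (x : P × P').2 = 0 := congrArg Subtype.val (LinearMap.mem_ker.1 hx)
      exact (sub_eq_zero.1 this).symm
    · rintro ⟨b, rfl⟩
      exact LinearMap.mem_ker.2 (Subtype.ext (sub_self (s b)))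
  exact Module.finitePresentation_of_surjective q hq (hker ▸ Module.Finite.iff_fg.1 inferInstance)

/-- The kernel of a free cover of a finitely presented module that is flat over the base. -/
theorem fp_ker_free (A B : Type u) [CommRing A] [CommRing B] [Algebra A B] [Algebra.FinitePresentation A B]
    {N : Type u} [AddCommGroup N] [Module B N] [Module A N] [IsScalarTower A B N]
    [Module.FinitePresentation B N] [Module.Flat A N] {P : Type u} [AddCommGroup P] [Module B P]
    [Module.Free B P] [Module.Finite B P] (π : P →ₗ[B] N) (hπ : Function.Surjective π) :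
    Module.FinitePresentation B (LinearMap.ker π) := by
  classical
  obtain ⟨A₁, B₁, _, _, e, M₁, _, _, hA₁, hB₁, hM₁, hfl, hM⟩ :=
    Groth.L06.ModuleModel.exists_flat_module_model A B N
  letI algB : Algebra B₁ B := (e.toRingEquiv.toRingHom.comp
    (Algebra.TensorProduct.includeRight : B₁ →ₐ[A₁] A ⊗[A₁] B₁).toRingHom).toAlgebra
  obtain ⟨eM⟩ := hM
  haveI := hB₁
  haveI := hM₁
  haveI : IsScalarTower A₁ A B := IsScalarTower.of_algebraMap_eq fun _ => rfl
  haveI : IsScalarTower A₁ B₁ B := IsScalarTower.of_algebraMap_eq fun a => by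
    show algebraMap A B (algebraMap A₁ A a) = e ((1 : A) ⊗ₜ algebraMap A₁ B₁ a)
    rw [← e.commutes, Algebra.TensorProduct.algebraMap_apply]
    congr 1
    rw [Algebra.algebraMap_eq_smul_one (R := A₁) (A := B₁), TensorProduct.tmul_smul, TensorProduct.smul_tmul',
      Algebra.smul_def, mul_one]
    rfl
  haveI : Algebra.IsPushout A₁ A B₁ B := by
    letI : Algebra B₁ (A ⊗[A₁] B₁) := Algebra.TensorProduct.rightAlgebra
    refine Algebra.IsPushout.symm (Algebra.IsPushout.of_equiv (R := A₁) (R' := B₁) (S := A) (S' := A ⊗[A₁] B₁)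
      ({ e.toRingEquiv with commutes' := fun _ => rfl } : A ⊗[A₁] B₁ ≃ₐ[B₁] B) ?_)
    ext a
    exact e.commutes a
  letI : Module A₁ M₁ := Module.compHom M₁ (algebraMap A₁ B₁)
  haveI : IsScalarTower A₁ B₁ M₁ := IsScalarTower.of_algebraMap_smul fun _ _ => rfl
  haveI : Module.Flat A₁ M₁ := hfl
  haveI : IsNoetherianRing A₁ := by
    haveI : Algebra.FiniteType ℤ A₁ := A₁.fg_iff_finiteType.mp hA₁
    exact Algebra.FiniteType.isNoetherianRing ℤ A₁
  haveI : IsNoetherianRing B₁ := Algebra.FiniteType.isNoetherianRing A₁ B₁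
  obtain ⟨n, π₁, hπ₁⟩ := Module.Finite.exists_fin' B₁ M₁
  haveI : Module.FinitePresentation B₁ (LinearMap.ker π₁) := Module.finitePresentation_of_finite B₁ _
  let i : LinearMap.ker π₁ →ₗ[B₁] (Fin n → B₁) := (LinearMap.ker π₁).subtype
  have hinjA : Function.Injective ((i.restrictScalars A₁).lTensor A) := by
    exact lTensor_ker_injective A (π₁.restrictScalars A₁) hπ₁
  have hinj : Function.Injective (i.baseChange B) := by
    let cK := Algebra.IsPushout.cancelBaseChange A₁ A B₁ B (LinearMap.ker π₁)
    let cF := Algebra.IsPushout.cancelBaseChange A₁ A B₁ B (Fin n → B₁)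
    have hcomm : ∀ x, i.baseChange B (cK.symm x) = cF.symm ((i.restrictScalars A₁).lTensor A x) := by
      intro x
      induction x using TensorProduct.induction_on with
      | zero => simp
      | tmul a m => simp [cK, cF]
      | add x y hx hy => simp only [map_add, hx, hy]
    intro y z hyz
    obtain ⟨x, rfl⟩ := cK.symm.surjective y
    obtain ⟨x', rfl⟩ := cK.symm.surjective z
    rw [hcomm, hcomm] at hyz
    rw [hinjA (cF.symm.injective hyz)]
  have hex : Function.Exact (i.baseChange B) (π₁.baseChange B) :=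
    lTensor_exact B π₁.exact_subtype_ker_map hπ₁
  let π' : (B ⊗[B₁] (Fin n → B₁)) →ₗ[B] N := eM.symm.toLinearMap ∘ₗ π₁.baseChange B
  have hker : LinearMap.range (i.baseChange B) = LinearMap.ker π' := by
    rw [LinearEquiv.ker_comp, hex.linearMap_ker_eq]
  haveI : Module.FinitePresentation B (LinearMap.ker π') :=
    Module.FinitePresentation.of_equiv
      ((LinearEquiv.ofInjective (i.baseChange B) hinj).trans (LinearEquiv.ofEq _ _ hker))
  exact fp_ker_of_fp_ker π hπ π' (eM.symm.surjective.comp (LinearMap.lTensor_surjective B hπ₁))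

/-- The kernel of a surjection of finitely presented modules whose target is flat over the base. -/
theorem fp_ker (A B : Type u) [CommRing A] [CommRing B] [Algebra A B] [Algebra.FinitePresentation A B]
    {M N : Type u} [AddCommGroup M] [Module B M] [AddCommGroup N] [Module B N] [Module A N] [IsScalarTower A B N]
    [Module.FinitePresentation B M] [Module.FinitePresentation B N] [Module.Flat A N] (p : M →ₗ[B] N)
    (hp : Function.Surjective p) : Module.FinitePresentation B (LinearMap.ker p) := by
  obtain ⟨n, c, hc⟩ := Module.Finite.exists_fin' B M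
  haveI := fp_ker_free A B (p ∘ₗ c) (hp.comp hc)
  let r : LinearMap.ker (p ∘ₗ c) →ₗ[B] LinearMap.ker p :=
    c.restrict fun x hx => LinearMap.mem_ker.2 (LinearMap.mem_ker.1 hx)
  have hr : Function.Surjective r := fun y => by
    obtain ⟨x, hx⟩ := hc y
    exact ⟨⟨x, LinearMap.mem_ker.2 (by show p (c x) = 0; rw [hx]; exact y.2)⟩, Subtype.ext hx⟩
  refine Module.finitePresentation_of_surjective r hr ?_
  have h1 := Module.FinitePresentation.fg_ker c hc
  refine Submodule.fg_of_fg_map_injective (LinearMap.ker (p ∘ₗ c)).subtype Subtype.val_injective ?_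
  suffices heq : (LinearMap.ker r).map (LinearMap.ker (p ∘ₗ c)).subtype = LinearMap.ker c by rw [heq]; exact h1
  ext x
  constructor
  · rintro ⟨⟨y, hy⟩, hy', rfl⟩
    exact LinearMap.mem_ker.2 (congrArg Subtype.val (LinearMap.mem_ker.1 hy'))
  · intro hx
    exact ⟨⟨x, LinearMap.mem_ker.2 (by show p (c x) = 0; rw [LinearMap.mem_ker.1 hx, map_zero])⟩,
      LinearMap.mem_ker.2 (Subtype.ext (LinearMap.mem_ker.1 hx)), rfl⟩

variable {X Y : Scheme.{u}}

/-- The kernel of an epimorphism of finitely presented modules with flat target is finitely presented. -/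
theorem isFP_kernel (f : X ⟶ Y) [LocallyOfFinitePresentation f]
    (G H : X.Modules) [Coh.IsQCoh G] [Coh.IsQCoh H] (hG : CohB1.IsFP G) (hH : CohB1.IsFP H)
    (hflat : FlatMod.IsFlatOver f H) (p : G ⟶ H) [Epi p] : CohB1.IsFP (kernel p) := by
  refine Groth.L19.isFP_of_tilde_charts _ fun x => ?_
  obtain ⟨_, ⟨V, hV, rfl⟩, hxV, -⟩ :=
    Y.isBasis_affineOpens.exists_subset_of_mem_open (Set.mem_univ (f x)) isOpen_univ
  obtain ⟨_, ⟨U, hU, rfl⟩, hxU, hUV⟩ :=
    X.isBasis_affineOpens.exists_subset_of_mem_open (show x ∈ f ⁻¹ᵁ V from hxV) (f ⁻¹ᵁ V).2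
  obtain ⟨NG, ⟨eG⟩, ⟨uG⟩⟩ := Groth.L06.RelFPModules.exists_tilde_equiv G hU
  obtain ⟨NH, ⟨eH⟩, ⟨uH⟩⟩ := Groth.L06.RelFPModules.exists_tilde_equiv H hU
  haveI := Groth.L20.ModStalk.finitePresentation_sections G hG hU
  haveI := Groth.L20.ModStalk.finitePresentation_sections H hH hU
  haveI : Module.FinitePresentation Γ(X, U) NG := Module.FinitePresentation.of_equiv uG.symm
  haveI : Module.FinitePresentation Γ(X, U) NH := Module.FinitePresentation.of_equiv uH.symm
  let j := hU.fromSpec
  obtain ⟨l, hl⟩ := (tilde.functor Γ(X, U)).map_surjective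
    (eG.inv ≫ (Scheme.Modules.restrictFunctor j).map p ≫ eH.hom)
  haveI : Epi ((tilde.functor Γ(X, U)).map l) := by rw [hl]; infer_instance
  haveI : Epi l := (tilde.functor Γ(X, U)).epi_of_epi_map inferInstance
  refine ⟨_, j, inferInstance, kernel l, hU.opensRange_fromSpec.ge hxU, ?_, ⟨?_⟩⟩
  · letI := (f.appLE V U hUV).hom.toAlgebra
    haveI : Algebra.FinitePresentation Γ(Y, V) Γ(X, U) :=
      RingHom.finitePresentation_algebraMap.1 (f.finitePresentation_appLE hV hU hUV)
    letI : Module Γ(Y, V) Γ(H, U) := Module.compHom _ (f.appLE V U hUV).hom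
    haveI : IsScalarTower Γ(Y, V) Γ(X, U) Γ(H, U) := IsScalarTower.of_algebraMap_smul fun _ _ => rfl
    haveI : Module.Flat Γ(Y, V) Γ(H, U) :=
      Groth.L06.QuasiFlatOpen.flat_sections f H ⟨inferInstance, Groth.L19.LimMod.isFT_of_isFP hH⟩ hflat hV hU hUV
    letI : Module Γ(Y, V) NH := Module.compHom _ (f.appLE V U hUV).hom
    haveI : IsScalarTower Γ(Y, V) Γ(X, U) NH := IsScalarTower.of_algebraMap_smul fun _ _ => rfl
    haveI : Module.Flat Γ(Y, V) NH := Module.Flat.of_linearEquiv
      ({ uH.toAddEquiv with map_smul' := fun a y => uH.map_smul ((f.appLE V U hUV).hom a) y } :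
        NH ≃ₗ[Γ(Y, V)] Γ(H, U))
    haveI : Module.FinitePresentation Γ(X, U) (LinearMap.ker l.hom) :=
      fp_ker Γ(Y, V) Γ(X, U) l.hom ((ModuleCat.epi_iff_surjective l).1 inferInstance)
    exact Module.FinitePresentation.of_equiv (ModuleCat.kernelIsoKer l).toLinearEquiv.symm
  · exact PreservesKernel.iso (Scheme.Modules.restrictFunctor j) p ≪≫
      kernel.mapIso _ ((tilde.functor _).map l) eG eH (by rw [hl]; simp) ≪≫
      (PreservesKernel.iso (tilde.functor _) l).symm

end Groth.L06.KernelFP
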