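import Groth.Prelude.Def_W4c4lgringredgrpLG
import Mathlib.RingTheory.Spectrum.Prime.Topology
import Mathlib.LinearAlgebra.SymmetricAlgebra.Basic
import Mathlib.Algebra.MvPolynomial.Funext
import Mathlib.RingTheory.Finiteness.Basic
import Mathlib.Algebra.Module.Projective
import Mathlib.AlgebraicGeometry.Scheme
import Mathlib.LinearAlgebra.Dual.Lemmas

/-!
Points of open subsets of vector bundles over LG rings.
-/

set_option autoImplicit false
set_option maxSynthPendingDepth 3
set_option linter.style.haveILetI false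
set_option backward.isDefEq.respectTransparency.types false
universe u

open AlgebraicGeometry

namespace Groth.L06.LGPoints

variable {R : Type u} [CommRing R]

theorem exists_finset {A : Type u} [CommRing A] (U : (Spec (CommRingCat.of A)).Opens)
    (hU : IsCompact (U : Set ↥(Spec (CommRingCat.of A)))) :
    ∃ s : Finset A, ∀ P : PrimeSpectrum A, P ∈ (U : Set ↥(Spec (CommRingCat.of A))) ↔ ∃ f ∈ s, f ∉ P.asIdeal := by
  obtain ⟨s, hs⟩ := (PrimeSpectrum.isCompact_isOpen_iff (R := A)).mp ⟨hU, U.2⟩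
  refine ⟨s, fun P => (Set.ext_iff.mp hs P).symm.trans ?_⟩
  show ¬ ((s : Set A) ⊆ P.asIdeal) ↔ _
  exact Set.not_subset

theorem range_subset_iff {A B : Type u} [CommRing A] [CommRing B] (φ : A →+* B) (s : Finset A)
    (U : (Spec (CommRingCat.of A)).Opens)
    (hs : ∀ P : PrimeSpectrum A, P ∈ (U : Set ↥(Spec (CommRingCat.of A))) ↔ ∃ f ∈ s, f ∉ P.asIdeal) :
    Set.range (Spec.map (CommRingCat.ofHom φ)).base ⊆ (U : Set ↥(Spec (CommRingCat.of A))) ↔
      Ideal.span (φ '' (s : Set A)) = ⊤ := by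
  constructor
  · intro h
    by_contra hne
    obtain ⟨m, hm, hle⟩ := Ideal.exists_le_maximal _ hne
    obtain ⟨f, hf, hfm⟩ := (hs (PrimeSpectrum.comap φ ⟨m, hm.isPrime⟩)).1 (h ⟨⟨m, hm.isPrime⟩, rfl⟩)
    exact hfm (hle (Ideal.subset_span ⟨f, hf, rfl⟩))
  · rintro h _ ⟨P, rfl⟩
    refine (hs (PrimeSpectrum.comap φ P)).2 ?_
    by_contra hall
    push Not at hall
    refine P.isPrime.ne_top (top_le_iff.mp (h ▸ Ideal.span_le.2 ?_))
    rintro _ ⟨f, hf, rfl⟩
    exact hall f hf

/-- Several polynomials without a common zero on the closed points. -/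
theorem exists_span_eq_top (hR : LGRing.IsLGRing R) {n : ℕ} (s : Finset (MvPolynomial (Fin n) R))
    (h : ∀ (m : Ideal R) [m.IsMaximal], ∃ x : Fin n → R ⧸ m, ∃ f ∈ s,
      MvPolynomial.eval₂Hom (Ideal.Quotient.mk m) x f ≠ 0) :
    ∃ x : Fin n → R, Ideal.span (MvPolynomial.eval x '' (s : Set (MvPolynomial (Fin n) R))) = ⊤ := by
  classical
  let F : Fin s.card → MvPolynomial (Fin n) R := fun i => (s.equivFin.symm i : MvPolynomial (Fin n) R)
  let G : MvPolynomial (Fin (n + s.card)) R :=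
    ∑ i, MvPolynomial.rename (Fin.castAdd s.card) (F i) * MvPolynomial.X (Fin.natAdd n i)
  have hG : ∀ (S : Type u) [CommRing S] [Algebra R S] (z : Fin (n + s.card) → S),
      MvPolynomial.aeval z G = ∑ i, MvPolynomial.aeval (z ∘ Fin.castAdd s.card) (F i) * z (Fin.natAdd n i) := by
    intro S _ _ z
    simp [G, MvPolynomial.aeval_rename]
  obtain ⟨z, hz⟩ := hR (n + s.card) G fun m _ => by
    obtain ⟨x, f, hf, hfx⟩ := h m
    refine ⟨Fin.append x fun i => if i = s.equivFin ⟨f, hf⟩ then 1 else 0, ?_⟩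
    letI := Ideal.Quotient.field m
    rw [hG, Finset.sum_eq_single (s.equivFin ⟨f, hf⟩)
      (fun i _ hi => by rw [Fin.append_right, if_neg hi, mul_zero])
      (fun h => absurd (Finset.mem_univ _) h), Fin.append_right, if_pos rfl, mul_one]
    have : (Fin.append x fun i => if i = s.equivFin ⟨f, hf⟩ then (1 : R ⧸ m) else 0) ∘ Fin.castAdd s.card = x := by
      funext j; simp
    rw [this, show F (s.equivFin ⟨f, hf⟩) = f by simp [F]]
    exact isUnit_iff_ne_zero.mpr hfx
  refine ⟨z ∘ Fin.castAdd s.card, ?_⟩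
  rw [hG] at hz
  refine Ideal.eq_top_of_isUnit_mem _ ?_ hz
  exact sum_mem fun i _ =>
    Ideal.mul_mem_right _ _ (Ideal.subset_span ⟨F i, (s.equivFin.symm i).2, rfl⟩)

theorem exists_ne_zero {S K : Type u} [CommRing S] [Field K] {φ : S →+* K} (s : Finset S)
    (h : Ideal.span (φ '' (s : Set S)) = ⊤) : ∃ f ∈ s, φ f ≠ 0 := by
  by_contra hall
  push Not at hall
  refine (Ideal.span (φ '' (s : Set S))).ne_top_iff_one.mpr ?_ h
  have : Ideal.span (φ '' (s : Set S)) = ⊥ := Ideal.span_eq_bot.mpr (by rintro _ ⟨f, hf, rfl⟩; exact hall f hf)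
  rw [this]
  exact one_ne_zero

theorem exists_point_affineSpace (hR : LGRing.IsLGRing R)
    (n : ℕ) (U : (Spec (CommRingCat.of (MvPolynomial (Fin n) R))).Opens)
    (hU : IsCompact (U : Set ↥(Spec (CommRingCat.of (MvPolynomial (Fin n) R)))))
    (h : ∀ (m : Ideal R) [m.IsMaximal], ∃ x : Fin n → R ⧸ m,
      Set.range (Spec.map (CommRingCat.ofHom (MvPolynomial.eval₂Hom (Ideal.Quotient.mk m) x))).base ⊆
        (U : Set ↥(Spec (CommRingCat.of (MvPolynomial (Fin n) R))))) :
    ∃ x : Fin n → R, Set.range (Spec.map (CommRingCat.ofHom (MvPolynomial.eval x))).base ⊆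
      (U : Set ↥(Spec (CommRingCat.of (MvPolynomial (Fin n) R)))) := by
  obtain ⟨s, hs⟩ := exists_finset U hU
  obtain ⟨x, hx⟩ := exists_span_eq_top hR s fun m _ => by
    obtain ⟨x, hx⟩ := h m
    letI := Ideal.Quotient.field m
    exact ⟨x, exists_ne_zero s ((range_subset_iff _ s U hs).1 hx)⟩
  exact ⟨x, (range_subset_iff _ s U hs).2 hx⟩

section Bundle

variable (M : Type u) [AddCommGroup M] [Module R M] [Module.Finite R M] [Module.Projective R M]

/-- Coordinates on a vector bundle. -/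
theorem exists_coords :
    ∃ (n : ℕ) (ι : SymmetricAlgebra R (Module.Dual R M) →ₐ[R] MvPolynomial (Fin n) R)
      (π : MvPolynomial (Fin n) R →ₐ[R] SymmetricAlgebra R (Module.Dual R M)),
      π.comp ι = AlgHom.id R _ ∧
      (∀ (A : Type u) [CommRing A] [Algebra R A] (x : Fin n → A), ∃ φ : Module.Dual R M →ₗ[R] A,
        SymmetricAlgebra.lift φ = (MvPolynomial.aeval x).comp ι) := by
  obtain ⟨n, p, hp⟩ := Module.Finite.exists_fin' R (Module.Dual R M)
  obtain ⟨σ, hσ⟩ := Module.projective_lifting_property p LinearMap.id hp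
  let L : (Fin n → R) →ₗ[R] MvPolynomial (Fin n) R := ∑ j, (LinearMap.proj j).smulRight (MvPolynomial.X j)
  let π : MvPolynomial (Fin n) R →ₐ[R] SymmetricAlgebra R (Module.Dual R M) :=
    MvPolynomial.aeval fun j => SymmetricAlgebra.ι R _ (p (Pi.single j 1))
  refine ⟨n, SymmetricAlgebra.lift (L ∘ₗ σ), π, SymmetricAlgebra.algHom_ext (LinearMap.ext fun a => ?_),
    fun A _ _ x => ⟨(MvPolynomial.aeval x).toLinearMap ∘ₗ (L ∘ₗ σ),
      SymmetricAlgebra.algHom_ext (LinearMap.ext fun a => by simp)⟩⟩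
  have hL : ∀ v : Fin n → R, π (L v) = SymmetricAlgebra.ι R _ (p v) := by
    intro v
    conv_rhs => rw [pi_eq_sum_univ' v]
    simp [L, π, map_sum, map_smul]
  simpa [hL] using congrArg (SymmetricAlgebra.ι R (Module.Dual R M)) (LinearMap.congr_fun hσ a)

/-- Points on the closed fibres give a point. -/
theorem exists_point_bundle (hR : LGRing.IsLGRing R)
    (s : Finset (SymmetricAlgebra R (Module.Dual R M)))
    (h : ∀ (m : Ideal R) [m.IsMaximal], ∃ φ : Module.Dual R M →ₗ[R] (R ⧸ m),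
      ∃ f ∈ s, SymmetricAlgebra.lift φ f ≠ 0) :
    ∃ φ : Module.Dual R M →ₗ[R] R,
      Ideal.span ((SymmetricAlgebra.lift φ).toRingHom '' (s : Set (SymmetricAlgebra R (Module.Dual R M)))) = ⊤ := by
  classical
  obtain ⟨n, ι, π, hπ, hφ⟩ := exists_coords (R := R) M
  obtain ⟨x, hx⟩ := exists_span_eq_top hR (s.image ι) fun m _ => by
    obtain ⟨φ, f, hf, hfne⟩ := h m
    refine ⟨fun j => SymmetricAlgebra.lift φ (π (MvPolynomial.X j)), ι f, Finset.mem_image_of_mem _ hf, ?_⟩
    have he : (SymmetricAlgebra.lift φ).comp π =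
        MvPolynomial.aeval fun j => SymmetricAlgebra.lift φ (π (MvPolynomial.X j)) :=
      MvPolynomial.algHom_ext fun j => by simp
    show MvPolynomial.aeval (R := R) (fun j => SymmetricAlgebra.lift φ (π (MvPolynomial.X j))) (ι f) ≠ 0
    rw [← he, AlgHom.comp_apply, show π (ι f) = f from DFunLike.congr_fun hπ f]
    exact hfne
  obtain ⟨φ, hφx⟩ := hφ R x
  refine ⟨φ, ?_⟩
  rw [← hx, Finset.coe_image, Set.image_image]
  congr 1
  exact Set.image_congr fun f _ => DFunLike.congr_fun hφx f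

theorem exists_point_vectorBundle_iff (hR : LGRing.IsLGRing R)
    (U : (Spec (CommRingCat.of (SymmetricAlgebra R (Module.Dual R M)))).Opens)
    (hU : IsCompact (U : Set ↥(Spec (CommRingCat.of (SymmetricAlgebra R (Module.Dual R M)))))) :
    (∃ φ : Module.Dual R M →ₗ[R] R,
      Set.range (Spec.map (CommRingCat.ofHom (SymmetricAlgebra.lift φ).toRingHom)).base ⊆
        (U : Set ↥(Spec (CommRingCat.of (SymmetricAlgebra R (Module.Dual R M)))))) ↔
    ∀ (m : Ideal R) [m.IsMaximal], ∃ φ : Module.Dual R M →ₗ[R] (R ⧸ m),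
      Set.range (Spec.map (CommRingCat.ofHom (SymmetricAlgebra.lift φ).toRingHom)).base ⊆
        (U : Set ↥(Spec (CommRingCat.of (SymmetricAlgebra R (Module.Dual R M))))) := by
  obtain ⟨s, hs⟩ := exists_finset U hU
  constructor
  · rintro ⟨φ, hφ⟩ m _
    refine ⟨(Algebra.linearMap R (R ⧸ m)) ∘ₗ φ, (range_subset_iff _ s U hs).2 ?_⟩
    have h := congrArg (Ideal.map (Ideal.Quotient.mk m)) ((range_subset_iff _ s U hs).1 hφ)
    rw [Ideal.map_span, Ideal.map_top, Set.image_image] at h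
    rw [← h]
    congr 1
    refine Set.image_congr fun f _ => ?_
    have e : SymmetricAlgebra.lift ((Algebra.linearMap R (R ⧸ m)) ∘ₗ φ) =
        (Algebra.ofId R (R ⧸ m)).comp (SymmetricAlgebra.lift φ) :=
      SymmetricAlgebra.algHom_ext (LinearMap.ext fun a => by simp)
    exact DFunLike.congr_fun e f
  · intro h
    obtain ⟨φ, hφ⟩ := exists_point_bundle M hR s fun m _ => by
      obtain ⟨φ, hφ⟩ := h m
      letI := Ideal.Quotient.field m
      exact ⟨φ, exists_ne_zero s ((range_subset_iff _ s U hs).1 hφ)⟩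
    exact ⟨φ, (range_subset_iff _ s U hs).2 hφ⟩

theorem exists_point_of_dense (hR : LGRing.IsLGRing R) (hinf : ∀ (m : Ideal R) [m.IsMaximal], Infinite (R ⧸ m))
    (U : (Spec (CommRingCat.of (SymmetricAlgebra R (Module.Dual R M)))).Opens)
    (hU : IsCompact (U : Set ↥(Spec (CommRingCat.of (SymmetricAlgebra R (Module.Dual R M))))))
    (hdense : ∀ (m : Ideal R) [m.IsMaximal],
      Dense ((Spec.map (CommRingCat.ofHom (Ideal.Quotient.mk
        (Ideal.map (algebraMap R (SymmetricAlgebra R (Module.Dual R M))) m)))).base ⁻¹'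
          (U : Set ↥(Spec (CommRingCat.of (SymmetricAlgebra R (Module.Dual R M))))))) :
    ∃ φ : Module.Dual R M →ₗ[R] R,
      Set.range (Spec.map (CommRingCat.ofHom (SymmetricAlgebra.lift φ).toRingHom)).base ⊆
        (U : Set ↥(Spec (CommRingCat.of (SymmetricAlgebra R (Module.Dual R M))))) := by
  obtain ⟨s, hs⟩ := exists_finset U hU
  obtain ⟨φ, hφ⟩ := exists_point_bundle M hR s fun m _ => by
    letI := Ideal.Quotient.field m
    haveI := hinf m
    let J := Ideal.map (algebraMap R (SymmetricAlgebra R (Module.Dual R M))) m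
    have hJ : J ≠ ⊤ := by
      intro htop
      have hle : J ≤ RingHom.ker (SymmetricAlgebra.lift (0 : Module.Dual R M →ₗ[R] R ⧸ m)).toRingHom :=
        Ideal.map_le_iff_le_comap.mpr fun a ha => by
          rw [Ideal.mem_comap, RingHom.mem_ker]
          simpa using Ideal.Quotient.eq_zero_iff_mem.mpr ha
      exact RingHom.ker_ne_top _ (top_le_iff.mp (htop ▸ hle))
    haveI : Nontrivial (SymmetricAlgebra R (Module.Dual R M) ⧸ J) := Ideal.Quotient.nontrivial_iff.mpr hJ
    haveI : Nonempty (PrimeSpectrum (SymmetricAlgebra R (Module.Dual R M) ⧸ J)) := inferInstance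
    obtain ⟨P, hP⟩ := (hdense m).nonempty
    obtain ⟨f, hf, hfP⟩ := (hs _).1 hP
    obtain ⟨n, ι, π, hπ, hφ⟩ := exists_coords (R := R) M
    have hfJ : f ∉ J := fun hfJ => hfP (by
      show Ideal.Quotient.mk J f ∈ P.asIdeal
      rw [Ideal.Quotient.eq_zero_iff_mem.mpr hfJ]
      exact zero_mem _)
    have hne : MvPolynomial.map (Ideal.Quotient.mk m) (ι f) ≠ 0 := fun h0 => hfJ (by
      have h1 : ι f ∈ m.map MvPolynomial.C := by
        rw [MvPolynomial.mem_map_C_iff]
        intro d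
        have := congrArg (MvPolynomial.coeff d) h0
        rwa [MvPolynomial.coeff_map, MvPolynomial.coeff_zero, Ideal.Quotient.eq_zero_iff_mem] at this
      have h2 := Ideal.mem_map_of_mem π.toRingHom h1
      rw [Ideal.map_map] at h2
      rw [show f = π (ι f) from (DFunLike.congr_fun hπ f).symm]
      have e : π.toRingHom.comp MvPolynomial.C = algebraMap R (SymmetricAlgebra R (Module.Dual R M)) :=
        π.comp_algebraMap
      rwa [e] at h2)
    obtain ⟨x, hx⟩ : ∃ x : Fin n → R ⧸ m, MvPolynomial.eval x (MvPolynomial.map (Ideal.Quotient.mk m) (ι f)) ≠ 0 := by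
      by_contra hall
      push Not at hall
      exact hne (MvPolynomial.funext fun x => by rw [hall x, map_zero])
    obtain ⟨φ, hφx⟩ := hφ (R ⧸ m) x
    refine ⟨φ, f, hf, ?_⟩
    rw [hφx, AlgHom.comp_apply, MvPolynomial.aeval_eq_eval₂Hom]
    rwa [MvPolynomial.eval_map] at hx
  exact ⟨φ, (range_subset_iff _ s U hs).2 hφ⟩

end Bundle

end Groth.L06.LGPoints
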