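import Groth.Agent.S1239
import Groth.Agent.L13.ModPair.Basic
import Mathlib.RingTheory.Finiteness.ModuleFinitePresentation
import Mathlib.AlgebraicGeometry.Morphisms.FinitePresentation
import Mathlib.AlgebraicGeometry.Morphisms.Flat

/-!
Flat morphisms of finite type which are finitely presented over a scheme-theoretically dense open.
-/

set_option autoImplicit false
set_option maxSynthPendingDepth 3
set_option linter.style.haveILetI false
set_option backward.isDefEq.respectTransparency.types false
set_option backward.isDefEq.respectTransparency false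

universe u

open CategoryTheory AlgebraicGeometry

namespace Groth.L06.LfpDense

/-- A flat algebra of finite type which is finitely presented over a dense set of basic opens. -/
theorem fp_algebra_of_flat_dense {A C : Type u} [CommRing A] [CommRing C] [Algebra A C]
    [Algebra.FiniteType A C] [Module.Flat A C] {n : ℕ} (f : Fin n → A)
    (hdense : Function.Injective (RingHom.pi (fun i => algebraMap A (Localization.Away (f i)))))
    (hfp : ∀ i, Algebra.FinitePresentation A (Localization.Away (algebraMap A C (f i)))) :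
    Algebra.FinitePresentation A C := by
  classical
  obtain ⟨k, φ, hφ⟩ := Algebra.FiniteType.iff_quotient_mvPolynomial''.mp
    (inferInstance : Algebra.FiniteType A C)
  letI : Algebra (MvPolynomial (Fin k) A) C := φ.toRingHom.toAlgebra
  haveI : IsScalarTower A (MvPolynomial (Fin k) A) C := IsScalarTower.of_algebraMap_eq' φ.comp_algebraMap.symm
  haveI : Module.Finite (MvPolynomial (Fin k) A) C :=
    Module.Finite.of_surjective (Algebra.linearMap (MvPolynomial (Fin k) A) C) hφ
  have key : Module.FinitePresentation (MvPolynomial (Fin k) A) C := by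
    refine Groth.Agent.S1239.result C f hdense fun i => ?_
    generalize hg : algebraMap A (MvPolynomial (Fin k) A) (f i) = g
    have hφg : φ g = algebraMap A C (f i) := by rw [← hg, φ.commutes]
    haveI : Algebra.FinitePresentation A (Localization.Away (φ g)) := by rw [hφg]; exact hfp i
    haveI : Algebra.FinitePresentation A (Localization.Away g) :=
      haveI : Algebra.FinitePresentation (MvPolynomial (Fin k) A) (Localization.Away g) :=
        IsLocalization.Away.finitePresentation g
      Algebra.FinitePresentation.trans A (MvPolynomial (Fin k) A) (Localization.Away g)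
    let f' : Localization.Away g →ₐ[A] Localization.Away (φ g) := Localization.awayMapₐ φ g
    have hf' : Function.Surjective f' := IsLocalization.Away.mapₐ_surjective_of_surjective _ hφ
    letI : Algebra (Localization.Away g) (Localization.Away (φ g)) := f'.toRingHom.toAlgebra
    haveI : IsScalarTower (MvPolynomial (Fin k) A) (Localization.Away g) (Localization.Away (φ g)) :=
      IsScalarTower.of_algebraMap_eq fun x => by
        show _ = IsLocalization.Away.map _ _ φ.toRingHom g (algebraMap _ _ x)
        rw [IsLocalization.Away.map, IsLocalization.map_eq]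
        rfl
    have h1 : Module.FinitePresentation (Localization.Away g) (Localization.Away (φ g)) :=
      Module.finitePresentation_of_surjective (Algebra.linearMap _ _) hf'
        (Algebra.FinitePresentation.ker_fG_of_surjective f' hf')
    haveI : IsLocalization (Algebra.algebraMapSubmonoid C (Submonoid.powers g))
        (Localization.Away (φ g)) := by
      rw [Algebra.algebraMapSubmonoid_powers]; exact Localization.isLocalization
    haveI := (isLocalizedModule_iff_isLocalization (S := Submonoid.powers g)
      (A := C) (Aₛ := Localization.Away (φ g))).mpr inferInstance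
    exact Module.FinitePresentation.of_equiv
      ((IsLocalizedModule.linearEquiv (Submonoid.powers g)
        (IsScalarTower.toAlgHom (MvPolynomial (Fin k) A) C (Localization.Away (φ g))).toLinearMap
        (LocalizedModule.mkLinearMap (Submonoid.powers g) C)).extendScalarsOfIsLocalization
          (Submonoid.powers g) (Localization.Away g))
  exact Algebra.FinitePresentation.of_surjective hφ
    (Module.FinitePresentation.fg_ker (Algebra.linearMap (MvPolynomial (Fin k) A) C) hφ)

theorem appLE_congr {X S : Scheme.{u}} (f : X ⟶ S) {D D' : S.Opens} {V V' : X.Opens} (hD : D' = D)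
    (hV : V' = V) (e : V ≤ f ⁻¹ᵁ D) (e' : V' ≤ f ⁻¹ᵁ D') (h : (f.appLE D' V' e').hom.FinitePresentation) :
    (f.appLE D V e).hom.FinitePresentation := by
  subst hD hV
  exact h

/-- On affine charts over the open. -/
theorem appLE_fp_of_restrict {X S : Scheme.{u}} (f : X ⟶ S) (U : S.Opens)
    [LocallyOfFinitePresentation (f ∣_ U)] {D : S.Opens} (hD : IsAffineOpen D) (hDU : D ≤ U)
    {V : X.Opens} (hV : IsAffineOpen V) (e : V ≤ f ⁻¹ᵁ D) : (f.appLE D V e).hom.FinitePresentation := by
  have hD' : IsAffineOpen (U.ι ⁻¹ᵁ D) :=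
    hD.preimage_of_isOpenImmersion U.ι (by simpa using hDU)
  have hV' : IsAffineOpen ((f ⁻¹ᵁ U).ι ⁻¹ᵁ V) :=
    hV.preimage_of_isOpenImmersion _ (by simpa using e.trans (f.preimage_mono hDU))
  have e' : (f ⁻¹ᵁ U).ι ⁻¹ᵁ V ≤ (f ∣_ U) ⁻¹ᵁ (U.ι ⁻¹ᵁ D) := by
    rw [← Scheme.Hom.comp_preimage, morphismRestrict_ι, Scheme.Hom.comp_preimage]
    exact Scheme.Hom.preimage_mono _ e
  have h := HasRingHomProperty.appLE (P := @LocallyOfFinitePresentation) (f ∣_ U) inferInstance
    ⟨_, hD'⟩ ⟨_, hV'⟩ e'
  rw [morphismRestrict_appLE] at h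
  refine appLE_congr f ?_ ?_ e _ h
  · rw [Scheme.Hom.image_preimage_eq_opensRange_inf, Scheme.Opens.opensRange_ι, inf_eq_right.mpr hDU]
  · rw [Scheme.Hom.image_preimage_eq_opensRange_inf, Scheme.Opens.opensRange_ι,
      inf_eq_right.mpr (e.trans (f.preimage_mono hDU))]

/-- Flat, locally of finite type and finitely presented over a dense retrocompact open. -/
theorem locallyOfFinitePresentation_of_dense {X S : Scheme.{u}} (f : X ⟶ S) [LocallyOfFiniteType f]
    [Flat f] (U : S.Opens) [QuasiCompact U.ι] [IsSchemeTheoreticallyDominant U.ι]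
    [LocallyOfFinitePresentation (f ∣_ U)] : LocallyOfFinitePresentation f := by
  classical
  rw [HasRingHomProperty.iff_appLE (P := @LocallyOfFinitePresentation)]
  intro W V hVW
  have hflat := HasRingHomProperty.appLE (P := @Flat) f ‹Flat f› W V hVW
  have hft := HasRingHomProperty.appLE (P := @LocallyOfFiniteType) f ‹LocallyOfFiniteType f› W V hVW
  have hc : IsCompact ((W.1 ⊓ U : S.Opens) : Set S) := by
    have h := (U.ι.isCompact_preimage W.2.isCompact).image U.ι.continuous
    have he : U.ι '' (U.ι ⁻¹' (W.1 : Set S)) = ((W.1 ⊓ U : S.Opens) : Set S) := by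
      rw [Set.image_preimage_eq_inter_range, Scheme.Opens.range_ι]; rfl
    rwa [Scheme.Hom.coe_preimage, he] at h
  choose g hgU hxg using fun x : ↥(W.1 ⊓ U : S.Opens) =>
    W.2.exists_basicOpen_le (V := W.1 ⊓ U) x x.2.1
  obtain ⟨s, hs⟩ := hc.elim_finite_subcover (fun x => (S.basicOpen (g x) : Set S))
    (fun x => (S.basicOpen (g x)).isOpen) (fun x hx => Set.mem_iUnion.mpr ⟨⟨x, hx⟩, hxg ⟨x, hx⟩⟩)
  let a : Fin s.card → Γ(S, W.1) := fun i => g (s.equivFin.symm i)
  letI : Algebra Γ(S, W.1) Γ(X, V.1) := (f.appLE W.1 V.1 hVW).hom.toAlgebra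
  haveI : Module.Flat Γ(S, W.1) Γ(X, V.1) := hflat
  haveI : Algebra.FiniteType Γ(S, W.1) Γ(X, V.1) := hft
  refine fp_algebra_of_flat_dense a ((injective_iff_map_eq_zero _).mpr fun t ht => ?_) fun i => ?_
  · refine Groth.L13.MP.eq_zero_of_res (W := U) t fun y hy hyU => ?_
    obtain ⟨x, hxs, hyx⟩ := Set.mem_iUnion₂.mp (hs ⟨hy, hyU⟩)
    let i := s.equivFin ⟨x, hxs⟩
    have hi : a i = g x := by simp [a, i]
    have h0 : algebraMap Γ(S, W.1) (Localization.Away (a i)) t = 0 := congrFun ht i
    rw [hi, IsLocalization.map_eq_zero_iff (Submonoid.powers (g x))] at h0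
    letI := (W.2.isLocalization_basicOpen (g x))
    have h1 : algebraMap Γ(S, W.1) Γ(S, S.basicOpen (g x)) t = 0 :=
      (IsLocalization.map_eq_zero_iff (Submonoid.powers (g x)) _ _).mpr h0
    have h2 := congrArg (S.presheaf.germ (S.basicOpen (g x)) y hyx) h1
    rw [map_zero] at h2
    change S.presheaf.germ _ y hyx (S.presheaf.map (homOfLE (S.basicOpen_le (g x))).op t) = 0 at h2
    rwa [TopCat.Presheaf.germ_res_apply] at h2
  · let r := a i
    have hbo : X.basicOpen (f.appLE W.1 V.1 hVW r) = V.1 ⊓ f ⁻¹ᵁ (S.basicOpen r) :=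
      Scheme.basicOpen_appLE f V.1 W.1 hVW r
    have e : X.basicOpen (f.appLE W.1 V.1 hVW r) ≤ f ⁻¹ᵁ (S.basicOpen r) := hbo.le.trans inf_le_right
    have h1 := appLE_fp_of_restrict f U (W.2.basicOpen r)
      ((hgU (s.equivFin.symm i)).trans inf_le_right) (V.2.basicOpen _) e
    have h2 : (S.presheaf.map (homOfLE (S.basicOpen_le r)).op).hom.FinitePresentation := by
      haveI := W.2.isLocalization_basicOpen r
      exact RingHom.finitePresentation_algebraMap.mpr (IsLocalization.Away.finitePresentation r)
    have h3 := h1.comp h2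
    haveI := V.2.isLocalization_basicOpen (f.appLE W.1 V.1 hVW r)
    letI : Algebra Γ(S, W.1) Γ(X, X.basicOpen (f.appLE W.1 V.1 hVW r)) :=
      ((algebraMap Γ(X, V.1) Γ(X, X.basicOpen (f.appLE W.1 V.1 hVW r))).comp
        (algebraMap Γ(S, W.1) Γ(X, V.1))).toAlgebra
    haveI : IsScalarTower Γ(S, W.1) Γ(X, V.1) Γ(X, X.basicOpen (f.appLE W.1 V.1 hVW r)) :=
      IsScalarTower.of_algebraMap_eq' rfl
    haveI : Algebra.FinitePresentation Γ(S, W.1) Γ(X, X.basicOpen (f.appLE W.1 V.1 hVW r)) := by
      refine RingHom.finitePresentation_algebraMap.mp ?_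
      convert h3 using 1
      show (f.appLE W.1 V.1 hVW ≫ X.presheaf.map (homOfLE (X.basicOpen_le _)).op).hom = _
      rw [← CommRingCat.hom_comp, Scheme.Hom.map_appLE, Scheme.Hom.appLE_map]
    exact Algebra.FinitePresentation.equiv
      ((IsLocalization.algEquiv (Submonoid.powers (f.appLE W.1 V.1 hVW r))
        Γ(X, X.basicOpen (f.appLE W.1 V.1 hVW r)) (Localization.Away (f.appLE W.1 V.1 hVW r))).restrictScalars
          Γ(S, W.1))

end Groth.L06.LfpDense
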