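import Groth.Agent.L19.LimMod.Zero
import Groth.Agent.L19.Limit.BaseChange
import Groth.Prelude.Def_FlatFun
import Mathlib.CategoryTheory.Limits.Types.Filtered

/-!
# Limit preservation of the conditions "zero", "epimorphism" and "isomorphism" on base changes
-/

set_option autoImplicit false
set_option maxSynthPendingDepth 3
set_option linter.style.haveILetI false
set_option backward.isDefEq.respectTransparency.types false
set_option backward.isDefEq.respectTransparency false

universe u

open CategoryTheory CategoryTheory.Limits AlgebraicGeometry Opposite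

noncomputable section

namespace Groth.L06.LimitPreservingCond

/-- Properties of morphisms of modules, one on each scheme. -/
abbrev ModProp := ∀ Z : Scheme.{u}, MorphismProperty Z.Modules

/-- The zero morphisms. -/
def zeros : ModProp.{u} := fun _ _ _ v => v = 0

instance (Z : Scheme.{u}) : (zeros Z).RespectsIso := by
  refine MorphismProperty.RespectsIso.of_respects_arrow_iso _ fun v w e hv => ?_
  have h : w.hom = e.inv.left ≫ v.hom ≫ e.hom.right := by
    rw [← Arrow.w e.hom, ← Category.assoc]
    simp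
  show w.hom = 0
  rw [h, show v.hom = 0 from hv]
  simp

/-- Stability under pullback. -/
def Stable (Φ : ModProp.{u}) : Prop :=
  ∀ {W Z : Scheme.{u}} (q : W ⟶ Z) {A B : Z.Modules} (v : A ⟶ B), Φ Z v → Φ W ((Scheme.Modules.pullback q).map v)

variable (Φ : ModProp.{u}) [∀ Z : Scheme.{u}, (Φ Z).RespectsIso]

theorem map_map_iff {W Y Z : Scheme.{u}} (p : W ⟶ Y) (q : Y ⟶ Z) {r : W ⟶ Z} (w : p ≫ q = r) {A B : Z.Modules}
    (v : A ⟶ B) :
    Φ W ((Scheme.Modules.pullback p).map ((Scheme.Modules.pullback q).map v)) ↔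
      Φ W ((Scheme.Modules.pullback r).map v) :=
  (Φ W).arrow_mk_iso_iff (Arrow.isoMk (Groth.L19.LimMod.cmp p q w A) (Groth.L19.LimMod.cmp p q w B)
    (Groth.L19.LimMod.cmp_naturality p q w v).symm)

theorem of_factor (hΦ : Stable Φ) {W Y Z : Scheme.{u}} (p : W ⟶ Y) (q : Y ⟶ Z) {r : W ⟶ Z} (w : p ≫ q = r)
    {A B : Z.Modules} (v : A ⟶ B) (h : Φ Y ((Scheme.Modules.pullback q).map v)) :
    Φ W ((Scheme.Modules.pullback r).map v) :=
  (map_map_iff Φ p q w v).1 (hΦ p _ h)

/-- The descent of the property from the limit to a stage, for modules defined over a fixed scheme. -/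
def Descends {X : Scheme.{u}} {F G : X.Modules} (u : F ⟶ G) : Prop :=
  ∀ {I : Type u} [SmallCategory I] [IsCofiltered I] (D : I ⥤ Scheme.{u}) (c : Cone D) (_ : IsLimit c)
    [∀ (i j : I) (φ : i ⟶ j), IsAffineHom (D.map φ)] (i : I) [CompactSpace (D.obj i)] (a : D.obj i ⟶ X),
    Φ c.pt ((Scheme.Modules.pullback (c.π.app i)).map ((Scheme.Modules.pullback a).map u)) →
      ∃ (j : I) (φ : j ⟶ i),
        Φ (D.obj j) ((Scheme.Modules.pullback (D.map φ)).map ((Scheme.Modules.pullback a).map u))

/-- The condition is limit preserving. -/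
theorem isLimitPreserving (hΦ : Stable Φ) {X S : Scheme.{u}} (f : X ⟶ S) [QuasiCompact f] {F G : X.Modules}
    (u : F ⟶ G) (hlim : Descends Φ u) :
    AlgSp.IsLimitPreserving
      (FlatFun.genPSp S (fun T => Φ _ ((Scheme.Modules.pullback (pullback.fst f T.hom)).map u))) := by
  intro I _ _ D c hc hD hT
  have hstab : ∀ ⦃T T₀ : Over S⦄ (_ : T ⟶ T₀),
      Φ _ ((Scheme.Modules.pullback (pullback.fst f T₀.hom)).map u) →
      Φ _ ((Scheme.Modules.pullback (pullback.fst f T.hom)).map u) := fun T T₀ k h =>
    of_factor Φ hΦ (pullback.map f T.hom f T₀.hom (𝟙 _) k.left (𝟙 _) (by simp) (by simp [Over.w k]))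
      (pullback.fst f T₀.hom) (by simp) u h
  refine ⟨Types.FilteredColimit.isColimitOf _ _ (fun x => ?_) fun i j xi xj _ => ?_⟩
  · have hP := (FlatFun.genPSp_nonempty_iff_of_stable _ hstab c.pt).1 ⟨x⟩
    haveI : Nonempty I := IsCofiltered.nonempty
    obtain ⟨i₀⟩ := ‹Nonempty I›
    let D' := D ⋙ Over.forget S
    let c' := (Over.forget S).mapCone c
    haveI : ∀ i, IsAffine (D'.obj i) := hD
    haveI : ∀ {i j : I} (φ : i ⟶ j), IsAffineHom (D'.map φ) := fun _ => inferInstance
    let g : pullback f (D.obj i₀).hom ⟶ D'.obj i₀ := pullback.snd f (D.obj i₀).hom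
    let E := Groth.L19.Limit.bcDiagram D' g
    let cE := Groth.L19.Limit.bcCone D' c' g
    let a : ∀ j : Over i₀, E.obj j ⟶ X := fun j => pullback.snd (D'.map j.hom) g ≫ pullback.fst f (D.obj i₀).hom
    let top : Over i₀ := Over.mk (𝟙 i₀)
    haveI : CompactSpace (D'.obj i₀) := inferInstance
    haveI : CompactSpace ↥(pullback f (D.obj i₀).hom) := QuasiCompact.compactSpace_of_compactSpace g
    haveI : CompactSpace (E.obj top) :=
      QuasiCompact.compactSpace_of_compactSpace (pullback.snd (D'.map top.hom) g)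
    -- the comparison at the stages
    have hsq : ∀ (T : Over S) (k : T ⟶ D.obj i₀),
        IsPullback (pullback.snd k.left g ≫ pullback.fst f (D.obj i₀).hom) (pullback.fst k.left g) f T.hom := fun T k => by
      have := (IsPullback.of_hasPullback k.left g).flip.paste_horiz (IsPullback.of_hasPullback f (D.obj i₀).hom)
      rwa [Over.w k] at this
    have hpt : Φ cE.pt ((Scheme.Modules.pullback (cE.π.app top)).map ((Scheme.Modules.pullback (a top)).map u)) := by
      refine (map_map_iff Φ (cE.π.app top) (a top) rfl u).2 ?_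
      refine of_factor Φ hΦ (hsq c.pt (c.π.app i₀)).isoPullback.hom _ ?_ u hP
      rw [IsPullback.isoPullback_hom_fst]
      show pullback.snd _ _ ≫ pullback.fst f _ = cE.π.app top ≫ pullback.snd _ g ≫ pullback.fst f _
      rw [← Category.assoc (cE.π.app top)]
      congr 1
      simp [cE, Groth.L19.Limit.bcCone, c']
    obtain ⟨j, φ, hj⟩ := hlim E cE (Groth.L19.Limit.isLimitBcCone g hc) top (a top) hpt
    have ha : E.map φ ≫ a top = a j := by
      show (_ ≫ pullback.snd _ g ≫ pullback.fst f _) = pullback.snd _ g ≫ pullback.fst f _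
      rw [← Category.assoc]
      congr 1
      simp [E, Groth.L19.Limit.bcDiagram]
    have hj' : Φ _ ((Scheme.Modules.pullback (pullback.fst f (D.obj j.left).hom)).map u) :=
      of_factor Φ hΦ (hsq (D.obj j.left) (D.map j.hom)).isoPullback.inv (a j)
        (IsPullback.isoPullback_inv_fst _) u ((map_map_iff Φ (E.map φ) (a top) ha u).1 hj)
    obtain ⟨y⟩ := FlatFun.genPSp_nonempty_of
      (fun T : Over S => Φ _ ((Scheme.Modules.pullback (pullback.fst f T.hom)).map u)) hj'
    exact ⟨op j.left, y, Subsingleton.elim (α := (FlatFun.genPSp S _).obj (op c.pt)) _ _⟩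
  · refine ⟨op (IsCofiltered.min i.unop j.unop), (IsCofiltered.minToLeft i.unop j.unop).op,
      (IsCofiltered.minToRight i.unop j.unop).op, ?_⟩
    exact Subsingleton.elim (α := (FlatFun.genPSp S _).obj (op (D.obj (IsCofiltered.min i.unop j.unop)))) _ _

theorem stable_zeros : Stable (zeros.{u}) := fun q A B v hv => by
  show (Scheme.Modules.pullback q).map v = 0
  rw [show v = 0 from hv, Groth.L19.LimMod.pullback_map_zero]

theorem stable_epis : Stable (fun Z : Scheme.{u} => MorphismProperty.epimorphisms Z.Modules) :=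
  fun q A B v (hv : Epi v) => by
    haveI := hv
    haveI : PreservesColimitsOfSize.{0, 0} (Scheme.Modules.pullback q) :=
      Groth.L19.LimMod.preservesColimits_pullback q
    exact (Scheme.Modules.pullback q).map_epi v

theorem stable_isos : Stable (fun Z : Scheme.{u} => MorphismProperty.isomorphisms Z.Modules) :=
  fun q A B v (hv : IsIso v) => by
    haveI := hv
    exact (inferInstance : IsIso ((Scheme.Modules.pullback q).map v))

variable {X S : Scheme.{u}} (f : X ⟶ S) [QuasiCompact f] {F G : X.Modules}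

theorem isLimitPreserving_zero [Coh.IsQCoh F] [Coh.IsQCoh G] (hF : CohB1.IsFT F) (u : F ⟶ G) :
    AlgSp.IsLimitPreserving
      (FlatFun.genPSp S (fun T => ((Scheme.Modules.pullback (pullback.fst f T.hom)).map u) = 0)) :=
  isLimitPreserving zeros stable_zeros f u fun {I} _ _ D c hc _ i _ a h => by
    haveI := Groth.L19.LimMod.isQCoh_pullback a G
    exact Groth.L19.LimMod.exists_map_eq_zero D c hc (Groth.L19.LimMod.isCoh_pullback' a ⟨inferInstance, hF⟩) _ h

theorem isLimitPreserving_epi [Coh.IsQCoh F] [Coh.IsQCoh G] (hG : CohB1.IsFT G) (u : F ⟶ G) :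
    AlgSp.IsLimitPreserving
      (FlatFun.genPSp S (fun T => Epi ((Scheme.Modules.pullback (pullback.fst f T.hom)).map u))) :=
  isLimitPreserving (fun Z => MorphismProperty.epimorphisms Z.Modules) stable_epis f u
    fun {I} _ _ D c hc _ i _ a h => by
    haveI := Groth.L19.LimMod.isQCoh_pullback a F
    exact Groth.L19.LimMod.exists_epi D c hc (Groth.L19.LimMod.isCoh_pullback' a ⟨inferInstance, hG⟩) _ h

theorem isLimitPreserving_iso [Coh.IsQCoh F] [Coh.IsQCoh G] (hF : CohB1.IsFT F) (hG : CohB1.IsFP G) (u : F ⟶ G) :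
    AlgSp.IsLimitPreserving
      (FlatFun.genPSp S (fun T => IsIso ((Scheme.Modules.pullback (pullback.fst f T.hom)).map u))) :=
  isLimitPreserving (fun Z => MorphismProperty.isomorphisms Z.Modules) stable_isos f u
    fun {I} _ _ D c hc _ i _ a h => by
    haveI := Groth.L19.LimMod.isQCoh_pullback a G
    exact Groth.L19.LimMod.exists_isIso D c hc (Groth.L19.LimMod.isCoh_pullback' a ⟨inferInstance, hF⟩)
      (Groth.L19.LimMod.isFP_pullback' a G hG) _ h

end Groth.L06.LimitPreservingCond
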