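import Groth.Agent.L06.GenericFibreDim
import Groth.Agent.L06.FlatFibre
import Groth.Agent.L06.FibreDimsOpen
import Groth.Agent.L07.OpenDim
import Groth.Agent.L07.UnivOpenFibre
import Groth.Agent.L07.DimToolkit
import Groth.Agent.L02.CMMor.SliceOne
import Groth.Agent.L02.CMMor.Locus
import Mathlib.AlgebraicGeometry.Morphisms.UniversallyOpen

/-! Local dimension along flat morphisms with locally constant fibre dimension. -/

set_option autoImplicit false
set_option maxSynthPendingDepth 3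
set_option linter.style.haveILetI false
set_option backward.isDefEq.respectTransparency.types false
set_option backward.isDefEq.respectTransparency false

universe u

open CategoryTheory CategoryTheory.Limits AlgebraicGeometry TopologicalSpace

namespace Groth.L06.LocalDimFlat

variable {X Y : Scheme.{u}} [IsLocallyNoetherian X] [IsLocallyNoetherian Y]

theorem stalk_formula (f : X ⟶ Y) [Flat f] (x : X) :
    ringKrullDim (X.presheaf.stalk x) = ringKrullDim (Y.presheaf.stalk (f x)) +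
      ringKrullDim ((f.fiber (f x)).presheaf.stalk (f.asFiber x)) := by
  letI := (f.stalkMap x).hom.toAlgebra
  haveI : IsLocalHom (algebraMap (Y.presheaf.stalk (f x)) (X.presheaf.stalk x)) :=
    inferInstanceAs (IsLocalHom (f.stalkMap x).hom)
  haveI : Module.Flat (Y.presheaf.stalk (f x)) (X.presheaf.stalk x) := Flat.stalkMap f x
  rw [Groth.L07.OpenDim.fibre_ringKrullDim f x]
  exact Groth.L06.FlatFibre.ringKrullDim_eq (Y.presheaf.stalk (f x)) (X.presheaf.stalk x)

theorem stalk_le_dim {Z : Scheme.{u}} [IsLocallyNoetherian Z] (W : Z.Opens) (z : Z) (hz : z ∈ W) :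
    ringKrullDim (Z.presheaf.stalk z) ≤ topologicalKrullDim ↥(W : Set Z) := by
  show _ ≤ topologicalKrullDim ↥W.toScheme
  rw [← Groth.L06.GenericFibreDim.iSup_stalks]
  refine le_iSup_of_le (⟨z, hz⟩ : ↥W.toScheme) (le_of_eq ?_)
  exact (ringKrullDim_eq_of_ringEquiv (W.stalkIso ⟨z, hz⟩).commRingCatIsoToRingEquiv).symm

theorem dim_le_of_stalk {Z : Scheme.{u}} [IsLocallyNoetherian Z] (W : Z.Opens) (c : WithBot ℕ∞)
    (h : ∀ z ∈ W, ringKrullDim (Z.presheaf.stalk z) ≤ c) : topologicalKrullDim ↥(W : Set Z) ≤ c := by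
  show topologicalKrullDim ↥W.toScheme ≤ _
  rw [← Groth.L06.GenericFibreDim.iSup_stalks]
  refine iSup_le fun z => le_trans (le_of_eq ?_) (h z.1 z.2)
  exact ringKrullDim_eq_of_ringEquiv (W.stalkIso z).commRingCatIsoToRingEquiv

variable (f : X ⟶ Y) [Flat f] [LocallyOfFiniteType f] (d : ℕ) (U : X.Opens)
  (hd : ∀ u ∈ U, FlatMor.fibreDimAt f u = (d : WithBot ℕ∞))

include hd in
theorem dim_le (W : Y.Opens) (hW : ∀ u ∈ U, f u ∈ W) :
    topologicalKrullDim ↥(U : Set X) ≤ topologicalKrullDim ↥(W : Set Y) + (d : WithBot ℕ∞) := by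
  refine dim_le_of_stalk U _ fun u hu => ?_
  rw [stalk_formula f u]
  obtain ⟨a, b, -, hb, hab⟩ := Groth.L07.DimToolkit.exists_fibreDimAt f u
  rw [hb]
  refine add_le_add (stalk_le_dim W _ (hW u hu)) ?_
  rw [hd u hu] at hab
  have : d = a + b := by exact_mod_cast hab
  exact_mod_cast (show b ≤ d by omega)

include hd in
theorem le_stalk (v : Y) (hv : ∃ u ∈ U, f u = v) :
    ∃ u ∈ U, f u = v ∧ ringKrullDim (X.presheaf.stalk u) = ringKrullDim (Y.presheaf.stalk v) + (d : WithBot ℕ∞) := by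
  obtain ⟨u₀, hu₀, rfl⟩ := hv
  haveI : LocallyOfFiniteType (f.fiberToSpecResidueField (f u₀)) :=
    MorphismProperty.pullback_snd f (Y.fromSpecResidueField (f u₀)) inferInstance
  haveI : JacobsonSpace (f.fiber (f u₀)) := LocallyOfFiniteType.jacobsonSpace (f.fiberToSpecResidueField (f u₀))
  obtain ⟨z, hz, hzc⟩ := nonempty_inter_closedPoints (X := f.fiber (f u₀))
    (Z := f.fiberι (f u₀) ⁻¹' (U : Set X))
    ⟨f.asFiber u₀, show f.fiberι (f u₀) (f.asFiber u₀) ∈ U by rw [f.fiberι_asFiber]; exact hu₀⟩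
    ((U.2.preimage (f.fiberι (f u₀)).continuous).isLocallyClosed)
  have hcl := L02.CMMor.isClosed_asFiber f (f u₀) z _ rfl hzc
  have hfu : f (f.fiberι (f u₀) z) = f u₀ := by
    have h : f.fiberι (f u₀) z ∈ Set.range (f.fiberι (f u₀)) := ⟨z, rfl⟩
    rw [f.range_fiberι] at h
    exact h
  refine ⟨f.fiberι (f u₀) z, hz, hfu, ?_⟩
  rw [stalk_formula f, ← L02.CMMor.fibreDimAt_of_closed f _ hcl, hd _ hz, hfu]

include hd in
theorem localDim_eq (x : X) (hx : x ∈ U) :
    FlatMor.localDim X x = FlatMor.localDim Y (f x) + (d : WithBot ℕ∞) := by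
  haveI : LocallyOfFinitePresentation f := LocallyOfFinitePresentation.iff_locallyOfFiniteType.mpr inferInstance
  refine le_antisymm ?_ ?_
  · haveI : Nonempty {V : Opens Y // f x ∈ V} := ⟨⟨⊤, trivial⟩⟩
    obtain ⟨V, hV⟩ := ciInf_mem (fun V : {V : Opens Y // f x ∈ V} => topologicalKrullDim (V.1 : Set Y))
    refine le_trans (iInf_le _ ⟨U ⊓ f ⁻¹ᵁ V.1, hx, V.2⟩) ?_
    exact (dim_le f d (U ⊓ f ⁻¹ᵁ V.1) (fun u hu => hd u hu.1) V.1 (fun u hu => hu.2)).trans
      (le_of_eq (congrArg (· + (d : WithBot ℕ∞)) hV))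
  · refine le_iInf fun W => ?_
    let U' : X.Opens := U ⊓ W.1
    let V' : Y.Opens := ⟨f '' (U' : Set X), f.isOpenMap _ U'.2⟩
    refine le_trans ?_ (Groth.L22.SchemeDim.topologicalKrullDim_mono (fun u hu => hu.2 : (U' : Set X) ⊆ (W.1 : Set X)))
    refine le_trans (add_le_add (iInf_le _ ⟨V', x, ⟨hx, W.2⟩, rfl⟩) le_rfl) ?_
    have h : ∀ v ∈ V', ringKrullDim (Y.presheaf.stalk v) + (d : WithBot ℕ∞) ≤ topologicalKrullDim ↥(U' : Set X) := by
      intro v hv
      obtain ⟨u, hu, -, he⟩ := le_stalk f d U' (fun u hu => hd u hu.1) v hv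
      rw [← he]
      exact stalk_le_dim U' u hu
    show topologicalKrullDim ↥V'.toScheme + _ ≤ _
    rw [← Groth.L06.GenericFibreDim.iSup_stalks]
    haveI : Nonempty ↥V'.toScheme := ⟨⟨f x, x, ⟨hx, W.2⟩, rfl⟩⟩
    have h' : ∀ v : ↥V'.toScheme, ringKrullDim (V'.toScheme.presheaf.stalk v) + (d : WithBot ℕ∞) ≤
        topologicalKrullDim ↥(U' : Set X) := fun v => by
      rw [ringKrullDim_eq_of_ringEquiv (V'.stalkIso v).commRingCatIsoToRingEquiv]
      exact h v.1 v.2
    obtain ⟨B, hB⟩ := Groth.L07.DimToolkit.exists_nat_dim_stalk (X := V'.toScheme) ⟨f x, x, ⟨hx, W.2⟩, rfl⟩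
    refine Groth.L19.DimTrdeg.add_le_of_forall d ?_ fun m hm => ?_
    · intro hbot
      have h2 := le_iSup (fun v : ↥V'.toScheme => ringKrullDim (V'.toScheme.presheaf.stalk v))
        (⟨f x, x, ⟨hx, W.2⟩, rfl⟩ : ↥V'.toScheme)
      rw [hbot, le_bot_iff, hB] at h2
      exact WithBot.natCast_ne_bot B h2
    · rcases Nat.eq_zero_or_pos m with rfl | hm0
      · refine le_trans ?_ (h' ⟨f x, x, ⟨hx, W.2⟩, rfl⟩)
        rw [hB]
        exact_mod_cast (show 0 + d ≤ B + d by omega)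
      · have hlt : ((m - 1 : ℕ) : WithBot ℕ∞) < ⨆ v : ↥V'.toScheme, ringKrullDim (V'.toScheme.presheaf.stalk v) :=
          lt_of_lt_of_le (by exact_mod_cast Nat.sub_lt hm0 Nat.one_pos) hm
        obtain ⟨v, hv⟩ := lt_iSup_iff.mp hlt
        obtain ⟨C, hC⟩ := Groth.L07.DimToolkit.exists_nat_dim_stalk (X := V'.toScheme) v
        rw [hC] at hv
        have hv' : m - 1 < C := by exact_mod_cast hv
        refine le_trans ?_ (h' v)
        rw [hC]
        exact_mod_cast (show m + d ≤ C + d by omega)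

end Groth.L06.LocalDimFlat
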