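import Mathlib.RingTheory.AdjoinRoot
import Mathlib.RingTheory.Ideal.Cotangent
import Mathlib.RingTheory.Ideal.GoingUp
import Mathlib.Algebra.DualNumber
import Mathlib.RingTheory.MvPolynomial.Basic
import Mathlib.LinearAlgebra.FiniteDimensional.Lemmas
import Mathlib.LinearAlgebra.Dimension.OrzechProperty

/-! `A[T]/(T_i^{d_i} + Σ c_{ik} T_i^k)` with all `c_{ik}` in the maximal ideal. -/

set_option autoImplicit false
set_option maxSynthPendingDepth 3
noncomputable section
universe u
open IsLocalRing

namespace Groth.L06.MonicCot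

variable {A : Type u} [CommRing A] {r : ℕ}

/-- the relations -/
def rel (d : Fin r → ℕ) (c : Fin r → ℕ → A) (i : Fin r) : MvPolynomial (Fin r) A :=
  MvPolynomial.X i ^ d i + (Finset.range (d i)).sum fun k => MvPolynomial.C (c i k) * MvPolynomial.X i ^ k

/-- the quotient -/
abbrev Quot' (d : Fin r → ℕ) (c : Fin r → ℕ → A) :=
  MvPolynomial (Fin r) A ⧸ Ideal.span (Set.range (rel d c))

variable (d : Fin r → ℕ) (c : Fin r → ℕ → A)

/-- the polynomial in one variable -/
def poly (i : Fin r) : Polynomial A :=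
  Polynomial.X ^ d i + (Finset.range (d i)).sum fun k => Polynomial.C (c i k) * Polynomial.X ^ k

theorem aeval_poly {S : Type*} [CommRing S] [Algebra A S] (i : Fin r) (x : S) :
    Polynomial.aeval x (poly d c i) = x ^ d i + (Finset.range (d i)).sum fun k => algebraMap A S (c i k) * x ^ k := by
  simp [poly]

theorem poly_monic (i : Fin r) : (poly d c i).Monic := by
  refine Polynomial.monic_X_pow_add ?_
  refine lt_of_le_of_lt (Polynomial.degree_sum_le _ _) ((Finset.sup_lt_iff (WithBot.bot_lt_coe _)).mpr fun k hk => ?_)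
  exact lt_of_le_of_lt (Polynomial.degree_C_mul_X_pow_le _ _) (WithBot.coe_lt_coe.mpr (Finset.mem_range.mp hk))

instance isIntegral : Algebra.IsIntegral A (Quot' d c) := by
  refine ⟨fun x => ?_⟩
  obtain ⟨q, rfl⟩ := Ideal.Quotient.mk_surjective x
  induction q using MvPolynomial.induction_on with
  | C a => exact isIntegral_algebraMap
  | add p q hp hq => rw [map_add]; exact hp.add hq
  | mul_X p i hp =>
    rw [map_mul]
    refine hp.mul ⟨poly d c i, poly_monic d c i, ?_⟩
    rw [← Polynomial.aeval_def, aeval_poly]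
    show Ideal.Quotient.mk _ (MvPolynomial.X i) ^ d i + (Finset.range (d i)).sum (fun k =>
      Ideal.Quotient.mk (Ideal.span (Set.range (rel d c))) (MvPolynomial.C (c i k)) * Ideal.Quotient.mk _ (MvPolynomial.X i) ^ k) = 0
    simp only [← map_pow, ← map_mul, ← map_sum, ← map_add]
    exact Ideal.Quotient.eq_zero_iff_mem.mpr (Ideal.subset_span ⟨i, rfl⟩)

theorem exists_splitting : ∀ (r : ℕ) (P : Fin r → Polynomial A), (∀ i, (P i).Monic) → (∀ i, 0 < (P i).natDegree) →
    ∃ (S : Type u) (_ : CommRing S) (_ : Algebra A S) (x : Fin r → S),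
      Function.Injective (algebraMap A S) ∧ ∀ i, Polynomial.aeval (x i) (P i) = 0 := by
  intro r
  induction r with
  | zero => exact fun P _ _ => ⟨A, inferInstance, inferInstance, Fin.elim0, fun _ _ h => h, fun i => i.elim0⟩
  | succ r ih =>
    intro P hm hd
    obtain ⟨S, iS, iA, x, hinj, hx⟩ := ih (fun i => P i.castSucc) (fun i => hm _) (fun i => hd _)
    rcases subsingleton_or_nontrivial S with hS | hS
    · exact ⟨S, iS, iA, fun _ => 0, hinj, fun i => Subsingleton.elim _ _⟩
    let g := (P (Fin.last r)).map (algebraMap A S)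
    have hg : g.Monic := (hm _).map _
    have hgd : 0 < g.natDegree := by rw [(hm _).natDegree_map]; exact hd _
    let pb := AdjoinRoot.powerBasis' hg
    haveI : Nonempty (Fin pb.dim) := ⟨⟨0, by rw [AdjoinRoot.powerBasis'_dim]; exact hgd⟩⟩
    haveI : Module.Free S (AdjoinRoot g) := Module.Free.of_basis pb.basis
    haveI : Nontrivial (AdjoinRoot g) := pb.basis.repr.toEquiv.nontrivial
    refine ⟨AdjoinRoot g, inferInstance, inferInstance,
      Fin.snoc (fun i => algebraMap S (AdjoinRoot g) (x i)) (AdjoinRoot.root g), ?_, fun i => ?_⟩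
    · rw [IsScalarTower.algebraMap_eq A S (AdjoinRoot g)]
      exact (FaithfulSMul.algebraMap_injective S (AdjoinRoot g)).comp hinj
    · refine Fin.lastCases ?_ (fun i => ?_) i
      · rw [Fin.snoc_last, ← Polynomial.aeval_map_algebraMap S, AdjoinRoot.aeval_eq, AdjoinRoot.mk_self]
      · rw [Fin.snoc_castSucc, Polynomial.aeval_algebraMap_apply, hx, map_zero]

theorem algebraMap_injective [Nontrivial A] (hd : ∀ i, 0 < d i) :
    Function.Injective (algebraMap A (Quot' d c)) := by
  obtain ⟨S, iS, iA, x, hinj, hx⟩ := exists_splitting r (poly d c) (poly_monic d c) (fun i => by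
    have h : (poly d c i).natDegree = d i := by
      refine Polynomial.natDegree_eq_of_degree_eq_some ?_
      rw [poly, Polynomial.degree_add_eq_left_of_degree_lt, Polynomial.degree_X_pow]
      rw [Polynomial.degree_X_pow]
      refine lt_of_le_of_lt (Polynomial.degree_sum_le _ _) ((Finset.sup_lt_iff (WithBot.bot_lt_coe _)).mpr fun k hk => ?_)
      exact lt_of_le_of_lt (Polynomial.degree_C_mul_X_pow_le _ _) (WithBot.coe_lt_coe.mpr (Finset.mem_range.mp hk))
    rw [h]; exact hd i)
  let φ : Quot' d c →ₐ[A] S := Ideal.Quotient.liftₐ _ (MvPolynomial.aeval x) (fun q hq => by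
    refine RingHom.mem_ker.mp ((Ideal.span_le.mpr ?_) hq : q ∈ RingHom.ker (MvPolynomial.aeval x))
    rintro _ ⟨i, rfl⟩
    rw [SetLike.mem_coe, RingHom.mem_ker, rel, map_add, map_pow, MvPolynomial.aeval_X, map_sum, ← hx i, aeval_poly]
    simp)
  intro a b h
  apply hinj
  rw [← φ.commutes, ← φ.commutes, h]

variable [IsLocalRing A]

/-- constant term modulo `m` -/
def res0 : MvPolynomial (Fin r) A →+* ResidueField A := (residue A).comp MvPolynomial.constantCoeff

variable {d c} (hd : ∀ i, 2 ≤ d i) (hc : ∀ i k, c i k ∈ maximalIdeal A)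

include hd in
theorem constantCoeff_rel (i : Fin r) : MvPolynomial.constantCoeff (rel d c i) = c i 0 := by
  have h : ∀ n : ℕ, MvPolynomial.constantCoeff (MvPolynomial.X (R := A) i ^ n) = if n = 0 then 1 else 0 := fun n => by
    rw [map_pow, MvPolynomial.constantCoeff_X, zero_pow_eq]
  rw [rel, map_add, h, if_neg (by have := hd i; omega), zero_add, map_sum,
    Finset.sum_eq_single 0 (fun k _ hk => by rw [map_mul, h, if_neg hk, mul_zero])
      (fun h0 => absurd (Finset.mem_range.mpr (by have := hd i; omega)) h0), map_mul, h, if_pos rfl, mul_one,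
    MvPolynomial.constantCoeff_C]

include hd hc in
theorem span_le_ker : Ideal.span (Set.range (rel d c)) ≤ RingHom.ker (res0 (A := A) (r := r)) := by
  rw [Ideal.span_le]
  rintro _ ⟨i, rfl⟩
  rw [SetLike.mem_coe, RingHom.mem_ker, res0, RingHom.comp_apply, constantCoeff_rel hd, residue_eq_zero_iff]
  exact hc i 0

include hd hc in
theorem eq_map_of_isMaximal (M : Ideal (Quot' d c)) [M.IsMaximal] :
    M = (RingHom.ker (res0 (A := A) (r := r))).map (Ideal.Quotient.mk _) := by
  have hM : M.comap (algebraMap A (Quot' d c)) = maximalIdeal A := by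
    exact eq_maximalIdeal (Ideal.isMaximal_comap_of_isIntegral_of_isMaximal M)
  have hC : ∀ a ∈ maximalIdeal A, Ideal.Quotient.mk (Ideal.span (Set.range (rel d c))) (MvPolynomial.C a) ∈ M :=
    fun a ha => (Ideal.ext_iff.mp hM a).mpr ha
  have hX : ∀ i, Ideal.Quotient.mk (Ideal.span (Set.range (rel d c))) (MvPolynomial.X i) ∈ M := by
    intro i
    refine Ideal.IsPrime.mem_of_pow_mem inferInstance (d i) ?_
    have h0 : Ideal.Quotient.mk (Ideal.span (Set.range (rel d c))) (rel d c i) = 0 :=
      Ideal.Quotient.eq_zero_iff_mem.mpr (Ideal.subset_span ⟨i, rfl⟩)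
    rw [rel, map_add, map_sum, add_eq_zero_iff_eq_neg, map_pow] at h0
    rw [h0]
    exact neg_mem (Submodule.sum_mem _ fun k _ => by rw [map_mul]; exact M.mul_mem_right _ (hC _ (hc i k)))
  have hle : (RingHom.ker (res0 (A := A) (r := r))).map (Ideal.Quotient.mk (Ideal.span (Set.range (rel d c)))) ≤ M := by
    rw [Ideal.map_le_iff_le_comap]
    intro q hq
    have h1 : ∀ q : MvPolynomial (Fin r) A, Ideal.Quotient.mk (Ideal.span (Set.range (rel d c)))
        (q - MvPolynomial.C (MvPolynomial.constantCoeff q)) ∈ M := by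
      intro q
      induction q using MvPolynomial.induction_on with
      | C a => rw [MvPolynomial.constantCoeff_C, sub_self, map_zero]; exact zero_mem _
      | add p q hp hq => rw [map_add, map_add, add_sub_add_comm, map_add]; exact add_mem hp hq
      | mul_X p i hp =>
        rw [map_mul MvPolynomial.constantCoeff, MvPolynomial.constantCoeff_X, mul_zero, map_zero, sub_zero, map_mul]
        exact M.mul_mem_left _ (hX i)
    have h2 := add_mem (h1 q) (hC (MvPolynomial.constantCoeff q) ((residue_eq_zero_iff _).mp (RingHom.mem_ker.mp hq)))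
    rwa [← map_add, sub_add_cancel] at h2
  haveI : (RingHom.ker (res0 (A := A) (r := r))).IsMaximal :=
    RingHom.ker_isMaximal_of_surjective _ (fun k => by
      obtain ⟨a, rfl⟩ := residue_surjective k
      exact ⟨MvPolynomial.C a, by simp [res0]⟩)
  have hcm : RingHom.ker (res0 (A := A) (r := r)) = M.comap (Ideal.Quotient.mk _) :=
    Ideal.IsMaximal.eq_of_le inferInstance (Ideal.IsPrime.ne_top (Ideal.IsPrime.comap _)) (Ideal.map_le_iff_le_comap.mp hle)
  rw [hcm, Ideal.map_comap_of_surjective _ Ideal.Quotient.mk_surjective]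

include hd hc in
theorem isLocalRing : IsLocalRing (Quot' d c) := by
  haveI : Nontrivial (Quot' d c) := (algebraMap_injective d c (fun i => by have := hd i; omega)).nontrivial
  obtain ⟨M, hM⟩ := Ideal.exists_maximal (Quot' d c)
  refine IsLocalRing.of_unique_max_ideal ⟨M, hM, fun M' hM' => ?_⟩
  haveI := hM; haveI := hM'
  rw [eq_map_of_isMaximal hd hc M', eq_map_of_isMaximal hd hc M]

end Groth.L06.MonicCot
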