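import Groth.Agent.L06.MonicCot

/-! The cotangent space of `A[T]/(T_i^{d_i} + Σ c_{ik} T_i^k)`. -/

set_option autoImplicit false
set_option maxSynthPendingDepth 3
noncomputable section
universe u
open IsLocalRing

namespace Groth.L06.MonicCot

variable {A : Type u} [CommRing A] [IsLocalRing A] {r : ℕ} {d : Fin r → ℕ} {c : Fin r → ℕ → A}
variable (hd : ∀ i, 2 ≤ d i) (hc : ∀ i k, c i k ∈ maximalIdeal A)

theorem mem_ker_res0 {x : MvPolynomial (Fin r) A} :
    x ∈ RingHom.ker (res0 (A := A) (r := r)) ↔ MvPolynomial.constantCoeff x ∈ maximalIdeal A := by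
  rw [RingHom.mem_ker, res0, RingHom.comp_apply, residue_eq_zero_iff]

include hd in
theorem constantCoeff_mem_sq {x : MvPolynomial (Fin r) A}
    (hx : x ∈ RingHom.ker (res0 (A := A) (r := r)) ^ 2 ⊔ Ideal.span (Set.range (rel d c))) :
    MvPolynomial.constantCoeff x ∈ maximalIdeal A ^ 2 ⊔ Ideal.span (Set.range fun i => c i 0) := by
  have h : RingHom.ker (res0 (A := A) (r := r)) ^ 2 ⊔ Ideal.span (Set.range (rel d c)) ≤
      Ideal.comap (MvPolynomial.constantCoeff (R := A) (σ := Fin r))
        (maximalIdeal A ^ 2 ⊔ Ideal.span (Set.range fun i => c i 0)) := ?_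
  · exact h hx
  refine sup_le ?_ ?_
  · rw [← Ideal.map_le_iff_le_comap, Ideal.map_pow]
    refine le_sup_of_le_left (Ideal.pow_right_mono (Ideal.map_le_iff_le_comap.mpr fun y hy => ?_) 2)
    exact mem_ker_res0.mp hy
  · rw [Ideal.span_le]
    rintro _ ⟨i, rfl⟩
    show MvPolynomial.constantCoeff (rel d c i) ∈ maximalIdeal A ^ 2 ⊔ Ideal.span (Set.range fun i => c i 0)
    rw [constantCoeff_rel hd]
    exact Ideal.mem_sup_right (Ideal.subset_span ⟨i, rfl⟩)

/-- the linear coefficient modulo `m`, as dual numbers -/
def lin (i : Fin r) : MvPolynomial (Fin r) A →+* DualNumber (ResidueField A) :=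
  MvPolynomial.eval₂Hom ((TrivSqZeroExt.inlHom (ResidueField A) (ResidueField A)).comp (residue A))
    (fun j => if j = i then DualNumber.eps else 0)

theorem lin_fst (i : Fin r) (x : MvPolynomial (Fin r) A) : TrivSqZeroExt.fst (lin i x) = res0 x := by
  induction x using MvPolynomial.induction_on with
  | C a => simp [lin, res0]
  | add p q hp hq => rw [map_add, TrivSqZeroExt.fst_add, hp, hq, map_add]
  | mul_X p j hp =>
    rw [map_mul, TrivSqZeroExt.fst_mul, hp, map_mul]
    congr 1
    simp only [lin, res0, MvPolynomial.eval₂Hom_X', RingHom.comp_apply, MvPolynomial.constantCoeff_X, map_zero]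
    split_ifs <;> simp

include hd hc in
theorem lin_eq_zero {x : MvPolynomial (Fin r) A}
    (hx : x ∈ RingHom.ker (res0 (A := A) (r := r)) ^ 2 ⊔ Ideal.span (Set.range (rel d c))) (i : Fin r) :
    lin i x = 0 := by
  refine RingHom.mem_ker.mp ((show _ ≤ RingHom.ker (lin (A := A) i) from sup_le ?_ ?_) hx)
  · rw [pow_two, Ideal.mul_le]
    intro a ha b hb
    rw [RingHom.mem_ker, map_mul]
    have ha' : TrivSqZeroExt.fst (lin i a) = 0 := (lin_fst i a).trans ha
    have hb' : TrivSqZeroExt.fst (lin i b) = 0 := (lin_fst i b).trans hb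
    refine TrivSqZeroExt.ext ?_ ?_
    · rw [TrivSqZeroExt.fst_mul, ha', zero_mul]; rfl
    · rw [DualNumber.snd_mul, ha', hb', zero_mul, mul_zero, add_zero]; rfl
  · rw [Ideal.span_le]
    rintro _ ⟨j, rfl⟩
    have he2 : (DualNumber.eps : DualNumber (ResidueField A)) ^ d j = 0 := by
      obtain ⟨n, hn⟩ : ∃ n, d j = 2 + n := ⟨d j - 2, by have := hd j; omega⟩
      rw [hn, pow_add, pow_two, DualNumber.eps_mul_eps, zero_mul]
    have hcz : ∀ k, residue A (c j k) = 0 := fun k => (residue_eq_zero_iff _).mpr (hc j k)
    show lin i (rel d c j) = 0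
    rw [rel, map_add, map_pow, map_sum, Finset.sum_eq_zero (fun k _ => ?_), add_zero]
    · simp only [lin, MvPolynomial.eval₂Hom_X']
      split_ifs
      · exact he2
      · exact zero_pow (by have := hd j; omega)
    · rw [map_mul]
      simp [lin, hcz]

variable [IsLocalRing (Quot' d c)]

include hd hc in
theorem maximalIdeal_eq : maximalIdeal (Quot' d c) =
    (RingHom.ker (res0 (A := A) (r := r))).map (Ideal.Quotient.mk _) :=
  eq_map_of_isMaximal hd hc _

include hd hc in
theorem mk_mem_sq (x : MvPolynomial (Fin r) A) :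
    Ideal.Quotient.mk (Ideal.span (Set.range (rel d c))) x ∈ maximalIdeal (Quot' d c) ^ 2 ↔
      x ∈ RingHom.ker (res0 (A := A) (r := r)) ^ 2 ⊔ Ideal.span (Set.range (rel d c)) := by
  rw [maximalIdeal_eq hd hc, ← Ideal.map_pow, ← Ideal.mem_comap,
    Ideal.comap_map_of_surjective _ Ideal.Quotient.mk_surjective, ← RingHom.ker_eq_comap_bot, Ideal.mk_ker]

include hd hc in
theorem mk_mem {x : MvPolynomial (Fin r) A} (hx : MvPolynomial.constantCoeff x ∈ maximalIdeal A) :
    Ideal.Quotient.mk (Ideal.span (Set.range (rel d c))) x ∈ maximalIdeal (Quot' d c) := by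
  rw [maximalIdeal_eq hd hc]
  exact Ideal.mem_map_of_mem _ (mem_ker_res0.mpr hx)

include hd hc in
theorem algebraMap_c_mem_sq (i : Fin r) : algebraMap A (Quot' d c) (c i 0) ∈ maximalIdeal (Quot' d c) ^ 2 := by
  let π := Ideal.Quotient.mk (Ideal.span (Set.range (rel d c)))
  have hX : π (MvPolynomial.X i) ∈ maximalIdeal (Quot' d c) :=
    mk_mem hd hc (by rw [MvPolynomial.constantCoeff_X]; exact zero_mem _)
  have hC : ∀ k, π (MvPolynomial.C (c i k)) ∈ maximalIdeal (Quot' d c) := fun k =>
    mk_mem hd hc (by rw [MvPolynomial.constantCoeff_C]; exact hc i k)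
  have h0 : π (rel d c i) = 0 := Ideal.Quotient.eq_zero_iff_mem.mpr (Ideal.subset_span ⟨i, rfl⟩)
  have hmem : (0 : ℕ) ∈ Finset.range (d i) := Finset.mem_range.mpr (by have := hd i; omega)
  rw [rel, map_add, map_sum, ← Finset.add_sum_erase _ _ hmem, pow_zero, mul_one] at h0
  show π (MvPolynomial.C (c i 0)) ∈ _
  have hrest : π (MvPolynomial.X i ^ d i) +
      ((Finset.range (d i)).erase 0).sum (fun k => π (MvPolynomial.C (c i k) * MvPolynomial.X i ^ k)) ∈
      maximalIdeal (Quot' d c) ^ 2 := by
    refine add_mem ?_ (Submodule.sum_mem _ fun k hk => ?_)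
    · rw [map_pow]
      exact Ideal.pow_le_pow_right (hd i) (Ideal.pow_mem_pow hX _)
    · rw [map_mul, map_pow, pow_two]
      exact Ideal.mul_mem_mul (hC k) (Ideal.pow_mem_of_mem _ hX _ (Nat.pos_of_ne_zero (Finset.ne_of_mem_erase hk)))
  have := neg_mem hrest
  convert this using 1
  linear_combination h0

include hd hc in
theorem residue_comp_surjective :
    Function.Surjective ((residue (Quot' d c)).comp (algebraMap A (Quot' d c))) := by
  intro v
  obtain ⟨y, rfl⟩ := residue_surjective v
  obtain ⟨q, rfl⟩ := Ideal.Quotient.mk_surjective y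
  refine ⟨MvPolynomial.constantCoeff q, Ideal.Quotient.eq.mpr ?_⟩
  show Ideal.Quotient.mk (Ideal.span (Set.range (rel d c))) (MvPolynomial.C (MvPolynomial.constantCoeff q)) -
    Ideal.Quotient.mk (Ideal.span (Set.range (rel d c))) q ∈ _
  rw [← map_sub]
  exact mk_mem hd hc (by rw [map_sub, MvPolynomial.constantCoeff_C, sub_self]; exact zero_mem _)

include hd hc in
theorem inf_comap_sq (hm : maximalIdeal A ^ 2 = ⊥) :
    maximalIdeal A ⊓ Ideal.comap (algebraMap A (Quot' d c)) (maximalIdeal (Quot' d c) ^ 2) =
      Ideal.span (Set.range fun i => c i 0) := by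
  refine le_antisymm ?_ (Ideal.span_le.mpr ?_)
  · rintro x ⟨_, hx⟩
    have := constantCoeff_mem_sq hd ((mk_mem_sq hd hc (MvPolynomial.C x)).mp hx)
    rwa [MvPolynomial.constantCoeff_C, hm, bot_sup_eq] at this
  · rintro _ ⟨i, rfl⟩
    exact ⟨hc i 0, algebraMap_c_mem_sq hd hc i⟩

include hd hc in
/-- `dim cot B + dim span c̄ = dim cot A + r`. -/
theorem finrank_cotangent [IsNoetherianRing A] :
    Module.finrank (ResidueField (Quot' d c)) (CotangentSpace (Quot' d c)) +
      Module.finrank (ResidueField A)
        (Submodule.span (ResidueField A) (Set.range fun i => (maximalIdeal A).toCotangent ⟨c i 0, hc i 0⟩)) =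
    Module.finrank (ResidueField A) (CotangentSpace A) + r := by
  let B := Quot' d c
  let π := Ideal.Quotient.mk (Ideal.span (Set.range (rel d c)))
  let mB := maximalIdeal B
  have hAm : maximalIdeal A ≤ mB.comap (algebraMap A B) := fun a ha =>
    mk_mem hd hc (by rw [MvPolynomial.algebraMap_eq, MvPolynomial.constantCoeff_C]; exact ha)
  let ρ : ResidueField A →+* ResidueField B :=
    Ideal.Quotient.lift (maximalIdeal A) ((residue B).comp (algebraMap A B))
      (fun a ha => (residue_eq_zero_iff _).mpr (hAm ha))
  have hρ : Function.Bijective ρ := by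
    refine ⟨ρ.injective, fun v => ?_⟩
    obtain ⟨a, ha⟩ := residue_comp_surjective hd hc v
    exact ⟨residue A a, ha⟩
  letI mK : Module (ResidueField A) (CotangentSpace B) := Module.compHom _ ρ
  haveI : IsScalarTower A (ResidueField A) (CotangentSpace B) := IsScalarTower.of_algebraMap_smul fun a v => by
    show residue B (algebraMap A B a) • v = a • v
    rw [← ResidueField.algebraMap_eq, algebraMap_smul, algebraMap_smul]
  let ιA : CotangentSpace A →ₗ[ResidueField A] CotangentSpace B :=
    ((maximalIdeal A).mapCotangent mB (Algebra.ofId A B) hAm).extendScalarsOfSurjective residue_surjective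
  have hιA : ∀ a : maximalIdeal A, ιA ((maximalIdeal A).toCotangent a) = mB.toCotangent ⟨algebraMap A B a, hAm a.2⟩ :=
    fun a => rfl
  let t : Fin r → CotangentSpace B := fun i =>
    mB.toCotangent ⟨π (MvPolynomial.X i), mk_mem hd hc (by rw [MvPolynomial.constantCoeff_X]; exact zero_mem _)⟩
  let Ψ : (CotangentSpace A × (Fin r → ResidueField A)) →ₗ[ResidueField A] CotangentSpace B :=
    ιA.coprod (Fintype.linearCombination (ResidueField A) t)
  have hsmul : ∀ (a : A) (v : CotangentSpace B), residue A a • v = algebraMap A B a • v := fun a v => by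
    show residue B (algebraMap A B a) • v = _
    rw [← ResidueField.algebraMap_eq, algebraMap_smul]
  have hΨ : Function.Surjective Ψ := by
    have key : ∀ q : MvPolynomial (Fin r) A, ∃ h : π (q - MvPolynomial.C (MvPolynomial.constantCoeff q)) ∈ mB,
        mB.toCotangent ⟨_, h⟩ ∈ LinearMap.range Ψ := by
      intro q
      have hmem : π (q - MvPolynomial.C (MvPolynomial.constantCoeff q)) ∈ mB :=
        mk_mem hd hc (by rw [map_sub, MvPolynomial.constantCoeff_C, sub_self]; exact zero_mem _)
      refine ⟨hmem, ?_⟩
      induction q using MvPolynomial.induction_on with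
      | C a =>
        convert zero_mem (LinearMap.range Ψ)
        rw [Ideal.toCotangent_eq_zero]
        simp
      | add p q hp hq =>
        have hp' : π (p - MvPolynomial.C (MvPolynomial.constantCoeff p)) ∈ mB :=
          mk_mem hd hc (by rw [map_sub, MvPolynomial.constantCoeff_C, sub_self]; exact zero_mem _)
        have hq' : π (q - MvPolynomial.C (MvPolynomial.constantCoeff q)) ∈ mB :=
          mk_mem hd hc (by rw [map_sub, MvPolynomial.constantCoeff_C, sub_self]; exact zero_mem _)
        convert add_mem (hp hp') (hq hq') using 1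
        rw [← map_add]
        congr 1
        exact Subtype.ext (by show π _ = π _ + π _; rw [← map_add π]; congr 1; simp only [map_add]; ring)
      | mul_X p i _ =>
        obtain ⟨a, ha⟩ := residue_comp_surjective hd hc (residue B (π p))
        refine ⟨(0, Pi.single i (residue A a)), ?_⟩
        show ιA 0 + Fintype.linearCombination (ResidueField A) t (Pi.single i (residue A a)) = _
        rw [map_zero, zero_add, Fintype.linearCombination_apply_single, hsmul, ← map_smul, Ideal.toCotangent_eq]
        show algebraMap A B a * π (MvPolynomial.X i) -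
          π (p * MvPolynomial.X i - MvPolynomial.C (MvPolynomial.constantCoeff (p * MvPolynomial.X i))) ∈ _
        rw [map_mul MvPolynomial.constantCoeff, MvPolynomial.constantCoeff_X, mul_zero, map_zero, sub_zero,
          map_mul, ← sub_mul, pow_two]
        refine Ideal.mul_mem_mul ((residue_eq_zero_iff _).mp ?_) (mk_mem hd hc (by rw [MvPolynomial.constantCoeff_X]; exact zero_mem _))
        rw [map_sub, sub_eq_zero]
        exact ha
    intro v
    obtain ⟨⟨y, hy⟩, rfl⟩ := mB.toCotangent_surjective v
    obtain ⟨q, rfl⟩ := Ideal.Quotient.mk_surjective y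
    obtain ⟨h, hk⟩ := key q
    have ha : MvPolynomial.constantCoeff q ∈ maximalIdeal A := by
      have h2 : π (MvPolynomial.C (MvPolynomial.constantCoeff q)) ∈ mB := by
        have := sub_mem hy h
        rwa [← map_sub, sub_sub_cancel] at this
      by_contra hu
      exact Ideal.IsPrime.ne_top inferInstance
        (Ideal.eq_top_of_isUnit_mem mB h2 (IsUnit.map _ (IsUnit.map _ (by simpa using hu))))
    show mB.toCotangent ⟨π q, hy⟩ ∈ LinearMap.range Ψ
    have hsum : mB.toCotangent ⟨π q, hy⟩ =
        mB.toCotangent ⟨_, h⟩ + Ψ ((maximalIdeal A).toCotangent ⟨_, ha⟩, 0) := by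
      rw [LinearMap.coprod_apply, map_zero, add_zero, hιA, ← map_add]
      congr 1
      exact Subtype.ext (show π q = π _ + π _ by rw [← map_add π, MvPolynomial.algebraMap_eq, sub_add_cancel])
    rw [hsum]
    exact add_mem hk (LinearMap.mem_range_self _ _)
  let W0 := Submodule.span (ResidueField A) (Set.range fun i => (maximalIdeal A).toCotangent ⟨c i 0, hc i 0⟩)
  have hker : LinearMap.ker Ψ = W0.prod ⊥ := by
    refine le_antisymm ?_ ?_
    · rintro ⟨v, w⟩ hvw
      obtain ⟨a, rfl⟩ := (maximalIdeal A).toCotangent_surjective v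
      choose b hb using fun i => residue_surjective (w i)
      have hv : Ψ ((maximalIdeal A).toCotangent a, w) = mB.toCotangent
          ⟨π (MvPolynomial.C (a : A) + ∑ i, MvPolynomial.C (b i) * MvPolynomial.X i),
            mk_mem hd hc (by simp [a.2])⟩ := by
        rw [LinearMap.coprod_apply]
        dsimp only
        rw [hιA, Fintype.linearCombination_apply]
        simp only [← hb, hsmul, t, ← map_smul, ← map_sum, ← map_add]
        congr 1
        refine Subtype.ext ?_
        rw [Submodule.coe_add, AddSubmonoidClass.coe_finsetSum]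
        show _ = π _
        rw [map_add π, map_sum π]
        refine congrArg₂ _ rfl (Finset.sum_congr rfl fun i _ => ?_)
        rw [map_mul]; rfl
      rw [LinearMap.mem_ker, hv, Ideal.toCotangent_eq_zero] at hvw
      have hq := (mk_mem_sq hd hc _).mp hvw
      have hw : w = 0 := funext fun i => by
        have := congrArg TrivSqZeroExt.snd (lin_eq_zero hd hc hq i)
        have hfin : ∀ j, TrivSqZeroExt.snd (lin (A := A) i (MvPolynomial.C (b j) * MvPolynomial.X j)) =
            if j = i then residue A (b j) else 0 := fun j => by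
          simp only [lin, map_mul, MvPolynomial.eval₂Hom_C, MvPolynomial.eval₂Hom_X', RingHom.comp_apply]
          split_ifs <;> simp
        rw [map_add, map_sum, TrivSqZeroExt.snd_add, TrivSqZeroExt.snd_sum] at this
        simp only [hfin, Finset.sum_ite_eq', Finset.mem_univ, if_true] at this
        simp only [lin, MvPolynomial.eval₂Hom_C, RingHom.comp_apply, TrivSqZeroExt.snd_zero] at this
        rw [← hb]
        simpa using this
      have h0 := constantCoeff_mem_sq hd hq
      rw [map_add, MvPolynomial.constantCoeff_C, map_sum, Finset.sum_eq_zero (fun i _ => by simp), add_zero] at h0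
      refine ⟨?_, hw⟩
      obtain ⟨u, hu, z, hz, huz⟩ := Submodule.mem_sup.mp h0
      obtain ⟨l, hl⟩ := (Ideal.mem_span_range_iff_exists_fun).mp hz
      have : (maximalIdeal A).toCotangent a = ∑ i, residue A (l i) • (maximalIdeal A).toCotangent ⟨c i 0, hc i 0⟩ := by
        simp only [← ResidueField.algebraMap_eq, algebraMap_smul, ← map_smul, ← map_sum]
        rw [Ideal.toCotangent_eq, AddSubmonoidClass.coe_finsetSum]
        simp only [Submodule.coe_smul, smul_eq_mul]
        rw [hl, ← huz, add_sub_cancel_right]
        exact hu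
      show (maximalIdeal A).toCotangent a ∈ W0
      rw [this]
      exact Submodule.sum_mem _ fun i _ => Submodule.smul_mem _ _ (Submodule.subset_span ⟨i, rfl⟩)
    · have : W0 ≤ (LinearMap.ker Ψ).comap (LinearMap.inl _ _ _) := by
        refine Submodule.span_le.mpr ?_
        rintro _ ⟨i, rfl⟩
        rw [SetLike.mem_coe, Submodule.mem_comap, LinearMap.mem_ker, LinearMap.inl_apply, LinearMap.coprod_apply,
          map_zero, add_zero, hιA, Ideal.toCotangent_eq_zero]
        exact algebraMap_c_mem_sq hd hc i
      rintro ⟨v, w⟩ ⟨hv, hw⟩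
      obtain rfl : w = 0 := hw
      exact this hv
  have h1 := LinearMap.finrank_range_add_finrank_ker Ψ
  have h2 : Module.finrank (ResidueField A) (W0.prod (⊥ : Submodule (ResidueField A) (Fin r → ResidueField A))) =
      Module.finrank (ResidueField A) W0 := by
    have : W0.prod (⊥ : Submodule (ResidueField A) (Fin r → ResidueField A)) = W0.map (LinearMap.inl _ _ _) := by
      rw [Submodule.map_inl]
    rw [this]
    exact (Submodule.equivMapOfInjective _ LinearMap.inl_injective W0).finrank_eq.symm
  rw [LinearMap.range_eq_top.mpr hΨ, finrank_top, hker, h2, Module.finrank_prod, Module.finrank_fin_fun] at h1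
  have h3 : Module.finrank (ResidueField A) (CotangentSpace B) = Module.finrank (ResidueField B) (CotangentSpace B) := by
    unfold Module.finrank
    rw [rank_eq_of_equiv_equiv ρ (AddEquiv.refl (CotangentSpace B)) hρ (fun a m => rfl)]
  rw [h3] at h1
  exact h1

end Groth.L06.MonicCot
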