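import Mathlib.RingTheory.PowerSeries.Inverse
import Mathlib.RingTheory.MvPowerSeries.Basic
import Mathlib.Data.Finsupp.Antidiagonal
import Mathlib.RingTheory.Length
import Mathlib.Algebra.Group.Pi.Units
import Mathlib.RingTheory.Ideal.Cotangent
import Mathlib.RingTheory.IntegralClosure.IntegrallyClosed
import Mathlib.RingTheory.Localization.FractionRing
import Mathlib.RingTheory.Ideal.MinimalPrime.Basic
import Mathlib.LinearAlgebra.Dimension.Constructions
import Groth.Prelude.Def_Curv2

/-!
The multicross `k[[T_1,…,T_n]]/(T_iT_j)` and rings embedded as the tuples with common constant term.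
-/

set_option autoImplicit false
set_option linter.style.haveILetI false
set_option maxSynthPendingDepth 3
noncomputable section
universe u

open Finset

namespace Groth.L06.Multicross

variable (k : Type u) [Field k] (n : ℕ)

/-- Tuples of power series. -/
abbrev N : Type u := Fin n → PowerSeries k

/-- Tuples with common constant term. -/
def crossSet : Set (N k n) :=
  {f | ∀ i j : Fin n, PowerSeries.constantCoeff (f i) = PowerSeries.constantCoeff (f j)}

/-- The ideal of the multicross. -/
abbrev J : Ideal (MvPowerSeries (Fin n) k) :=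
  Ideal.span {f : MvPowerSeries (Fin n) k | ∃ i j : Fin n, i ≠ j ∧ f = MvPowerSeries.X i * MvPowerSeries.X j}

/-- Restriction to the axes. -/
def psi : MvPowerSeries (Fin n) k →+* N k n where
  toFun f i := PowerSeries.mk fun d => MvPowerSeries.coeff (Finsupp.single i d) f
  map_one' := by
    classical
    funext i
    ext d
    simp [MvPowerSeries.coeff_one, PowerSeries.coeff_one]
  map_mul' f g := by
    classical
    funext i
    ext d
    simp [PowerSeries.coeff_mul, MvPowerSeries.coeff_mul, Finsupp.antidiagonal_single]
  map_zero' := by funext i; ext d; simp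
  map_add' f g := by funext i; ext d; simp

theorem coeff_psi (f : MvPowerSeries (Fin n) k) (i : Fin n) (d : ℕ) :
    PowerSeries.coeff d (psi k n f i) = MvPowerSeries.coeff (Finsupp.single i d) f := by
  simp [psi]

theorem psi_C (c : k) : psi k n (MvPowerSeries.C c) = fun _ => algebraMap k (PowerSeries k) c := by
  classical
  funext i
  ext d
  rw [coeff_psi, MvPowerSeries.coeff_C]
  show _ = PowerSeries.coeff d (PowerSeries.C c)
  rw [PowerSeries.coeff_C]
  rcases Nat.eq_zero_or_pos d with rfl | hd
  · simp
  · simp [Finsupp.single_eq_zero, hd.ne']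

theorem constantCoeff_psi (f : MvPowerSeries (Fin n) k) (i : Fin n) :
    PowerSeries.constantCoeff (psi k n f i) = MvPowerSeries.constantCoeff f := by
  rw [← PowerSeries.coeff_zero_eq_constantCoeff_apply, coeff_psi, Finsupp.single_zero,
    MvPowerSeries.coeff_zero_eq_constantCoeff_apply]

theorem range_psi : Set.range (psi k n) = crossSet k n := by
  classical
  refine Set.Subset.antisymm ?_ fun f hf => ?_
  · rintro _ ⟨f, rfl⟩ i j
    rw [constantCoeff_psi, constantCoeff_psi]
  · let g : MvPowerSeries (Fin n) k := fun d =>
      if hd : d = 0 then (if hn : 0 < n then PowerSeries.constantCoeff (f ⟨0, hn⟩) else 0)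
      else if h : ∃ i, d = Finsupp.single i (d i) then PowerSeries.coeff (d h.choose) (f h.choose) else 0
    refine ⟨g, funext fun i => PowerSeries.ext fun d => ?_⟩
    rw [coeff_psi]
    show g (Finsupp.single i d) = _
    rcases Nat.eq_zero_or_pos d with rfl | hd
    · simp only [g, Finsupp.single_zero, dite_true]
      rw [dif_pos (show 0 < n from Fin.pos i), PowerSeries.coeff_zero_eq_constantCoeff_apply]
      exact hf _ _
    · have hne : Finsupp.single i d ≠ 0 := by simp [hd.ne']
      have hex : ∃ j, Finsupp.single i d = Finsupp.single j (Finsupp.single i d j) := ⟨i, by simp⟩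
      simp only [g, dif_neg hne, dif_pos hex]
      have hi : hex.choose = i := by
        have hs := hex.choose_spec
        rcases (Finsupp.single_eq_single_iff _ _ _ _).mp hs with h | h
        · exact h.1.symm
        · exact absurd h.1 hd.ne'
      rw [hi, Finsupp.single_eq_same]

theorem ker_psi (hn : 0 < n) : RingHom.ker (psi k n) = J k n := by
  classical
  refine le_antisymm (fun f hf => ?_) (Ideal.span_le.mpr ?_)
  · have hax : ∀ i d, MvPowerSeries.coeff (Finsupp.single i d) f = 0 := fun i d => by
      rw [← coeff_psi, RingHom.mem_ker.mp hf, Pi.zero_apply, map_zero]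
    let s : Fin n × Fin n → (Fin n →₀ ℕ) := fun p => Finsupp.single p.1 1 + Finsupp.single p.2 1
    let sel : (Fin n →₀ ℕ) → Option (Fin n × Fin n) := fun d =>
      if h : ∃ p : Fin n × Fin n, p.1 ≠ p.2 ∧ s p ≤ d then some h.choose else none
    let g : Fin n × Fin n → MvPowerSeries (Fin n) k := fun p e =>
      if sel (e + s p) = some p then MvPowerSeries.coeff (e + s p) f else 0
    have hsum : f = ∑ p : Fin n × Fin n, MvPowerSeries.monomial (s p) (1 : k) * g p := by
      ext d
      rw [map_sum]
      simp only [MvPowerSeries.coeff_monomial_mul, one_mul]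
      have hg : ∀ p, (if s p ≤ d then MvPowerSeries.coeff (d - s p) (g p) else 0) =
          if sel d = some p then MvPowerSeries.coeff d f else 0 := by
        intro p
        by_cases hp : s p ≤ d
        · rw [if_pos hp]
          show g p (d - s p) = _
          simp only [g, tsub_add_cancel_of_le hp]
        · rw [if_neg hp, if_neg]
          intro hsel
          simp only [sel] at hsel
          split at hsel
          · next h => exact hp (Option.some.inj hsel ▸ h.choose_spec.2)
          · simp at hsel
      rw [Finset.sum_congr rfl fun p _ => hg p]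
      by_cases h : ∃ p : Fin n × Fin n, p.1 ≠ p.2 ∧ s p ≤ d
      · have : sel d = some h.choose := by simp only [sel, dif_pos h]
        rw [Finset.sum_eq_single h.choose]
        · rw [if_pos this]
        · intro p _ hp
          rw [if_neg]
          rw [this]
          exact fun hh => hp (Option.some.inj hh).symm
        · simp
      · have hsel : sel d = none := by simp only [sel, dif_neg h]
        simp only [hsel, reduceCtorEq, if_false, Finset.sum_const_zero]
        -- `d` lies on an axis
        obtain rfl | ⟨i, hi⟩ : d = 0 ∨ ∃ i, d i ≠ 0 := by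
          by_cases hd : ∃ i, d i ≠ 0
          · exact Or.inr hd
          · push Not at hd
            exact Or.inl (Finsupp.ext hd)
        · simpa using hax ⟨0, hn⟩ 0
        · have hd : d = Finsupp.single i (d i) := by
            ext j
            by_cases hj : j = i
            · subst hj; simp
            · rw [Finsupp.single_eq_of_ne hj]
              by_contra hj'
              refine h ⟨(i, j), fun e => hj e.symm, fun a => ?_⟩
              simp only [s, Finsupp.add_apply]
              by_cases hai : a = i
              · subst hai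
                rw [Finsupp.single_eq_same, Finsupp.single_eq_of_ne (Ne.symm hj)]
                omega
              · by_cases haj : a = j
                · subst haj
                  rw [Finsupp.single_eq_same, Finsupp.single_eq_of_ne hai]
                  omega
                · rw [Finsupp.single_eq_of_ne hai, Finsupp.single_eq_of_ne haj]
                  omega
          rw [hd]
          exact hax i _
    rw [hsum]
    refine Ideal.sum_mem _ fun p _ => ?_
    by_cases hp : p.1 = p.2
    · have : g p = 0 := by
        ext e
        show g p e = 0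
        simp only [g]
        rw [if_neg]
        intro hsel
        simp only [sel] at hsel
        split at hsel
        · next h => exact h.choose_spec.1 (by rw [Option.some.inj hsel]; exact hp)
        · simp at hsel
      rw [this, mul_zero]
      exact zero_mem _
    · refine Ideal.mul_mem_right _ _ (Ideal.subset_span ⟨p.1, p.2, hp, ?_⟩)
      rw [MvPowerSeries.X_def, MvPowerSeries.X_def, MvPowerSeries.monomial_mul_monomial, one_mul]
  · rintro _ ⟨i, j, hij, rfl⟩
    rw [SetLike.mem_coe, RingHom.mem_ker]
    funext l
    ext d
    rw [coeff_psi, MvPowerSeries.X_def, MvPowerSeries.X_def, MvPowerSeries.monomial_mul_monomial, one_mul,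
      MvPowerSeries.coeff_monomial, Pi.zero_apply, map_zero, if_neg]
    intro h
    have hi := DFunLike.congr_fun h i
    have hj := DFunLike.congr_fun h j
    simp only [Finsupp.add_apply, Finsupp.single_apply] at hi hj
    by_cases h1 : l = i
    · subst h1; simp [hij, Ne.symm hij] at hi hj
    · simp [h1] at hi
      omega

/-- Identification of a ring of tuples with common constant term with the multicross. -/
theorem exists_equiv (hn : 0 < n) {B : Type u} [CommRing B] (φ : B →+* N k n) (hinj : Function.Injective φ)
    (hrange : Set.range φ = crossSet k n) :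
    ∃ e : B ≃+* MvPowerSeries (Fin n) k ⧸ J k n, ∀ (b : B) (c : k),
      φ b = (fun _ => algebraMap k (PowerSeries k) c) → e b = Ideal.Quotient.mk _ (MvPowerSeries.C c) := by
  let ψ : MvPowerSeries (Fin n) k ⧸ J k n →+* N k n :=
    Ideal.Quotient.lift _ (psi k n) (fun a ha => by rwa [← RingHom.mem_ker, ker_psi k n hn])
  have hψi : Function.Injective ψ :=
    RingHom.lift_injective_of_ker_le_ideal _ _ (ker_psi k n hn).le
  have hψr : Set.range ψ = crossSet k n := by
    rw [← range_psi k n]
    exact Set.Subset.antisymm (by rintro _ ⟨x, rfl⟩; obtain ⟨x, rfl⟩ := Ideal.Quotient.mk_surjective x; exact ⟨x, rfl⟩)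
      (by rintro _ ⟨x, rfl⟩; exact ⟨Ideal.Quotient.mk _ x, rfl⟩)
  have hmem : ∀ b, ∃ x, ψ x = φ b := fun b => by
    show φ b ∈ Set.range ψ
    rw [hψr, ← hrange]
    exact ⟨b, rfl⟩
  choose g hg using hmem
  let G : B →+* MvPowerSeries (Fin n) k ⧸ J k n :=
    { toFun := g
      map_one' := hψi (by rw [hg, map_one, map_one])
      map_mul' := fun a b => hψi (by rw [hg, map_mul, map_mul, hg, hg])
      map_zero' := hψi (by rw [hg, map_zero, map_zero])
      map_add' := fun a b => hψi (by rw [hg, map_add, map_add, hg, hg]) }
  refine ⟨RingEquiv.ofBijective G ⟨fun a b h => hinj (by rw [← hg a, ← hg b]; exact congrArg ψ h), fun x => ?_⟩,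
    fun b c h => hψi ?_⟩
  · obtain ⟨b, hb⟩ : ψ x ∈ Set.range φ := by rw [hrange, ← hψr]; exact ⟨x, rfl⟩
    exact ⟨b, hψi ((hg b).trans hb)⟩
  · show ψ (g b) = _
    rw [hg, h]
    exact (psi_C k n c).symm

/-- The multicross embeds in the tuples. -/
theorem exists_hom_of_equiv (hn : 0 < n) {B : Type u} [CommRing B] (e : B ≃+* MvPowerSeries (Fin n) k ⧸ J k n) :
    ∃ φ : B →+* N k n, Function.Injective φ ∧ Set.range φ = crossSet k n := by
  have hJ : ∀ a ∈ J k n, psi k n a = 0 := fun a ha => by rwa [← RingHom.mem_ker, ker_psi k n hn]
  refine ⟨(Ideal.Quotient.lift _ (psi k n) hJ).comp e.toRingHom,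
    Function.Injective.comp (g := Ideal.Quotient.lift _ (psi k n) hJ)
      (RingHom.lift_injective_of_ker_le_ideal _ hJ (ker_psi k n hn).le) e.injective, ?_⟩
  rw [RingHom.coe_comp, Set.range_comp, show Set.range (e.toRingHom : B → _) = Set.univ from e.surjective.range_eq,
    Set.image_univ, ← range_psi k n]
  exact Set.Subset.antisymm (by rintro _ ⟨x, rfl⟩; obtain ⟨x, rfl⟩ := Ideal.Quotient.mk_surjective x; exact ⟨x, rfl⟩)
    (by rintro _ ⟨x, rfl⟩; exact ⟨Ideal.Quotient.mk _ x, rfl⟩)

section Cross

variable {k n} {B : Type u} [CommRing B] (φ : B →+* N k n) (hinj : Function.Injective φ)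
  (hrange : Set.range φ = crossSet k n)

include hrange

theorem cc_eq (b : B) (i j : Fin n) :
    PowerSeries.constantCoeff (φ b i) = PowerSeries.constantCoeff (φ b j) :=
  (show φ b ∈ crossSet k n by rw [← hrange]; exact ⟨b, rfl⟩) i j

theorem exists_of_cc_zero (f : N k n) (h : ∀ i, PowerSeries.constantCoeff (f i) = 0) : ∃ b, φ b = f := by
  show f ∈ Set.range φ
  rw [hrange]
  intro i j
  rw [h i, h j]

theorem exists_const (f : PowerSeries k) : ∃ b, φ b = fun _ => f := by
  show (fun _ => f) ∈ Set.range φ
  rw [hrange]
  intro i j
  rfl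

theorem exists_single (i : Fin n) : ∃ b, φ b = Pi.single i PowerSeries.X := by
  refine exists_of_cc_zero φ hrange _ fun j => ?_
  by_cases hj : j = i
  · subst hj; simp
  · simp [hj]

include hinj

theorem encard_minimalPrimes : (minimalPrimes B).encard = n := by
  classical
  let P : Fin n → Ideal B := fun i => RingHom.ker ((Pi.evalRingHom (fun _ => PowerSeries k) i).comp φ)
  have hP : ∀ i, (P i).IsPrime := fun i => RingHom.ker_isPrime _
  have hne : ∀ i j, P j ≤ P i → i = j := by
    intro i j hle
    by_contra hij
    obtain ⟨b, hb⟩ := exists_single φ hrange i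
    have h1 : b ∈ P j := by
      show φ b j = 0
      rw [hb, Pi.single_eq_of_ne (Ne.symm hij)]
    have h2 : φ b i = 0 := hle h1
    rw [hb, Pi.single_eq_same] at h2
    exact PowerSeries.X_ne_zero h2
  have hle : ∀ Q : Ideal B, Q.IsPrime → ∃ i, P i ≤ Q := by
    intro Q hQ
    have h0 : ∏ i, P i ≤ Q := by
      refine le_trans Ideal.prod_le_inf (fun b hb => ?_)
      have : b = 0 := hinj (funext fun i => by
        rw [map_zero]
        exact (Finset.inf_le (f := P) (Finset.mem_univ i)) hb)
      rw [this]
      exact zero_mem _
    obtain ⟨i, -, hi⟩ := hQ.prod_le.mp h0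
    exact ⟨i, hi⟩
  have heq : minimalPrimes B = P '' Set.univ := by
    ext Q
    constructor
    · intro hQ
      obtain ⟨i, hi⟩ := hle Q hQ.1.1
      exact ⟨i, trivial, le_antisymm hi (hQ.2 ⟨hP i, bot_le⟩ hi)⟩
    · rintro ⟨i, -, rfl⟩
      refine ⟨⟨hP i, bot_le⟩, fun R hR hRP => ?_⟩
      obtain ⟨j, hj⟩ := hle R hR.1
      rw [hne i j (hj.trans hRP)]
      exact hj
  have hPi : Function.Injective P := fun i j h => hne i j h.ge
  rw [heq, hPi.encard_image, Set.encard_univ]
  simp

theorem cc_eq_zero_of_mem [IsLocalRing B] {b : B} (hb : b ∈ IsLocalRing.maximalIdeal B) (i : Fin n) :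
    PowerSeries.constantCoeff (φ b i) = 0 := by
  by_contra h
  have hu : ∀ j, IsUnit (φ b j) := fun j =>
    PowerSeries.isUnit_iff_constantCoeff.2 (isUnit_iff_ne_zero.2 (by rw [cc_eq φ hrange b j i]; exact h))
  choose w hw using fun j => (hu j).exists_right_inv
  obtain ⟨s, hs⟩ : ∃ s, φ s = w := by
    show w ∈ Set.range φ
    rw [hrange]
    intro a c
    have ha := congrArg PowerSeries.constantCoeff (hw a)
    have hc := congrArg PowerSeries.constantCoeff (hw c)
    rw [map_mul, map_one, cc_eq φ hrange b a c] at ha
    rw [map_mul, map_one] at hc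
    exact mul_left_cancel₀ (by rw [cc_eq φ hrange b c i]; exact h) (ha.trans hc.symm)
  refine (IsLocalRing.mem_maximalIdeal b).1 hb (IsUnit.of_mul_eq_one s (hinj ?_))
  rw [map_mul, map_one, hs]
  exact funext hw

set_option maxHeartbeats 800000 in
theorem finrank_cotangent [IsLocalRing B] (hn : 0 < n) :
    Module.finrank (IsLocalRing.ResidueField B) (IsLocalRing.CotangentSpace B) = n := by
  classical
  let m := IsLocalRing.maximalIdeal B
  choose t ht using fun i => exists_single φ hrange i
  have htm : ∀ i, t i ∈ m := fun i => (IsLocalRing.mem_maximalIdeal _).mpr fun h => by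
    have h1 := ((h.map φ).map (Pi.evalRingHom (fun _ => PowerSeries k) i))
    change IsUnit (φ (t i) i) at h1
    rw [ht, Pi.single_eq_same] at h1
    exact PowerSeries.X_prime.not_isUnit h1
  have hspan : Ideal.span (Set.range t) = m := by
    refine le_antisymm (Ideal.span_le.mpr (by rintro _ ⟨i, rfl⟩; exact htm i)) fun b hb => ?_
    choose g hg using fun i => PowerSeries.X_dvd_iff.mpr (cc_eq_zero_of_mem φ hinj hrange hb i)
    choose a ha using fun i => exists_const φ hrange (g i)
    have : b = ∑ i, a i * t i := by
      refine hinj (funext fun j => ?_)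
      rw [map_sum, Finset.sum_apply, Finset.sum_eq_single j]
      · rw [map_mul, Pi.mul_apply, ha, ht, Pi.single_eq_same, hg j, mul_comm]
      · intro i _ hij
        rw [map_mul, Pi.mul_apply, ht, Pi.single_eq_of_ne (Ne.symm hij), mul_zero]
      · simp
    rw [this]
    exact Ideal.sum_mem _ fun i _ => Ideal.mul_mem_left _ _ (Ideal.subset_span ⟨i, rfl⟩)
  let x : Fin n → m := fun i => ⟨t i, htm i⟩
  let v : Fin n → IsLocalRing.CotangentSpace B := fun i => m.toCotangent (x i)
  have hv : LinearIndependent (IsLocalRing.ResidueField B) v := by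
    rw [Fintype.linearIndependent_iff]
    intro c hc i
    choose a ha using fun i => IsLocalRing.residue_surjective (c i)
    rw [← ha i, IsLocalRing.residue_eq_zero_iff]
    have h0 : m.toCotangent (∑ i, a i • x i) = 0 := by
      rw [map_sum, ← hc]
      refine Finset.sum_congr rfl fun i _ => ?_
      rw [map_smul, ← ha, ← IsLocalRing.ResidueField.algebraMap_eq, algebraMap_smul]
    rw [Ideal.toCotangent_eq_zero, Submodule.coe_sum] at h0
    have h2 : ∀ y ∈ m ^ 2, PowerSeries.coeff 1 (φ y i) = 0 := by
      intro y hy
      rw [pow_two] at hy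
      refine Submodule.mul_induction_on hy (fun p hp q hq => ?_) (fun p q hp hq => ?_)
      · rw [map_mul, Pi.mul_apply, PowerSeries.coeff_one_mul, cc_eq_zero_of_mem φ hinj hrange hp,
          cc_eq_zero_of_mem φ hinj hrange hq, mul_zero, mul_zero, add_zero]
      · rw [map_add, Pi.add_apply, map_add, hp, hq, add_zero]
    have h1 := h2 _ h0
    simp only [x, Submodule.coe_smul, smul_eq_mul, map_sum, Finset.sum_apply] at h1
    rw [Finset.sum_eq_single i, map_mul, Pi.mul_apply, ht, Pi.single_eq_same, PowerSeries.coeff_one_mul] at h1
    · simp at h1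
      exact (IsLocalRing.mem_maximalIdeal _).mpr fun hu => by
        have := ((hu.map φ).map (Pi.evalRingHom (fun _ => PowerSeries k) i)).map PowerSeries.constantCoeff
        change IsUnit (PowerSeries.constantCoeff (φ (a i) i)) at this
        rw [h1] at this
        exact not_isUnit_zero this
    · intro j _ hji
      rw [map_mul, Pi.mul_apply, ht, Pi.single_eq_of_ne (Ne.symm hji), mul_zero, map_zero]
    · simp
  have hsp : Submodule.span (IsLocalRing.ResidueField B) (Set.range v) = ⊤ := by
    rw [eq_top_iff]
    intro z _
    obtain ⟨⟨y, hy⟩, rfl⟩ := m.toCotangent_surjective z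
    have hy' : y ∈ Submodule.span B (Set.range t) := by
      show y ∈ Ideal.span (Set.range t)
      rw [hspan]; exact hy
    obtain ⟨a, ha⟩ := (Submodule.mem_span_range_iff_exists_fun B).mp hy'
    have : (⟨y, hy⟩ : m) = ∑ i, a i • x i := Subtype.ext (by simp [x, ← ha, Submodule.coe_sum])
    rw [this, map_sum]
    refine Submodule.sum_mem _ fun i _ => ?_
    rw [map_smul, ← algebraMap_smul (IsLocalRing.ResidueField B)]
    exact Submodule.smul_mem _ _ (Submodule.subset_span ⟨i, rfl⟩)
  rw [Module.finrank_eq_card_basis (Module.Basis.mk hv hsp.ge), Fintype.card_fin]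

set_option maxHeartbeats 1000000 in
set_option synthInstance.maxHeartbeats 400000 in
theorem deltaInv_add_one (hn : 0 < n) : Curv2.deltaInv B + 1 = n := by
  classical
  obtain ⟨m, rfl⟩ : ∃ m, n = m + 1 := ⟨n - 1, by omega⟩
  let F := FractionRing (PowerSeries k)
  let K : Type u := Fin (m + 1) → F
  letI : Algebra B (N k (m + 1)) := φ.toAlgebra
  let j : N k (m + 1) →+* K := Pi.ringHom fun i => (algebraMap (PowerSeries k) F).comp (Pi.evalRingHom _ i)
  have hj : ∀ f i, j f i = algebraMap (PowerSeries k) F (f i) := fun _ _ => rfl
  have hjinj : Function.Injective j := fun f g h =>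
    funext fun i => IsFractionRing.injective (PowerSeries k) F (by rw [← hj, ← hj, h])
  letI : Algebra B K := (j.comp φ).toAlgebra
  haveI : IsLocalization (nonZeroDivisors B) K := by
    rw [isLocalization_iff]
    refine ⟨fun s => ?_, fun z => ?_, fun {x y} h => ⟨1, ?_⟩⟩
    · rw [Pi.isUnit_iff]
      intro i
      refine isUnit_iff_ne_zero.mpr fun h0 => ?_
      obtain ⟨t, ht⟩ := exists_single φ hrange i
      have h1 : φ (s : B) i = 0 := IsFractionRing.injective (PowerSeries k) F (h0.trans (map_zero _).symm)
      have h2 : t * (s : B) = 0 := hinj (funext fun l => by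
        rw [map_mul, Pi.mul_apply, map_zero, Pi.zero_apply, ht]
        by_cases hl : l = i
        · subst hl; rw [h1, mul_zero]
        · rw [Pi.single_eq_of_ne hl, zero_mul])
      have h3 := congrFun (congrArg φ ((mem_nonZeroDivisors_iff_right.mp s.2) t h2)) i
      rw [ht, Pi.single_eq_same, map_zero, Pi.zero_apply] at h3
      exact PowerSeries.X_ne_zero h3
    · choose a b hb using fun i => IsFractionRing.div_surjective (A := PowerSeries k) (z i)
      obtain ⟨s, hs⟩ := exists_of_cc_zero φ hrange (fun i => PowerSeries.X * b i) (fun i => by simp)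
      obtain ⟨x, hx⟩ := exists_of_cc_zero φ hrange (fun i => PowerSeries.X * a i) (fun i => by simp)
      have hsn : s ∈ nonZeroDivisors B := mem_nonZeroDivisors_iff_right.mpr fun y hy => hinj (funext fun i => by
        have := congrFun (congrArg φ hy) i
        rw [map_mul, Pi.mul_apply, hs, map_zero, Pi.zero_apply] at this
        rw [map_zero, Pi.zero_apply]
        exact (mul_eq_zero.mp this).resolve_right
          (mul_ne_zero PowerSeries.X_ne_zero (nonZeroDivisors.ne_zero (hb i).1)))
      refine ⟨(x, ⟨s, hsn⟩), funext fun i => ?_⟩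
      show z i * j (φ s) i = j (φ x) i
      rw [hj, hj, hs, hx, ← (hb i).2, map_mul, map_mul]
      have : algebraMap (PowerSeries k) F (b i) ≠ 0 := IsFractionRing.to_map_ne_zero_of_mem_nonZeroDivisors (hb i).1
      rw [div_mul_eq_mul_div, div_eq_iff this]
      ring
    · simp only [OneMemClass.coe_one, one_mul]
      exact hinj (hjinj h)
  haveI : Nontrivial B := φ.domain_nontrivial
  let jA : N k (m + 1) →ₐ[B] K := { j with commutes' := fun _ => rfl }
  have hIC : jA.range = integralClosure B K := by
    refine le_antisymm ?_ fun y hy => ?_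
    · rintro _ ⟨f, rfl⟩
      choose b hb using fun i => exists_const φ hrange (f i)
      have he : ∀ i, IsIntegral B (Pi.single i 1 : K) := fun i =>
        ⟨Polynomial.X ^ 2 - Polynomial.X, Polynomial.monic_X_pow_sub (by rw [Polynomial.degree_X]; norm_num), by
          rw [Polynomial.eval₂_sub, Polynomial.eval₂_X_pow, Polynomial.eval₂_X, pow_two, ← Pi.single_mul,
            mul_one, sub_self]⟩
      have : jA f = ∑ i, algebraMap B K (b i) * Pi.single i 1 := by
        funext l
        rw [Finset.sum_apply, Finset.sum_eq_single l]
        · show j f l = j (φ (b l)) l * _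
          rw [hj, hj, hb, Pi.single_eq_same, mul_one]
        · intro i _ hil
          rw [Pi.mul_apply, Pi.single_eq_of_ne (Ne.symm hil), mul_zero]
        · simp
      show IsIntegral B (jA f)
      rw [this]
      exact IsIntegral.sum _ fun i _ => isIntegral_algebraMap.mul (he i)
    · obtain ⟨p, hp, hpy⟩ := hy
      have hyi : ∀ i, ∃ g, algebraMap (PowerSeries k) F g = y i := fun i => by
        refine IsIntegrallyClosed.isIntegral_iff.mp
          ⟨p.map ((Pi.evalRingHom (fun _ => PowerSeries k) i).comp φ), hp.map _, ?_⟩
        rw [Polynomial.eval₂_map]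
        have := congrArg (Pi.evalRingHom (fun _ => F) i) hpy
        rw [Polynomial.hom_eval₂, map_zero] at this
        exact this
      choose g hg using hyi
      exact ⟨g, funext hg⟩
  let E : N k (m + 1) ≃ₐ[B] integralClosure B (FractionRing B) :=
    ((AlgEquiv.ofInjective jA hjinj).trans (Subalgebra.equivOfEq _ _ hIC)).trans
      (IsLocalization.algEquiv (nonZeroDivisors B) K (FractionRing B)).mapIntegralClosure
  let χ : B →+* k := (PowerSeries.constantCoeff.comp (Pi.evalRingHom (fun _ => PowerSeries k) 0)).comp φ
  have hχ : Function.Surjective χ := fun c => by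
    obtain ⟨b, hb⟩ := exists_const φ hrange (PowerSeries.C c)
    exact ⟨b, by show PowerSeries.constantCoeff (φ b 0) = c; rw [hb]; simp⟩
  letI : Algebra B k := χ.toAlgebra
  let Θ : integralClosure B (FractionRing B) →ₗ[B] (Fin m → k) :=
    { toFun := fun z i => PowerSeries.constantCoeff (E.symm z i.succ) - PowerSeries.constantCoeff (E.symm z 0)
      map_add' := fun f g => funext fun i => by
        simp only [map_add, Pi.add_apply]
        ring
      map_smul' := fun b z => funext fun i => by
        have h1 : E.symm (b • z) = φ b * E.symm z := by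
          rw [Algebra.smul_def, map_mul, AlgEquiv.commutes]; rfl
        show _ = χ b * (PowerSeries.constantCoeff (E.symm z i.succ) - PowerSeries.constantCoeff (E.symm z 0))
        rw [h1, Pi.mul_apply, Pi.mul_apply, map_mul, map_mul, cc_eq φ hrange b i.succ 0]
        show _ = PowerSeries.constantCoeff (φ b 0) * _
        ring }
  have hsurj : Function.Surjective Θ := fun v => by
    refine ⟨E (Fin.cons 0 fun i => PowerSeries.C (v i)), ?_⟩
    funext i
    show PowerSeries.constantCoeff (E.symm (E _) i.succ) - PowerSeries.constantCoeff (E.symm (E _) 0) = v i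
    rw [E.symm_apply_apply]
    show PowerSeries.constantCoeff ((Fin.cons 0 fun i => PowerSeries.C (v i) : N k (m + 1)) i.succ) -
      PowerSeries.constantCoeff ((Fin.cons 0 fun i => PowerSeries.C (v i) : N k (m + 1)) 0) = v i
    simp
  have hker : LinearMap.ker Θ = LinearMap.range (Algebra.linearMap B (integralClosure B (FractionRing B))) := by
    ext z
    constructor
    · intro hz
      obtain ⟨b, hb⟩ : E.symm z ∈ Set.range φ := by
        rw [hrange]
        have h0 : ∀ i, PowerSeries.constantCoeff (E.symm z i) = PowerSeries.constantCoeff (E.symm z 0) := by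
          intro i
          refine Fin.cases rfl (fun i => ?_) i
          exact sub_eq_zero.mp (congrFun (LinearMap.mem_ker.mp hz) i)
        intro i j
        rw [h0 i, h0 j]
      exact ⟨b, E.symm.injective (by rw [Algebra.linearMap_apply, AlgEquiv.commutes]; exact hb)⟩
    · rintro ⟨b, rfl⟩
      refine LinearMap.mem_ker.mpr (funext fun i => ?_)
      show PowerSeries.constantCoeff (E.symm (algebraMap B _ b) i.succ) -
        PowerSeries.constantCoeff (E.symm (algebraMap B _ b) 0) = 0
      rw [AlgEquiv.commutes]
      exact sub_eq_zero.mpr (cc_eq φ hrange b i.succ 0)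
  have hlen : Curv2.deltaInv B = Module.length B (Fin m → k) := by
    unfold Curv2.deltaInv
    exact ((Submodule.quotEquivOfEq _ _ hker.symm).trans (Θ.quotKerEquivOfSurjective hsurj)).length_eq
  rw [hlen, Module.length_eq_of_surjective (R := k) (by exact hχ), Module.length_eq_finrank,
    Module.finrank_fin_fun, Nat.cast_add, Nat.cast_one]

end Cross

end Groth.L06.Multicross

end
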