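import Groth.Agent.L06.Multicross
import Groth.Agent.L06.WedgeDVR
import Groth.Agent.L05.Hensel.Product
import Groth.Agent.L05.Krasner.Newton
import Groth.Agent.L13.Wild.MRLocal
import Groth.Agent.L01.DvrPowSer
import Groth.Agent.S0568
import Mathlib.RingTheory.Henselian

/-!
Complete one-dimensional local rings with `δ = (number of branches) - 1` are multicrosses.
-/

set_option autoImplicit false
set_option linter.style.haveILetI false
set_option maxSynthPendingDepth 3
noncomputable section
universe u

open IsLocalRing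

namespace Groth.L06.Multicross

set_option maxHeartbeats 1600000 in
set_option synthInstance.maxHeartbeats 400000 in
/-- The complete case. -/
theorem exists_hom_of_complete (k : Type u) [Field k] (B : Type u) [CommRing B] [IsLocalRing B] [IsReduced B]
    [IsNoetherianRing B] [IsAdicComplete (maximalIdeal B) B] [Algebra k B]
    (hres : Function.Bijective (algebraMap k (ResidueField B))) (hdim : ringKrullDim B = 1)
    (n : ℕ) (hn : Brnch.numBranches B = n) (hδ : Curv2.deltaInv B + 1 = n) :
    ∃ φ : B →+* N k n, Function.Injective φ ∧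
      (∀ c : k, φ (algebraMap k B c) = fun _ => algebraMap k (PowerSeries k) c) ∧
      Set.range φ = crossSet k n := by
  classical
  haveI : HenselianLocalRing B := ⟨fun f hf a h1 h2 => HenselianRing.is_henselian f hf a h1 (h2.map _)⟩
  have hN : CAlg.IsNagata B := Groth.Agent.S0568.result B
  haveI := Groth.L22.Norm.finite_integralClosure B hN
  let C := integralClosure B (FractionRing B)
  haveI : IsNoetherianRing C := IsNoetherianRing.of_finite B C
  have hinjC : Function.Injective (algebraMap B C) := fun a b h =>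
    IsFractionRing.injective B (FractionRing B) (congrArg Subtype.val h)
  -- branches are maximal ideals of the normalisation
  have hcard : ENat.card (MaximalSpectrum C) = (n : ℕ∞) := by
    obtain ⟨e, -⟩ := WedgeDVR.exists_normRed_ringEquiv B
    rw [← hn, Brnch.numBranches, if_pos ((⊥ : Ideal B).finite_minimalPrimes_of_isNoetherianRing B)]
    refine ENat.card_congr
      { toFun := fun m => ⟨m.asIdeal.comap e.symm.toRingHom,
          haveI := m.isMaximal; Ideal.comap_isMaximal_of_surjective _ e.symm.surjective⟩
        invFun := fun m => ⟨m.asIdeal.comap e.toRingHom,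
          haveI := m.isMaximal; Ideal.comap_isMaximal_of_surjective _ e.surjective⟩
        left_inv := fun m => MaximalSpectrum.ext (Ideal.ext fun x => by
          show e.symm (e x) ∈ m.asIdeal ↔ _
          rw [RingEquiv.symm_apply_apply])
        right_inv := fun m => MaximalSpectrum.ext (Ideal.ext fun x => by
          show e (e.symm x) ∈ m.asIdeal ↔ _
          rw [RingEquiv.apply_symm_apply]) }
  obtain ⟨hdvr, hwedge⟩ := WedgeDVR.main_of_le B hN hdim (by rw [hδ]; exact hcard.ge)
  -- decomposition
  obtain ⟨ι, _, e, he, hloc⟩ := Groth.L05.exists_idem_local_of_finite (A := B) C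
  let D : ι → Type u := fun i => C ⧸ Ideal.span ({1 - e i} : Set C)
  haveI : ∀ i, IsLocalRing (D i) := hloc
  have hmk : ∀ i, Ideal.Quotient.mk (Ideal.span ({1 - e i} : Set C)) (e i) = 1 := fun i =>
    (Ideal.Quotient.eq.mpr (by
      rw [show e i - 1 = -(1 - e i) by ring]
      exact neg_mem (Ideal.mem_span_singleton_self _))).trans (map_one _)
  let mI : ι → MaximalSpectrum C := fun i =>
    ⟨(maximalIdeal (D i)).comap (Ideal.Quotient.mk _), Ideal.comap_isMaximal_of_surjective _ Ideal.Quotient.mk_surjective⟩
  have hei : ∀ i, e i ∉ (mI i).asIdeal := fun i h => by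
    have h1 : Ideal.Quotient.mk (Ideal.span ({1 - e i} : Set C)) (e i) ∈ maximalIdeal (D i) := h
    rw [hmk i] at h1
    exact (maximalIdeal.isMaximal (D i)).ne_top ((Ideal.eq_top_iff_one _).mpr h1)
  have hbij : Function.Bijective mI := by
    refine ⟨fun i j h => ?_, fun m => ?_⟩
    · by_contra hij
      have h1 : e i * e j = 0 := he.ortho hij
      rcases (mI i).isMaximal.isPrime.mem_or_mem (by rw [h1]; exact zero_mem _ : e i * e j ∈ (mI i).asIdeal) with h2 | h2
      · exact hei i h2
      · exact hei j (h ▸ h2)
    · obtain ⟨i, hi⟩ : ∃ i, e i ∉ m.asIdeal := by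
        by_contra hc
        push Not at hc
        exact m.isMaximal.ne_top ((Ideal.eq_top_iff_one _).mpr (he.complete ▸ Ideal.sum_mem _ fun i _ => hc i))
      refine ⟨i, MaximalSpectrum.ext ?_⟩
      have hle : Ideal.span ({1 - e i} : Set C) ≤ m.asIdeal := by
        rw [Ideal.span_le, Set.singleton_subset_iff]
        refine (m.isMaximal.isPrime.mem_or_mem ?_).resolve_left hi
        rw [(he.idem i).mul_one_sub_self]
        exact zero_mem _
      refine (m.isMaximal.eq_of_le (mI i).isMaximal.ne_top fun x hx => ?_).symm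
      have hne : m.asIdeal.map (Ideal.Quotient.mk (Ideal.span ({1 - e i} : Set C))) ≠ ⊤ := fun htop => by
        have h2 := congrArg (Ideal.comap (Ideal.Quotient.mk (Ideal.span ({1 - e i} : Set C)))) htop
        rw [Ideal.comap_map_of_surjective _ Ideal.Quotient.mk_surjective, Ideal.comap_top,
          ← RingHom.ker_eq_comap_bot, Ideal.mk_ker, sup_eq_left.mpr hle] at h2
        exact m.isMaximal.ne_top h2
      exact le_maximalIdeal hne (Ideal.mem_map_of_mem _ hx)
  haveI : Finite ι := inferInstance
  have hι : Fintype.card ι = n := by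
    have h1 := ENat.card_congr (Equiv.ofBijective mI hbij)
    rw [hcard, ENat.card_eq_coe_fintype_card, Nat.cast_inj] at h1
    exact h1
  let σ : Fin n ≃ ι := (Fintype.equivFinOfCardEq hι).symm
  have hB : maximalIdeal B ≠ ⊥ := fun h => by
    have h1 := IsLocalRing.maximalIdeal_height_eq_ringKrullDim (R := B)
    rw [hdim] at h1
    have hF : IsField B := IsLocalRing.isField_iff_maximalIdeal_eq.mpr h
    rw [ringKrullDim_eq_zero_of_isField hF] at hdim
    exact zero_ne_one hdim
  -- each factor is `k⟦X⟧`
  have key : ∀ i, ∃ f : C →+* PowerSeries k, Function.Surjective f ∧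
      RingHom.ker f = Ideal.span ({1 - e i} : Set C) ∧
      (∀ c : k, f (algebraMap B C (algebraMap k B c)) = algebraMap k (PowerSeries k) c) ∧
      ∀ x, PowerSeries.constantCoeff (f x) = 0 ↔ x ∈ (mI i).asIdeal := by
    intro i
    haveI := (mI i).isMaximal
    let L := Localization.AtPrime (mI i).asIdeal
    obtain ⟨⟨_, _⟩, hsurj⟩ := hdvr (mI i)
    let π : C →+* D i := Ideal.Quotient.mk _
    have hu : ∀ s : (mI i).asIdeal.primeCompl, IsUnit (π s) := fun s =>
      IsLocalRing.notMem_maximalIdeal.mp s.2
    let g : L →+* D i := IsLocalization.lift hu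
    have hgb : Function.Bijective g := by
      refine ⟨(injective_iff_map_eq_zero g).mpr fun z hz => ?_, fun y => ?_⟩
      · obtain ⟨x, s, rfl⟩ := IsLocalization.exists_mk'_eq (mI i).asIdeal.primeCompl z
        rw [IsLocalization.lift_mk'_spec, mul_zero, Ideal.Quotient.eq_zero_iff_mem,
          Ideal.mem_span_singleton] at hz
        obtain ⟨t, ht⟩ := hz
        rw [IsLocalization.mk'_eq_zero_iff]
        exact ⟨⟨e i, hei i⟩, by
          show e i * x = 0
          rw [ht, ← mul_assoc, (he.idem i).mul_one_sub_self, zero_mul]⟩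
      · obtain ⟨x, rfl⟩ := Ideal.Quotient.mk_surjective y
        exact ⟨algebraMap C L x, IsLocalization.lift_eq hu x⟩
    let G : L ≃+* D i := RingEquiv.ofBijective g hgb
    haveI : IsDomain (D i) := G.symm.toMulEquiv.isDomain L
    haveI : IsDiscreteValuationRing (D i) := IsDiscreteValuationRing.RingEquivClass.isDiscreteValuationRing G
    haveI : Module.Finite B (D i) := Module.Finite.of_surjective (IsScalarTower.toAlgHom B C (D i)).toLinearMap Ideal.Quotient.mk_surjective
    haveI : IsAdicComplete (maximalIdeal B) (D i) := Groth.L05.Krasner.isAdicComplete_of_finite _ _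
    haveI : IsAdicComplete ((maximalIdeal B).map (algebraMap B (D i))) (D i) :=
      (IsAdicComplete.map_algebraMap_iff (maximalIdeal B) (D i)).mpr inferInstance
    have hle : (maximalIdeal B).map (algebraMap B (D i)) ≤ maximalIdeal (D i) := by
      refine le_maximalIdeal fun htop => ?_
      have hbot : (⊤ : Submodule B (D i)) = ⊥ := Submodule.eq_bot_of_le_smul_of_le_jacobson_bot (maximalIdeal B)
        ⊤ Module.Finite.fg_top (fun y _ => by
          rw [Ideal.smul_top_eq_map, htop]
          trivial) (maximalIdeal_le_jacobson _)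
      exact one_ne_zero ((Submodule.eq_bot_iff _).mp hbot 1 Submodule.mem_top)
    have hne : (maximalIdeal B).map (algebraMap B (D i)) ≠ ⊥ := fun h0 => by
      obtain ⟨s, hs, hsn⟩ : ∃ s ∈ maximalIdeal B, s ∈ nonZeroDivisors B := by
        by_contra hc
        push Not at hc
        have hfin := (⊥ : Ideal B).finite_minimalPrimes_of_isNoetherianRing B
        have hsub : (maximalIdeal B : Set B) ⊆ ⋃ P ∈ hfin.toFinset, (P : Set B) := fun x hx => by
          by_contra hx'
          refine hc x hx (Groth.L06.NorLocusFinite.mem_nonZeroDivisors_of_forall fun P hP hxP => hx' ?_)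
          exact Set.mem_iUnion₂.mpr ⟨P, hfin.mem_toFinset.mpr hP, hxP⟩
        obtain ⟨P, hP, hle⟩ := (Ideal.subset_union_prime (s := hfin.toFinset) (f := id) ⊥ ⊥
          (fun P hP _ _ => (hfin.mem_toFinset.mp hP).1.1)).mp hsub
        rw [Set.Finite.mem_toFinset] at hP
        have hPm : P = maximalIdeal B := le_antisymm (le_maximalIdeal hP.1.1.ne_top) hle
        have h0B : (maximalIdeal B).height = 0 := Ideal.height_eq_zero_iff.mpr (hPm ▸ hP)
        rw [← IsLocalRing.maximalIdeal_height_eq_ringKrullDim, h0B] at hdim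
        exact zero_ne_one hdim
      have h1 : π (algebraMap B C s) = 0 := by
        have := Ideal.mem_map_of_mem (algebraMap B (D i)) hs
        rw [h0, Ideal.mem_bot] at this
        exact this
      obtain ⟨t, ht⟩ := Ideal.mem_span_singleton.mp (Ideal.Quotient.eq_zero_iff_mem.mp h1)
      have h2 : e i * algebraMap B C s = 0 := by rw [ht, ← mul_assoc, (he.idem i).mul_one_sub_self, zero_mul]
      have h3 : (e i : C).1 * algebraMap B (FractionRing B) s = 0 := congrArg Subtype.val h2
      have h4 : e i = 0 := Subtype.ext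
        ((IsLocalization.map_units (FractionRing B) (⟨s, hsn⟩ : nonZeroDivisors B)).mul_left_eq_zero.mp h3)
      exact hei i (h4 ▸ zero_mem _)
    obtain ⟨ϖ, hϖ⟩ := IsDiscreteValuationRing.exists_irreducible (D i)
    obtain ⟨N0, hN0⟩ : ∃ N0, maximalIdeal (D i) ^ N0 ≤ (maximalIdeal B).map (algebraMap B (D i)) := by
      obtain ⟨r, hr⟩ := IsDiscreteValuationRing.ideal_eq_span_pow_irreducible hne hϖ
      exact ⟨r, by rw [hr, hϖ.maximalIdeal_eq, Ideal.span_singleton_pow]⟩
    haveI : IsAdicComplete (maximalIdeal (D i)) (D i) := Groth.L13.Wild.isAdicComplete_of_pow_le hle hN0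
    letI : Algebra k (D i) := ((π.comp (algebraMap B C)).comp (algebraMap k B)).toAlgebra
    have hK : Function.Bijective ((residue (D i)).comp (algebraMap k (D i))) := by
      refine ⟨RingHom.injective _, fun y => ?_⟩
      obtain ⟨y, rfl⟩ := residue_surjective y
      obtain ⟨z, rfl⟩ := G.surjective y
      obtain ⟨a, ha⟩ := hsurj (residue L z)
      obtain ⟨c, hc⟩ := hres.2 (residue B a)
      refine ⟨c, ?_⟩
      have hG : residue (D i) (G z) = residue (D i) (algebraMap B (D i) a) := by
        refine Ideal.Quotient.eq.mpr ?_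
        have h5 : z - algebraMap C L (algebraMap B C a) ∈ maximalIdeal L := Ideal.Quotient.eq.mp ha.symm
        have h6 : G (z - algebraMap C L (algebraMap B C a)) ∈ maximalIdeal (D i) := fun hu' => h5 (by
          have := hu'.map G.symm
          rwa [RingEquiv.symm_apply_apply] at this)
        rw [map_sub] at h6
        have h7 : G (algebraMap C L (algebraMap B C a)) = algebraMap B (D i) a := IsLocalization.lift_eq hu _
        rw [h7] at h6
        exact h6
      rw [hG]
      refine Ideal.Quotient.eq.mpr ?_
      have h8 : algebraMap k B c - a ∈ maximalIdeal B := Ideal.Quotient.eq.mp hc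
      have h9 := hle (Ideal.mem_map_of_mem (algebraMap B (D i)) h8)
      rwa [map_sub] at h9
    obtain ⟨x, hx⟩ : ∃ x, maximalIdeal (D i) = Ideal.span {x} := ⟨ϖ, hϖ.maximalIdeal_eq⟩
    obtain ⟨ψ, hψX, hψb, -⟩ := Groth.L01.DvrPowSer.exists_bijective k (D i) hK x hx
    let Ψ := (AlgEquiv.ofBijective ψ hψb).symm
    refine ⟨Ψ.toRingEquiv.toRingHom.comp π, Ψ.surjective.comp Ideal.Quotient.mk_surjective, ?_, fun c => Ψ.commutes c, fun y => ?_⟩
    · rw [RingHom.ker_comp_of_injective _ (show Function.Injective Ψ.toRingEquiv.toRingHom from Ψ.injective)]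
      exact Ideal.mk_ker
    · show PowerSeries.constantCoeff (Ψ (π y)) = 0 ↔ π y ∈ maximalIdeal (D i)
      rw [mem_maximalIdeal, mem_nonunits_iff, ← isUnit_map_iff Ψ (π y), PowerSeries.isUnit_iff_constantCoeff,
        isUnit_iff_ne_zero, not_not]
  choose f hfs hfk hfc hfm using key
  let φ : B →+* N k n := (Pi.ringHom fun l => f (σ l)).comp (algebraMap B C)
  have hsep : ∀ z : C, (∀ i, f i z = 0) → z = 0 := fun z hz => he.bijective_pi.1 (funext fun i => by
    show Ideal.Quotient.mk _ z = Ideal.Quotient.mk _ 0
    rw [map_zero, Ideal.Quotient.eq_zero_iff_mem, ← hfk i]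
    exact hz i)
  refine ⟨φ, (injective_iff_map_eq_zero φ).mpr fun b hb => hinjC ?_, fun c => funext fun l => hfc _ c, ?_⟩
  · rw [map_zero]
    refine hsep _ fun i => ?_
    have := congrFun hb (σ.symm i)
    change f (σ (σ.symm i)) (algebraMap B C b) = 0 at this
    rwa [Equiv.apply_symm_apply] at this
  refine Set.Subset.antisymm ?_ fun g hg => ?_
  · rintro _ ⟨b, rfl⟩ l l'
    obtain ⟨c, hc⟩ := hres.2 (residue B b)
    have hbc : b - algebraMap k B c ∈ maximalIdeal B := Ideal.Quotient.eq.mp hc.symm
    have h1 : ∀ i, PowerSeries.constantCoeff (f i (algebraMap B C b)) = c := fun i => by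
      have h2 : algebraMap B C (b - algebraMap k B c) ∈ (mI i).asIdeal := by
        have h3 : (mI i).asIdeal.comap (algebraMap B C) = maximalIdeal B := by
          haveI := (mI i).isMaximal
          exact IsLocalRing.eq_maximalIdeal (Ideal.isMaximal_comap_of_isIntegral_of_isMaximal (mI i).asIdeal)
        exact h3.ge hbc
      have h4 := (hfm i _).mpr h2
      rw [map_sub, map_sub, map_sub, sub_eq_zero, hfc] at h4
      rw [h4]
      simp
    show PowerSeries.constantCoeff (f _ _) = PowerSeries.constantCoeff (f _ _)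
    rw [h1, h1]
  · choose y hy using fun l => hfs (σ l) (g l)
    obtain ⟨z, hz⟩ := he.bijective_pi.2 fun i => Ideal.Quotient.mk _ (y (σ.symm i))
    have hfz : ∀ l, f (σ l) z = g l := fun l => by
      have h := congrFun hz (σ l)
      simp only [RingHom.pi_apply, Equiv.symm_apply_apply] at h
      rw [← hy l, ← sub_eq_zero, ← map_sub, ← RingHom.mem_ker, hfk]
      exact Ideal.Quotient.eq.mp h
    rcases Nat.eq_zero_or_pos n with h0 | h0
    · subst h0
      exact ⟨0, funext fun l => Fin.elim0 l⟩
    let c : k := PowerSeries.constantCoeff (g ⟨0, h0⟩)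
    have hmem : ∀ m' : MaximalSpectrum C, z - algebraMap B C (algebraMap k B c) ∈ m'.asIdeal := fun m' => by
      obtain ⟨i, rfl⟩ := hbij.2 m'
      obtain ⟨l, rfl⟩ := σ.surjective i
      rw [← hfm, map_sub, map_sub, hfz, hfc]
      rw [show PowerSeries.constantCoeff (g l) = c from hg l ⟨0, h0⟩]
      simp
    obtain ⟨b, hb⟩ := hwedge z ⟨algebraMap k B c, hmem⟩
    refine ⟨b, funext fun l => ?_⟩
    show f (σ l) (algebraMap B C b) = g l
    rw [hb, hfz]

end Groth.L06.Multicross

end
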