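import Groth.Prelude.Def_W4c6nonredquotmfGoodQuot
import Groth.Agent.L19.AlgGrpBasic.OrbitClosure
import Groth.Agent.L18.GIT.StabDim
import Groth.Agent.L18.GIT.Orbit
import Mathlib.Order.Zorn
import Mathlib.AlgebraicGeometry.Morphisms.UniversallyOpen

/-!
# Good quotients: orbit closures in the fibres
-/

set_option autoImplicit false
set_option maxSynthPendingDepth 3
set_option linter.style.haveILetI false
set_option backward.isDefEq.respectTransparency.types false
set_option backward.isDefEq.respectTransparency false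

universe u

open CategoryTheory MonoidalCategory CartesianMonoidalCategory MonObj GrpObj AlgebraicGeometry Topology
open NRQuot

noncomputable section

namespace Groth.L06.NRQuot

section General

variable {S : Scheme.{u}} {G X Y : Over S} [GrpObj G] {a : AlgGrp.Action G X} {φ : X ⟶ Y}

theorem invariant_preimage (hi : GIT.IsInvariant a φ) (W : Set Y.left) :
    IsInvariantSet a (φ.left ⁻¹' W) := fun p hp => by
  show φ.left (a.act.left p) ∈ W
  rw [← Scheme.Hom.comp_apply, hi.left, Scheme.Hom.comp_apply]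
  exact hp

theorem surjective (h : IsGoodQuot a φ) : Function.Surjective φ.left := by
  intro y
  have e := h.inter PEmpty.{u+1} (fun i => i.elim) (fun i => i.elim) (fun i => i.elim)
  rw [Set.iInter_of_empty, Set.iInter_of_empty] at e
  obtain ⟨x, -, hx⟩ := e.symm.subset (Set.mem_univ y)
  exact ⟨x, hx⟩

theorem isQuotientMap (h : IsGoodQuot a φ) : IsQuotientMap φ.left := by
  have hs := surjective h
  rw [isQuotientMap_iff_isClosed]
  refine ⟨hs, fun W => ⟨fun hW => hW.preimage φ.left.continuous, fun hW => ?_⟩⟩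
  rw [← Set.image_preimage_eq W hs]
  exact h.closed _ hW (invariant_preimage h.inv W)

/-- Closures of invariant sets are invariant. -/
theorem invariant_closure {W : Set X.left} (hW : IsInvariantSet a W) (ho : IsOpenMap (snd G X).left) :
    IsInvariantSet a (closure W) := by
  intro p hp
  have h1 : p ∈ closure ((snd G X).left ⁻¹' W) := by
    rw [← ho.preimage_closure_eq_closure_preimage (snd G X).left.continuous]
    exact hp
  exact map_mem_closure a.act.left.continuous h1 hW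

theorem inter_pair (h : IsGoodQuot a φ) {W₁ W₂ : Set X.left} (h₁ : IsClosed W₁) (h₂ : IsClosed W₂)
    (i₁ : IsInvariantSet a W₁) (i₂ : IsInvariantSet a W₂) :
    φ.left '' (W₁ ∩ W₂) = φ.left '' W₁ ∩ φ.left '' W₂ := by
  have e := h.inter (ULift.{u} Bool) (fun i => cond i.down W₁ W₂) (by rintro ⟨_ | _⟩ <;> assumption)
    (by rintro ⟨_ | _⟩ <;> assumption)
  have key : ∀ {α : Type u} (A B : Set α), (⋂ i : ULift.{u} Bool, cond i.down A B) = A ∩ B := fun A B => by
    ext z; simp [ULift.forall, Bool.forall_bool, and_comm]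
  rw [key] at e
  refine e.trans ?_
  ext z
  simp [ULift.forall, Bool.forall_bool, and_comm]

theorem isLocallyConstructible_open_dense {Z : Scheme.{u}} [IsLocallyNoetherian Z] {E M : Set Z}
    (hE : IsLocallyConstructible E) (hEM : E ⊆ M) (hME : M ⊆ closure E) (hM : IsClosed M) (hne : M.Nonempty) :
    ∃ O : Set Z, IsOpen O ∧ (O ∩ M).Nonempty ∧ O ∩ M ⊆ E := by
  obtain ⟨m, hm⟩ := hne
  obtain ⟨_, ⟨V, hV, rfl⟩, hmV, -⟩ :=
    Z.isBasis_affineOpens.exists_subset_of_mem_open (Set.mem_univ m) isOpen_univ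
  obtain ⟨U, hU, hUd, hUE⟩ := Groth.L19.AlgGrpBasic.exists_open_dense_of_constructible
    (hE.inter_of_isOpen_isCompact V.2 hV.isCompact)
  have hV' : ∀ z ∈ M, z ∈ V → z ∈ closure (E ∩ V) := fun z hz hzV =>
    closure_mono (le_of_eq (Set.inter_comm _ _)) (V.2.inter_closure ⟨hzV, hME hz⟩)
  obtain ⟨z, hz⟩ : (U ∩ closure (E ∩ (V : Set Z))).Nonempty := by
    by_contra hn
    rw [Set.not_nonempty_iff_eq_empty] at hn
    have h0 : m ∈ closure (∅ : Set Z) := hn ▸ hUd (hV' m hm hmV)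
    rwa [closure_empty] at h0
  refine ⟨U ∩ V, hU.inter V.2, ⟨z, ⟨hz.1, (hUE hz).2⟩, hEM (hUE hz).1⟩, ?_⟩
  rintro w ⟨⟨hwU, hwV⟩, hwM⟩
  exact (hUE ⟨hwU, hV' w hwM hwV⟩).1

theorem isLocallyConstructible_compl {Z : Type*} [TopologicalSpace Z] {E : Set Z}
    (hE : IsLocallyConstructible E) : IsLocallyConstructible Eᶜ := fun z => by
  obtain ⟨U, hU, hUo, h⟩ := hE z
  exact ⟨U, hU, hUo, h.compl⟩

theorem exists_closedPoint {Z : Scheme.{u}} [IsLocallyNoetherian Z] [JacobsonSpace Z] {E : Set Z}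
    (hE : IsLocallyConstructible E) (hne : E.Nonempty) : ∃ p ∈ E, IsClosed ({p} : Set Z) := by
  obtain ⟨e, he⟩ := hne
  obtain ⟨_, ⟨V, hV, rfl⟩, heV, -⟩ :=
    Z.isBasis_affineOpens.exists_subset_of_mem_open (Set.mem_univ e) isOpen_univ
  by_contra hn
  have := Groth.L19.AlgGrpBasic.eq_empty_of_constructible (hE.inter_of_isOpen_isCompact V.2 hV.isCompact)
    (fun p hp hc => hn ⟨p, hp.1, hc⟩)
  exact (this.subset ⟨he, heV⟩ : e ∈ (∅ : Set Z))

theorem isLocallyConstructible_of_isClosed {Z : Scheme.{u}} [IsLocallyNoetherian Z] {M : Set Z}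
    (hM : IsClosed M) : IsLocallyConstructible M := fun z => by
  obtain ⟨_, ⟨(V : Z.Opens), hV, rfl⟩, hzV, -⟩ :=
    Z.isBasis_affineOpens.exists_subset_of_mem_open (Set.mem_univ z) isOpen_univ
  haveI : IsAffine V.toScheme := hV
  haveI : IsNoetherian V.toScheme := { }
  haveI : TopologicalSpace.NoetherianSpace ↥(V : Set Z) :=
    inferInstanceAs (TopologicalSpace.NoetherianSpace V.toScheme)
  exact ⟨V, V.2.mem_nhds hzV, V.2,
    Groth.L06.Constr.isConstructible_of_isClosed (hM.preimage continuous_subtype_val)⟩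

end General

section Field

variable {k : Type u} [Field k] {G X Y : Over (Spec (CommRingCat.of k))}

local notation "𝕊" => 𝟙_ (Over (Spec (CommRingCat.of k)))

/-- The point of a rational point. -/
abbrev pt (x : 𝕊 ⟶ X) : X.left := x.left (IsLocalRing.closedPoint k)

theorem range_point (x : 𝕊 ⟶ X) : Set.range x.left = {pt x} := Set.ext fun z =>
  ⟨fun ⟨t, ht⟩ => by
    rw [← ht, Set.mem_singleton_iff]
    exact congrArg x.left (Subsingleton.elim (α := PrimeSpectrum k) t _), fun hz => ⟨_, hz.symm⟩⟩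

theorem isClosed_pt (x : 𝕊 ⟶ X) : IsClosed ({pt x} : Set X.left) := by
  rw [← range_point x]
  exact Groth.L18.GITQ.isClosed_range_section (Iso.refl _) X.hom x.left (Over.w x)

theorem point_eq {y y' : 𝕊 ⟶ Y} (h : pt y = pt y') : y = y' := by
  obtain ⟨⟨p, e⟩, he⟩ := (Scheme.SpecToEquivOfField k Y.left).symm.surjective y.left
  obtain ⟨⟨p', e'⟩, he'⟩ := (Scheme.SpecToEquivOfField k Y.left).symm.surjective y'.left
  simp only [Scheme.SpecToEquivOfField, Equiv.coe_fn_symm_mk] at he he'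
  have hp : p = p' := by
    have h1 : pt y = p := by
      show y.left _ = p
      rw [← he, Scheme.Hom.comp_apply]; exact Y.left.fromSpecResidueField_apply p _
    have h2 : pt y' = p' := by
      show y'.left _ = p'
      rw [← he', Scheme.Hom.comp_apply]; exact Y.left.fromSpecResidueField_apply p' _
    rw [← h1, ← h2, h]
  subst hp
  obtain ⟨r, hr⟩ := Spec.map_surjective (Y.left.fromSpecResidueField p ≫ Y.hom)
  have hw : ∀ (z : 𝕊 ⟶ Y) (f : Y.left.residueField p ⟶ CommRingCat.of k),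
      Spec.map f ≫ Y.left.fromSpecResidueField p = z.left → r ≫ f = 𝟙 _ := fun z f hf => by
    apply Spec.map_injective
    rw [Spec.map_comp, hr, ← Category.assoc, hf, Over.w z, Spec.map_id]
    rfl
  have h1 := hw y e he
  have h2 := hw y' e' he'
  have hsur : Function.Surjective r := fun c =>
    ⟨e c, e.hom.injective (congr(($h1) (e c)))⟩
  ext1
  rw [← he, ← he']
  congr 2
  ext c
  obtain ⟨b, rfl⟩ := hsur c
  exact (congr(($h1) b)).trans (congr(($h2) b)).symm

variable [GrpObj G] (a : AlgGrp.Action G X) {φ : X ⟶ Y}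

/-- The orbit of a rational point. -/
abbrev orb (x : 𝕊 ⟶ X) : Set X.left := Set.range (a.orbitMap x).left

theorem comp_orbitMap (x : 𝕊 ⟶ X) {T : Over (Spec (CommRingCat.of k))} (g : T ⟶ G) :
    g ≫ a.orbitMap x = lift g (toUnit T ≫ x) ≫ a.act := by
  rw [AlgGrp.Action.orbitMap, comp_lift_assoc, Category.comp_id, ← Category.assoc g,
    toUnit_unique (g ≫ toUnit G) (toUnit T)]

theorem pt_comp (g : 𝕊 ⟶ G) (f : G ⟶ X) : pt (g ≫ f) = f.left (pt g) := Scheme.Hom.comp_apply _ _ _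

theorem self_mem (x : 𝕊 ⟶ X) : pt x ∈ orb a x := by
  refine ⟨pt (1 : 𝕊 ⟶ G), ?_⟩
  rw [← pt_comp, comp_orbitMap, Groth.L18.GITStab.one_smul a, toUnit_unique (toUnit 𝕊) (𝟙 _), Category.id_comp]

theorem invariant_orb (x : 𝕊 ⟶ X) : IsInvariantSet a (orb a x) := by
  rintro p ⟨γ, hγ⟩
  obtain ⟨w, hw, -⟩ := Scheme.exists_preimage_of_isPullback
    (Groth.L18.GITStab.isPullback_whiskerLeft G (a.orbitMap x)) p γ hγ.symm
  have e : (G ◁ a.orbitMap x) ≫ a.act = lift (fst G G * snd G G) (toUnit _ ≫ x) ≫ a.act := by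
    rw [Groth.L18.GITStab.mul_smul a, show G ◁ a.orbitMap x = lift (fst G G) (snd G G ≫ a.orbitMap x) by
      apply CartesianMonoidalCategory.hom_ext <;> simp, comp_orbitMap]
  rw [← comp_orbitMap] at e
  refine ⟨(fst G G * snd G G).left w, ?_⟩
  rw [← Scheme.Hom.comp_apply, ← Over.comp_left, ← e, Over.comp_left, Scheme.Hom.comp_apply, hw]

theorem orb_smul_subset (x : 𝕊 ⟶ X) (g : 𝕊 ⟶ G) : orb a (lift g x ≫ a.act) ⊆ orb a x := by
  have e : a.orbitMap (lift g x ≫ a.act) = (𝟙 G * (toUnit G ≫ g)) ≫ a.orbitMap x := by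
    rw [comp_orbitMap, Groth.L18.GITStab.mul_smul a, AlgGrp.Action.orbitMap, comp_lift_assoc]
  rintro _ ⟨γ, rfl⟩
  exact ⟨(𝟙 G * (toUnit G ≫ g)).left γ, by rw [← Scheme.Hom.comp_apply, ← Over.comp_left, ← e]⟩

theorem orb_smul (x : 𝕊 ⟶ X) (g : 𝕊 ⟶ G) : orb a (lift g x ≫ a.act) = orb a x := by
  refine Set.Subset.antisymm (orb_smul_subset a x g) ?_
  have := orb_smul_subset a (lift g x ≫ a.act) g⁻¹
  rwa [← Groth.L18.GITStab.mul_smul a, inv_mul_cancel, Groth.L18.GITStab.one_smul a] at this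

theorem orb_subset {M : Set X.left} (hi : IsInvariantSet a M) (x : 𝕊 ⟶ X) (hx : pt x ∈ M) :
    orb a x ⊆ M := by
  rintro _ ⟨γ, rfl⟩
  rw [AlgGrp.Action.orbitMap, Over.comp_left, Scheme.Hom.comp_apply]
  refine hi _ ?_
  rw [← Scheme.Hom.comp_apply, ← Over.comp_left, lift_snd, Over.comp_left, Scheme.Hom.comp_apply]
  exact (congrArg x.left (Subsingleton.elim (α := PrimeSpectrum k) _ _)).symm ▸ hx

theorem image_orb (hi : GIT.IsInvariant a φ) (x : 𝕊 ⟶ X) : φ.left '' orb a x = {pt (x ≫ φ)} := by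
  have e : a.orbitMap x ≫ φ = toUnit G ≫ (x ≫ φ) := by
    rw [AlgGrp.Action.orbitMap, Category.assoc, hi, lift_snd_assoc, Category.assoc]
  ext z
  constructor
  · rintro ⟨_, ⟨γ, rfl⟩, rfl⟩
    rw [← Scheme.Hom.comp_apply, ← Over.comp_left, e, Over.comp_left, Scheme.Hom.comp_apply,
      Set.mem_singleton_iff]
    exact congrArg (x ≫ φ).left (Subsingleton.elim (α := PrimeSpectrum k) _ _)
  · rintro rfl
    exact ⟨_, self_mem a x, (Scheme.Hom.comp_apply _ _ _).symm⟩

theorem image_closure_orb (hi : GIT.IsInvariant a φ) (x : 𝕊 ⟶ X) :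
    φ.left '' closure (orb a x) = {pt (x ≫ φ)} := by
  refine Set.Subset.antisymm ?_ ((image_orb a hi x).symm.subset.trans (Set.image_mono subset_closure))
  refine (image_closure_subset_closure_image φ.left.continuous).trans ?_
  rw [image_orb a hi x, (isClosed_pt (x ≫ φ)).closure_eq]

variable [LocallyOfFiniteType G.hom]

theorem isOpenMap_snd : IsOpenMap (snd G X).left := by
  haveI : UniversallyOpen (snd G X).left :=
    MorphismProperty.of_isPullback (IsPullback.of_hasPullback G.hom X.hom) inferInstance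
  exact (snd G X).left.isOpenMap

theorem invariant_closure_orb (x : 𝕊 ⟶ X) : IsInvariantSet a (closure (orb a x)) :=
  invariant_closure (invariant_orb a x) isOpenMap_snd

/-- Orbit closures meet iff the points have the same image. -/
theorem closure_inter_nonempty_iff (h : IsGoodQuot a φ) (x₁ x₂ : 𝕊 ⟶ X) :
    (closure (orb a x₁) ∩ closure (orb a x₂)).Nonempty ↔ x₁ ≫ φ = x₂ ≫ φ := by
  rw [← Set.image_nonempty (f := φ.left), inter_pair h isClosed_closure isClosed_closure
    (invariant_closure_orb a x₁) (invariant_closure_orb a x₂), image_closure_orb a h.inv,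
    image_closure_orb a h.inv, Set.singleton_inter_nonempty, Set.mem_singleton_iff]
  exact ⟨point_eq, fun e => by rw [e]⟩

variable [IsAlgClosed k] [LocallyOfFiniteType X.hom]

theorem exists_smul {x : 𝕊 ⟶ X} {q : 𝕊 ⟶ X} (hq : pt q ∈ orb a x) :
    ∃ g : 𝕊 ⟶ G, lift g x ≫ a.act = q := by
  haveI := LocallyOfFiniteType.jacobsonSpace G.hom
  obtain ⟨γ, hγ⟩ := hq
  obtain ⟨c, hc, hcc⟩ := nonempty_inter_closedPoints (Z := (a.orbitMap x).left ⁻¹' {pt q}) ⟨γ, hγ⟩
    ((isClosed_pt q).preimage (a.orbitMap x).left.continuous).isLocallyClosed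
  obtain ⟨s, rfl⟩ := Groth.L19.AlgGrpBasic.exists_point_of_closed hcc
  refine ⟨s, ?_⟩
  have e := comp_orbitMap a x s
  rw [toUnit_unique (toUnit 𝕊) (𝟙 _), Category.id_comp] at e
  rw [← e]
  exact point_eq ((pt_comp s _).trans hc)

theorem exists_point_of_closed_mem {M : Set X.left} (hM : IsClosed M) (hne : M.Nonempty) :
    ∃ q : 𝕊 ⟶ X, pt q ∈ M := by
  haveI := LocallyOfFiniteType.jacobsonSpace X.hom
  obtain ⟨p, hp, hpc⟩ := nonempty_inter_closedPoints hne hM.isLocallyClosed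
  obtain ⟨q, rfl⟩ := Groth.L19.AlgGrpBasic.exists_point_of_closed (G := X) hpc
  exact ⟨q, hp⟩

/-- Meeting closed orbits are equal. -/
theorem exists_smul_of_closed (h : IsGoodQuot a φ) {x₁ x₂ : 𝕊 ⟶ X} (h₁ : IsClosed (orb a x₁))
    (h₂ : IsClosed (orb a x₂)) (e : x₁ ≫ φ = x₂ ≫ φ) : ∃ g : 𝕊 ⟶ G, lift g x₁ ≫ a.act = x₂ := by
  have hne := (closure_inter_nonempty_iff a h x₁ x₂).2 e
  rw [h₁.closure_eq, h₂.closure_eq] at hne
  obtain ⟨q, hq₁, hq₂⟩ := exists_point_of_closed_mem (h₁.inter h₂) hne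
  obtain ⟨g₁, hg₁⟩ := exists_smul a hq₁
  obtain ⟨g₂, hg₂⟩ := exists_smul a hq₂
  refine ⟨g₂⁻¹ * g₁, ?_⟩
  rw [Groth.L18.GITStab.mul_smul a, hg₁, ← hg₂, ← Groth.L18.GITStab.mul_smul a, inv_mul_cancel,
    Groth.L18.GITStab.one_smul a]

variable [IsAffine G.left]

theorem isLocallyConstructible_orb (x : 𝕊 ⟶ X) : IsLocallyConstructible (orb a x) := by
  haveI : IsLocallyNoetherian X.left := LocallyOfFiniteType.isLocallyNoetherian X.hom
  haveI : LocallyOfFiniteType ((a.orbitMap x).left ≫ X.hom) := by rw [Over.w]; infer_instance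
  haveI : LocallyOfFiniteType (a.orbitMap x).left := locallyOfFiniteType_of_comp _ X.hom
  haveI : QuasiCompact ((a.orbitMap x).left ≫ X.hom) := by
    rw [Over.w]; infer_instance
  haveI : QuasiSeparated X.hom := (HasAffineProperty.iff_of_isAffine (P := @QuasiSeparated)).2 inferInstance
  haveI : QuasiCompact (a.orbitMap x).left := QuasiCompact.of_comp _ X.hom
  show IsLocallyConstructible (Set.range (a.orbitMap x).left)
  rw [← Set.image_univ]
  exact Scheme.Hom.isLocallyConstructible_image _ .univ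

/-- Every nonempty compact closed invariant set contains a closed orbit. -/
theorem exists_closed_orb {F : Set X.left} (hF : IsClosed F) (hFc : IsCompact F)
    (hi : IsInvariantSet a F) (hne : F.Nonempty) : ∃ x : 𝕊 ⟶ X, pt x ∈ F ∧ IsClosed (orb a x) := by
  haveI : IsLocallyNoetherian X.left := LocallyOfFiniteType.isLocallyNoetherian X.hom
  haveI := LocallyOfFiniteType.jacobsonSpace X.hom
  let 𝒮 : Set (Set X.left) := {M | M ⊆ F ∧ IsClosed M ∧ IsInvariantSet a M ∧ M.Nonempty}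
  obtain ⟨M, hMF, hM⟩ := zorn_superset_nonempty 𝒮 (fun c hc hch hcne => by
    refine ⟨⋂₀ c, ⟨?_, isClosed_sInter fun s hs => (hc hs).2.1, ?_, ?_⟩, fun s hs => Set.sInter_subset_of_mem hs⟩
    · obtain ⟨s, hs⟩ := hcne
      exact (Set.sInter_subset_of_mem hs).trans (hc hs).1
    · exact fun p hp s hs => (hc hs).2.2.1 p (hp s hs)
    · haveI := hcne.to_subtype
      exact IsCompact.nonempty_sInter_of_directed_nonempty_isCompact_isClosed
        (IsChain.directedOn hch.symm) (fun s hs => (hc hs).2.2.2)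
        (fun s hs => hFc.of_isClosed_subset (hc hs).2.1 (hc hs).1) (fun s hs => (hc hs).2.1))
    F ⟨subset_rfl, hF, hi, hne⟩
  obtain ⟨⟨-, hMc, hMi, hMne⟩, hmin⟩ := hM
  have hfull : ∀ q : 𝕊 ⟶ X, pt q ∈ M → M ⊆ closure (orb a q) := fun q hq => by
    have hsub : closure (orb a q) ⊆ M := closure_minimal (orb_subset a hMi q hq) hMc
    exact hmin ⟨hsub.trans hMF, isClosed_closure, invariant_closure_orb a q,
      ⟨_, subset_closure (self_mem a q)⟩⟩ hsub
  obtain ⟨x, hx⟩ := exists_point_of_closed_mem hMc hMne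
  obtain ⟨O, hO, ⟨m, hmO, hmM⟩, hOE⟩ := isLocallyConstructible_open_dense (isLocallyConstructible_orb a x)
    (orb_subset a hMi x hx) (hfull x hx) hMc hMne
  have hall : ∀ q : 𝕊 ⟶ X, pt q ∈ M → pt q ∈ orb a x := fun q hq => by
    obtain ⟨p, hpO, hpq⟩ := mem_closure_iff.1 (hfull q hq hmM) O hO hmO
    obtain ⟨r, ⟨hrq, hrx⟩, hrc⟩ := exists_closedPoint
      ((isLocallyConstructible_orb a q).inter (isLocallyConstructible_orb a x))
      ⟨p, hpq, hOE ⟨hpO, orb_subset a hMi q hq hpq⟩⟩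
    obtain ⟨w, rfl⟩ := Groth.L19.AlgGrpBasic.exists_point_of_closed (G := X) hrc
    obtain ⟨g₁, hg₁⟩ := exists_smul a hrq
    obtain ⟨g₂, hg₂⟩ := exists_smul a hrx
    rw [← orb_smul a x g₂, hg₂, ← hg₁, orb_smul]
    exact self_mem a q
  refine ⟨x, hMF hx, ?_⟩
  suffices orb a x = M by rw [this]; exact hMc
  refine Set.Subset.antisymm (orb_subset a hMi x hx) fun z hz => ?_
  by_contra hzx
  obtain ⟨r, ⟨hrM, hrx⟩, hrc⟩ := exists_closedPoint
    (E := M \ orb a x) ((isLocallyConstructible_of_isClosed hMc).inter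
      (isLocallyConstructible_compl (isLocallyConstructible_orb a x))) ⟨z, hz, hzx⟩
  obtain ⟨w, rfl⟩ := Groth.L19.AlgGrpBasic.exists_point_of_closed (G := X) hrc
  exact hrx (hall w hrM)

/-- Every rational fibre of a good quotient contains a unique closed orbit. -/
theorem exists_unique_closed_orb (h : IsGoodQuot a φ) (y : 𝕊 ⟶ Y) :
    ∃ x : 𝕊 ⟶ X, x ≫ φ = y ∧ IsClosed (orb a x) ∧
      ∀ x' : 𝕊 ⟶ X, x' ≫ φ = y → IsClosed (orb a x') → ∃ g : 𝕊 ⟶ G, lift g x ≫ a.act = x' := by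
  haveI := h.affine
  obtain ⟨z, hz⟩ := surjective h (pt y)
  obtain ⟨x, hx, hxc⟩ := exists_closed_orb a ((isClosed_pt y).preimage φ.left.continuous)
    (φ.left.isCompact_preimage_singleton _) (invariant_preimage h.inv _) ⟨z, hz⟩
  have e : x ≫ φ = y := point_eq ((Scheme.Hom.comp_apply _ _ _).trans hx)
  exact ⟨x, e, hxc, fun x' e' hc' => exists_smul_of_closed a h hxc hc' (e.trans e'.symm)⟩

end Field

end Groth.L06.NRQuot
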