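import Groth.Agent.L06.NRQuot
import Groth.Agent.L18.GIT.Fppf

/-!
# Good quotients restrict to opens of the base
-/

set_option autoImplicit false
set_option maxSynthPendingDepth 3
set_option linter.style.haveILetI false
set_option backward.isDefEq.respectTransparency.types false
set_option backward.isDefEq.respectTransparency false

universe u

open CategoryTheory MonoidalCategory CartesianMonoidalCategory MonObj GrpObj AlgebraicGeometry Topology
open NRQuot

noncomputable section

namespace Groth.L06.NRQuot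

open Groth.Agent.AbDualLib (appLE_app)
open Groth.L18.GITFppf (app_eq_of_eq appLE_appLE)

theorem appLE_bijective {P Q : Scheme.{u}} (f : P ⟶ Q) [IsOpenImmersion f] {A : Q.Opens}
    (hA : A ≤ f.opensRange) {B : P.Opens} (hB : B = f ⁻¹ᵁ A) :
    Function.Bijective (f.appLE A B hB.le) := by
  subst hB
  haveI := f.isIso_app A hA
  rw [← Scheme.Hom.app_eq_appLE]
  exact (ConcreteCategory.isIso_iff_bijective _).1 inferInstance

variable {S : Scheme.{u}} {G X Y : Over S} [GrpObj G] {a : AlgGrp.Action G X} {φ : X ⟶ Y}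

theorem isGoodQuot_restrict (h : IsGoodQuot a φ) (ho : IsOpenMap (snd G X).left) {X' Y' : Over S}
    (j : X' ⟶ X) [IsOpenImmersion j.left] (i : Y' ⟶ Y) [IsOpenImmersion i.left] (φ' : X' ⟶ Y')
    (hpb : IsPullback j.left φ'.left φ.left i.left) (a' : AlgGrp.Action G X')
    (ha : a'.act ≫ j = (G ◁ j) ≫ a.act) : IsGoodQuot a' φ' := by
  have hw : φ'.left ≫ i.left = j.left ≫ φ.left := hpb.w.symm
  haveI : IsAffineHom φ.left := h.affine
  have hinv : GIT.IsInvariant a' φ' := by
    refine Over.OverMorphism.ext ((cancel_mono i.left).1 ?_)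
    rw [← Over.comp_left, ← Over.comp_left]
    refine congrArg CommaMorphism.left (?_ : (a'.act ≫ φ') ≫ i = (snd G X' ≫ φ') ≫ i)
    have hw' : φ' ≫ i = j ≫ φ := Over.OverMorphism.ext hw
    rw [Category.assoc, Category.assoc, hw', ← Category.assoc, ha, Category.assoc, h.inv,
      whiskerLeft_snd_assoc]
  have hj : ∀ x : X.left, φ.left x ∈ Set.range i.left → x ∈ Set.range j.left := fun x ⟨y, hy⟩ => by
    obtain ⟨x', hx', -⟩ := Scheme.exists_preimage_of_isPullback hpb x y hy.symm
    exact ⟨x', hx'⟩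
  have hwx : ∀ x : X'.left, i.left (φ'.left x) = φ.left (j.left x) := fun x => by
    rw [← Scheme.Hom.comp_apply, hw, Scheme.Hom.comp_apply]
  have himg : ∀ W : Set X.left, φ'.left '' (j.left ⁻¹' W) = i.left ⁻¹' (φ.left '' W) := fun W => by
    ext y
    constructor
    · rintro ⟨x, hx, rfl⟩
      exact ⟨j.left x, hx, (hwx x).symm⟩
    · rintro ⟨x, hx, hxy⟩
      obtain ⟨x', rfl⟩ := hj x ⟨y, hxy.symm⟩
      exact ⟨x', hx, i.left.isOpenEmbedding.injective ((hwx x').trans hxy)⟩
  have hWinv : ∀ W : Set X'.left, IsInvariantSet a' W → IsInvariantSet a (j.left '' W) := by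
    rintro W hW p ⟨w, hw, hp⟩
    obtain ⟨z, hz, hz'⟩ := Scheme.exists_preimage_of_isPullback
      (Groth.L18.GITStab.isPullback_whiskerLeft G j) p w hp.symm
    refine ⟨a'.act.left z, hW z (by rw [hz']; exact hw), ?_⟩
    rw [← Scheme.Hom.comp_apply, ← Over.comp_left, ha, Over.comp_left, Scheme.Hom.comp_apply, hz]
  have hWcl : ∀ W : Set X'.left, IsClosed W → j.left ⁻¹' closure (j.left '' W) = W := fun W hW => by
    rw [← j.left.isOpenEmbedding.isInducing.closure_eq_preimage_closure_image, hW.closure_eq]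
  refine ⟨MorphismProperty.of_isPullback (P := @IsAffineHom) hpb inferInstance, hinv, fun U => ?_,
    fun W hW hWi => ?_, fun J W hW hWi => ?_⟩
  · let V := i.left ''ᵁ U
    have hV : V ≤ i.left.opensRange := i.left.image_le_opensRange _
    have hUV : U = i.left ⁻¹ᵁ V := (i.left.preimage_image_eq U).symm
    let A := φ.left ⁻¹ᵁ V
    have hA : A ≤ j.left.opensRange := fun x hx => hj x (hV hx)
    have hAB : φ'.left ⁻¹ᵁ U = j.left ⁻¹ᵁ A := by
      rw [hUV, ← Scheme.Hom.comp_preimage, hw, Scheme.Hom.comp_preimage]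
    have bi := appLE_bijective i.left hV hUV
    have bj := appLE_bijective j.left hA hAB
    have sq : ∀ s : Γ(Y.left, V), φ'.left.app U (i.left.appLE V U hUV.le s) =
        j.left.appLE A (φ'.left ⁻¹ᵁ U) hAB.le (φ.left.app V s) := fun s => by
      rw [Scheme.Hom.app_eq_appLE φ'.left, appLE_appLE, appLE_app]
      exact app_eq_of_eq _ _ hw _ _ _ _ _
    refine ⟨fun t t' e => ?_, Set.ext fun f => ⟨?_, fun hf => ?_⟩⟩
    · obtain ⟨s, rfl⟩ := bi.2 t
      obtain ⟨s', rfl⟩ := bi.2 t'
      rw [sq, sq] at e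
      rw [(h.sections V).1 (bj.1 e)]
    · rintro ⟨c, rfl⟩
      show GIT.IsInvSection a' φ' U _
      rw [GIT.IsInvSection, appLE_app, appLE_app]
      exact app_eq_of_eq _ _ hinv.left _ _ _ _ _
    · obtain ⟨g, rfl⟩ := bj.2 f
      have hg : GIT.IsInvSection a φ V g := by
        let O := a.act.left ⁻¹ᵁ A ⊓ (snd G X).left ⁻¹ᵁ A
        have hGw := Groth.L18.GITStab.isPullback_whiskerLeft G j
        haveI : IsOpenImmersion (G ◁ j).left := MorphismProperty.of_isPullback hGw.flip ‹IsOpenImmersion j.left›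
        have hO : O ≤ (G ◁ j).left.opensRange := fun p hp => by
          obtain ⟨x', hx'⟩ := hA hp.2
          obtain ⟨z, hz, -⟩ := Scheme.exists_preimage_of_isPullback hGw p x' hx'.symm
          exact ⟨z, hz⟩
        have e1 : a'.act.left ≫ j.left = (G ◁ j).left ≫ a.act.left := congrArg CommaMorphism.left ha
        have e2 : (snd G X').left ≫ j.left = (G ◁ j).left ≫ (snd G X).left :=
          congrArg CommaMorphism.left (whiskerLeft_snd G j).symm
        have hOeq : a'.act.left ⁻¹ᵁ (φ'.left ⁻¹ᵁ U) ⊓ (snd G X').left ⁻¹ᵁ (φ'.left ⁻¹ᵁ U) =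
            (G ◁ j).left ⁻¹ᵁ O := by
          rw [hAB, ← Scheme.Hom.comp_preimage a'.act.left j.left A, e1,
            ← Scheme.Hom.comp_preimage (snd G X').left j.left A, e2,
            Scheme.Hom.comp_preimage (G ◁ j).left a.act.left A,
            Scheme.Hom.comp_preimage (G ◁ j).left (snd G X).left A]
          rfl
        refine (appLE_bijective (G ◁ j).left hO hOeq).1 ?_
        rw [appLE_appLE, appLE_appLE]
        have h1 : GIT.IsInvSection a' φ' U _ := hf
        rw [GIT.IsInvSection, appLE_appLE, appLE_appLE] at h1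
        exact (app_eq_of_eq _ _ e1.symm _ _ _ _ _).trans
          (h1.trans (app_eq_of_eq _ _ e2 _ _ _ _ _))
      obtain ⟨s, rfl⟩ : g ∈ Set.range (φ.left.app V) := by rw [(h.sections V).2]; exact hg
      exact ⟨_, sq s⟩
  · rw [← hWcl W hW, himg]
    exact (h.closed _ isClosed_closure (invariant_closure (hWinv W hWi) ho)).preimage i.left.continuous
  · have e := h.inter J (fun l => closure (j.left '' W l)) (fun l => isClosed_closure)
      (fun l => invariant_closure (hWinv _ (hWi l)) ho)
    calc φ'.left '' ⋂ l, W l = φ'.left '' (j.left ⁻¹' ⋂ l, closure (j.left '' W l)) := by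
          rw [Set.preimage_iInter]; exact congrArg _ (Set.iInter_congr fun l => (hWcl _ (hW l)).symm)
      _ = i.left ⁻¹' ⋂ l, φ.left '' closure (j.left '' W l) := by rw [himg, e]
      _ = ⋂ l, φ'.left '' W l := by
          rw [Set.preimage_iInter]
          exact Set.iInter_congr fun l => by rw [← himg, hWcl _ (hW l)]

end Groth.L06.NRQuot
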