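import Groth.Agent.L06.FormSmoothPBasis
import Mathlib.FieldTheory.Tower
import Mathlib.LinearAlgebra.Dimension.DivisionRing

/-! Generators of purely inseparable extensions of exponent one. -/

set_option autoImplicit false
set_option maxSynthPendingDepth 3
set_option linter.style.haveILetI false
universe u

namespace Groth.L06.Nagata

open Polynomial

variable {L : Type u} [Field L] (p : ℕ) [Fact p.Prime] [CharP L p]

omit [CharP L p] in
theorem minpoly_natDegree_le {M : Subfield L} (hM : ∀ x : L, x ^ p ∈ M) (x : L) :
    IsIntegral M x ∧ (minpoly M x).natDegree ≤ p := by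
  have hp : p.Prime := Fact.out
  have h0 : aeval x (X ^ p - C (⟨x ^ p, hM x⟩ : M)) = 0 := by
    rw [map_sub, map_pow, aeval_X, aeval_C]; exact sub_self _
  exact ⟨⟨_, monic_X_pow_sub_C _ hp.ne_zero, h0⟩,
    (natDegree_le_of_dvd (minpoly.dvd M x h0) (monic_X_pow_sub_C _ hp.ne_zero).ne_zero).trans
      natDegree_X_pow_sub_C.le⟩

omit [CharP L p] in
theorem pow_mem_intermediate {M : Subfield L} (hM : ∀ x : L, x ^ p ∈ M) (T : IntermediateField M L) (x : L) :
    x ^ p ∈ T.toSubfield := T.algebraMap_mem (⟨x ^ p, hM x⟩ : M)

omit [CharP L p] in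
/-- Adjoining `#s` elements multiplies the degree by at most `p ^ #s`, when their `p`-th powers lie below. -/
theorem finrank_adjoin_le {M : Subfield L} (s : Finset L) (hs : ∀ x ∈ s, x ^ p ∈ M) :
    Module.Finite M (IntermediateField.adjoin M (s : Set L)) ∧
      Module.finrank M (IntermediateField.adjoin M (s : Set L)) ≤ p ^ s.card := by
  classical
  have hp : p.Prime := Fact.out
  induction s using Finset.induction_on with
  | empty =>
    rw [Finset.coe_empty, IntermediateField.adjoin_empty]
    exact ⟨inferInstance, by simp⟩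
  | insert a s ha ih =>
    obtain ⟨hf, hd⟩ := ih fun x hx => hs x (Finset.mem_insert_of_mem hx)
    let T := IntermediateField.adjoin M (s : Set L)
    haveI : Module.Finite M T := hf
    have h0 : aeval a (X ^ p - C (⟨a ^ p, T.algebraMap_mem ⟨a ^ p, hs a (Finset.mem_insert_self a s)⟩⟩ : T)) = 0 := by
      rw [map_sub, map_pow, aeval_X, aeval_C]; exact sub_self _
    have hint : IsIntegral T a := ⟨_, monic_X_pow_sub_C _ hp.ne_zero, h0⟩
    let T' := IntermediateField.adjoin T ({a} : Set L)
    haveI : Module.Finite T T' := IntermediateField.adjoin.finiteDimensional hint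
    have hle : Module.finrank T T' ≤ p := by
      rw [IntermediateField.adjoin.finrank hint]
      exact (natDegree_le_of_dvd (minpoly.dvd T a h0) (monic_X_pow_sub_C _ hp.ne_zero).ne_zero).trans
        natDegree_X_pow_sub_C.le
    have e : T'.restrictScalars M = IntermediateField.adjoin M ((insert a s : Finset L) : Set L) := by
      rw [IntermediateField.adjoin_adjoin_left, Finset.coe_insert, Set.union_comm, Set.singleton_union]
    haveI : Module.Finite M T' := Module.Finite.trans T T'
    have hmul := Module.finrank_mul_finrank M T T'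
    refine ⟨e ▸ (inferInstanceAs (Module.Finite M T')), ?_⟩
    rw [← e]
    show Module.finrank M T' ≤ _
    rw [← hmul, Finset.card_insert_of_notMem ha, pow_succ]
    exact Nat.mul_le_mul hd hle

/-- A finite exponent one extension has an independent family of generators of size at most its `p`-degree. -/
theorem exists_pGenerators (M : Subfield L) (hM : ∀ x : L, x ^ p ∈ M) [Module.Finite M L] :
    ∃ s : Finset L, IntermediateField.adjoin M (s : Set L) = ⊤ ∧ p ^ s.card ≤ Module.finrank M L ∧
      ∀ c ∈ s, ∀ x, c ∉ IntermediateField.adjoin M ((s : Set L) \ {c}) ∧ (x : L) ^ p ∈ M := by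
  classical
  have hp : p.Prime := Fact.out
  have greedy : ∀ (d : ℕ) (T : IntermediateField M L), Module.finrank T L ≤ d →
      ∃ s : Finset L, IntermediateField.adjoin T (s : Set L) = ⊤ ∧ p ^ s.card ≤ Module.finrank T L := by
    intro d
    induction d with
    | zero => intro T hT; exact absurd hT (not_le.mpr Module.finrank_pos)
    | succ d ih =>
      intro T hT
      by_cases htop : T = ⊤
      · refine ⟨∅, ?_, Module.finrank_pos⟩
        rw [Finset.coe_empty, IntermediateField.adjoin_empty]
        subst htop
        exact eq_top_iff.mpr fun x _ => ⟨⟨x, IntermediateField.mem_top⟩, rfl⟩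
      · obtain ⟨x, hx⟩ : ∃ x, x ∉ T := by
          by_contra h
          push Not at h
          exact htop (eq_top_iff.mpr fun x _ => h x)
        have hirr : Irreducible (X ^ p - C (⟨x ^ p, T.algebraMap_mem ⟨x ^ p, hM x⟩⟩ : T)) :=
          X_pow_sub_C_irreducible_of_prime hp fun b hb => hx ((frobenius_inj L p (congrArg Subtype.val hb : _)) ▸ b.2)
        have hmin : minpoly T x = X ^ p - C (⟨x ^ p, T.algebraMap_mem ⟨x ^ p, hM x⟩⟩ : T) :=
          (minpoly.eq_of_irreducible_of_monic hirr (by rw [map_sub, map_pow, aeval_X, aeval_C]; exact sub_self _)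
            (monic_X_pow_sub_C _ hp.ne_zero)).symm
        have hint : IsIntegral T x := minpoly.ne_zero_iff.mp (hmin ▸ (monic_X_pow_sub_C _ hp.ne_zero).ne_zero)
        let T' := IntermediateField.adjoin T ({x} : Set L)
        have hd : Module.finrank T T' = p := by
          rw [IntermediateField.adjoin.finrank hint, hmin, natDegree_X_pow_sub_C]
        have hmul := Module.finrank_mul_finrank T T' L
        rw [hd] at hmul
        have hlt : Module.finrank T' L ≤ d := by
          have h2 := hp.two_le
          have h3 : 0 < Module.finrank T' L := Module.finrank_pos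
          nlinarith
        obtain ⟨s, hs, hcard⟩ := ih (T'.restrictScalars M) hlt
        refine ⟨insert x s, eq_top_iff.mpr ?_, ?_⟩
        · intro y _
          have hy : y ∈ IntermediateField.adjoin (T'.restrictScalars M) (s : Set L) := hs ▸ IntermediateField.mem_top
          refine (?_ : (IntermediateField.adjoin (T'.restrictScalars M) (s : Set L)).toSubfield ≤
            (IntermediateField.adjoin T ((insert x s : Finset L) : Set L)).toSubfield) hy
          refine Subfield.closure_le.mpr (Set.union_subset ?_ ?_)
          · rintro _ ⟨⟨z, hz⟩, rfl⟩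
            exact IntermediateField.adjoin.mono T _ _ (by simp) hz
          · intro z hz
            exact IntermediateField.subset_adjoin T _ (by simp only [Finset.coe_insert]; exact Or.inr hz)
        · refine (Nat.pow_le_pow_right hp.pos (Finset.card_insert_le x s)).trans ?_
          rw [pow_succ', ← hmul]
          exact Nat.mul_le_mul_left p hcard
  obtain ⟨s₀, hs₀, hc₀⟩ := greedy _ ⊥ le_rfl
  have hex : ∃ n, ∃ s : Finset L, s.card = n ∧ IntermediateField.adjoin M (s : Set L) = ⊤ := by
    refine ⟨_, s₀, rfl, ?_⟩
    have := congrArg (IntermediateField.restrictScalars M) hs₀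
    rwa [IntermediateField.restrictScalars_top, IntermediateField.restrictScalars_adjoin,
      IntermediateField.adjoin_union, sup_eq_right.mpr] at this
    rw [IntermediateField.adjoin_le_iff]
    intro z hz
    obtain ⟨c, rfl⟩ := IntermediateField.mem_bot.mp hz
    exact (IntermediateField.adjoin M _).algebraMap_mem c
  obtain ⟨s, hs, hgen⟩ := Nat.find_spec hex
  have hle : s.card ≤ s₀.card := by
    rw [hs]
    refine Nat.find_le ⟨s₀, rfl, ?_⟩
    have := congrArg (IntermediateField.restrictScalars M) hs₀
    rwa [IntermediateField.restrictScalars_top, IntermediateField.restrictScalars_adjoin,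
      IntermediateField.adjoin_union, sup_eq_right.mpr] at this
    rw [IntermediateField.adjoin_le_iff]
    intro z hz
    obtain ⟨c, rfl⟩ := IntermediateField.mem_bot.mp hz
    exact (IntermediateField.adjoin M _).algebraMap_mem c
  refine ⟨s, hgen, ((Nat.pow_le_pow_right hp.pos hle).trans hc₀).trans (le_of_eq IntermediateField.finrank_bot'), fun c hc x => ⟨fun hmem => ?_, hM x⟩⟩
  refine Nat.find_min hex (m := (s.erase c).card) (hs ▸ Finset.card_erase_lt_of_mem hc) ⟨s.erase c, rfl, ?_⟩
  refine eq_top_iff.mpr (hgen ▸ IntermediateField.adjoin_le_iff.mpr fun y hy => ?_)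
  by_cases hyc : y = c
  · subst hyc
    rw [Finset.coe_erase]
    exact hmem
  · exact IntermediateField.subset_adjoin M _ (by rw [Finset.coe_erase]; exact ⟨hy, hyc⟩)

omit [CharP L p] in
/-- A family independent over the intersection of a directed family of subfields is independent over a member. -/
theorem exists_linearIndependent_of_iInf {ι : Type*} [Nonempty ι] (F : ι → Subfield L)
    (hdir : ∀ a b, ∃ c, F c ≤ F a ⊓ F b) (Q : Subfield L) (hQ : ∀ z, (∀ i, z ∈ F i) → z ∈ Q) :
    ∀ {n : ℕ} (v : Fin n → L), LinearIndependent Q v → ∃ i, LinearIndependent (F i) v := by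
  have mono : ∀ {n : ℕ} (v : Fin n → L) {a b : ι}, F b ≤ F a → LinearIndependent (F a) v →
      LinearIndependent (F b) v := fun v a b hab h => by
    rw [Fintype.linearIndependent_iff] at h ⊢
    intro g hg i
    exact Subtype.ext (congrArg Subtype.val (h (fun j => ⟨g j, hab (g j).2⟩) hg i) :)
  intro n
  induction n with
  | zero => exact fun v _ => ⟨Classical.arbitrary ι, linearIndependent_empty_type⟩
  | succ n ih =>
    intro v hv
    obtain ⟨i₀, hi₀⟩ := ih (v ∘ Fin.succ) (hv.comp _ (Fin.succ_injective n))
    by_contra hcon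
    push Not at hcon
    have hmem : ∀ i, F i ≤ F i₀ → ∃ c : Fin n → F i, v 0 = ∑ j, (c j : L) * v j.succ := fun i hi => by
      have hn := hcon i
      rw [linearIndependent_finSucc] at hn
      have h' : v 0 ∈ Submodule.span (F i) (Set.range (Fin.tail v)) := by
        by_contra h'
        exact hn ⟨mono _ hi hi₀, h'⟩
      obtain ⟨c, hc⟩ := (Submodule.mem_span_range_iff_exists_fun _).mp h'
      exact ⟨c, hc.symm⟩
    obtain ⟨c₀, hc₀⟩ := hmem i₀ le_rfl
    have hQmem : ∀ j, (c₀ j : L) ∈ Q := fun j => hQ _ fun i => by
      obtain ⟨k, hk⟩ := hdir i i₀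
      obtain ⟨c, hc⟩ := hmem k (hk.trans inf_le_right)
      have h1 := Fintype.linearIndependent_iff.mp hi₀
        (fun l => c₀ l - ⟨c l, (hk.trans inf_le_right) (c l).2⟩) (by
          simp only [sub_smul, Finset.sum_sub_distrib]
          exact sub_eq_zero.mpr (hc₀.symm.trans hc)) j
      rw [congrArg Subtype.val (sub_eq_zero.mp h1)]
      exact (hk.trans inf_le_left) (c j).2
    rw [linearIndependent_finSucc] at hv
    exact hv.2 ((Submodule.mem_span_range_iff_exists_fun _).mpr ⟨fun j => ⟨c₀ j, hQmem j⟩, hc₀.symm⟩)

end Groth.L06.Nagata
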