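import Groth.Agent.L06.PBasisField
import Mathlib.RingTheory.MvPowerSeries.Expand
import Mathlib.RingTheory.MvPowerSeries.Equiv
import Mathlib.RingTheory.MvPowerSeries.NoZeroDivisors
import Mathlib.RingTheory.Localization.FractionRing
import Mathlib.RingTheory.Adjoin.Field
import Mathlib.RingTheory.IntegralClosure.IsIntegralClosure.Basic

/-! Subrings `k'[[T₁ᵖ, …, T_rᵖ]]` of a power series ring over a field of characteristic `p`. -/

set_option autoImplicit false
set_option maxSynthPendingDepth 3
set_option linter.style.haveILetI false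
universe u

namespace Groth.L06.PowSerFrobSub

open MvPowerSeries

variable (p : ℕ) [hp : Fact p.Prime] {k : Type u} [Field k] (r : ℕ)

/-- The embedding `g(T) ↦ g(Tᵖ)` of the power series over a subfield. -/
noncomputable def iota (L : Subfield k) : MvPowerSeries (Fin r) L →+* MvPowerSeries (Fin r) k :=
  (expand p hp.1.ne_zero).toRingHom.comp (MvPowerSeries.map L.subtype)

noncomputable def sub (L : Subfield k) : Subring (MvPowerSeries (Fin r) k) := (iota p r L).range

theorem coeff_iota_smul (L : Subfield k) (g : MvPowerSeries (Fin r) L) (n : Fin r →₀ ℕ) :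
    coeff (p • n) (iota p r L g) = (coeff n g : L) := by
  show coeff (p • n) (expand p hp.1.ne_zero (MvPowerSeries.map L.subtype g)) = _
  rw [coeff_expand_smul, coeff_map]
  rfl

theorem coeff_iota_of_not_dvd (L : Subfield k) (g : MvPowerSeries (Fin r) L) {N : Fin r →₀ ℕ} {i : Fin r}
    (h : ¬ p ∣ N i) : coeff N (iota p r L g) = 0 :=
  coeff_expand_of_not_dvd p hp.1.ne_zero _ h

omit hp in
theorem exists_smul {N : Fin r →₀ ℕ} (h : ∀ i, p ∣ N i) : ∃ n : Fin r →₀ ℕ, p • n = N :=
  ⟨Finsupp.equivFunOnFinite.symm fun i => N i / p, Finsupp.ext fun i => by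
    simp [Nat.mul_div_cancel' (h i)]⟩

theorem mem_sub {L : Subfield k} {f : MvPowerSeries (Fin r) k} :
    f ∈ sub p r L ↔ (∀ N : Fin r →₀ ℕ, (∃ i, ¬ p ∣ N i) → coeff N f = 0) ∧ ∀ n, coeff (p • n) f ∈ L := by
  constructor
  · rintro ⟨g, rfl⟩
    exact ⟨fun N ⟨i, hi⟩ => coeff_iota_of_not_dvd p r L g hi,
      fun n => by rw [coeff_iota_smul]; exact (coeff n g).2⟩
  · rintro ⟨h1, h2⟩
    let g : MvPowerSeries (Fin r) L := fun n => ⟨coeff (p • n) f, h2 n⟩
    refine ⟨g, MvPowerSeries.ext fun N => ?_⟩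
    by_cases h : ∀ i, p ∣ N i
    · obtain ⟨n, rfl⟩ := exists_smul p r h
      rw [coeff_iota_smul]
      rfl
    · push Not at h
      obtain ⟨i, hi⟩ := h
      rw [coeff_iota_of_not_dvd p r L g hi, h1 N ⟨i, hi⟩]

theorem sub_mono {L L' : Subfield k} (h : L ≤ L') : sub p r L ≤ sub p r L' := fun f hf => by
  rw [mem_sub] at hf ⊢
  exact ⟨hf.1, fun n => h (hf.2 n)⟩

theorem pow_mem [CharP k p] {L : Subfield k} (hL : ∀ x : k, x ^ p ∈ L) (f : MvPowerSeries (Fin r) k) :
    f ^ p ∈ sub p r L := by
  haveI : ExpChar k p := ExpChar.prime hp.1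
  rw [← map_frobenius_expand p hp.1.ne_zero (f := f), MvPowerSeries.map_expand]
  refine ⟨fun n => ⟨frobenius k p (coeff n f), hL _⟩, ?_⟩
  show expand p hp.1.ne_zero (MvPowerSeries.map L.subtype _) = _
  congr 1

theorem isNoetherianRing (L : Subfield k) : IsNoetherianRing (sub p r L) :=
  isNoetherianRing_range (iota p r L)

/-- The exponents below `p`. -/
noncomputable def low (m : Fin r → Fin p) : Fin r →₀ ℕ := Finsupp.equivFunOnFinite.symm fun i => (m i : ℕ)

theorem coeff_block (L : Subfield k) (m m' : Fin r → Fin p) (c : k) (g : MvPowerSeries (Fin r) L) (n : Fin r →₀ ℕ) :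
    coeff (low p r m' + p • n) (monomial (low p r m) c * iota p r L g) =
      if m = m' then c * (coeff n g : L) else 0 := by
  rw [coeff_monomial_mul]
  split_ifs with h1 h2 h2
  · subst h2
    rw [add_tsub_cancel_left, coeff_iota_smul]
  · obtain ⟨i, hi⟩ : ∃ i, m i ≠ m' i := Function.ne_iff.mp h2
    rw [coeff_iota_of_not_dvd p r L g (i := i), mul_zero]
    intro hdvd
    refine hi (Fin.ext ?_)
    have h3 : (m i : ℕ) ≤ (m' i : ℕ) + p * n i := by simpa [low] using h1 i
    obtain ⟨t, ht⟩ := hdvd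
    have ht' : (m' i : ℕ) + p * n i - (m i : ℕ) = p * t := by simpa [low] using ht
    have h4 : (m' i : ℕ) + p * n i = (m i : ℕ) + p * t := by omega
    have h5 := congrArg (· % p) h4
    simpa [Nat.mod_eq_of_lt (m i).2, Nat.mod_eq_of_lt (m' i).2] using h5.symm
  · subst h2
    exact absurd le_self_add h1
  · rfl

theorem exists_split (N : Fin r →₀ ℕ) : ∃ (m : Fin r → Fin p) (n : Fin r →₀ ℕ), low p r m + p • n = N :=
  ⟨fun i => ⟨N i % p, Nat.mod_lt _ hp.1.pos⟩, Finsupp.equivFunOnFinite.symm fun i => N i / p,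
    Finsupp.ext fun i => by simp [low, Nat.mod_add_div]⟩

theorem finite_free (L : Subfield k) [Module.Finite L k] :
    Module.Free (sub p r L) (MvPowerSeries (Fin r) k) ∧ Module.Finite (sub p r L) (MvPowerSeries (Fin r) k) := by
  classical
  let b := Module.finBasis L k
  let v : Fin (Module.finrank L k) × (Fin r → Fin p) → MvPowerSeries (Fin r) k :=
    fun x => monomial (low p r x.2) (b x.1)
  let Ψ : (Fin (Module.finrank L k) × (Fin r → Fin p) → MvPowerSeries (Fin r) L) → MvPowerSeries (Fin r) k :=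
    fun g => ∑ x, v x * iota p r L (g x)
  have hcoeff : ∀ g m n, coeff (low p r m + p • n) (Ψ g) = ∑ j, coeff n (g (j, m)) • b j := by
    intro g m n
    simp only [Ψ, v, map_sum, coeff_block]
    rw [Fintype.sum_prod_type]
    refine Finset.sum_congr rfl fun j _ => ?_
    rw [Fintype.sum_ite_eq', Subfield.smul_def, smul_eq_mul, mul_comm]
  have hinj : ∀ g, Ψ g = 0 → g = 0 := by
    intro g hg
    funext ⟨j, m⟩
    refine MvPowerSeries.ext fun n => ?_
    have h1 := hcoeff g m n
    rw [hg, map_zero] at h1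
    simpa using Fintype.linearIndependent_iff.mp b.linearIndependent _ h1.symm j
  have hsurj : ∀ f, ∃ g, Ψ g = f := by
    intro f
    refine ⟨fun x n => b.repr (coeff (low p r x.2 + p • n) f) x.1, MvPowerSeries.ext fun N => ?_⟩
    obtain ⟨m, n, rfl⟩ := exists_split p r N
    rw [hcoeff]
    exact b.sum_repr (coeff (low p r m + p • n) f)
  have hsmul : ∀ (g : MvPowerSeries (Fin r) L) x, (⟨iota p r L g, ⟨g, rfl⟩⟩ : sub p r L) • v x = v x * iota p r L g :=
    fun g x => mul_comm _ _
  have hli : LinearIndependent (sub p r L) v := by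
    rw [Fintype.linearIndependent_iff]
    intro a ha i
    choose g hg using fun x => (a x).2
    have h1 : Ψ g = 0 := by
      rw [← ha]
      refine Finset.sum_congr rfl fun x _ => ?_
      rw [← hsmul]
      exact congrArg (· • v x) (Subtype.ext (hg x))
    refine Subtype.ext ?_
    rw [← hg i, hinj g h1, Pi.zero_apply, map_zero]
    rfl
  have hsp : ⊤ ≤ Submodule.span (sub p r L) (Set.range v) := by
    intro f _
    obtain ⟨g, rfl⟩ := hsurj f
    refine Submodule.sum_mem _ fun x _ => ?_
    rw [← hsmul]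
    exact Submodule.smul_mem _ _ (Submodule.subset_span ⟨x, rfl⟩)
  let B := Module.Basis.mk hli hsp
  exact ⟨Module.Free.of_basis B, Module.Finite.of_basis B⟩

theorem mem_of_mul_eq (L : Subfield k) {a b c : MvPowerSeries (Fin r) k} (hb : b ∈ sub p r L) (hc : c ∈ sub p r L)
    (hc0 : c ≠ 0) (h : a * c = b) : a ∈ sub p r L := by
  classical
  obtain ⟨φ, hφ⟩ := (LinearMap.toSpanSingleton L k 1).exists_leftInverse_of_injective
    (LinearMap.ker_eq_bot.mpr (by
      intro x y h
      simpa [Subfield.smul_def] using h))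
  have hφ1 : ∀ x : L, φ (x : k) = x := fun x => by
    have h := LinearMap.congr_fun hφ x
    simpa [Subfield.smul_def] using h
  have hφm : ∀ (x : L) (y : k), φ (y * (x : k)) = φ y * x := fun x y => by
    rw [mul_comm y, show (x : k) * y = x • y from rfl, map_smul, smul_eq_mul, mul_comm]
  let a' : MvPowerSeries (Fin r) L := fun n => φ (coeff (p • n) a)
  obtain ⟨b', rfl⟩ := hb
  obtain ⟨c', rfl⟩ := hc
  have hdec : ∀ n, coeff (p • n) (a * iota p r L c') =
      ∑ ij ∈ Finset.antidiagonal n, coeff (p • ij.1) a * (coeff ij.2 c' : L) := by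
    intro n
    rw [coeff_mul]
    have himg : (Finset.antidiagonal n).image (fun ij => (p • ij.1, p • ij.2)) ⊆ Finset.antidiagonal (p • n) := by
      intro x hx
      obtain ⟨ij, hij, rfl⟩ := Finset.mem_image.mp hx
      rw [Finset.mem_antidiagonal] at hij ⊢
      rw [← smul_add, hij]
    rw [← Finset.sum_subset himg fun x hx hx' => ?_]
    · rw [Finset.sum_image fun x _ y _ hxy => ?_]
      · simp only [coeff_iota_smul]
      · have h1 := congrArg Prod.fst hxy
        have h2 := congrArg Prod.snd hxy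
        exact Prod.ext (nsmul_right_injective hp.1.ne_zero h1) (nsmul_right_injective hp.1.ne_zero h2)
    · by_cases hd : ∀ i, p ∣ x.2 i
      · exfalso
        obtain ⟨w, hw⟩ := exists_smul p r hd
        rw [Finset.mem_antidiagonal] at hx
        have hd1 : ∀ i, p ∣ x.1 i := fun i => by
          have := congrArg (fun f => f i) hx
          simp only [Finsupp.add_apply, Finsupp.smul_apply, smul_eq_mul] at this
          exact (Nat.dvd_add_left (hd i)).mp (this ▸ Dvd.intro _ rfl)
        obtain ⟨v, hv⟩ := exists_smul p r hd1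
        refine hx' (Finset.mem_image.mpr ⟨(v, w), ?_, Prod.ext hv hw⟩)
        rw [Finset.mem_antidiagonal]
        exact nsmul_right_injective hp.1.ne_zero (by simp only [smul_add, hv, hw, hx])
      · push Not at hd
        obtain ⟨i, hi⟩ := hd
        rw [coeff_iota_of_not_dvd p r L c' hi, mul_zero]
  have h1 : a' * c' = b' := by
    refine MvPowerSeries.ext fun n => ?_
    have h2 := hdec n
    rw [h, coeff_iota_smul] at h2
    have h3 := congrArg φ h2
    rw [hφ1, map_sum] at h3
    rw [h3, coeff_mul]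
    refine Finset.sum_congr rfl fun ij _ => ?_
    rw [hφm]
    rfl
  refine ⟨a', mul_right_cancel₀ hc0 ?_⟩
  rw [← map_mul, h1, h]

theorem exists_pth_root [CharP k p] {f : MvPowerSeries (Fin r) k}
    (h1 : ∀ N : Fin r →₀ ℕ, (∃ i, ¬ p ∣ N i) → coeff N f = 0) (h2 : ∀ n, ∃ y : k, y ^ p = coeff (p • n) f) :
    ∃ g, g ^ p = f := by
  haveI : ExpChar k p := ExpChar.prime hp.1
  choose y hy using h2
  let g : MvPowerSeries (Fin r) k := fun n => y n
  refine ⟨g, MvPowerSeries.ext fun N => ?_⟩
  rw [← map_frobenius_expand p hp.1.ne_zero (f := g), coeff_map]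
  by_cases h : ∀ i, p ∣ N i
  · obtain ⟨n, rfl⟩ := exists_smul p r h
    rw [coeff_expand_smul, ← hy n]
    rfl
  · push Not at h
    obtain ⟨i, hi⟩ := h
    rw [coeff_expand_of_not_dvd p hp.1.ne_zero g hi, map_zero, h1 N ⟨i, hi⟩]

theorem exists_cofinite_family [CharP k p] :
    ∃ (ι : Type u) (_ : Nonempty ι) (L : ι → Subfield k), (∀ a b, ∃ c, L c ≤ L a ⊓ L b) ∧
      (∀ i, Module.Finite (L i) k ∧ ∀ x : k, x ^ p ∈ L i) ∧
      ∀ z : k, (∀ i, z ∈ L i) → ∃ y, y ^ p = z := by
  classical
  let k₀ := (⊥ : Subfield k)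
  obtain ⟨B, hB⟩ := Groth.L06.PBasisField.exists_pBasis p k₀ k
  obtain ⟨b, hb⟩ := (Groth.L06.PBasisField.isPBasis_iff p _).mp hB
  let pw : Set k := Set.range fun y : k => y ^ p
  let F : Finset B → IntermediateField k₀ k := fun s =>
    IntermediateField.adjoin k₀ (pw ∪ Subtype.val '' {x : B | x ∉ s})
  have hall : ∀ z : k, z ∈ IntermediateField.adjoin k₀ (pw ∪ B) := by
    intro z
    by_contra hz
    obtain ⟨D, hD, hD1⟩ := Groth.L06.PBasisField.exists_der p hz
    have h0 : D.liftKaehlerDifferential = 0 := b.ext fun i => by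
      rw [hb, Derivation.liftKaehlerDifferential_comp_D, LinearMap.zero_apply]
      exact hD _ (IntermediateField.subset_adjoin _ _ (Or.inr i.2))
    rw [← Derivation.liftKaehlerDifferential_comp_D D z, h0, LinearMap.zero_apply] at hD1
    exact zero_ne_one hD1
  have hpow : ∀ s, ∀ x : k, x ^ p ∈ F s := fun s x => IntermediateField.subset_adjoin _ _ (Or.inl ⟨x, rfl⟩)
  refine ⟨Finset B, ⟨∅⟩, fun s => (F s).toSubfield, fun s t => ⟨s ∪ t, ?_⟩, fun s => ⟨?_, hpow s⟩, ?_⟩
  · refine le_inf ?_ ?_ <;>
      exact IntermediateField.adjoin.mono _ _ _ (Set.union_subset_union_right _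
        (Set.image_mono fun x hx hx' => hx (by simp [hx'])))
  · let T : IntermediateField (F s) k := IntermediateField.adjoin (F s) (Subtype.val '' (s : Set B))
    have hint : ∀ x ∈ Subtype.val '' (s : Set B), IsIntegral (F s) x := fun x _ => by
      refine IsIntegral.of_pow hp.1.pos ?_
      exact (show algebraMap (F s) k ⟨x ^ p, hpow s x⟩ = x ^ p from rfl) ▸ isIntegral_algebraMap
    haveI : Finite (Subtype.val '' (s : Set B) : Set k) := (s.finite_toSet.image _).to_subtype
    haveI : FiniteDimensional (F s) T := IntermediateField.finiteDimensional_adjoin hint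
    have hT : T = ⊤ := by
      refine eq_top_iff.mpr fun z _ => ?_
      refine IntermediateField.adjoin_induction k₀ (fun x hx => ?_) (fun c => ?_) (fun _ _ _ _ => T.add_mem)
        (fun _ _ => T.inv_mem) (fun _ _ _ _ => T.mul_mem) (hall z)
      · rcases hx with hx | hx
        · exact T.algebraMap_mem ⟨x, IntermediateField.subset_adjoin _ _ (Or.inl hx)⟩
        · by_cases hxs : (⟨x, hx⟩ : B) ∈ s
          · exact IntermediateField.subset_adjoin _ _ ⟨⟨x, hx⟩, hxs, rfl⟩
          · exact T.algebraMap_mem ⟨x, IntermediateField.subset_adjoin _ _ (Or.inr ⟨⟨x, hx⟩, hxs, rfl⟩)⟩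
      · exact T.algebraMap_mem (algebraMap k₀ (F s) c)
    haveI : FiniteDimensional (F s) (⊤ : IntermediateField (F s) k) := hT ▸ inferInstance
    show Module.Finite (F s) k
    exact Module.Finite.equiv IntermediateField.topEquiv.toLinearEquiv
  · intro z hz
    have hcoord : ∀ i, b.repr (KaehlerDifferential.D k₀ k z) i = 0 := by
      intro i
      refine Groth.L06.PBasisField.kills_adjoin
        ((b.coord i).compDer (KaehlerDifferential.D k₀ k)) _ (fun y hy => ?_) z (hz {i})
      rcases hy with ⟨c, rfl⟩ | ⟨x, hx, rfl⟩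
      · exact Groth.L06.PBasisUniv.eq_zero_of_pow_derivation p _ c
      · show b.repr (KaehlerDifferential.D k₀ k (x : k)) i = 0
        rw [← hb x, b.repr_self, Finsupp.single_eq_of_ne]
        exact fun h => hx (Finset.mem_singleton.mpr h.symm)
    have hd : KaehlerDifferential.D k₀ k z = 0 := b.repr.injective (Finsupp.ext fun i => by simp [hcoord i])
    have hmem : z ∈ IntermediateField.adjoin k₀ (pw ∪ (∅ : Set k)) := by
      by_contra hz'
      obtain ⟨D, -, hD1⟩ := Groth.L06.PBasisField.exists_der p hz'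
      rw [← Derivation.liftKaehlerDifferential_comp_D D z, hd, map_zero] at hD1
      exact zero_ne_one hD1
    haveI : ExpChar k p := ExpChar.prime hp.1
    let P : Subfield k := (frobenius k p).fieldRange
    have hP : (IntermediateField.adjoin k₀ (pw ∪ (∅ : Set k))).toSubfield ≤ P := by
      rw [IntermediateField.adjoin_toSubfield, Subfield.closure_le]
      rintro x (⟨c, rfl⟩ | hx)
      · exact (bot_le : (⊥ : Subfield k) ≤ P) c.2
      · rcases hx with ⟨y, rfl⟩ | hx
        · exact ⟨y, rfl⟩
        · exact absurd hx (Set.notMem_empty _)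
    obtain ⟨y, hy⟩ := hP hmem
    exact ⟨y, hy⟩

end Groth.L06.PowSerFrobSub
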