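import Groth.Agent.L06.NagataSep
import Groth.Agent.L06.NagataPDeg
import Groth.Agent.L06.PowSerFrobSub
import Groth.Agent.L06.PowSerDer
import Groth.Agent.L01.NagataComplete
import Groth.Agent.L12.PSRing

/-! Derivations of a power series ring in characteristic `p` separate differentials at every prime. -/

set_option autoImplicit false
set_option maxSynthPendingDepth 3
set_option linter.style.haveILetI false
universe u

open IsLocalRing
open Groth.L06.PowSerFrobSub (iota sub low)

namespace Groth.L06.Nagata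

open MvPowerSeries

/-- An additive endomorphism satisfying the Leibniz rule. -/
def IsRingDer {A : Type u} [CommRing A] (D : A →+ A) : Prop :=
  ∀ a b, D (a * b) = a * D b + b * D a

theorem isDer_comp {A : Type u} [CommRing A] {L : Type u} [Field L] [Algebra A L] {D : A →+ A} (hD : IsRingDer D) :
    IsDer ((algebraMap A L).toAddMonoidHom.comp D) := fun a b => by
  show algebraMap A L (D (a * b)) = _
  rw [hD, map_add, map_mul, map_mul]
  rfl

section Rep

variable (p : ℕ) [hp : Fact p.Prime] {K : Type u} [Field K] {n : ℕ}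

theorem monomial_mem (S : Subring (MvPowerSeries (Fin n) K)) (hX : ∀ i, X i ∈ S) (hC : ∀ c, C c ∈ S)
    (m : Fin n →₀ ℕ) (c : K) : monomial m c ∈ S := by
  induction m using Finsupp.induction with
  | zero => rw [monomial_zero_eq_C_apply]; exact hC c
  | single_add i b m _ _ ih =>
    rw [show monomial (Finsupp.single i b + m) c = (X i) ^ b * monomial m c by
      rw [X_pow_eq, monomial_mul_monomial, one_mul]]
    exact mul_mem (pow_mem (hX i) b) ih

/-- The variables, the constants and `K'[[Tᵖ]]` generate the power series ring. -/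
theorem subring_eq_top (L : Subfield K) [Module.Finite L K] (S : Subring (MvPowerSeries (Fin n) K))
    (hsub : sub p n L ≤ S) (hX : ∀ i, X i ∈ S) (hC : ∀ c, C c ∈ S) (f : MvPowerSeries (Fin n) K) : f ∈ S := by
  classical
  let b := Module.finBasis L K
  let g : Fin (Module.finrank L K) × (Fin n → Fin p) → MvPowerSeries (Fin n) L := fun x m =>
    b.repr (coeff (low p n x.2 + p • m) f) x.1
  have : f = ∑ x, monomial (low p n x.2) (b x.1) * iota p n L (g x) := by
    refine MvPowerSeries.ext fun N => ?_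
    obtain ⟨m, m', rfl⟩ := Groth.L06.PowSerFrobSub.exists_split p n N
    rw [map_sum]
    simp only [Groth.L06.PowSerFrobSub.coeff_block]
    rw [Fintype.sum_prod_type]
    refine (b.sum_repr (coeff (low p n m + p • m') f)).symm.trans (Finset.sum_congr rfl fun j _ => ?_)
    rw [Fintype.sum_ite_eq', Subfield.smul_def, smul_eq_mul, mul_comm]
    rfl
  rw [this]
  exact Subring.sum_mem _ fun x _ => mul_mem (monomial_mem S hX hC _ _) (hsub ⟨g x, rfl⟩)

theorem pderiv_sub [CharP K p] (L : Subfield K) (i : Fin n) {f : MvPowerSeries (Fin n) K} (hf : f ∈ sub p n L) :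
    pderiv K i f = 0 := by
  rw [Groth.L06.PowSerFrobSub.mem_sub] at hf
  refine MvPowerSeries.ext fun N => ?_
  rw [coeff_pderiv, map_zero]
  by_cases h : ∀ l, p ∣ (N + Finsupp.single i (1 : ℕ)) l
  · have h1 := h i
    rw [Finsupp.add_apply, Finsupp.single_eq_same] at h1
    rw [show ((N i : K) + 1) = ((N i + 1 : ℕ) : K) by push_cast; rfl, (CharP.cast_eq_zero_iff K p _).mpr h1, mul_zero]
  · push Not at h
    rw [hf.1 _ h, zero_mul]

/-- A derivation of the coefficients, applied coefficientwise. -/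
noncomputable def cDer (d : Derivation ℤ K K) : MvPowerSeries (Fin n) K →+ MvPowerSeries (Fin n) K :=
  AddMonoidHom.mk' (Groth.L06.PowSerDer.coeffDer K d) fun f g => by
    ext m; simp [Groth.L06.PowSerDer.coeff_coeffDer]

theorem isRingDer_cDer (d : Derivation ℤ K K) : IsRingDer (cDer (n := n) d) := fun a b => by
  exact (Groth.L06.PowSerDer.coeffDerivation (σ := Fin n) K d).leibniz a b

theorem coeff_cDer (d : Derivation ℤ K K) (f : MvPowerSeries (Fin n) K) (m : Fin n →₀ ℕ) :
    coeff m (cDer d f) = d (coeff m f) := rfl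

theorem cDer_C (d : Derivation ℤ K K) (c : K) : cDer (n := n) d (C c) = C (d c) := by
  classical
  refine MvPowerSeries.ext fun m => ?_
  rw [coeff_cDer, coeff_C, coeff_C]
  split_ifs <;> simp

theorem cDer_X (d : Derivation ℤ K K) (i : Fin n) : cDer d (X i : MvPowerSeries (Fin n) K) = 0 := by
  classical
  refine MvPowerSeries.ext fun m => ?_
  rw [coeff_cDer, coeff_X, map_zero]
  split_ifs <;> simp

theorem cDer_sub (L : Subfield K) (d : Derivation ℤ K K) (hd : ∀ x ∈ L, d x = 0) {f : MvPowerSeries (Fin n) K}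
    (hf : f ∈ sub p n L) : cDer d f = 0 := by
  rw [Groth.L06.PowSerFrobSub.mem_sub] at hf
  refine MvPowerSeries.ext fun N => ?_
  rw [coeff_cDer, map_zero]
  by_cases h : ∀ l, p ∣ N l
  · obtain ⟨m, rfl⟩ := Groth.L06.PowSerFrobSub.exists_smul p n h
    exact hd _ (hf.2 m)
  · push Not at h
    rw [hf.1 _ h, map_zero]

theorem C_mem_sub {L : Subfield K} {c : K} (hc : c ∈ L) : C c ∈ sub p n L := by
  classical
  rw [Groth.L06.PowSerFrobSub.mem_sub]
  refine ⟨fun N ⟨i, hi⟩ => ?_, fun m => ?_⟩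
  · rw [coeff_C, if_neg fun h => hi (by rw [h]; exact dvd_zero p)]
  · rw [coeff_C]; split_ifs
    · exact hc
    · exact zero_mem L

theorem X_pow_mem_sub (L : Subfield K) (i : Fin n) : (X i : MvPowerSeries (Fin n) K) ^ p ∈ sub p n L := by
  classical
  refine ⟨X i, ?_⟩
  show expand p hp.1.ne_zero (MvPowerSeries.map L.subtype (X i)) = _
  rw [MvPowerSeries.map_X, MvPowerSeries.expand_X]

theorem iota_C (L : Subfield K) (c : L) : iota p n L (C c) = C (c : K) := by
  show expand p hp.1.ne_zero (MvPowerSeries.map L.subtype (C c)) = _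
  rw [MvPowerSeries.map_C, MvPowerSeries.expand_C]
  rfl

theorem iota_X (L : Subfield K) (i : Fin n) : iota p n L (X i) = (X i) ^ p := by
  show expand p hp.1.ne_zero (MvPowerSeries.map L.subtype (X i)) = _
  rw [MvPowerSeries.map_X, MvPowerSeries.expand_X]

theorem iota_injective (L : Subfield K) : Function.Injective (iota p n L) := fun g g' h => by
  refine MvPowerSeries.ext fun m => Subtype.ext ?_
  have := congrArg (coeff (p • m)) h
  rwa [Groth.L06.PowSerFrobSub.coeff_iota_smul, Groth.L06.PowSerFrobSub.coeff_iota_smul] at this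

end Rep

section Residue

variable {A : Type u} [CommRing A] {𝔭 : Ideal A} [𝔭.IsPrime] {L : Type u} [Field L] [Algebra A L]

/-- A derivation into the residue field killing the prime extends to it. -/
theorem exists_field_der (hL : IsResidue 𝔭 L) {δ : A →+ L} (hδ : IsDer δ) (hk : ∀ a ∈ 𝔭, δ a = 0) :
    ∃ D : Derivation ℤ L L, ∀ (z : L) (a s : A), s ∉ 𝔭 → z * algebraMap A L s = algebraMap A L a →
      D z = (δ a - z * δ s) / algebraMap A L s := by
  choose a₀ s₀ hs₀ h₀ using hL.surj
  let d : L → L := fun z => (δ (a₀ z) - z * δ (s₀ z)) / algebraMap A L (s₀ z)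
  have key : ∀ (z : L) (a s : A), s ∉ 𝔭 → z * algebraMap A L s = algebraMap A L a →
      d z = (δ a - z * δ s) / algebraMap A L s := fun z a s hs h => by
    have hmem : a₀ z * s - a * s₀ z ∈ 𝔭 := by
      rw [← hL.eq_zero_iff, map_sub, map_mul, map_mul, ← h₀ z, ← h]; ring
    have h1 := hk _ hmem
    rw [map_sub, hδ, hδ, ← h₀ z, ← h] at h1
    show (_ - _) / _ = _
    rw [div_eq_div_iff (hL.ne_zero (hs₀ z)) (hL.ne_zero hs)]
    linear_combination h1
  have hadd : ∀ x y, d (x + y) = d x + d y := fun x y => by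
    rw [key (x + y) (a₀ x * s₀ y + a₀ y * s₀ x) (s₀ x * s₀ y)
      (fun h => (Ideal.IsPrime.mem_or_mem ‹_› h).elim (hs₀ x) (hs₀ y))
      (by rw [map_add, map_mul, map_mul, map_mul, ← h₀ x, ← h₀ y]; ring)]
    show _ = (_ - _) / _ + (_ - _) / _
    have hx := hL.ne_zero (hs₀ x); have hy := hL.ne_zero (hs₀ y)
    rw [map_mul (algebraMap A L), map_add δ, hδ, hδ, hδ, ← h₀ x, ← h₀ y]
    field_simp
    ring
  have hmul : ∀ x y, d (x * y) = x * d y + y * d x := fun x y => by
    rw [key (x * y) (a₀ x * a₀ y) (s₀ x * s₀ y)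
      (fun h => (Ideal.IsPrime.mem_or_mem ‹_› h).elim (hs₀ x) (hs₀ y))
      (by rw [map_mul, map_mul, ← h₀ x, ← h₀ y]; ring)]
    show _ = x * ((_ - _) / _) + y * ((_ - _) / _)
    have hx := hL.ne_zero (hs₀ x); have hy := hL.ne_zero (hs₀ y)
    rw [map_mul (algebraMap A L), hδ, hδ, ← h₀ x, ← h₀ y]
    field_simp
    ring
  exact ⟨Derivation.mk' (AddMonoidHom.mk' d hadd).toIntLinearMap hmul, key⟩

theorem field_der_apply (hL : IsResidue 𝔭 L) {δ : A →+ L} (hδ : IsDer δ) {D : Derivation ℤ L L}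
    (h : ∀ (z : L) (a s : A), s ∉ 𝔭 → z * algebraMap A L s = algebraMap A L a →
      D z = (δ a - z * δ s) / algebraMap A L s) (a : A) : D (algebraMap A L a) = δ a := by
  have h1 : δ 1 = 0 := by
    have := hδ 1 1
    rw [mul_one, map_one (algebraMap A L), one_mul] at this
    linear_combination -this
  rw [h _ a 1 ((Ideal.ne_top_iff_one _).mp (Ideal.IsPrime.ne_top ‹_›)) (by rw [map_one, mul_one]), map_one (algebraMap A L), div_one,
    h1, mul_zero, sub_zero]

/-- A derivation killing generators of `𝔭` at the prime kills `𝔭`. -/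
theorem kills_prime (hL : IsResidue 𝔭 L) {δ : A →+ L} (hδ : IsDer δ) {h : ℕ} (g : Fin h → A)
    (hg : ∀ j, g j ∈ 𝔭)
    (hgen : maximalIdeal (Localization.AtPrime 𝔭) =
      Ideal.span (Set.range fun j => algebraMap A (Localization.AtPrime 𝔭) (g j)))
    (h0 : ∀ j, δ (g j) = 0) {x : A} (hx : x ∈ 𝔭) : δ x = 0 := by
  obtain ⟨σ, hσ, c, hc⟩ := exists_comb g ((Localization.AtPrime.map_eq_maximalIdeal (I := 𝔭)).trans hgen) hx
  have h1 := der_comb hL hδ le_rfl g hg hx hc
  simp only [h0, mul_zero, Finset.sum_const_zero] at h1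
  exact (mul_eq_zero.mp h1).resolve_left (hL.ne_zero hσ)

theorem isDer_sum {ι : Type*} [Fintype ι] (δ : ι → A →+ L) (hδ : ∀ i, IsDer (δ i)) (v : ι → L) :
    ∃ δ' : A →+ L, IsDer δ' ∧ ∀ a, δ' a = ∑ i, v i * δ i a := by
  refine ⟨AddMonoidHom.mk' (fun a => ∑ i, v i * δ i a) fun a b => by
    simp only [map_add, mul_add, Finset.sum_add_distrib], fun a b => ?_, fun a => rfl⟩
  show ∑ i, _ = _ * ∑ i, _ + _ * ∑ i, _
  rw [Finset.mul_sum, Finset.mul_sum, ← Finset.sum_add_distrib]
  exact Finset.sum_congr rfl fun i _ => by rw [hδ i]; ring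

theorem isDer_sub {δ δ' : A →+ L} (h : IsDer δ) (h' : IsDer δ') : IsDer (δ - δ') := fun a b => by
  simp only [AddMonoidHom.sub_apply, h a b, h' a b]; ring

/-- The kernel of a derivation is a subring. -/
def kerSubring {δ : A →+ L} (hδ : IsDer δ) : Subring A where
  carrier := {a | δ a = 0}
  one_mem' := by
    show δ 1 = 0
    have := hδ 1 1
    rw [mul_one, map_one (algebraMap A L), one_mul] at this
    linear_combination -this
  zero_mem' := map_zero δ
  add_mem' := fun {a b} (ha : δ a = 0) (hb : δ b = 0) => by show δ (a + b) = 0; rw [map_add, ha, hb, add_zero]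
  neg_mem' := fun {a} (ha : δ a = 0) => by show δ (-a) = 0; rw [map_neg, ha, neg_zero]
  mul_mem' := fun {a b} (ha : δ a = 0) (hb : δ b = 0) => by show δ (a * b) = 0; rw [hδ, ha, hb, mul_zero, mul_zero, add_zero]

/-- The constants killed by a derivation form a subfield. -/
def constSubfield {K : Type u} [Field K] (j : K →+* A) {δ : A →+ L} (hδ : IsDer δ) : Subfield K where
  toSubring := (kerSubring hδ).comap j
  inv_mem' := fun c (hc : δ (j c) = 0) => by
    show δ (j c⁻¹) = 0
    rcases eq_or_ne c 0 with rfl | h0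
    · simpa using hc
    · have h1 : δ 1 = 0 := (kerSubring hδ).one_mem
      have h2 := hδ (j c) (j c⁻¹)
      rw [← map_mul, mul_inv_cancel₀ h0, map_one, h1, hc, mul_zero, add_zero] at h2
      refine (mul_eq_zero.mp h2.symm).resolve_left fun hz => ?_
      have h3 : algebraMap A L (j c * j c⁻¹) = 0 := by rw [map_mul, hz, zero_mul]
      rw [← map_mul, mul_inv_cancel₀ h0, map_one, map_one] at h3
      exact one_ne_zero h3

end Residue

theorem derivation_pow_eq_zero (p : ℕ) {L : Type u} [Field L] [CharP L p] (D : Derivation ℤ L L) (x : L) :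
    D (x ^ p) = 0 := by
  rw [D.leibniz_pow, nsmul_eq_mul, CharP.cast_eq_zero, zero_mul]

/-- The kernel subfield of a derivation. -/
def derKer {L : Type u} [Field L] (D : Derivation ℤ L L) : Subfield L where
  carrier := {x | D x = 0}
  one_mem' := D.map_one_eq_zero
  zero_mem' := map_zero D
  add_mem' := fun {a b} (ha : D a = 0) (hb : D b = 0) => by show D (a + b) = 0; rw [map_add, ha, hb, add_zero]
  neg_mem' := fun {a} (ha : D a = 0) => by show D (-a) = 0; rw [map_neg, ha, neg_zero]
  mul_mem' := fun {a b} (ha : D a = 0) (hb : D b = 0) => by show D (a * b) = 0; rw [D.leibniz, ha, hb]; simp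
  inv_mem' := fun a (ha : D a = 0) => by show D a⁻¹ = 0; rw [D.leibniz_inv, ha, smul_zero]

theorem subfield_of_adjoin_top {L : Type u} [Field L] (M : Subfield L) (s : Set L)
    (h : IntermediateField.adjoin M s = ⊤) (S : Subfield L) (hM : M ≤ S) (hs : s ⊆ S) (x : L) : x ∈ S := by
  have hx : x ∈ (IntermediateField.adjoin M s).toSubfield := by
    show x ∈ IntermediateField.adjoin M s
    rw [h]; trivial
  refine (?_ : (IntermediateField.adjoin M s).toSubfield ≤ S) hx
  refine Subfield.closure_le.mpr (Set.union_subset ?_ hs)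
  rintro _ ⟨⟨z, hz⟩, rfl⟩
  exact hM hz

theorem linearIndependent_of_subfield_le {L : Type u} [Field L] {M M' : Subfield L} (h : M ≤ M') {n : ℕ} {z : Fin n → L}
    (hz : LinearIndependent M' z) : LinearIndependent M z := by
  rw [Fintype.linearIndependent_iff] at hz ⊢
  intro g hg i
  have h1 : ∑ j, (⟨(g j : L), h (g j).2⟩ : M') • z j = 0 := by
    simpa only [Subfield.smul_def] using hg
  exact Subtype.ext (by simpa using congrArg Subtype.val (hz (fun j => ⟨(g j : L), h (g j).2⟩) h1 i))

section Tower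

variable (p : ℕ) [hp : Fact p.Prime] {K : Type u} [Field K] {s : ℕ} {L : Type u} [Field L] [CharP L p]
  (φ : MvPowerSeries (Fin s) K →+* L)

/-- The subfield generated by the image of `K'[[Xᵖ]]`. -/
noncomputable def Mfield (L' : Subfield K) : Subfield L := Subfield.closure ((sub p s L').map φ : Set L)

/-- The subfield generated by the image of `K[[X]]`. -/
noncomputable def Pfield : Subfield L := Subfield.closure (φ.range : Set L)

theorem Mfield_mono {L' L'' : Subfield K} (h : L' ≤ L'') : Mfield p φ L' ≤ Mfield p φ L'' :=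
  Subfield.closure_mono (Set.image_mono (f := φ) (Groth.L06.PowSerFrobSub.sub_mono p s h))

theorem pow_mem_Mfield [CharP K p] {L' : Subfield K} (hpow : ∀ x : K, x ^ p ∈ L') {a : L} (ha : a ∈ Pfield φ) :
    a ^ p ∈ Mfield p φ L' := by
  refine (Subfield.closure_le.mpr ?_ : Pfield φ ≤ (Mfield p φ L').comap (frobenius L p)) ha
  rintro _ ⟨t, rfl⟩
  show (φ t) ^ p ∈ Mfield p φ L'
  rw [← map_pow]
  exact Subfield.subset_closure ⟨_, Groth.L06.PowSerFrobSub.pow_mem p s hpow t, rfl⟩

theorem mem_pow_of_forall [CharP K p] (hφ : Function.Injective φ) {ι : Type u} [Nonempty ι] (Kf : ι → Subfield K)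
    (hpow : ∀ i, ∀ x : K, x ^ p ∈ Kf i) (hint : ∀ z : K, (∀ i, z ∈ Kf i) → ∃ y, y ^ p = z)
    (z : L) (hz : ∀ i, z ∈ Mfield p φ (Kf i)) : z ∈ (Pfield φ).map (frobenius L p) := by
  have hrep : ∀ i, ∃ a ∈ sub p s (Kf i), ∃ b ∈ sub p s (Kf i), z = φ a / φ b := fun i => by
    obtain ⟨y, hy, w, hw, h⟩ := Subfield.mem_closure_iff.mp (hz i)
    rw [Subring.closure_eq, Subring.mem_map] at hy hw
    obtain ⟨a, ha, rfl⟩ := hy
    obtain ⟨b, hb, rfl⟩ := hw
    exact ⟨a, ha, b, hb, h.symm⟩
  by_cases hz0 : z = 0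
  · rw [hz0]; exact zero_mem _
  obtain ⟨a, -, b, -, hab⟩ := hrep (Classical.arbitrary ι)
  have hb0 : φ b ≠ 0 := fun h => hz0 (by rw [hab, h, div_zero])
  let c := a * b ^ (p - 1)
  have hc : φ c = z * φ b ^ p := by
    rw [map_mul, map_pow, hab, div_mul_eq_mul_div, eq_div_iff hb0, mul_assoc, ← pow_succ,
      Nat.sub_add_cancel hp.1.pos]
  have hcmem : ∀ i, c ∈ sub p s (Kf i) := fun i => by
    obtain ⟨a', ha', b', hb', h'⟩ := hrep i
    have hb'0 : φ b' ≠ 0 := fun h => hz0 (by rw [h', h, div_zero])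
    refine Groth.L06.PowSerFrobSub.mem_of_mul_eq p s (Kf i)
      (mul_mem (Groth.L06.PowSerFrobSub.pow_mem p s (hpow i) b) ha') hb' (fun h => hb'0 (by rw [h, map_zero])) (hφ ?_)
    rw [map_mul φ c b', hc, map_mul, map_pow, h']
    field_simp
  have hc1 := fun i => (Groth.L06.PowSerFrobSub.mem_sub p s).mp (hcmem i)
  obtain ⟨d, hd⟩ := Groth.L06.PowSerFrobSub.exists_pth_root p s (f := c) (hc1 (Classical.arbitrary ι)).1
    fun m => hint _ fun i => (hc1 i).2 m
  refine Subfield.mem_map.mpr ⟨φ d / φ b, div_mem (Subfield.subset_closure ⟨d, rfl⟩) (Subfield.subset_closure ⟨b, rfl⟩), ?_⟩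
  rw [frobenius_def, div_pow, ← map_pow, hd, hc, mul_div_assoc, div_self (pow_ne_zero _ hb0), mul_one]

end Tower

section Main

variable (p : ℕ) [hp : Fact p.Prime] {K : Type u} [Field K] [CharP K p] {r : ℕ}
  (𝔭 : Ideal (MvPowerSeries (Fin r) K)) [𝔭.IsPrime] {L : Type u} [Field L]
  [Algebra (MvPowerSeries (Fin r) K) L]

omit [CharP K p] in
/-- The image of `K'[[Tᵖ]]` lies in the subalgebra over the normalization generated by `Tᵢᵖ`. -/
theorem mk_sub_mem {s : ℕ} (f : MvPowerSeries (Fin s) K →+* MvPowerSeries (Fin r) K ⧸ 𝔭)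
    (hinj : Function.Injective f) (hfin : f.Finite) (hfC : ∀ c, f (C c) = Ideal.Quotient.mk 𝔭 (C c))
    (L' : Subfield K) [Module.Finite L' K] (g : MvPowerSeries (Fin r) L') :
    Ideal.Quotient.mk 𝔭 (iota p r L' g) ∈ Subring.closure
      (Set.range (f.comp (iota p s L')) ∪ Set.range fun i => Ideal.Quotient.mk 𝔭 (X i) ^ p) := by
  classical
  let T := MvPowerSeries (Fin s) L'
  let B := MvPowerSeries (Fin r) K ⧸ 𝔭
  haveI : Nontrivial B := Ideal.Quotient.nontrivial_iff.mpr (Ideal.IsPrime.ne_top ‹_›)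
  haveI : IsLocalRing B := IsLocalRing.of_surjective' _ Ideal.Quotient.mk_surjective
  haveI : IsLocalHom (Ideal.Quotient.mk 𝔭) := IsLocalHom.of_surjective _ Ideal.Quotient.mk_surjective
  haveI : IsRegularLocalRing T := Groth.L01.PowSerReg.isRegularLocalRing L' s
  have hιfin : (iota p s L').Finite := by
    haveI : Module.Finite (sub p s L') (MvPowerSeries (Fin s) K) :=
      (Groth.L06.PowSerFrobSub.finite_free p s L').2
    have h2 : (iota p s L') = (sub p s L').subtype.comp (iota p s L').rangeRestrict := rfl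
    rw [h2]
    exact (RingHom.finite_algebraMap.mpr (inferInstance : Module.Finite (sub p s L') (MvPowerSeries (Fin s) K))).comp
      (RingHom.Finite.of_surjective _ (RingHom.rangeRestrict_surjective _))
  let fα := f.comp (iota p s L')
  have hfαfin : fα.Finite := hfin.comp hιfin
  have hfαinj : Function.Injective fα := hinj.comp (iota_injective p L')
  letI : Algebra T B := fα.toAlgebra
  haveI : Module.Finite T B := hfαfin
  haveI : IsLocalHom fα := hfαfin.to_isIntegral.isLocalHom hfαinj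
  let I : Ideal T := maximalIdeal T
  have hrad : maximalIdeal B ≤ (I.map fα).radical := by
    rw [Ideal.radical_eq_sInf]
    refine le_sInf fun P ⟨hP, hPp⟩ => ?_
    haveI := hPp
    have hcomap : P.comap (algebraMap T B) = I :=
      ((maximalIdeal.isMaximal T).eq_of_le (Ideal.comap_ne_top _ hPp.ne_top) (Ideal.map_le_iff_le_comap.mp hP)).symm
    haveI : Algebra.IsIntegral T B := Algebra.IsIntegral.of_finite T B
    haveI : P.IsMaximal := Ideal.isMaximal_of_isIntegral_of_isMaximal_comap P (by rw [hcomap]; exact maximalIdeal.isMaximal T)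
    exact (IsLocalRing.eq_maximalIdeal ‹P.IsMaximal›).ge
  obtain ⟨N₀, hN₀⟩ := Ideal.exists_pow_le_of_le_radical_of_fg hrad (IsNoetherian.noetherian _)
  let G := Set.range fα ∪ Set.range fun i => Ideal.Quotient.mk 𝔭 (X i : MvPowerSeries (Fin r) K) ^ p
  let R := Subring.closure G
  let N : Submodule T B :=
    { carrier := R
      add_mem' := R.add_mem
      zero_mem' := R.zero_mem
      smul_mem' := fun t x hx => R.mul_mem (Subring.subset_closure (Or.inl ⟨t, rfl⟩)) hx }
  have hXm : ∀ i, Ideal.Quotient.mk 𝔭 (X i : MvPowerSeries (Fin r) K) ^ p ∈ maximalIdeal B := fun i =>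
    Ideal.pow_mem_of_mem _ (map_nonunit (Ideal.Quotient.mk 𝔭) _ (mem_maximalIdeal_X i)) p hp.1.pos
  have approx : ∀ (j : ℕ) (g : MvPowerSeries (Fin r) L'),
      ∃ x ∈ R, Ideal.Quotient.mk 𝔭 (iota p r L' g) - x ∈ maximalIdeal B ^ j := by
    intro j
    induction j with
    | zero => exact fun g => ⟨0, zero_mem _, by simp⟩
    | succ j ih =>
      intro g
      have hv : g - C (constantCoeff g) ∈ Groth.L01.PowSerReg.varIdeal L' r := by
        have := Groth.L01.PowSerReg.mem_pow_of_order 1 (g - C (constantCoeff g))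
          (by exact_mod_cast MvPowerSeries.one_le_order_iff_constCoeff_eq_zero.mpr (by simp))
        rwa [pow_one] at this
      obtain ⟨c, hc⟩ := Ideal.mem_span_range_iff_exists_fun.mp hv
      choose x hx hxm using fun i => ih (c i)
      have hC : Ideal.Quotient.mk 𝔭 (iota p r L' (C (constantCoeff g))) = fα (C (constantCoeff g)) := by
        show _ = f (iota p s L' _)
        rw [iota_C, iota_C, hfC]
      refine ⟨fα (C (constantCoeff g)) + ∑ i, x i * Ideal.Quotient.mk 𝔭 (X i) ^ p,
        add_mem (Subring.subset_closure (Or.inl ⟨_, rfl⟩)) (Subring.sum_mem _ fun i _ =>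
          mul_mem (hx i) (Subring.subset_closure (Or.inr ⟨i, rfl⟩))), ?_⟩
      have hg : g = C (constantCoeff g) + ∑ i, c i * X i := by rw [hc, add_sub_cancel]
      conv in (iota p r L' g) => rw [hg]
      rw [map_add, map_add, hC, map_sum, map_sum, add_sub_add_left_eq_sub, ← Finset.sum_sub_distrib]
      refine Ideal.sum_mem _ fun i _ => ?_
      rw [map_mul, map_mul, iota_X, map_pow, ← sub_mul, pow_succ]
      exact Ideal.mul_mem_mul (hxm i) (hXm i)
  suffices h : Submodule.Quotient.mk (p := N) (Ideal.Quotient.mk 𝔭 (iota p r L' g)) = 0 from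
    (Submodule.Quotient.mk_eq_zero N).mp h
  have hmem : Submodule.Quotient.mk (p := N) (Ideal.Quotient.mk 𝔭 (iota p r L' g)) ∈
      ⨅ i : ℕ, I ^ i • (⊤ : Submodule T (B ⧸ N)) := Submodule.mem_iInf _ |>.mpr fun i => by
    obtain ⟨x, hx, hxm⟩ := approx (N₀ * i) g
    have h1 : Ideal.Quotient.mk 𝔭 (iota p r L' g) - x ∈ (I ^ i • (⊤ : Submodule T B)) := by
      rw [Ideal.smul_top_eq_map, Submodule.restrictScalars_mem, Ideal.map_pow]
      rw [pow_mul] at hxm
      exact Ideal.pow_right_mono hN₀ i hxm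
    have h2 := Submodule.mem_map_of_mem (f := N.mkQ) h1
    rw [Submodule.map_smul'', Submodule.map_top, Submodule.range_mkQ, map_sub, Submodule.mkQ_apply, Submodule.mkQ_apply,
      (Submodule.Quotient.mk_eq_zero N).mpr hx, sub_zero] at h2
    exact h2
  rwa [Ideal.iInf_pow_smul_eq_bot_of_isLocalRing _ (maximalIdeal.isMaximal T).ne_top, Submodule.mem_bot] at hmem

include p hp in
/-- The degree of `L` over the field generated over `M` by independent `p`-th powers of a spanning set. -/
theorem deg_bound {L : Type u} [Field L] [CharP L p] (M : Subfield L) {n : ℕ} (hn : 0 < n) (y z : Fin n → L)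
    (hzM : LinearIndependent M z) (Sgen : Finset L) (hSgen : ∀ w ∈ Sgen, w ^ p ∈ M)
    (hspanT' : Submodule.span (IntermediateField.adjoin M (Sgen : Set L)) (Set.range y) = ⊤) :
    Module.Finite (IntermediateField.adjoin M (Set.range z)).toSubfield L ∧
      Module.finrank (IntermediateField.adjoin M (Set.range z)).toSubfield L ≤ p ^ Sgen.card := by
  obtain ⟨hT'fin, hT'deg⟩ := finrank_adjoin_le p Sgen hSgen
  let T' := IntermediateField.adjoin M (Sgen : Set L)
  let Gi := IntermediateField.adjoin M (Set.range z)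
  haveI : Module.Finite T' L := Module.Finite.of_fg_top (hspanT' ▸ Submodule.fg_span (Set.finite_range _))
  haveI : Module.Finite M T' := hT'fin
  haveI : Module.Finite M L := Module.Finite.trans T' L
  have hLT' : Module.finrank T' L ≤ n := by
    have := finrank_range_le_card (R := T') (b := y)
    rw [Set.finrank, hspanT', finrank_top, Fintype.card_fin] at this
    exact this
  have hLM : Module.finrank M L ≤ p ^ Sgen.card * n := by
    rw [← Module.finrank_mul_finrank M T' L]
    exact Nat.mul_le_mul hT'deg hLT'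
  have hGn : n ≤ Module.finrank M Gi := by
    have h1 : LinearIndependent M (fun l => (⟨z l, IntermediateField.subset_adjoin _ _ ⟨l, rfl⟩⟩ : Gi)) :=
      LinearIndependent.of_comp Gi.val.toLinearMap hzM
    simpa using h1.fintype_card_le_finrank
  haveI : Module.Finite Gi L := Module.Finite.of_restrictScalars_finite M Gi L
  have h2 : n * Module.finrank Gi L ≤ n * p ^ Sgen.card :=
    (Nat.mul_le_mul_right _ hGn).trans ((Module.finrank_mul_finrank M Gi L).le.trans (hLM.trans (le_of_eq (mul_comm _ _))))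
  exact ⟨‹Module.Finite Gi L›, Nat.le_of_mul_le_mul_left h2 hn⟩

include p hp in
/-- Fields generated by `p`-th powers over a directed family with intersection `Pᵖ` meet in `Lᵖ`. -/
theorem exists_pow_family {L : Type u} [Field L] [CharP L p] (P : Subfield L) [Module.Finite P L] {ι : Type u}
    [Nonempty ι] (M : ι → Subfield L) (hMdir : ∀ i j, ∃ l, M l ≤ M i ⊓ M j)
    (hMQ : ∀ x, (∀ i, x ∈ M i) → x ∈ P.map (frobenius L p)) (hPM : ∀ i, ∀ a ∈ P, a ^ p ∈ M i) :
    ∃ (n : ℕ) (y : Fin n → L), 0 < n ∧ (∀ x, x ∈ Submodule.span P (Set.range y)) ∧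
      (∃ α₁, LinearIndependent (M α₁) fun l => y l ^ p) ∧
      (∀ i (x : L), x ^ p ∈ (IntermediateField.adjoin (M i) (Set.range fun l => y l ^ p)).toSubfield) ∧
      ∀ x, (∀ i, x ∈ (IntermediateField.adjoin (M i) (Set.range fun l => y l ^ p)).toSubfield) → ∃ y, y ^ p = x := by
  classical
  let y := Module.finBasis P L
  let n := Module.finrank P L
  let z : Fin n → L := fun i => y i ^ p
  let Q := P.map (frobenius L p)
  have hzQ : LinearIndependent Q z := by
    rw [Fintype.linearIndependent_iff]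
    intro g hg i
    choose b hb hbg using fun j => (g j).2
    have h1 : (∑ j, (⟨b j, hb j⟩ : P) • y j) ^ p = 0 := by
      rw [sum_pow_char, ← hg]
      refine Finset.sum_congr rfl fun j _ => ?_
      rw [Subfield.smul_def, smul_eq_mul, mul_pow, Subfield.smul_def, smul_eq_mul, ← hbg j]
      rfl
    have h2 := Fintype.linearIndependent_iff.mp y.linearIndependent _ (pow_eq_zero_iff hp.1.ne_zero |>.mp h1) i
    refine Subtype.ext ?_
    rw [← hbg i, frobenius_def, show b i = 0 from congrArg Subtype.val h2]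
    exact zero_pow hp.1.ne_zero
  obtain ⟨α₁, hα₁⟩ := exists_linearIndependent_of_iInf M hMdir Q hMQ z hzQ
  have hxp : ∀ x : L, ∃ b : Fin n → L, (∀ i, b i ∈ P) ∧ x ^ p = ∑ i, b i ^ p * z i := fun x => by
    refine ⟨fun i => (y.repr x i : P), fun i => (y.repr x i).2, ?_⟩
    conv_lhs => rw [← y.sum_repr x]
    rw [sum_pow_char]
    exact Finset.sum_congr rfl fun i _ => by rw [Subfield.smul_def, smul_eq_mul, mul_pow]
  let Gi : ∀ i, IntermediateField (M i) L := fun i => IntermediateField.adjoin (M i) (Set.range z)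
  let G : ι → Subfield L := fun i => (Gi i).toSubfield
  have hMG : ∀ i, M i ≤ G i := fun i x hx => (Gi i).algebraMap_mem (⟨x, hx⟩ : M i)
  have hGpow : ∀ i (x : L), x ^ p ∈ G i := fun i x => by
    obtain ⟨b, hb, hx⟩ := hxp x
    rw [hx]
    exact sum_mem fun l _ => mul_mem (hMG i (hPM i _ (hb l)))
      (IntermediateField.subset_adjoin _ _ ⟨l, rfl⟩)
  have hGspan : ∀ i, ∀ x ∈ G i, x ∈ Submodule.span (M i) (Set.range z) := fun i x hx => by
    have hclo : ∀ w ∈ Submonoid.closure (Set.range z), w ∈ Submodule.span (M i) (Set.range z) := by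
      intro w hw
      obtain ⟨u, hu⟩ : ∃ u, u ^ p = w := by
        refine (Submonoid.closure_le (S := MonoidHom.mrange (frobenius L p : L →* L))).mpr ?_ hw
        rintro _ ⟨l, rfl⟩
        exact ⟨y l, rfl⟩
      obtain ⟨b, hb, hub⟩ := hxp u
      rw [← hu, hub]
      exact Submodule.sum_mem _ fun l _ =>
        Submodule.smul_mem _ (⟨b l ^ p, hPM i _ (hb l)⟩ : M i) (Submodule.subset_span ⟨l, rfl⟩)
    have halg : ∀ w ∈ Set.range z, IsAlgebraic (M i) w := by
      rintro _ ⟨l, rfl⟩
      have h1 : y l ^ p ^ 1 = z l := by rw [pow_one]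
      have : IsIntegral (M i) (z l) := by
        refine IsIntegral.of_pow (n := p) hp.1.pos ?_
        obtain ⟨b, hb, hx⟩ := hxp (z l)
        have hP : IsIntegral P (z l) := Algebra.IsIntegral.isIntegral _
        obtain ⟨Qp, hQm, hQ⟩ := hP
        let fr : P →+* M i := ((frobenius L p).comp P.subtype).codRestrict (M i) fun a =>
          hPM i _ a.2
        refine ⟨Qp.map fr, hQm.map _, ?_⟩
        rw [Polynomial.eval₂_map, show (algebraMap (M i) L).comp fr = (frobenius L p).comp (algebraMap P L) from rfl,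
          ← frobenius_def, ← Polynomial.hom_eval₂, hQ, map_zero]
      exact this.isAlgebraic
    have hx' : x ∈ (IntermediateField.adjoin (M i) (Set.range z)).toSubalgebra := hx
    rw [IntermediateField.adjoin_toSubalgebra_of_isAlgebraic halg, ← Subalgebra.mem_toSubmodule,
      Algebra.adjoin_eq_span] at hx'
    exact (Submodule.span_le.mpr hclo) hx'
  have hGint : ∀ x, (∀ i, x ∈ G i) → x ∈ (frobenius L p).fieldRange := fun x hx => by
    have hxs : x ∈ Submodule.span Q (Set.range z) := by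
      by_contra hns
      obtain ⟨i, hi⟩ := exists_linearIndependent_of_iInf M hMdir Q hMQ (Fin.cons x z)
        (linearIndependent_finCons.mpr ⟨hzQ, hns⟩)
      exact (linearIndependent_finCons.mp hi).2 (hGspan i x (hx i))
    obtain ⟨c, rfl⟩ := (Submodule.mem_span_range_iff_exists_fun _).mp hxs
    refine sum_mem fun l _ => ?_
    rw [Subfield.smul_def, smul_eq_mul]
    obtain ⟨b, -, hb⟩ := (c l).2
    exact mul_mem ⟨b, hb⟩ ⟨y l, rfl⟩
  refine ⟨n, y, Module.finrank_pos, fun x => ?_, ⟨α₁, hα₁⟩, hGpow, hGint⟩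
  rw [← y.sum_repr x]
  exact Submodule.sum_mem _ fun l _ => Submodule.smul_mem _ _ (Submodule.subset_span ⟨l, rfl⟩)

omit [CharP K p] in
/-- The residue field is finite over the field generated by the normalization. -/
theorem finite_Pfield (hL : IsResidue 𝔭 L) {s : ℕ}
    (f : MvPowerSeries (Fin s) K →+* MvPowerSeries (Fin r) K ⧸ 𝔭) (hfin : f.Finite)
    (ψ : MvPowerSeries (Fin r) K ⧸ 𝔭 →+* L) (hψ : ∀ a, ψ (Ideal.Quotient.mk 𝔭 a) = algebraMap _ L a) :
    Module.Finite (Pfield (ψ.comp f)) L := by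
  classical
  let A := MvPowerSeries (Fin r) K
  let B := A ⧸ 𝔭
  let φ : MvPowerSeries (Fin s) K →+* L := ψ.comp f
  let P := Pfield φ
  letI := f.toAlgebra
  obtain ⟨G, hG⟩ := (hfin : Module.Finite (MvPowerSeries (Fin s) K) B).fg_top
  letI : Algebra (MvPowerSeries (Fin s) K) L := φ.toAlgebra
  have hint : ∀ x ∈ ψ '' (G : Set B), IsIntegral P x := by
    rintro _ ⟨b, -, rfl⟩
    obtain ⟨Q, hQm, hQ⟩ := hfin.to_isIntegral b
    let φP : MvPowerSeries (Fin s) K →+* P := φ.codRestrict P fun t => Subfield.subset_closure ⟨t, rfl⟩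
    refine ⟨Q.map φP, hQm.map _, ?_⟩
    rw [Polynomial.eval₂_map]
    show Q.eval₂ (ψ.comp f) (ψ b) = 0
    rw [← Polynomial.hom_eval₂, hQ, map_zero]
  haveI : Finite (ψ '' (G : Set B) : Set L) := (G.finite_toSet.image _).to_subtype
  haveI := IntermediateField.finiteDimensional_adjoin hint
  have htop : IntermediateField.adjoin P (ψ '' (G : Set B)) = ⊤ := by
    refine eq_top_iff.mpr fun z _ => ?_
    have hB : ∀ b : B, ψ b ∈ IntermediateField.adjoin P (ψ '' (G : Set B)) := fun b => by
      have hb : b ∈ Submodule.span (MvPowerSeries (Fin s) K) (G : Set B) := hG ▸ Submodule.mem_top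
      induction hb using Submodule.span_induction with
      | mem x hx => exact IntermediateField.subset_adjoin _ _ ⟨x, hx, rfl⟩
      | zero => rw [map_zero]; exact zero_mem _
      | add x y _ _ hx hy => rw [map_add]; exact add_mem hx hy
      | smul t x _ hx =>
        rw [show ψ (t • x) = φ t * ψ x from map_mul ψ (f t) x]
        exact mul_mem ((IntermediateField.adjoin P _).algebraMap_mem ⟨φ t, Subfield.subset_closure ⟨t, rfl⟩⟩) hx
    obtain ⟨a, t, ht, hat⟩ := hL.surj z
    rw [eq_div_of_mul_eq (hL.ne_zero ht) hat, ← hψ, ← hψ]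
    exact div_mem (hB (Ideal.Quotient.mk 𝔭 a)) (hB (Ideal.Quotient.mk 𝔭 t))
  rw [htop] at this
  exact Module.Finite.equiv (IntermediateField.topEquiv (F := P) (E := L)).toLinearEquiv

include p hp in
set_option maxHeartbeats 1000000 in
/-- A directed family of subfields of `L` with intersection `Lᵖ` and degrees of bounded growth. -/
theorem exists_tower (hL : IsResidue 𝔭 L) {s : ℕ}
    (f : MvPowerSeries (Fin s) K →+* MvPowerSeries (Fin r) K ⧸ 𝔭) (hinj : Function.Injective f) (hfin : f.Finite)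
    (hfC' : ∀ c, f (C c) = Ideal.Quotient.mk 𝔭 (C c)) :
    ∃ (ι : Type u) (_ : Preorder ι) (_ : IsDirected ι (fun a b => a ≤ b)) (_ : Nonempty ι) (Kf : ι → Subfield K)
      (G : ι → Subfield L) (α₁ : ι), Antitone G ∧ (∀ i, Module.Finite (Kf i) K ∧ ∀ x : K, x ^ p ∈ Kf i) ∧
      (∀ i (x : L), x ^ p ∈ G i) ∧ (∀ x, (∀ i, x ∈ G i) → ∃ y, y ^ p = x) ∧
      (∀ i, ∀ u ∈ sub p r (Kf i), algebraMap _ L u ∈ G i) ∧
      (∀ i (D : Derivation ℤ L L), (∀ t w, Ideal.Quotient.mk 𝔭 w = f (iota p s (Kf i) t) →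
        D (algebraMap _ L w) = 0) → G i ≤ derKer D) ∧
      ∀ α, α₁ ≤ α → ∀ cs : Finset K, IntermediateField.adjoin (Kf α) (cs : Set K) = ⊤ →
        Module.Finite (G α) L ∧ Module.finrank (G α) L ≤ p ^ (s + cs.card) := by
  classical
  let A := MvPowerSeries (Fin r) K
  let B := A ⧸ 𝔭
  haveI : IsRegularLocalRing A := Groth.L01.PowSerReg.isRegularLocalRing K r
  haveI : IsAdicComplete (maximalIdeal A) A := Groth.L12.isAdicComplete_mvPowerSeries
  haveI : Nontrivial B := Ideal.Quotient.nontrivial_iff.mpr (Ideal.IsPrime.ne_top ‹_›)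
  haveI : IsLocalRing B := IsLocalRing.of_surjective' _ Ideal.Quotient.mk_surjective
  haveI : IsLocalHom (Ideal.Quotient.mk 𝔭) := IsLocalHom.of_surjective _ Ideal.Quotient.mk_surjective
  haveI : CharP L p := charP_of_injective_ringHom ((algebraMap A L).comp C).injective p
  let ψ : B →+* L := Ideal.Quotient.lift 𝔭 (algebraMap A L) fun x hx => (hL.eq_zero_iff x).mpr hx
  have hψ : Function.Injective ψ := by
    rw [injective_iff_map_eq_zero]
    intro x hx
    obtain ⟨x, rfl⟩ := Ideal.Quotient.mk_surjective x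
    exact Ideal.Quotient.eq_zero_iff_mem.mpr ((hL.eq_zero_iff x).mp hx)
  let φ : MvPowerSeries (Fin s) K →+* L := ψ.comp f
  have hφ : Function.Injective φ := hψ.comp hinj
  haveI : Module.Finite (Pfield φ) L := finite_Pfield 𝔭 hL f hfin ψ fun a => rfl
  obtain ⟨ι, _, Kf, hdir, hKf, hint⟩ := Groth.L06.PowSerFrobSub.exists_cofinite_family p (k := K)
  let M : ι → Subfield L := fun i => Mfield p φ (Kf i)
  have hMdir : ∀ i j, ∃ l, M l ≤ M i ⊓ M j := fun i j => by
    obtain ⟨l, hl⟩ := hdir i j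
    exact ⟨l, le_inf (Mfield_mono p φ (hl.trans inf_le_left)) (Mfield_mono p φ (hl.trans inf_le_right))⟩
  have hMQ : ∀ x, (∀ i, x ∈ M i) → x ∈ (Pfield φ).map (frobenius L p) := mem_pow_of_forall p φ hφ Kf (fun i => (hKf i).2) hint
  obtain ⟨n, y, hn, hy, ⟨α₁, hα₁⟩, hGpow, hGint⟩ := exists_pow_family p (Pfield φ) M hMdir hMQ
    fun i a ha => pow_mem_Mfield p φ (hKf i).2 ha
  let G : ι → Subfield L := fun i => (IntermediateField.adjoin (M i) (Set.range fun l => y l ^ p)).toSubfield
  have hMG : ∀ i, M i ≤ G i := fun i x hx =>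
    (IntermediateField.adjoin (M i) (Set.range fun l => y l ^ p)).algebraMap_mem (⟨x, hx⟩ : M i)
  have hGmono : ∀ i j, Kf i ≤ Kf j → G i ≤ G j := fun i j hij => Subfield.closure_le.mpr (Set.union_subset (by
    rintro _ ⟨⟨x, hx⟩, rfl⟩
    exact hMG j (Mfield_mono p φ hij hx)) fun x hx => IntermediateField.subset_adjoin _ _ hx)
  let instP : Preorder ι := Preorder.lift (fun i => OrderDual.toDual (Kf i))
  letI := instP
  have hdirI : IsDirected ι (fun a b => a ≤ b) := ⟨fun i j => by
    obtain ⟨l, hl⟩ := hdir i j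
    exact ⟨l, hl.trans inf_le_left, hl.trans inf_le_right⟩⟩
  have hanti : Antitone G := fun i j (h : Kf j ≤ Kf i) => hGmono j i h
  -- the image of the small subring lies in `G α`
  have hsubG : ∀ α, ∀ u ∈ sub p r (Kf α), algebraMap A L u ∈ G α := by
    intro α
    haveI : Module.Finite (Kf α) K := (hKf α).1
    rintro _ ⟨g', rfl⟩
    have h1 := mk_sub_mem p 𝔭 f hinj hfin hfC' (Kf α) g'
    refine (Subring.closure_le.mpr ?_ : _ ≤ (G α).toSubring.comap ψ) h1
    rintro _ (⟨t, rfl⟩ | ⟨i, rfl⟩)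
    · exact hMG α (Subfield.subset_closure ⟨_, ⟨t, rfl⟩, rfl⟩)
    · show ψ (Ideal.Quotient.mk 𝔭 (X i) ^ p) ∈ G α
      rw [map_pow]; exact hGpow α _
  refine ⟨ι, instP, hdirI, ‹_›, Kf, G, α₁, hanti, hKf, hGpow, hGint, hsubG, fun α D hD => ?_, fun α hαle cs hcs => ?_⟩
  · refine Subfield.closure_le.mpr (Set.union_subset ?_ ?_)
    · rintro _ ⟨⟨x, hx⟩, rfl⟩
      refine (Subfield.closure_le.mpr ?_ : M α ≤ derKer D) hx
      rintro _ ⟨_, ⟨t, rfl⟩, rfl⟩
      obtain ⟨w, hw⟩ := Ideal.Quotient.mk_surjective (f (iota p s (Kf α) t))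
      show D (φ (iota p s (Kf α) t)) = 0
      rw [show φ (iota p s (Kf α) t) = algebraMap A L w from congrArg ψ hw.symm]
      exact hD t w hw
    · rintro _ ⟨l, rfl⟩
      exact derivation_pow_eq_zero p D (y l)
  haveI : Module.Finite (Kf α) K := (hKf α).1
  have hzM : LinearIndependent (M α) fun l => y l ^ p :=
    linearIndependent_of_subfield_le (Mfield_mono p φ hαle) hα₁
  -- degree of `L` over `G α`
  let Sgen : Finset L := (Finset.univ.image fun j => φ (X j)) ∪ cs.image fun c => φ (C c)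
  have hSgen : ∀ w ∈ Sgen, w ^ p ∈ M α := fun w hw => by
    rcases Finset.mem_union.mp hw with h | h
    · obtain ⟨j, -, rfl⟩ := Finset.mem_image.mp h
      exact pow_mem_Mfield p φ (hKf α).2 (Subfield.subset_closure ⟨_, rfl⟩)
    · obtain ⟨c, -, rfl⟩ := Finset.mem_image.mp h
      exact pow_mem_Mfield p φ (hKf α).2 (Subfield.subset_closure ⟨_, rfl⟩)
  let T' := IntermediateField.adjoin (M α) (Sgen : Set L)
  have hPT' : Pfield φ ≤ T'.toSubfield := by
    refine Subfield.closure_le.mpr ?_
    rintro _ ⟨t, rfl⟩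
    refine subring_eq_top p (Kf α) (T'.toSubfield.toSubring.comap φ) (fun w hw => ?_) (fun j => ?_) (fun c => ?_) t
    · exact T'.algebraMap_mem (⟨φ w, Subfield.subset_closure ⟨w, hw, rfl⟩⟩ : M α)
    · exact IntermediateField.subset_adjoin _ _ (by simp [Sgen])
    · refine subfield_of_adjoin_top (Kf α) _ hcs (T'.toSubfield.comap (φ.comp C)) (fun w hw => ?_) (fun w hw => ?_) c
      · exact T'.algebraMap_mem (⟨φ (C w), Subfield.subset_closure ⟨_, C_mem_sub p hw, rfl⟩⟩ : M α)
      · exact IntermediateField.subset_adjoin _ _ (Finset.mem_union_right _ (Finset.mem_image_of_mem _ hw))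
  have hspanT' : Submodule.span T' (Set.range y) = ⊤ := by
    refine eq_top_iff.mpr fun x _ => ?_
    obtain ⟨c, rfl⟩ := (Submodule.mem_span_range_iff_exists_fun _).mp (hy x)
    exact Submodule.sum_mem _ fun l _ => Submodule.smul_mem _ (⟨_, hPT' (c l).2⟩ : T') (Submodule.subset_span ⟨l, rfl⟩)
  obtain ⟨h1, h2⟩ := deg_bound p (M α) hn y (fun l => y l ^ p) hzM Sgen hSgen hspanT'
  refine ⟨h1, h2.trans (Nat.pow_le_pow_right hp.1.pos ?_)⟩
  refine (Finset.card_union_le _ _).trans (Nat.add_le_add (Finset.card_image_le.trans ?_) Finset.card_image_le)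
  rw [Finset.card_univ, Fintype.card_fin]

open Classical in
include p hp in
/-- The derivations `∂/∂Tᵢ` and those dual to generators of `K` over a subfield. -/
theorem exists_fam (L' : Subfield K) [Module.Finite L' K] (hpow : ∀ x : K, x ^ p ∈ L') :
    ∃ (cs : Finset K) (Dfam : Fin r ⊕ cs → (MvPowerSeries (Fin r) K →+ MvPowerSeries (Fin r) K)),
      IntermediateField.adjoin L' (cs : Set K) = ⊤ ∧ (∀ x, IsRingDer (Dfam x)) ∧
      (∀ x, ∀ u ∈ sub p r L', Dfam x u = 0) ∧ (∀ x i, Dfam x (X i) = if x = Sum.inl i then 1 else 0) ∧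
      (∀ (x : Fin r ⊕ cs) (c : cs), Dfam x (C (c : K)) = if x = Sum.inr c then 1 else 0) := by
  classical
  obtain ⟨cs, hcs, hcsdeg, hcsind⟩ := exists_pGenerators p L' hpow
  have hd : ∀ c : cs, ∃ d : Derivation ℤ K K,
      (∀ x ∈ (IntermediateField.adjoin L' ((cs : Set K) \ {(c : K)})).toSubfield, d x = 0) ∧ d (c : K) = 1 :=
    fun c => Groth.L06.PBasis.exists_der_killing p _
      (pow_mem_intermediate p hpow _) ((hcsind c c.2 0).1)
  choose d hd0 hd1 using hd
  have hdK : ∀ c, ∀ x ∈ L', d c x = 0 := fun c x hx => hd0 c x (IntermediateField.algebraMap_mem _ (⟨x, hx⟩ : L'))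
  have hdc : ∀ c c' : cs, d c (c' : K) = if c = c' then 1 else 0 := fun c c' => by
    split_ifs with h
    · subst h; exact hd1 c
    · exact hd0 c c' (IntermediateField.subset_adjoin _ _ ⟨c'.2, fun h' => h (Subtype.ext (Set.mem_singleton_iff.mp h')).symm⟩)
  let Dfam : Fin r ⊕ cs → (MvPowerSeries (Fin r) K →+ MvPowerSeries (Fin r) K) := fun x =>
    x.elim (fun i => (pderiv K i).toLinearMap.toAddMonoidHom) fun c => cDer (d c)
  refine ⟨cs, Dfam, hcs, fun x => ?_, fun x u hu => ?_, fun x i => ?_, fun x c => ?_⟩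
  · cases x with
    | inl i => exact fun u v => by simpa [Dfam, smul_eq_mul] using (pderiv K i).leibniz u v
    | inr c => exact isRingDer_cDer (d c)
  · cases x with
    | inl i => exact pderiv_sub p L' i hu
    | inr c => exact cDer_sub p L' (d c) (hdK c) hu
  · cases x with
    | inl l =>
      show pderiv K l (X i) = _
      by_cases h : i = l
      · subst h; rw [pderiv_X_self, if_pos rfl]
      · rw [pderiv_X_of_ne h, if_neg fun h' => h (Sum.inl.inj h').symm]
    | inr c =>
      show cDer (d c) (X i) = _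
      rw [cDer_X, if_neg Sum.inr_ne_inl]
  · cases x with
    | inl l =>
      show pderiv K l (C (c : K)) = _
      rw [show (C (c : K) : MvPowerSeries (Fin r) K) = algebraMap K _ c from rfl, Derivation.map_algebraMap, if_neg Sum.inl_ne_inr]
    | inr c' =>
      show cDer (d c') (C (c : K)) = _
      rw [cDer_C, hdc]
      by_cases h : c' = c
      · subst h; rw [if_pos rfl, if_pos rfl, map_one]
      · rw [if_neg h, if_neg fun h' => h (Sum.inr.inj h'), map_zero]

open Classical in
include p hp in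
/-- A derivation killing `L'[[Tᵖ]]` is a combination of the standard family. -/
theorem exists_comb_fam (L' : Subfield K) [Module.Finite L' K] {cs : Finset K}
    (hcs : IntermediateField.adjoin L' (cs : Set K) = ⊤)
    (Dfam : Fin r ⊕ cs → (MvPowerSeries (Fin r) K →+ MvPowerSeries (Fin r) K)) (hDfam : ∀ x, IsRingDer (Dfam x))
    (fam_sub : ∀ x, ∀ u ∈ sub p r L', Dfam x u = 0)
    (hX : ∀ x i, Dfam x (X i) = if x = Sum.inl i then 1 else 0)
    (hC : ∀ (x : Fin r ⊕ cs) (c : cs), Dfam x (C (c : K)) = if x = Sum.inr c then 1 else 0)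
    (δ₀ : MvPowerSeries (Fin r) K →+ L) (h₀ : IsDer δ₀) (hsub : ∀ u ∈ sub p r L', δ₀ u = 0) :
    ∃ v : Fin r ⊕ cs → L, ∀ u, δ₀ u = ∑ x, v x * algebraMap _ L (Dfam x u) := by
  classical
  let A := MvPowerSeries (Fin r) K
  let fam : Fin r ⊕ cs → (A →+ L) := fun x => (algebraMap A L).toAddMonoidHom.comp (Dfam x)
  have hfam : ∀ x, IsDer (fam x) := fun x => isDer_comp (hDfam x)
  have fam_X : ∀ x i, fam x (X i) = if x = Sum.inl i then 1 else 0 := fun x i => by
    show algebraMap A L (Dfam x (X i)) = _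
    rw [hX]; split_ifs <;> simp
  have fam_C : ∀ x (c : cs), fam x (C (c : K)) = if x = Sum.inr c then 1 else 0 := fun x c => by
    show algebraMap A L (Dfam x (C (c : K))) = _
    rw [hC]; split_ifs <;> simp
  let v : Fin r ⊕ cs → L := Sum.elim (fun i => δ₀ (X i)) fun c : cs => δ₀ (C (c : K))
  obtain ⟨δ', hδ', hδ'v⟩ := isDer_sum fam hfam v
  refine ⟨v, fun u => ?_⟩
  show δ₀ u = ∑ x, v x * fam x u
  rw [← hδ'v, ← sub_eq_zero]
  show u ∈ kerSubring (isDer_sub h₀ hδ')
  refine subring_eq_top p L' _ (fun w hw => ?_) (fun i => ?_) (fun c => ?_) u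
  · show δ₀ w - δ' w = 0
    rw [hsub w hw, hδ'v, Finset.sum_eq_zero fun x _ => ?_, sub_zero]
    show v x * algebraMap A L (Dfam x w) = 0
    rw [fam_sub x w hw, map_zero, mul_zero]
  · show δ₀ (X i) - δ' (X i) = 0
    rw [hδ'v, Finset.sum_eq_single (Sum.inl i) (fun x _ hx => by rw [fam_X, if_neg hx, mul_zero])
      (fun h => absurd (Finset.mem_univ _) h), fam_X, if_pos rfl, mul_one]
    exact sub_self _
  · refine subfield_of_adjoin_top L' _ hcs (constSubfield (C : K →+* A) (isDer_sub h₀ hδ')) (fun w hw => ?_) (fun w hw => ?_) c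
    · show δ₀ (C w) - δ' (C w) = 0
      rw [hsub _ (C_mem_sub p hw), hδ'v, Finset.sum_eq_zero fun x _ => ?_, sub_zero]
      show v x * algebraMap A L (Dfam x (C w)) = 0
      rw [fam_sub x _ (C_mem_sub p hw), map_zero, mul_zero]
    · show δ₀ (C w) - δ' (C w) = 0
      rw [hδ'v, Finset.sum_eq_single (Sum.inr ⟨w, hw⟩) (fun x _ hx => by rw [fam_C x ⟨w, hw⟩, if_neg hx, mul_zero])
        (fun h => absurd (Finset.mem_univ _) h), fam_C _ ⟨w, hw⟩, if_pos rfl, mul_one]
      exact sub_self _

open Classical in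
include p hp in
set_option maxHeartbeats 1000000 in
/-- The standard family attains every value at a regular system of parameters of the prime. -/
theorem surj_fam (hL : IsResidue 𝔭 L) {s : ℕ}
    (f : MvPowerSeries (Fin s) K →+* MvPowerSeries (Fin r) K ⧸ 𝔭) (hinj : Function.Injective f) (hfin : f.Finite)
    (hfC' : ∀ c, f (C c) = Ideal.Quotient.mk 𝔭 (C c)) (L' : Subfield K) {cs : Finset K}
    (Dfam : Fin r ⊕ cs → (MvPowerSeries (Fin r) K →+ MvPowerSeries (Fin r) K)) (hDfam : ∀ x, IsRingDer (Dfam x))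
    (fam_sub : ∀ x, ∀ u ∈ sub p r L', Dfam x u = 0)
    (hX : ∀ x i, Dfam x (X i) = if x = Sum.inl i then 1 else 0)
    (hC : ∀ (x : Fin r ⊕ cs) (c : cs), Dfam x (C (c : K)) = if x = Sum.inr c then 1 else 0)
    (G : Subfield L) [Module.Finite G L] (hLG : Module.finrank G L ≤ p ^ (s + cs.card)) (hGpow : ∀ x : L, x ^ p ∈ G)
    (hDG : ∀ D : Derivation ℤ L L, (∀ t w, Ideal.Quotient.mk 𝔭 w = f (iota p s L' t) →
      D (algebraMap _ L w) = 0) → G ≤ derKer D)
    {h : ℕ} (g : Fin h → MvPowerSeries (Fin r) K)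
    (hgd : ringKrullDim (Localization.AtPrime 𝔭) = (h : WithBot ℕ∞)) (hg : ∀ j, g j ∈ 𝔭)
    (hgen : maximalIdeal (Localization.AtPrime 𝔭) =
      Ideal.span (Set.range fun j => algebraMap _ (Localization.AtPrime 𝔭) (g j)))
    (v₀ : Fin h → L) :
    ∃ v : Fin r ⊕ cs → L, ∀ j, ∑ x, v x * algebraMap _ L (Dfam x (g j)) = v₀ j := by
  classical
  let A := MvPowerSeries (Fin r) K
  let B := A ⧸ 𝔭
  haveI : IsRegularLocalRing A := Groth.L01.PowSerReg.isRegularLocalRing K r
  haveI : IsAdicComplete (maximalIdeal A) A := Groth.L12.isAdicComplete_mvPowerSeries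
  haveI : Nontrivial B := Ideal.Quotient.nontrivial_iff.mpr (Ideal.IsPrime.ne_top ‹_›)
  haveI : IsLocalRing B := IsLocalRing.of_surjective' _ Ideal.Quotient.mk_surjective
  haveI : IsLocalHom (Ideal.Quotient.mk 𝔭) := IsLocalHom.of_surjective _ Ideal.Quotient.mk_surjective
  haveI : CharP L p := charP_of_injective_ringHom ((algebraMap A L).comp C).injective p
  haveI : IsRegularRing A := Groth.Agent.S5784.result K r
  haveI : IsRegularLocalRing (Localization.AtPrime 𝔭) := IsRegularRing.isRegularLocalRing_localization 𝔭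
  haveI := Groth.L01.NagataComplete.isAdicComplete_quotient 𝔭
  let fam : Fin r ⊕ cs → (A →+ L) := fun x => (algebraMap A L).toAddMonoidHom.comp (Dfam x)
  have hfam : ∀ x, IsDer (fam x) := fun x => isDer_comp (hDfam x)
  have fam_X : ∀ x i, fam x (X i) = if x = Sum.inl i then 1 else 0 := fun x i => by
    show algebraMap A L (Dfam x (X i)) = _
    rw [hX]; split_ifs <;> simp
  have fam_C : ∀ x (c : cs), fam x (C (c : K)) = if x = Sum.inr c then 1 else 0 := fun x c => by
    show algebraMap A L (Dfam x (C (c : K))) = _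
    rw [hC]; split_ifs <;> simp
  obtain ⟨cL, hcL, hcLdeg, -⟩ := exists_pGenerators p G hGpow
  have hcLle : cL.card ≤ s + cs.card :=
    (Nat.pow_le_pow_iff_right hp.1.one_lt).mp (hcLdeg.trans hLG)
  choose aL sL hsL haL using hL.surj
  let Φ : (Fin r ⊕ cs → L) →ₗ[L] (Fin h → L) :=
    { toFun := fun v j => ∑ x, v x * fam x (g j)
      map_add' := fun v w => funext fun j => by simp [add_mul, Finset.sum_add_distrib]
      map_smul' := fun c v => funext fun j => by
        show ∑ x, (c * v x) * fam x (g j) = c * ∑ x, v x * fam x (g j)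
        rw [Finset.mul_sum]
        exact Finset.sum_congr rfl fun x _ => mul_assoc _ _ _ }
  let Ψ : LinearMap.ker Φ →ₗ[L] (cL → L) :=
    { toFun := fun v c => ((∑ x, v.1 x * fam x (aL c)) - (c : L) * ∑ x, v.1 x * fam x (sL c)) / algebraMap A L (sL c)
      map_add' := fun v w => funext fun c => by simp [add_mul, Finset.sum_add_distrib]; ring
      map_smul' := fun e v => funext fun c => by simp [← Finset.mul_sum, mul_assoc]; ring }
  have hΨ : Function.Injective Ψ := by
    rw [injective_iff_map_eq_zero]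
    rintro ⟨v, hv⟩ h0
    refine Subtype.ext ?_
    show v = 0
    obtain ⟨δv, hδv, hδvx⟩ := isDer_sum fam hfam v
    have hkv : ∀ x ∈ 𝔭, δv x = 0 := fun x hx => kills_prime hL hδv g hg hgen
      (fun j => by rw [hδvx]; exact congrFun (LinearMap.mem_ker.mp hv) j) hx
    obtain ⟨D, hD⟩ := exists_field_der hL hδv hkv
    have hDa := field_der_apply hL hδv hD
    -- a multiple of `δv` lifts to a derivation of `A` preserving `𝔭`
    choose av Nv hNv hav using fun x => hL.surj (v x)
    let Nn : A := ∏ x, Nv x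
    have hNn : Nn ∉ 𝔭 := fun hh => by
      obtain ⟨x, -, hx⟩ := (Ideal.IsPrime.prod_mem_iff (p := 𝔭)).mp hh
      exact hNv x hx
    let dA : A →+ A := ∑ x, (AddMonoidHom.mulLeft (av x * ∏ l ∈ Finset.univ.erase x, Nv l)).comp (Dfam x)
    have hdA : ∀ u, algebraMap A L (dA u) = algebraMap A L Nn * δv u := fun u => by
      rw [hδvx, AddMonoidHom.finsetSum_apply, map_sum, Finset.mul_sum]
      refine Finset.sum_congr rfl fun x _ => ?_
      show algebraMap A L (_ * Dfam x u) = _
      rw [map_mul, map_mul, ← hav x, show Nn = Nv x * ∏ l ∈ Finset.univ.erase x, Nv l from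
        (Finset.mul_prod_erase _ _ (Finset.mem_univ x)).symm, map_mul]
      show _ = _ * (v x * algebraMap A L (Dfam x u))
      ring
    have hdAder : IsRingDer dA := fun u w => by
      simp only [dA, AddMonoidHom.finsetSum_apply]
      rw [Finset.mul_sum, Finset.mul_sum, ← Finset.sum_add_distrib]
      refine Finset.sum_congr rfl fun x _ => ?_
      show _ * Dfam x (u * w) = u * (_ * Dfam x w) + w * (_ * Dfam x u)
      rw [hDfam x u w]; ring
    have hdkill : ∀ u ∈ 𝔭, dA u ∈ 𝔭 := fun u hu => by rw [← hL.eq_zero_iff, hdA, hkv u hu, mul_zero]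
    let dq : B →+ B := QuotientAddGroup.map _ _ dA fun u hu => hdkill u hu
    have hdq : ∀ u, dq (Ideal.Quotient.mk 𝔭 u) = Ideal.Quotient.mk 𝔭 (dA u) := fun u => rfl
    have hdmul : ∀ u w, dq (u * w) = u * dq w + w * dq u := fun u w => by
      obtain ⟨u, rfl⟩ := Ideal.Quotient.mk_surjective u
      obtain ⟨w, rfl⟩ := Ideal.Quotient.mk_surjective w
      rw [← map_mul, hdq, hdq, hdq, hdAder, map_add, map_mul, map_mul]
    haveI : IsRegularLocalRing (MvPowerSeries (Fin s) L') := Groth.L01.PowSerReg.isRegularLocalRing _ s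
    haveI : IsLocalHom f := hfin.to_isIntegral.isLocalHom hinj
    have hdXp : ∀ b : B, dq (b ^ p) = 0 := fun b => by
      have key : ∀ k : ℕ, dq (b ^ (k + 1)) = ((k + 1 : ℕ) : B) * (b ^ k * dq b) := fun k => by
        induction k with
        | zero => simp
        | succ k ih => rw [pow_succ, hdmul, ih]; push_cast; ring
      haveI : CharP B p := charP_of_injective_ringHom (f := (Ideal.Quotient.mk 𝔭).comp (C : K →+* A)) (RingHom.injective _) p
      obtain ⟨k, hk⟩ := Nat.exists_eq_succ_of_ne_zero hp.1.ne_zero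
      rw [hk, key, ← Nat.succ_eq_add_one, ← hk, CharP.cast_eq_zero, zero_mul]
    have hfzero : dq.comp (f.comp (iota p s L')).toAddMonoidHom = 0 := by
      refine eq_zero_of_kills_vars (f.comp (iota p s L')) (fun j => ?_) _ (fun u w => ?_) (fun c => ?_) (fun j => ?_)
      · show f (iota p s L' (X j)) ∈ _
        rw [iota_X, map_pow]
        exact Ideal.pow_mem_of_mem _ (map_nonunit f _ (mem_maximalIdeal_X j)) p hp.1.pos
      · show dq (f (iota p s L' (u * w))) = _
        rw [map_mul, map_mul, hdmul]; rfl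
      · show dq (f (iota p s L' (C c))) = 0
        rw [iota_C, hfC', hdq, Ideal.Quotient.eq_zero_iff_mem, ← hL.eq_zero_iff, hdA, hδvx,
          Finset.sum_eq_zero fun x _ => ?_, mul_zero]
        show v x * algebraMap A L (Dfam x (C (c : K))) = 0
        rw [fam_sub x _ (C_mem_sub p c.2), map_zero, mul_zero]
      · show dq (f (iota p s L' (X j))) = 0
        rw [iota_X, map_pow, hdXp]
    have hDG0 : G ≤ derKer D := hDG D fun t w hw => by
      rw [hDa]
      have h1 : algebraMap A L (dA w) = 0 := by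
        rw [hL.eq_zero_iff, ← Ideal.Quotient.eq_zero_iff_mem, ← hdq, hw]
        exact DFunLike.congr_fun hfzero t
      rw [hdA] at h1
      exact (mul_eq_zero.mp h1).resolve_left (hL.ne_zero hNn)
    have hD0 : ∀ w, D w = 0 := fun w =>
      subfield_of_adjoin_top G _ hcL (derKer D) hDG0 (fun c hc => by
        show D c = 0
        rw [hD c (aL c) (sL c) (hsL c) (haL c), hδvx, hδvx]
        exact congrFun h0 ⟨c, hc⟩) w
    funext x
    cases x with
    | inl i =>
      have h1 := hδvx (X i)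
      rw [← hDa, hD0, Finset.sum_eq_single (Sum.inl i) (fun x _ hx => by rw [fam_X, if_neg hx, mul_zero])
        (fun h => absurd (Finset.mem_univ _) h), fam_X, if_pos rfl, mul_one] at h1
      exact h1.symm
    | inr c =>
      have h1 := hδvx (C (c : K))
      rw [← hDa, hD0, Finset.sum_eq_single (Sum.inr c) (fun x _ hx => by rw [fam_C, if_neg hx, mul_zero])
        (fun h => absurd (Finset.mem_univ _) h), fam_C, if_pos rfl, mul_one] at h1
      exact h1.symm
  have hdim : Module.finrank L (LinearMap.ker Φ) + h ≤ Fintype.card (Fin r ⊕ cs) := by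
    have h1 := LinearMap.finrank_le_finrank_of_injective hΨ
    rw [Module.finrank_fintype_fun_eq_card, Fintype.card_coe] at h1
    have h2 := dim_add_le 𝔭 f hinj hfin hgd
    rw [Fintype.card_sum, Fintype.card_fin, Fintype.card_coe]
    omega
  exact surj_of_finrank_ker fam g (LinearMap.ker Φ) (fun v hv => LinearMap.mem_ker.mpr (funext hv)) hdim v₀

include p hp in
set_option maxHeartbeats 1000000 in
/-- At a prime of `K[[T]]` every derivation into the residue field agrees on finitely many elements with a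
combination of derivations of `K[[T]]`. -/
theorem span_absolute (hL : IsResidue 𝔭 L) (δ : MvPowerSeries (Fin r) K →+ L) (hδ : IsDer δ) {m : ℕ}
    (a : Fin m → MvPowerSeries (Fin r) K) :
    (fun l => δ (a l)) ∈ Submodule.span L
      {w : Fin m → L | ∃ D : MvPowerSeries (Fin r) K →+ MvPowerSeries (Fin r) K, IsRingDer D ∧
        w = fun l => algebraMap _ L (D (a l))} := by
  classical
  let A := MvPowerSeries (Fin r) K
  let B := A ⧸ 𝔭
  haveI : IsRegularLocalRing A := Groth.L01.PowSerReg.isRegularLocalRing K r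
  haveI : IsAdicComplete (maximalIdeal A) A := Groth.L12.isAdicComplete_mvPowerSeries
  haveI : Nontrivial B := Ideal.Quotient.nontrivial_iff.mpr (Ideal.IsPrime.ne_top ‹_›)
  haveI : IsLocalRing B := IsLocalRing.of_surjective' _ Ideal.Quotient.mk_surjective
  haveI : IsLocalHom (Ideal.Quotient.mk 𝔭) := IsLocalHom.of_surjective _ Ideal.Quotient.mk_surjective
  haveI : CharP L p := charP_of_injective_ringHom ((algebraMap A L).comp C).injective p
  haveI : IsRegularRing A := Groth.Agent.S5784.result K r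
  haveI : IsRegularLocalRing (Localization.AtPrime 𝔭) := IsRegularRing.isRegularLocalRing_localization 𝔭
  haveI := Groth.L01.NagataComplete.isAdicComplete_quotient 𝔭
  obtain ⟨s, f, hinj, hfin, hfC, -⟩ := exists_normalisation ((Ideal.Quotient.mk 𝔭).comp (C : K →+* A)) (fun z => by
    obtain ⟨b, rfl⟩ := residue_surjective z
    obtain ⟨t, rfl⟩ := Ideal.Quotient.mk_surjective b
    refine ⟨constantCoeff t, ?_⟩
    show residue B (Ideal.Quotient.mk 𝔭 (C (constantCoeff t))) = residue B (Ideal.Quotient.mk 𝔭 t)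
    rw [← sub_eq_zero, ← map_sub, ← map_sub, residue_eq_zero_iff]
    refine map_nonunit (Ideal.Quotient.mk 𝔭) _ ?_
    rw [mem_maximalIdeal, mem_nonunits_iff, MvPowerSeries.isUnit_iff_constantCoeff]
    simp)
  have hfC' : ∀ c, f (C c) = Ideal.Quotient.mk 𝔭 (C c) := hfC
  obtain ⟨ι, _, _, _, Kf, G, α₁, hanti, hKf, hGpow, hGint, hsubG, hDG, hdeg⟩ := exists_tower p 𝔭 hL f hinj hfin hfC'
  let Q₀ := (frobenius L p).fieldRange
  let abar : Fin m → L := fun l => algebraMap A L (a l)
  have hex : ∃ n, ∃ S : Finset L, S.card = n ∧ ∀ l, abar l ∈ Q₀ ⊔ Subfield.closure (S : Set L) :=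
    ⟨_, Finset.univ.image abar, rfl, fun l => le_sup_right (a := Q₀) (Subfield.subset_closure (by simp))⟩
  obtain ⟨S, hScard, hS⟩ := Nat.find_spec hex
  have hSind : ∀ c ∈ S, ∃ i, c ∉ G i ⊔ Subfield.closure ((S.erase c : Finset L) : Set L) := fun c hc => by
    by_contra hcon
    push Not at hcon
    have h1 := Groth.L06.PBasis.mem_sup_closure_of_forall p G hanti hGpow (S.erase c) c hcon
    refine Nat.find_min hex (m := (S.erase c).card) (hScard ▸ Finset.card_erase_lt_of_mem hc)
      ⟨S.erase c, rfl, fun l => ?_⟩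
    refine (sup_le le_sup_left (Subfield.closure_le.mpr fun w hw => ?_) :
      Q₀ ⊔ Subfield.closure (S : Set L) ≤ Q₀ ⊔ Subfield.closure ((S.erase c : Finset L) : Set L)) (hS l)
    by_cases hwc : w = c
    · subst hwc
      exact (sup_le_sup_right (show (⨅ i, G i) ≤ Q₀ from fun u hu => hGint u (Subfield.mem_iInf.mp hu)) (Subfield.closure ((S.erase w : Finset L) : Set L))) h1
    · exact le_sup_right (a := Q₀) (Subfield.subset_closure (Finset.mem_erase.mpr ⟨hwc, hw⟩))
  choose! αc hαc using hSind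
  obtain ⟨α, hαle, hαall⟩ : ∃ α, α₁ ≤ α ∧ ∀ c ∈ S, αc c ≤ α := by
    obtain ⟨α', h'⟩ := (S.image αc).exists_le
    obtain ⟨α, h1, h2⟩ := exists_ge_ge α₁ α'
    exact ⟨α, h1, fun c hc => (h' _ (Finset.mem_image_of_mem _ hc)).trans h2⟩
  haveI : Module.Finite (Kf α) K := (hKf α).1
  obtain ⟨cs, Dfam, hcs, hDfam, fam_sub, hX, hC⟩ := exists_fam (r := r) p (Kf α) (hKf α).2
  obtain ⟨hGfin, hGdeg⟩ := hdeg α hαle cs hcs
  let fam : Fin r ⊕ cs → (A →+ L) := fun x => (algebraMap A L).toAddMonoidHom.comp (Dfam x)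
  have hfam : ∀ x, IsDer (fam x) := fun x => isDer_comp (hDfam x)
  obtain ⟨h, g, hgd, hg, hgen⟩ := exists_parameters (𝔭 := 𝔭)
  have hsurj : ∀ v₀ : Fin h → L, ∃ v : Fin r ⊕ cs → L, ∀ j, ∑ x, v x * fam x (g j) = v₀ j := fun v₀ =>
    surj_fam p 𝔭 hL f hinj hfin hfC' (Kf α) Dfam hDfam fam_sub hX hC (G α) hGdeg (hGpow α) (hDG α) g hgd hg hgen v₀
  have comb : ∀ δ₀ : A →+ L, IsDer δ₀ → (∀ u ∈ sub p r (Kf α), δ₀ u = 0) →
      ∃ v : Fin r ⊕ cs → L, ∀ u, δ₀ u = ∑ x, v x * fam x u := fun δ₀ h₀ hsub =>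
    exists_comb_fam p (Kf α) hcs Dfam hDfam fam_sub hX hC δ₀ h₀ hsub
  -- conclusion
  let W := Submodule.span L {w : Fin m → L | ∃ D : A →+ A, IsRingDer D ∧ w = fun l => algebraMap A L (D (a l))}
  have hW : ∀ v : Fin r ⊕ cs → L, (fun l => ∑ x, v x * fam x (a l)) ∈ W := fun v => by
    have : (fun l => ∑ x, v x * fam x (a l)) = ∑ x, v x • fun l => fam x (a l) := by
      funext l; simp
    rw [this]
    exact Submodule.sum_mem _ fun x _ => Submodule.smul_mem _ _ (Submodule.subset_span ⟨Dfam x, hDfam x, rfl⟩)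
  obtain ⟨v, hv⟩ := hsurj fun j => δ (g j)
  obtain ⟨δ₁, hδ₁, hδ₁v⟩ := isDer_sum fam hfam v
  have hδ'' := isDer_sub hδ hδ₁
  obtain ⟨D, hD⟩ := exists_field_der hL hδ'' fun x hx => kills_prime hL hδ'' g hg hgen
    (fun j => by show δ (g j) - δ₁ (g j) = 0; rw [hδ₁v, hv, sub_self]) hx
  have hDa := field_der_apply hL hδ'' hD
  have hDc : ∀ c : S, ∃ Dc : Derivation ℤ L L,
      (∀ x ∈ G α ⊔ Subfield.closure ((S.erase (c : L) : Finset L) : Set L), Dc x = 0) ∧ Dc (c : L) = 1 := fun c => by
    refine Groth.L06.PBasis.exists_der_killing p _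
      (fun x => le_sup_left (b := Subfield.closure ((S.erase (c : L) : Finset L) : Set L)) (hGpow α x)) fun hmem => ?_
    exact hαc c c.2 (sup_le_sup_right (hanti (hαall c c.2)) _ hmem)
  choose Dc hDc0 hDc1 using hDc
  have hcw : ∀ c : S, ∃ w : Fin r ⊕ cs → L, ∀ u, Dc c (algebraMap A L u) = ∑ x, w x * fam x u := fun c =>
    comb ((Dc c).toLinearMap.toAddMonoidHom.comp (algebraMap A L).toAddMonoidHom)
      (fun u w => by
        show Dc c (algebraMap A L (u * w)) = _
        rw [map_mul, Derivation.leibniz]; rfl)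
      fun u hu => hDc0 c _ (le_sup_left (b := Subfield.closure ((S.erase (c : L) : Finset L) : Set L)) (hsubG α u hu))
  choose w hw using hcw
  let E : Derivation ℤ L L := D - ∑ c : S, D (c : L) • Dc c
  have hE : ∀ u, E u = D u - ∑ c : S, D (c : L) * Dc c u := fun u => by
    simp only [E, Derivation.sub_apply]
    rw [show (∑ c : S, D (c : L) • Dc c) u = ∑ c : S, (D (c : L) • Dc c) u from
      map_sum (AddMonoidHom.mk' (fun D' : Derivation ℤ L L => D' u) fun _ _ => rfl) _ _]
    rfl
  have hE0 : ∀ l, D (abar l) = ∑ c : S, D (c : L) * Dc c (abar l) := fun l => by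
    rw [← sub_eq_zero, ← hE]
    refine (sup_le ?_ (Subfield.closure_le.mpr ?_) : Q₀ ⊔ Subfield.closure (S : Set L) ≤ derKer E) (hS l)
    · rintro _ ⟨x, rfl⟩
      exact derivation_pow_eq_zero p E x
    · intro c hc
      show E c = 0
      rw [hE, Finset.sum_eq_single ⟨c, hc⟩ (fun c' _ hc' => ?_) (fun h => absurd (Finset.mem_univ _) h), hDc1 ⟨c, hc⟩,
        mul_one, sub_self]
      rw [hDc0 c' c (le_sup_right (a := G α) (Subfield.subset_closure
        (Finset.mem_erase.mpr ⟨fun h => hc' (Subtype.ext h.symm), hc⟩))), mul_zero]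
  have hfinal : (fun l => δ (a l)) = (fun l => ∑ x, v x * fam x (a l)) +
      ∑ c : S, D (c : L) • fun l => ∑ x, w c x * fam x (a l) := by
    funext l
    have h1 : δ (a l) = δ₁ (a l) + D (abar l) := by
      rw [hDa]; show δ (a l) = δ₁ (a l) + (δ (a l) - δ₁ (a l)); ring
    rw [h1, hE0, hδ₁v, Pi.add_apply, Finset.sum_apply]
    congr 1
    exact Finset.sum_congr rfl fun c _ => by rw [hw c]; rfl
  rw [hfinal]
  exact add_mem (hW v) (Submodule.sum_mem _ fun c _ => Submodule.smul_mem _ _ (hW (w c)))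

end Main

end Groth.L06.Nagata
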