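import Groth.Agent.L06.FormSmoothJacobiQ
import Groth.Agent.L06.FormSmoothLocJacobi
import Groth.Agent.L06.FormSmoothField
import Groth.Agent.L06.CplDer
import Groth.Agent.L07.RegularQuotient
import Mathlib.RingTheory.Localization.Ideal
import Mathlib.LinearAlgebra.Dual.Lemmas
import Mathlib.LinearAlgebra.Matrix.NonsingularInverse

/-! The determinantal Jacobian criterion at a prime of a Noetherian algebra with enough derivations. -/

set_option autoImplicit false
set_option maxSynthPendingDepth 3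
set_option linter.style.haveILetI false
universe u

open IsLocalRing
open scoped TensorProduct
open KaehlerDifferential (kerCotangentToTensor)

namespace Groth.L06.Nagata

variable {A : Type u} [CommRing A] (𝔭 : Ideal A) [𝔭.IsPrime] {L : Type u} [Field L] [Algebra A L]

/-- A field valued map with kernel `𝔭` whose image generates the field. -/
structure IsResidue (L : Type u) [Field L] [Algebra A L] : Prop where
  eq_zero_iff : ∀ a : A, algebraMap A L a = 0 ↔ a ∈ 𝔭
  surj : ∀ z : L, ∃ a s : A, s ∉ 𝔭 ∧ z * algebraMap A L s = algebraMap A L a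

variable {𝔭}

theorem IsResidue.ne_zero (hL : IsResidue 𝔭 L) {s : A} (hs : s ∉ 𝔭) : algebraMap A L s ≠ 0 :=
  fun h => hs ((hL.eq_zero_iff s).mp h)

/-- The map to the residue field out of the local ring. -/
noncomputable def IsResidue.ρ (hL : IsResidue 𝔭 L) : Localization.AtPrime 𝔭 →+* L :=
  IsLocalization.lift (M := 𝔭.primeCompl) fun s => isUnit_iff_ne_zero.mpr (hL.ne_zero s.2)

theorem IsResidue.ρ_algebraMap (hL : IsResidue 𝔭 L) (a : A) :
    hL.ρ (algebraMap A (Localization.AtPrime 𝔭) a) = algebraMap A L a := IsLocalization.lift_eq _ a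

theorem IsResidue.ρ_eq_zero (hL : IsResidue 𝔭 L) (x : Localization.AtPrime 𝔭) :
    hL.ρ x = 0 ↔ x ∈ maximalIdeal (Localization.AtPrime 𝔭) := by
  obtain ⟨⟨a, s⟩, h⟩ := IsLocalization.surj 𝔭.primeCompl x
  have h1 := congrArg hL.ρ h
  rw [map_mul, hL.ρ_algebraMap, hL.ρ_algebraMap] at h1
  have hu : IsUnit (algebraMap A (Localization.AtPrime 𝔭) s) := IsLocalization.map_units _ s
  calc hL.ρ x = 0 ↔ algebraMap A L a = 0 := by
        rw [← h1, mul_eq_zero]; exact ⟨Or.inl, fun h => h.resolve_right (hL.ne_zero s.2)⟩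
    _ ↔ a ∈ 𝔭 := hL.eq_zero_iff a
    _ ↔ algebraMap A (Localization.AtPrime 𝔭) a ∈ maximalIdeal _ :=
        (IsLocalization.AtPrime.to_map_mem_maximal_iff _ 𝔭 a).symm
    _ ↔ _ := by rw [← h]; exact Ideal.mul_unit_mem_iff_mem _ hu

theorem IsResidue.exists_ρ (hL : IsResidue 𝔭 L) (z : L) : ∃ x, hL.ρ x = z := by
  obtain ⟨a, s, hs, h⟩ := hL.surj z
  refine ⟨IsLocalization.mk' _ a (⟨s, hs⟩ : 𝔭.primeCompl), mul_right_cancel₀ (hL.ne_zero hs) ?_⟩
  rw [h, ← hL.ρ_algebraMap s, ← map_mul, IsLocalization.mk'_spec _ a (⟨s, hs⟩ : 𝔭.primeCompl), hL.ρ_algebraMap]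

/-- Clearing denominators of generators of an ideal of the local ring. -/
theorem exists_scale {I : Ideal A} {n : ℕ} (x : Fin n → Localization.AtPrime 𝔭)
    (hx : ∀ i, x i ∈ I.map (algebraMap A (Localization.AtPrime 𝔭))) :
    ∃ f : Fin n → A, (∀ i, f i ∈ I) ∧ ∃ w : Fin n → Localization.AtPrime 𝔭, (∀ i, IsUnit (w i)) ∧
      ∀ i, x i * w i = algebraMap A _ (f i) := by
  choose z hz using fun i => (IsLocalization.mem_map_algebraMap_iff 𝔭.primeCompl _).mp (hx i)
  exact ⟨fun i => (z i).1, fun i => (z i).1.2, fun i => algebraMap A _ (z i).2,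
    fun i => IsLocalization.map_units _ _, hz⟩

theorem span_scale {R : Type u} [CommRing R] {n : ℕ} (x w : Fin n → R) (hw : ∀ i, IsUnit (w i)) :
    Ideal.span (Set.range fun i => x i * w i) = Ideal.span (Set.range x) := by
  refine le_antisymm (Ideal.span_le.mpr ?_) (Ideal.span_le.mpr ?_)
  · rintro _ ⟨i, rfl⟩; exact Ideal.mul_mem_right _ _ (Ideal.subset_span ⟨i, rfl⟩)
  · rintro _ ⟨i, rfl⟩
    exact (Ideal.mul_unit_mem_iff_mem _ (hw i)).mp (Ideal.subset_span ⟨i, rfl⟩)

/-- Generators of `𝔭` at the prime, as many as the dimension of the regular local ring. -/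
theorem exists_parameters [IsRegularLocalRing (Localization.AtPrime 𝔭)] :
    ∃ (h : ℕ) (f : Fin h → A), ringKrullDim (Localization.AtPrime 𝔭) = h ∧ (∀ j, f j ∈ 𝔭) ∧
      maximalIdeal (Localization.AtPrime 𝔭) =
        Ideal.span (Set.range fun j => algebraMap A (Localization.AtPrime 𝔭) (f j)) := by
  obtain ⟨h, x, hd, hx, -⟩ := Groth.L07.Order.exists_regular_parameters (Localization.AtPrime 𝔭)
  obtain ⟨f, hf, w, hw, hfx⟩ := exists_scale (I := 𝔭) x fun i => by
    rw [Localization.AtPrime.map_eq_maximalIdeal (I := 𝔭), ← hx]; exact Ideal.subset_span ⟨i, rfl⟩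
  refine ⟨h, f, hd, hf, ?_⟩
  rw [← hx, ← span_scale x w hw]
  simp only [hfx]

/-- Denominator-free expression in the generators. -/
theorem exists_comb {I : Ideal A} {h : ℕ} (f : Fin h → A)
    (hI : I.map (algebraMap A (Localization.AtPrime 𝔭)) =
      Ideal.span (Set.range fun j => algebraMap A (Localization.AtPrime 𝔭) (f j))) {g : A} (hg : g ∈ I) :
    ∃ s : A, s ∉ 𝔭 ∧ ∃ a : Fin h → A, s * g = ∑ j, a j * f j := by
  have hx : algebraMap A (Localization.AtPrime 𝔭) g ∈
      (Ideal.span (Set.range f)).map (algebraMap A (Localization.AtPrime 𝔭)) := by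
    rw [Ideal.map_span, ← Set.range_comp]; exact hI ▸ Ideal.mem_map_of_mem _ hg
  obtain ⟨⟨⟨a, ha⟩, s⟩, has⟩ := (IsLocalization.mem_map_algebraMap_iff 𝔭.primeCompl _).mp hx
  simp only at has
  rw [← map_mul] at has
  obtain ⟨t, ht⟩ := (IsLocalization.eq_iff_exists 𝔭.primeCompl _).mp has
  obtain ⟨c, hc⟩ := (Ideal.mem_span_range_iff_exists_fun (R := A) (v := f) (x := (t : A) * a)).mp
    (Ideal.mul_mem_left _ _ ha)
  exact ⟨t * s, mul_mem t.2 s.2, c, by rw [hc, ← ht]; ring⟩

/-- An additive map to the field satisfying the Leibniz rule. -/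
def IsDer (δ : A →+ L) : Prop :=
  ∀ a b, δ (a * b) = algebraMap A L a * δ b + algebraMap A L b * δ a

/-- A derivation killing the generators kills the ideal. -/
theorem der_comb (hL : IsResidue 𝔭 L) {δ : A →+ L} (hδ : IsDer δ) {I : Ideal A} (hIp : I ≤ 𝔭) {h : ℕ}
    (f : Fin h → A) (hf : ∀ j, f j ∈ I) {s g : A} (hg : g ∈ I) {a : Fin h → A} (e : s * g = ∑ j, a j * f j) :
    algebraMap A L s * δ g = ∑ j, algebraMap A L (a j) * δ (f j) := by
  have h1 := congrArg δ e
  rw [hδ s g, map_sum, (hL.eq_zero_iff g).mpr (hIp hg), zero_mul, add_zero] at h1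
  refine h1.trans (Finset.sum_congr rfl fun j _ => ?_)
  rw [hδ (a j) (f j), (hL.eq_zero_iff (f j)).mpr (hIp (hf j)), zero_mul, add_zero]

/-- A family of derivations which surjects onto the cotangent dual detects independent elements. -/
theorem eq_zero_of_surj (hL : IsResidue 𝔭 L) {ι : Type*} [Fintype ι] (δ : ι → A →+ L)
    (hδ : ∀ i, IsDer (δ i)) {h : ℕ} (f : Fin h → A) (hf : ∀ j, f j ∈ 𝔭)
    (hgen : maximalIdeal (Localization.AtPrime 𝔭) =
      Ideal.span (Set.range fun j => algebraMap A (Localization.AtPrime 𝔭) (f j)))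
    (hsurj : ∀ t : Fin h → L, ∃ v : ι → L, ∀ j, ∑ i, v i * δ i (f j) = t j)
    {m : ℕ} (g : Fin m → A) (hg : ∀ l, g l ∈ 𝔭)
    (hind : Groth.L07.RegIdeal.Indep (maximalIdeal (Localization.AtPrime 𝔭))
      fun l => algebraMap A (Localization.AtPrime 𝔭) (g l))
    (c : Fin m → L) (hc : ∀ i, ∑ l, c l * δ i (g l) = 0) : ∀ l, c l = 0 := by
  classical
  choose s hs a ha using fun l => exists_comb f
    ((Localization.AtPrime.map_eq_maximalIdeal (I := 𝔭)).trans hgen) (hg l)
  let c' : Fin m → L := fun l => c l / algebraMap A L (s l)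
  let e : Fin h → L := fun j => ∑ l, c' l * algebraMap A L (a l j)
  have he : ∀ i, ∑ j, e j * δ i (f j) = 0 := fun i => by
    rw [← hc i]
    simp only [e, Finset.sum_mul]
    rw [Finset.sum_comm]
    refine Finset.sum_congr rfl fun l _ => ?_
    simp only [mul_assoc]
    rw [← Finset.mul_sum, ← der_comb hL (hδ i) le_rfl f hf (hg l) (ha l), ← mul_assoc,
      div_mul_cancel₀ _ (hL.ne_zero (hs l))]
  have he0 : ∀ j, e j = 0 := fun j₀ => by
    obtain ⟨v, hv⟩ := hsurj (Pi.single j₀ 1)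
    calc e j₀ = ∑ j, e j * (Pi.single j₀ (1 : L) : Fin h → L) j := by simp [Pi.single_apply]
      _ = ∑ j, e j * ∑ i, v i * δ i (f j) := by simp only [hv]
      _ = ∑ i, v i * ∑ j, e j * δ i (f j) := by
          simp only [Finset.mul_sum]; rw [Finset.sum_comm]
          exact Finset.sum_congr rfl fun _ _ => Finset.sum_congr rfl fun _ _ => by ring
      _ = 0 := by simp [he]
  choose x hx using fun l => hL.exists_ρ (c' l)
  let φ := algebraMap A (Localization.AtPrime 𝔭)
  have hsum : ∑ l, x l * φ (s l) * φ (g l) ∈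
      maximalIdeal (Localization.AtPrime 𝔭) * maximalIdeal (Localization.AtPrime 𝔭) := by
    have : ∑ l, x l * φ (s l) * φ (g l) = ∑ j, (∑ l, x l * φ (a l j)) * φ (f j) := by
      simp only [Finset.sum_mul]
      rw [Finset.sum_comm]
      refine Finset.sum_congr rfl fun l _ => ?_
      rw [mul_assoc, ← map_mul, ha, map_sum, Finset.mul_sum]
      exact Finset.sum_congr rfl fun j _ => by rw [map_mul]; ring
    rw [this]
    refine Ideal.sum_mem _ fun j _ => Ideal.mul_mem_mul ((hL.ρ_eq_zero _).mp ?_)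
      (hgen ▸ Ideal.subset_span ⟨j, rfl⟩)
    rw [map_sum, ← he0 j]
    exact Finset.sum_congr rfl fun l _ => by rw [map_mul, hx, hL.ρ_algebraMap]
  intro l
  have h1 := (hL.ρ_eq_zero _).mpr (hind (fun l => x l * φ (s l)) hsum l)
  rwa [map_mul, hx, hL.ρ_algebraMap, div_mul_cancel₀ _ (hL.ne_zero (hs l))] at h1

/-- Surjectivity onto the cotangent dual from a bound on the kernel. -/
theorem surj_of_finrank_ker {ι : Type*} [Fintype ι] (δ : ι → A →+ L) {h : ℕ} (f : Fin h → A)
    (K : Submodule L (ι → L)) (hK : ∀ v : ι → L, (∀ j, ∑ i, v i * δ i (f j) = 0) → v ∈ K)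
    (hdim : Module.finrank L K + h ≤ Fintype.card ι) :
    ∀ t : Fin h → L, ∃ v : ι → L, ∀ j, ∑ i, v i * δ i (f j) = t j := by
  let Φ : (ι → L) →ₗ[L] (Fin h → L) :=
    { toFun := fun v j => ∑ i, v i * δ i (f j)
      map_add' := fun v w => funext fun j => by simp [add_mul, Finset.sum_add_distrib]
      map_smul' := fun c v => funext fun j => by simp [Finset.mul_sum, mul_assoc] }
  have h1 := Φ.finrank_range_add_finrank_ker
  have h2 : Module.finrank L (LinearMap.ker Φ) ≤ Module.finrank L K :=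
    Submodule.finrank_mono fun v hv => hK v fun j => congrFun (LinearMap.mem_ker.mp hv) j
  rw [Module.finrank_fintype_fun_eq_card] at h1
  have h3 : LinearMap.range Φ = ⊤ := by
    refine Submodule.eq_top_of_finrank_eq (le_antisymm (Submodule.finrank_le _) ?_)
    rw [Module.finrank_fin_fun]
    omega
  intro t
  obtain ⟨v, hv⟩ := (LinearMap.range_eq_top.mp h3) t
  exact ⟨v, fun j => congrFun hv j⟩

/-- An injective family contains an invertible square part. -/
theorem exists_det {ι : Type*} {m : ℕ} (M : ι → Fin m → L)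
    (h : ∀ c : Fin m → L, (∀ i, ∑ l, c l * M i l = 0) → c = 0) :
    ∃ σ : Fin m → ι, (Matrix.of fun i l => M (σ i) l).det ≠ 0 := by
  classical
  obtain ⟨b, hbS, hspan, hli⟩ := exists_linearIndependent L (Set.range M)
  have htop : Submodule.span L (Set.range M) = ⊤ := by
    by_contra hne
    obtain ⟨φ, hφ0, hφ⟩ := Submodule.exists_dual_map_eq_bot_of_lt_top (lt_top_iff_ne_top.mpr hne) inferInstance
    have hφ' : ∀ v : Fin m → L, φ v = ∑ l, φ (Pi.single l 1) * v l := fun v => by
      conv_lhs => rw [pi_eq_sum_univ' v]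
      rw [map_sum]
      exact Finset.sum_congr rfl fun l _ => by rw [map_smul, smul_eq_mul, mul_comm]
    refine hφ0 (LinearMap.ext fun v => ?_)
    rw [hφ', LinearMap.zero_apply]
    have hc := h (fun l => φ (Pi.single l 1)) fun i => by
      rw [← hφ', ← Submodule.mem_bot L, ← hφ]
      exact Submodule.mem_map_of_mem (Submodule.subset_span ⟨i, rfl⟩)
    simp [fun l => congrFun hc l]
  let B := Module.Basis.mk hli (by rw [Subtype.range_coe, hspan, htop])
  haveI : Fintype b := hli.setFinite.fintype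
  have hcard : Fintype.card b = m := by
    rw [← Module.finrank_eq_card_basis B, Module.finrank_fin_fun]
  let e := (Fintype.equivFinOfCardEq hcard).symm
  choose σ hσ using fun i => hbS (e i).2
  refine ⟨σ, ?_⟩
  have hli' : LinearIndependent L fun i => ((e i : b) : Fin m → L) := hli.comp e e.injective
  have hM : (Matrix.of fun i l => M (σ i) l) = Matrix.of (fun i => ((e i : b) : Fin m → L)) := by
    ext i l; simp [hσ]
  rw [hM]
  exact (Matrix.linearIndependent_rows_iff_isUnit.mp hli').map Matrix.detMonoidHom |>.ne_zero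

/-- A nonsingular square part of a family of derivations. -/
theorem exists_det_derivations {k : Type u} [CommRing k] [Algebra k A] (hL : IsResidue 𝔭 L) {ι : Type*}
    (D : ι → Derivation k A A) {m : ℕ} (g : Fin m → A)
    (h : ∀ c : Fin m → L, (∀ i, ∑ l, c l * algebraMap A L (D i (g l)) = 0) → c = 0) :
    ∃ σ : Fin m → ι, (Matrix.of fun i l => D (σ i) (g l)).det ∉ 𝔭 := by
  obtain ⟨σ, hσ⟩ := exists_det (fun i l => algebraMap A L (D i (g l))) h
  refine ⟨σ, fun hp => hσ ?_⟩
  rw [← (hL.eq_zero_iff _).mpr hp, RingHom.map_det]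
  rfl

/-- Independent generators of an ideal with regular quotient at the prime. -/
theorem exists_gens_of_regular [IsRegularLocalRing (Localization.AtPrime 𝔭)] (q : Ideal A)
    (h : IsRegularLocalRing (Localization.AtPrime 𝔭 ⧸ q.map (algebraMap A (Localization.AtPrime 𝔭)))) :
    ∃ (m : ℕ) (g : Fin m → A), (∀ l, g l ∈ q) ∧
      q.map (algebraMap A (Localization.AtPrime 𝔭)) =
        Ideal.span (Set.range fun l => algebraMap A (Localization.AtPrime 𝔭) (g l)) ∧
      Groth.L07.RegIdeal.Indep (maximalIdeal (Localization.AtPrime 𝔭))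
        fun l => algebraMap A (Localization.AtPrime 𝔭) (g l) := by
  obtain ⟨-, m, x, hx, hind⟩ := Groth.L07.RegQuot.regular_quotient_data _ h
  obtain ⟨g, hg, w, hw, hgx⟩ := exists_scale (I := q) x fun i => hx ▸ Ideal.subset_span ⟨i, rfl⟩
  refine ⟨m, g, hg, ?_, fun c hc i => ?_⟩
  · rw [← hx, ← span_scale x w hw]; simp only [hgx]
  · refine (Ideal.mul_unit_mem_iff_mem _ (hw i)).mp (hind (fun i => c i * w i) ?_ i)
    convert hc using 1
    exact Finset.sum_congr rfl fun i _ => by rw [mul_assoc, mul_comm (w i), hgx i]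

theorem der_toAdd {R : Type u} [CommRing R] {i : Algebra ℤ R} {M : Module ℤ R}
    (δ : @Derivation ℤ R R _ _ _ i _ M) :
    ∃ d : R →+ R, (∀ a b, d (a * b) = a • d b + b • d a) ∧ ∀ a, d a = δ a :=
  ⟨δ.toLinearMap.toAddMonoidHom, δ.leibniz, fun _ => rfl⟩

/-- A derivation of the ring followed by the map to the field. -/
noncomputable def resDer {k : Type*} [CommRing k] [Algebra k A] (L : Type u) [Field L] [Algebra A L]
    (D : Derivation k A A) : A →+ L :=
  (algebraMap A L).toAddMonoidHom.comp D.toLinearMap.toAddMonoidHom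

theorem resDer_apply {k : Type*} [CommRing k] [Algebra k A] (L : Type u) [Field L] [Algebra A L]
    (D : Derivation k A A) (a : A) : resDer L D a = algebraMap A L (D a) := rfl

theorem isDer_resDer {k : Type*} [CommRing k] [Algebra k A] (L : Type u) [Field L] [Algebra A L]
    (D : Derivation k A A) : IsDer (resDer L D) := fun a b => by
  simp only [resDer_apply, D.leibniz, map_add, smul_eq_mul, map_mul]

section Criterion

variable {k : Type u} [CommRing k] [Algebra k A] (q : Ideal A)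

theorem quotLocalEquiv {k : Type*} [CommRing k] [Algebra k A] (hq : q ≤ 𝔭) [(𝔭.map (Ideal.Quotient.mk q)).IsPrime] :
    Nonempty ((Localization.AtPrime 𝔭 ⧸ q.map (algebraMap A (Localization.AtPrime 𝔭))) ≃ₐ[k]
      Localization.AtPrime (𝔭.map (Ideal.Quotient.mk q))) := by
  let p' := 𝔭.map (Ideal.Quotient.mk q)
  have hp' : ∀ a : A, Ideal.Quotient.mk q a ∈ p' ↔ a ∈ 𝔭 := fun a => by
    rw [← Ideal.mem_comap, Ideal.comap_map_of_surjective _ Ideal.Quotient.mk_surjective, ← RingHom.ker_eq_comap_bot,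
      Ideal.mk_ker, sup_eq_left.mpr hq]
  let Q := q.map (algebraMap A (Localization.AtPrime 𝔭))
  let S := Localization.AtPrime p'
  let ψ : A →ₐ[k] S := (IsScalarTower.toAlgHom k (A ⧸ q) S).comp (Ideal.Quotient.mkₐ k q)
  have hψu : ∀ s : 𝔭.primeCompl, IsUnit (ψ s) := fun s =>
    IsLocalization.map_units S (⟨Ideal.Quotient.mk q s, fun h => s.2 ((hp' _).mp h)⟩ : p'.primeCompl)
  let F₀ : Localization.AtPrime 𝔭 →ₐ[k] S := IsLocalization.liftAlgHom (M := 𝔭.primeCompl) (f := ψ) hψu
  have hF₀ : ∀ a, F₀ (algebraMap A _ a) = algebraMap (A ⧸ q) S (Ideal.Quotient.mk q a) := fun a => by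
    rw [IsLocalization.liftAlgHom_apply, IsLocalization.lift_eq]; rfl
  let F : (Localization.AtPrime 𝔭 ⧸ Q) →ₐ[k] S := Ideal.Quotient.liftₐ Q F₀ fun x hx => by
    refine (Ideal.map_le_iff_le_comap.mpr fun a ha => ?_ : Q ≤ RingHom.ker F₀.toRingHom) hx
    show F₀ (algebraMap A _ a) = 0
    rw [hF₀, Ideal.Quotient.eq_zero_iff_mem.mpr ha, map_zero]
  let φ : A →+* Localization.AtPrime 𝔭 ⧸ Q := (Ideal.Quotient.mk Q).comp (algebraMap A _)
  let G₀ : A ⧸ q →+* Localization.AtPrime 𝔭 ⧸ Q := Ideal.Quotient.lift q φ fun a ha =>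
    Ideal.Quotient.eq_zero_iff_mem.mpr (Ideal.mem_map_of_mem _ ha)
  have hG₀u : ∀ s : p'.primeCompl, IsUnit (G₀ s) := by
    rintro ⟨s, hs⟩
    obtain ⟨s, rfl⟩ := Ideal.Quotient.mk_surjective s
    exact (IsLocalization.map_units (Localization.AtPrime 𝔭)
      (⟨s, fun h => hs ((hp' _).mpr h)⟩ : 𝔭.primeCompl)).map (Ideal.Quotient.mk Q)
  let G : S →+* Localization.AtPrime 𝔭 ⧸ Q := IsLocalization.lift (M := p'.primeCompl) hG₀u
  have h1 : G.comp F.toRingHom = RingHom.id _ := by
    refine Ideal.Quotient.ringHom_ext (IsLocalization.ringHom_ext 𝔭.primeCompl (RingHom.ext fun a => ?_))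
    show G (F₀ (algebraMap A _ a)) = _
    rw [hF₀, IsLocalization.lift_eq]
    rfl
  have h2 : F.toRingHom.comp G = RingHom.id _ := by
    refine IsLocalization.ringHom_ext p'.primeCompl (Ideal.Quotient.ringHom_ext (RingHom.ext fun a => ?_))
    show F (G (algebraMap (A ⧸ q) S (Ideal.Quotient.mk q a))) = _
    rw [IsLocalization.lift_eq]
    exact hF₀ a
  exact ⟨{ toFun := F
           invFun := G
           left_inv := RingHom.congr_fun h1
           right_inv := RingHom.congr_fun h2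
           map_mul' := map_mul F
           map_add' := map_add F
           commutes' := F.commutes }⟩

theorem exists_der_localization (D : Derivation k A A) :
    ∃ δ : Derivation k (Localization.AtPrime 𝔭) (Localization.AtPrime 𝔭),
      ∀ a, δ (algebraMap A _ a) = algebraMap A _ (D a) := by
  obtain ⟨δ, hδ⟩ := Groth.L06.CplDer.exists_localization_der 𝔭.primeCompl (Localization.AtPrime 𝔭)
    (D.restrictScalars ℤ)
  obtain ⟨d, hl, hd⟩ := der_toAdd δ
  have hδ' : ∀ a, d (algebraMap A (Localization.AtPrime 𝔭) a) = algebraMap A _ (D a) := fun a =>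
    (hd _).trans (hδ a)
  refine ⟨Derivation.mk'
    { toFun := d
      map_add' := d.map_add
      map_smul' := fun c x => ?_ } hl, hδ'⟩
  rw [Algebra.smul_def, hl, IsScalarTower.algebraMap_apply k A (Localization.AtPrime 𝔭), hδ']
  show _ + x • algebraMap A _ (D (algebraMap k A c)) = _
  rw [D.map_algebraMap, map_zero, smul_zero, add_zero, RingHom.id_apply, Algebra.smul_def c,
    IsScalarTower.algebraMap_apply k A (Localization.AtPrime 𝔭)]
  rfl

theorem adicSmooth_of_equiv {k B B' : Type u} [CommRing k] [CommRing B] [CommRing B'] [Algebra k B] [Algebra k B']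
    (e : B ≃ₐ[k] B') (I : Ideal B) (I' : Ideal B') (hI : I.map e.toRingEquiv.toRingHom = I')
    (h : CAlgX.IsAdicFormallySmooth k B I) : CAlgX.IsAdicFormallySmooth k B' I' := by
  intro C _ _ J hJ ψ ⟨n, hn⟩
  obtain ⟨χ, hχ⟩ := h C J hJ (ψ.comp e.toAlgHom) ⟨n, fun x hx => by
    show ψ (e x) = 0
    refine hn _ ?_
    rw [← hI, ← Ideal.map_pow]
    exact Ideal.mem_map_of_mem e.toRingEquiv.toRingHom hx⟩
  refine ⟨χ.comp e.symm.toAlgHom, AlgHom.ext fun x => ?_⟩
  have h1 := AlgHom.congr_fun hχ (e.symm x)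
  simp only [AlgHom.comp_apply] at h1 ⊢
  refine h1.trans ?_
  show ψ (e (e.symm x)) = ψ x
  rw [e.apply_symm_apply]

set_option maxHeartbeats 1000000 in
/-- The determinant condition gives formal smoothness. -/
theorem adicSmooth_of_det [IsNoetherianRing A] (hq : q ≤ 𝔭) [(𝔭.map (Ideal.Quotient.mk q)).IsPrime]
    (hA : CAlgX.IsAdicFormallySmooth k (Localization.AtPrime 𝔭) (maximalIdeal (Localization.AtPrime 𝔭)))
    {m : ℕ} (D : Fin m → Derivation k A A) (f : Fin m → A) (hf : ∀ i, f i ∈ q)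
    (hgen : q.map (algebraMap A (Localization.AtPrime 𝔭)) =
      Ideal.span (Set.range fun i => algebraMap A (Localization.AtPrime 𝔭) (f i)))
    (hdet : Matrix.det (Matrix.of fun i j => D i (f j)) ∉ 𝔭) :
    CAlgX.IsAdicFormallySmooth k (Localization.AtPrime (𝔭.map (Ideal.Quotient.mk q)))
      (maximalIdeal (Localization.AtPrime (𝔭.map (Ideal.Quotient.mk q)))) := by
  classical
  let R := Localization.AtPrime 𝔭
  let J := q.map (algebraMap A R)
  let M := maximalIdeal R
  haveI : IsNoetherianRing R := IsLocalization.isNoetherianRing 𝔭.primeCompl R inferInstance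
  have hJM : J ≤ M := by
    show q.map _ ≤ maximalIdeal R
    rw [← Localization.AtPrime.map_eq_maximalIdeal (I := 𝔭)]
    exact Ideal.map_mono hq
  let Q : Ideal (R ⧸ J) := M.map (Ideal.Quotient.mk J)
  let C₁ := (R ⧸ J) ⧸ Q
  have hC₁ : ∀ x ∈ M, algebraMap R C₁ x = 0 := fun x hx =>
    Ideal.Quotient.eq_zero_iff_mem.mpr (Ideal.mem_map_of_mem _ hx)
  choose δ hδ using fun i => exists_der_localization (𝔭 := 𝔭) (D i)
  let N : Matrix (Fin m) (Fin m) R := (Matrix.of fun i j => D i (f j)).map (algebraMap A R)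
  have hN : IsUnit N.det := by
    rw [show N.det = algebraMap A R (Matrix.of fun i j => D i (f j)).det from (RingHom.map_det _ _).symm]
    exact IsLocalization.map_units R (⟨_, hdet⟩ : 𝔭.primeCompl)
  let K := RingHom.ker (algebraMap R (R ⧸ J))
  have hfJ : ∀ i, algebraMap A R (f i) ∈ J := fun i => Ideal.mem_map_of_mem _ (hf i)
  have hK : ∀ x, x ∈ K ↔ x ∈ J := fun x => Ideal.Quotient.eq_zero_iff_mem
  let e : Fin m → C₁ ⊗[R] K.Cotangent := fun i => (1 : C₁) ⊗ₜ K.toCotangent ⟨_, (hK _).mpr (hfJ i)⟩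
  let ℓ : Fin m → (Ω[R⁄k] →ₗ[R] R) := fun j => ∑ i, N⁻¹ j i • (δ i).liftKaehlerDifferential
  have hℓ : ∀ j l, ℓ j (KaehlerDifferential.D k R (algebraMap A R (f l))) = if j = l then 1 else 0 := by
    intro j l
    simp only [ℓ, LinearMap.sum_apply, LinearMap.smul_apply, smul_eq_mul]
    have := congrFun (congrFun (Matrix.nonsing_inv_mul N hN) j) l
    rw [Matrix.mul_apply, Matrix.one_apply] at this
    refine Eq.trans (Finset.sum_congr rfl fun i _ => ?_) this
    exact congrArg (N⁻¹ j i * ·) (((δ i).liftKaehlerDifferential_comp_D _).trans (hδ i (f l)))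
  let g₀ : Ω[R⁄k] →ₗ[R] C₁ ⊗[R] K.Cotangent :=
    ∑ j, (LinearMap.toSpanSingleton R _ (e j)).comp (ℓ j)
  have hg₀ : ∀ w, g₀ w = ∑ j, ℓ j w • e j := fun w => by simp [g₀]
  let g : C₁ ⊗[R] ((R ⧸ J) ⊗[R] Ω[R⁄k]) →ₗ[C₁] C₁ ⊗[R] K.Cotangent :=
    LinearMap.liftBaseChange C₁ ((LinearMap.liftBaseChange (R ⧸ J) g₀).restrictScalars R)
  have hfix : ∀ x (hx : x ∈ K), g₀ (KaehlerDifferential.D k R x) = (1 : C₁) ⊗ₜ K.toCotangent ⟨x, hx⟩ := by
    intro x hx
    have hx' : x ∈ J := (hK x).mp hx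
    obtain ⟨c, hc⟩ := (Ideal.mem_span_range_iff_exists_fun).mp ((hgen.le) hx')
    have hsub : (⟨x, hx⟩ : K) = ∑ l, c l • (⟨_, (hK _).mpr (hfJ l)⟩ : K) :=
      Subtype.ext (by rw [AddSubmonoidClass.coe_finsetSum]; exact hc.symm)
    have hzero : ∀ (r : R) (z : C₁ ⊗[R] K.Cotangent), r ∈ M → r • z = 0 := fun r z hr => by
      rw [← algebraMap_smul C₁ r z, hC₁ r hr, zero_smul]
    rw [hsub, map_sum, TensorProduct.tmul_sum, ← hc, map_sum, map_sum]
    refine Finset.sum_congr rfl fun l _ => ?_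
    rw [(KaehlerDifferential.D k R).leibniz, map_add, map_smul, map_smul, hzero _ _ (hJM (hfJ l)), add_zero,
      map_smul, TensorProduct.tmul_smul, hg₀]
    congr 1
    refine (Finset.sum_eq_single l (fun j _ hj => ?_) fun h => absurd (Finset.mem_univ l) h).trans ?_
    · show ℓ j _ • e j = 0
      exact (congrArg (· • e j) ((hℓ j l).trans (if_neg hj))).trans (zero_smul R _)
    · exact (congrArg (· • e l) ((hℓ l l).trans (if_pos rfl))).trans (one_smul R _)
  have hg : g ∘ₗ LinearMap.baseChange C₁ (kerCotangentToTensor k R (R ⧸ J)) = LinearMap.id := by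
    refine TensorProduct.AlgebraTensorModule.ext fun c x => ?_
    obtain ⟨⟨x, hx⟩, rfl⟩ := Ideal.toCotangent_surjective _ x
    show g (c ⊗ₜ kerCotangentToTensor k R (R ⧸ J) _) = c ⊗ₜ _
    rw [KaehlerDifferential.kerCotangentToTensor_toCotangent]
    simp only [g, LinearMap.liftBaseChange_tmul, LinearMap.coe_restrictScalars, one_smul]
    rw [hfix x hx, TensorProduct.smul_tmul', smul_eq_mul, mul_one]
  have h := Groth.L06.FormSmooth.adicSmooth_quotient_of_leftInverse M J hA Q ⟨1, (pow_one Q).le⟩ g hg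
  obtain ⟨E⟩ := quotLocalEquiv (k := k) q hq
  refine adicSmooth_of_equiv E _ _ ?_ h
  haveI : Nontrivial (R ⧸ J) := Ideal.Quotient.nontrivial_iff.mpr
    fun h => (maximalIdeal.isMaximal R).ne_top (top_le_iff.mp (h ▸ hJM))
  haveI : IsLocalRing (R ⧸ J) := IsLocalRing.of_surjective' _ Ideal.Quotient.mk_surjective
  rw [IsLocalRing.map_maximalIdeal_of_surjective _ Ideal.Quotient.mk_surjective]
  exact IsLocalRing.map_maximalIdeal_of_surjective _ E.toRingEquiv.surjective

theorem regular_quotient_of_adicSmooth {k : Type u} [Field k] [Algebra k A] [IsNoetherianRing A] (hq : q ≤ 𝔭)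
    [(𝔭.map (Ideal.Quotient.mk q)).IsPrime]
    (h : CAlgX.IsAdicFormallySmooth k (Localization.AtPrime (𝔭.map (Ideal.Quotient.mk q)))
      (maximalIdeal (Localization.AtPrime (𝔭.map (Ideal.Quotient.mk q))))) :
    IsRegularLocalRing (Localization.AtPrime (𝔭.map (Ideal.Quotient.mk q))) := by
  haveI : IsNoetherianRing (Localization.AtPrime (𝔭.map (Ideal.Quotient.mk q))) :=
    IsLocalization.isNoetherianRing (𝔭.map (Ideal.Quotient.mk q)).primeCompl _ inferInstance
  exact Groth.L06.FormSmooth.regular_of_adicSmooth_field h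

theorem gens_of_regular (hq : q ≤ 𝔭) [(𝔭.map (Ideal.Quotient.mk q)).IsPrime]
    [IsRegularLocalRing (Localization.AtPrime 𝔭)]
    (h : IsRegularLocalRing (Localization.AtPrime (𝔭.map (Ideal.Quotient.mk q)))) :
    ∃ (m : ℕ) (g : Fin m → A), (∀ l, g l ∈ q) ∧
      q.map (algebraMap A (Localization.AtPrime 𝔭)) =
        Ideal.span (Set.range fun l => algebraMap A (Localization.AtPrime 𝔭) (g l)) ∧
      Groth.L07.RegIdeal.Indep (maximalIdeal (Localization.AtPrime 𝔭))
        fun l => algebraMap A (Localization.AtPrime 𝔭) (g l) := by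
  haveI := h
  obtain ⟨E⟩ := quotLocalEquiv (k := ℤ) q hq
  exact exists_gens_of_regular q (IsRegularLocalRing.of_ringEquiv E.symm.toRingEquiv)

end Criterion

end Groth.L06.Nagata
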