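import Groth.Agent.L06.NagataCharP
import Groth.Agent.L06.FormSmoothField2
import Groth.Agent.L06.FormSmoothExtDer
import Groth.Agent.L06.FormSmoothPS
import Groth.Agent.L06.FormSmoothJacobiQ
import Groth.Agent.S4574
import Groth.Agent.L01.CohenRing

/-! Nagata's Jacobian criterion for complete local rings. -/

set_option autoImplicit false
set_option maxSynthPendingDepth 3
set_option linter.style.haveILetI false
universe u

open IsLocalRing
open scoped TensorProduct

namespace Groth.L06.Nagata

section Dual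

variable {k : Type u} [Field k] {A : Type u} [CommRing A] [IsNoetherianRing A] [Algebra k A] {𝔭 : Ideal A} [𝔭.IsPrime]
  {L : Type u} [Field L] [Algebra A L]

set_option maxHeartbeats 1000000 in
/-- Formal smoothness of the quotient gives derivations into the residue field dual to independent generators. -/
theorem exists_dual (hL : IsResidue 𝔭 L) (q : Ideal A) (hq : q ≤ 𝔭) [(𝔭.map (Ideal.Quotient.mk q)).IsPrime]
    (h : CAlgX.IsAdicFormallySmooth k (Localization.AtPrime (𝔭.map (Ideal.Quotient.mk q)))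
      (maximalIdeal (Localization.AtPrime (𝔭.map (Ideal.Quotient.mk q)))))
    {m : ℕ} (g : Fin m → A) (hg : ∀ l, g l ∈ q)
    (hgen : q.map (algebraMap A (Localization.AtPrime 𝔭)) =
      Ideal.span (Set.range fun l => algebraMap A (Localization.AtPrime 𝔭) (g l)))
    (hind : Groth.L07.RegIdeal.Indep (maximalIdeal (Localization.AtPrime 𝔭))
      fun l => algebraMap A (Localization.AtPrime 𝔭) (g l)) :
    ∃ δ : Fin m → A →+ L, (∀ l, IsDer (δ l)) ∧ (∀ l c, δ l (algebraMap k A c) = 0) ∧
      ∀ l j, δ l (g j) = if l = j then 1 else 0 := by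
  classical
  let R := Localization.AtPrime 𝔭
  let J := q.map (algebraMap A R)
  let M := maximalIdeal R
  haveI : IsNoetherianRing R := IsLocalization.isNoetherianRing 𝔭.primeCompl R inferInstance
  have hJM : J ≤ M := by
    show q.map _ ≤ maximalIdeal R
    rw [← Localization.AtPrime.map_eq_maximalIdeal (I := 𝔭)]
    exact Ideal.map_mono hq
  haveI : Nontrivial (R ⧸ J) := Ideal.Quotient.nontrivial_iff.mpr
    fun h => (maximalIdeal.isMaximal R).ne_top (top_le_iff.mp (h ▸ hJM))
  haveI : IsLocalRing (R ⧸ J) := IsLocalRing.of_surjective' _ Ideal.Quotient.mk_surjective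
  obtain ⟨E⟩ := quotLocalEquiv (k := k) q hq
  have h' : CAlgX.IsAdicFormallySmooth k (R ⧸ J) (M.map (Ideal.Quotient.mk J)) := by
    refine adicSmooth_of_equiv E.symm _ _ ?_ h
    rw [IsLocalRing.map_maximalIdeal_of_surjective _ Ideal.Quotient.mk_surjective]
    exact IsLocalRing.map_maximalIdeal_of_surjective _ E.symm.toRingEquiv.surjective
  obtain ⟨G, hG⟩ := Groth.L06.FormSmooth.exists_leftInverse_of_adicSmooth M J (M.map (Ideal.Quotient.mk J))
    ⟨1, (pow_one _).le⟩ h'
  letI : Algebra R L := hL.ρ.toAlgebra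
  let K := RingHom.ker (algebraMap R (R ⧸ J))
  have hK : ∀ x, x ∈ K ↔ x ∈ J := fun x => Ideal.Quotient.eq_zero_iff_mem
  let φ := algebraMap A R
  have hgK : ∀ l, φ (g l) ∈ K := fun l => (hK _).mpr (Ideal.mem_map_of_mem _ (hg l))
  have hrep : ∀ x : K, ∃ c : Fin m → R, ∑ l, c l * φ (g l) = x := fun x =>
    Ideal.mem_span_range_iff_exists_fun.mp (hgen ▸ (hK _).mp x.2)
  choose c hc using hrep
  have huniq : ∀ (c c' : Fin m → R), ∑ l, c l * φ (g l) = ∑ l, c' l * φ (g l) → ∀ l, hL.ρ (c l) = hL.ρ (c' l) := by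
    intro c c' he l
    rw [← sub_eq_zero, ← map_sub, hL.ρ_eq_zero]
    refine hind (fun l => c l - c' l) ?_ l
    simp only [sub_mul, Finset.sum_sub_distrib]
    rw [he, sub_self]
    exact zero_mem _
  let α : Fin m → (K →ₗ[R] L) := fun l =>
    { toFun := fun x => hL.ρ (c x l)
      map_add' := fun x y => by
        show hL.ρ _ = _
        rw [← map_add]
        refine huniq (c (x + y)) (fun l => c x l + c y l) ?_ l
        simp only [add_mul, Finset.sum_add_distrib]
        rw [hc, hc, hc]; rfl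
      map_smul' := fun r x => by
        show hL.ρ (c (r • x) l) = hL.ρ r * hL.ρ (c x l)
        rw [← map_mul]
        refine huniq (c (r • x)) (fun l => r * c x l) ?_ l
        simp only [mul_assoc, ← Finset.mul_sum]
        rw [hc, hc]; rfl }
  have hαker : ∀ l, (K • ⊤ : Submodule R K) ≤ LinearMap.ker (α l) := fun l =>
    Submodule.smul_le.mpr fun r hr y _ => by
      rw [LinearMap.mem_ker, map_smul]
      show hL.ρ r * _ = 0
      rw [(hL.ρ_eq_zero r).mpr (hJM ((hK r).mp hr)), zero_mul]
  let α' : Fin m → (K.Cotangent →ₗ[R] L) := fun l => Submodule.liftQ _ (α l) (hαker l)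
  let Q : Ideal (R ⧸ J) := M.map (Ideal.Quotient.mk J)
  let C₁ := (R ⧸ J) ⧸ Q
  let ψ : C₁ →+* L := Ideal.Quotient.lift Q
    (Ideal.Quotient.lift J hL.ρ fun x hx => (hL.ρ_eq_zero x).mpr (hJM hx)) fun y hy => by
      obtain ⟨x, hx, rfl⟩ := (Ideal.mem_map_iff_of_surjective _ Ideal.Quotient.mk_surjective).mp hy
      rw [Ideal.Quotient.lift_mk]
      exact (hL.ρ_eq_zero x).mpr hx
  let ψA : C₁ →ₐ[R] L := { ψ with commutes' := fun r => rfl }
  let β : Fin m → (C₁ ⊗[R] K.Cotangent →ₗ[R] L) := fun l =>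
    TensorProduct.lift ((LinearMap.mul R L).compl₁₂ ψA.toLinearMap (α' l))
  have hβ : ∀ l (x : K.Cotangent), β l (1 ⊗ₜ x) = α' l x := fun l x => by
    show ψA 1 * α' l x = α' l x
    rw [map_one, one_mul]
  let T : Ω[R⁄k] →ₗ[R] C₁ ⊗[R] K.Cotangent :=
    (G.restrictScalars R) ∘ₗ (TensorProduct.mk R C₁ _ 1) ∘ₗ (TensorProduct.mk R (R ⧸ J) _ 1)
  let δ : Fin m → A →+ L := fun l => AddMonoidHom.mk'
    (fun a => β l (T (KaehlerDifferential.D k R (φ a)))) fun a b => by simp only [map_add]
  have hδ : ∀ l a, δ l a = β l (T (KaehlerDifferential.D k R (φ a))) := fun l a => rfl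
  refine ⟨δ, fun l a b => ?_, fun l c => ?_, fun l j => ?_⟩
  · simp only [hδ]
    rw [map_mul, Derivation.leibniz, map_add, map_add, map_smul, map_smul, map_smul, map_smul]
    show hL.ρ (φ a) * _ + hL.ρ (φ b) * _ = _
    rw [hL.ρ_algebraMap, hL.ρ_algebraMap]
  · rw [hδ, show φ (algebraMap k A c) = algebraMap k R c from (IsScalarTower.algebraMap_apply k A R c).symm,
      Derivation.map_algebraMap, map_zero, map_zero]
  · rw [hδ]
    have h1 := LinearMap.congr_fun hG ((1 : C₁) ⊗ₜ[R] K.toCotangent ⟨φ (g j), hgK j⟩)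
    rw [LinearMap.comp_apply, LinearMap.baseChange_tmul, KaehlerDifferential.kerCotangentToTensor_toCotangent,
      LinearMap.id_apply] at h1
    rw [show T (KaehlerDifferential.D k R (φ (g j))) = (1 : C₁) ⊗ₜ K.toCotangent ⟨φ (g j), hgK j⟩ from h1, hβ]
    show α l ⟨φ (g j), hgK j⟩ = _
    show hL.ρ (c ⟨φ (g j), hgK j⟩ l) = _
    rw [huniq (c ⟨φ (g j), hgK j⟩) (fun i => if i = j then 1 else 0) (by rw [hc]; simp) l]
    split_ifs <;> simp

end Dual

section Kills

/-- The constants killed by an additive derivation of a nontrivial ring form a subfield. -/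
def ringDerSubfield {k A : Type u} [Field k] [CommRing A] [Algebra k A] {D : A →+ A} (hD : IsRingDer D) :
    Subfield k where
  carrier := {c | D (algebraMap k A c) = 0}
  one_mem' := by
    show D (algebraMap k A 1) = 0
    have := hD 1 1
    simp only [mul_one, one_mul, left_eq_add] at this
    rw [map_one]; exact this
  zero_mem' := by show D (algebraMap k A 0) = 0; simp
  add_mem' := fun {a b} (ha : D _ = 0) (hb : D _ = 0) => by show D _ = 0; rw [map_add, map_add, ha, hb, add_zero]
  neg_mem' := fun {a} (ha : D _ = 0) => by show D _ = 0; rw [map_neg, map_neg, ha, neg_zero]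
  mul_mem' := fun {a b} (ha : D _ = 0) (hb : D _ = 0) => by
    show D _ = 0; rw [map_mul, hD, ha, hb, mul_zero, mul_zero, add_zero]
  inv_mem' := fun c (hc : D (algebraMap k A c) = 0) => by
    show D (algebraMap k A c⁻¹) = 0
    rcases eq_or_ne c 0 with rfl | h0
    · simp
    · have h1 : D 1 = 0 := by
        have := hD 1 1
        simpa only [mul_one, one_mul, left_eq_add] using this
      have h2 := hD (algebraMap k A c) (algebraMap k A c⁻¹)
      rw [← map_mul, mul_inv_cancel₀ h0, map_one, h1, hc, mul_zero, add_zero] at h2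
      exact ((IsUnit.mk0 c h0).map (algebraMap k A)).mul_right_eq_zero.mp h2.symm

end Kills

section Span

variable (p : ℕ) [hp : Fact p.Prime] {k A : Type u} [Field k] [CharP k p]

set_option maxHeartbeats 1000000 in
/-- In characteristic `p`, derivations into the residue field that kill `k` lie in the span of the
`k`-derivations of `A` on any finite family of elements. -/
theorem span_charP [CommRing A] [IsLocalRing A] [IsNoetherianRing A] [IsAdicComplete (maximalIdeal A) A] [Algebra k A]
    [Module.Finite (frobenius k p).fieldRange k] (hA : CAlgX.IsAdicFormallySmooth k A (maximalIdeal A))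
    {K : Type u} [Field K] [CharP K p] {r : ℕ} (e : MvPowerSeries (Fin r) K ≃+* A)
    (𝔭 : Ideal A) [𝔭.IsPrime] {L : Type u} [Field L] [Algebra A L] (hL : IsResidue 𝔭 L)
    (δ : A →+ L) (hδ : IsDer δ) (hδk : ∀ c, δ (algebraMap k A c) = 0) {m : ℕ} (a : Fin m → A) :
    (fun l => δ (a l)) ∈ Submodule.span L
      (Set.range fun D : Derivation k A A => fun l => algebraMap A L (D (a l))) := by
  classical
  haveI : IsRegularLocalRing A := Groth.L06.FormSmooth.regular_of_adicSmooth_field hA
  let F₀ := (frobenius k p).fieldRange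
  have hF₀ : ∀ x : k, x ^ p ∈ F₀ := fun x => ⟨x, rfl⟩
  obtain ⟨cs, hcs, -, hcsind⟩ := exists_pGenerators p F₀ hF₀
  have hd : ∀ c : cs, ∃ d : Derivation ℤ k k,
      (∀ x ∈ (IntermediateField.adjoin F₀ ((cs : Set k) \ {(c : k)})).toSubfield, d x = 0) ∧ d (c : k) = 1 :=
    fun c => Groth.L06.PBasis.exists_der_killing p _
      (pow_mem_intermediate p hF₀ _) ((hcsind c c.2 0).1)
  choose d hd0 hd1 using hd
  haveI : IsLocalHom (algebraMap k A) := ⟨fun c hc => IsUnit.mk0 c fun h => not_isUnit_zero (by rwa [h, map_zero] at hc)⟩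
  choose E hE hEk using fun c => Groth.L06.FormSmoothAdic.exists_der_extension hA (d c)
  have hEc : ∀ c c' : cs, E c (algebraMap k A (c' : k)) = if c = c' then 1 else 0 := fun c c' => by
    rw [hEk]
    split_ifs with h
    · subst h; rw [hd1, map_one]
    · rw [hd0 c c' (IntermediateField.subset_adjoin _ _
        ⟨c'.2, fun h' => h (Subtype.ext (Set.mem_singleton_iff.mp h')).symm⟩), map_zero]
  -- transport to power series
  let P := MvPowerSeries (Fin r) K
  let π := algebraMap A L
  letI : Algebra P L := (π.comp e.toRingHom).toAlgebra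
  let 𝔭' : Ideal P := 𝔭.comap e.toRingHom
  haveI : 𝔭'.IsPrime := Ideal.comap_isPrime _ _
  have hL' : IsResidue 𝔭' L := by
    refine ⟨fun x => hL.eq_zero_iff (e x), fun z => ?_⟩
    obtain ⟨u, s, hs, h⟩ := hL.surj z
    refine ⟨e.symm u, e.symm s, fun h' => hs (by have h'' : e (e.symm s) ∈ 𝔭 := h'; rwa [e.apply_symm_apply] at h''), ?_⟩
    show z * π (e (e.symm s)) = π (e (e.symm u))
    rw [e.apply_symm_apply, e.apply_symm_apply]; exact h
  let δ' : P →+ L := δ.comp e.toRingHom.toAddMonoidHom
  have hδ' : IsDer δ' := fun x y => by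
    show δ (e (x * y)) = π (e x) * δ (e y) + π (e y) * δ (e x)
    rw [map_mul, hδ]
  let ι := Fin m ⊕ cs
  let N := Fintype.card ι
  let eι := Fintype.equivFin ι
  let all : ι → A := Sum.elim a fun c => algebraMap k A (c : k)
  have hmem := span_absolute p 𝔭' hL' δ' hδ' (fun i => e.symm (all (eι.symm i)))
  let T : (Fin N → L) →ₗ[L] (Fin m → L) :=
    { toFun := fun w l => w (eι (Sum.inl l)) - ∑ c : cs, w (eι (Sum.inr c)) * π (E c (a l))
      map_add' := fun v w => funext fun l => by
        simp only [Pi.add_apply, add_mul, Finset.sum_add_distrib]; ring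
      map_smul' := fun z w => funext fun l => by
        simp only [Pi.smul_apply, smul_eq_mul, RingHom.id_apply, mul_assoc, ← Finset.mul_sum]; ring }
  have hT := Submodule.mem_map_of_mem (f := T) hmem
  have h0 : T (fun i => δ' (e.symm (all (eι.symm i)))) = fun l => δ (a l) := funext fun l => by
    show δ (e (e.symm (all (eι.symm (eι (Sum.inl l)))))) -
      ∑ c : cs, δ (e (e.symm (all (eι.symm (eι (Sum.inr c)))))) * π (E c (a l)) = δ (a l)
    simp only [e.apply_symm_apply, Equiv.symm_apply_apply]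
    rw [Finset.sum_eq_zero fun c _ => ?_, sub_zero]
    · rfl
    · show δ (algebraMap k A (c : k)) * _ = 0
      rw [hδk, zero_mul]
  rw [h0, Submodule.map_span] at hT
  refine Submodule.span_mono ?_ hT
  rintro _ ⟨_, ⟨D, hD, rfl⟩, rfl⟩
  let D₁ : A →+ A := e.toRingHom.toAddMonoidHom.comp (D.comp e.symm.toRingHom.toAddMonoidHom)
  have hD₁ : IsRingDer D₁ := fun x y => by
    show e (D (e.symm (x * y))) = x * e (D (e.symm y)) + y * e (D (e.symm x))
    rw [map_mul, hD, map_add, map_mul, map_mul, e.apply_symm_apply, e.apply_symm_apply]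
  let D₂ : A →+ A := D₁ - ∑ c : cs, (AddMonoidHom.mulLeft (D₁ (algebraMap k A (c : k)))).comp (E c)
  have hD₂e : ∀ x, D₂ x = D₁ x - ∑ c : cs, D₁ (algebraMap k A (c : k)) * E c x := fun x => by
    simp only [D₂, AddMonoidHom.sub_apply, AddMonoidHom.finsetSum_apply]; rfl
  have hD₂ : IsRingDer D₂ := fun x y => by
    simp only [hD₂e, hD₁ x y, hE _ x y, smul_eq_mul, mul_add, Finset.sum_add_distrib]
    rw [mul_sub, mul_sub, Finset.mul_sum, Finset.mul_sum]
    simp only [mul_left_comm]
    ring
  have hkill : ∀ c, D₂ (algebraMap k A c) = 0 := fun c => by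
    refine subfield_of_adjoin_top F₀ _ hcs (ringDerSubfield hD₂) ?_ ?_ c
    · rintro _ ⟨x, rfl⟩
      show D₂ (algebraMap k A (x ^ p)) = 0
      haveI : CharP A p := charP_of_injective_algebraMap (algebraMap k A).injective p
      have key : ∀ (n : ℕ) (b : A), D₂ (b ^ (n + 1)) = ((n + 1 : ℕ) : A) * (b ^ n * D₂ b) := fun n b => by
        induction n with
        | zero => simp
        | succ n ih => rw [pow_succ, hD₂, ih]; push_cast; ring
      obtain ⟨n, hn⟩ := Nat.exists_eq_succ_of_ne_zero hp.1.ne_zero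
      rw [map_pow, hn, key, ← Nat.succ_eq_add_one, ← hn, CharP.cast_eq_zero, zero_mul]
    · intro c hc
      show D₂ (algebraMap k A c) = 0
      rw [hD₂e, Finset.sum_eq_single ⟨c, hc⟩ (fun c' _ h => by rw [hEc c' ⟨c, hc⟩, if_neg h, mul_zero])
        (fun h => absurd (Finset.mem_univ _) h), hEc ⟨c, hc⟩ ⟨c, hc⟩, if_pos rfl, mul_one, sub_self]
  refine ⟨Derivation.mk'
    { toFun := D₂
      map_add' := map_add D₂
      map_smul' := fun c x => by
        show D₂ (c • x) = c • D₂ x
        rw [Algebra.smul_def, Algebra.smul_def, hD₂, hkill, mul_zero, add_zero] } hD₂, ?_⟩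
  funext l
  show π (D₂ (a l)) = π (e (D (e.symm (all (eι.symm (eι (Sum.inl l))))))) -
    ∑ c : cs, π (e (D (e.symm (all (eι.symm (eι (Sum.inr c))))))) * π (E c (a l))
  simp only [Equiv.symm_apply_apply]
  rw [hD₂e, map_sub, map_sum]
  simp only [map_mul]
  rfl

end Span

section CharZero

variable {k A : Type u} [Field k] [CharZero k] [CommRing A] [Algebra k A]

set_option maxHeartbeats 1000000 in
/-- In characteristic zero the `k`-derivations of `A` separate independent elements of a prime. -/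
theorem separate_charZero {K : Type u} [Field K] {r : ℕ} (e : MvPowerSeries (Fin r) K ≃+* A) (j : k →+* K)
    (hej : ∀ c, algebraMap k A c = e (MvPowerSeries.C (j c)))
    (𝔭 : Ideal A) [𝔭.IsPrime] {L : Type u} [Field L] [Algebra A L] (hL : IsResidue 𝔭 L)
    {m : ℕ} (g : Fin m → A) (hg : ∀ l, g l ∈ 𝔭)
    (hind : Groth.L07.RegIdeal.Indep (maximalIdeal (Localization.AtPrime 𝔭))
      fun l => algebraMap A (Localization.AtPrime 𝔭) (g l))
    (c : Fin m → L) (hc : ∀ D : Derivation k A A, ∑ l, c l * algebraMap A L (D (g l)) = 0) : c = 0 := by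
  classical
  let P := MvPowerSeries (Fin r) K
  let π := algebraMap A L
  letI : Algebra P L := (π.comp e.toRingHom).toAlgebra
  let 𝔭' : Ideal P := 𝔭.comap e.toRingHom
  haveI : 𝔭'.IsPrime := Ideal.comap_isPrime _ _
  have hL' : IsResidue 𝔭' L := by
    refine ⟨fun x => hL.eq_zero_iff (e x), fun z => ?_⟩
    obtain ⟨u, s, hs, h⟩ := hL.surj z
    refine ⟨e.symm u, e.symm s, fun h' => hs (by have h'' : e (e.symm s) ∈ 𝔭 := h'; rwa [e.apply_symm_apply] at h''), ?_⟩
    show z * π (e (e.symm s)) = π (e (e.symm u))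
    rw [e.apply_symm_apply, e.apply_symm_apply]; exact h
  haveI : CharZero K := charZero_of_injective_ringHom j.injective
  haveI : IsRegularLocalRing P := Groth.L01.PowSerReg.isRegularLocalRing K r
  haveI : IsDomain P := Groth.L01.isDomain_of_regular P
  haveI : IsAdicComplete (maximalIdeal P) P := Groth.L12.isAdicComplete_mvPowerSeries
  haveI : IsRegularRing P := Groth.Agent.S5784.result K r
  haveI : IsRegularLocalRing (Localization.AtPrime 𝔭') := IsRegularRing.isRegularLocalRing_localization 𝔭'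
  haveI : Nontrivial (P ⧸ 𝔭') := Ideal.Quotient.nontrivial_iff.mpr (Ideal.IsPrime.ne_top ‹_›)
  haveI : IsLocalRing (P ⧸ 𝔭') := IsLocalRing.of_surjective' _ Ideal.Quotient.mk_surjective
  haveI := Groth.L01.NagataComplete.isAdicComplete_quotient 𝔭'
  obtain ⟨s, f, hinj, hfin, hfC, -⟩ := exists_normalisation ((Ideal.Quotient.mk 𝔭').comp (MvPowerSeries.C : K →+* P)) (fun z => by
    obtain ⟨b, rfl⟩ := residue_surjective z
    obtain ⟨t, rfl⟩ := Ideal.Quotient.mk_surjective b
    refine ⟨MvPowerSeries.constantCoeff t, ?_⟩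
    show residue _ (Ideal.Quotient.mk 𝔭' (MvPowerSeries.C (MvPowerSeries.constantCoeff t))) = residue _ (Ideal.Quotient.mk 𝔭' t)
    rw [← sub_eq_zero, ← map_sub, ← map_sub, residue_eq_zero_iff]
    haveI : IsLocalHom (Ideal.Quotient.mk 𝔭') := IsLocalHom.of_surjective _ Ideal.Quotient.mk_surjective
    refine map_nonunit (Ideal.Quotient.mk 𝔭') _ ?_
    rw [mem_maximalIdeal, mem_nonunits_iff, MvPowerSeries.isUnit_iff_constantCoeff]
    simp)
  haveI : IsDomain (MvPowerSeries (Fin s) K) := NoZeroDivisors.to_isDomain _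
  haveI : CharZero (MvPowerSeries (Fin s) K) := charZero_of_injective_algebraMap (algebraMap K _).injective
  haveI : IsAddTorsionFree (MvPowerSeries (Fin s) K) := inferInstance
  have hsep : ∀ b : P ⧸ 𝔭', ∃ Q : Polynomial (MvPowerSeries (Fin s) K),
      Q.eval₂ f b = 0 ∧ Q.derivative.eval₂ f b ≠ 0 := by
    intro b
    have hex : ∃ n, ∃ Q : Polynomial (MvPowerSeries (Fin s) K), Q.natDegree = n ∧ Q ≠ 0 ∧ Q.eval₂ f b = 0 := by
      obtain ⟨Q, hm, hQ⟩ := hfin.to_isIntegral b
      exact ⟨_, Q, rfl, hm.ne_zero, hQ⟩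
    obtain ⟨Q, hQn, hQ0, hQ⟩ := Nat.find_spec hex
    refine ⟨Q, hQ, fun h => ?_⟩
    by_cases hd : Q.derivative = 0
    · rw [Polynomial.eq_C_of_derivative_eq_zero hd] at hQ hQ0
      rw [Polynomial.eval₂_C] at hQ
      exact hQ0 (by rw [hinj (hQ.trans (map_zero f).symm), map_zero])
    · refine Nat.find_min hex (m := Q.derivative.natDegree) ?_ ⟨_, rfl, hd, h⟩
      rw [← hQn]
      exact Polynomial.natDegree_derivative_lt fun h0 => hd (Polynomial.derivative_of_natDegree_zero h0)
  obtain ⟨d, f', hd, hf', hf'gen⟩ := exists_parameters (𝔭 := 𝔭')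
  have hsurj := surj_separable 𝔭' hL' f hinj hfin hfC hsep f' hf' hf'gen hd
  -- transport to `A`
  let D : Fin r → Derivation k A A := fun i => Derivation.mk'
    { toFun := fun x => e (MvPowerSeries.pderiv K i (e.symm x))
      map_add' := fun x y => by simp only [map_add]
      map_smul' := fun c x => by
        rw [RingHom.id_apply, Algebra.smul_def, Algebra.smul_def, map_mul, hej, e.symm_apply_apply,
          Derivation.leibniz, show (MvPowerSeries.C (j c) : P) = algebraMap K P (j c) from rfl,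
          Derivation.map_algebraMap, smul_zero, add_zero, smul_eq_mul, map_mul] } fun x y => by
      show e (MvPowerSeries.pderiv K i (e.symm (x * y))) = x • e (MvPowerSeries.pderiv K i (e.symm y)) + y • e (MvPowerSeries.pderiv K i (e.symm x))
      rw [map_mul, Derivation.leibniz, map_add, smul_eq_mul, smul_eq_mul, map_mul, map_mul, e.apply_symm_apply,
        e.apply_symm_apply, smul_eq_mul, smul_eq_mul]
  have hH : Submonoid.map e.toMonoidHom 𝔭'.primeCompl = 𝔭.primeCompl := by
    ext x
    constructor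
    · rintro ⟨y, hy, rfl⟩; exact hy
    · intro hx; exact ⟨e.symm x, fun h => hx (by have h'' : e (e.symm x) ∈ 𝔭 := h; rwa [e.apply_symm_apply] at h''), e.apply_symm_apply x⟩
  let E : Localization.AtPrime 𝔭' ≃+* Localization.AtPrime 𝔭 :=
    IsLocalization.ringEquivOfRingEquiv (M := 𝔭'.primeCompl) (T := 𝔭.primeCompl) _ _ e hH
  have hEgen : maximalIdeal (Localization.AtPrime 𝔭) =
      Ideal.span (Set.range fun i => algebraMap A (Localization.AtPrime 𝔭) (e (f' i))) := by
    rw [← IsLocalRing.map_maximalIdeal_of_surjective E.toRingHom E.surjective, hf'gen, Ideal.map_span, ← Set.range_comp]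
    congr 1
    congr 1
    funext i
    exact IsLocalization.ringEquivOfRingEquiv_eq hH _
  funext l
  refine eq_zero_of_surj hL (fun i => resDer L (D i)) (fun i => isDer_resDer _ _) (fun i => e (f' i)) hf' hEgen
    (fun t => ?_) g hg hind c (fun i => hc (D i)) l
  obtain ⟨v, hv⟩ := hsurj t
  refine ⟨v, fun i => ?_⟩
  rw [← hv i]
  refine Finset.sum_congr rfl fun x _ => ?_
  show v x * π (e (MvPowerSeries.pderiv K x (e.symm (e (f' i))))) = v x * π (e (MvPowerSeries.pderiv K x (f' i)))
  rw [e.symm_apply_apply]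

end CharZero

set_option maxHeartbeats 1000000 in
/-- Nagata's criterion. -/
theorem jacobian_criterion (p : ℕ) {k K₀ A : Type u} [Field k] [ExpChar k p]
    (hk : p = 1 ∨ Module.Finite (frobenius k p).fieldRange k)
    [Field K₀] [Algebra k K₀] [Algebra.IsGeometricallyReduced k K₀]
    [CommRing A] [IsLocalRing A] [IsNoetherianRing A] [IsAdicComplete (maximalIdeal A) A]
    [Algebra k A] [Algebra K₀ A] [IsScalarTower k K₀ A]
    (hA : CAlgX.IsAdicFormallySmooth K₀ A (maximalIdeal A))
    (q 𝔭 : Ideal A) [𝔭.IsPrime] (hq : q ≤ 𝔭) [(𝔭.map (Ideal.Quotient.mk q)).IsPrime] :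
    CAlgX.IsAdicFormallySmooth k (Localization.AtPrime (𝔭.map (Ideal.Quotient.mk q))) (maximalIdeal (Localization.AtPrime (𝔭.map (Ideal.Quotient.mk q)))) ↔
      ∃ (m : ℕ) (D : Fin m → Derivation k A A) (f : Fin m → A), (∀ i, f i ∈ q) ∧
        q.map (algebraMap A (Localization.AtPrime 𝔭)) = Ideal.span (Set.range fun i => algebraMap A (Localization.AtPrime 𝔭) (f i)) ∧
        Matrix.det (Matrix.of fun i j => D i (f j)) ∉ 𝔭 := by
  classical
  haveI : Algebra.FormallySmooth k K₀ := Groth.L06.FormSmooth.formallySmooth_of_geometricallyReduced k K₀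
  have hAk : CAlgX.IsAdicFormallySmooth k A (maximalIdeal A) := Groth.L06.FormSmooth.comp_base (F := k) (k := K₀) _ hA
  have hAp := Groth.Agent.S4574.result hAk 𝔭
  haveI : IsNoetherianRing (Localization.AtPrime 𝔭) := IsLocalization.isNoetherianRing 𝔭.primeCompl _ inferInstance
  haveI : IsRegularLocalRing (Localization.AtPrime 𝔭) := Groth.L06.FormSmooth.regular_of_adicSmooth_field hAp
  haveI : IsRegularLocalRing A := Groth.L06.FormSmooth.regular_of_adicSmooth_field hAk
  refine ⟨fun h => ?_, fun ⟨m, D, f, hf, hgen, hdet⟩ => adicSmooth_of_det q hq hAp D f hf hgen hdet⟩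
  obtain ⟨m, g, hgq, hgen, hind⟩ := gens_of_regular q hq (regular_quotient_of_adicSmooth q hq h)
  have hL := isResidue_residueField 𝔭
  suffices hsep : ∀ c : Fin m → 𝔭.ResidueField,
      (∀ D : Derivation k A A, ∑ l, c l * algebraMap A 𝔭.ResidueField (D (g l)) = 0) → c = 0 by
    obtain ⟨σ, hσ⟩ := exists_det_derivations hL (fun D : Derivation k A A => D) g hsep
    exact ⟨m, σ, g, hgq, hgen, hσ⟩
  intro c hc
  cases ‹ExpChar k p› with
  | zero =>
    haveI : Algebra.FormallySmooth k (ResidueField A) := Groth.L03.FieldFS.formallySmooth_of_perfectField k _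
    obtain ⟨F, hF⟩ := Groth.L06.FormSmooth.exists_coefficient_algHom (k := k) (R := A)
    obtain ⟨r, e, he⟩ := Groth.L06.FormSmooth.exists_powerSeries_equiv F.toRingHom fun z => ⟨z, hF z⟩
    exact separate_charZero e (algebraMap k (ResidueField A)) (fun x => by rw [he]; exact (F.commutes x).symm) 𝔭 hL g
      (fun l => hq (hgq l)) hind c hc
  | prime hprime =>
    haveI : Fact p.Prime := ⟨hprime⟩
    haveI : Module.Finite (frobenius k p).fieldRange k := hk.resolve_left hprime.ne_one
    haveI : CharP A p := charP_of_injective_algebraMap (algebraMap k A).injective p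
    haveI : CharP (ResidueField A) p := charP_of_injective_ringHom ((residue A).comp (algebraMap k A)).injective p
    obtain ⟨F, hF⟩ := Groth.L01.Cohen.exists_coefficientField_charP (R := A) (p := p) (CharP.cast_eq_zero A p)
    obtain ⟨r, e, -⟩ := Groth.L06.FormSmooth.exists_powerSeries_equiv F fun z => ⟨z, RingHom.congr_fun hF z⟩
    obtain ⟨δ, hδ, hδk, hδg⟩ := exists_dual hL q hq h g hgq hgen hind
    funext l
    let Φ : (Fin m → 𝔭.ResidueField) →ₗ[𝔭.ResidueField] 𝔭.ResidueField :=
      { toFun := fun w => ∑ i, c i * w i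
        map_add' := fun v w => by simp [mul_add, Finset.sum_add_distrib]
        map_smul' := fun z w => by simp [Finset.mul_sum, mul_left_comm] }
    have hΦ : (fun i => δ l (g i)) ∈ LinearMap.ker Φ := by
      refine Submodule.span_le.mpr ?_ (span_charP p hAk e 𝔭 hL (δ l) (hδ l) (hδk l) g)
      rintro _ ⟨D, rfl⟩
      exact LinearMap.mem_ker.mpr (hc D)
    have h1 : ∑ i, c i * δ l (g i) = 0 := LinearMap.mem_ker.mp hΦ
    simpa [hδg] using h1

end Groth.L06.Nagata
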