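import Groth.Agent.L01.CohenFinite
import Groth.Agent.L12.PowSer

/-! Finite normalization of a complete local domain over a given coefficient field. -/

universe u

namespace Groth.L06.Nagata

open IsLocalRing
open Groth.L01.CohenFinite

variable {A R : Type u} [CommRing A] [IsLocalRing A] [CommRing R] [IsLocalRing R] [IsNoetherianRing R]

theorem exists_normalisation' [IsDomain A] [IsNoetherianRing A] [IsAdicComplete (maximalIdeal A) A] [IsDomain R]
    [IsAdicComplete (maximalIdeal R) R] (F : A →+* R) [IsLocalHom F]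
    (hres : Function.Surjective ((residue R).comp F)) (N : ℕ) {n : ℕ} (x : Fin n → R)
    (hx : ∀ i, x i ∈ maximalIdeal R)
    (hN : maximalIdeal R ^ N ≤ Ideal.span (Set.range x) ⊔ (maximalIdeal A).map F)
    (hdim : (((maximalIdeal A).spanFinrank + n : ℕ) : WithBot ℕ∞) ≤ ringKrullDim R) :
    ∃ f : MvPowerSeries (Fin n) A →+* R, Function.Injective f ∧ f.Finite ∧
      ∀ a, f (algebraMap A (MvPowerSeries (Fin n) A) a) = F a := by
  classical
  letI := F.toAlgebra
  obtain ⟨φ, hφ⟩ := Groth.L12.exists_evalPS (R := A) (maximalIdeal R) x hx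
  let T := MvPowerSeries (Fin n) A
  let f : T →+* R := φ.toRingHom
  have hfC : ∀ a, f (algebraMap A T a) = F a := φ.commutes
  -- the closed fibre
  let Q : Ideal R := Ideal.span (Set.range x)
  have hQm : Q ≤ maximalIdeal R := Ideal.span_le.mpr (by rintro _ ⟨i, rfl⟩; exact hx i)
  have hFm : (maximalIdeal A).map F ≤ maximalIdeal R :=
    Ideal.map_le_iff_le_comap.mpr fun a ha => map_nonunit F a ha
  haveI : Nontrivial (R ⧸ Q) := Ideal.Quotient.nontrivial_iff.mpr
    (fun h => (maximalIdeal.isMaximal R).ne_top (top_le_iff.mp (h ▸ hQm)))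
  haveI : IsLocalRing (R ⧸ Q) := IsLocalRing.of_surjective' _ Ideal.Quotient.mk_surjective
  haveI : IsHausdorff (maximalIdeal A) (R ⧸ Q) := by
    refine ⟨fun z hz => ?_⟩
    have hb : (⨅ i, ((maximalIdeal A).map (algebraMap A (R ⧸ Q))) ^ i) = ⊥ := by
      refine Ideal.iInf_pow_eq_bot_of_isLocalRing _ fun h => ?_
      have hle : (maximalIdeal A).map (algebraMap A (R ⧸ Q)) ≤ (maximalIdeal R).map (Ideal.Quotient.mk Q) := by
        rw [show algebraMap A (R ⧸ Q) = (Ideal.Quotient.mk Q).comp F from rfl, ← Ideal.map_map]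
        exact Ideal.map_mono hFm
      have h1 : (1 : R ⧸ Q) ∈ (maximalIdeal R).map (Ideal.Quotient.mk Q) := hle (h ▸ Submodule.mem_top)
      rw [Ideal.mem_map_iff_of_surjective _ Ideal.Quotient.mk_surjective] at h1
      obtain ⟨r, hr, hr1⟩ := h1
      rw [← map_one (Ideal.Quotient.mk Q), Ideal.Quotient.eq] at hr1
      exact (maximalIdeal.isMaximal R).ne_top ((Ideal.eq_top_iff_one _).mpr
        (by simpa using sub_mem hr (hQm hr1)))
    rw [← Submodule.mem_bot (R ⧸ Q), ← hb, Submodule.mem_iInf]
    intro i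
    have := SModEq.zero.mp (hz i)
    rwa [Ideal.smul_top_eq_map, Submodule.restrictScalars_mem, Ideal.map_pow] at this
  have hA : Module.Finite A (R ⧸ Q) := by
    refine Groth.Agent.S0544.result A (maximalIdeal A) (R ⧸ Q) ?_
    let Q' : Submodule A R := (Q ⊔ (maximalIdeal A).map F).restrictScalars A
    haveI : Module.Finite A (R ⧸ Q') := finite_quotient_of_pow_le hres N Q' fun r hr => hN hr
    let g : (R ⧸ Q') →ₗ[A] ((R ⧸ Q) ⧸ (maximalIdeal A • ⊤ : Submodule A (R ⧸ Q))) :=
      Q'.liftQ ((Submodule.mkQ _).comp (Ideal.Quotient.mkₐ A Q).toLinearMap) (fun r hr => by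
        rw [LinearMap.mem_ker, LinearMap.comp_apply, Submodule.mkQ_apply, Submodule.Quotient.mk_eq_zero,
          Ideal.smul_top_eq_map, Submodule.restrictScalars_mem]
        obtain ⟨a, ha, b, hb, rfl⟩ := Submodule.mem_sup.mp (show r ∈ Q ⊔ (maximalIdeal A).map F from hr)
        rw [map_add]
        refine add_mem ?_ ?_
        · have : (Ideal.Quotient.mkₐ A Q).toLinearMap a = 0 := Ideal.Quotient.eq_zero_iff_mem.mpr ha
          rw [this]; exact zero_mem _
        · rw [show algebraMap A (R ⧸ Q) = (Ideal.Quotient.mk Q).comp F from rfl, ← Ideal.map_map]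
          exact Ideal.mem_map_of_mem _ hb)
    refine Module.Finite.of_surjective g fun y => ?_
    obtain ⟨y, rfl⟩ := Submodule.mkQ_surjective _ y
    obtain ⟨r, rfl⟩ := Ideal.Quotient.mk_surjective y
    exact ⟨Q'.mkQ r, rfl⟩
  letI : Algebra T R := f.toAlgebra
  haveI : IsScalarTower A T R := IsScalarTower.of_algebraMap_eq fun a => (hfC a).symm
  let I : Ideal T := Groth.L01.PowSerReg.varIdeal A n
  have hI : I.map f = Q := by
    simp only [I, Groth.L01.PowSerReg.varIdeal, Ideal.map_span, ← Set.range_comp, Q]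
    exact congrArg (fun s => Ideal.span (Set.range s)) (funext hφ)
  haveI := isHausdorff_varIdeal A n
  haveI : IsAdicComplete I T := {}
  haveI : IsHausdorff I R := by
    refine ⟨fun z hz => IsHausdorff.haus (I := maximalIdeal R) inferInstance z fun i => ?_⟩
    have := SModEq.zero.mp (hz i)
    rw [Ideal.smul_top_eq_map, Submodule.restrictScalars_mem, Ideal.map_pow] at this
    rw [SModEq.zero, smul_eq_mul, Ideal.mul_top]
    exact Ideal.pow_right_mono (hI.trans_le hQm) i this
  have hT : Module.Finite T R := by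
    refine Groth.Agent.S0544.result T I R ?_
    obtain ⟨G, hG⟩ := hA.fg_top
    choose m hm using fun g : R ⧸ Q => Ideal.Quotient.mk_surjective g
    let P : Submodule T R := I • ⊤
    refine ⟨Submodule.fg_def.mpr ⟨P.mkQ '' (m '' (G : Set (R ⧸ Q))), (G.finite_toSet.image _).image _,
      eq_top_iff.mpr fun y _ => ?_⟩⟩
    obtain ⟨r, rfl⟩ := Submodule.mkQ_surjective _ y
    have key : ∀ z ∈ Submodule.span A (G : Set (R ⧸ Q)),
        ∃ w ∈ Submodule.span T (m '' (G : Set (R ⧸ Q))), Ideal.Quotient.mk Q w = z := by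
      intro z hz
      induction hz using Submodule.span_induction with
      | mem g hg => exact ⟨m g, Submodule.subset_span ⟨g, hg, rfl⟩, hm g⟩
      | zero => exact ⟨0, zero_mem _, map_zero _⟩
      | add a b _ _ ha hb =>
        obtain ⟨v, hv, rfl⟩ := ha
        obtain ⟨w, hw, rfl⟩ := hb
        exact ⟨v + w, add_mem hv hw, map_add _ _ _⟩
      | smul c a _ ha =>
        obtain ⟨v, hv, rfl⟩ := ha
        exact ⟨algebraMap A T c • v, Submodule.smul_mem _ _ hv, by
          rw [algebraMap_smul, Algebra.smul_def, Algebra.smul_def, map_mul]; rfl⟩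
    obtain ⟨w, hw, hwr⟩ := key (Ideal.Quotient.mk Q r) (hG ▸ Submodule.mem_top)
    have hP : P.mkQ r = P.mkQ w := by
      refine (Submodule.Quotient.eq P).mpr ?_
      rw [show P = (I.map f).restrictScalars T from Ideal.smul_top_eq_map I, Submodule.restrictScalars_mem, hI]
      exact Ideal.Quotient.eq.mp hwr.symm
    rw [hP, Submodule.span_image]
    exact Submodule.mem_map_of_mem hw
  refine ⟨f, ?_, RingHom.finite_algebraMap.mpr hT, hfC⟩
  · rw [RingHom.injective_iff_ker_eq_bot]
    by_contra hne
    have hP : (RingHom.ker f).IsPrime := RingHom.ker_isPrime f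
    obtain ⟨t, ht, ht0⟩ := Submodule.exists_mem_ne_zero_of_ne_bot hne
    have h1 : ringKrullDim R ≤ ringKrullDim (T ⧸ RingHom.ker f) := by
      letI : Algebra (T ⧸ RingHom.ker f) R := (RingHom.kerLift f).toAlgebra
      haveI : Algebra.IsIntegral (T ⧸ RingHom.ker f) R := ⟨fun r =>
        RingHom.IsIntegral.tower_top (Ideal.Quotient.mk (RingHom.ker f)) (RingHom.kerLift f)
          ((RingHom.finite_algebraMap.mpr hT).to_isIntegral) r⟩
      exact (Groth.L22.AffineDim.ringKrullDim_eq_of_isIntegral (RingHom.kerLift_injective f)).le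
    have h2 : ringKrullDim (T ⧸ RingHom.ker f) + 1 ≤ ringKrullDim T := by
      refine le_trans (add_le_add ?_ le_rfl) (ringKrullDim_quotient_succ_le_of_nonZeroDivisor (r := t)
        (mem_nonZeroDivisors_of_ne_zero ht0))
      exact ringKrullDim_le_of_surjective (Ideal.Quotient.factor
        ((Ideal.span_singleton_le_iff_mem _).mpr ht)) (Ideal.Quotient.factor_surjective _)
    have h3 := (add_le_add h1 le_rfl).trans (h2.trans ((ringKrullDim_mvPowerSeries_le A n).trans hdim))
    have hfin : ringKrullDim R ≠ ⊤ := ringKrullDim_lt_top.ne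
    have hbot : ringKrullDim R ≠ ⊥ := ringKrullDim_ne_bot
    revert h3 hfin hbot
    generalize ringKrullDim R = D
    intro h3 hfin hbot
    lift D to ℕ∞ using hbot
    have hfin' : D ≠ ⊤ := fun h => hfin (by rw [h]; rfl)
    lift D to ℕ using hfin'
    exact Nat.not_succ_le_self D (by exact_mod_cast h3)

/-- A complete local domain is finite over a power series ring on a given coefficient field. -/
theorem exists_normalisation {K B : Type u} [Field K] [CommRing B] [IsDomain B] [IsLocalRing B] [IsNoetherianRing B]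
    [IsAdicComplete (maximalIdeal B) B] (F : K →+* B) (hres : Function.Surjective ((residue B).comp F)) :
    ∃ (s : ℕ) (f : MvPowerSeries (Fin s) K →+* B), Function.Injective f ∧ f.Finite ∧
      (∀ a, f (MvPowerSeries.C a) = F a) ∧ ringKrullDim B = s := by
  obtain ⟨s, x, N, hx, hN, hd⟩ := exists_sop (R := B) ⊥ bot_le
  haveI : IsLocalHom F := ⟨fun a ha => IsUnit.mk0 a fun h => not_isUnit_zero (by rwa [h, map_zero] at ha)⟩
  have h0 : maximalIdeal K = ⊥ := maximalIdeal_eq_bot
  haveI : IsAdicComplete (maximalIdeal K) K := h0 ▸ inferInstance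
  have hd' : ringKrullDim B = s := by
    rw [hd]; exact (ringKrullDim_eq_of_ringEquiv (RingEquiv.quotientBot B)).symm
  obtain ⟨f, h1, h2, h3⟩ := exists_normalisation' F hres N x hx (hN.trans (sup_le le_sup_left bot_le))
    (by rw [h0, Submodule.spanFinrank_bot, zero_add, hd'])
  exact ⟨s, f, h1, h2, h3, hd'⟩

end Groth.L06.Nagata
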