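import Groth.Agent.L06.NagataJacobi

/-! Spreading local generators of an ideal. -/

set_option autoImplicit false
universe u

namespace Groth.L06.Nagata

variable {A : Type u} [CommRing A] (q : Ideal A)

theorem exists_uniform_denominator [IsNoetherianRing A] (𝔭 : Ideal A) [𝔭.IsPrime] {m : ℕ} (f : Fin m → A)
    (hgen : q.map (algebraMap A (Localization.AtPrime 𝔭)) =
      Ideal.span (Set.range fun i => algebraMap A (Localization.AtPrime 𝔭) (f i))) :
    ∃ s, s ∉ 𝔭 ∧ ∀ x ∈ q, s * x ∈ Ideal.span (Set.range f) := by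
  classical
  obtain ⟨G, hG⟩ := (IsNoetherian.noetherian q : q.FG)
  choose t ht a ha using fun x : G => exists_comb f hgen (hG ▸ Ideal.subset_span x.2 : (x : A) ∈ q)
  refine ⟨∏ x, t x, fun h => ?_, fun y hy => ?_⟩
  · obtain ⟨x, -, hx⟩ := (Ideal.IsPrime.prod_mem_iff (p := 𝔭)).mp h
    exact ht x hx
  · rw [← hG] at hy
    induction hy using Submodule.span_induction with
    | mem x hx =>
      rw [← Finset.prod_erase_mul _ _ (Finset.mem_univ (⟨x, hx⟩ : G)), mul_assoc, ha ⟨x, hx⟩]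
      exact Ideal.mul_mem_left _ _ (Ideal.sum_mem _ fun j _ => Ideal.mul_mem_left _ _ (Ideal.subset_span ⟨j, rfl⟩))
    | zero => rw [mul_zero]; exact zero_mem _
    | add x y _ _ hx hy => rw [mul_add]; exact add_mem hx hy
    | smul c x _ hx => rw [smul_eq_mul, mul_left_comm]; exact Ideal.mul_mem_left _ _ hx

theorem map_eq_span_of_denominator (𝔯 : Ideal A) [𝔯.IsPrime] {m : ℕ} (f : Fin m → A) (hf : ∀ i, f i ∈ q) {s : A}
    (hs : s ∉ 𝔯) (hsq : ∀ x ∈ q, s * x ∈ Ideal.span (Set.range f)) :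
    q.map (algebraMap A (Localization.AtPrime 𝔯)) =
      Ideal.span (Set.range fun i => algebraMap A (Localization.AtPrime 𝔯) (f i)) := by
  refine le_antisymm (Ideal.map_le_iff_le_comap.mpr fun x hx => ?_) (Ideal.span_le.mpr ?_)
  · have h := Ideal.mem_map_of_mem (algebraMap A (Localization.AtPrime 𝔯)) (hsq x hx)
    rw [Ideal.map_span, ← Set.range_comp, map_mul] at h
    show algebraMap A (Localization.AtPrime 𝔯) x ∈ Ideal.span _
    exact (Ideal.unit_mul_mem_iff_mem _ (IsLocalization.map_units _ (⟨s, hs⟩ : 𝔯.primeCompl))).mp h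
  · rintro _ ⟨i, rfl⟩
    exact Ideal.mem_map_of_mem _ (hf i)

end Groth.L06.Nagata
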