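import Groth.Agent.L06.NagataJacobi
import Groth.Agent.L06.NagataNorm
import Groth.Agent.L04.RegularPd
import Groth.Agent.L06.FormSmooth
import Groth.Agent.S5784
import Mathlib.RingTheory.MvPowerSeries.Derivative
import Mathlib.RingTheory.Derivation.Basic
import Mathlib.RingTheory.IntegralClosure.IsIntegralClosure.Basic

/-! Derivations of a power series ring at a prime with separable normalization. -/

set_option autoImplicit false
set_option maxSynthPendingDepth 3
set_option linter.style.haveILetI false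
universe u

open IsLocalRing

namespace Groth.L06.Nagata

open MvPowerSeries

variable {K : Type u} [Field K] {r : ℕ}


/-- A derivation killing the constants and the variables vanishes. -/
theorem eq_zero_of_kills_vars {s : ℕ} {B : Type u} [CommRing B] [IsLocalRing B] [IsNoetherianRing B]
    (f : MvPowerSeries (Fin s) K →+* B) (hX : ∀ j, f (X j) ∈ maximalIdeal B)
    (ψ : MvPowerSeries (Fin s) K →+ B) (hmul : ∀ a b, ψ (a * b) = f a * ψ b + f b * ψ a)
    (hC : ∀ c, ψ (C c) = 0) (hψ : ∀ j, ψ (X j) = 0) : ψ = 0 := by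
  have key : ∀ (N : ℕ) t, ψ t ∈ maximalIdeal B ^ N := by
    intro N
    induction N with
    | zero => intro t; simp
    | succ N ih =>
      intro t
      have hv : t - C (constantCoeff t) ∈ Groth.L01.PowSerReg.varIdeal K s := by
        have := Groth.L01.PowSerReg.mem_pow_of_order 1 (t - C (constantCoeff t))
          (by exact_mod_cast MvPowerSeries.one_le_order_iff_constCoeff_eq_zero.mpr (by simp))
        rwa [pow_one] at this
      have hall : ∀ u ∈ Groth.L01.PowSerReg.varIdeal K s, ψ u ∈ maximalIdeal B ^ (N + 1) := by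
        intro u hu
        obtain ⟨c, hc⟩ := Ideal.mem_span_range_iff_exists_fun.mp hu
        rw [← hc, map_sum]
        refine Ideal.sum_mem _ fun j _ => ?_
        rw [hmul, hψ, mul_zero, zero_add, pow_succ']
        exact Ideal.mul_mem_mul (hX j) (ih _)
      have e : ψ t = ψ (t - C (constantCoeff t)) := by rw [map_sub, hC, sub_zero]
      rw [e]
      exact hall _ hv
  refine AddMonoidHom.ext fun t => ?_
  have : ψ t ∈ ⨅ N, maximalIdeal B ^ N := Submodule.mem_iInf _ |>.mpr fun N => key N t
  rwa [Ideal.iInf_pow_eq_bot_of_isLocalRing _ (maximalIdeal.isMaximal B).ne_top, Submodule.mem_bot] at this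

theorem mem_maximalIdeal_X {s : ℕ} (j : Fin s) : (X j : MvPowerSeries (Fin s) K) ∈ maximalIdeal _ := by
  rw [Groth.L01.PowSerReg.maximalIdeal_eq]
  exact Ideal.subset_span ⟨j, rfl⟩

/-- `dim` of the local ring plus the dimension of the normalization is at most `r`. -/
theorem dim_add_le (𝔭 : Ideal (MvPowerSeries (Fin r) K)) [𝔭.IsPrime] {s : ℕ}
    (f : MvPowerSeries (Fin s) K →+* MvPowerSeries (Fin r) K ⧸ 𝔭) (hinj : Function.Injective f) (hfin : f.Finite)
    {h : ℕ} (hd : ringKrullDim (Localization.AtPrime 𝔭) = h) : h + s ≤ r := by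
  letI := f.toAlgebra
  haveI : Module.Finite (MvPowerSeries (Fin s) K) (MvPowerSeries (Fin r) K ⧸ 𝔭) := hfin
  haveI : IsRegularLocalRing (MvPowerSeries (Fin r) K) := Groth.L01.PowSerReg.isRegularLocalRing K r
  have h1 := Groth.L04.height_add_ringKrullDim_quotient 𝔭
  have h2 : ringKrullDim (MvPowerSeries (Fin r) K ⧸ 𝔭) = s :=
    (Groth.L22.AffineDim.ringKrullDim_eq_of_isIntegral (R := MvPowerSeries (Fin s) K) hinj).trans
      (Groth.L01.PowSerReg.ringKrullDim_eq K s)
  have h3 : (𝔭.height : WithBot ℕ∞) = h := by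
    rw [← hd, IsLocalization.AtPrime.ringKrullDim_eq_height 𝔭 (Localization.AtPrime 𝔭)]
  rw [h2, h3, Groth.L01.PowSerReg.ringKrullDim_eq] at h1
  have : s + h = r := by exact_mod_cast h1
  omega

/-- The derivations of the variables surject onto the cotangent dual at a prime with separable normalization. -/
theorem surj_separable (𝔭 : Ideal (MvPowerSeries (Fin r) K)) [𝔭.IsPrime] {L : Type u} [Field L]
    [Algebra (MvPowerSeries (Fin r) K) L] (hL : IsResidue 𝔭 L) {s : ℕ}
    (f : MvPowerSeries (Fin s) K →+* MvPowerSeries (Fin r) K ⧸ 𝔭) (hinj : Function.Injective f) (hfin : f.Finite)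
    (hfC : ∀ c, f (C c) = Ideal.Quotient.mk 𝔭 (C c))
    (hsep : ∀ b : MvPowerSeries (Fin r) K ⧸ 𝔭, ∃ P : Polynomial (MvPowerSeries (Fin s) K),
      P.eval₂ f b = 0 ∧ P.derivative.eval₂ f b ≠ 0)
    {h : ℕ} (g : Fin h → MvPowerSeries (Fin r) K) (hg : ∀ j, g j ∈ 𝔭)
    (hgen : maximalIdeal (Localization.AtPrime 𝔭) =
      Ideal.span (Set.range fun j => algebraMap _ (Localization.AtPrime 𝔭) (g j)))
    (hd : ringKrullDim (Localization.AtPrime 𝔭) = h) :
    ∀ t : Fin h → L, ∃ v : Fin r → L, ∀ j,
      ∑ i, v i * algebraMap (MvPowerSeries (Fin r) K) L (pderiv K i (g j)) = t j := by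
  classical
  let A := MvPowerSeries (Fin r) K
  let δ : Fin r → A →+ L := fun i => resDer L (pderiv K i)
  have hδ : ∀ i a, δ i a = algebraMap A L (pderiv K i a) := fun i a => rfl
  let Φ : (Fin r → L) →ₗ[L] (Fin h → L) :=
    { toFun := fun v j => ∑ i, v i * δ i (g j)
      map_add' := fun v w => funext fun j => by simp [add_mul, Finset.sum_add_distrib]
      map_smul' := fun c v => funext fun j => by simp [Finset.mul_sum, mul_assoc] }
  choose X' hX' using fun j : Fin s => Ideal.Quotient.mk_surjective (f (X j))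
  let Ψ : LinearMap.ker Φ →ₗ[L] (Fin s → L) :=
    { toFun := fun v j => ∑ i, v.1 i * δ i (X' j)
      map_add' := fun v w => funext fun j => by simp [add_mul, Finset.sum_add_distrib]
      map_smul' := fun c v => funext fun j => by simp [Finset.mul_sum, mul_assoc] }
  have hΨ : Function.Injective Ψ := by
    rw [injective_iff_map_eq_zero]
    rintro ⟨v, hv⟩ h0
    refine Subtype.ext ?_
    show v = 0
    have hvg : ∀ j, ∑ i, v i * δ i (g j) = 0 := fun j => congrFun (LinearMap.mem_ker.mp hv) j
    have hvX : ∀ j, ∑ i, v i * δ i (X' j) = 0 := fun j => congrFun h0 j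
    choose a N hN ha using fun i => hL.surj (v i)
    let n : A := ∏ i, N i
    have hn : n ∉ 𝔭 := fun hh => by
      obtain ⟨i, -, hi⟩ := (Ideal.IsPrime.prod_mem_iff (p := 𝔭)).mp hh
      exact hN i hi
    let a' : Fin r → A := fun i => a i * ∏ l ∈ Finset.univ.erase i, N l
    have ha' : ∀ i, algebraMap A L (a' i) = algebraMap A L n * v i := fun i => by
      show algebraMap A L (a i * _) = algebraMap A L (∏ i, N i) * v i
      rw [← Finset.prod_erase_mul _ _ (Finset.mem_univ i), map_mul, map_mul, ← ha i]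
      ring
    let dA : Derivation K A A := ∑ i, a' i • pderiv K i
    have hdA : ∀ x, algebraMap A L (dA x) = algebraMap A L n * ∑ i, v i * δ i x := fun x => by
      simp only [dA]
      rw [← Derivation.coeFnAddMonoidHom_apply, map_sum, Finset.sum_apply, map_sum, Finset.mul_sum]
      refine Finset.sum_congr rfl fun i _ => ?_
      show algebraMap A L (a' i * pderiv K i x) = _
      rw [map_mul, ha', hδ, mul_assoc]
    have hkill : ∀ x ∈ 𝔭, dA x ∈ 𝔭 := fun x hx => by
      rw [← hL.eq_zero_iff, hdA]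
      obtain ⟨σ, hσ, c, hc⟩ := exists_comb g ((Localization.AtPrime.map_eq_maximalIdeal (I := 𝔭)).trans hgen) hx
      have e : algebraMap A L σ * ∑ i, v i * δ i x = ∑ j, algebraMap A L (c j) * ∑ i, v i * δ i (g j) := by
        rw [Finset.mul_sum]
        simp only [Finset.mul_sum]
        rw [Finset.sum_comm]
        refine Finset.sum_congr rfl fun i _ => ?_
        rw [← mul_assoc, mul_comm (algebraMap A L σ), mul_assoc, der_comb hL (isDer_resDer L (pderiv K i) : IsDer (δ i)) le_rfl g hg hx hc, Finset.mul_sum]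
        exact Finset.sum_congr rfl fun j _ => by ring
      simp only [hvg, mul_zero, Finset.sum_const_zero] at e
      rw [(mul_eq_zero.mp e).resolve_left (hL.ne_zero hσ), mul_zero]
    letI : Algebra (MvPowerSeries (Fin s) K) (A ⧸ 𝔭) := f.toAlgebra
    haveI : Module.Finite (MvPowerSeries (Fin s) K) (A ⧸ 𝔭) := hfin
    haveI : Nontrivial (A ⧸ 𝔭) := Ideal.Quotient.nontrivial_iff.mpr (Ideal.IsPrime.ne_top ‹_›)
    haveI : IsLocalRing (A ⧸ 𝔭) := IsLocalRing.of_surjective' _ Ideal.Quotient.mk_surjective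
    haveI hloc : IsLocalHom f := hfin.to_isIntegral.isLocalHom hinj
    let dq : (A ⧸ 𝔭) →+ (A ⧸ 𝔭) := QuotientAddGroup.map _ _ dA.toLinearMap.toAddMonoidHom fun x hx => hkill x hx
    have hdq : ∀ x, dq (Ideal.Quotient.mk 𝔭 x) = Ideal.Quotient.mk 𝔭 (dA x) := fun x => rfl
    have hdmul : ∀ x y, dq (x * y) = x * dq y + y * dq x := fun x y => by
      obtain ⟨x, rfl⟩ := Ideal.Quotient.mk_surjective x
      obtain ⟨y, rfl⟩ := Ideal.Quotient.mk_surjective y
      rw [← map_mul, hdq, hdq, hdq, Derivation.leibniz, map_add, smul_eq_mul, smul_eq_mul, map_mul, map_mul]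
    have hzero : dq.comp f.toAddMonoidHom = 0 := by
      refine eq_zero_of_kills_vars f (fun j => ?_) _ (fun x y => ?_) (fun c => ?_) (fun j => ?_)
      · exact map_nonunit f _ (mem_maximalIdeal_X j)
      · show dq (f (x * y)) = _
        rw [map_mul, hdmul]; rfl
      · show dq (f (C c)) = 0
        rw [hfC, hdq, show (C c : A) = algebraMap K A c from rfl, Derivation.map_algebraMap, map_zero]
      · show dq (f (X j)) = 0
        rw [← hX', hdq, Ideal.Quotient.eq_zero_iff_mem, ← hL.eq_zero_iff, hdA, hvX, mul_zero]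
    let dB : Derivation (MvPowerSeries (Fin s) K) (A ⧸ 𝔭) (A ⧸ 𝔭) := Derivation.mk'
      { toFun := dq
        map_add' := dq.map_add
        map_smul' := fun t x => by
          show dq (f t * x) = f t * dq x
          rw [hdmul, show dq (f t) = 0 from DFunLike.congr_fun hzero t, mul_zero, add_zero] } hdmul
    have hall : ∀ b, dB b = 0 := fun b => by
      obtain ⟨P, hP, hP'⟩ := hsep b
      have h1 := dB.map_aeval P b
      rw [Polynomial.aeval_def, Polynomial.aeval_def, smul_eq_mul,
        show algebraMap (MvPowerSeries (Fin s) K) (A ⧸ 𝔭) = f from rfl, hP, map_zero] at h1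
      exact (mul_eq_zero.mp h1.symm).resolve_left hP'
    funext i
    have h2 : algebraMap A L (dA (X i)) = 0 :=
      (hL.eq_zero_iff _).mpr (Ideal.Quotient.eq_zero_iff_mem.mp ((hdq (X i)).symm.trans (hall (Ideal.Quotient.mk 𝔭 (X i)) :)))
    have h3 : ∀ l, δ l (X i) = if i = l then 1 else 0 := fun l => by
      rw [hδ]
      by_cases h : i = l
      · subst h; rw [if_pos rfl, pderiv_X_self, map_one]
      · rw [if_neg h, pderiv_X_of_ne h, map_zero]
    rw [hdA] at h2
    simp only [h3, mul_ite, mul_one, mul_zero, Finset.sum_ite_eq, Finset.mem_univ, if_true] at h2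
    exact (mul_eq_zero.mp h2).resolve_left (hL.ne_zero hn)
  refine surj_of_finrank_ker δ g (LinearMap.ker Φ) (fun v hv => LinearMap.mem_ker.mpr (funext hv)) ?_
  have hK := LinearMap.finrank_le_finrank_of_injective hΨ
  rw [Module.finrank_fin_fun] at hK
  rw [Fintype.card_fin]
  have := dim_add_le 𝔭 f hinj hfin hd
  omega

theorem isResidue_residueField {A : Type u} [CommRing A] (𝔭 : Ideal A) [𝔭.IsPrime] :
    IsResidue 𝔭 𝔭.ResidueField := by
  refine ⟨fun a => Ideal.algebraMap_residueField_eq_zero, fun z => ?_⟩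
  obtain ⟨a, s, hs, h⟩ := IsFractionRing.div_surjective (A := A ⧸ 𝔭) z
  obtain ⟨a, rfl⟩ := Ideal.Quotient.mk_surjective a
  obtain ⟨s, rfl⟩ := Ideal.Quotient.mk_surjective s
  have hs' : s ∉ 𝔭 := fun h' => nonZeroDivisors.ne_zero hs (Ideal.Quotient.eq_zero_iff_mem.mpr h')
  refine ⟨a, s, hs', ?_⟩
  rw [← h]
  exact div_mul_cancel₀ _ (fun h' => hs' (Ideal.algebraMap_residueField_eq_zero.mp h'))

theorem adicSmooth_powerSeries :
    CAlgX.IsAdicFormallySmooth K (MvPowerSeries (Fin r) K) (maximalIdeal (MvPowerSeries (Fin r) K)) := by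
  haveI : IsRegularLocalRing (MvPowerSeries (Fin r) K) := Groth.L01.PowSerReg.isRegularLocalRing K r
  haveI : Algebra.FormallySmooth K (ResidueField (MvPowerSeries (Fin r) K)) :=
    Algebra.FormallySmooth.of_equiv (AlgEquiv.ofBijective
      (Algebra.ofId K (ResidueField (MvPowerSeries (Fin r) K))) ⟨(Algebra.ofId K _).toRingHom.injective, fun z => by
        obtain ⟨t, rfl⟩ := residue_surjective z
        refine ⟨constantCoeff t, ?_⟩
        show residue _ (C (constantCoeff t)) = residue _ t
        rw [← sub_eq_zero, ← map_sub, residue_eq_zero_iff]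
        intro hu
        have := MvPowerSeries.isUnit_iff_constantCoeff.mp hu
        simp at this⟩)
  exact Groth.L06.FormSmooth.adicSmooth_of_regular

end Groth.L06.Nagata
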