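import Groth.Agent.L12.IntPairs
import Mathlib.CategoryTheory.Limits.Types.Pullbacks
import Mathlib.Algebra.Category.Ring.Limits
import Mathlib.Algebra.Polynomial.Lifts
import Mathlib.CategoryTheory.Limits.Shapes.Pullback.IsPullback.Basic
import Mathlib.RingTheory.Adjoin.Basic

/-!
A pair `B → D ← D'` of algebras with `D' → D` surjective with nil kernel, and its fibre product,
as a filtered colimit of finitely presented such pairs.
-/

set_option autoImplicit false
set_option linter.style.haveILetI false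

universe u

open CategoryTheory CategoryTheory.Limits MvPolynomial
open Groth.L12.IntPairs (ev inc inc_refl inc_inc ev_inc uhom uhom_right uhom_ext isColimit_of_surj_sep)

namespace Groth.L06.NilPair

variable {R B D D' : Type u} [CommRing R] [CommRing B] [CommRing D] [CommRing D'] [Algebra R B]
  [Algebra R D] [Algebra R D']

/-- The map of free algebras lying over `B → D ← D'`. -/
noncomputable def mapST (f : B →ₐ[R] D) (σ : D → D') {S : Finset B} {T : Finset D'}
    (h : ∀ s ∈ S, σ (f s) ∈ T) : MvPolynomial S R →ₐ[R] MvPolynomial T R :=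
  rename (fun s => ⟨σ (f s.1), h s.1 s.2⟩)

lemma ev_mapST {f : B →ₐ[R] D} {i : D' →ₐ[R] D} {σ : D → D'} (hσ : ∀ d, i (σ d) = d)
    {S : Finset B} {T : Finset D'} (h : ∀ s ∈ S, σ (f s) ∈ T) (p : MvPolynomial S R) :
    i (ev T (mapST f σ h p)) = f (ev S p) := by
  have key : (i.comp (ev T)).comp (mapST f σ h) = f.comp (ev S) :=
    algHom_ext fun s => by simp [ev, mapST, hσ]
  exact DFunLike.congr_fun key p

lemma inc_mapST {f : B →ₐ[R] D} {σ : D → D'} {S S' : Finset B} {T T' : Finset D'}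
    (h : ∀ s ∈ S, σ (f s) ∈ T) (h' : ∀ s ∈ S', σ (f s) ∈ T') (hS : S ⊆ S') (hT : T ⊆ T')
    (p : MvPolynomial S R) : inc hT (mapST f σ h p) = mapST f σ h' (inc hS p) := by
  simp only [inc, mapST, rename_rename]; rfl

lemma surjective_mk_comp {S T : Type u} (φ : MvPolynomial S R →ₐ[R] MvPolynomial T R)
    (J : Ideal (MvPolynomial T R)) (h : ∀ t : T, ∃ p, X t - φ p ∈ J) :
    Function.Surjective ((Ideal.Quotient.mkₐ R J).comp φ) := by
  intro x
  obtain ⟨q, rfl⟩ := Ideal.Quotient.mkₐ_surjective R J x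
  induction q using MvPolynomial.induction_on with
  | C a => exact ⟨C a, by simp [← MvPolynomial.algebraMap_eq]⟩
  | add p q hp hq =>
    obtain ⟨a, ha⟩ := hp
    obtain ⟨b, hb⟩ := hq
    exact ⟨a + b, by rw [map_add, ha, hb, map_add]⟩
  | mul_X p t hp =>
    obtain ⟨a, ha⟩ := hp
    obtain ⟨b, hb⟩ := h t
    refine ⟨a * b, ?_⟩
    rw [map_mul, ha, map_mul]
    congr 1
    exact ((Ideal.Quotient.eq (I := J)).2 hb).symm

variable (f : B →ₐ[R] D) (i : D' →ₐ[R] D) (σ : D → D')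

/-- Index of a finitely presented approximation of `B → D ← D'`. -/
structure Idx where
  S : Finset B
  T : Finset D'
  hST : ∀ s ∈ S, σ (f s) ∈ T
  IB : Ideal (MvPolynomial S R)
  IT : Ideal (MvPolynomial T R)
  ID : Ideal (MvPolynomial T R)
  hIB : IB.FG
  hIT : IT.FG
  hID : ID.FG
  hIBev : IB ≤ RingHom.ker (ev S)
  hITev : IT ≤ RingHom.ker (ev T)
  hIDev : ID ≤ RingHom.ker (i.comp (ev T))
  hTD : IT ≤ ID
  hnil : ID ≤ IT.radical
  hBD : IB ≤ ID.comap (mapST f σ hST)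
  hsurj : Function.Surjective f → ∀ t : T, ∃ p, X t - mapST f σ hST p ∈ ID
  hnilB : Function.Surjective f → (∀ x ∈ RingHom.ker f.toRingHom, IsNilpotent x) →
    ID.comap (mapST f σ hST) ≤ IB.radical
  hint : f.toRingHom.IsIntegral → ∀ t : T, ∃ P : Polynomial (MvPolynomial S R),
    P.Monic ∧ P.eval₂ (mapST f σ hST).toRingHom (X t) ∈ ID

variable {f i σ}

namespace Idx

instance : Preorder (Idx f i σ) where
  le j k := ∃ (hS : j.S ⊆ k.S) (hT : j.T ⊆ k.T), j.IB ≤ k.IB.comap (inc hS) ∧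
    j.IT ≤ k.IT.comap (inc hT) ∧ j.ID ≤ k.ID.comap (inc hT)
  le_refl j := ⟨subset_refl _, subset_refl _,
    fun p hp => by rw [Ideal.mem_comap, inc_refl]; exact hp,
    fun p hp => by rw [Ideal.mem_comap, inc_refl]; exact hp,
    fun p hp => by rw [Ideal.mem_comap, inc_refl]; exact hp⟩
  le_trans j k l := fun ⟨hS, hT, h1, h2, h3⟩ ⟨hS', hT', h1', h2', h3'⟩ =>
    ⟨hS.trans hS', hT.trans hT',
      fun p hp => by rw [Ideal.mem_comap, ← inc_inc hS hS']; exact h1' (h1 hp),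
      fun p hp => by rw [Ideal.mem_comap, ← inc_inc hT hT']; exact h2' (h2 hp),
      fun p hp => by rw [Ideal.mem_comap, ← inc_inc hT hT']; exact h3' (h3 hp)⟩

/-- The approximating algebra of `B`. -/
abbrev RB (j : Idx f i σ) : Type u := MvPolynomial j.S R ⧸ j.IB

/-- The approximating algebra of `D'`. -/
abbrev RT (j : Idx f i σ) : Type u := MvPolynomial j.T R ⧸ j.IT

/-- The approximating algebra of `D`. -/
abbrev RD (j : Idx f i σ) : Type u := MvPolynomial j.T R ⧸ j.ID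

end Idx

variable (hσ : ∀ d, i (σ d) = d) (hnil : ∀ x ∈ RingHom.ker i.toRingHom, IsNilpotent x)

include hσ hnil in
open Classical in
/-- Every finite amount of data is contained in an index. -/
lemma exists_idx (S₀ : Finset B) (T₀ : Finset D') (GB : Set (MvPolynomial S₀ R))
    (GT GD : Set (MvPolynomial T₀ R)) (hGB : GB.Finite) (hGT : GT.Finite) (hGD : GD.Finite)
    (hGBev : ∀ x ∈ GB, ev S₀ x = 0) (hGTev : ∀ x ∈ GT, ev T₀ x = 0)
    (hGDev : ∀ x ∈ GD, i (ev T₀ x) = 0) :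
    ∃ (j : Idx f i σ) (hS : S₀ ⊆ j.S) (hT : T₀ ⊆ j.T), (∀ x ∈ GB, inc hS x ∈ j.IB) ∧
      (∀ x ∈ GT, inc hT x ∈ j.IT) ∧ ∀ x ∈ GD, inc hT x ∈ j.ID := by
  let Pt : D' → Polynomial B := fun t =>
    if h : ∃ P : Polynomial B, P.Monic ∧ P.eval₂ f.toRingHom (i t) = 0 then h.choose else 0
  let S : Finset B := S₀ ∪ (T₀.image (fun t => Function.invFun f (i t)) ∪
    T₀.biUnion (fun t => (Pt t).support.image (Pt t).coeff))
  let T : Finset D' := T₀ ∪ S.image (fun s => σ (f s))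
  have hS : S₀ ⊆ S := Finset.subset_union_left
  have hT : T₀ ⊆ T := Finset.subset_union_left
  have hST : ∀ s ∈ S, σ (f s) ∈ T := fun s hs =>
    Finset.mem_union_right _ (Finset.mem_image_of_mem _ hs)
  let φ := mapST f σ hST
  have hφ : ∀ p, i (ev T (φ p)) = f (ev S p) := ev_mapST hσ hST
  -- surjectivity and integrality relations
  let rs : T → MvPolynomial T R := fun t =>
    if h : ∃ p, i (ev T (X t - φ p)) = 0 then X t - φ h.choose else 0
  let ri : T → MvPolynomial T R := fun t =>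
    if h : ∃ P : Polynomial (MvPolynomial S R), P.Monic ∧ i (ev T (P.eval₂ φ.toRingHom (X t))) = 0
      then h.choose.eval₂ φ.toRingHom (X t) else 0
  let ID : Ideal (MvPolynomial T R) := Ideal.span
    (inc hT '' GT ∪ inc hT '' GD ∪ φ '' (inc hS '' GB) ∪ Set.range rs ∪ Set.range ri)
  have hIDfg : ID.FG := Submodule.fg_span (((((hGT.image _).union (hGD.image _)).union
    ((hGB.image _).image _)).union (Set.finite_range _)).union (Set.finite_range _))
  have hIDev : ID ≤ RingHom.ker (i.comp (ev T)) := by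
    rw [Ideal.span_le]
    rintro x ((((⟨y, hy, rfl⟩ | ⟨y, hy, rfl⟩) | ⟨_, ⟨y, hy, rfl⟩, rfl⟩) | ⟨t, rfl⟩) | ⟨t, rfl⟩)
    · show i (ev T (inc hT y)) = 0
      rw [ev_inc, hGTev y hy, map_zero]
    · show i (ev T (inc hT y)) = 0
      rw [ev_inc, hGDev y hy]
    · show i (ev T (φ (inc hS y))) = 0
      rw [hφ, ev_inc, hGBev y hy, map_zero]
    · show i (ev T (rs t)) = 0
      simp only [rs]
      split_ifs with h
      · exact h.choose_spec
      · rw [map_zero, map_zero]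
    · show i (ev T (ri t)) = 0
      simp only [ri]
      split_ifs with h
      · exact h.choose_spec.2
      · rw [map_zero, map_zero]
  have hsurj : Function.Surjective f → ∀ t : T, ∃ p, X t - φ p ∈ ID := by
    intro hs t
    have hex : ∃ p, i (ev T (X t - φ p)) = 0 := by
      obtain ⟨s, hs', hfs⟩ : ∃ s ∈ S, f s = i t := by
        rcases Finset.mem_union.1 t.2 with h | h
        · exact ⟨_, Finset.mem_union_right _ (Finset.mem_union_left _ (Finset.mem_image_of_mem _ h)),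
            Function.invFun_eq (hs _)⟩
        · obtain ⟨s, hs', hst⟩ := Finset.mem_image.1 h
          exact ⟨s, hs', by rw [← hst, hσ]⟩
      refine ⟨X ⟨s, hs'⟩, ?_⟩
      rw [map_sub, map_sub, hφ]
      simp [ev, hfs]
    refine ⟨hex.choose, Ideal.subset_span (Or.inl (Or.inr ⟨t, ?_⟩))⟩
    simp only [rs]
    rw [dif_pos hex]
  have hint : f.toRingHom.IsIntegral → ∀ t : T, ∃ P : Polynomial (MvPolynomial S R),
      P.Monic ∧ P.eval₂ φ.toRingHom (X t) ∈ ID := by
    intro hf t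
    have hev : ∀ P : Polynomial (MvPolynomial S R), i (ev T (P.eval₂ φ.toRingHom (X t))) =
        (P.map (ev S).toRingHom).eval₂ f.toRingHom (i t) := by
      intro P
      rw [Polynomial.eval₂_map]
      have h1 := Polynomial.hom_eval₂ P φ.toRingHom (i.comp (ev T)).toRingHom (X t)
      refine h1.trans ?_
      congr 1
      · exact RingHom.ext fun p => hφ p
      · simp [ev]
    have hex : ∃ P : Polynomial (MvPolynomial S R),
        P.Monic ∧ i (ev T (P.eval₂ φ.toRingHom (X t))) = 0 := by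
      rcases Finset.mem_union.1 t.2 with h | h
      · have hPt : ∃ P : Polynomial B, P.Monic ∧ P.eval₂ f.toRingHom (i t) = 0 := hf (i t)
        have hm : (Pt t).Monic ∧ (Pt t).eval₂ f.toRingHom (i t) = 0 := by
          simp only [Pt]; rw [dif_pos hPt]; exact hPt.choose_spec
        rcases subsingleton_or_nontrivial B with hB | hB
        · refine ⟨1, Polynomial.monic_one, ?_⟩
          rw [hev, Polynomial.map_one, Subsingleton.elim (1 : Polynomial B) 0, Polynomial.eval₂_zero]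
        have hl : Pt t ∈ Polynomial.lifts (ev (A := R) S).toRingHom := by
          rw [Polynomial.lifts_iff_coeff_lifts]
          intro n
          by_cases hn : (Pt t).coeff n = 0
          · exact ⟨0, by rw [map_zero, hn]⟩
          · have hmem : (Pt t).coeff n ∈ S := Finset.mem_union_right _ (Finset.mem_union_right _
              (Finset.mem_biUnion.2 ⟨t, h, Finset.mem_image_of_mem _ (Polynomial.mem_support_iff.2 hn)⟩))
            exact ⟨X ⟨_, hmem⟩, aeval_X _ _⟩
        obtain ⟨P, hP, -, hPm⟩ := Polynomial.lifts_and_degree_eq_and_monic hl hm.1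
        exact ⟨P, hPm, by rw [hev, hP]; exact hm.2⟩
      · obtain ⟨s, hs', hst⟩ := Finset.mem_image.1 h
        refine ⟨Polynomial.X - Polynomial.C (X ⟨s, hs'⟩), Polynomial.monic_X_sub_C _, ?_⟩
        rw [hev]
        simp [ev, ← hst, hσ]
    refine ⟨hex.choose, hex.choose_spec.1, Ideal.subset_span (Or.inr ⟨t, ?_⟩)⟩
    simp only [ri]
    rw [dif_pos hex]
  -- nilpotency relations over `D'`
  obtain ⟨Q, hQ, hQID⟩ := Submodule.fg_def.1 hIDfg
  have hQn : ∀ x ∈ Q, ∃ n : ℕ, ev T x ^ (n + 1) = 0 := fun x hx => by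
    have h0 : x ∈ ID := by rw [← hQID]; exact Submodule.subset_span hx
    obtain ⟨n, hn⟩ := hnil (ev T x) (hIDev h0)
    exact ⟨n, by rw [pow_succ, hn, zero_mul]⟩
  choose! nQ hnQ using hQn
  let IT : Ideal (MvPolynomial T R) :=
    Ideal.span (inc hT '' GT ∪ (fun x => x ^ (nQ x + 1)) '' Q)
  -- nilpotency relations over `B`
  have hnilB : ∃ G : Set (MvPolynomial S R), G.Finite ∧ (∀ x ∈ G, ev S x = 0) ∧
      G ⊆ ID.comap φ ∧ (Function.Surjective f → (∀ x ∈ RingHom.ker f.toRingHom, IsNilpotent x) →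
        ID.comap φ ≤ (Ideal.span G).radical) := by
    by_cases hc : Function.Surjective f ∧ ∀ x ∈ RingHom.ker f.toRingHom, IsNilpotent x
    swap
    · exact ⟨∅, Set.finite_empty, by simp, by simp, fun h1 h2 => absurd ⟨h1, h2⟩ hc⟩
    obtain ⟨hs, hn⟩ := hc
    haveI : Algebra.FinitePresentation R (MvPolynomial T R ⧸ ID) :=
      Algebra.FinitePresentation.quotient hIDfg
    have hker : (ID.comap φ).FG := by
      have h := Algebra.FinitePresentation.ker_fG_of_surjective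
        ((Ideal.Quotient.mkₐ R ID).comp φ) (surjective_mk_comp φ ID (hsurj hs))
      have e : RingHom.ker ((Ideal.Quotient.mkₐ R ID).comp φ) = ID.comap φ := by
        ext x
        exact Ideal.Quotient.eq_zero_iff_mem
      rwa [← e]
    obtain ⟨G, hG, hGK⟩ := Submodule.fg_def.1 hker
    have hGn : ∀ x ∈ G, ∃ n : ℕ, ev S x ^ (n + 1) = 0 := fun x hx => by
      have h0 : x ∈ ID.comap φ := by rw [← hGK]; exact Submodule.subset_span hx
      have h1 : f (ev S x) = 0 := (hφ x).symm.trans (hIDev h0)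
      obtain ⟨n, hn'⟩ := hn (ev S x) h1
      exact ⟨n, by rw [pow_succ, hn', zero_mul]⟩
    choose! nG hnG using hGn
    refine ⟨(fun x => x ^ (nG x + 1)) '' G, hG.image _, ?_, ?_, fun _ _ => ?_⟩
    · rintro _ ⟨x, hx, rfl⟩
      rw [map_pow]; exact hnG x hx
    · rintro _ ⟨x, hx, rfl⟩
      exact Ideal.pow_mem_of_mem _ (hGK ▸ Submodule.subset_span hx) _ (Nat.succ_pos _)
    · rw [← hGK]
      exact Ideal.span_le.2 fun x hx => ⟨nG x + 1, Ideal.subset_span ⟨x, hx, rfl⟩⟩
  obtain ⟨G, hG, hGev, hGID, hGrad⟩ := hnilB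
  refine ⟨⟨S, T, hST, Ideal.span (inc hS '' GB ∪ G), IT, ID,
    Submodule.fg_span ((hGB.image _).union hG), Submodule.fg_span ((hGT.image _).union (hQ.image _)),
    hIDfg, ?_, ?_, hIDev, ?_, ?_, ?_, hsurj, ?_, hint⟩, hS, hT, ?_, ?_, ?_⟩
  · rw [Ideal.span_le]
    rintro x (⟨y, hy, rfl⟩ | hx)
    · show ev S (inc hS y) = 0
      rw [ev_inc]; exact hGBev y hy
    · exact hGev x hx
  · rw [Ideal.span_le]
    rintro x (⟨y, hy, rfl⟩ | ⟨y, hy, rfl⟩)
    · show ev T (inc hT y) = 0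
      rw [ev_inc]; exact hGTev y hy
    · show ev T (y ^ (nQ y + 1)) = 0
      rw [map_pow]; exact hnQ y hy
  · rw [Ideal.span_le]
    rintro x (⟨y, hy, rfl⟩ | ⟨y, hy, rfl⟩)
    · exact Ideal.subset_span (Or.inl (Or.inl (Or.inl (Or.inl ⟨y, hy, rfl⟩))))
    · exact Ideal.pow_mem_of_mem _ (hQID ▸ Submodule.subset_span hy) _ (Nat.succ_pos _)
  · conv_lhs => rw [← hQID]
    exact Ideal.span_le.2 fun x hx => ⟨nQ x + 1, Ideal.subset_span (Or.inr ⟨x, hx, rfl⟩)⟩
  · refine Ideal.span_le.2 (Set.union_subset (fun x hx => ?_) hGID)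
    exact Ideal.subset_span (Or.inl (Or.inl (Or.inr ⟨x, hx, rfl⟩)))
  · exact fun h1 h2 => (hGrad h1 h2).trans
      (Ideal.radical_mono (Ideal.span_mono Set.subset_union_right))
  · exact fun x hx => Ideal.subset_span (Or.inl ⟨x, hx, rfl⟩)
  · exact fun x hx => Ideal.subset_span (Or.inl ⟨x, hx, rfl⟩)
  · exact fun x hx => Ideal.subset_span (Or.inl (Or.inl (Or.inl (Or.inr ⟨x, hx, rfl⟩))))

include hσ hnil in
lemma nonempty_idx : Nonempty (Idx f i σ) :=
  ⟨(exists_idx hσ hnil ∅ ∅ ∅ ∅ ∅ Set.finite_empty Set.finite_empty Set.finite_empty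
    (by simp) (by simp) (by simp)).choose⟩

include hσ hnil in
open Classical in
lemma exists_upper (a b : Idx f i σ) : ∃ k, a ≤ k ∧ b ≤ k := by
  obtain ⟨A1, hA1, hA1'⟩ := Submodule.fg_def.1 a.hIB
  obtain ⟨A2, hA2, hA2'⟩ := Submodule.fg_def.1 a.hIT
  obtain ⟨A3, hA3, hA3'⟩ := Submodule.fg_def.1 a.hID
  obtain ⟨B1, hB1, hB1'⟩ := Submodule.fg_def.1 b.hIB
  obtain ⟨B2, hB2, hB2'⟩ := Submodule.fg_def.1 b.hIT
  obtain ⟨B3, hB3, hB3'⟩ := Submodule.fg_def.1 b.hID
  let h1 : a.S ⊆ a.S ∪ b.S := Finset.subset_union_left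
  let h2 : b.S ⊆ a.S ∪ b.S := Finset.subset_union_right
  let h3 : a.T ⊆ a.T ∪ b.T := Finset.subset_union_left
  let h4 : b.T ⊆ a.T ∪ b.T := Finset.subset_union_right
  obtain ⟨k, hS, hT, k1, k2, k3⟩ := exists_idx hσ hnil _ _ _ _ _ ((hA1.image (inc h1)).union (hB1.image (inc h2)))
    ((hA2.image (inc h3)).union (hB2.image (inc h4))) ((hA3.image (inc h3)).union (hB3.image (inc h4)))
    (by
      rintro x (⟨y, hy, rfl⟩ | ⟨y, hy, rfl⟩)
      · rw [ev_inc]; exact a.hIBev (hA1' ▸ Submodule.subset_span hy)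
      · rw [ev_inc]; exact b.hIBev (hB1' ▸ Submodule.subset_span hy))
    (by
      rintro x (⟨y, hy, rfl⟩ | ⟨y, hy, rfl⟩)
      · rw [ev_inc]; exact a.hITev (hA2' ▸ Submodule.subset_span hy)
      · rw [ev_inc]; exact b.hITev (hB2' ▸ Submodule.subset_span hy))
    (by
      rintro x (⟨y, hy, rfl⟩ | ⟨y, hy, rfl⟩)
      · rw [ev_inc]; exact a.hIDev (hA3' ▸ Submodule.subset_span hy)
      · rw [ev_inc]; exact b.hIDev (hB3' ▸ Submodule.subset_span hy))
  refine ⟨k, ⟨h1.trans hS, h3.trans hT, ?_, ?_, ?_⟩, ⟨h2.trans hS, h4.trans hT, ?_, ?_, ?_⟩⟩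
  · rw [← hA1']; refine Submodule.span_le.2 fun y hy => ?_
    rw [SetLike.mem_coe, Ideal.mem_comap, ← inc_inc h1 hS]; exact k1 _ (Or.inl ⟨y, hy, rfl⟩)
  · rw [← hA2']; refine Submodule.span_le.2 fun y hy => ?_
    rw [SetLike.mem_coe, Ideal.mem_comap, ← inc_inc h3 hT]; exact k2 _ (Or.inl ⟨y, hy, rfl⟩)
  · rw [← hA3']; refine Submodule.span_le.2 fun y hy => ?_
    rw [SetLike.mem_coe, Ideal.mem_comap, ← inc_inc h3 hT]; exact k3 _ (Or.inl ⟨y, hy, rfl⟩)
  · rw [← hB1']; refine Submodule.span_le.2 fun y hy => ?_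
    rw [SetLike.mem_coe, Ideal.mem_comap, ← inc_inc h2 hS]; exact k1 _ (Or.inr ⟨y, hy, rfl⟩)
  · rw [← hB2']; refine Submodule.span_le.2 fun y hy => ?_
    rw [SetLike.mem_coe, Ideal.mem_comap, ← inc_inc h4 hT]; exact k2 _ (Or.inr ⟨y, hy, rfl⟩)
  · rw [← hB3']; refine Submodule.span_le.2 fun y hy => ?_
    rw [SetLike.mem_coe, Ideal.mem_comap, ← inc_inc h4 hT]; exact k3 _ (Or.inr ⟨y, hy, rfl⟩)

include hσ hnil in
lemma isFiltered : IsFiltered (Idx f i σ) := by
  haveI := nonempty_idx (f := f) hσ hnil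
  haveI : IsDirectedOrder (Idx f i σ) := ⟨exists_upper hσ hnil⟩
  exact isFiltered_of_directed_le_nonempty _

noncomputable def mapB {j k : Idx f i σ} (h : j ≤ k) : j.RB →ₐ[R] k.RB :=
  Ideal.quotientMapₐ k.IB (inc h.choose) h.choose_spec.choose_spec.1

noncomputable def mapT {j k : Idx f i σ} (h : j ≤ k) : j.RT →ₐ[R] k.RT :=
  Ideal.quotientMapₐ k.IT (inc h.choose_spec.choose) h.choose_spec.choose_spec.2.1

noncomputable def mapD {j k : Idx f i σ} (h : j ≤ k) : j.RD →ₐ[R] k.RD :=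
  Ideal.quotientMapₐ k.ID (inc h.choose_spec.choose) h.choose_spec.choose_spec.2.2

lemma mapB_mk {j k : Idx f i σ} (h : j ≤ k) (hS : j.S ⊆ k.S) (p : MvPolynomial j.S R) :
    mapB h (Ideal.Quotient.mk j.IB p) = Ideal.Quotient.mk k.IB (inc hS p) := rfl

lemma mapT_mk {j k : Idx f i σ} (h : j ≤ k) (hT : j.T ⊆ k.T) (p : MvPolynomial j.T R) :
    mapT h (Ideal.Quotient.mk j.IT p) = Ideal.Quotient.mk k.IT (inc hT p) := rfl

lemma mapD_mk {j k : Idx f i σ} (h : j ≤ k) (hT : j.T ⊆ k.T) (p : MvPolynomial j.T R) :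
    mapD h (Ideal.Quotient.mk j.ID p) = Ideal.Quotient.mk k.ID (inc hT p) := rfl

lemma mapB_refl (j : Idx f i σ) (x : j.RB) : mapB (le_refl j) x = x := by
  obtain ⟨p, rfl⟩ := Ideal.Quotient.mk_surjective x
  rw [mapB_mk _ (subset_refl _), inc_refl]

lemma mapT_refl (j : Idx f i σ) (x : j.RT) : mapT (le_refl j) x = x := by
  obtain ⟨p, rfl⟩ := Ideal.Quotient.mk_surjective x
  rw [mapT_mk _ (subset_refl _), inc_refl]

lemma mapD_refl (j : Idx f i σ) (x : j.RD) : mapD (le_refl j) x = x := by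
  obtain ⟨p, rfl⟩ := Ideal.Quotient.mk_surjective x
  rw [mapD_mk _ (subset_refl _), inc_refl]

lemma mapB_trans {j k l : Idx f i σ} (h : j ≤ k) (h' : k ≤ l) (x : j.RB) :
    mapB (h.trans h') x = mapB h' (mapB h x) := by
  obtain ⟨p, rfl⟩ := Ideal.Quotient.mk_surjective x
  rw [mapB_mk h h.choose, mapB_mk h' h'.choose, mapB_mk _ (h.choose.trans h'.choose), inc_inc]

lemma mapT_trans {j k l : Idx f i σ} (h : j ≤ k) (h' : k ≤ l) (x : j.RT) :
    mapT (h.trans h') x = mapT h' (mapT h x) := by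
  obtain ⟨p, rfl⟩ := Ideal.Quotient.mk_surjective x
  rw [mapT_mk h h.choose_spec.choose, mapT_mk h' h'.choose_spec.choose,
    mapT_mk _ (h.choose_spec.choose.trans h'.choose_spec.choose), inc_inc]

lemma mapD_trans {j k l : Idx f i σ} (h : j ≤ k) (h' : k ≤ l) (x : j.RD) :
    mapD (h.trans h') x = mapD h' (mapD h x) := by
  obtain ⟨p, rfl⟩ := Ideal.Quotient.mk_surjective x
  rw [mapD_mk h h.choose_spec.choose, mapD_mk h' h'.choose_spec.choose,
    mapD_mk _ (h.choose_spec.choose.trans h'.choose_spec.choose), inc_inc]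

/-- `B_j → D_j`. -/
noncomputable def toD (j : Idx f i σ) : j.RB →ₐ[R] j.RD :=
  Ideal.quotientMapₐ j.ID (mapST f σ j.hST) j.hBD

/-- `D'_j → D_j`. -/
noncomputable def fac (j : Idx f i σ) : j.RT →ₐ[R] j.RD := Ideal.Quotient.factorₐ R j.hTD

lemma toD_mapB {j k : Idx f i σ} (h : j ≤ k) (x : j.RB) : toD k (mapB h x) = mapD h (toD j x) := by
  obtain ⟨p, rfl⟩ := Ideal.Quotient.mk_surjective x
  exact (congrArg (Ideal.Quotient.mk k.ID)
    (inc_mapST j.hST k.hST h.choose h.choose_spec.choose p)).symm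

lemma fac_mapT {j k : Idx f i σ} (h : j ≤ k) (x : j.RT) : fac k (mapT h x) = mapD h (fac j x) := by
  obtain ⟨p, rfl⟩ := Ideal.Quotient.mk_surjective x
  rfl

/-- `P_j = B_j ×_{D_j} D'_j`. -/
noncomputable def RP (j : Idx f i σ) : Subalgebra R (j.RB × j.RT) :=
  AlgHom.equalizer ((toD j).comp (AlgHom.fst R _ _)) ((fac j).comp (AlgHom.snd R _ _))

lemma mem_RP {j : Idx f i σ} (x : j.RB × j.RT) : x ∈ RP j ↔ toD j x.1 = fac j x.2 := Iff.rfl

noncomputable def mapP {j k : Idx f i σ} (h : j ≤ k) : RP j →ₐ[R] RP k :=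
  (AlgHom.prod ((mapB h).comp ((AlgHom.fst R _ _).comp (RP j).val))
    ((mapT h).comp ((AlgHom.snd R _ _).comp (RP j).val))).codRestrict (RP k) fun x => by
      rw [mem_RP]
      show toD k (mapB h x.1.1) = fac k (mapT h x.1.2)
      rw [toD_mapB, fac_mapT, (mem_RP x.1).1 x.2]

variable (f i σ)

noncomputable def DB : Idx f i σ ⥤ Under (CommRingCat.of R) where
  obj j := Under.mk (CommRingCat.ofHom (algebraMap R j.RB))
  map h := uhom (mapB (leOfHom h))
  map_id j := uhom_ext fun x => mapB_refl j x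
  map_comp h h' := uhom_ext fun x => mapB_trans (leOfHom h) (leOfHom h') x

noncomputable def DT : Idx f i σ ⥤ Under (CommRingCat.of R) where
  obj j := Under.mk (CommRingCat.ofHom (algebraMap R j.RT))
  map h := uhom (mapT (leOfHom h))
  map_id j := uhom_ext fun x => mapT_refl j x
  map_comp h h' := uhom_ext fun x => mapT_trans (leOfHom h) (leOfHom h') x

noncomputable def DD : Idx f i σ ⥤ Under (CommRingCat.of R) where
  obj j := Under.mk (CommRingCat.ofHom (algebraMap R j.RD))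
  map h := uhom (mapD (leOfHom h))
  map_id j := uhom_ext fun x => mapD_refl j x
  map_comp h h' := uhom_ext fun x => mapD_trans (leOfHom h) (leOfHom h') x

noncomputable def DP : Idx f i σ ⥤ Under (CommRingCat.of R) where
  obj j := Under.mk (CommRingCat.ofHom (R := R) (S := RP j) (algebraMap R (RP j)))
  map {j k} h := uhom (A := R) (R := RP j) (S := RP k) (mapP (leOfHom h))
  map_id j := by
    refine uhom_ext fun x => ?_
    exact Subtype.ext (Prod.ext (mapB_refl j _) (mapT_refl j _))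
  map_comp {j k l} h h' := by
    refine uhom_ext fun x => ?_
    exact Subtype.ext
      (Prod.ext (mapB_trans (leOfHom h) (leOfHom h') _) (mapT_trans (leOfHom h) (leOfHom h') _))

noncomputable def phi : DB f i σ ⟶ DD f i σ where
  app j := uhom (toD j)
  naturality {j k} h := uhom_ext fun x => toD_mapB (leOfHom h) x

noncomputable def psi : DT f i σ ⟶ DD f i σ where
  app j := uhom (fac j)
  naturality {j k} h := uhom_ext fun x => fac_mapT (leOfHom h) x

/-- The projections. -/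
noncomputable def prB (j : Idx f i σ) : RP j →ₐ[R] j.RB := (AlgHom.fst R j.RB j.RT).comp (RP j).val

noncomputable def prT (j : Idx f i σ) : RP j →ₐ[R] j.RT := (AlgHom.snd R j.RB j.RT).comp (RP j).val

noncomputable def pi1 : DP f i σ ⟶ DB f i σ where
  app j := uhom (A := R) (R := RP j) (S := j.RB) (prB f i σ j)
  naturality {j k} h := uhom_ext fun x => rfl

noncomputable def pi2 : DP f i σ ⟶ DT f i σ where
  app j := uhom (A := R) (R := RP j) (S := j.RT) (prT f i σ j)
  naturality {j k} h := uhom_ext fun x => rfl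

variable {f i σ}

noncomputable def evB (j : Idx f i σ) : j.RB →ₐ[R] B :=
  Ideal.Quotient.liftₐ j.IB (ev j.S) fun _ ha => j.hIBev ha

noncomputable def evT (j : Idx f i σ) : j.RT →ₐ[R] D' :=
  Ideal.Quotient.liftₐ j.IT (ev j.T) fun _ ha => j.hITev ha

noncomputable def evD (j : Idx f i σ) : j.RD →ₐ[R] D :=
  Ideal.Quotient.liftₐ j.ID (i.comp (ev j.T)) fun _ ha => j.hIDev ha

lemma evB_mapB {j k : Idx f i σ} (h : j ≤ k) (x : j.RB) : evB k (mapB h x) = evB j x := by
  obtain ⟨p, rfl⟩ := Ideal.Quotient.mk_surjective x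
  exact ev_inc h.choose p

lemma evT_mapT {j k : Idx f i σ} (h : j ≤ k) (x : j.RT) : evT k (mapT h x) = evT j x := by
  obtain ⟨p, rfl⟩ := Ideal.Quotient.mk_surjective x
  exact ev_inc h.choose_spec.choose p

lemma evD_mapD {j k : Idx f i σ} (h : j ≤ k) (x : j.RD) : evD k (mapD h x) = evD j x := by
  obtain ⟨p, rfl⟩ := Ideal.Quotient.mk_surjective x
  exact congrArg i (ev_inc h.choose_spec.choose p)

lemma evD_fac (j : Idx f i σ) (x : j.RT) : evD j (fac j x) = i (evT j x) := by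
  obtain ⟨p, rfl⟩ := Ideal.Quotient.mk_surjective x
  rfl

include hσ in
lemma evD_toD (j : Idx f i σ) (x : j.RB) : evD j (toD j x) = f (evB j x) := by
  obtain ⟨p, rfl⟩ := Ideal.Quotient.mk_surjective x
  exact ev_mapST hσ j.hST p

variable (f i σ)

noncomputable def coB : DB f i σ ⟶
    (Functor.const (Idx f i σ)).obj (Under.mk (CommRingCat.ofHom (algebraMap R B))) where
  app j := uhom (evB j)
  naturality {j k} h := uhom_ext fun x => evB_mapB (leOfHom h) x

noncomputable def coT : DT f i σ ⟶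
    (Functor.const (Idx f i σ)).obj (Under.mk (CommRingCat.ofHom (algebraMap R D'))) where
  app j := uhom (evT j)
  naturality {j k} h := uhom_ext fun x => evT_mapT (leOfHom h) x

noncomputable def coD : DD f i σ ⟶
    (Functor.const (Idx f i σ)).obj (Under.mk (CommRingCat.ofHom (algebraMap R D))) where
  app j := uhom (evD j)
  naturality {j k} h := uhom_ext fun x => evD_mapD (leOfHom h) x

variable {f i σ}

include hσ hnil in
open Classical in
lemma exists_lift (b : B) (t : D') : ∃ (j : Idx f i σ) (x : j.RB) (y : j.RT),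
    evB j x = b ∧ evT j y = t := by
  obtain ⟨j, hS, hT, -⟩ := exists_idx (f := f) (σ := σ) hσ hnil {b} {t} ∅ ∅ ∅ Set.finite_empty
    Set.finite_empty Set.finite_empty (by simp) (by simp) (by simp)
  exact ⟨j, Ideal.Quotient.mk j.IB (X ⟨b, hS (Finset.mem_singleton_self b)⟩),
    Ideal.Quotient.mk j.IT (X ⟨t, hT (Finset.mem_singleton_self t)⟩),
    aeval_X (fun e : j.S => (e : B)) _, aeval_X (fun e : j.T => (e : D')) _⟩

include hσ hnil in
lemma exists_sep (j : Idx f i σ) (x x' : j.RB) (y y' : j.RT) (z z' : j.RD)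
    (hx : evB j x = evB j x') (hy : evT j y = evT j y') (hz : evD j z = evD j z') :
    ∃ (k : Idx f i σ) (h : j ≤ k),
      mapB h x = mapB h x' ∧ mapT h y = mapT h y' ∧ mapD h z = mapD h z' := by
  obtain ⟨p, rfl⟩ := Ideal.Quotient.mk_surjective x
  obtain ⟨p', rfl⟩ := Ideal.Quotient.mk_surjective x'
  obtain ⟨q, rfl⟩ := Ideal.Quotient.mk_surjective y
  obtain ⟨q', rfl⟩ := Ideal.Quotient.mk_surjective y'
  obtain ⟨r, rfl⟩ := Ideal.Quotient.mk_surjective z
  obtain ⟨r', rfl⟩ := Ideal.Quotient.mk_surjective z'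
  have hx' : ev j.S p = ev j.S p' := hx
  have hy' : ev j.T q = ev j.T q' := hy
  have hz' : i (ev j.T r) = i (ev j.T r') := hz
  obtain ⟨k, hS, hT, k1, k2, k3⟩ := exists_idx (f := f) (σ := σ) hσ hnil j.S j.T {p - p'} {q - q'}
    {r - r'} (Set.finite_singleton _) (Set.finite_singleton _) (Set.finite_singleton _)
    (by rintro z rfl; simp [hx']) (by rintro z rfl; simp [hy']) (by rintro z rfl; simp [hz'])
  obtain ⟨l, hkl, hjl⟩ := exists_upper hσ hnil k j
  refine ⟨l, hjl, ?_, ?_, ?_⟩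
  · rw [mapB_mk hjl (hS.trans hkl.choose), mapB_mk hjl (hS.trans hkl.choose), Ideal.Quotient.eq,
      ← map_sub, ← inc_inc hS hkl.choose]
    exact hkl.choose_spec.choose_spec.1 (k1 _ rfl)
  · rw [mapT_mk hjl (hT.trans hkl.choose_spec.choose), mapT_mk hjl (hT.trans hkl.choose_spec.choose),
      Ideal.Quotient.eq, ← map_sub, ← inc_inc hT hkl.choose_spec.choose]
    exact hkl.choose_spec.choose_spec.2.1 (k2 _ rfl)
  · rw [mapD_mk hjl (hT.trans hkl.choose_spec.choose), mapD_mk hjl (hT.trans hkl.choose_spec.choose),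
      Ideal.Quotient.eq, ← map_sub, ← inc_inc hT hkl.choose_spec.choose]
    exact hkl.choose_spec.choose_spec.2.2 (k3 _ rfl)

include hσ hnil in
lemma isColimit_B : Nonempty (IsColimit (Cocone.mk _ (coB f i σ))) := by
  haveI := isFiltered (f := f) hσ hnil
  refine isColimit_of_surj_sep _ (fun b => ?_) (fun j x x' h => ?_)
  · obtain ⟨j, x, -, hx, -⟩ := exists_lift (f := f) hσ hnil b 0
    exact ⟨j, x, hx⟩
  · obtain ⟨k, hk, h1, -, -⟩ := exists_sep hσ hnil j x x' 0 0 0 0 h rfl rfl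
    exact ⟨k, homOfLE hk, h1⟩

include hσ hnil in
lemma isColimit_T : Nonempty (IsColimit (Cocone.mk _ (coT f i σ))) := by
  haveI := isFiltered (f := f) hσ hnil
  refine isColimit_of_surj_sep _ (fun t => ?_) (fun j x x' h => ?_)
  · obtain ⟨j, -, y, -, hy⟩ := exists_lift (f := f) hσ hnil 0 t
    exact ⟨j, y, hy⟩
  · obtain ⟨k, hk, -, h2, -⟩ := exists_sep hσ hnil j 0 0 x x' 0 0 rfl h rfl
    exact ⟨k, homOfLE hk, h2⟩

include hσ hnil in
lemma isColimit_D : Nonempty (IsColimit (Cocone.mk _ (coD f i σ))) := by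
  haveI := isFiltered (f := f) hσ hnil
  refine isColimit_of_surj_sep _ (fun d => ?_) (fun j x x' h => ?_)
  · obtain ⟨j, -, y, -, hy⟩ := exists_lift (f := f) hσ hnil 0 (σ d)
    refine ⟨j, fac j y, ?_⟩
    show evD j (fac j y) = d
    rw [evD_fac, hy, hσ]
  · obtain ⟨k, hk, -, -, h3⟩ := exists_sep hσ hnil j 0 0 0 0 x x' rfl rfl h
    exact ⟨k, homOfLE hk, h3⟩

section Pullback

variable {P : Type u} [CommRing P] [Algebra R P] (q₁ : P →ₐ[R] B) (q₂ : P →ₐ[R] D')
  (hP : IsPullback (CommRingCat.ofHom q₁.toRingHom) (CommRingCat.ofHom q₂.toRingHom)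
    (CommRingCat.ofHom f.toRingHom) (CommRingCat.ofHom i.toRingHom))

include hP in
lemma eq_of_pullback {x y : P} (h₁ : q₁ x = q₁ y) (h₂ : q₂ x = q₂ y) : x = y :=
  ((Types.isPullback_iff _ _ _ _).1 ((forget CommRingCat).map_isPullback hP)).2.1 x y ⟨h₁, h₂⟩

include hP in
lemma exists_of_pullback (b : B) (t : D') (h : f b = i t) : ∃ x : P, q₁ x = b ∧ q₂ x = t :=
  let ⟨x, hx₁, hx₂⟩ := ((Types.isPullback_iff _ _ _ _).1 ((forget CommRingCat).map_isPullback hP)).2.2 b t h
  ⟨x, hx₁, hx₂⟩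

include hσ in
lemma comm_RP (j : Idx f i σ) (x : RP j) : f (evB j x.1.1) = i (evT j x.1.2) := by
  rw [← evD_toD hσ, ← evD_fac, (mem_RP x.1).1 x.2]

/-- The underlying function of `P_j → P`. -/
noncomputable def evPfun (j : Idx f i σ) (x : RP j) : P :=
  (exists_of_pullback q₁ q₂ hP _ _ (comm_RP hσ j x)).choose

lemma q₁_evPfun (j : Idx f i σ) (x : RP j) : q₁ (evPfun hσ q₁ q₂ hP j x) = evB j x.1.1 :=
  (exists_of_pullback q₁ q₂ hP _ _ (comm_RP hσ j x)).choose_spec.1

lemma q₂_evPfun (j : Idx f i σ) (x : RP j) : q₂ (evPfun hσ q₁ q₂ hP j x) = evT j x.1.2 :=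
  (exists_of_pullback q₁ q₂ hP _ _ (comm_RP hσ j x)).choose_spec.2

/-- The map `P_j → P`. -/
noncomputable def evP (j : Idx f i σ) : RP j →ₐ[R] P where
  toFun := evPfun hσ q₁ q₂ hP j
  map_one' := eq_of_pullback q₁ q₂ hP (by rw [q₁_evPfun, map_one]; exact map_one _)
    (by rw [q₂_evPfun, map_one]; exact map_one _)
  map_mul' x y := eq_of_pullback q₁ q₂ hP
    (by rw [map_mul, q₁_evPfun, q₁_evPfun, q₁_evPfun]; exact map_mul _ _ _)
    (by rw [map_mul, q₂_evPfun, q₂_evPfun, q₂_evPfun]; exact map_mul _ _ _)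
  map_zero' := eq_of_pullback q₁ q₂ hP (by rw [q₁_evPfun, map_zero]; exact map_zero _)
    (by rw [q₂_evPfun, map_zero]; exact map_zero _)
  map_add' x y := eq_of_pullback q₁ q₂ hP
    (by rw [map_add, q₁_evPfun, q₁_evPfun, q₁_evPfun]; exact map_add _ _ _)
    (by rw [map_add, q₂_evPfun, q₂_evPfun, q₂_evPfun]; exact map_add _ _ _)
  commutes' r := eq_of_pullback q₁ q₂ hP
    (by rw [q₁_evPfun, AlgHom.commutes]; exact (evB j).commutes r)
    (by rw [q₂_evPfun, AlgHom.commutes]; exact (evT j).commutes r)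

lemma q₁_evP (j : Idx f i σ) (x : RP j) : q₁ (evP hσ q₁ q₂ hP j x) = evB j x.1.1 :=
  (exists_of_pullback q₁ q₂ hP _ _ (comm_RP hσ j x)).choose_spec.1

lemma q₂_evP (j : Idx f i σ) (x : RP j) : q₂ (evP hσ q₁ q₂ hP j x) = evT j x.1.2 :=
  (exists_of_pullback q₁ q₂ hP _ _ (comm_RP hσ j x)).choose_spec.2

/-- The cocone to `P`. -/
noncomputable def coP : DP f i σ ⟶
    (Functor.const (Idx f i σ)).obj (Under.mk (CommRingCat.ofHom (algebraMap R P))) where
  app j := uhom (evP hσ q₁ q₂ hP j)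
  naturality {j k} h := uhom_ext fun x => by
    show evP hσ q₁ q₂ hP k (mapP (leOfHom h) x) = evP hσ q₁ q₂ hP j x
    refine eq_of_pullback q₁ q₂ hP ?_ ?_
    · rw [q₁_evP, q₁_evP]; exact evB_mapB (leOfHom h) x.1.1
    · rw [q₂_evP, q₂_evP]; exact evT_mapT (leOfHom h) x.1.2

include hnil in
lemma isColimit_P : Nonempty (IsColimit (Cocone.mk _ (coP (f := f) hσ q₁ q₂ hP))) := by
  haveI := isFiltered (f := f) hσ hnil
  refine isColimit_of_surj_sep _ (fun z => ?_) (fun j x x' h => ?_)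
  · obtain ⟨j, x, y, hx, hy⟩ := exists_lift (f := f) hσ hnil (q₁ z) (q₂ z)
    have hd : evD j (toD j x) = evD j (fac j y) := by
      rw [evD_toD hσ, evD_fac, hx, hy]
      exact congr($(hP.w) z)
    obtain ⟨k, hk, -, -, h3⟩ := exists_sep hσ hnil j 0 0 0 0 _ _ rfl rfl hd
    refine ⟨k, (⟨(mapB hk x, mapT hk y), by rw [mem_RP, toD_mapB, fac_mapT]; exact h3⟩ : RP k), ?_⟩
    refine eq_of_pullback q₁ q₂ hP ?_ ?_
    · exact ((q₁_evP hσ q₁ q₂ hP k _).trans (evB_mapB hk x)).trans hx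
    · exact ((q₂_evP hσ q₁ q₂ hP k _).trans (evT_mapT hk y)).trans hy
  · have h' : evP hσ q₁ q₂ hP j x = evP hσ q₁ q₂ hP j x' := h
    have h1 : evB j x.1.1 = evB j x'.1.1 :=
      ((q₁_evP hσ q₁ q₂ hP j x).symm.trans (congrArg q₁ h')).trans (q₁_evP hσ q₁ q₂ hP j x')
    have h2 : evT j x.1.2 = evT j x'.1.2 :=
      ((q₂_evP hσ q₁ q₂ hP j x).symm.trans (congrArg q₂ h')).trans (q₂_evP hσ q₁ q₂ hP j x')
    obtain ⟨k, hk, e1, e2, -⟩ := exists_sep hσ hnil j x.1.1 x'.1.1 x.1.2 x'.1.2 0 0 h1 h2 rfl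
    exact ⟨k, homOfLE hk, Subtype.ext (Prod.ext e1 e2)⟩

end Pullback

lemma isPullback_RP (j : Idx f i σ) : IsPullback ((pi1 f i σ).app j).right ((pi2 f i σ).app j).right
    ((phi f i σ).app j).right ((psi f i σ).app j).right := by
  haveI : ReflectsLimitsOfShape WalkingCospan (forget CommRingCat.{u}) :=
    reflectsLimitsOfShape_of_reflectsIsomorphisms
  refine IsPullback.of_map (forget CommRingCat) (CommRingCat.hom_ext (RingHom.ext fun (x : RP j) => x.2))
    ((Types.isPullback_iff _ _ _ _).2 ⟨?_, ?_, ?_⟩)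
  · exact ConcreteCategory.hom_ext _ _ fun (x : RP j) => (mem_RP x.1).1 x.2
  · exact fun x y h => Subtype.ext (Prod.ext h.1 h.2)
  · exact fun b t h => ⟨⟨(b, t), h⟩, rfl, rfl⟩

lemma surjective_toD (j : Idx f i σ) (hf : Function.Surjective f) : Function.Surjective (toD j) := by
  intro x
  obtain ⟨p, hp⟩ := surjective_mk_comp (mapST f σ j.hST) j.ID (j.hsurj hf) x
  exact ⟨Ideal.Quotient.mk j.IB p, hp⟩

lemma isNilpotent_of_toD (j : Idx f i σ) (hf : Function.Surjective f)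
    (hn : ∀ x ∈ RingHom.ker f.toRingHom, IsNilpotent x) (x : j.RB) (hx : toD j x = 0) :
    IsNilpotent x := by
  obtain ⟨p, rfl⟩ := Ideal.Quotient.mk_surjective x
  obtain ⟨n, hn'⟩ := j.hnilB hf hn (Ideal.Quotient.eq_zero_iff_mem.1 hx :)
  refine ⟨n, ?_⟩
  rw [← map_pow]
  exact Ideal.Quotient.eq_zero_iff_mem.2 hn'

lemma isNilpotent_of_fac (j : Idx f i σ) (x : j.RT) (hx : fac j x = 0) : IsNilpotent x := by
  obtain ⟨p, rfl⟩ := Ideal.Quotient.mk_surjective x
  obtain ⟨n, hn'⟩ := j.hnil (Ideal.Quotient.eq_zero_iff_mem.1 hx :)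
  refine ⟨n, ?_⟩
  rw [← map_pow]
  exact Ideal.Quotient.eq_zero_iff_mem.2 hn'

lemma isIntegral_toD (j : Idx f i σ) (hf : f.toRingHom.IsIntegral) :
    (toD j).toRingHom.IsIntegral := by
  intro x
  obtain ⟨p, rfl⟩ := Ideal.Quotient.mk_surjective x
  induction p using MvPolynomial.induction_on with
  | C a =>
    convert (toD j).toRingHom.isIntegralElem_map (x := algebraMap R j.RB a) using 1
    exact ((toD j).commutes a).symm
  | add p q hp hq => rw [map_add]; exact hp.add _ hq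
  | mul_X p t hp =>
    rw [map_mul]
    refine hp.mul _ ?_
    obtain ⟨P, hPm, hP⟩ := j.hint hf t
    refine ⟨P.map (Ideal.Quotient.mk j.IB), hPm.map _, ?_⟩
    rw [Polynomial.eval₂_map]
    have h1 := Polynomial.hom_eval₂ P (mapST f σ j.hST).toRingHom (Ideal.Quotient.mk j.ID) (X t)
    rw [Ideal.Quotient.eq_zero_iff_mem.2 hP] at h1
    exact h1.symm

end Groth.L06.NilPair
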