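import Groth.Agent.L07.Equidim
import Groth.Agent.L22.AffineDim
import Groth.Agent.L22.FibreDim
import Mathlib.RingTheory.NoetherNormalization
import Mathlib.RingTheory.KrullDimension.Field
import Mathlib.AlgebraicGeometry.Morphisms.Finite
import Mathlib.AlgebraicGeometry.Morphisms.Affine
import Mathlib.AlgebraicGeometry.Fiber
import Mathlib.AlgebraicGeometry.ZariskisMainTheorem
import Mathlib.RingTheory.Spectrum.Prime.Topology

/-! Noether normalisation of one fibre of an affine morphism. -/

set_option autoImplicit false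
set_option maxSynthPendingDepth 3
set_option backward.isDefEq.respectTransparency.types false
set_option backward.isDefEq.respectTransparency false
set_option linter.style.haveILetI false
universe u

open CategoryTheory CategoryTheory.Limits AlgebraicGeometry TopologicalSpace Topology

namespace Groth.L06.NoetherAffine

/-- the evaluation of functions on an affine scheme in a residue field is surjective up to units -/
theorem exists_mul_eq {Y : Scheme.{u}} [IsAffine Y] (y : Y) (c : Γ(Spec (Y.residueField y), ⊤)) :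
    ∃ a s : Γ(Y, ⊤), IsUnit ((Y.fromSpecResidueField y).appTop s) ∧
      c * (Y.fromSpecResidueField y).appTop s = (Y.fromSpecResidueField y).appTop a := by
  let ev : Γ(Y, ⊤) →+* Y.residueField y := (Y.presheaf.germ ⊤ y trivial ≫ Y.residue y).hom
  have hev : ∀ a, (Y.fromSpecResidueField y).appTop a = (Scheme.ΓSpecIso (Y.residueField y)).inv (ev a) := fun a => by
    have h : (Y.fromSpecResidueField y).appTop =
        (Y.presheaf.germ ⊤ y trivial ≫ Y.residue y) ≫ (Scheme.ΓSpecIso (Y.residueField y)).inv := by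
      rw [Scheme.fromSpecResidueField, Scheme.Hom.comp_appTop, Scheme.fromSpecStalk_appTop]
      simp only [Category.assoc]
      rw [Scheme.ΓSpecIso_inv_naturality]
      simp
    rw [h]; rfl
  obtain ⟨c', rfl⟩ := (ConcreteCategory.bijective_of_isIso (Scheme.ΓSpecIso (Y.residueField y)).inv).2 c
  obtain ⟨t, rfl⟩ := Y.residue_surjective y c'
  letI : Algebra Γ(Y, ⊤) (Y.presheaf.stalk y) := TopCat.Presheaf.algebra_section_stalk Y.presheaf (⟨y, trivial⟩ : (⊤ : Y.Opens))
  haveI := (isAffineOpen_top Y).isLocalization_stalk ⟨y, trivial⟩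
  obtain ⟨⟨a, s⟩, hs⟩ := IsLocalization.surj ((isAffineOpen_top Y).primeIdealOf ⟨y, trivial⟩).asIdeal.primeCompl t
  refine ⟨a, s, ?_, ?_⟩
  · rw [hev]
    exact ((IsLocalization.map_units (Y.presheaf.stalk y) s).map (Y.residue y).hom).map
      (Scheme.ΓSpecIso (Y.residueField y)).inv.hom
  · rw [hev, hev, ← map_mul]
    refine congrArg _ ?_
    show Y.residue y t * (Y.residue y).hom (algebraMap _ (Y.presheaf.stalk y) (s : Γ(Y, ⊤))) = _
    rw [← map_mul, hs]
    rfl

theorem exists_finite {X Y : Scheme.{u}} [IsAffine X] [IsAffine Y] (f : X ⟶ Y) [LocallyOfFiniteType f]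
    (y : Y) (e : ℕ) (he : topologicalKrullDim ↥(f.fiber y) = (e : WithBot ℕ∞)) :
    ∃ g : X ⟶ 𝔸(ULift.{u} (Fin e); Y), g ≫ (𝔸(ULift.{u} (Fin e); Y) ↘ Y) = f ∧
      IsFinite (pullback.snd g ((𝔸(ULift.{u} (Fin e); Y) ↘ Y).fiberι y)) := by
  classical
  let F := f.fiber y
  let ι : Γ(X, ⊤) →+* Γ(F, ⊤) := (f.fiberι y).appTop.hom
  let str : Γ(Spec (Y.residueField y), ⊤) →+* Γ(F, ⊤) := (f.fiberToSpecResidueField y).appTop.hom
  have sq : IsPullback (f.fiberι y) (f.fiberToSpecResidueField y) f (Y.fromSpecResidueField y) :=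
    IsPullback.of_hasPullback _ _
  have hcl := CommRingCat.closure_range_union_range_eq_top_of_isPushout (isPushout_appTop_of_isPullback sq)
  have hcompat : ∀ a, str ((Y.fromSpecResidueField y).appTop a) = ι (f.appTop a) := fun a => by
    have h := congrArg (fun φ => φ.appTop) sq.w
    simp only [Scheme.Hom.comp_appTop] at h
    exact (ConcreteCategory.congr_hom h a).symm
  have hscale : ∀ r : Γ(F, ⊤), ∃ (s : Γ(Y, ⊤)) (b : Γ(X, ⊤)),
      IsUnit ((Y.fromSpecResidueField y).appTop s) ∧ str ((Y.fromSpecResidueField y).appTop s) * r = ι b := by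
    intro r
    have hr : r ∈ Subring.closure (Set.range (f.fiberι y).appTop ∪ Set.range (f.fiberToSpecResidueField y).appTop) := by
      rw [hcl]; trivial
    induction hr using Subring.closure_induction with
    | mem x hx =>
      rcases hx with ⟨b, rfl⟩ | ⟨c, rfl⟩
      · exact ⟨1, b, by simp, by simp only [map_one, one_mul]; rfl⟩
      · obtain ⟨a, s, hs, h⟩ := exists_mul_eq y c
        refine ⟨s, f.appTop a, hs, ?_⟩
        rw [← hcompat, ← h, map_mul, mul_comm]
    | zero => exact ⟨1, 0, by simp, by simp⟩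
    | one => exact ⟨1, 1, by simp, by simp⟩
    | add x z _ _ ihx ihz =>
      obtain ⟨s, b, hs, h⟩ := ihx
      obtain ⟨s', b', hs', h'⟩ := ihz
      refine ⟨s * s', f.appTop s' * b + f.appTop s * b', by rw [map_mul]; exact hs.mul hs', ?_⟩
      rw [map_add, map_mul, map_mul, map_mul, map_mul, ← h, ← h', ← hcompat, ← hcompat]
      ring
    | neg x _ ih =>
      obtain ⟨s, b, hs, h⟩ := ih
      exact ⟨s, -b, hs, by rw [map_neg, mul_neg, h]⟩
    | mul x z _ _ ihx ihz =>
      obtain ⟨s, b, hs, h⟩ := ihx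
      obtain ⟨s', b', hs', h'⟩ := ihz
      refine ⟨s * s', b * b', by rw [map_mul]; exact hs.mul hs', ?_⟩
      rw [map_mul, map_mul, map_mul, ← h, ← h']
      ring
  let σ : Y.residueField y →+* Γ(F, ⊤) := str.comp (Scheme.ΓSpecIso (Y.residueField y)).inv.hom
  letI : Algebra (Y.residueField y) Γ(F, ⊤) := σ.toAlgebra
  haveI : LocallyOfFiniteType (f.fiberToSpecResidueField y) := MorphismProperty.pullback_snd _ _ inferInstance
  haveI : Algebra.FiniteType (Y.residueField y) Γ(F, ⊤) := by
    rw [← RingHom.finiteType_algebraMap]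
    exact ((HasRingHomProperty.iff_of_isAffine (P := @LocallyOfFiniteType)).mp
      (inferInstance : LocallyOfFiniteType (f.fiberToSpecResidueField y))).comp
      (RingHom.FiniteType.of_surjective _ (ConcreteCategory.bijective_of_isIso (Scheme.ΓSpecIso (Y.residueField y)).inv).2)
  have hdimR : ringKrullDim Γ(F, ⊤) = (e : WithBot ℕ∞) := by
    rw [← PrimeSpectrum.topologicalKrullDim_eq_ringKrullDim, ← he]
    exact (F.isoSpec.hom.homeomorph.isHomeomorph.topologicalKrullDim_eq).symm
  haveI : Nontrivial Γ(F, ⊤) := by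
    by_contra h
    haveI := not_nontrivial_iff_subsingleton.mp h
    rw [ringKrullDim_eq_bot_of_subsingleton] at hdimR
    exact absurd hdimR (by simp)
  obtain ⟨s, gN, hinj, hfin⟩ := exists_finite_inj_algHom_of_fg (Y.residueField y) Γ(F, ⊤)
  obtain rfl : s = e := by
    letI := gN.toRingHom.toAlgebra
    haveI : Algebra.IsIntegral (MvPolynomial (Fin s) (Y.residueField y)) Γ(F, ⊤) :=
      ⟨(RingHom.Finite.to_isIntegral (f := gN.toRingHom) hfin)⟩
    rw [Groth.L22.AffineDim.ringKrullDim_eq_of_isIntegral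
      (R := MvPolynomial (Fin s) (Y.residueField y)) hinj,
      MvPolynomial.ringKrullDim_of_isNoetherianRing, ringKrullDim_eq_zero_of_field, zero_add,
      Nat.card_eq_fintype_card, Fintype.card_fin] at hdimR
    exact_mod_cast hdimR
  choose sc b hsc hb using fun i : Fin s => hscale (gN (MvPolynomial.X i))
  let pr := 𝔸(ULift.{u} (Fin s); Y) ↘ Y
  let g : X ⟶ 𝔸(ULift.{u} (Fin s); Y) := AffineSpace.homOfVector f fun i => b i.down
  have hg : g ≫ pr = f := AffineSpace.homOfVector_over _ _
  refine ⟨g, hg, ?_⟩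
  let P := pullback g (pr.fiberι y)
  let M : P ⟶ pr.fiber y := pullback.snd g (pr.fiberι y)
  have sqP : IsPullback (pullback.fst g (pr.fiberι y)) (M ≫ pr.fiberToSpecResidueField y) f (Y.fromSpecResidueField y) := by
    have h := (IsPullback.of_hasPullback g (pr.fiberι y)).paste_vert
      (IsPullback.of_hasPullback pr (Y.fromSpecResidueField y))
    rw [hg] at h
    exact h
  let ε : P ≅ F := sqP.isoPullback
  let E : Γ(F, ⊤) →+* Γ(P, ⊤) := ε.hom.appTop.hom
  have hEι : ∀ a, E (ι a) = (pullback.fst g (pr.fiberι y)).appTop a := fun a => by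
    rw [show pullback.fst g (pr.fiberι y) = ε.hom ≫ f.fiberι y from (sqP.isoPullback_hom_fst).symm,
      Scheme.Hom.comp_appTop]
    rfl
  have hEstr : ∀ c, E (str c) = M.appTop ((pr.fiberToSpecResidueField y).appTop c) := fun c => by
    have h := congrArg (fun φ => φ.appTop) sqP.isoPullback_hom_snd
    simp only [Scheme.Hom.comp_appTop] at h
    exact ConcreteCategory.congr_hom h c
  let θ₀ : MvPolynomial (Fin s) (Y.residueField y) →+* Γ(pr.fiber y, ⊤) :=
    MvPolynomial.eval₂Hom ((pr.fiberToSpecResidueField y).appTop.hom.comp (Scheme.ΓSpecIso (Y.residueField y)).inv.hom)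
      fun i => (pr.fiberι y).appTop (AffineSpace.coord Y (ULift.up i))
  let η : MvPolynomial (Fin s) (Y.residueField y) →ₐ[Y.residueField y] MvPolynomial (Fin s) (Y.residueField y) :=
    MvPolynomial.aeval fun i => MvPolynomial.C ((Scheme.ΓSpecIso (Y.residueField y)).hom
      ((Y.fromSpecResidueField y).appTop (sc i))) * MvPolynomial.X i
  have hη : Function.Surjective η := by
    rw [← AlgHom.range_eq_top, eq_top_iff, ← MvPolynomial.adjoin_range_X, Algebra.adjoin_le_iff]
    rintro _ ⟨i, rfl⟩
    obtain ⟨w, hw⟩ := (hsc i).map (Scheme.ΓSpecIso (Y.residueField y)).hom.hom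
    refine ⟨MvPolynomial.C (↑w⁻¹ : Y.residueField y) * MvPolynomial.X i, ?_⟩
    show η (MvPolynomial.C (↑w⁻¹ : Y.residueField y) * MvPolynomial.X i) = _
    rw [map_mul, show η (MvPolynomial.C (↑w⁻¹ : Y.residueField y)) = MvPolynomial.C (↑w⁻¹ : Y.residueField y) from
      MvPolynomial.aeval_C _ _, show η (MvPolynomial.X i) = _ from MvPolynomial.aeval_X _ _, ← mul_assoc, ← map_mul,
      ← hw, Units.inv_mul, map_one, one_mul]
  have hfac : E.comp (gN.toRingHom.comp η.toRingHom) = M.appTop.hom.comp θ₀ := by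
    refine MvPolynomial.ringHom_ext (fun c => ?_) fun i => ?_
    · show E (gN (η (MvPolynomial.C c))) = M.appTop (θ₀ (MvPolynomial.C c))
      rw [show η (MvPolynomial.C c) = MvPolynomial.C c from MvPolynomial.aeval_C _ _,
        show gN (MvPolynomial.C c) = σ c from gN.commutes c,
        show θ₀ (MvPolynomial.C c) = _ from MvPolynomial.eval₂Hom_C _ _ _]
      exact hEstr _
    · show E (gN (η (MvPolynomial.X i))) = M.appTop (θ₀ (MvPolynomial.X i))
      rw [show η (MvPolynomial.X i) = _ from MvPolynomial.aeval_X _ _, map_mul,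
        show gN (MvPolynomial.C _) = σ _ from gN.commutes _,
        show θ₀ (MvPolynomial.X i) = _ from MvPolynomial.eval₂Hom_X' _ _ _]
      show E (str ((Scheme.ΓSpecIso (Y.residueField y)).inv ((Scheme.ΓSpecIso (Y.residueField y)).hom _)) * _) = _
      rw [Iso.hom_inv_id_apply, hb, hEι]
      have h := congrArg (fun φ => φ.appTop) (pullback.condition (f := g) (g := pr.fiberι y))
      simp only [Scheme.Hom.comp_appTop] at h
      rw [← AffineSpace.homOfVector_appTop_coord f (fun j => b j.down) (ULift.up i)]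
      exact ConcreteCategory.congr_hom h _
  haveI : IsAffine P := IsAffine.of_isIso ε.hom
  refine HasAffineProperty.iff_of_isAffine (P := @IsFinite) |>.mpr ⟨inferInstance, ?_⟩
  refine RingHom.Finite.of_comp_finite (f := θ₀) ?_
  rw [← hfac]
  exact (RingHom.Finite.of_surjective E (ConcreteCategory.bijective_of_isIso ε.hom.appTop).2).comp
    (RingHom.Finite.comp hfin (RingHom.Finite.of_surjective η.toRingHom hη))

/-- a finite map from a fibre of the top dimension to affine space is surjective -/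
theorem surjective_of_finite {X Y : Scheme.{u}} (f : X ⟶ Y) [LocallyOfFiniteType f] (y : Y)
    (hy : y ∈ Set.range f.base) (e : ℕ) (he : topologicalKrullDim ↥(f.fiber y) = (e : WithBot ℕ∞))
    (g : X ⟶ 𝔸(ULift.{u} (Fin e); Y)) (hg : g ≫ (𝔸(ULift.{u} (Fin e); Y) ↘ Y) = f)
    (hfin : IsFinite (pullback.snd g ((𝔸(ULift.{u} (Fin e); Y) ↘ Y).fiberι y))) :
    Function.Surjective (pullback.snd g ((𝔸(ULift.{u} (Fin e); Y) ↘ Y).fiberι y)).base := by
  let pr := 𝔸(ULift.{u} (Fin e); Y) ↘ Y
  let P := pullback g (pr.fiberι y)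
  let M : P ⟶ pr.fiber y := pullback.snd g (pr.fiberι y)
  haveI : IsFinite M := hfin
  have sqP : IsPullback (pullback.fst g (pr.fiberι y)) (M ≫ pr.fiberToSpecResidueField y) f (Y.fromSpecResidueField y) := by
    have h := (IsPullback.of_hasPullback g (pr.fiberι y)).paste_vert
      (IsPullback.of_hasPullback pr (Y.fromSpecResidueField y))
    rw [hg] at h
    exact h
  let ε : P ≅ f.fiber y := sqP.isoPullback
  obtain ⟨x, hx⟩ := hy
  haveI : Nonempty P := by
    obtain ⟨c, -⟩ : x ∈ Set.range (f.fiberι y) := by rw [f.range_fiberι]; exact hx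
    exact ⟨ε.inv c⟩
  haveI : IrreducibleSpace (pr.fiber y) := by
    let e₁ := (AffineSpace.isPullback_map (n := ULift.{u} (Fin e)) (Y.fromSpecResidueField y)).isoPullback
    let e₂ := e₁.symm ≪≫ AffineSpace.SpecIso (ULift.{u} (Fin e)) (Y.residueField y)
    haveI : IrreducibleSpace (PrimeSpectrum (MvPolynomial (ULift.{u} (Fin e)) (Y.residueField y))) := inferInstance
    exact e₂.hom.homeomorph.symm.surjective.irreducibleSpace e₂.hom.homeomorph.symm.continuous
  have hdimA : topologicalKrullDim (pr.fiber y) ≤ (e : WithBot ℕ∞) := by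
    rw [Groth.L07.Equidim.dim_fiber_affineSpace]; simp
  have hdimP : topologicalKrullDim P = (e : WithBot ℕ∞) := by
    rw [← he]; exact ε.hom.homeomorph.isHomeomorph.topologicalKrullDim_eq
  obtain ⟨a, ha⟩ := Groth.L22.FibreDim.exists_le_dim_closure (T := P) (r := e) hdimP.ge
  have hMa : M a = genericPoint (pr.fiber y) := by
    refine Groth.L07.EquidimQF.eq_genericPoint_of_dim_le hdimA (ha.trans ?_)
    refine Groth.L07.EquidimQF.dim_closure_le M M.continuous (fun b c hbc h => ?_) a
    haveI := (M.isDiscrete_preimage_singleton (M c)).to_subtype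
    exact congrArg Subtype.val (IsEmbedding.subtypeVal.isInducing.specializes_iff.mp hbc :
      (⟨b, h⟩ : M ⁻¹' {M c}) ⤳ ⟨c, rfl⟩).eq
  intro q
  obtain ⟨c, -, hc⟩ : q ∈ M '' Set.univ := by
    refine ((genericPoint_spec (pr.fiber y)).specializes trivial).mem_closed ?_ ⟨a, trivial, hMa⟩
    exact M.isClosedMap _ isClosed_univ
  exact ⟨c, hc⟩

/-- quasi-finiteness along the fibre -/
theorem le_quasiFiniteLocus {X Y Z : Scheme.{u}} (g : X ⟶ Z) [LocallyOfFiniteType g] (pr : Z ⟶ Y) (y : Y)
    (hfin : IsFinite (pullback.snd g (pr.fiberι y))) :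
    (g ≫ pr).base ⁻¹' {y} ⊆ (g.quasiFiniteLocus : Set X) := by
  intro x hx
  haveI := hfin
  rw [SetLike.mem_coe, Scheme.Hom.mem_quasiFiniteLocus, Scheme.Hom.quasiFiniteAt_iff_isOpen_singleton_asFiber]
  haveI : DiscreteTopology ↥(g ⁻¹' {g x}) := by
    obtain ⟨q, hq⟩ : g x ∈ Set.range (pr.fiberι y) := by rw [pr.range_fiberι]; exact hx
    have hsub : g ⁻¹' {g x} ⊆ (pullback.fst g (pr.fiberι y)) '' ((pullback.snd g (pr.fiberι y)) ⁻¹' {q}) := by
      intro a ha
      obtain ⟨c, hc, hc'⟩ := Scheme.Pullback.exists_preimage_pullback (f := g) (g := pr.fiberι y) a q (ha.trans hq.symm)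
      exact ⟨c, hc', hc⟩
    have hd := ((pullback.snd g (pr.fiberι y)).isDiscrete_preimage_singleton q).image
      (pullback.fst g (pr.fiberι y)).isEmbedding.isInducing
    exact (hd.mono hsub).to_subtype
  haveI : DiscreteTopology (g.fiber (g x)) := (g.fiberHomeo (g x)).symm.discreteTopology
  exact isOpen_discrete _

end Groth.L06.NoetherAffine
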