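import Groth.Agent.L06.NormDVR
import Groth.Agent.L21.Curve.NormalConnected
import Groth.Agent.L25.Extend.Codim
import Groth.Agent.L19.NormalSections
import Groth.Prelude.Def_Pi1

/-!
# The relative normalization in a normal scheme with locally finitely many components
-/

set_option autoImplicit false
set_option maxSynthPendingDepth 3
set_option linter.style.haveILetI false
set_option backward.isDefEq.respectTransparency.types false
set_option backward.isDefEq.respectTransparency false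

universe u

open CategoryTheory AlgebraicGeometry TopologicalSpace

noncomputable section

namespace Groth.L06.NormNormal

variable {Y : Scheme.{u}}

/-- Generic points of irreducible components. -/
abbrev IsGen (η : Y) : Prop := closure ({η} : Set Y) ∈ irreducibleComponents ↥Y

theorem exists_gen (y : Y) : ∃ η : Y, IsGen η ∧ η ⤳ y := by
  have hi := irreducibleComponent_mem_irreducibleComponents y
  obtain ⟨η, hη⟩ := QuasiSober.sober hi.1 isClosed_irreducibleComponent
  refine ⟨η, by rw [IsGen, hη.def]; exact hi, hη.specializes mem_irreducibleComponent⟩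

theorem IsGen.eq_of_specializes {η z : Y} (hη : IsGen η) (h : z ⤳ η) : z = η := by
  have h1 := hη.2 isIrreducible_singleton.closure (specializes_iff_closure_subset.mp h)
  exact (inseparable_iff_closure_eq.2 (subset_antisymm h1 (specializes_iff_closure_subset.mp h))).eq

theorem isGen_iff (η : Y) : IsGen η ↔ ∀ z : Y, z ⤳ η → z = η := by
  refine ⟨fun h z hz => h.eq_of_specializes hz, fun h => ?_⟩
  obtain ⟨μ, hμ, hμη⟩ := exists_gen η
  exact h μ hμη ▸ hμ

theorem gen_unique (hY : Pi1.IsNormalScheme Y) {η μ y : Y} (hη : IsGen η) (hμ : IsGen μ) (h₁ : η ⤳ y) (h₂ : μ ⤳ y) :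
    η = μ := by
  haveI := (hY y).1
  exact (inseparable_iff_closure_eq.2
    (Groth.L21.NormalTotal.eq_of_mem_irreducibleComponents y hη hμ h₁.mem_closure h₂.mem_closure)).eq

variable [IsReduced Y]

/-- Sections agreeing at the generic points agree. -/
theorem ext_of_germ {O : Y.Opens} (a b : Γ(Y, O))
    (h : ∀ η : Y, IsGen η → ∀ hη : η ∈ O, Y.presheaf.germ O η hη a = Y.presheaf.germ O η hη b) : a = b := by
  rw [← sub_eq_zero]
  refine eq_zero_of_basicOpen_eq_bot _ (eq_bot_iff.2 fun x hx => ?_)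
  obtain ⟨η, hη, hηx⟩ := exists_gen x
  have hηb : η ∈ Y.basicOpen (a - b) := hηx.mem_open (Y.basicOpen (a - b)).2 hx
  have hηO : η ∈ O := Y.basicOpen_le _ hηb
  have hu := (Scheme.mem_basicOpen Y (a - b) η hηO).mp hηb
  rw [map_sub, h η hη hηO, sub_self] at hu
  haveI : Nontrivial (Y.presheaf.stalk η) := inferInstance
  exact absurd hu not_isUnit_zero

theorem isField_stalk {η : Y} (hη : IsGen η) : IsField (Y.presheaf.stalk η) :=
  isField_stalk_of_closure_mem_irreducibleComponents Y η hη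

/-- Elements of the stalk at a generic point integral over a normal stalk come from it. -/
theorem exists_stalk_eq (hY : Pi1.IsNormalScheme Y) {η y : Y} (hη : IsGen η) (h : η ⤳ y) {A : Type u} [CommRing A]
    (φ : A →+* Y.presheaf.stalk y) (z : Y.presheaf.stalk η)
    (hz : ((Y.presheaf.stalkSpecializes h).hom.comp φ).IsIntegralElem z) :
    ∃ c, (Y.presheaf.stalkSpecializes h).hom c = z := by
  obtain ⟨V, hV, hyV, -⟩ := exists_isAffineOpen_mem_and_subset (x := y) (U := (⊤ : Y.Opens)) trivial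
  have hηV : η ∈ V := h.mem_open V.2 hyV
  set σ := (Y.presheaf.stalkSpecializes h).hom with hσ
  letI := (isField_stalk hη).toField
  haveI := (hY y).1
  haveI := (hY y).2
  letI algy := Y.presheaf.algebra_section_stalk ⟨y, hyV⟩
  haveI := hV.isLocalization_stalk ⟨y, hyV⟩
  letI algη := Y.presheaf.algebra_section_stalk ⟨η, hηV⟩
  haveI := hV.isLocalization_stalk ⟨η, hηV⟩
  have hcomp : ∀ a : Γ(Y, V), σ (Y.presheaf.germ V y hyV a) = Y.presheaf.germ V η hηV a := fun a =>
    TopCat.Presheaf.germ_stalkSpecializes_apply Y.presheaf hyV h a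
  letI := σ.toAlgebra
  have hinj : Function.Injective σ := by
    rw [injective_iff_map_eq_zero]
    intro c hc
    obtain ⟨a, s, rfl⟩ := IsLocalization.exists_mk'_eq (hV.primeIdealOf ⟨y, hyV⟩).asIdeal.primeCompl c
    have h1 := congrArg σ (IsLocalization.mk'_spec (Y.presheaf.stalk y) a s)
    rw [map_mul, hc, zero_mul] at h1
    have h2 : algebraMap Γ(Y, V) (Y.presheaf.stalk η) a = 0 := (hcomp a).symm.trans h1.symm
    obtain ⟨⟨t, ht⟩, hta⟩ := (IsLocalization.map_eq_zero_iff (hV.primeIdealOf ⟨η, hηV⟩).asIdeal.primeCompl _ a).mp h2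
    have ht0 : algebraMap Γ(Y, V) (Y.presheaf.stalk y) t ≠ 0 := fun h0 => by
      have h3 : algebraMap Γ(Y, V) (Y.presheaf.stalk η) t = 0 := (hcomp t).symm.trans ((congrArg σ h0).trans (map_zero σ))
      exact (IsLocalization.map_units (Y.presheaf.stalk η) (⟨t, ht⟩ : (hV.primeIdealOf ⟨η, hηV⟩).asIdeal.primeCompl)).ne_zero h3
    have h4 := congrArg (algebraMap Γ(Y, V) (Y.presheaf.stalk y)) hta
    rw [map_mul, map_zero] at h4
    rw [IsLocalization.mk'_eq_zero_iff]
    have h5 := (mul_eq_zero.mp h4).resolve_left ht0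
    exact (IsLocalization.map_eq_zero_iff (hV.primeIdealOf ⟨y, hyV⟩).asIdeal.primeCompl _ a).mp h5
  haveI : FaithfulSMul (Y.presheaf.stalk y) (Y.presheaf.stalk η) := (faithfulSMul_iff_algebraMap_injective _ _).mpr hinj
  haveI : IsFractionRing (Y.presheaf.stalk y) (Y.presheaf.stalk η) := IsFractionRing.of_field _ _ fun w => by
    obtain ⟨a, s, rfl⟩ := IsLocalization.exists_mk'_eq (hV.primeIdealOf ⟨η, hηV⟩).asIdeal.primeCompl w
    refine ⟨Y.presheaf.germ V y hyV a, Y.presheaf.germ V y hyV s, Eq.symm ?_⟩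
    show σ (Y.presheaf.germ V y hyV a) / σ (Y.presheaf.germ V y hyV s) = _
    rw [hcomp, hcomp, div_eq_iff]
    · exact (IsLocalization.mk'_spec _ _ _).symm
    · exact (IsLocalization.map_units (Y.presheaf.stalk η) s).ne_zero
  have h2 : IsIntegral (Y.presheaf.stalk y) z := by
    obtain ⟨p, hp, hp'⟩ := hz
    refine ⟨p.map φ, hp.map _, ?_⟩
    rw [Polynomial.eval₂_map]
    exact hp'
  exact IsIntegrallyClosed.isIntegral_iff.mp h2

/-- Glue prescribed values at the generic points. -/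
theorem exists_section (hY : Pi1.IsNormalScheme Y) (W : Y.Opens)
    (hG : {η : Y | η ∈ W ∧ IsGen η}.Finite) (zs : ∀ η : {η : Y // η ∈ W ∧ IsGen η}, Y.presheaf.stalk η.1)
    (hzs : ∀ (η : {η : Y // η ∈ W ∧ IsGen η}) (y : Y) (h : η.1 ⤳ y), y ∈ W →
      ∃ c, (Y.presheaf.stalkSpecializes h).hom c = zs η) :
    ∃ b : Γ(Y, W), ∀ η : {η : Y // η ∈ W ∧ IsGen η}, Y.presheaf.germ W η.1 η.2.1 b = zs η := by
  have key : ∀ y : W, ∃ (N : Y.Opens) (_ : y.1 ∈ N) (_ : N ≤ W) (s : Γ(Y, N)),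
      ∀ (η : {η : Y // η ∈ W ∧ IsGen η}) (hη : η.1 ∈ N), Y.presheaf.germ N η.1 hη s = zs η := by
    intro y
    obtain ⟨μ, hμ, hμy⟩ := exists_gen y.1
    let η₀ : {η : Y // η ∈ W ∧ IsGen η} := ⟨μ, hμy.mem_open W.2 y.2, hμ⟩
    obtain ⟨c, hc⟩ := hzs η₀ y.1 hμy y.2
    obtain ⟨N₀, hyN₀, s, rfl⟩ := Y.presheaf.exists_germ_eq c
    let F : Set Y := ⋃ η ∈ {η : Y | η ∈ W ∧ IsGen η} \ {μ}, closure {η}
    have hF : IsClosed F := (hG.subset Set.sdiff_subset).isClosed_biUnion fun η _ => isClosed_closure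
    have hyF : y.1 ∉ F := fun hy => by
      obtain ⟨η, ⟨⟨hηW, hη⟩, hne⟩, hηy⟩ := Set.mem_iUnion₂.mp hy
      exact hne (gen_unique hY hη hμ (specializes_iff_mem_closure.mpr hηy) hμy)
    refine ⟨N₀ ⊓ W ⊓ ⟨Fᶜ, hF.isOpen_compl⟩, ⟨⟨hyN₀, y.2⟩, hyF⟩, inf_le_left.trans inf_le_right,
      Y.presheaf.map (homOfLE (inf_le_left.trans inf_le_left)).op s, fun η hη => ?_⟩
    have he : η = η₀ := Subtype.ext (by_contra fun hne =>
      hη.2 (Set.mem_iUnion₂.mpr ⟨η.1, ⟨η.2, hne⟩, subset_closure rfl⟩))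
    subst he
    rw [TopCat.Presheaf.germ_res_apply, ← hc]
    exact (TopCat.Presheaf.germ_stalkSpecializes_apply Y.presheaf hyN₀ hμy s).symm
  choose N hyN hNW s hs using key
  have hcompat : TopCat.Presheaf.IsCompatible Y.presheaf N s := fun i j => ext_of_germ _ _ fun η hη hηm => by
    let η' : {η : Y // η ∈ W ∧ IsGen η} := ⟨η, hNW i hηm.1, hη⟩
    rw [TopCat.Presheaf.germ_res_apply, TopCat.Presheaf.germ_res_apply, hs i η', hs j η']
  obtain ⟨b, hb, -⟩ := TopCat.Sheaf.existsUnique_gluing' Y.sheaf N W (fun i => homOfLE (hNW i))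
    (fun x hx => Opens.mem_iSup.mpr ⟨⟨x, hx⟩, hyN ⟨x, hx⟩⟩) s hcompat
  refine ⟨b, fun η => ?_⟩
  rw [← hs ⟨η.1, η.2.1⟩ η (hyN _), ← hb ⟨η.1, η.2.1⟩]
  exact (TopCat.Presheaf.germ_res_apply Y.presheaf _ _ _ b).symm

section Ring

variable {A : Type u} [CommRing A] (W : Y.Opens) [Algebra A Γ(Y, W)]

/-- The value at a generic point of an element of the integral closure. -/
abbrev val (η : {η : Y // η ∈ W ∧ IsGen η}) : integralClosure A Γ(Y, W) →+* Y.presheaf.stalk η.1 :=
  (Y.presheaf.germ W η.1 η.2.1).hom.comp (integralClosure A Γ(Y, W)).val.toRingHom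

/-- The prime of a component. -/
def pt (η : {η : Y // η ∈ W ∧ IsGen η}) : PrimeSpectrum (integralClosure A Γ(Y, W)) :=
  ⟨RingHom.ker (val (A := A) W η),
    haveI : IsDomain (Y.presheaf.stalk η.1) := (isField_stalk η.2.2).isDomain
    RingHom.ker_isPrime _⟩

theorem ext_val {a b : integralClosure A Γ(Y, W)} (h : ∀ η, val (A := A) W η a = val W η b) : a = b :=
  Subtype.ext (ext_of_germ _ _ fun η hη hηW => h ⟨η, hηW, hη⟩)

variable (hY : Pi1.IsNormalScheme Y) (hG : {η : Y | η ∈ W ∧ IsGen η}.Finite)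
include hY hG

/-- The idempotent of a component. -/
theorem exists_idem [DecidableEq {η : Y // η ∈ W ∧ IsGen η}] (η : {η : Y // η ∈ W ∧ IsGen η}) :
    ∃ e : integralClosure A Γ(Y, W), ∀ μ, val (A := A) W μ e = if μ = η then 1 else 0 := by
  obtain ⟨b, hb⟩ := exists_section hY W hG (fun μ => if μ = η then 1 else 0) fun μ y h _ => by
    by_cases he : μ = η
    · exact ⟨1, by rw [if_pos he, map_one]⟩
    · exact ⟨0, by rw [if_neg he, map_zero]⟩
  have hbb : b * b = b := ext_of_germ _ _ fun μ hμ hμW => by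
    rw [map_mul, hb ⟨μ, hμW, hμ⟩]
    split_ifs <;> simp
  have hint : IsIntegral A b := ⟨Polynomial.X ^ 2 - Polynomial.X,
    Polynomial.monic_X_pow_sub (Polynomial.degree_X_le.trans_lt (by exact_mod_cast one_lt_two)), by
      rw [Polynomial.eval₂_sub, Polynomial.eval₂_X_pow, Polynomial.eval₂_X, sq, hbb, sub_self]⟩
  exact ⟨⟨b, hint⟩, hb⟩

theorem exists_notMem (P : Ideal (integralClosure A Γ(Y, W))) [P.IsPrime] :
    ∃ (η : {η : Y // η ∈ W ∧ IsGen η}) (e : integralClosure A Γ(Y, W)),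
      e ∉ P ∧ ∀ c, val W η c = 0 → e * c = 0 := by
  classical
  haveI : Finite {η : Y // η ∈ W ∧ IsGen η} := hG.to_subtype
  haveI := Fintype.ofFinite {η : Y // η ∈ W ∧ IsGen η}
  choose e he using exists_idem (A := A) W hY hG
  have hsum : ∑ η, e η = 1 := ext_val W fun μ => by
    rw [map_sum, map_one]
    simp only [he]
    rw [Finset.sum_ite_eq, if_pos (Finset.mem_univ _)]
  obtain ⟨η, hη⟩ : ∃ η, e η ∉ P := by
    by_contra hc
    push Not at hc
    exact Ideal.IsPrime.one_notMem ‹_› (hsum ▸ P.sum_mem fun η _ => hc η)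
  refine ⟨η, e η, hη, fun c hc => ext_val W fun μ => ?_⟩
  rw [map_mul, he, map_zero]
  split_ifs with h
  · subst h; rw [hc, mul_zero]
  · rw [zero_mul]

theorem pt_le (P : PrimeSpectrum (integralClosure A Γ(Y, W))) : ∃ η, (pt (A := A) W η).asIdeal ≤ P.asIdeal := by
  obtain ⟨η, e, he, hec⟩ := exists_notMem W hY hG P.asIdeal
  exact ⟨η, fun c hc => (P.isPrime.mem_or_mem ((hec c hc).symm ▸ zero_mem _)).resolve_left he⟩

theorem eq_pt_of_le {Q : PrimeSpectrum (integralClosure A Γ(Y, W))} {η : {η : Y // η ∈ W ∧ IsGen η}}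
    (h : Q.asIdeal ≤ (pt (A := A) W η).asIdeal) : Q = pt W η := by
  classical
  obtain ⟨e, he⟩ := exists_idem (A := A) W hY hG η
  haveI : IsDomain (Y.presheaf.stalk η.1) := (isField_stalk η.2.2).isDomain
  refine PrimeSpectrum.ext (le_antisymm h fun c hc => ?_)
  have hec : e * c = 0 := ext_val W fun μ => by
    rw [map_mul, he, map_zero]
    split_ifs with hμ
    · subst hμ; rw [show val (A := A) W μ c = 0 from hc, mul_zero]
    · rw [zero_mul]
  refine (Q.isPrime.mem_or_mem (hec.symm ▸ zero_mem _)).resolve_left fun heQ => ?_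
  have := (show val (A := A) W η e = 0 from h heQ)
  rw [he, if_pos rfl] at this
  exact one_ne_zero this

theorem pt_injective : Function.Injective (pt (A := A) W) := by
  classical
  intro η μ h
  obtain ⟨e, he⟩ := exists_idem (A := A) W hY hG η
  by_contra hne
  haveI : IsDomain (Y.presheaf.stalk η.1) := (isField_stalk η.2.2).isDomain
  have h1 : e ∈ (pt (A := A) W μ).asIdeal := by
    show val (A := A) W μ e = 0
    rw [he, if_neg (Ne.symm hne)]
  rw [← h] at h1
  have h2 : val (A := A) W η e = 0 := h1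
  rw [he, if_pos rfl] at h2
  exact one_ne_zero h2

theorem stalk_normal (P : Ideal (integralClosure A Γ(Y, W))) [P.IsPrime] (O : Type u) [CommRing O]
    [Algebra (integralClosure A Γ(Y, W)) O] [IsLocalization.AtPrime O P] :
    IsDomain O ∧ IsIntegrallyClosed O := by
  classical
  obtain ⟨η, e, heP, hec⟩ := exists_notMem W hY hG P
  letI := (isField_stalk η.2.2).toField
  have hle : ∀ c : integralClosure A Γ(Y, W), c ∉ P → IsUnit (val W η c) := fun c hc => by
    rw [isUnit_iff_ne_zero]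
    intro h0
    exact hc ((Ideal.IsPrime.mem_or_mem ‹_› ((hec c h0).symm ▸ zero_mem P)).resolve_left heP)
  let j : O →+* Y.presheaf.stalk η.1 := IsLocalization.lift (M := P.primeCompl) fun c => hle c.1 c.2
  have hjC : ∀ c, j (algebraMap _ O c) = val W η c := fun c => IsLocalization.lift_eq _ c
  have hinj : Function.Injective j := by
    rw [injective_iff_map_eq_zero]
    intro x hx
    obtain ⟨c, s, rfl⟩ := IsLocalization.exists_mk'_eq P.primeCompl x
    rw [IsLocalization.mk'_eq_zero_iff]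
    refine ⟨⟨e, heP⟩, hec c ?_⟩
    have h1 := congrArg j (IsLocalization.mk'_spec O c s)
    rw [map_mul, hx, zero_mul] at h1
    rw [← hjC]; exact h1.symm
  haveI : IsDomain O := hinj.isDomain j
  refine ⟨inferInstance, Groth.L19.NormalSec.isIntegrallyClosed_of_injective j hinj fun z hz => ?_⟩
  letI algO : Algebra O (Y.presheaf.stalk η.1) := j.toAlgebra
  letI algC : Algebra (integralClosure A Γ(Y, W)) (Y.presheaf.stalk η.1) := (val W η).toAlgebra
  haveI : IsScalarTower (integralClosure A Γ(Y, W)) O (Y.presheaf.stalk η.1) :=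
    IsScalarTower.of_algebraMap_eq fun c => (hjC c).symm
  obtain ⟨m, hm⟩ := IsIntegral.exists_multiple_integral_of_isLocalization P.primeCompl z (show IsIntegral O z from hz)
  set w := val W η m.1 * z with hw
  have hwA : ((val W η).comp (algebraMap A (integralClosure A Γ(Y, W)))).IsIntegralElem w :=
    Groth.L19.NormalSec.isIntegralElem_comp (algebraMap_isIntegral_iff.mpr inferInstance) (by
      rw [hw]
      exact hm)
  obtain ⟨b, hb⟩ := exists_section hY W hG (Function.update (fun _ => 0) η w) fun μ y h hyW => by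
    by_cases hμ : μ = η
    · subst hμ
      rw [Function.update_self]
      refine exists_stalk_eq hY μ.2.2 h ((Y.presheaf.germ W y hyW).hom.comp (algebraMap A Γ(Y, W))) w ?_
      have hcomp : (Y.presheaf.stalkSpecializes h).hom.comp ((Y.presheaf.germ W y hyW).hom.comp (algebraMap A Γ(Y, W))) =
          (val W μ).comp (algebraMap A (integralClosure A Γ(Y, W))) := RingHom.ext fun a =>
        TopCat.Presheaf.germ_stalkSpecializes_apply Y.presheaf hyW h _
      rw [hcomp]
      exact hwA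
    · exact ⟨0, by rw [Function.update_of_ne hμ, map_zero]⟩
  have hbint : IsIntegral A b := by
    obtain ⟨p, hp, hp'⟩ := hwA
    refine ⟨p * Polynomial.X, hp.mul Polynomial.monic_X, ext_of_germ _ _ fun μ hμ hμW => ?_⟩
    rw [map_zero, Polynomial.hom_eval₂, hb ⟨μ, hμW, hμ⟩, Polynomial.eval₂_mul, Polynomial.eval₂_X]
    by_cases he : (⟨μ, hμW, hμ⟩ : {η : Y // η ∈ W ∧ IsGen η}) = η
    · subst he
      rw [Function.update_self]
      exact mul_eq_zero_of_left hp' _
    · rw [Function.update_of_ne he, mul_zero]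
  refine ⟨IsLocalization.mk' O (⟨b, hbint⟩ : integralClosure A Γ(Y, W)) m, ?_⟩
  have h1 := congrArg j (IsLocalization.mk'_spec O (⟨b, hbint⟩ : integralClosure A Γ(Y, W)) m)
  rw [map_mul, hjC, hjC] at h1
  refine mul_right_cancel₀ (hle m.1 m.2).ne_zero (h1.trans ?_)
  show (Y.presheaf.germ W η.1 η.2.1) b = z * val W η m.1
  rw [hb η, Function.update_self, hw, mul_comm]

end Ring

theorem main {X : Scheme.{u}} (f : Y ⟶ X) [QuasiCompact f] [QuasiSeparated f] (hY : Pi1.IsNormalScheme Y)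
    (hfin : LocallyFinite (fun Z : ↥(irreducibleComponents ↥Y) => (Z : Set ↥Y))) :
    Pi1.IsNormalScheme f.normalization ∧
    LocallyFinite (fun Z : ↥(irreducibleComponents ↥f.normalization) => (Z : Set ↥f.normalization)) ∧
    (∀ y : Y, closure {y} ∈ irreducibleComponents ↥Y →
      closure {f.toNormalization.base y} ∈ irreducibleComponents ↥f.normalization) ∧
    (∀ x' : ↥f.normalization, closure {x'} ∈ irreducibleComponents ↥f.normalization →
      ∃! y : Y, closure {y} ∈ irreducibleComponents ↥Y ∧ f.toNormalization.base y = x') := by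
  letI algU : ∀ U : X.affineOpens, Algebra Γ(X, U.1) Γ(Y, f ⁻¹ᵁ U.1) := fun U => (f.app U.1).hom.toAlgebra
  have hG : ∀ U : X.affineOpens, {η : Y | η ∈ f ⁻¹ᵁ U.1 ∧ IsGen η}.Finite := fun U => by
    have h := hfin.finite_nonempty_inter_compact (f.isCompact_preimage U.2.isCompact)
    refine Set.Finite.of_finite_image (f := fun η : Y => closure ({η} : Set Y))
      ((h.image Subtype.val).subset ?_) fun a _ b _ hab => (inseparable_iff_closure_eq.2 hab).eq
    rintro _ ⟨η, ⟨hηW, hη⟩, rfl⟩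
    exact ⟨⟨_, hη⟩, ⟨η, subset_closure rfl, hηW⟩, rfl⟩
  let Cl : X.affineOpens → Type u := fun U => integralClosure Γ(X, U.1) Γ(Y, f ⁻¹ᵁ U.1)
  let j : ∀ U : X.affineOpens, Spec (CommRingCat.of (integralClosure Γ(X, U.1) Γ(Y, f ⁻¹ᵁ U.1))) ⟶ f.normalization :=
    fun U => f.normalizationOpenCover.f U
  haveI hj : ∀ U, IsOpenImmersion (j U) := fun U => inferInstanceAs (IsOpenImmersion (f.normalizationOpenCover.f U))
  have himg : ∀ (U : X.affineOpens) (η : {η : Y // η ∈ f ⁻¹ᵁ U.1 ∧ IsGen η}),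
      j U (pt (A := Γ(X, U.1)) (f ⁻¹ᵁ U.1) η) = f.toNormalization η.1 := by
    intro U η
    let y : ↥(f ⁻¹ᵁ U.1) := ⟨η.1, η.2.1⟩
    have h1 := congrArg (fun g => g.base y) (f.ι_toNormalization U)
    refine Eq.trans (congrArg (j U) ?_) h1.symm
    refine PrimeSpectrum.ext (Ideal.ext fun c => ?_)
    show val (f ⁻¹ᵁ U.1) η c = 0 ↔ (integralClosure Γ(X, U.1) Γ(Y, f ⁻¹ᵁ U.1)).val c ∈ ((f ⁻¹ᵁ U.1).toSpecΓ y).asIdeal
    rw [← not_iff_not, Groth.L06.NormDVR.mem_toSpecΓ, Scheme.mem_basicOpen Y _ η.1 η.2.1]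
    letI := (isField_stalk η.2.2).toField
    exact isUnit_iff_ne_zero.symm
  have hchart : ∀ x' : ↥f.normalization, ∃ (U : X.affineOpens) (P : PrimeSpectrum (Cl U)), j U P = x' := by
    intro x'
    obtain ⟨U, hU, hxU, -⟩ := exists_isAffineOpen_mem_and_subset (x := f.fromNormalization x') (U := (⊤ : X.Opens)) trivial
    obtain ⟨P, hP⟩ : x' ∈ (f.normalizationOpenCover.f ⟨U, hU⟩).opensRange :=
      (f.fromNormalization_preimage ⟨U, hU⟩) ▸ hxU
    exact ⟨⟨U, hU⟩, P, hP⟩
  have hgen : ∀ (U : X.affineOpens) (P : PrimeSpectrum (Cl U)),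
      IsGen (Y := f.normalization) (j U P) ↔ ∀ Q : PrimeSpectrum (Cl U), Q.asIdeal ≤ P.asIdeal → Q = P := by
    intro U P
    rw [isGen_iff]
    refine ⟨fun h Q hQ => (j U).isOpenEmbedding.injective
      (h _ (((PrimeSpectrum.le_iff_specializes Q P).mp hQ).map (j U).continuous)), fun h z hz => ?_⟩
    obtain ⟨Q, rfl⟩ : z ∈ (j U).opensRange := hz.mem_open (j U).opensRange.2 ⟨P, rfl⟩
    refine congrArg (j U) (h Q ?_)
    exact (PrimeSpectrum.le_iff_specializes Q P).mpr ((j U).isOpenEmbedding.isInducing.specializes_iff.mp hz)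
  have hgenpt : ∀ (U : X.affineOpens) (P : PrimeSpectrum (Cl U)), IsGen (Y := f.normalization) (j U P) →
      ∃ η, P = pt (A := Γ(X, U.1)) (f ⁻¹ᵁ U.1) η := fun U P hP => by
    obtain ⟨η, hη⟩ := pt_le (A := Γ(X, U.1)) (f ⁻¹ᵁ U.1) hY (hG U) P
    exact ⟨η, ((hgen U P).mp hP _ hη).symm⟩
  refine ⟨fun x' => ?_, fun x' => ?_, fun y hy => ?_, fun x' hx' => ?_⟩
  · obtain ⟨U, P, rfl⟩ := hchart x'
    let O := (Spec (CommRingCat.of (Cl U))).presheaf.stalk P
    letI : Algebra (Cl U) O := StructureSheaf.stalkAlgebra (Cl U) P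
    haveI : IsLocalization.AtPrime O P.asIdeal := StructureSheaf.IsLocalization.to_stalk (Cl U) P
    obtain ⟨h1, h2⟩ := stalk_normal (A := Γ(X, U.1)) (f ⁻¹ᵁ U.1) hY (hG U) P.asIdeal O
    let ε := (asIso ((j U).stalkMap P)).commRingCatIsoToRingEquiv
    exact ⟨ε.toMulEquiv.isDomain _, IsIntegrallyClosed.of_equiv ε.symm⟩
  · obtain ⟨U, P, rfl⟩ := hchart x'
    refine ⟨(j U).opensRange, (j U).opensRange.2.mem_nhds ⟨P, rfl⟩, ?_⟩
    haveI : Finite {η : Y // η ∈ f ⁻¹ᵁ U.1 ∧ IsGen η} := (hG U).to_subtype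
    refine ((Set.finite_range fun η : {η : Y // η ∈ f ⁻¹ᵁ U.1 ∧ IsGen η} =>
      closure ({f.toNormalization η.1} : Set ↥f.normalization)).preimage Subtype.val_injective.injOn).subset ?_
    rintro ⟨Z, hZ⟩ ⟨z, hzZ, hzU⟩
    obtain ⟨ξ, hξ⟩ := QuasiSober.sober hZ.1 (isClosed_of_mem_irreducibleComponents Z hZ)
    obtain ⟨Q, hQ⟩ : ξ ∈ (j U).opensRange := (hξ.specializes hzZ).mem_open (j U).opensRange.2 hzU
    obtain ⟨η, hη⟩ := hgenpt U Q (by rw [hQ, IsGen, hξ.def]; exact hZ)
    refine ⟨η, ?_⟩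
    show closure {f.toNormalization η.1} = Z
    rw [← himg U η, ← hη, hQ, hξ.def]
  · obtain ⟨U, hU, hyU, -⟩ := exists_isAffineOpen_mem_and_subset (x := f y) (U := (⊤ : X.Opens)) trivial
    letI : Algebra Γ(X, U) Γ(Y, f ⁻¹ᵁ U) := algU ⟨U, hU⟩
    let η : {η : Y // η ∈ f ⁻¹ᵁ U ∧ IsGen η} := ⟨y, hyU, hy⟩
    have h := himg ⟨U, hU⟩ η
    show IsGen (Y := f.normalization) (f.toNormalization η.1)
    rw [← h, hgen]
    exact fun Q hQ => eq_pt_of_le (A := Γ(X, U)) (f ⁻¹ᵁ U) hY (hG ⟨U, hU⟩) hQ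
  · obtain ⟨U, P, rfl⟩ := hchart x'
    obtain ⟨η, rfl⟩ := hgenpt U P hx'
    refine ⟨η.1, ⟨η.2.2, (himg U η).symm⟩, fun y ⟨hy, hye⟩ => ?_⟩
    have hfy : f y ∈ U.1 := by
      rw [← f.toNormalization_fromNormalization, Scheme.Hom.comp_apply]
      show f.fromNormalization (f.toNormalization.base y) ∈ U.1
      rw [hye]
      exact (f.fromNormalization_preimage U).ge ⟨_, rfl⟩
    let μ : {η : Y // η ∈ f ⁻¹ᵁ U.1 ∧ IsGen η} := ⟨y, hfy, hy⟩
    have hpt : pt (A := Γ(X, U.1)) (f ⁻¹ᵁ U.1) μ = pt (f ⁻¹ᵁ U.1) η :=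
      (j U).isOpenEmbedding.injective ((himg U μ).trans hye)
    exact congrArg Subtype.val (pt_injective (A := Γ(X, U.1)) (f ⁻¹ᵁ U.1) hY (hG U) hpt)

end Groth.L06.NormNormal

end
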