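import Groth.Agent.L02.CAlg.RegularDescend
import Groth.Agent.L06.NormalTensorApps
import Groth.Agent.L06.CatenaryUnibranch
import Groth.Agent.L05.Henselization.RegularEtale
import Groth.Agent.L05.Henselization.FormalDomain
import Groth.Agent.L05.Hensel.Perm

/-! Henselization of a local ring with geometrically normal formal fibres (the descent along ind-étale
maps is the proof of `Groth.L02.RegularDescend.isRegularHom_of_indEtale` with normality for regularity). -/

set_option autoImplicit false
set_option maxSynthPendingDepth 3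
set_option linter.style.haveILetI false
noncomputable section
universe u
open TensorProduct IsLocalRing

namespace Groth.L06.NormalHensel

/-- A fibre cut out of another by an idempotent. -/
theorem geomNor_factor {A B C k L : Type u} [CommRing A] [CommRing B] [CommRing C] [Field k]
    [Field L] [Algebra A B] [Algebra B C] [Algebra A C] [IsScalarTower A B C] [Algebra A k]
    [Algebra A L] [Algebra k L] [IsScalarTower A k L] [Algebra B L] [IsScalarTower A B L]
    (hs : Function.Surjective (Algebra.TensorProduct.lift (Algebra.ofId k L)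
      (IsScalarTower.toAlgHom A B L) fun _ _ => Commute.all _ _))
    (e : k ⊗[A] B) (he : IsIdempotentElem e)
    (hker : RingHom.ker (Algebra.TensorProduct.lift (Algebra.ofId k L)
      (IsScalarTower.toAlgHom A B L) fun _ _ => Commute.all _ _) = Ideal.span {e})
    (h : EGA4.IsGeomNormal k (k ⊗[A] C)) :
    EGA4.IsGeomNormal k (L ⊗[B] C) := by
  let φ : k ⊗[A] B →ₐ[k] L := Algebra.TensorProduct.lift (Algebra.ofId k L)
    (IsScalarTower.toAlgHom A B L) fun _ _ => Commute.all _ _
  let inR : C →ₐ[A] L ⊗[B] C :=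
    (Algebra.TensorProduct.includeRight : C →ₐ[B] L ⊗[B] C).restrictScalars A
  let ψ : k ⊗[A] C →ₐ[k] L ⊗[B] C := Algebra.TensorProduct.lift
    (Algebra.ofId k (L ⊗[B] C))
    inR fun _ _ => Commute.all _ _
  let μ : k ⊗[A] B →ₐ[k] k ⊗[A] C :=
    Algebra.TensorProduct.map (AlgHom.id k k) (IsScalarTower.toAlgHom A B C)
  have hψμ : ∀ t, ψ (μ t) = φ t ⊗ₜ[B] 1 := by
    intro t
    induction t using TensorProduct.induction_on with
    | zero => simp
    | add a b ha hb => simp only [map_add, ha, hb, TensorProduct.add_tmul]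
    | tmul a b =>
      simp only [μ, ψ, φ, inR, Algebra.TensorProduct.map_tmul, Algebra.TensorProduct.lift_tmul,
        AlgHom.coe_id, id_eq, IsScalarTower.coe_toAlgHom', AlgHom.restrictScalars_apply,
        Algebra.TensorProduct.includeRight_apply, Algebra.ofId_apply]
      rw [Algebra.TensorProduct.algebraMap_apply, Algebra.TensorProduct.tmul_mul_tmul]
      simp only [Algebra.algebraMap_self, RingHom.id_apply, mul_one, one_mul]
      rw [Algebra.algebraMap_eq_smul_one (A := C), ← TensorProduct.smul_tmul, Algebra.smul_def,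
        mul_comm]
  letI : Algebra (k ⊗[A] C) (L ⊗[B] C) := ψ.toRingHom.toAlgebra
  haveI : IsScalarTower k (k ⊗[A] C) (L ⊗[B] C) :=
    IsScalarTower.of_algebraMap_eq fun x => (ψ.commutes x).symm
  have hsurj : Function.Surjective ψ := by
    intro z
    induction z using TensorProduct.induction_on with
    | zero => exact ⟨0, map_zero _⟩
    | add a b ha hb =>
      obtain ⟨a', rfl⟩ := ha
      obtain ⟨b', rfl⟩ := hb
      exact ⟨a' + b', map_add _ _ _⟩
    | tmul l c =>
      obtain ⟨t, rfl⟩ := hs l
      refine ⟨μ t * (1 ⊗ₜ c), ?_⟩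
      rw [map_mul, hψμ]
      simp [ψ, φ, inR]
  have he' : IsIdempotentElem (μ e) := he.map μ
  have hφe : φ e = 0 := by
    rw [← RingHom.mem_ker]
    exact hker ▸ Ideal.mem_span_singleton_self e
  have hkerψ : RingHom.ker ψ = Ideal.span {μ e} := by
    refine le_antisymm ?_ (Ideal.span_le.mpr (Set.singleton_subset_iff.mpr ?_))
    · let Z := (k ⊗[A] C) ⧸ Ideal.span {μ e}
      let π : k ⊗[A] C →+* Z := Ideal.Quotient.mk _
      letI : Algebra B Z := (π.comp ((Algebra.TensorProduct.includeRight : C →ₐ[A] k ⊗[A] C).toRingHom.comp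
        (algebraMap B C))).toAlgebra
      have hle : RingHom.ker φ.toRingHom ≤ RingHom.ker (π.comp μ.toRingHom) := by
        intro t ht
        have ht' : t ∈ RingHom.ker φ := ht
        rw [hker, Ideal.mem_span_singleton'] at ht'
        obtain ⟨a, rfl⟩ := ht'
        show π (μ (a * e)) = 0
        rw [map_mul, Ideal.Quotient.eq_zero_iff_mem]
        exact Ideal.mul_mem_left _ _ (Ideal.mem_span_singleton_self _)
      let g₀ : L →+* Z := φ.toRingHom.liftOfSurjective hs ⟨π.comp μ.toRingHom, hle⟩
      have hg₀ : ∀ t, g₀ (φ t) = π (μ t) := fun t =>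
        RingHom.liftOfRightInverse_comp_apply _ _ _ ⟨π.comp μ.toRingHom, hle⟩ t
      let g : L →ₐ[B] Z := { g₀ with
        commutes' := fun b => by
          have : φ (1 ⊗ₜ b) = algebraMap B L b := by simp [φ]
          show g₀ (algebraMap B L b) = _
          rw [← this, hg₀]
          simp [μ]
          rfl }
      let inC : C →ₐ[B] Z :=
        { π.comp (Algebra.TensorProduct.includeRight : C →ₐ[A] k ⊗[A] C).toRingHom with
          commutes' := fun b => rfl }
      let hh : L ⊗[B] C →ₐ[B] Z := Algebra.TensorProduct.lift g inC fun _ _ => Commute.all _ _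
      have hhψ : ∀ x, hh (ψ x) = π x := by
        intro x
        induction x using TensorProduct.induction_on with
        | zero => simp
        | add a b ha hb => simp only [map_add, ha, hb]
        | tmul a c =>
          have h1 : ψ (a ⊗ₜ c) = φ (a ⊗ₜ 1) ⊗ₜ c := by simp [ψ, φ, inR]
          rw [h1]
          show g (φ (a ⊗ₜ 1)) * inC c = _
          rw [show g (φ (a ⊗ₜ 1)) = π (μ (a ⊗ₜ 1)) from hg₀ _]
          show π _ * π _ = π _
          rw [← map_mul]
          simp [μ]
      intro x hx
      rw [← Ideal.Quotient.eq_zero_iff_mem]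
      change π x = 0
      rw [← hhψ, show ψ x = 0 from hx, map_zero]
    · show ψ (μ e) = 0
      rw [hψμ, hφe, TensorProduct.zero_tmul]
  haveI : IsLocalization.Away (1 - μ e) (L ⊗[B] C) :=
    IsLocalization.away_of_isIdempotentElem he'.one_sub (by
      rw [sub_sub_cancel]; exact hkerψ) hsurj
  exact Groth.L06.NormalTensor.isGeomNormal_of_isLocalization h
    (Submonoid.powers (1 - μ e)) _

/-- `A → B` ind-étale, `A → C` regular, `B → C` flat: then `B → C` is regular. -/
theorem isNormalHom_of_indEtale {A B C : Type u} [CommRing A] [CommRing B] [CommRing C]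
    [IsNoetherianRing B] [IsNoetherianRing C] [Algebra A B] [Algebra B C] [Algebra A C]
    [IsScalarTower A B C] [Module.Flat B C] (hB : EtPBC.IsIndEtale A B)
    (hC : EGA4.IsNormalHom A C) : EGA4.IsNormalHom B C := by
  refine ⟨inferInstance, fun Q _ => ?_⟩
  haveI hN : IsNoetherianRing (Q.Fiber C) := by
    haveI : IsNoetherianRing (C ⊗[B] Q.ResidueField) :=
      Algebra.EssFiniteType.isNoetherianRing C (C ⊗[B] Q.ResidueField)
    exact isNoetherianRing_of_ringEquiv _ (Algebra.TensorProduct.comm B C Q.ResidueField).toRingEquiv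
  let p := Q.comap (algebraMap A B)
  letI : Algebra p.ResidueField Q.ResidueField :=
    (Ideal.ResidueField.map p Q (algebraMap A B) rfl).toAlgebra
  haveI : IsScalarTower A p.ResidueField Q.ResidueField := IsScalarTower.of_algebraMap_eq fun a => by
    rw [IsScalarTower.algebraMap_apply A B Q.ResidueField]
    exact (Ideal.ResidueField.map_algebraMap p Q (algebraMap A B) rfl a).symm
  haveI := Groth.L27.IndEtale.weaklyEtale A B hB
  haveI : Algebra.IsSeparable p.ResidueField Q.ResidueField :=
    Groth.L05.WE.isSeparable_residueField_of_weaklyEtale p Q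
  haveI := Groth.L27.IndEtale.weaklyEtale p.ResidueField (p.ResidueField ⊗[A] B)
    (Groth.L27.IndEtale.baseChange A B p.ResidueField hB)
  haveI : IsNoetherianRing (p.ResidueField ⊗[A] B) := by
    haveI : IsNoetherianRing (B ⊗[A] p.ResidueField) :=
      Algebra.EssFiniteType.isNoetherianRing B (B ⊗[A] p.ResidueField)
    exact isNoetherianRing_of_ringEquiv _ (Algebra.TensorProduct.comm A B p.ResidueField).toRingEquiv
  let φ : p.ResidueField ⊗[A] B →ₐ[p.ResidueField] Q.ResidueField :=
    Algebra.TensorProduct.lift (Algebra.ofId _ _) (IsScalarTower.toAlgHom A B Q.ResidueField)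
      fun _ _ => Commute.all _ _
  have hBr : ∀ b : B, φ (1 ⊗ₜ b) = algebraMap B Q.ResidueField b := fun b => by simp [φ]
  have hs : Function.Surjective φ := by
    intro x
    obtain ⟨a, ⟨s, hs⟩, rfl⟩ := IsLocalization.exists_mk'_eq (nonZeroDivisors (B ⧸ Q)) x
    obtain ⟨a, rfl⟩ := Ideal.Quotient.mk_surjective a
    obtain ⟨s, rfl⟩ := Ideal.Quotient.mk_surjective s
    have h0 : φ (1 ⊗ₜ s) ≠ 0 := by
      rw [hBr, Ne, Ideal.algebraMap_residueField_eq_zero]
      exact fun hsQ => nonZeroDivisors.ne_zero hs (Ideal.Quotient.eq_zero_iff_mem.mpr hsQ)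
    obtain ⟨c, hc⟩ := Groth.L05.WE.exists_mul_mul_eq p.ResidueField (p.ResidueField ⊗[A] B)
      ((1 : p.ResidueField) ⊗ₜ s)
    have h1 := congrArg φ hc
    rw [map_mul, map_mul, mul_assoc] at h1
    refine ⟨(1 ⊗ₜ a) * c, ?_⟩
    have h2 : φ (1 ⊗ₜ s) * φ c = 1 := mul_left_cancel₀ h0 (h1.trans (mul_one _).symm)
    rw [IsFractionRing.mk'_eq_div, map_mul, hBr]
    show _ = algebraMap (B ⧸ Q) Q.ResidueField (Ideal.Quotient.mk Q a) /
      algebraMap (B ⧸ Q) Q.ResidueField (Ideal.Quotient.mk Q s)
    have hq : ∀ b : B, algebraMap (B ⧸ Q) Q.ResidueField (Ideal.Quotient.mk Q b) =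
        algebraMap B Q.ResidueField b := fun b =>
      (IsScalarTower.algebraMap_apply B (B ⧸ Q) Q.ResidueField b).symm
    rw [hq, hq, eq_div_iff (by rw [← hBr]; exact h0), ← hBr s, mul_assoc, mul_comm (φ c), h2,
      mul_one]
  obtain ⟨e, he, hker⟩ := (Ideal.isIdempotentElem_iff_of_fg (RingHom.ker φ)
    (IsNoetherian.noetherian _)).mp (le_antisymm Ideal.mul_le_left fun y hy => by
      obtain ⟨c, hc⟩ := Groth.L05.WE.exists_mul_mul_eq p.ResidueField (p.ResidueField ⊗[A] B) y
      rw [← hc, mul_assoc]
      exact Ideal.mul_mem_mul hy (Ideal.mul_mem_right _ _ hy))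
  have h1 : EGA4.IsGeomNormal p.ResidueField (Q.ResidueField ⊗[B] C) :=
    geomNor_factor hs e he (by rw [← Ideal.submodule_span_eq]; exact hker) (hC.2 p)
  exact Groth.L06.NormalTensor.isGeomNormal_of_separable h1

theorem henselianLocalRing_quotient {S : Type u} [CommRing S] [HenselianLocalRing S] (P : Ideal S) [IsLocalRing (S ⧸ P)] :
    HenselianLocalRing (S ⧸ P) := by
  haveI h : HenselianRing (S ⧸ P) ((maximalIdeal S).map (Ideal.Quotient.mk P)) :=
    Groth.L05.henselianRing_quotient (maximalIdeal S) P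
  refine ⟨fun f hf a₀ h1 h2 => ?_⟩
  rw [← IsLocalRing.map_maximalIdeal_of_surjective (Ideal.Quotient.mk P) Ideal.Quotient.mk_surjective] at h1 ⊢
  exact h.is_henselian f hf a₀ h1 (h2.map _)

open Groth.L05.Henselization in
theorem isFormallyCatenary (R S : Type u) [CommRing R] [IsLocalRing R] [IsNoetherianRing R]
    [CommRing S] [IsLocalRing S] [IsNoetherianRing S] [Algebra R S] [IsLocalHom (algebraMap R S)]
    [Hensel.IsHenselization R S] (hA : EGA4.HasGeomNormalFormalFibres R) : EGA4.IsFormallyCatenary S := by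
  have hP := isPairHenselization_of_isHenselization (R := R) (S := S)
  have hm : (maximalIdeal R).map (algebraMap R S) = maximalIdeal S :=
    map_maximalIdeal_of_isPairHenselization R hP
  have hres : ∀ b : S, ∃ a : R, b - algebraMap R S a ∈ maximalIdeal S := by
    intro b
    obtain ⟨-, hs⟩ := Groth.L05.Henselization.quotientMap_pow_bijective R (maximalIdeal R) hP 1
    obtain ⟨x, hx⟩ := hs (Ideal.Quotient.mk _ b)
    obtain ⟨a, rfl⟩ := Ideal.Quotient.mk_surjective x
    rw [Ideal.quotientMap_mk, Ideal.Quotient.eq, pow_one, hm] at hx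
    exact ⟨a, by simpa using neg_mem hx⟩
  haveI := flat_of_isHenselization R S
  obtain ⟨ε, hε⟩ := Groth.L21.Nodal.exists_completion_equiv R S hm hres
  haveI : IsNoetherianRing (EGA4.Cpl R) := Groth.Agent.S0543.result _ _
  haveI : IsNoetherianRing (EGA4.Cpl S) := Groth.Agent.S0543.result _ _
  haveI : Module.Flat S (EGA4.Cpl S) := AdicCompletion.flat_of_isNoetherian _
  haveI : Module.Flat R (EGA4.Cpl S) := Module.Flat.trans R S _
  let e : EGA4.Cpl R ≃ₐ[R] EGA4.Cpl S := AlgEquiv.ofRingEquiv (f := ε) fun a => by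
    rw [IsScalarTower.algebraMap_apply R S (EGA4.Cpl S)]
    exact hε a
  have hRS : EGA4.IsNormalHom R (EGA4.Cpl S) := by
    refine ⟨inferInstance, fun p _ L _ _ hL => ?_⟩
    exact Groth.L06.NormalAscent.isNormalRing_of_ringEquiv
      (Algebra.TensorProduct.congr (AlgEquiv.refl : L ≃ₐ[p.ResidueField] L)
        (Algebra.TensorProduct.congr (AlgEquiv.refl : p.ResidueField ≃ₐ[p.ResidueField] p.ResidueField) e)).toRingEquiv
      (hA p L hL)
  obtain ⟨eh⟩ := henselization_algEquiv R S
  have hS : EGA4.HasGeomNormalFormalFibres S :=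
    (isNormalHom_of_indEtale (isIndEtale_of_algEquiv eh isIndEtale) hRS).2
  haveI : HenselianLocalRing S := Hensel.IsHenselization.henselian (R := R)
  intro P _
  haveI : IsLocalRing (S ⧸ P) := IsLocalRing.of_surjective' (Ideal.Quotient.mk P) Ideal.Quotient.mk_surjective
  haveI : Nontrivial (S ⧸ P) := Ideal.Quotient.nontrivial_iff.mpr (Ideal.IsPrime.ne_top inferInstance)
  haveI : HenselianLocalRing (S ⧸ P) := henselianLocalRing_quotient P
  haveI : IsDomain (EGA4.Cpl (S ⧸ P)) := Groth.L05.Henselization.FormalDomain.isDomain_cpl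
    (Groth.L06.CplQuotient.formalFibre_quotient_normal hS P)
  intro r hr
  rw [IsDomain.minimalPrimes_eq_singleton_bot] at hr
  rw [Set.mem_singleton_iff.1 hr]
  exact ringKrullDim_eq_of_ringEquiv (RingEquiv.quotientBot _)

end Groth.L06.NormalHensel
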