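import Groth.Agent.L06.NormalTensorFlat
import Groth.Agent.L06.NormalClosed

/-! Integral closure commutes with flat base change having reduced field fibres. -/

set_option autoImplicit false
set_option maxSynthPendingDepth 3
set_option linter.style.haveILetI false
noncomputable section
universe u
open Polynomial TensorProduct

namespace Groth.L06.NormalTensor

theorem exists_dvr_of_not_isIntegral' {C L : Type u} [CommRing C] [IsNoetherianRing C] [Field L] [Algebra C L]
    {S : Set L} (hS : S.Finite) (hgenC : Subfield.closure (Set.range (algebraMap C L) ∪ S) = ⊤)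
    (p : Ideal C) [p.IsPrime] (x : L)
    (hx : ∀ u ∉ p, ¬ IsIntegral C (algebraMap C L u * x)) :
    ∃ V : ValuationSubring L, IsDiscreteValuationRing V ∧ (∀ c, algebraMap C L c ∈ V) ∧
      ∀ u ∉ p, algebraMap C L u * x ∉ V := by
  let Cp := Localization.AtPrime p
  have hunit : ∀ u : p.primeCompl, IsUnit (algebraMap C L u) := fun u => isUnit_iff_ne_zero.mpr
    fun h => hx u u.2 (by rw [h, zero_mul]; exact isIntegral_zero)
  let g : Cp →+* L := IsLocalization.lift hunit
  letI : Algebra Cp L := g.toAlgebra
  haveI : IsScalarTower C Cp L := IsScalarTower.of_algebraMap_eq fun c => (IsLocalization.lift_eq hunit c).symm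
  have hxint : ¬ IsIntegral Cp x := fun h => by
    obtain ⟨⟨u, hu⟩, hux⟩ := IsIntegral.exists_multiple_integral_of_isLocalization p.primeCompl x h
    rw [Submonoid.smul_def, Algebra.smul_def] at hux
    exact hx u hu hux
  obtain ⟨V, hV, hxV⟩ : ∃ V : ValuationSubring L, (∀ a, algebraMap Cp L a ∈ V) ∧ x ∉ V := by
    by_contra hne
    push Not at hne
    have hmem : x ∈ (⨅ V : {V : ValuationSubring L // Set.range (algebraMap Cp L) ⊆ V.toSubring}, V.1.toSubring) :=
      Subring.mem_iInf.mpr fun V => hne V.1 fun a => V.2 ⟨a, rfl⟩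
    rw [iInf_valuationSubring_superset] at hmem
    obtain ⟨q, hq, hqx⟩ := (hmem : IsIntegral (Subring.closure (Set.range (algebraMap Cp L))) x)
    refine hxint ?_
    have hle : Subring.closure (Set.range (algebraMap Cp L)) ≤ (algebraMap Cp L).range := Subring.closure_le.mpr subset_rfl
    have hlift : q.map (Subring.subtype _) ∈ lifts (algebraMap Cp L) := (lifts_iff_coeff_lifts _).mpr fun i => by
      rw [coeff_map]; exact hle (q.coeff i).2
    obtain ⟨q', hq', -, hq'm⟩ := lifts_and_natDegree_eq_and_monic hlift (hq.map _)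
    exact ⟨q', hq'm, by rw [← eval_map, hq', eval_map]; exact hqx⟩
  let f : Cp[X] →+* L := eval₂RingHom g x⁻¹
  letI : Algebra Cp[X] L := f.toAlgebra
  have hx0 : x ≠ 0 := fun h => hxV (h ▸ V.zero_mem)
  have hinv : V.valuation x⁻¹ < 1 := by
    rw [map_inv₀, inv_lt_one₀ (zero_lt_iff.mpr (V.valuation.ne_zero_iff.mpr hx0))]
    exact lt_of_not_ge fun h => hxV ((V.valuation_le_one_iff x).mp h)
  have hgen : Subfield.closure (Set.range (algebraMap Cp[X] L) ∪ S) = ⊤ := by
    refine top_le_iff.mp (hgenC ▸ Subfield.closure_mono (Set.union_subset_union_left _ ?_))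
    rintro _ ⟨c, rfl⟩
    exact ⟨Polynomial.C (algebraMap C Cp c), by
      show f (Polynomial.C _) = _
      rw [coe_eval₂RingHom, eval₂_C]; exact (IsScalarTower.algebraMap_apply C Cp L c).symm⟩
  obtain ⟨W, hW, hWA, hWp⟩ := Groth.L18.exists_isDiscreteValuationRing_of_le hS hgen
    (Ideal.span {(X : Cp[X])}) V
    (fun a => by
      induction a using Polynomial.induction_on' with
      | add q q' hq hq' => rw [map_add]; exact add_mem hq hq'
      | monomial i c =>
        show f (monomial i c) ∈ V
        rw [coe_eval₂RingHom, eval₂_monomial]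
        exact mul_mem (hV c) (pow_mem ((V.valuation_le_one_iff _).mp hinv.le) i))
    (fun a ha => by
      obtain ⟨r, rfl⟩ := Ideal.mem_span_singleton'.mp ha
      show V.valuation (f (r * X)) < 1
      rw [map_mul, map_mul, show f X = x⁻¹ from eval₂_X _ _]
      refine lt_of_le_of_lt (mul_le_of_le_one_left zero_le ?_) hinv
      refine (V.valuation_le_one_iff _).mpr ?_
      induction r using Polynomial.induction_on' with
      | add q q' hq hq' =>
        rw [map_add]
        exact add_mem (hq (Ideal.mem_span_singleton'.mpr ⟨q, rfl⟩)) (hq' (Ideal.mem_span_singleton'.mpr ⟨q', rfl⟩))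
      | monomial i c =>
        rw [coe_eval₂RingHom, eval₂_monomial]
        exact mul_mem (hV c) (pow_mem ((V.valuation_le_one_iff _).mp hinv.le) i))
    ⟨X, Ideal.mem_span_singleton_self _, by show f X ≠ 0; rw [show f X = x⁻¹ from eval₂_X _ _]; exact inv_ne_zero hx0⟩
  have hcW : ∀ c, algebraMap Cp L c ∈ W := fun c => by
    have h := hWA (Polynomial.C c)
    rwa [show algebraMap Cp[X] L (Polynomial.C c) = algebraMap Cp L c from eval₂_C _ _] at h
  refine ⟨W, hW, fun c => IsScalarTower.algebraMap_apply C Cp L c ▸ hcW _, fun u hu hux => ?_⟩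
  have hxW : x ∈ W := by
    obtain ⟨v, hv⟩ := (IsLocalization.map_units Cp (⟨u, hu⟩ : p.primeCompl)).exists_left_inv
    have := mul_mem (hcW v) hux
    rwa [IsScalarTower.algebraMap_apply C Cp L u, ← mul_assoc, ← map_mul, hv, map_one, one_mul] at this
  have h1 := hWp X (Ideal.mem_span_singleton_self _)
  rw [show algebraMap Cp[X] L X = x⁻¹ from eval₂_X _ _, map_inv₀,
    inv_lt_one₀ (zero_lt_iff.mpr (W.valuation.ne_zero_iff.mpr hx0))] at h1
  exact absurd ((W.valuation_le_one_iff x).mpr hxW) (not_le.mpr h1)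

variable {R : Type u} [CommRing R] (A' : Type u) [CommRing A'] [Algebra R A'] [Module.Flat R A']

/-- Noetherian base mapping to a finitely generated field -/
theorem key_field {C L : Type u} [CommRing C] [IsNoetherianRing C] [Algebra R C] [Field L] [Algebra C L]
    [Algebra R L] [IsScalarTower R C L]
    (hred : ∀ (κ : Type u) [Field κ] [Algebra R κ], IsReduced (A' ⊗[R] κ))
    [IsNoetherianRing R] {S : Set L} (hS : S.Finite) (hgen : Subfield.closure (Set.range (algebraMap C L) ∪ S) = ⊤)
    (y : A' ⊗[R] L)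
    (hy : (Algebra.TensorProduct.map (AlgHom.id R A') (IsScalarTower.toAlgHom R C L)).toRingHom.IsIntegralElem y)
    (F : Submodule C L) [Module.Finite C F] (hyF : y ∈ LinearMap.range (((F.subtype).restrictScalars R).lTensor A')) :
    y ∈ LinearMap.range (((Subalgebra.toSubmodule (integralClosure C L)).subtype.restrictScalars R).lTensor A') := by
  classical
  let ι := {V : ValuationSubring L // IsDiscreteValuationRing V ∧ ∀ c, algebraMap C L c ∈ V}
  let D : Submodule C L := Subalgebra.toSubmodule (integralClosure C L)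
  let Vm : ι → Submodule C L := fun i =>
    { carrier := (i.1 : Set L)
      add_mem' := fun ha hb => add_mem ha hb
      zero_mem' := i.1.zero_mem
      smul_mem' := fun c z hz => by
        rw [Algebra.smul_def]
        exact mul_mem (i.2.2 c) hz }
  have hDV : ∀ i : ι, D ≤ Vm i := fun i z hz => by
    obtain ⟨q, hq, hqz⟩ := (hz : IsIntegral C z)
    letI : Algebra C i.1 := ((algebraMap C L).codRestrict i.1 i.2.2).toAlgebra
    haveI : IsIntegrallyClosedIn i.1 L := inferInstanceAs (IsIntegrallyClosedIn i.1 L)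
    obtain ⟨v, hv⟩ := (IsIntegrallyClosedIn.isIntegral_iff (R := i.1) (A := L) (x := z)).mp
      ⟨q.map (algebraMap C i.1), hq.map _, by rw [eval₂_map]; exact hqz⟩
    exact hv ▸ v.2
  let J : Submodule C F := D.comap F.subtype
  let φ : ∀ i, (F ⧸ J) →ₗ[C] L ⧸ Vm i := fun i =>
    J.liftQ ((Vm i).mkQ.comp F.subtype) fun z hz => by
      rw [LinearMap.mem_ker, LinearMap.comp_apply, Submodule.mkQ_apply, Submodule.Quotient.mk_eq_zero]
      exact hDV i hz
  obtain ⟨s, hs⟩ := exists_finset_jointly_injective φ (fun P hP z hz => by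
    obtain ⟨x, rfl⟩ := Submodule.Quotient.mk_surjective J z
    haveI := hP
    obtain ⟨V, hV, hCV, hVu⟩ := exists_dvr_of_not_isIntegral' hS hgen P (x : L) fun u hu hint => by
      refine hz u hu ?_
      rw [← Submodule.Quotient.mk_smul, Submodule.Quotient.mk_eq_zero]
      show u • (x : L) ∈ D
      rw [Algebra.smul_def]
      exact hint
    refine ⟨⟨V, hV, hCV⟩, fun u hu h0 => hVu u hu ?_⟩
    rw [← Submodule.Quotient.mk_smul] at h0
    have h1 : u • (x : L) ∈ Vm ⟨V, hV, hCV⟩ := (Submodule.Quotient.mk_eq_zero (Vm ⟨V, hV, hCV⟩)).mp h0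
    rw [Algebra.smul_def] at h1
    exact h1)
  obtain ⟨w, rfl⟩ := hyF
  let π : (F ⧸ J) →ₗ[R] ((i : s) → L ⧸ Vm i.1) := LinearMap.pi fun i => (φ i.1).restrictScalars R
  have hπ : Function.Injective π := by
    rw [injective_iff_map_eq_zero]
    exact fun z hz => hs z fun i hi => congrFun hz ⟨i, hi⟩
  have hzero : (J.mkQ.restrictScalars R).lTensor A' w = 0 := by
    refine Module.Flat.lTensor_preserves_injective_linearMap (M := A') π hπ ?_
    rw [map_zero]
    refine (TensorProduct.piRight R R A' fun i : s => L ⧸ Vm i.1).injective ?_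
    rw [map_zero]
    funext i
    have hcomp : ∀ x : A' ⊗[R] F, TensorProduct.piRight R R A' (fun i : s => L ⧸ Vm i.1)
        (π.lTensor A' ((J.mkQ.restrictScalars R).lTensor A' x)) i =
        (((Vm i.1).mkQ).restrictScalars R).lTensor A' ((F.subtype.restrictScalars R).lTensor A' x) := fun x => by
      induction x using TensorProduct.induction_on with
      | zero => simp
      | add a b ha hb => simp only [map_add, Pi.add_apply, ha, hb]
      | tmul a c =>
        simp only [LinearMap.lTensor_tmul, TensorProduct.piRight_apply, TensorProduct.piRightHom_tmul]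
        rfl
    rw [hcomp, Pi.zero_apply]
    let V := i.1.1
    letI : Algebra C V := ((algebraMap C L).codRestrict V i.1.2.2).toAlgebra
    letI : Algebra R V := ((algebraMap C V).comp (algebraMap R C)).toAlgebra
    haveI : IsScalarTower R V L := IsScalarTower.of_algebraMap_eq fun r => IsScalarTower.algebraMap_apply R C L r
    let g : C →ₐ[R] V := { algebraMap C V with commutes' := fun r => rfl }
    obtain ⟨v, hv⟩ := mem_range_of_isIntegralElem A' hred V L ((F.subtype.restrictScalars R).lTensor A' w) (by
      obtain ⟨q, hq, hqy⟩ := hy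
      refine ⟨q.map (Algebra.TensorProduct.map (AlgHom.id R A') g).toRingHom, hq.map _, ?_⟩
      rw [eval₂_map]
      refine Eq.trans ?_ hqy
      congr 1
      refine RingHom.ext fun x => ?_
      induction x using TensorProduct.induction_on with
      | zero => simp
      | add a b ha hb => rw [map_add, map_add, ha, hb]
      | tmul a b => rfl)
    rw [← hv]
    clear hv
    induction v using TensorProduct.induction_on with
    | zero => simp
    | add a b ha hb => rw [map_add, map_add, ha, hb, add_zero]
    | tmul a b =>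
      show a ⊗ₜ[R] (Submodule.Quotient.mk (b : L) : L ⧸ Vm i.1) = 0
      rw [(Submodule.Quotient.mk_eq_zero (Vm i.1)).mpr b.2, tmul_zero]
  have hex : Function.Exact ((J.subtype.restrictScalars R).lTensor A') ((J.mkQ.restrictScalars R).lTensor A') :=
    lTensor_exact A' (fun c => by simp [Submodule.Quotient.mk_eq_zero]) (Submodule.mkQ_surjective J)
  obtain ⟨j, rfl⟩ := (hex w).mp hzero
  let inc : J →ₗ[C] D := ((F.subtype).comp J.subtype).codRestrict D fun z => z.2
  refine ⟨(inc.restrictScalars R).lTensor A' j, ?_⟩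
  rw [← LinearMap.comp_apply, ← LinearMap.comp_apply, ← LinearMap.lTensor_comp, ← LinearMap.lTensor_comp]
  rfl

/-- `A' ⊗ (closure of B in K)` for a field `K` -/
theorem mem_closure_of_field [IsNoetherianRing R] (hred : ∀ (κ : Type u) [Field κ] [Algebra R κ], IsReduced (A' ⊗[R] κ))
    (C K : Type u) [CommRing C] [IsNoetherianRing C] [Algebra R C] [Field K] [Algebra C K] [Algebra R K]
    [IsScalarTower R C K] {S : Set K} (hS : S.Finite) (hgen : Subfield.closure (Set.range (algebraMap C K) ∪ S) = ⊤)
    (y : A' ⊗[R] K)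
    (hy : (Algebra.TensorProduct.map (AlgHom.id R A') (IsScalarTower.toAlgHom R C K)).toRingHom.IsIntegralElem y) :
    ((Subalgebra.toSubmodule (integralClosure C K)).mkQ.restrictScalars R).lTensor A' y = 0 := by
  obtain ⟨N, hN, hs⟩ := TensorProduct.exists_finite_submodule_right_of_setFinite ({y} : Set (A' ⊗[R] K)) (Set.finite_singleton y)
  obtain ⟨t, ht⟩ := Module.Finite.iff_fg.mp hN
  let F : Submodule C K := Submodule.span C (t : Set K)
  haveI : Module.Finite C F := Module.Finite.span_of_finite C t.finite_toSet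
  have hNF : N ≤ F.restrictScalars R := ht ▸ Submodule.span_le.mpr Submodule.subset_span
  obtain ⟨w, hw⟩ := hs rfl
  obtain ⟨d, hd⟩ := key_field A' hred hS hgen y hy F ⟨(Submodule.inclusion hNF).lTensor A' w, by
    rw [← hw]; exact (LinearMap.lTensor_comp_apply _ _ _ _).symm.trans rfl⟩
  rw [← hd, ← LinearMap.comp_apply, ← LinearMap.lTensor_comp]
  have : ((Subalgebra.toSubmodule (integralClosure C K)).mkQ.restrictScalars R).comp
      ((Subalgebra.toSubmodule (integralClosure C K)).subtype.restrictScalars R) = 0 :=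
    LinearMap.ext fun z => (Submodule.Quotient.mk_eq_zero _).mpr z.2
  rw [this, LinearMap.lTensor_zero, LinearMap.zero_apply]

theorem isIntegral_of_forall_minimalPrimes {B C : Type u} [CommRing B] [CommRing C] [Algebra B C] [IsNoetherianRing C]
    (x : C) (h : ∀ q ∈ minimalPrimes C, ∃ p : B[X], p.Monic ∧ aeval x p ∈ q) : IsIntegral B x := by
  classical
  let ι := { q : Ideal C // q ∈ minimalPrimes C }
  haveI : Fintype ι := (minimalPrimes.finite_of_isNoetherianRing C).fintype
  choose p hp hpx using fun q : ι => h q.1 q.2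
  let P : B[X] := ∏ q : ι, p q
  have hP : P.Monic := monic_prod_of_monic _ _ fun q _ => hp q
  obtain ⟨N, hN⟩ : IsNilpotent (aeval x P) := by
    refine mem_nilradical.mp ?_
    rw [nilradical, ← Ideal.sInf_minimalPrimes, Submodule.mem_sInf]
    intro q hq
    rw [map_prod]
    exact Ideal.mem_of_dvd q (Finset.dvd_prod_of_mem _ (Finset.mem_univ (⟨q, hq⟩ : ι))) (hpx ⟨q, hq⟩)
  exact ⟨P ^ N, hP.pow N, by rw [← aeval_def, map_pow, hN]⟩

/-- Noetherian case -/
theorem mem_range_closure_noetherian [IsNoetherianRing R]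
    (hred : ∀ (κ : Type u) [Field κ] [Algebra R κ], IsReduced (A' ⊗[R] κ))
    (B C : Type u) [CommRing B] [CommRing C] [IsNoetherianRing B] [IsNoetherianRing C] [Algebra R B] [Algebra R C]
    [Algebra B C] [IsScalarTower R B C] [Algebra.FiniteType R C] (y : A' ⊗[R] C)
    (hy : (Algebra.TensorProduct.map (AlgHom.id R A') (IsScalarTower.toAlgHom R B C)).toRingHom.IsIntegralElem y) :
    y ∈ LinearMap.range (((Subalgebra.toSubmodule (integralClosure B C)).subtype.restrictScalars R).lTensor A') := by
  classical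
  let D : Submodule B C := Subalgebra.toSubmodule (integralClosure B C)
  let ι := { q : Ideal C // q ∈ minimalPrimes C }
  haveI : Fintype ι := (minimalPrimes.finite_of_isNoetherianRing C).fintype
  haveI : ∀ q : ι, q.1.IsPrime := fun q => q.2.1.1
  haveI : ∀ q : ι, IsDomain (C ⧸ q.1) := fun q => Ideal.Quotient.isDomain q.1
  let π : ∀ q : ι, C →ₐ[B] FractionRing (C ⧸ q.1) := fun q =>
    (IsScalarTower.toAlgHom B (C ⧸ q.1) (FractionRing (C ⧸ q.1))).comp (Ideal.Quotient.mkₐ B q.1)
  let G : ι → Type u := fun q => FractionRing (C ⧸ q.1) ⧸ Subalgebra.toSubmodule (integralClosure B (FractionRing (C ⧸ q.1)))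
  let φ : ∀ q : ι, (C ⧸ D) →ₗ[B] G q := fun q =>
    D.liftQ ((Submodule.mkQ _).comp (π q).toLinearMap) fun z hz => by
      rw [LinearMap.mem_ker, LinearMap.comp_apply, Submodule.mkQ_apply, Submodule.Quotient.mk_eq_zero]
      exact (hz : IsIntegral B z).map (π q)
  let Pm : (C ⧸ D) →ₗ[R] ((q : ι) → G q) := LinearMap.pi fun q => (φ q).restrictScalars R
  have hPm : Function.Injective Pm := by
    rw [injective_iff_map_eq_zero]
    intro z hz
    obtain ⟨x, rfl⟩ := Submodule.Quotient.mk_surjective D z
    rw [Submodule.Quotient.mk_eq_zero]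
    refine isIntegral_of_forall_minimalPrimes x fun q hq => ?_
    haveI : Ideal.IsPrime q := hq.1.1
    obtain ⟨p, hp, hpx⟩ : IsIntegral B (π ⟨q, hq⟩ x) := (Submodule.Quotient.mk_eq_zero _).mp (congrFun hz ⟨q, hq⟩)
    refine ⟨p, hp, Ideal.Quotient.eq_zero_iff_mem.mp (IsFractionRing.injective (C ⧸ q) (FractionRing (C ⧸ q)) ?_)⟩
    rw [map_zero, ← hpx, ← aeval_def, aeval_algHom_apply]
    rfl
  have hex : Function.Exact ((D.subtype.restrictScalars R).lTensor A') ((D.mkQ.restrictScalars R).lTensor A') :=
    lTensor_exact A' (fun c => by simp [Submodule.Quotient.mk_eq_zero]) (Submodule.mkQ_surjective D)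
  refine (hex y).mp ?_
  refine Module.Flat.lTensor_preserves_injective_linearMap (M := A') Pm hPm ?_
  rw [map_zero]
  refine (TensorProduct.piRight R R A' G).injective ?_
  rw [map_zero]
  funext q
  let g := Algebra.TensorProduct.map (AlgHom.id R A') ((π q).restrictScalars R)
  have hcomp : ∀ x : A' ⊗[R] C, TensorProduct.piRight R R A' G (Pm.lTensor A' ((D.mkQ.restrictScalars R).lTensor A' x)) q =
      ((Subalgebra.toSubmodule (integralClosure B (FractionRing (C ⧸ q.1)))).mkQ.restrictScalars R).lTensor A' (g x) := fun x => by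
    induction x using TensorProduct.induction_on with
    | zero => simp
    | add a b ha hb => simp only [map_add, Pi.add_apply, ha, hb]
    | tmul a c =>
      simp only [LinearMap.lTensor_tmul, TensorProduct.piRight_apply, TensorProduct.piRightHom_tmul, g, Algebra.TensorProduct.map_tmul]
      rfl
  rw [hcomp, Pi.zero_apply]
  obtain ⟨t, ht⟩ := (inferInstance : Algebra.FiniteType R C).out
  refine mem_closure_of_field A' hred B (FractionRing (C ⧸ q.1)) (S := π q '' (t : Set C)) (t.finite_toSet.image _) ?_ (g y) ?_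
  · refine eq_top_iff.mpr fun z _ => ?_
    obtain ⟨a, b, -, rfl⟩ := IsFractionRing.div_surjective (A := C ⧸ q.1) z
    suffices h : ∀ c : C, π q c ∈ Subfield.closure (Set.range (algebraMap B (FractionRing (C ⧸ q.1))) ∪ π q '' (t : Set C)) by
      obtain ⟨a, rfl⟩ := Ideal.Quotient.mk_surjective a
      obtain ⟨b, rfl⟩ := Ideal.Quotient.mk_surjective b
      exact div_mem (h a) (h b)
    intro c
    have hc : c ∈ Algebra.adjoin R (t : Set C) := ht ▸ trivial
    induction hc using Algebra.adjoin_induction with
    | mem x hx => exact Subfield.subset_closure (Or.inr ⟨x, hx, rfl⟩)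
    | algebraMap r =>
      refine Subfield.subset_closure (Or.inl ⟨algebraMap R B r, ?_⟩)
      rw [IsScalarTower.algebraMap_apply R B C r]; exact ((π q).commutes _).symm
    | add x z _ _ hx hz => rw [map_add]; exact add_mem hx hz
    | mul x z _ _ hx hz => rw [map_mul]; exact mul_mem hx hz
  · obtain ⟨p, hp, hpy⟩ := hy
    refine ⟨p, hp, ?_⟩
    have hc : (Algebra.TensorProduct.map (AlgHom.id R A') (IsScalarTower.toAlgHom R B (FractionRing (C ⧸ q.1)))).toRingHom =
        g.toRingHom.comp (Algebra.TensorProduct.map (AlgHom.id R A') (IsScalarTower.toAlgHom R B C)).toRingHom := by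
      refine RingHom.ext fun x => ?_
      induction x using TensorProduct.induction_on with
      | zero => simp
      | add a b ha hb => rw [map_add, map_add, ha, hb]
      | tmul a b =>
        show a ⊗ₜ[R] algebraMap B (FractionRing (C ⧸ q.1)) b = a ⊗ₜ[R] π q (algebraMap B C b)
        rw [(π q).commutes]
    rw [hc, show g y = g.toRingHom y from rfl, ← hom_eval₂, hpy, map_zero]

/-- integral closure commutes with the base change -/
theorem mem_range_closure [IsNoetherianRing R] (hred : ∀ (κ : Type u) [Field κ] [Algebra R κ], IsReduced (A' ⊗[R] κ))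
    (B C : Type u) [CommRing B] [CommRing C] [Algebra R B] [Algebra R C] [Algebra B C] [IsScalarTower R B C]
    (y : A' ⊗[R] C)
    (hy : (Algebra.TensorProduct.map (AlgHom.id R A') (IsScalarTower.toAlgHom R B C)).toRingHom.IsIntegralElem y) :
    y ∈ LinearMap.range (((Subalgebra.toSubmodule (integralClosure B C)).subtype.restrictScalars R).lTensor A') := by
  classical
  obtain ⟨p, hp, hpy⟩ := hy
  obtain ⟨NB, hNB, hsB⟩ := TensorProduct.exists_finite_submodule_right_of_setFinite
    (↑(p.support.image p.coeff) : Set (A' ⊗[R] B)) (Finset.finite_toSet _)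
  obtain ⟨tB, htB⟩ := Module.Finite.iff_fg.mp hNB
  obtain ⟨NC, hNC, hsC⟩ := TensorProduct.exists_finite_submodule_right_of_setFinite ({y} : Set (A' ⊗[R] C)) (Set.finite_singleton y)
  obtain ⟨tC, htC⟩ := Module.Finite.iff_fg.mp hNC
  let B0 : Subalgebra R B := Algebra.adjoin R (tB : Set B)
  let C0 : Subalgebra R C := Algebra.adjoin R (↑(tB.image (algebraMap B C) ∪ tC) : Set C)
  haveI : Algebra.FiniteType R B0 := ⟨(Subalgebra.fg_top B0).mpr (Subalgebra.fg_adjoin_finset _)⟩
  haveI : Algebra.FiniteType R C0 := ⟨(Subalgebra.fg_top C0).mpr (Subalgebra.fg_adjoin_finset _)⟩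
  haveI : IsNoetherianRing B0 := Algebra.FiniteType.isNoetherianRing R B0
  haveI : IsNoetherianRing C0 := Algebra.FiniteType.isNoetherianRing R C0
  have hBC : B0.map (IsScalarTower.toAlgHom R B C) ≤ C0 := by
    rw [AlgHom.map_adjoin]
    refine Algebra.adjoin_mono ?_
    rintro _ ⟨b, hb, rfl⟩
    exact Finset.mem_coe.mpr (Finset.mem_union_left _ (Finset.mem_image_of_mem _ hb))
  let i0 : B0 →ₐ[R] C0 := ((IsScalarTower.toAlgHom R B C).comp B0.val).codRestrict C0 fun b => hBC ⟨b, b.2, rfl⟩
  letI algBC : Algebra B0 C0 := i0.toRingHom.toAlgebra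
  haveI : IsScalarTower R B0 C0 := IsScalarTower.of_algebraMap_eq fun r => (i0.commutes r).symm
  let gB := Algebra.TensorProduct.map (AlgHom.id R A') B0.val
  let gC := Algebra.TensorProduct.map (AlgHom.id R A') C0.val
  have hgC : Function.Injective gC :=
    Module.Flat.lTensor_preserves_injective_linearMap (M := A') C0.val.toLinearMap Subtype.val_injective
  have hNB0 : NB ≤ Subalgebra.toSubmodule B0 := htB ▸ Submodule.span_le.mpr Algebra.subset_adjoin
  have hNC0 : NC ≤ Subalgebra.toSubmodule C0 := htC ▸ Submodule.span_le.mpr fun x hx =>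
    Algebra.subset_adjoin (Finset.mem_coe.mpr (Finset.mem_union_right _ hx))
  obtain ⟨y0, rfl⟩ : ∃ y0, gC y0 = y := by
    obtain ⟨w, hw⟩ := hsC rfl
    refine ⟨(Submodule.inclusion hNC0).lTensor A' w, ?_⟩
    rw [← hw]
    show C0.val.toLinearMap.lTensor A' ((Submodule.inclusion hNC0).lTensor A' w) = _
    rw [← LinearMap.comp_apply, ← LinearMap.lTensor_comp]
    rfl
  have hlift : p ∈ Polynomial.lifts gB.toRingHom := (lifts_iff_coeff_lifts p).mpr fun i => by
    by_cases hi : i ∈ p.support
    · obtain ⟨w, hw⟩ := hsB (Finset.mem_coe.mpr (Finset.mem_image_of_mem p.coeff hi))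
      refine ⟨(Submodule.inclusion hNB0).lTensor A' w, ?_⟩
      rw [← hw]
      show B0.val.toLinearMap.lTensor A' ((Submodule.inclusion hNB0).lTensor A' w) = _
      rw [← LinearMap.comp_apply, ← LinearMap.lTensor_comp]
      rfl
    · exact ⟨0, by rw [map_zero, notMem_support_iff.mp hi]⟩
  obtain ⟨p0, hp0, -, hp0m⟩ := lifts_and_natDegree_eq_and_monic hlift hp
  obtain ⟨d, hd⟩ := mem_range_closure_noetherian A' hred B0 C0 y0 ⟨p0, hp0m, hgC (by
    rw [map_zero, ← hpy, ← hp0, eval₂_map]
    show gC.toRingHom _ = _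
    rw [hom_eval₂]
    congr 1
    refine RingHom.ext fun x => ?_
    induction x using TensorProduct.induction_on with
    | zero => simp
    | add a b ha hb => rw [map_add, map_add, ha, hb]
    | tmul a b => rfl)⟩
  let inc : (Subalgebra.toSubmodule (integralClosure B0 C0)).restrictScalars R →ₗ[R]
      (Subalgebra.toSubmodule (integralClosure B C)).restrictScalars R :=
    (C0.val.toLinearMap.comp ((Subalgebra.toSubmodule (integralClosure B0 C0)).subtype.restrictScalars R)).codRestrict _ fun z => by
      obtain ⟨q, hq, hqz⟩ := (z.2 : IsIntegral B0 (z : C0))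
      refine ⟨q.map B0.val.toRingHom, hq.map _, ?_⟩
      rw [eval₂_map]
      have h := congrArg C0.val.toRingHom hqz
      rw [hom_eval₂, map_zero] at h
      exact h
  refine ⟨inc.lTensor A' d, ?_⟩
  rw [← hd]
  show _ = C0.val.toLinearMap.lTensor A' _
  refine (LinearMap.lTensor_comp_apply _ _ _ _).symm.trans ?_
  refine Eq.trans ?_ (LinearMap.lTensor_comp_apply _ _ _ _)
  rfl

end Groth.L06.NormalTensor
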