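import Groth.Agent.L06.NormalTensorApps
import Groth.Agent.L06.NormalIntClosure

/-! Tensor products of normal domains with separable fraction fields. -/

set_option autoImplicit false
set_option maxSynthPendingDepth 3
noncomputable section
universe u
open TensorProduct

namespace Groth.L06.NormalTensor

theorem isIntegralElem_of_comp {R S T : Type u} [CommRing R] [CommRing S] [CommRing T] {f : R →+* S} {g : S →+* T}
    {y : T} (hy : (g.comp f).IsIntegralElem y) : g.IsIntegralElem y := by
  obtain ⟨p, hp, he⟩ := hy
  exact ⟨p.map f, hp.map f, by rwa [Polynomial.eval₂_map]⟩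

variable {k : Type u} [Field k]

theorem isReduced_tensor_of_geomReduced (L : Type u) [Field L] [Algebra k L] [Algebra.IsGeometricallyReduced k L]
    (κ : Type u) [Field κ] [Algebra k κ] : IsReduced (L ⊗[k] κ) :=
  Groth.L06.NormalAscent.isReduced_of_isNormalRing
    (isNormalRing_field_tensor isGeomNormal_of_geometricallyReduced κ normalRing_of_domain)

theorem normal_tensor_domains (A B : Type u) [CommRing A] [CommRing B] [IsDomain A] [IsDomain B] [IsIntegrallyClosed A]
    [IsIntegrallyClosed B] [Algebra k A] [Algebra k B]
    [Algebra.IsGeometricallyReduced k (FractionRing A)] [Algebra.IsGeometricallyReduced k (FractionRing B)] :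
    EGA4.IsNormalRing (A ⊗[k] B) := by
  let i : A →ₐ[k] FractionRing A := IsScalarTower.toAlgHom k A _
  let j : B →ₐ[k] FractionRing B := IsScalarTower.toAlgHom k B _
  have hi : Function.Injective i := IsFractionRing.injective A _
  have hj : Function.Injective j := IsFractionRing.injective B _
  have hN : EGA4.IsNormalRing (FractionRing A ⊗[k] FractionRing B) ∧ Idem (FractionRing A ⊗[k] FractionRing B) :=
    normal_field_tensor isGeomNormal_of_geometricallyReduced (FractionRing A)
  obtain ⟨r, hr⟩ := i.toLinearMap.exists_leftInverse_of_injective (LinearMap.ker_eq_bot.mpr hi)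
  let φ : A ⊗[k] B →ₐ[k] FractionRing A ⊗[k] FractionRing B := Algebra.TensorProduct.map i j
  have hφ : Function.Injective φ := TensorProduct.map_injective_of_flat_flat i.toLinearMap j.toLinearMap hi hj
  refine (normal_of_integrallyClosedIn φ.toRingHom hφ (fun y hy => ?_) hN.1 hN.2).1
  obtain ⟨z, hz⟩ : y ∈ Set.range (Algebra.TensorProduct.map (AlgHom.id k (FractionRing A)) j) := by
    refine mem_range_of_isIntegralElem (R := k) (FractionRing A) (fun κ _ _ => isReduced_tensor_of_geomReduced _ κ) B
      (FractionRing B) y (isIntegralElem_of_comp (f := (Algebra.TensorProduct.map i (AlgHom.id k B)).toRingHom) ?_)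
    have : φ = (Algebra.TensorProduct.map (AlgHom.id k (FractionRing A)) j).comp
        (Algebra.TensorProduct.map i (AlgHom.id k B)) := by
      ext <;> simp [φ]
    rw [this] at hy
    exact hy
  obtain ⟨w, hw⟩ : y ∈ Set.range (Algebra.TensorProduct.map i (AlgHom.id k (FractionRing B))) := by
    let c := Algebra.TensorProduct.comm k (FractionRing A) (FractionRing B)
    obtain ⟨w, hw⟩ := mem_range_of_isIntegralElem (R := k) (FractionRing B) (fun κ _ _ => isReduced_tensor_of_geomReduced _ κ) A
      (FractionRing A) (c y) (isIntegralElem_of_comp (f := 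
        ((Algebra.TensorProduct.map j (AlgHom.id k A)).comp (Algebra.TensorProduct.comm k A B).toAlgHom).toRingHom) (by
      obtain ⟨p, hp, he⟩ := hy
      refine ⟨p, hp, ?_⟩
      have : (Algebra.TensorProduct.map (AlgHom.id k (FractionRing B)) i).comp
          ((Algebra.TensorProduct.map j (AlgHom.id k A)).comp (Algebra.TensorProduct.comm k A B).toAlgHom) = c.toAlgHom.comp φ := by
        ext <;> simp [φ, c]
      have h2 := congrArg c he
      rw [map_zero] at h2
      rw [← h2]
      change Polynomial.eval₂ ((Algebra.TensorProduct.map (AlgHom.id k (FractionRing B)) i).comp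
          ((Algebra.TensorProduct.map j (AlgHom.id k A)).comp (Algebra.TensorProduct.comm k A B).toAlgHom)).toRingHom (c y) p =
        c.toAlgHom.toRingHom (Polynomial.eval₂ φ.toRingHom y p)
      rw [this, Polynomial.hom_eval₂]
      rfl))
    refine ⟨Algebra.TensorProduct.comm k (FractionRing B) A w, c.injective ?_⟩
    rw [← hw]
    have : c.toAlgHom.comp ((Algebra.TensorProduct.map i (AlgHom.id k (FractionRing B))).comp (Algebra.TensorProduct.comm k (FractionRing B) A).toAlgHom) = Algebra.TensorProduct.map (AlgHom.id k (FractionRing B)) i := by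
      ext <;> simp [c]
    exact DFunLike.congr_fun this w
  refine ⟨TensorProduct.map r LinearMap.id z, ?_⟩
  show TensorProduct.map i.toLinearMap j.toLinearMap (TensorProduct.map r LinearMap.id z) = y
  have hw' : TensorProduct.map i.toLinearMap LinearMap.id w = y := hw
  have hz' : TensorProduct.map LinearMap.id j.toLinearMap z = y := hz
  rw [← LinearMap.comp_apply, ← TensorProduct.map_comp, LinearMap.comp_id,
    show TensorProduct.map (i.toLinearMap ∘ₗ r) j.toLinearMap =
      TensorProduct.map (i.toLinearMap ∘ₗ r) LinearMap.id ∘ₗ TensorProduct.map LinearMap.id j.toLinearMap by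
      rw [← TensorProduct.map_comp, LinearMap.comp_id, LinearMap.id_comp]]
  rw [LinearMap.comp_apply, hz', ← hw', ← LinearMap.comp_apply, ← TensorProduct.map_comp, LinearMap.comp_id,
    LinearMap.comp_assoc, hr, LinearMap.comp_id]

end Groth.L06.NormalTensor
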