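import Groth.Agent.L06.NormalTensorFlat
import Groth.Agent.L25.GeomRed
import Mathlib.FieldTheory.PurelyInseparable.PerfectClosure
import Mathlib.RingTheory.Localization.BaseChange

/-! Tensor products with geometrically normal algebras over a field. -/

set_option autoImplicit false
set_option maxSynthPendingDepth 3
set_option linter.style.haveILetI false
set_option linter.unusedSectionVars false
noncomputable section
universe u
open TensorProduct Polynomial

namespace Groth.L06.NormalTensor

theorem idem_of_isDomain {R : Type u} [CommRing R] [IsDomain R] : Idem R := fun a b hab => by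
  rcases eq_or_ne a 0 with rfl | ha
  · exact ⟨0, by simp, by simp, by simp⟩
  · exact ⟨1, by simp, by simp, by rw [(mul_eq_zero.mp hab).resolve_left ha, mul_zero]⟩

theorem isNormalRing_of_isLocalization {S T : Type u} [CommRing S] [CommRing T] [Algebra S T] (M : Submonoid S)
    [IsLocalization M T] (h : EGA4.IsNormalRing S) : EGA4.IsNormalRing T := fun Q _ => by
  haveI : IsLocalization.AtPrime (Localization.AtPrime Q) (Q.comap (algebraMap S T)) :=
    IsLocalization.isLocalization_isLocalization_atPrime_isLocalization M _ Q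
  let e := IsLocalization.algEquiv (Q.comap (algebraMap S T)).primeCompl
    (Localization.AtPrime (Q.comap (algebraMap S T))) (Localization.AtPrime Q)
  haveI := (h (Q.comap (algebraMap S T))).1
  haveI := (h (Q.comap (algebraMap S T))).2
  exact ⟨e.symm.toRingEquiv.toMulEquiv.isDomain _, IsIntegrallyClosed.of_equiv e.toRingEquiv⟩

variable {k : Type u} [Field k] {A : Type u} [CommRing A] [Algebra k A]

theorem isGeomNormal_of_isLocalization (hA : EGA4.IsGeomNormal k A) (M : Submonoid A) (A₁ : Type u) [CommRing A₁]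
    [Algebra k A₁] [Algebra A A₁] [IsScalarTower k A A₁] [IsLocalization M A₁] : EGA4.IsGeomNormal k A₁ := by
  intro k' _ _ hk'
  let f := Algebra.TensorProduct.map (AlgHom.id k' k') (IsScalarTower.toAlgHom k A A₁)
  letI : Algebra (k' ⊗[k] A) (k' ⊗[k] A₁) := f.toRingHom.toAlgebra
  haveI : IsScalarTower k' (k' ⊗[k] A) (k' ⊗[k] A₁) := IsScalarTower.of_algebraMap_eq fun g => by
    show g ⊗ₜ (1 : A₁) = f (g ⊗ₜ (1 : A))
    rw [Algebra.TensorProduct.map_tmul, map_one]; rfl
  have : IsLocalization (M.map (Algebra.TensorProduct.includeRight (R := k) (A := k'))) (k' ⊗[k] A₁) :=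
    IsLocalization.tensorProduct_tensorProduct_right k k' M A₁ (RingHom.ext fun a => Algebra.TensorProduct.map_tmul _ _ _ _)
  exact isNormalRing_of_isLocalization (M.map (Algebra.TensorProduct.includeRight (R := k) (A := k'))) (hA k' hk')

theorem isNormalRing_of_isGeomNormal (hA : EGA4.IsGeomNormal k A) : EGA4.IsNormalRing A :=
  Groth.L06.NormalAscent.isNormalRing_of_ringEquiv (Algebra.TensorProduct.lid k A).toRingEquiv (hA k inferInstance)

theorem isReduced_tensor_domain [IsDomain A] (hA : EGA4.IsGeomNormal k A) (κ : Type u) [Field κ] [Algebra k κ] :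
    IsReduced (A ⊗[k] κ) := by
  haveI := isGeomNormal_of_isLocalization hA (nonZeroDivisors A) (FractionRing A)
  have hn := (normal_field_tensor this κ).1
  haveI := Groth.L06.NormalAscent.isReduced_of_isNormalRing hn
  let g := ((Algebra.TensorProduct.comm k (FractionRing A) κ).toAlgHom).comp
    (Algebra.TensorProduct.map (IsScalarTower.toAlgHom k A (FractionRing A)) (AlgHom.id k κ))
  exact isReduced_of_injective g.toRingHom ((Algebra.TensorProduct.comm k (FractionRing A) κ).injective.comp
    (Module.Flat.rTensor_preserves_injective_linearMap (M := κ) (IsScalarTower.toAlgHom k A (FractionRing A)).toLinearMap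
      (IsFractionRing.injective A (FractionRing A))))

/-- a purely inseparable base change of a geometrically normal field is a field -/
theorem isField_tensor {L : Type u} [Field L] [Algebra k L] (hL : EGA4.IsGeomNormal k L)
    (P : Type u) [Field P] [Algebra k P] [IsPurelyInseparable k P] : IsField (P ⊗[k] L) := by
  haveI := Groth.L06.NormalAscent.isReduced_of_isNormalRing (normal_field_tensor hL P).1
  haveI : Nontrivial (P ⊗[k] L) := Algebra.TensorProduct.nontrivial_of_algebraMap_injective_of_flat_left k P L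
    (algebraMap k L).injective
  refine ⟨⟨0, 1, zero_ne_one⟩, mul_comm, fun {x} hx => ?_⟩
  obtain ⟨n, hn, a, ha⟩ := IsPurelyInseparable.exists_pow_mem_range_tensorProduct (k := k) (K := P) (R := L)
    ((Algebra.TensorProduct.comm k P L) x)
  have h1 : x ^ n = (1 : P) ⊗ₜ[k] a := by
    refine (Algebra.TensorProduct.comm k P L).injective ?_
    rw [map_pow, ← ha]; rfl
  have ha0 : a ≠ 0 := fun h0 => by
    rw [h0, tmul_zero] at h1
    exact hx (IsNilpotent.eq_zero ⟨n, h1⟩)
  obtain ⟨d, rfl⟩ := Nat.exists_eq_succ_of_ne_zero hn.ne'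
  refine ⟨x ^ d * ((1 : P) ⊗ₜ[k] a⁻¹), ?_⟩
  rw [← mul_assoc, ← pow_succ', h1, Algebra.TensorProduct.tmul_mul_tmul, mul_one, mul_inv_cancel₀ ha0]
  rfl

theorem perfect_baseChange [IsDomain A] (hA : EGA4.IsGeomNormal k A) (P : Type u) [Field P] [Algebra k P]
    [IsPurelyInseparable k P] : IsDomain (P ⊗[k] A) ∧ IsIntegrallyClosed (P ⊗[k] A) := by
  classical
  have hL := isGeomNormal_of_isLocalization hA (nonZeroDivisors A) (FractionRing A)
  letI := (isField_tensor hL P).toField
  let j : A →ₐ[k] FractionRing A := IsScalarTower.toAlgHom k A (FractionRing A)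
  let F := Algebra.TensorProduct.map (AlgHom.id k P) j
  have hF : Function.Injective F :=
    Module.Flat.lTensor_preserves_injective_linearMap (M := P) j.toLinearMap (IsFractionRing.injective A (FractionRing A))
  haveI : IsDomain (P ⊗[k] A) := hF.isDomain F.toRingHom
  refine ⟨inferInstance, isIntegrallyClosed_of_isNormalRing (normal_of_union (N := P ⊗[k] A) fun s => ?_).1⟩
  obtain ⟨N, hN, hs⟩ := TensorProduct.exists_finite_submodule_left_of_setFinite (s : Set (P ⊗[k] A)) s.finite_toSet
  obtain ⟨t, ht⟩ := Module.Finite.iff_fg.mp hN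
  let E : IntermediateField k P := IntermediateField.adjoin k (t : Set P)
  haveI : FiniteDimensional k E := IntermediateField.finiteDimensional_adjoin fun x _ => IsPurelyInseparable.isIntegral' k x
  let g := Algebra.TensorProduct.map E.val (AlgHom.id k A)
  have hg : Function.Injective g :=
    Module.Flat.rTensor_preserves_injective_linearMap (M := A) E.val.toLinearMap Subtype.val_injective
  haveI : IsDomain (E ⊗[k] A) := hg.isDomain g.toRingHom
  refine ⟨E ⊗[k] A, inferInstance, g.toRingHom, hg, ?_, hA E inferInstance, idem_of_isDomain⟩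
  intro x hx
  obtain ⟨w, rfl⟩ := hs hx
  have hNE : N ≤ Subalgebra.toSubmodule E.toSubalgebra :=
    ht ▸ Submodule.span_le.mpr (IntermediateField.subset_adjoin k (t : Set P))
  refine ⟨(Submodule.inclusion hNE).rTensor A w, ?_⟩
  show E.val.toLinearMap.rTensor A ((Submodule.inclusion hNE).rTensor A w) = _
  rw [← LinearMap.comp_apply, ← LinearMap.rTensor_comp]
  rfl

/-- `K ⊗ A` is integrally closed in `K ⊗ Frac A` -/
theorem mem_range_field_tensor [IsDomain A] (hA : EGA4.IsGeomNormal k A) (K : Type u) [Field K] [Algebra k K]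
    (y : K ⊗[k] FractionRing A)
    (hy : (Algebra.TensorProduct.map (AlgHom.id k K) (IsScalarTower.toAlgHom k A (FractionRing A))).toRingHom.IsIntegralElem y) :
    y ∈ Set.range (Algebra.TensorProduct.map (AlgHom.id k K) (IsScalarTower.toAlgHom k A (FractionRing A))) := by
  classical
  let L := FractionRing A
  let Ω := AlgebraicClosure K
  let P := perfectClosure k Ω
  haveI : PerfectField Ω := inferInstance
  haveI : PerfectField P := inferInstance
  have hL := isGeomNormal_of_isLocalization hA (nonZeroDivisors A) L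
  letI fLp : Field (P ⊗[k] L) := (isField_tensor hL P).toField
  obtain ⟨hd, hic⟩ := perfect_baseChange hA P
  haveI := hd
  haveI := hic
  let F := Algebra.TensorProduct.map (AlgHom.id P P) (IsScalarTower.toAlgHom k A L)
  letI : Algebra (P ⊗[k] A) (P ⊗[k] L) := F.toRingHom.toAlgebra
  haveI : IsScalarTower P (P ⊗[k] A) (P ⊗[k] L) := IsScalarTower.of_algebraMap_eq fun g => by
    show g ⊗ₜ (1 : L) = F (g ⊗ₜ (1 : A))
    rw [Algebra.TensorProduct.map_tmul, map_one]; rfl
  haveI : IsLocalization ((nonZeroDivisors A).map (Algebra.TensorProduct.includeRight (R := k) (A := P))) (P ⊗[k] L) :=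
    IsLocalization.tensorProduct_tensorProduct_right k P (nonZeroDivisors A) L (RingHom.ext fun a => Algebra.TensorProduct.map_tmul _ _ _ _)
  have hFi : Function.Injective F :=
    Module.Flat.lTensor_preserves_injective_linearMap (M := P) (IsScalarTower.toAlgHom k A L).toLinearMap
      (IsFractionRing.injective A L)
  haveI : FaithfulSMul (P ⊗[k] A) (P ⊗[k] L) := (faithfulSMul_iff_algebraMap_injective _ _).mpr hFi
  haveI : IsFractionRing (P ⊗[k] A) (P ⊗[k] L) := by
    refine IsFractionRing.of_field _ _ fun z => ?_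
    obtain ⟨a, s, rfl⟩ := IsLocalization.exists_mk'_eq
      ((nonZeroDivisors A).map (Algebra.TensorProduct.includeRight (R := k) (A := P))) z
    refine ⟨a, s, ?_⟩
    rw [eq_div_iff (IsLocalization.map_units (P ⊗[k] L) s).ne_zero, IsLocalization.mk'_spec]
  -- pass to `Ω`
  let toΩ : K →ₐ[k] Ω := IsScalarTower.toAlgHom k K Ω
  let gΩ := Algebra.TensorProduct.map toΩ (AlgHom.id k L)
  let eA := Algebra.TensorProduct.cancelBaseChange k P Ω Ω A
  let eL := Algebra.TensorProduct.cancelBaseChange k P Ω Ω L
  let f' := Algebra.TensorProduct.map (AlgHom.id P Ω) (IsScalarTower.toAlgHom P (P ⊗[k] A) (P ⊗[k] L))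
  let fΩ := Algebra.TensorProduct.map (AlgHom.id k Ω) (IsScalarTower.toAlgHom k A L)
  have hsq : ∀ z, eL (f' z) = fΩ (eA z) := fun z => by
    induction z using TensorProduct.induction_on with
    | zero => simp
    | add a b ha hb => simp only [map_add, ha, hb]
    | tmul c w =>
      induction w using TensorProduct.induction_on with
      | zero => simp
      | add a b ha hb => simp only [tmul_add, map_add, ha, hb]
      | tmul d a => simp [eL, eA, f', fΩ, F, RingHom.algebraMap_toAlgebra, IsScalarTower.coe_toAlgHom']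
  have hint : f'.toRingHom.IsIntegralElem (eL.symm (gΩ y)) := by
    obtain ⟨q, hq, hqy⟩ := hy
    let hA' := Algebra.TensorProduct.map toΩ (AlgHom.id k A)
    refine ⟨(q.map hA'.toRingHom).map eA.symm.toAlgHom.toRingHom, (hq.map _).map _, ?_⟩
    have hcomm : (f'.toRingHom.comp eA.symm.toAlgHom.toRingHom).comp hA'.toRingHom =
        (eL.symm.toAlgHom.toRingHom.comp gΩ.toRingHom).comp
          (Algebra.TensorProduct.map (AlgHom.id k K) (IsScalarTower.toAlgHom k A L)).toRingHom := by
      refine RingHom.ext fun w => eL.injective ?_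
      show eL (f' (eA.symm (hA' w))) = eL (eL.symm (gΩ _))
      rw [hsq, AlgEquiv.apply_symm_apply, AlgEquiv.apply_symm_apply]
      induction w using TensorProduct.induction_on with
      | zero => simp
      | add a b ha hb => rw [map_add, map_add, map_add, map_add, ha, hb]
      | tmul a b => rfl
    rw [eval₂_map, eval₂_map, hcomm, show eL.symm (gΩ y) = (eL.symm.toAlgHom.toRingHom.comp gΩ.toRingHom) y from rfl,
      ← hom_eval₂, hqy, map_zero]
  haveI : Module.Flat P Ω := inferInstance
  obtain ⟨z, hz⟩ := mem_range_of_isIntegralElem (R := P) Ω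
    (fun κ _ _ => Groth.L25.GeomRed.isReduced_tensorProduct) (P ⊗[k] A) (P ⊗[k] L) _ hint
  have hΩ : gΩ y = fΩ (eA z) := by rw [← hsq, hz, AlgEquiv.apply_symm_apply]
  -- intersect
  let m := (LinearMap.range (IsScalarTower.toAlgHom k A L).toLinearMap).mkQ
  have hex : ∀ (M : Type u) [AddCommGroup M] [Module k M],
      Function.Exact ((IsScalarTower.toAlgHom k A L).toLinearMap.lTensor M) (m.lTensor M) := fun M _ _ =>
    lTensor_exact M (LinearMap.exact_map_mkQ_range _) (Submodule.mkQ_surjective _)
  refine (hex K y).mp ?_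
  refine Module.Flat.rTensor_preserves_injective_linearMap
    (M := L ⧸ LinearMap.range (IsScalarTower.toAlgHom k A L).toLinearMap) toΩ.toLinearMap
    (FaithfulSMul.algebraMap_injective K Ω) ?_
  rw [map_zero, ← LinearMap.comp_apply, LinearMap.rTensor_comp_lTensor, ← LinearMap.lTensor_comp_rTensor, LinearMap.comp_apply]
  show m.lTensor Ω (gΩ y) = 0
  rw [hΩ]
  exact (hex Ω _).mpr ⟨eA z, rfl⟩

theorem normal_tensor_local_domain [IsDomain A] (hA : EGA4.IsGeomNormal k A) (B : Type u) [CommRing B] [Algebra k B]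
    [IsDomain B] [IsIntegrallyClosed B] : EGA4.IsNormalRing (A ⊗[k] B) ∧ Idem (A ⊗[k] B) := by
  let K := FractionRing B
  let L := FractionRing A
  let f1 := Algebra.TensorProduct.map (AlgHom.id k A) (IsScalarTower.toAlgHom k B K)
  let c := Algebra.TensorProduct.comm k A K
  let f2 := Algebra.TensorProduct.map (AlgHom.id k K) (IsScalarTower.toAlgHom k A L)
  let φ : A ⊗[k] B →+* K ⊗[k] L := f2.toRingHom.comp (c.toAlgHom.toRingHom.comp f1.toRingHom)
  have h1 : Function.Injective f1 :=
    Module.Flat.lTensor_preserves_injective_linearMap (M := A) (IsScalarTower.toAlgHom k B K).toLinearMap (IsFractionRing.injective B K)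
  have h2 : Function.Injective f2 :=
    Module.Flat.lTensor_preserves_injective_linearMap (M := K) (IsScalarTower.toAlgHom k A L).toLinearMap (IsFractionRing.injective A L)
  obtain ⟨hn, hI⟩ := normal_field_tensor (isGeomNormal_of_isLocalization hA (nonZeroDivisors A) L) K
  refine normal_of_integrallyClosedIn φ (h2.comp (c.injective.comp h1)) (fun y hy => ?_) hn hI
  obtain ⟨p, hp, hpy⟩ := hy
  obtain ⟨w, rfl⟩ := mem_range_field_tensor hA K y ⟨p.map (c.toAlgHom.toRingHom.comp f1.toRingHom), hp.map _, by
    rw [eval₂_map]; exact hpy⟩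
  obtain ⟨v, hv⟩ := mem_range_of_isIntegralElem A (fun κ _ _ => isReduced_tensor_domain hA κ) B K (c.symm w) ⟨p, hp, by
    refine c.injective (h2 ?_)
    rw [map_zero, map_zero, ← hpy]
    show (f2.toRingHom.comp c.toAlgHom.toRingHom) (eval₂ f1.toRingHom (c.symm w) p) = _
    rw [hom_eval₂]
    congr 1
    exact congrArg f2 (c.apply_symm_apply w)⟩
  exact ⟨v, congrArg f2 ((congrArg c hv).trans (c.apply_symm_apply w))⟩

theorem isNormalRing_field_tensor (hA : EGA4.IsGeomNormal k A) (B : Type u) [CommRing B] [Algebra k B]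
    (hB : EGA4.IsNormalRing B) : EGA4.IsNormalRing (A ⊗[k] B) := by
  intro P _
  let p : Ideal A := P.comap (Algebra.TensorProduct.includeLeft : A →ₐ[k] A ⊗[k] B)
  let q : Ideal B := P.comap (Algebra.TensorProduct.includeRight : B →ₐ[k] A ⊗[k] B)
  let Ap := Localization.AtPrime p
  let Bq := Localization.AtPrime q
  haveI := (isNormalRing_of_isGeomNormal hA p).1
  haveI := (hB q).1
  haveI := (hB q).2
  let TP := Localization.AtPrime P
  let iA : A →ₐ[k] TP := (IsScalarTower.toAlgHom k (A ⊗[k] B) TP).comp Algebra.TensorProduct.includeLeft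
  let iB : B →ₐ[k] TP := (IsScalarTower.toAlgHom k (A ⊗[k] B) TP).comp Algebra.TensorProduct.includeRight
  have hunitA : ∀ u : p.primeCompl, IsUnit (iA u) := fun u => IsLocalization.map_units TP
    (⟨(Algebra.TensorProduct.includeLeft : A →ₐ[k] A ⊗[k] B) u, fun hu => u.2 hu⟩ : P.primeCompl)
  have hunitB : ∀ u : q.primeCompl, IsUnit (iB u) := fun u => IsLocalization.map_units TP
    (⟨(Algebra.TensorProduct.includeRight : B →ₐ[k] A ⊗[k] B) u, fun hu => u.2 hu⟩ : P.primeCompl)
  let lA : Ap →ₐ[k] TP := IsLocalization.liftAlgHom (M := p.primeCompl) (S := Ap) hunitA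
  let lB : Bq →ₐ[k] TP := IsLocalization.liftAlgHom (M := q.primeCompl) (S := Bq) hunitB
  let θ := Algebra.TensorProduct.productMap lA lB
  let ψ := Algebra.TensorProduct.map (IsScalarTower.toAlgHom k A Ap) (IsScalarTower.toAlgHom k B Bq)
  refine normal_atPrime_of_map P ψ.toRingHom θ.toRingHom (fun s => ?_) (fun t => ?_)
    (normal_tensor_local_domain (isGeomNormal_of_isLocalization hA p.primeCompl Ap) Bq).1
  · induction s using TensorProduct.induction_on with
    | zero => simp
    | add a b ha hb => rw [map_add, map_add, map_add, ha, hb]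
    | tmul a b =>
      show θ (algebraMap A Ap a ⊗ₜ algebraMap B Bq b) = _
      rw [Algebra.TensorProduct.productMap_apply_tmul, IsLocalization.liftAlgHom_apply, IsLocalization.liftAlgHom_apply,
        IsLocalization.lift_eq, IsLocalization.lift_eq]
      show algebraMap (A ⊗[k] B) TP (a ⊗ₜ[k] (1 : B)) * algebraMap (A ⊗[k] B) TP ((1 : A) ⊗ₜ[k] b) = _
      rw [← map_mul, Algebra.TensorProduct.tmul_mul_tmul, mul_one, one_mul]
  · suffices key : ∃ (u : p.primeCompl) (v : q.primeCompl) (s : A ⊗[k] B), ψ ((u : A) ⊗ₜ (v : B)) * t = ψ s by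
      obtain ⟨u, v, s, hs⟩ := key
      refine ⟨(u : A) ⊗ₜ (v : B), fun hu => ?_, s, hs⟩
      rw [show (u : A) ⊗ₜ[k] (v : B) = ((u : A) ⊗ₜ 1) * ((1 : A) ⊗ₜ (v : B)) by
        rw [Algebra.TensorProduct.tmul_mul_tmul, mul_one, one_mul]] at hu
      exact ((inferInstance : P.IsPrime).mem_or_mem hu).elim (fun h => u.2 h) (fun h => v.2 h)
    induction t using TensorProduct.induction_on with
    | zero => exact ⟨1, 1, 0, by rw [mul_zero, map_zero]⟩
    | tmul x y =>
      obtain ⟨a, r, rfl⟩ := IsLocalization.exists_mk'_eq p.primeCompl x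
      obtain ⟨b, s, rfl⟩ := IsLocalization.exists_mk'_eq q.primeCompl y
      refine ⟨r, s, a ⊗ₜ b, ?_⟩
      show (algebraMap A Ap r ⊗ₜ[k] algebraMap B Bq s) * _ = algebraMap A Ap a ⊗ₜ[k] algebraMap B Bq b
      rw [Algebra.TensorProduct.tmul_mul_tmul, IsLocalization.mk'_spec', IsLocalization.mk'_spec']
    | add x y hx hy =>
      obtain ⟨u, v, s, hs⟩ := hx
      obtain ⟨u', v', r, hr⟩ := hy
      refine ⟨u * u', v * v', ((u' : A) ⊗ₜ (v' : B)) * s + ((u : A) ⊗ₜ (v : B)) * r, ?_⟩
      rw [map_add, map_mul, map_mul, ← hs, ← hr, Submonoid.coe_mul, Submonoid.coe_mul,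
        ← Algebra.TensorProduct.tmul_mul_tmul, map_mul]
      ring

end Groth.L06.NormalTensor
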