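import Groth.Agent.L04.CMBasic
import Groth.Agent.L06.SupportDim
import Groth.Prelude.Def_EGA4b
import Mathlib.RingTheory.Regular.RegularSequence
import Mathlib.RingTheory.LocalRing.Module
import Mathlib.RingTheory.Flat.Basic

/-! Depth and dimension of normally flat modules along a nilpotent ideal (EGA IV 6.10.?). -/

set_option autoImplicit false
set_option maxSynthPendingDepth 3
set_option linter.all false
universe u
open IsLocalRing RingTheory.Sequence
open scoped Pointwise

namespace Groth.L06.NormallyFlatDepth

variable {R : Type u} [CommRing R]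

/-- regular sequences on the ends of a short exact sequence -/
theorem regular_ext : ∀ (xs : List R) (M' M M'' : Type u) [AddCommGroup M'] [Module R M'] [AddCommGroup M]
    [Module R M] [AddCommGroup M''] [Module R M''] (f : M' →ₗ[R] M) (g : M →ₗ[R] M''),
    Function.Injective f → Function.Exact f g → Function.Surjective g →
    IsWeaklyRegular M' xs → IsWeaklyRegular M'' xs →
      IsWeaklyRegular M xs ∧ ∀ z : M', f z ∈ Ideal.ofList xs • (⊤ : Submodule R M) →
        z ∈ Ideal.ofList xs • (⊤ : Submodule R M') := by
  intro xs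
  induction xs with
  | nil =>
    intro M' M M'' _ _ _ _ _ _ f g hf hex hg h1 h2
    refine ⟨IsWeaklyRegular.nil R M, fun z hz => ?_⟩
    rw [Ideal.ofList_nil, Submodule.bot_smul, Submodule.mem_bot] at hz ⊢
    exact hf (hz.trans (map_zero f).symm)
  | cons r xs ih =>
    intro M' M M'' _ _ _ _ _ _ f g hf hex hg h1 h2
    rw [isWeaklyRegular_cons_iff] at h1 h2
    have hr : IsSMulRegular M r := isSMulRegular_of_range_eq_ker hf hex.linearMap_ker_eq.symm h1.1 h2.1
    have hinj : Function.Injective (QuotSMulTop.map r f) := by
      rw [injective_iff_map_eq_zero]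
      intro y hy
      obtain ⟨z, rfl⟩ := Submodule.Quotient.mk_surjective _ y
      have h3 : f z ∈ r • (⊤ : Submodule R M) := (Submodule.Quotient.mk_eq_zero _).1 hy
      obtain ⟨m, -, hm⟩ := (Submodule.mem_smul_pointwise_iff_exists _ _ _).1 h3
      have h4 : g m = 0 := h2.1.right_eq_zero_of_smul (by rw [← map_smul, hm]; exact hex.apply_apply_eq_zero z)
      obtain ⟨z', rfl⟩ := (hex m).1 h4
      rw [Submodule.Quotient.mk_eq_zero]
      exact (Submodule.mem_smul_pointwise_iff_exists _ _ _).2 ⟨z', trivial, hf (by rw [map_smul]; exact hm)⟩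
    obtain ⟨h3, h4⟩ := ih _ _ _ (QuotSMulTop.map r f) (QuotSMulTop.map r g) hinj
      (QuotSMulTop.map_exact r hex hg) (QuotSMulTop.map_surjective r hg) h1.2 h2.2
    refine ⟨(isWeaklyRegular_cons_iff _ _ _).2 ⟨hr, h3⟩, fun z hz => ?_⟩
    have key : ∀ (N : Type u) [AddCommGroup N] [Module R N] (n : N),
        n ∈ Ideal.ofList (r :: xs) • (⊤ : Submodule R N) ↔
          (r • (⊤ : Submodule R N)).mkQ n ∈ Ideal.ofList xs • (⊤ : Submodule R (QuotSMulTop r N)) := by
      intro N _ _ n
      have e : Ideal.ofList xs • (⊤ : Submodule R (QuotSMulTop r N)) =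
          (Ideal.ofList xs • (⊤ : Submodule R N)).map (r • (⊤ : Submodule R N)).mkQ := by
        rw [Submodule.map_smul'', Submodule.map_top, Submodule.range_mkQ]
      rw [e, ← Submodule.mem_comap, Submodule.comap_map_mkQ, Ideal.ofList_cons_smul]
    exact (key M' z).2 (h4 _ ((key M (f z)).1 hz))

/-- the filtration step -/
theorem main {A : Type u} [CommRing A] [IsNoetherianRing A] [IsLocalRing A] (I : Ideal A) (hI : IsNilpotent I)
    (M : Type u) [AddCommGroup M] [Module A M] [Module.Finite A M] [Nontrivial M]
    (hM : EGA4.IsNormallyFlat I M) :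
    Module.supportDim A M = ringKrullDim (A ⧸ I) ∧ LocCoh.depth A M = LocCoh.depth A (A ⧸ I) := by
  obtain ⟨N, hN⟩ := hI
  have hIm : I ≤ maximalIdeal A := by
    refine le_maximalIdeal fun h => ?_
    rw [h, Ideal.top_pow] at hN
    exact top_ne_bot hN
  have hItop : I ≠ ⊤ := ne_top_of_le_ne_top (maximalIdeal.isMaximal A).ne_top hIm
  haveI : Nontrivial (A ⧸ I) := Ideal.Quotient.nontrivial_iff.2 hItop
  haveI : IsLocalRing (A ⧸ I) := IsLocalRing.of_surjective' _ Ideal.Quotient.mk_surjective
  refine ⟨?_, ?_⟩
  · rw [Groth.L06.SupportDim.supportDim_eq_quotient]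
    refine le_antisymm ?_ ?_
    · -- `V(I)` is everything
      rw [ringKrullDim_quotient, ringKrullDim_quotient]
      refine Order.krullDim_le_of_strictMono (fun P => ⟨P.1, fun x hx => ?_⟩) fun a b hab => hab
      exact P.1.isPrime.mem_of_pow_mem N (by
        have h1 : x ^ N ∈ I ^ N := Ideal.pow_mem_pow hx N
        rw [hN] at h1
        rw [(Submodule.mem_bot _).1 h1]; exact zero_mem _)
    · refine ringKrullDim_le_of_surjective (Ideal.Quotient.factor fun x hx => ?_) (Ideal.Quotient.factor_surjective _)
      -- `M / IM` is faithful over `A / I`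
      let P0 := ↥(I ^ 0 • (⊤ : Submodule A M))
      let G := P0 ⧸ (I • (⊤ : Submodule A P0))
      haveI : Module.Flat (A ⧸ I) G := hM 0
      haveI : IsScalarTower A (A ⧸ I) G := IsScalarTower.of_algebraMap_smul fun _ _ => rfl
      haveI : Module.Finite (A ⧸ I) G := Module.Finite.of_restrictScalars_finite A _ _
      haveI : Module.Free (A ⧸ I) G := Module.free_of_flat_of_isLocalRing
      haveI : Nontrivial P0 := Submodule.nontrivial_iff_ne_bot.2 (by
        rw [pow_zero, Ideal.one_eq_top, Submodule.top_smul]; exact top_ne_bot)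
      haveI : Nontrivial G := by
        refine Submodule.Quotient.nontrivial_iff.2 (Ne.symm (Submodule.top_ne_ideal_smul_of_le_jacobson_annihilator ?_))
        exact hIm.trans (IsLocalRing.maximalIdeal_le_jacobson _)
      let b := Module.Free.chooseBasis (A ⧸ I) G
      obtain ⟨i⟩ := b.index_nonempty
      rw [← Ideal.Quotient.eq_zero_iff_mem]
      have h1 : (Ideal.Quotient.mk I x) • b i = 0 := by
        show x • b i = 0
        obtain ⟨y, hy⟩ := Submodule.Quotient.mk_surjective _ (b i)
        rw [← hy, ← Submodule.Quotient.mk_smul, show x • y = 0 from Subtype.ext (Module.mem_annihilator.1 hx (y : M)),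
          Submodule.Quotient.mk_zero]
      have h2 : b.repr ((Ideal.Quotient.mk I x) • b i) i = 0 := by rw [h1, map_zero]; rfl
      rwa [map_smul, b.repr_self, Finsupp.smul_single, smul_eq_mul, mul_one, Finsupp.single_eq_same] at h2
  · -- depth
    obtain ⟨xs, -, hxs, hxm, z₀, hz0, hz⟩ := Groth.L04.exists_maximal_regular (I := maximalIdeal A) (M := A ⧸ I)
      (Groth.L04.smul_top_ne_top_of_nontrivial (maximalIdeal.isMaximal A).ne_top) (IsWeaklyRegular.nil A _) (by simp)
    have hd : LocCoh.depth A (A ⧸ I) = xs.length := Groth.L04.idealDepth_eq_length hxs hxm hz0 hz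
    rw [hd]
    let P : ℕ → Submodule A M := fun n => I ^ n • ⊤
    have key : ∀ j n, j + n = N → IsWeaklyRegular ↥(P n) xs ∧
        (P n ≠ ⊥ → ∃ z : ↥(P n), z ∉ Ideal.ofList xs • (⊤ : Submodule A ↥(P n)) ∧
          ∀ a ∈ maximalIdeal A, a • z ∈ Ideal.ofList xs • (⊤ : Submodule A ↥(P n))) := by
      intro j
      induction j with
      | zero =>
        intro n hn
        have h0 : P n = ⊥ := by simp only [P]; rw [show n = N by omega, hN]; exact Submodule.bot_smul _
        haveI : Subsingleton ↥(P n) := by rw [h0]; infer_instance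
        exact ⟨(isWeaklyRegular_iff_Fin _ _).2 fun i => by
          haveI : Subsingleton (↥(P n) ⧸ (Ideal.ofList (xs.take i) • ⊤ : Submodule A ↥(P n))) :=
            (Submodule.Quotient.mk_surjective _).subsingleton
          exact fun a b _ => Subsingleton.elim a b, fun h => absurd h0 h⟩
      | succ j ih =>
        intro n hn
        obtain ⟨hreg', hsoc'⟩ := ih (n + 1) (by omega)
        let Pn := ↥(P n)
        let G := Pn ⧸ (I • (⊤ : Submodule A Pn))
        haveI : Module.Flat (A ⧸ I) G := hM n
        haveI : IsScalarTower A (A ⧸ I) G := IsScalarTower.of_algebraMap_smul fun _ _ => rfl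
        haveI : Module.Finite A Pn := inferInstance
        haveI : Module.Finite (A ⧸ I) G := Module.Finite.of_restrictScalars_finite A _ _
        haveI : Module.Free (A ⧸ I) G := Module.free_of_flat_of_isLocalRing
        have hle : P (n + 1) ≤ P n := Submodule.smul_mono_left (Ideal.pow_le_pow_right (Nat.le_succ n))
        let f : ↥(P (n + 1)) →ₗ[A] Pn := Submodule.inclusion hle
        let g : Pn →ₗ[A] G := (I • (⊤ : Submodule A Pn)).mkQ
        have hrange : LinearMap.range f = I • (⊤ : Submodule A Pn) := by
          refine Submodule.map_injective_of_injective (f := (P n).subtype) Subtype.val_injective ?_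
          rw [Submodule.map_smul'', Submodule.map_top, Submodule.range_subtype, ← LinearMap.range_comp,
            show (P n).subtype ∘ₗ f = (P (n + 1)).subtype from rfl, Submodule.range_subtype]
          simp only [P]
          rw [pow_succ', ← Submodule.smul_assoc, smul_eq_mul]
        have hex : Function.Exact f g := by
          rw [LinearMap.exact_iff, Submodule.ker_mkQ, hrange]
        have hG : IsWeaklyRegular G xs := by
          rw [← isWeaklyRegular_map_algebraMap_iff (S := A ⧸ I)]
          have h1 : IsWeaklyRegular (A ⧸ I) (xs.map (algebraMap A (A ⧸ I))) :=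
            (isWeaklyRegular_map_algebraMap_iff _ _ _).2 hxs
          exact ((TensorProduct.rid (A ⧸ I) G).isWeaklyRegular_congr _).1 (h1.isWeaklyRegular_lTensor (M₂ := G))
        obtain ⟨hreg, hinj⟩ := regular_ext xs _ _ _ f g (Submodule.inclusion_injective hle) hex
          (Submodule.mkQ_surjective _) hreg' hG
        refine ⟨hreg, fun hne => ?_⟩
        by_cases hnext : P (n + 1) = ⊥
        · -- the last step is free over `A / I`
          have hbot : I • (⊤ : Submodule A Pn) = ⊥ := by
            rw [← hrange, LinearMap.range_eq_bot]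
            haveI : Subsingleton ↥(P (n + 1)) := by rw [hnext]; infer_instance
            exact LinearMap.ext fun v => by rw [Subsingleton.elim v 0, map_zero, map_zero]
          have hginj : Function.Injective g := by
            rw [← LinearMap.ker_eq_bot, Submodule.ker_mkQ, hbot]
          haveI : Nontrivial Pn := Submodule.nontrivial_iff_ne_bot.2 hne
          haveI : Nontrivial G := hginj.nontrivial
          let b := Module.Free.chooseBasis (A ⧸ I) G
          obtain ⟨i⟩ := b.index_nonempty
          obtain ⟨w, rfl⟩ := Submodule.Quotient.mk_surjective _ z₀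
          let E : (A ⧸ I) →ₗ[A] G := ((LinearMap.toSpanSingleton (A ⧸ I) G (b i)).restrictScalars A)
          let c : G →ₗ[A] (A ⧸ I) := ((b.coord i).restrictScalars A)
          have hcE : ∀ v, c (E v) = v := fun v => by simp [c, E]
          obtain ⟨z, hzv⟩ := Submodule.mkQ_surjective (I • (⊤ : Submodule A Pn)) (E w)
          have hiff : ∀ y : Pn, y ∈ Ideal.ofList xs • (⊤ : Submodule A Pn) ↔
              g y ∈ Ideal.ofList xs • (⊤ : Submodule A G) := by
            intro y
            rw [← LinearMap.range_eq_top.2 (Submodule.mkQ_surjective (I • (⊤ : Submodule A Pn))), ← Submodule.map_top,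
              ← Submodule.map_smul'']
            exact ⟨fun hy => Submodule.mem_map_of_mem hy, fun ⟨y', hy', he⟩ => hginj he ▸ hy'⟩
          refine ⟨z, fun hmem => ?_, fun a ha => (hiff _).2 ?_⟩
          · have h1 := (hiff z).1 hmem
            rw [show g z = E w from hzv] at h1
            refine hz0 ((Submodule.Quotient.mk_eq_zero _).2 ?_)
            have h2 := Submodule.smul_top_le_comap_smul_top (Ideal.ofList xs) c h1
            rw [Submodule.mem_comap, hcE] at h2
            exact h2
          · rw [map_smul, show g z = E w from hzv, ← map_smul]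
            exact Submodule.smul_top_le_comap_smul_top (Ideal.ofList xs) E
              ((Submodule.Quotient.mk_eq_zero _).1 (hz a ha))
        · obtain ⟨z, hz1, hz2⟩ := hsoc' hnext
          refine ⟨f z, fun h => hz1 (hinj z h), fun a ha => ?_⟩
          rw [← map_smul]
          exact Submodule.smul_top_le_comap_smul_top (Ideal.ofList xs) f (hz2 a ha)
    obtain ⟨hreg, hsoc⟩ := key N 0 (by omega)
    have htop : P 0 = ⊤ := by simp [P]
    let e : ↥(P 0) ≃ₗ[A] M := (LinearEquiv.ofEq _ _ htop).trans Submodule.topEquiv
    obtain ⟨z, hz1, hz2⟩ := hsoc (by rw [htop]; exact top_ne_bot)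
    exact (Groth.L04.idealDepth_eq_length ((e.isWeaklyRegular_congr xs).1 hreg) hxm
      (z := Submodule.Quotient.mk (e z))
      (fun h => hz1 (by
        rw [Submodule.Quotient.mk_eq_zero] at h
        have := Submodule.smul_top_le_comap_smul_top (Ideal.ofList xs) e.symm.toLinearMap h
        simpa using this))
      (fun a ha => by
        rw [← Submodule.Quotient.mk_smul, Submodule.Quotient.mk_eq_zero, ← map_smul]
        exact Submodule.smul_top_le_comap_smul_top (Ideal.ofList xs) e.toLinearMap (hz2 a ha)))

end Groth.L06.NormallyFlatDepth
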