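import Groth.Agent.L06.HilbertSamuel
import Groth.Agent.L06.CMModDim
import Groth.Agent.L02.CMMor.FlatDepth
import Groth.Prelude.Def_EGA4b
import Mathlib.RingTheory.LocalRing.Module
import Mathlib.Algebra.Module.LocalizedModule.Exact
import Mathlib.LinearAlgebra.TensorProduct.Pi

/-! Dimension of normally flat modules (EGA IV 6.10). -/

set_option autoImplicit false
set_option maxSynthPendingDepth 3
set_option linter.all false
noncomputable section
universe u
open IsLocalRing TensorProduct
open Groth.L06.HilbertSamuel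

namespace Groth.L06.NormallyFlatDim

variable {A : Type u} [CommRing A] [IsNoetherianRing A] [IsLocalRing A] (I : Ideal A)
  (M : Type u) [AddCommGroup M] [Module A M] [Module.Finite A M]

/-- the filtration -/
abbrev P (n : ℕ) : Submodule A M := I ^ n • ⊤

/-- the graded pieces -/
abbrev G (n : ℕ) : Type u := ↥(P I M n) ⧸ (I • (⊤ : Submodule A ↥(P I M n)))

omit [IsNoetherianRing A] [IsLocalRing A] [Module.Finite A M] in
theorem comap_next (n : ℕ) :
    (P I M (n + 1)).comap (P I M n).subtype = I • (⊤ : Submodule A ↥(P I M n)) := by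
  refine Submodule.map_injective_of_injective (f := (P I M n).subtype) Subtype.val_injective ?_
  rw [Submodule.map_comap_eq, Submodule.range_subtype, Submodule.map_smul'', Submodule.map_top,
    Submodule.range_subtype]
  show (P I M n) ⊓ (P I M (n + 1)) = _
  rw [inf_eq_right.2 (Submodule.smul_mono_left (Ideal.pow_le_pow_right n.le_succ))]
  show I ^ (n + 1) • (⊤ : Submodule A M) = I • (I ^ n • (⊤ : Submodule A M))
  rw [pow_succ', ← Submodule.smul_assoc, smul_eq_mul]

theorem exists_basis (hI : I ≠ ⊤) (hM : EGA4.IsNormallyFlat I M) (n : ℕ) :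
    ∃ r : ℕ, Nonempty (G I M n ≃ₗ[A] (Fin r → A ⧸ I)) := by
  haveI : Nontrivial (A ⧸ I) := Ideal.Quotient.nontrivial_iff.2 hI
  haveI : IsLocalRing (A ⧸ I) := IsLocalRing.of_surjective' _ Ideal.Quotient.mk_surjective
  haveI : Module.Flat (A ⧸ I) (G I M n) := hM n
  haveI : IsScalarTower A (A ⧸ I) (G I M n) := IsScalarTower.of_algebraMap_smul fun _ _ => rfl
  haveI : Module.Finite (A ⧸ I) (G I M n) := Module.Finite.of_restrictScalars_finite A _ _
  haveI : Module.Free (A ⧸ I) (G I M n) := Module.free_of_flat_of_isLocalRing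
  exact ⟨_, ⟨((Module.finBasis (A ⧸ I) (G I M n)).equivFun).restrictScalars A⟩⟩

/-- ranks -/
def rk (hI : I ≠ ⊤) (hM : EGA4.IsNormallyFlat I M) (n : ℕ) : ℕ := (exists_basis I M hI hM n).choose

/-- cumulative ranks -/
def F (hI : I ≠ ⊤) (hM : EGA4.IsNormallyFlat I M) (n : ℕ) : ℕ := ∑ i ∈ Finset.range n, rk I M hI hM i

section Prime

variable (p : Ideal A) [p.IsPrime] (hp : p ∈ I.minimalPrimes)
include hp

omit [IsLocalRing A] in
theorem zeroDim : ringKrullDim (Localization.AtPrime p ⧸ I.map (algebraMap A (Localization.AtPrime p))) ≤ 0 := by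
  rw [Groth.L06.SupportDim.le_zero_iff_forall_isMaximal]
  intro P hP hIP
  have h1 : P.comap (algebraMap A (Localization.AtPrime p)) ≤ p :=
    (Ideal.comap_mono (le_maximalIdeal hP.ne_top)).trans_eq
      (IsLocalization.AtPrime.under_maximalIdeal (Localization.AtPrime p) p)
  have h2 := hp.2 ⟨Ideal.IsPrime.comap _, Ideal.map_le_iff_le_comap.1 hIP⟩ h1
  have h3 : maximalIdeal (Localization.AtPrime p) ≤ P := by
    rw [← Localization.AtPrime.map_eq_maximalIdeal]
    exact Ideal.map_le_iff_le_comap.2 h2
  rw [show P = maximalIdeal _ from le_antisymm (le_maximalIdeal hP.ne_top) h3]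
  exact maximalIdeal.isMaximal _

theorem hs_eq (hI : I ≠ ⊤) (hM : EGA4.IsNormallyFlat I M) : ∃ e : ℕ, 1 ≤ e ∧ ∀ n,
    hs (I.map (algebraMap A (Localization.AtPrime p))) (Localization.AtPrime p ⊗[A] M) n = F I M hI hM n * e := by
  let Ap := Localization.AtPrime p
  haveI : IsNoetherianRing Ap := IsLocalization.isNoetherianRing p.primeCompl Ap inferInstance
  let q := I.map (algebraMap A Ap)
  have hq : ringKrullDim (Ap ⧸ q) ≤ 0 := zeroDim I p hp
  -- the value at `A / I`
  have he : Module.length Ap (Ap ⊗[A] (A ⧸ I)) ≠ ⊤ ∧ Module.length Ap (Ap ⊗[A] (A ⧸ I)) ≠ 0 := by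
    obtain ⟨e1⟩ : Nonempty ((Ap ⊗[A] (A ⧸ I)) ≃ₗ[Ap] Ap ⧸ q) := by
      obtain ⟨e⟩ := L02.CMMor.exists_quotTensor_base (A := A) (B := Ap) Ap A I
      refine ⟨(TensorProduct.AlgebraTensorModule.congr (LinearEquiv.refl Ap Ap)
        (Submodule.quotEquivOfEq I (I • (⊤ : Submodule A A)) (by rw [smul_eq_mul, Ideal.mul_top]))).trans
          (e.symm.trans (Submodule.Quotient.equiv _ _ (TensorProduct.AlgebraTensorModule.rid A Ap Ap) ?_))⟩
      rw [Submodule.map_smul'', Submodule.map_top, LinearEquiv.range, smul_eq_mul, Ideal.mul_top]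
    rw [e1.length_eq]
    refine ⟨?_, ?_⟩
    · have h := Groth.L06.HilbertSamuel.length_ne_top q Ap hq 1
      rwa [(Submodule.quotEquivOfEq (q ^ 1 • (⊤ : Submodule Ap Ap)) q (by
        rw [pow_one, smul_eq_mul, Ideal.mul_top])).length_eq] at h
    · haveI : Nontrivial (Ap ⧸ q) := Ideal.Quotient.nontrivial_iff.2 (ne_top_of_le_ne_top
        (maximalIdeal.isMaximal Ap).ne_top (by
          rw [← Localization.AtPrime.map_eq_maximalIdeal]; exact Ideal.map_mono hp.1.2))
      exact (Module.length_pos (R := Ap) (M := Ap ⧸ q)).ne'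
  obtain ⟨e, hee⟩ := ENat.ne_top_iff_exists.1 he.1
  refine ⟨e, Nat.one_le_iff_ne_zero.2 fun h0 => he.2 (by rw [← hee, h0]; rfl), ?_⟩
  -- lengths of the localized quotients
  have hlen : ∀ n, Module.length Ap (Ap ⊗[A] (M ⧸ P I M n)) = ((F I M hI hM n * e : ℕ) : ℕ∞) := by
    intro n
    induction n with
    | zero =>
      haveI : Subsingleton (M ⧸ P I M 0) := Submodule.Quotient.subsingleton_iff.2 (by simp [P])
      haveI : Subsingleton (Ap ⊗[A] (M ⧸ P I M 0)) := inferInstance
      simp [F, Module.length_eq_zero]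
    | succ n ih =>
      obtain ⟨b⟩ := (exists_basis I M hI hM n).choose_spec
      have hle : P I M (n + 1) ≤ P I M n := Submodule.smul_mono_left (Ideal.pow_le_pow_right n.le_succ)
      let f : G I M n →ₗ[A] M ⧸ P I M (n + 1) := Submodule.liftQ _ ((P I M (n + 1)).mkQ ∘ₗ (P I M n).subtype)
        (by rw [LinearMap.ker_comp, Submodule.ker_mkQ, comap_next])
      let g : (M ⧸ P I M (n + 1)) →ₗ[A] M ⧸ P I M n := Submodule.factor hle
      have hf : Function.Injective f := by
        rw [← LinearMap.ker_eq_bot]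
        exact Submodule.ker_liftQ_eq_bot' _ _ (by rw [LinearMap.ker_comp, Submodule.ker_mkQ, comap_next])
      have hg : Function.Surjective g := Submodule.factor_surjective hle
      have hex : Function.Exact f g := by
        rw [LinearMap.exact_iff]
        refine le_antisymm (fun x hx => ?_) ?_
        · obtain ⟨m, rfl⟩ := Submodule.mkQ_surjective _ x
          have h1 : m ∈ P I M n := (Submodule.Quotient.mk_eq_zero _).1 hx
          exact ⟨Submodule.Quotient.mk ⟨m, h1⟩, rfl⟩
        · rintro _ ⟨z, rfl⟩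
          obtain ⟨z, rfl⟩ := Submodule.mkQ_surjective _ z
          exact (Submodule.Quotient.mk_eq_zero _).2 z.2
      let fT := AlgebraTensorModule.lTensor Ap Ap f
      let gT := AlgebraTensorModule.lTensor Ap Ap g
      rw [Module.length_eq_add_of_exact fT gT (Module.Flat.lTensor_preserves_injective_linearMap f hf)
        (LinearMap.lTensor_surjective Ap hg) (Module.Flat.lTensor_exact Ap hex), ih,
        ((AlgebraTensorModule.congr (LinearEquiv.refl Ap Ap) b).trans
          (TensorProduct.piRight A Ap Ap fun _ : Fin _ => A ⧸ I)).length_eq, Module.length_pi_of_fintype,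
        Finset.sum_const, Finset.card_univ, Fintype.card_fin, ← hee]
      simp only [F, Finset.sum_range_succ, rk, nsmul_eq_mul]
      push_cast
      ring
  intro n
  have h := Groth.L06.HilbertSamuel.coe_hs q (Ap ⊗[A] M) hq n
  obtain ⟨e2⟩ : Nonempty (((Ap ⊗[A] M) ⧸ (q ^ n • (⊤ : Submodule Ap (Ap ⊗[A] M)))) ≃ₗ[Ap] Ap ⊗[A] (M ⧸ P I M n)) := by
    obtain ⟨e2⟩ := L02.CMMor.exists_quotTensor_base (A := A) (B := Ap) Ap M (I ^ n)
    exact ⟨(Submodule.quotEquivOfEq _ _ (by rw [Ideal.map_pow])).trans e2⟩
  rw [e2.length_eq, hlen n] at h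
  exact_mod_cast h

theorem growth_iff (hI : I ≠ ⊤) (hM : EGA4.IsNormallyFlat I M) [Nontrivial (LocalizedModule p.primeCompl M)] :
    ∃ s : ℕ, Module.supportDim (Localization.AtPrime p) (LocalizedModule p.primeCompl M) = s ∧
      Growth s (F I M hI hM) ∧ ∀ k, Growth k (F I M hI hM) → s ≤ k := by
  let Ap := Localization.AtPrime p
  haveI : IsNoetherianRing Ap := IsLocalization.isNoetherianRing p.primeCompl Ap inferInstance
  let N := Ap ⊗[A] M
  let ε : LocalizedModule p.primeCompl M ≃ₗ[Ap] N := LocalizedModule.equivTensorProduct p.primeCompl M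
  haveI : Nontrivial N := ε.symm.toEquiv.nontrivial
  let q := I.map (algebraMap A Ap)
  have hq : ringKrullDim (Ap ⧸ q) ≤ 0 := zeroDim I p hp
  have hqm : q ≤ maximalIdeal Ap := by
    rw [← Localization.AtPrime.map_eq_maximalIdeal]; exact Ideal.map_mono hp.1.2
  obtain ⟨e, he, hse⟩ := hs_eq I M p hp hI hM
  have hann : Module.annihilator Ap N ≠ ⊤ := fun h => by
    obtain ⟨y, hy⟩ := exists_ne (0 : N)
    exact hy (by simpa using Module.mem_annihilator.1 (show (1 : Ap) ∈ Module.annihilator Ap N from h ▸ Submodule.mem_top) y)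
  obtain ⟨s, hs'⟩ := Groth.L06.SupportDim.exists_dim_eq_natCast hann
  have hdim : Module.supportDim Ap N = s := Groth.L06.SupportDim.supportDim_eq_quotient.trans hs'
  refine ⟨s, by rw [Module.supportDim_eq_of_equiv ε]; exact hdim, ?_, fun k hk => ?_⟩
  · obtain ⟨l, hl, hlj, hl0⟩ := Groth.L06.SupportDim.exists_parameters s _ hs'
    have hrad : maximalIdeal Ap ≤ q.radical := by
      rw [Ideal.radical_eq_sInf]
      refine le_sInf fun Q hQ => ?_
      haveI := hQ.2
      exact ((IsLocalRing.eq_maximalIdeal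
        ((Groth.L06.SupportDim.le_zero_iff_forall_isMaximal q).1 hq Q hQ.2 hQ.1))).ge
    obtain ⟨c, hc⟩ := Ideal.exists_pow_le_of_le_radical_of_fg hrad (IsNoetherian.noetherian _)
    have hg : Growth s (hs q N) := by
      have h := Groth.L06.HilbertSamuel.growth_of_parameters q hq (l.map (· ^ (c + 1)))
        (fun x hx => by
          obtain ⟨y, hy, rfl⟩ := List.mem_map.1 hx
          have hy' : y ∈ maximalIdeal Ap := by rw [← IsLocalRing.ringJacobson_eq_maximalIdeal]; exact hlj y hy
          show y ^ (c + 1) ∈ q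
          rw [pow_succ]
          exact Ideal.mul_mem_right _ _ (hc (Ideal.pow_mem_pow hy' c)))
        N ?_
      · rwa [List.length_map, hl] at h
      · rw [Groth.L06.SupportDim.le_zero_iff_forall_isMaximal]
        intro Q hQ hle
        refine (Groth.L06.SupportDim.le_zero_iff_forall_isMaximal _).1 hl0 Q hQ (sup_le (le_sup_left.trans hle) ?_)
        refine Ideal.span_le.2 fun y hy => hQ.mem_of_pow_mem (c + 1) ?_
        exact (le_sup_right.trans hle) (Ideal.subset_span (List.mem_map.2 ⟨y, hy, rfl⟩))
    obtain ⟨C, N0, hC⟩ := hg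
    refine ⟨C, N0, fun n hn => le_trans ?_ (hC n hn)⟩
    rw [hse n]
    exact Nat.le_mul_of_pos_right _ he
  · have hg : Growth k (hs q N) := by
      obtain ⟨C, N0, hC⟩ := hk
      refine ⟨C * e, N0, fun n hn => ?_⟩
      rw [hse n, Nat.mul_right_comm]
      exact Nat.mul_le_mul_right _ (hC n hn)
    have h := Groth.L06.HilbertSamuel.supportDim_le_of_growth q hq
      (by rw [IsLocalRing.ringJacobson_eq_maximalIdeal]; exact hqm) N hg
    rw [hdim] at h
    exact_mod_cast h

end Prime

theorem annihilator_le [Nontrivial M] (hI : I ≠ ⊤) (hM : EGA4.IsNormallyFlat I M) :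
    Module.annihilator A M ≤ I := by
  intro x hx
  obtain ⟨r, ⟨b⟩⟩ := exists_basis I M hI hM 0
  haveI : Nontrivial ↥(P I M 0) := Submodule.nontrivial_iff_ne_bot.2 (by
    simp only [P]; rw [pow_zero, Ideal.one_eq_top, Submodule.top_smul]; exact top_ne_bot)
  haveI : Nontrivial (G I M 0) := by
    refine Submodule.Quotient.nontrivial_iff.2 (Ne.symm (Submodule.top_ne_ideal_smul_of_le_jacobson_annihilator ?_))
    exact (le_maximalIdeal hI).trans (IsLocalRing.maximalIdeal_le_jacobson _)
  haveI : Nontrivial (Fin r → A ⧸ I) := b.symm.toEquiv.nontrivial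
  obtain ⟨i⟩ : Nonempty (Fin r) := by
    by_contra h
    rw [not_nonempty_iff] at h
    exact not_subsingleton (Fin r → A ⧸ I) inferInstance
  obtain ⟨z, hz⟩ := Submodule.Quotient.mk_surjective _ (b.symm (Pi.single i 1))
  have h1 : x • b.symm (Pi.single i 1) = 0 := by
    rw [← hz, ← Submodule.Quotient.mk_smul, show x • z = 0 from Subtype.ext (Module.mem_annihilator.1 hx (z : M)),
      Submodule.Quotient.mk_zero]
  rw [← map_smul, LinearEquiv.map_eq_zero_iff] at h1
  have h2 := congrFun h1 i
  rw [← Ideal.Quotient.eq_zero_iff_mem]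
  simpa [Algebra.smul_def] using h2

theorem main [Nontrivial M] (hM : EGA4.IsNormallyFlat I M) (p : Ideal A) [p.IsPrime] (hp : p ∈ I.minimalPrimes) :
    Module.supportDim A M = ringKrullDim (A ⧸ I) +
      Module.supportDim (Localization.AtPrime p) (LocalizedModule p.primeCompl M) := by
  have hI : I ≠ ⊤ := ne_top_of_le_ne_top (Ideal.IsPrime.ne_top ‹_›) hp.1.2
  have hann := annihilator_le I M hI hM
  have hsupp : ∀ (P : Ideal A) [P.IsPrime], P ∈ I.minimalPrimes →
      (⟨P, inferInstance⟩ : PrimeSpectrum A) ∈ Module.support A M := fun P _ hP =>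
    Module.mem_support_iff_of_finite.2 (hann.trans hP.1.2)
  obtain ⟨d, hd⟩ := Groth.L06.SupportDim.exists_dim_eq_natCast hI
  obtain ⟨l, hl⟩ := Order.le_krullDim_iff.1 (ringKrullDim_quotient I ▸ hd.ge)
  obtain ⟨p0, hp0, hp0h⟩ := Ideal.exists_minimalPrimes_le (J := l.head.1.asIdeal) l.head.2
  haveI := hp0.1.1
  have hd0 : ringKrullDim (A ⧸ p0) = d := by
    refine le_antisymm (hd ▸ Groth.L06.SupportDim.ringKrullDim_quotient_anti hp0.1.2) ?_
    rw [← hl]
    exact (Groth.L06.SupportDim.chain_head_le l).trans (Groth.L06.SupportDim.ringKrullDim_quotient_anti hp0h)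
  haveI : Nontrivial (LocalizedModule p.primeCompl M) := Module.mem_support_iff.1 (hsupp p hp)
  haveI : Nontrivial (LocalizedModule p0.primeCompl M) := Module.mem_support_iff.1 (hsupp p0 hp0)
  obtain ⟨s, hs1, hs2, hs3⟩ := growth_iff I M p hp hI hM
  obtain ⟨s', hs1', hs2', hs3'⟩ := growth_iff I M p0 hp0 hI hM
  obtain rfl : s = s' := le_antisymm (hs3 _ hs2') (hs3' _ hs2)
  rw [hd, hs1]
  refine le_antisymm ?_ ?_
  · -- cut by parameters of `A / I`
    obtain ⟨xs, hxs, hxj, hx0⟩ := Groth.L06.SupportDim.exists_parameters d I hd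
    let q0 := I ⊔ Ideal.ofList xs
    let L : Submodule A M := Ideal.ofList xs • ⊤
    have hxm : Ideal.ofList xs ≤ maximalIdeal A := Ideal.span_le.2 fun x hx => by
      rw [← IsLocalRing.ringJacobson_eq_maximalIdeal]; exact hxj x hx
    have hq0m : q0 ≤ maximalIdeal A := sup_le (le_maximalIdeal hI) hxm
    haveI : Nontrivial (A ⧸ q0) :=
      Ideal.Quotient.nontrivial_iff.2 (ne_top_of_le_ne_top (maximalIdeal.isMaximal A).ne_top hq0m)
    have he0 : Module.length A (A ⧸ q0) ≠ ⊤ := by
      have h := Groth.L06.HilbertSamuel.length_ne_top q0 A hx0 1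
      rwa [(Submodule.quotEquivOfEq (q0 ^ 1 • (⊤ : Submodule A A)) q0 (by
        rw [pow_one, smul_eq_mul, Ideal.mul_top])).length_eq] at h
    obtain ⟨e0, he0⟩ := ENat.ne_top_iff_exists.1 he0
    have hQ : ∀ n, Module.length A (M ⧸ (P I M n ⊔ L)) ≤ ((F I M hI hM n * e0 : ℕ) : ℕ∞) := by
      intro n
      induction n with
      | zero =>
        haveI : Subsingleton (M ⧸ (P I M 0 ⊔ L)) := Submodule.Quotient.subsingleton_iff.2 (by simp [P])
        simp [Module.length_eq_zero]
      | succ n ih =>
        obtain ⟨b⟩ := (exists_basis I M hI hM n).choose_spec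
        have hle : P I M (n + 1) ⊔ L ≤ P I M n ⊔ L :=
          sup_le_sup_right (Submodule.smul_mono_left (Ideal.pow_le_pow_right n.le_succ)) _
        let g : (M ⧸ (P I M (n + 1) ⊔ L)) →ₗ[A] M ⧸ (P I M n ⊔ L) := Submodule.factor hle
        have hg : Function.Surjective g := Submodule.factor_surjective hle
        choose v hv using fun j => Submodule.Quotient.mk_surjective _ (b.symm (Pi.single j 1))
        have hkill : ∀ j, q0 ≤ LinearMap.ker (LinearMap.toSpanSingleton A _
            ((P I M (n + 1) ⊔ L).mkQ (v j : M))) := by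
          intro j
          refine sup_le (fun a ha => ?_) (fun a ha => ?_) <;>
            rw [LinearMap.mem_ker, LinearMap.toSpanSingleton_apply, ← map_smul, Submodule.mkQ_apply,
              Submodule.Quotient.mk_eq_zero]
          · refine Submodule.mem_sup_left ?_
            have h1 : a • v j ∈ I • (⊤ : Submodule A ↥(P I M n)) := Submodule.smul_mem_smul ha Submodule.mem_top
            exact (comap_next I M n).ge h1
          · exact Submodule.mem_sup_right (Submodule.smul_mem_smul ha Submodule.mem_top)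
        let h : (Fin (rk I M hI hM n) → A ⧸ q0) →ₗ[A] M ⧸ (P I M (n + 1) ⊔ L) :=
          ∑ j, (Submodule.liftQ q0 _ (hkill j)) ∘ₗ LinearMap.proj j
        have hker : LinearMap.ker g ≤ LinearMap.range h := by
          intro y hy
          obtain ⟨y, rfl⟩ := Submodule.mkQ_surjective _ y
          obtain ⟨z, hz, w, hw, rfl⟩ := Submodule.mem_sup.1 ((Submodule.Quotient.mk_eq_zero _).1 hy)
          let zz : ↥(P I M n) := ⟨z, hz⟩
          choose a ha using fun j => Ideal.Quotient.mk_surjective (b (Submodule.Quotient.mk zz) j)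
          have h1 : zz - ∑ j, a j • v j ∈ I • (⊤ : Submodule A ↥(P I M n)) := by
            rw [← Submodule.Quotient.mk_eq_zero, ← Submodule.mkQ_apply, map_sub, map_sum]
            refine b.injective ?_
            rw [map_sub, map_sum, map_zero, sub_eq_zero]
            funext i
            rw [Finset.sum_apply, Finset.sum_eq_single i]
            · rw [map_smul, map_smul, Submodule.mkQ_apply, Submodule.mkQ_apply, hv, LinearEquiv.apply_symm_apply,
                Pi.smul_apply, Pi.single_eq_same, ← ha]
              simp [Algebra.smul_def]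
            · intro j _ hj
              rw [map_smul, map_smul, Submodule.mkQ_apply, hv, LinearEquiv.apply_symm_apply, Pi.smul_apply,
                Pi.single_eq_of_ne (Ne.symm hj), smul_zero]
            · exact fun hi => absurd (Finset.mem_univ i) hi
          have h1' := (comap_next I M n).ge h1
          refine ⟨fun j => Submodule.Quotient.mk (a j), ?_⟩
          refine (LinearMap.sum_apply _ _ _).trans ?_
          refine (Finset.sum_congr rfl fun j _ =>
            show _ = (P I M (n + 1) ⊔ L).mkQ (a j • (v j : M)) from rfl).trans ?_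
          rw [← map_sum]
          refine ((Submodule.Quotient.eq _).2 ?_).symm
          have h2 : z - ∑ j, a j • (v j : M) ∈ P I M (n + 1) := by
            have h3 : ((zz - ∑ j, a j • v j : ↥(P I M n)) : M) ∈ P I M (n + 1) := h1'
            simpa [zz, Submodule.coe_sum] using h3
          have : z + w - ∑ j, a j • (v j : M) = (z - ∑ j, a j • (v j : M)) + w := by abel
          rw [this]
          exact Submodule.add_mem_sup h2 hw
        rw [Module.length_eq_add_of_exact (LinearMap.ker g).subtype g (Submodule.subtype_injective _) hg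
          (LinearMap.exact_subtype_ker_map g)]
        have hk : Module.length A (LinearMap.ker g) ≤ ((rk I M hI hM n * e0 : ℕ) : ℕ∞) := by
          refine (Module.length_le_of_injective (Submodule.inclusion hker) (Submodule.inclusion_injective hker)).trans ?_
          refine (Module.length_le_of_surjective h.rangeRestrict h.surjective_rangeRestrict).trans ?_
          rw [Module.length_pi_of_fintype, Finset.sum_const, Finset.card_univ, Fintype.card_fin, ← he0, nsmul_eq_mul]
          push_cast
          exact le_rfl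
        refine (add_le_add hk ih).trans (le_of_eq ?_)
        simp only [F, Finset.sum_range_succ]
        push_cast
        ring
    let M' := M ⧸ L
    have hgrow : Growth s (hs q0 M') := by
      obtain ⟨C, N0, hC⟩ := hs2
      refine ⟨C * e0, N0, fun n hn => ?_⟩
      let φ : (M ⧸ (P I M n ⊔ L)) →ₗ[A] M' ⧸ (q0 ^ n • (⊤ : Submodule A M')) :=
        Submodule.liftQ _ ((q0 ^ n • (⊤ : Submodule A M')).mkQ ∘ₗ L.mkQ) (sup_le
          (fun z hz => by
            rw [LinearMap.mem_ker, LinearMap.comp_apply, Submodule.mkQ_apply, Submodule.Quotient.mk_eq_zero]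
            exact Submodule.smul_mono_left (Ideal.pow_right_mono (le_sup_left : I ≤ q0) n)
              (Submodule.smul_top_le_comap_smul_top (I ^ n) L.mkQ hz))
          (fun z hz => by
            rw [LinearMap.mem_ker, LinearMap.comp_apply, Submodule.mkQ_apply L, (Submodule.Quotient.mk_eq_zero L).2 hz, map_zero]))
      have h1 : Module.length A (M' ⧸ (q0 ^ n • (⊤ : Submodule A M'))) ≤ ((F I M hI hM n * e0 : ℕ) : ℕ∞) :=
        (Module.length_le_of_surjective φ (fun y => by
          obtain ⟨y, rfl⟩ := Submodule.mkQ_surjective _ y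
          obtain ⟨y, rfl⟩ := Submodule.mkQ_surjective _ y
          exact ⟨Submodule.Quotient.mk y, rfl⟩)).trans (hQ n)
      rw [← Groth.L06.HilbertSamuel.coe_hs q0 M' hx0 n, Nat.cast_le] at h1
      refine h1.trans ?_
      rw [Nat.mul_right_comm]
      exact Nat.mul_le_mul_right _ (hC n hn)
    have h2 := Groth.L06.HilbertSamuel.supportDim_le_of_growth q0 hx0
      (by rw [IsLocalRing.ringJacobson_eq_maximalIdeal]; exact hq0m) M' hgrow
    rw [Groth.L06.SupportDim.supportDim_quotient_smul] at h2
    rw [Groth.L06.SupportDim.supportDim_eq_quotient]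
    refine (Groth.L06.SupportDim.le_sup_ofList_add xs _ hxj).trans ?_
    rw [hxs, add_comm (d : WithBot ℕ∞)]
    exact add_le_add h2 le_rfl
  · have h := Groth.L06.CMModDim.add_localized_le (hsupp p0 hp0)
    rw [hd0, hs1'] at h
    exact h

end Groth.L06.NormallyFlatDim
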