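import Groth.Agent.L06.NormallyFlatDim
import Groth.Agent.L06.NormallyFlatDepth
import Groth.Agent.L06.GenericNormallyFlat
import Groth.Agent.L04.RegularOpen
import Groth.Agent.L07.WRegLimit
import Groth.Agent.L04.SupportLoc
import Groth.Agent.L12.GrLCIter
import Mathlib.RingTheory.Ideal.AssociatedPrime.Localization

/-! Depth along a prime for generically normally flat modules (EGA IV 6.10.6). -/

set_option autoImplicit false
set_option maxSynthPendingDepth 3
set_option linter.all false
noncomputable section
universe u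
open IsLocalRing RingTheory.Sequence
open Groth.L06.NormallyFlatDim

namespace Groth.L06.NormallyFlatFormula

section Local

variable {A : Type u} [CommRing A] [IsNoetherianRing A] [IsLocalRing A] (I : Ideal A) (hI : I ≠ ⊤)
include hI

theorem regular_of_normallyFlat (X : Type u) [AddCommGroup X] [Module A X] [Module.Finite A X]
    (hX : EGA4.IsNormallyFlat I X) {zs : List A} (h : IsWeaklyRegular (A ⧸ I) zs) : IsWeaklyRegular X zs := by
  refine Groth.L07.RegSeq.isWeaklyRegular_of_quotients (J := I)
    (by rw [IsLocalRing.jacobson_eq_maximalIdeal _ bot_ne_top]; exact le_maximalIdeal hI) fun n => ?_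
  induction n with
  | zero =>
    haveI : Subsingleton (X ⧸ (I ^ 0 • (⊤ : Submodule A X))) := Submodule.Quotient.subsingleton_iff.2 (by simp)
    rw [Groth.L07.RegSeq.isWeaklyRegular_iff_mem]
    intro i hi y _
    rw [Subsingleton.elim y 0]
    exact Submodule.zero_mem _
  | succ n ih =>
    obtain ⟨r, ⟨b⟩⟩ := exists_basis I X hI hX n
    have hle : P I X (n + 1) ≤ P I X n := Submodule.smul_mono_left (Ideal.pow_le_pow_right n.le_succ)
    let f : G I X n →ₗ[A] X ⧸ P I X (n + 1) := Submodule.liftQ _ ((P I X (n + 1)).mkQ ∘ₗ (P I X n).subtype)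
      (by rw [LinearMap.ker_comp, Submodule.ker_mkQ, comap_next])
    let g : (X ⧸ P I X (n + 1)) →ₗ[A] X ⧸ P I X n := Submodule.factor hle
    have hf : Function.Injective f := by
      rw [← LinearMap.ker_eq_bot]
      exact Submodule.ker_liftQ_eq_bot' _ _ (by rw [LinearMap.ker_comp, Submodule.ker_mkQ, comap_next])
    have hex : Function.Exact f g := by
      rw [LinearMap.exact_iff]
      refine le_antisymm (fun x hx => ?_) ?_
      · obtain ⟨m, rfl⟩ := Submodule.mkQ_surjective _ x
        have h1 : m ∈ P I X n := (Submodule.Quotient.mk_eq_zero _).1 hx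
        exact ⟨Submodule.Quotient.mk ⟨m, h1⟩, rfl⟩
      · rintro _ ⟨z, rfl⟩
        obtain ⟨z, rfl⟩ := Submodule.mkQ_surjective _ z
        exact (Submodule.Quotient.mk_eq_zero _).2 z.2
    have hG : IsWeaklyRegular (G I X n) zs :=
      (b.isWeaklyRegular_congr zs).2 (Groth.L07.RegSeq.isWeaklyRegular_pi h r)
    exact (Groth.L06.NormallyFlatDepth.regular_ext zs _ _ _ f g hf hex (Submodule.factor_surjective hle) hG ih).1

theorem depth_local (M : Type u) [AddCommGroup M] [Module A M] [Module.Finite A M] (xs : List A)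
    (hxs : IsWeaklyRegular M xs) (hxm : ∀ x ∈ xs, x ∈ maximalIdeal A)
    (L : Submodule A (M ⧸ (Ideal.ofList xs • (⊤ : Submodule A M)))) [Nontrivial L]
    (hIL : I • (⊤ : Submodule A L) = ⊥) (hL : EGA4.IsNormallyFlat I L)
    (hQ : EGA4.IsNormallyFlat I ((M ⧸ (Ideal.ofList xs • (⊤ : Submodule A M))) ⧸ L)) :
    LocCoh.depth A M = xs.length + LocCoh.depth A (A ⧸ I) := by
  haveI : Nontrivial (A ⧸ I) := Ideal.Quotient.nontrivial_iff.2 hI
  obtain ⟨zs, -, hzs, hzm, c, hc0, hc⟩ := Groth.L04.exists_maximal_regular (I := maximalIdeal A) (M := A ⧸ I)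
    (Groth.L04.smul_top_ne_top_of_nontrivial (maximalIdeal.isMaximal A).ne_top) (IsWeaklyRegular.nil A _) (by simp)
  have hd : LocCoh.depth A (A ⧸ I) = zs.length := Groth.L04.idealDepth_eq_length hzs hzm hc0 hc
  obtain ⟨s, ⟨b⟩⟩ := exists_basis I L hI hL 0
  have h0 : I • (⊤ : Submodule A ↥(P I L 0)) = ⊥ := by
    refine Submodule.map_injective_of_injective (f := (P I L 0).subtype) Subtype.val_injective ?_
    rw [Submodule.map_smul'', Submodule.map_top, Submodule.range_subtype, Submodule.map_bot]
    exact eq_bot_iff.2 ((Submodule.smul_mono le_rfl le_top).trans hIL.le)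
  let e : L ≃ₗ[A] (Fin s → A ⧸ I) :=
    (Submodule.topEquiv.symm.trans (LinearEquiv.ofEq _ (P I L 0) (by simp [P]))).trans
      ((Submodule.quotEquivOfEqBot _ h0).symm.trans b)
  haveI : Nontrivial (Fin s → A ⧸ I) := e.symm.toEquiv.nontrivial
  obtain ⟨i⟩ : Nonempty (Fin s) := by
    by_contra h
    rw [not_nonempty_iff] at h
    exact not_subsingleton (Fin s → A ⧸ I) inferInstance
  have hLreg : IsWeaklyRegular L zs := (e.isWeaklyRegular_congr zs).2 (Groth.L07.RegSeq.isWeaklyRegular_pi hzs s)
  let N := M ⧸ (Ideal.ofList xs • (⊤ : Submodule A M))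
  obtain ⟨hN, hinj⟩ := Groth.L06.NormallyFlatDepth.regular_ext zs _ _ _ L.subtype L.mkQ Subtype.val_injective
    (LinearMap.exact_subtype_mkQ L) L.mkQ_surjective hLreg (regular_of_normallyFlat I hI _ hQ hzs)
  obtain ⟨c, rfl⟩ := Submodule.mkQ_surjective _ c
  have hc0' : c ∉ Ideal.ofList zs • (⊤ : Submodule A (A ⧸ I)) := fun h => hc0 ((Submodule.Quotient.mk_eq_zero _).2 h)
  let v : L := e.symm (Pi.single i c)
  have hv0 : v ∉ Ideal.ofList zs • (⊤ : Submodule A L) := fun h => hc0' (by
    have h1 := Submodule.smul_top_le_comap_smul_top (Ideal.ofList zs) ((LinearMap.proj i).comp e.toLinearMap) h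
    simpa [v] using h1)
  have hv : ∀ a ∈ maximalIdeal A, a • v ∈ Ideal.ofList zs • (⊤ : Submodule A L) := fun a ha => by
    have h1 : a • c ∈ Ideal.ofList zs • (⊤ : Submodule A (A ⧸ I)) := by
      have := hc a ha
      rwa [← map_smul, Submodule.mkQ_apply, Submodule.Quotient.mk_eq_zero] at this
    have h2 := Submodule.smul_top_le_comap_smul_top (Ideal.ofList zs)
      (e.symm.toLinearMap.comp (LinearMap.single A (fun _ : Fin s => A ⧸ I) i)) h1
    simpa [v, ← map_smul, ← Pi.single_smul] using h2
  obtain ⟨m, hm⟩ := Submodule.mkQ_surjective _ (v : N)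
  have hall : IsWeaklyRegular M (xs ++ zs) := (isWeaklyRegular_append_iff _ _ zs).2 ⟨hxs, hN⟩
  have hcm : ∀ y : M, y ∈ Ideal.ofList (xs ++ zs) • (⊤ : Submodule A M) ↔
      (Ideal.ofList xs • (⊤ : Submodule A M)).mkQ y ∈ Ideal.ofList zs • (⊤ : Submodule A N) := by
    intro y
    rw [show (⊤ : Submodule A N) = Submodule.map (Ideal.ofList xs • (⊤ : Submodule A M)).mkQ ⊤ by
      rw [Submodule.map_top, Submodule.range_mkQ], ← Submodule.map_smul'', ← Submodule.mem_comap,
      Submodule.comap_map_mkQ, Ideal.ofList_append, Submodule.sup_smul]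
  rw [hd, show (xs.length : ℕ∞) + (zs.length : ℕ∞) = ((xs ++ zs).length : ℕ) by simp]
  refine Groth.L04.idealDepth_eq_length hall (fun r hr => (List.mem_append.1 hr).elim (hxm r) (hzm r))
    (z := Submodule.Quotient.mk m) ?_ ?_
  · rw [Ne, Submodule.Quotient.mk_eq_zero, hcm, hm]
    exact fun h => hv0 (hinj v h)
  · intro a ha
    rw [← Submodule.Quotient.mk_smul, Submodule.Quotient.mk_eq_zero, hcm, map_smul, hm]
    exact Submodule.smul_top_le_comap_smul_top (Ideal.ofList zs) L.subtype (hv a ha)

end Local

theorem depth_formula {R : Type u} [CommRing R] [IsNoetherianRing R] (p : Ideal R) [p.IsPrime]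
    (M : Type u) [AddCommGroup M] [Module R M] [Module.Finite R M]
    (hp : (⟨p, inferInstance⟩ : PrimeSpectrum R) ∈ Module.support R M) :
    ∃ f : R, f ∉ p ∧ ∀ (q : Ideal R) [q.IsPrime], p ≤ q → f ∉ q →
      LocCoh.depth (Localization.AtPrime q) (LocalizedModule q.primeCompl M) =
        LocCoh.depth (Localization.AtPrime p) (LocalizedModule p.primeCompl M) +
          LocCoh.depth (Localization.AtPrime q) (Localization.AtPrime q ⧸ p.map (algebraMap R (Localization.AtPrime q))) := by
  let Rp := Localization.AtPrime p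
  let Mp := LocalizedModule p.primeCompl M
  let φ := LocalizedModule.mkLinearMap p.primeCompl M
  haveI : Nontrivial Mp := Module.mem_support_iff.1 hp
  haveI : Module.Finite Rp Mp := Module.Finite.of_isLocalizedModule p.primeCompl φ
  obtain ⟨rs, -, hrs, hI, z, hz0, hz⟩ := Groth.L04.exists_maximal_regular (I := maximalIdeal Rp) (M := Mp)
    (Groth.L04.smul_top_ne_top_of_nontrivial (maximalIdeal.isMaximal Rp).ne_top) (IsWeaklyRegular.nil Rp _) (by simp)
  have hd : LocCoh.depth Rp Mp = rs.length := Groth.L04.idealDepth_eq_length hrs hI hz0 hz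
  obtain ⟨bs, hbs, hassoc⟩ : ∃ bs : List R, (∀ b ∈ bs, b ∈ p) ∧
      List.Forall₂ Associated rs (bs.map (algebraMap R Rp)) := by
    clear hrs hd hz hz0 z
    induction rs with
    | nil => exact ⟨[], by simp, List.Forall₂.nil⟩
    | cons r rs ih =>
      rw [List.forall_mem_cons] at hI
      obtain ⟨bs, h1, h2⟩ := ih hI.2
      have hr := hI.1
      rw [← Localization.AtPrime.map_eq_maximalIdeal] at hr
      obtain ⟨⟨⟨b, hb⟩, t⟩, hbt⟩ := (IsLocalization.mem_map_algebraMap_iff p.primeCompl _).1 hr
      exact ⟨b :: bs, List.forall_mem_cons.2 ⟨hb, h1⟩,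
        List.Forall₂.cons ⟨(IsLocalization.map_units Rp t).unit, hbt⟩ h2⟩
  have hlen : bs.length = rs.length := by rw [hassoc.length_eq, List.length_map]
  obtain ⟨f₀, hf₀, hreg⟩ := Groth.L04.exists_isWeaklyRegular_nhd p bs M Mp φ
    ((isWeaklyRegular_map_algebraMap_iff _ _ bs).1 (Groth.L04.isWeaklyRegular_of_associated hassoc hrs))
  let U : Submodule R M := Ideal.ofList bs • ⊤
  let N := M ⧸ U
  have hU : ∀ (q : Ideal R) [q.IsPrime], U.localized' (Localization.AtPrime q) q.primeCompl
      (LocalizedModule.mkLinearMap q.primeCompl M) = Ideal.ofList (bs.map (algebraMap R (Localization.AtPrime q))) • ⊤ := by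
    intro q _
    rw [Submodule.localized'_smul, Submodule.localized'_top, Submodule.localized'_eq_span, ← Ideal.map_ofList]
    rfl
  -- `p` is associated to `N`
  have hspan : Ideal.ofList rs = Ideal.ofList (bs.map (algebraMap R Rp)) := by
    clear hrs hd hz hz0 z hI hlen
    generalize bs.map (algebraMap R Rp) = l at hassoc ⊢
    induction hassoc with
    | nil => rfl
    | cons h _ ih =>
      obtain ⟨w, rfl⟩ := h
      rw [Ideal.ofList_cons, Ideal.ofList_cons, ih, Ideal.span_singleton_mul_right_unit w.isUnit]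
  let Np := Mp ⧸ U.localized' Rp p.primeCompl φ
  obtain ⟨z', hz0', hz'⟩ : ∃ z' : Np, z' ≠ 0 ∧ ∀ a ∈ maximalIdeal Rp, a • z' = 0 := by
    have heq : Ideal.ofList rs • (⊤ : Submodule Rp Mp) = U.localized' Rp p.primeCompl φ := by rw [hspan, hU p]
    exact ⟨Submodule.quotEquivOfEq _ _ heq z, by simpa using hz0, fun a ha => by rw [← map_smul, hz a ha, map_zero]⟩
  have hass : maximalIdeal Rp ∈ associatedPrimes Rp Np := by
    refine isAssociatedPrime_iff.2 ⟨inferInstance, z', le_antisymm
      (fun a ha => Submodule.mem_colon_singleton.2 (by simpa using hz' a ha)) (fun a ha => ?_)⟩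
    rw [Submodule.mem_colon_singleton, Submodule.mem_bot] at ha
    by_contra h
    exact hz0' ((IsLocalRing.notMem_maximalIdeal.1 h).smul_eq_zero.1 ha)
  have hassR : p ∈ associatedPrimes R N := by
    rw [← Module.associatedPrimes.preimage_comap_associatedPrimes_eq_associatedPrimes_of_isLocalizedModule p.primeCompl Rp
      (U.toLocalizedQuotient' Rp p.primeCompl φ), Set.mem_preimage] at hass
    have h2 : Ideal.comap (algebraMap R Rp) (maximalIdeal Rp) = p := IsLocalization.AtPrime.under_maximalIdeal Rp p
    rwa [h2] at hass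
  obtain ⟨-, n, hn⟩ := isAssociatedPrime_iff.1 hassR
  let L : Submodule R N := Submodule.torsionBySet R N (p : Set R)
  have hnL : n ∈ L := (Submodule.mem_torsionBySet_iff _ _).2 fun a => by
    have := hn.le a.2
    simpa using this
  have hpL : p • (⊤ : Submodule R L) = ⊥ := eq_bot_iff.2 (Submodule.smul_le.2 fun a ha x _ => by
    simpa [Subtype.ext_iff] using (Submodule.mem_torsionBySet_iff _ _).1 x.2 ⟨a, ha⟩)
  obtain ⟨f₁, hf₁, H₁⟩ := Groth.L06.GenericNormallyFlat.main p L
  obtain ⟨f₂, hf₂, H₂⟩ := Groth.L06.GenericNormallyFlat.main p (N ⧸ L)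
  refine ⟨f₀ * f₁ * f₂, Ideal.IsPrime.mul_notMem inferInstance (Ideal.IsPrime.mul_notMem inferInstance hf₀ hf₁) hf₂,
    fun q _ hpq hfq => ?_⟩
  have hq2 : f₂ ∉ q := fun h => hfq (q.mul_mem_left _ h)
  have hq1 : f₁ ∉ q := fun h => hfq (q.mul_mem_right _ (q.mul_mem_left _ h))
  have hq0 : f₀ ∉ q := fun h => hfq (q.mul_mem_right _ (q.mul_mem_right _ h))
  let B := Localization.AtPrime q
  let MB := LocalizedModule q.primeCompl M
  let m := LocalizedModule.mkLinearMap q.primeCompl M
  haveI : IsNoetherianRing B := IsLocalization.isNoetherianRing q.primeCompl B inferInstance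
  haveI : Module.Finite B MB := Module.Finite.of_isLocalizedModule q.primeCompl m
  let J := p.map (algebraMap R B)
  have hJm : J ≤ maximalIdeal B := by
    rw [← Localization.AtPrime.map_eq_maximalIdeal]; exact Ideal.map_mono hpq
  rw [hd, ← hlen, ← List.length_map (algebraMap R B) (as := bs)]
  have key : ∀ (X : Submodule B MB) (LB : Submodule B (MB ⧸ X)) (g : N →ₗ[R] MB ⧸ X) [IsLocalizedModule q.primeCompl g],
      LB = L.localized' B q.primeCompl g → X = Ideal.ofList (bs.map (algebraMap R B)) • ⊤ →
      LocCoh.depth B MB = (bs.map (algebraMap R B)).length + LocCoh.depth B (B ⧸ J) := by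
    rintro X LB g _ rfl rfl
    haveI : Nontrivial (L.localized' B q.primeCompl g) := by
      refine ⟨⟨L.toLocalized' B q.primeCompl g ⟨n, hnL⟩, 0, fun h => ?_⟩⟩
      obtain ⟨c, hc⟩ := (IsLocalizedModule.eq_zero_iff q.primeCompl g).1 (congrArg Subtype.val h)
      exact c.2 (hpq (hn.ge (Submodule.mem_colon_singleton.2 (by simpa [Submonoid.smul_def] using hc))))
    refine depth_local J (ne_top_of_le_ne_top (maximalIdeal.isMaximal B).ne_top hJm) MB (bs.map (algebraMap R B))
      ((isWeaklyRegular_map_algebraMap_iff _ _ bs).2 (hreg q.primeCompl ⟨f₀, hq0, dvd_rfl⟩ _ m)) ?_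
      (L.localized' B q.primeCompl g) ?_ ?_ ?_
    · intro x hx
      obtain ⟨x, hx', rfl⟩ := List.mem_map.1 hx
      exact (IsLocalization.AtPrime.to_map_mem_maximal_iff B q x).2 (hpq (hbs x hx'))
    · have h1 := congrArg (fun W => Submodule.localized' B q.primeCompl (L.toLocalized' B q.primeCompl g) W) hpL
      simp only [Submodule.localized'_smul, Submodule.localized'_top, Submodule.localized'_bot] at h1
      rw [← h1]
      congr 1
      rw [Submodule.localized'_eq_span]
      rfl
    · exact H₁ B q.primeCompl _ (L.toLocalized' B q.primeCompl g) (IsLocalization.map_units B (⟨f₁, hq1⟩ : q.primeCompl))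
    · exact H₂ B q.primeCompl _ (L.toLocalizedQuotient' B q.primeCompl g)
        (IsLocalization.map_units B (⟨f₂, hq2⟩ : q.primeCompl))
  exact key _ _ (U.toLocalizedQuotient' B q.primeCompl m) rfl (hU q)

end Groth.L06.NormallyFlatFormula

namespace Groth.L06.NormallyFlatFormula

theorem supportDim_localized_localized {R : Type u} [CommRing R] (M : Type u) [AddCommGroup M] [Module R M]
    (p q : Ideal R) [p.IsPrime] [q.IsPrime] (hpq : p ≤ q) (hp : (⟨p, inferInstance⟩ : PrimeSpectrum R) ∈ Module.support R M)
    [(p.map (algebraMap R (Localization.AtPrime q))).IsPrime] :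
    Module.supportDim (Localization.AtPrime (p.map (algebraMap R (Localization.AtPrime q))))
        (LocalizedModule (p.map (algebraMap R (Localization.AtPrime q))).primeCompl (LocalizedModule q.primeCompl M)) =
      Module.supportDim (Localization.AtPrime p) (LocalizedModule p.primeCompl M) := by
  let B := Localization.AtPrime q
  let MB := LocalizedModule q.primeCompl M
  let e := IsLocalization.AtPrime.primeSpectrumOrderIso B q
  have he : ∀ Q, (e Q).1 = PrimeSpectrum.comap (algebraMap R B) Q := fun Q => rfl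
  let J : PrimeSpectrum B := ⟨p.map (algebraMap R B), inferInstance⟩
  let P : PrimeSpectrum R := ⟨p, inferInstance⟩
  have hJP : e J = ⟨P, hpq⟩ := Subtype.ext (PrimeSpectrum.ext (by
    rw [he]; exact Ideal.under_map_of_isLocalizationAtPrime q hpq))
  have hJ : J ∈ Module.support B MB := (Groth.L04.support_localization q J).2 (by rw [← he, hJP]; exact hp)
  rw [Groth.L12.GrLCLib.supportDim_localized_eq_height J hJ, Groth.L12.GrLCLib.supportDim_localized_eq_height P hp,
    Order.height_eq_krullDim_Iic, Order.height_eq_krullDim_Iic]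
  refine Order.krullDim_eq_of_orderIso
    { toFun := fun Q => ⟨⟨(e Q.1.1).1, he Q.1.1 ▸ (Groth.L04.support_localization q Q.1.1).1 Q.1.2⟩, by
        show (e Q.1.1).1 ≤ P
        have h1 := e.monotone (show Q.1.1 ≤ J from Q.2)
        rw [hJP] at h1
        exact h1⟩
      invFun := fun Q => ⟨⟨e.symm ⟨Q.1.1, le_trans (show Q.1.1 ≤ P from Q.2) hpq⟩, (Groth.L04.support_localization q _).2 (by
          rw [← he, OrderIso.apply_symm_apply]; exact Q.1.2)⟩, by
        show e.symm _ ≤ J
        rw [e.symm_apply_le, hJP]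
        exact Q.2⟩
      left_inv := fun Q => Subtype.ext (Subtype.ext (e.symm_apply_apply Q.1.1))
      right_inv := fun Q => Subtype.ext (Subtype.ext (by
        change (e (e.symm _)).1 = _
        rw [OrderIso.apply_symm_apply]))
      map_rel_iff' := fun {Q Q'} => e.map_rel_iff (a := Q.1.1) (b := Q'.1.1) }

theorem supportDim_eq_add {R : Type u} [CommRing R] [IsNoetherianRing R] (p : Ideal R) [p.IsPrime]
    (M : Type u) [AddCommGroup M] [Module R M] [Module.Finite R M]
    (hp : (⟨p, inferInstance⟩ : PrimeSpectrum R) ∈ Module.support R M) :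
    ∃ f : R, f ∉ p ∧ ∀ (q : Ideal R) [q.IsPrime], p ≤ q → f ∉ q →
      Module.supportDim (Localization.AtPrime q) (LocalizedModule q.primeCompl M) =
        Module.supportDim (Localization.AtPrime p) (LocalizedModule p.primeCompl M) +
          ringKrullDim (Localization.AtPrime q ⧸ p.map (algebraMap R (Localization.AtPrime q))) := by
  obtain ⟨f, hf, H⟩ := Groth.L06.GenericNormallyFlat.main p M
  refine ⟨f, hf, fun q _ hpq hfq => ?_⟩
  let B := Localization.AtPrime q
  let m := LocalizedModule.mkLinearMap q.primeCompl M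
  haveI : IsNoetherianRing B := IsLocalization.isNoetherianRing q.primeCompl B inferInstance
  haveI : Module.Finite B (LocalizedModule q.primeCompl M) := Module.Finite.of_isLocalizedModule q.primeCompl m
  haveI : (p.map (algebraMap R B)).IsPrime := Ideal.isPrime_map_of_isLocalizationAtPrime q hpq
  haveI : Nontrivial (LocalizedModule q.primeCompl M) := by
    have : (⟨q, inferInstance⟩ : PrimeSpectrum R) ∈ Module.support R M :=
      Module.mem_support_iff_of_finite.2 ((Module.mem_support_iff_of_finite.1 hp).trans hpq)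
    exact Module.mem_support_iff.1 this
  have h := Groth.L06.NormallyFlatDim.main (p.map (algebraMap R B)) (LocalizedModule q.primeCompl M)
    (H B q.primeCompl _ m (IsLocalization.map_units B (⟨f, hfq⟩ : q.primeCompl))) (p.map (algebraMap R B))
    (by rw [Ideal.minimalPrimes_eq_subsingleton_self]; rfl)
  rw [h, supportDim_localized_localized M p q hpq hp, add_comm]

theorem depth_quotient_radical {B : Type u} [CommRing B] [IsNoetherianRing B] [IsLocalRing B] {I J : Ideal B}
    (h : I.radical = J.radical) : Module.supportDim B (B ⧸ I) = ringKrullDim (B ⧸ J) := by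
  rw [Module.supportDim_quotient_eq_ringKrullDim, ringKrullDim_quotient, ringKrullDim_quotient,
    ← PrimeSpectrum.zeroLocus_radical I, h, PrimeSpectrum.zeroLocus_radical]

end Groth.L06.NormallyFlatFormula

namespace Groth.L06.NormallyFlatFormula

theorem exists_localized_quotient_equiv {R : Type u} [CommRing R] (I : Ideal R) (q : Ideal R) [q.IsPrime] :
    Nonempty (LocalizedModule q.primeCompl (R ⧸ I) ≃ₗ[Localization.AtPrime q]
      Localization.AtPrime q ⧸ I.map (algebraMap R (Localization.AtPrime q))) := by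
  let B := Localization.AtPrime q
  have hI : Submodule.localized' B q.primeCompl (Algebra.linearMap R B) I = I.map (algebraMap R B) := by
    rw [Submodule.localized'_eq_span]; rfl
  let g := Submodule.toLocalizedQuotient' B q.primeCompl (Algebra.linearMap R B) I
  exact ⟨(LinearEquiv.extendScalarsOfIsLocalization q.primeCompl B (IsLocalizedModule.iso q.primeCompl g)).trans
    (Submodule.quotEquivOfEq _ _ hI)⟩

theorem main {A : Type u} [CommRing A] [IsNoetherianRing A]
    (M : Type u) [AddCommGroup M] [Module A M] [Module.Finite A M] (I : Ideal A) [I.radical.IsPrime]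
    (hp : (⟨I.radical, inferInstance⟩ : PrimeSpectrum A) ∈ Module.support A M) :
    ∃ f : A, f ∉ I.radical ∧ ∀ (q : Ideal A) [q.IsPrime], I ≤ q → f ∉ q →
      Module.supportDim (Localization.AtPrime q) (LocalizedModule q.primeCompl M) =
          Module.supportDim (Localization.AtPrime I.radical) (LocalizedModule I.radical.primeCompl M) +
            Module.supportDim (Localization.AtPrime q)
              (Localization.AtPrime q ⧸ I.map (algebraMap A (Localization.AtPrime q))) ∧
        LocCoh.depth (Localization.AtPrime q) (LocalizedModule q.primeCompl M) =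
          LocCoh.depth (Localization.AtPrime I.radical) (LocalizedModule I.radical.primeCompl M) +
            LocCoh.depth (Localization.AtPrime q)
              (Localization.AtPrime q ⧸ I.map (algebraMap A (Localization.AtPrime q))) := by
  let p := I.radical
  have hpI : (⟨p, inferInstance⟩ : PrimeSpectrum A) ∈ Module.support A (A ⧸ I) :=
    Module.mem_support_iff_of_finite.2 (by rw [Ideal.annihilator_quotient]; exact Ideal.le_radical)
  obtain ⟨f₁, hf₁, H₁⟩ := supportDim_eq_add p M hp
  obtain ⟨f₂, hf₂, H₂⟩ := depth_formula p M hp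
  obtain ⟨f₃, hf₃, H₃⟩ := depth_formula p (A ⧸ I) hpI
  refine ⟨f₁ * f₂ * f₃, Ideal.IsPrime.mul_notMem inferInstance (Ideal.IsPrime.mul_notMem inferInstance hf₁ hf₂) hf₃,
    fun q _ hIq hfq => ?_⟩
  have hq3 : f₃ ∉ q := fun h => hfq (q.mul_mem_left _ h)
  have hq2 : f₂ ∉ q := fun h => hfq (q.mul_mem_right _ (q.mul_mem_left _ h))
  have hq1 : f₁ ∉ q := fun h => hfq (q.mul_mem_right _ (q.mul_mem_right _ h))
  have hpq : p ≤ q := (Ideal.IsPrime.radical_le_iff ‹q.IsPrime›).2 hIq
  let B := Localization.AtPrime q
  haveI : IsNoetherianRing B := IsLocalization.isNoetherianRing q.primeCompl B inferInstance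
  constructor
  · rw [H₁ q hpq hq1, depth_quotient_radical (I := I.map (algebraMap A B)) (J := p.map (algebraMap A B)) ?_]
    rw [← IsLocalization.map_radical q.primeCompl B I, ← IsLocalization.map_radical q.primeCompl B p]
    simp [p, Ideal.radical_idem]
  · obtain ⟨eq'⟩ := exists_localized_quotient_equiv I q
    rw [H₂ q hpq hq2]
    congr 1
    rw [show LocCoh.depth B (B ⧸ I.map (algebraMap A B)) =
      LocCoh.depth B (LocalizedModule q.primeCompl (A ⧸ I)) from (Groth.L04.idealDepth_congr eq').symm,
      H₃ q hpq hq3]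
    suffices h : LocCoh.depth (Localization.AtPrime p) (LocalizedModule p.primeCompl (A ⧸ I)) = 0 by
      rw [h, zero_add]
    haveI : IsNoetherianRing (Localization.AtPrime p) := IsLocalization.isNoetherianRing p.primeCompl _ inferInstance
    haveI : Nontrivial (LocalizedModule p.primeCompl (A ⧸ I)) := Module.mem_support_iff.1 hpI
    haveI : Module.Finite (Localization.AtPrime p) (LocalizedModule p.primeCompl (A ⧸ I)) :=
      Module.Finite.of_isLocalizedModule p.primeCompl (LocalizedModule.mkLinearMap p.primeCompl (A ⧸ I))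
    have h1 := Groth.L04.depth_le_supportDim (R := Localization.AtPrime p) (M := LocalizedModule p.primeCompl (A ⧸ I))
    obtain ⟨ep⟩ := exists_localized_quotient_equiv I p
    rw [Module.supportDim_eq_of_equiv ep,
      depth_quotient_radical (I := I.map (algebraMap A (Localization.AtPrime p))) (J := p.map (algebraMap A (Localization.AtPrime p))) ?_] at h1
    · rw [Localization.AtPrime.map_eq_maximalIdeal] at h1
      have h2 : ringKrullDim (Localization.AtPrime p ⧸ maximalIdeal (Localization.AtPrime p)) = 0 :=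
        ringKrullDim_eq_zero_of_field (IsLocalRing.ResidueField (Localization.AtPrime p))
      rw [h2] at h1
      exact le_antisymm (by exact_mod_cast h1) bot_le
    · rw [← IsLocalization.map_radical p.primeCompl, ← IsLocalization.map_radical p.primeCompl]
      simp [p, Ideal.radical_idem]

end Groth.L06.NormallyFlatFormula
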