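import Groth.Agent.L06.FibreComponentsGeneric
import Groth.Agent.L07.UnivOpenFibre
import Groth.Agent.L07.EquidimPoint
import Groth.Agent.L07.Count.Proper
import Groth.Agent.L22.Cyc.ClosedSub

/-! Components dominating the base through maximal points of a fibre. -/

set_option autoImplicit false
set_option maxSynthPendingDepth 3
set_option backward.isDefEq.respectTransparency.types false
set_option backward.isDefEq.respectTransparency false
set_option linter.style.haveILetI false
universe u

open CategoryTheory AlgebraicGeometry TopologicalSpace Topology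

namespace Groth.L06.OpenAtComponents

open Groth.L07.DimToolkit Groth.L07.Equidim Groth.L22

variable {X Y : Scheme.{u}}

theorem dense_image_closure [IrreducibleSpace Y] (f : X ⟶ Y) {ξ : X} (h : f ξ = genericPoint Y) :
    Dense (f.base '' closure ({ξ} : Set X)) := by
  refine dense_iff_closure_eq.mpr (Set.eq_univ_iff_forall.mpr fun w => ?_)
  have hmem : genericPoint Y ∈ f.base '' closure ({ξ} : Set X) := ⟨ξ, subset_closure rfl, h⟩
  refine closure_mono (Set.singleton_subset_iff.mpr hmem) ?_
  exact specializes_iff_mem_closure.mp ((genericPoint_spec Y).specializes trivial)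

theorem component_of_maximal {ξ : X} (h : ∀ q, q ⤳ ξ → q = ξ) :
    closure ({ξ} : Set X) ∈ irreducibleComponents (X : Type u) :=
  (Groth.L07.EquidimQF.closure_singleton_mem_irreducibleComponents_iff ξ).mpr h

theorem dim_inter_generic [IrreducibleSpace Y] (f : X ⟶ Y) {ξ : X} (h : f ξ = genericPoint Y) :
    topologicalKrullDim ↥(closure ({ξ} : Set X) ∩ f.base ⁻¹' {genericPoint Y}) = fdim f ξ := by
  rw [← h]; rfl

/-- the local dimension of a component through a maximal point of the fibre -/
theorem localDim_component (f : X ⟶ Y) [LocallyOfFiniteType f] {ξ z : X} (hξz : ξ ⤳ z)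
    (hmax : ∀ z', f z' = f z → z' ⤳ z → z' = z) (hz : z ∈ closure ({ξ} : Set X) ∩ f.base ⁻¹' {f.base z}) :
    FlatMor.localDim ↥(closure ({ξ} : Set X) ∩ f.base ⁻¹' {f.base z}) ⟨z, hz⟩ = fdim f z := by
  let i := Cyc.clι ξ
  obtain ⟨w, hw⟩ : z ∈ Set.range i := by rw [Cyc.range_clι]; exact hz.1
  rw [localDim_eq_fibreDimAt_comp i f w _ (Cyc.range_clι ξ) z hw hz,
    ← Groth.L07.OpenFibreDim.fdim_eq_fibreDimAt (i ≫ f) w (fun w' hw' hsp => ?_), fdim_comp i f (i ≫ f) rfl, hw]
  apply i.isEmbedding.injective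
  rw [hmax (i w') (by rw [← hw]; simpa [Scheme.Hom.comp_apply] using hw') (hw ▸ hsp.map i.continuous), hw]

/-- a component through a maximal point of the fibre with the dimension of the base dominates -/
theorem exists_of_dim_eq [IrreducibleSpace Y] [IsLocallyNoetherian Y] (f : X ⟶ Y) [LocallyOfFiniteType f] (z : X)
    (hmax : ∀ z', f z' = f z → z' ⤳ z → z' = z)
    (hd : ringKrullDim (X.presheaf.stalk z) = ringKrullDim (Y.presheaf.stalk (f z))) :
    ∃ ξ : X, ξ ⤳ z ∧ (∀ q, q ⤳ ξ → q = ξ) ∧ f ξ = genericPoint Y ∧ fdim f ξ = fdim f z := by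
  haveI : IsLocallyNoetherian X := LocallyOfFiniteType.isLocallyNoetherian f
  obtain ⟨ξ, hξz, d, hξmax, hd', hd''⟩ := exists_dim_locQuot_eq z
  obtain ⟨A, B, n, N, hA, hB, hn, hN, hle, -⟩ := formula f hξz
  obtain rfl : A = d := by exact_mod_cast hA.symm.trans (hd'.trans hd'')
  have hY : ringKrullDim (Y.presheaf.stalk (f z)) = (A : WithBot ℕ∞) := hd.symm.trans hd''
  have hBA : B ≤ A := by exact_mod_cast hB.symm.le.trans ((dim_locQuot_le _ _ _).trans hY.le)
  have hNn : N ≤ n := by
    have h1 := fdim_le_fibreDimAt_of_specializes f hξz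
    rw [← Groth.L07.OpenFibreDim.fdim_eq_fibreDimAt f z hmax, hn, hN] at h1
    exact_mod_cast h1
  obtain rfl : B = A := by omega
  obtain rfl : N = n := by omega
  refine ⟨ξ, hξz, hξmax, ?_, hN.trans hn.symm⟩
  exact (maximal_of_dim_locQuot (f z) (f ξ) (hξz.map f.continuous) (hB.trans hY.symm) (genericPoint Y)
    ((genericPoint_spec Y).specializes trivial)).symm

theorem dim_eq_of_component [IrreducibleSpace Y] [IsLocallyNoetherian Y] (f : X ⟶ Y) [LocallyOfFiniteType f] (z : X)
    (hmax : ∀ z', f z' = f z → z' ⤳ z → z' = z) (hcat : CAlg.IsUniversallyCatenary (Y.presheaf.stalk (f z)))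
    {ξ : X} (hξz : ξ ⤳ z) (hfξ : f ξ = genericPoint Y) (hfd : fdim f ξ = fdim f z) :
    ringKrullDim (X.presheaf.stalk z) = ringKrullDim (Y.presheaf.stalk (f z)) := by
  haveI : IsLocallyNoetherian X := LocallyOfFiniteType.isLocallyNoetherian f
  refine le_antisymm ?_ ?_
  · have := Groth.L07.OpenDim.ringKrullDim_stalk_le f z
    rwa [fibre_dim_zero f z hmax, add_zero] at this
  · obtain ⟨A, B, n, N, hA, hB, hn, hN, -, heq⟩ := formula f hξz
    obtain rfl : N = n := by exact_mod_cast hN.symm.trans (hfd.trans hn)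
    have := heq hcat
    obtain rfl : A = B := by omega
    rw [dim_locQuot_congr' hfξ (hξz.map f.continuous) ((genericPoint_spec Y).specializes trivial),
      dim_locQuot_genericPoint] at hB
    rw [hB, ← hA]
    exact dim_locQuot_le _ _ _

theorem maximal_of_fibre_dim_zero (f : X ⟶ Y) [LocallyOfFiniteType f] (z : X)
    (h : ringKrullDim ((f.fiber (f z)).presheaf.stalk (f.asFiber z)) = 0) :
    ∀ z', f z' = f z → z' ⤳ z → z' = z := by
  refine maximal_of_fdim f z ?_
  obtain ⟨a, b, ha, hb, hab⟩ := exists_fibreDimAt f z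
  obtain rfl : b = 0 := by exact_mod_cast hb.symm.trans h
  rw [ha, hab, add_zero]

end Groth.L06.OpenAtComponents
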