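import Groth.Agent.L06.PBasisUniv
import Groth.Prelude.Def_FSRel
import Mathlib.RingTheory.Unramified.Field
import Mathlib.RingTheory.Smooth.Basic
import Mathlib.RingTheory.Kaehler.Basic
import Mathlib.RingTheory.Nakayama
import Mathlib.RingTheory.IntegralClosure.IsIntegralClosure.Basic
import Mathlib.RingTheory.Ideal.Quotient.Nilpotent
import Mathlib.LinearAlgebra.Finsupp.SumProd

/-! Consequences of the universal property of `p`-bases. -/

set_option autoImplicit false
set_option maxSynthPendingDepth 3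
set_option linter.style.haveILetI false
universe u

namespace Groth.L06.PBasisUniv

open EGA41 (pMonomial pPowerSubalgebra IsPBasis IsPIndependent IsPGenerating)
open scoped TensorProduct

theorem sub_pow_eq_zero {E : Type u} [CommRing E] {p : ℕ} (hp : p.Prime) (hpE : (p : E) = 0) {a b : E}
    (n : ℕ) (h : a ^ p ^ n = b ^ p ^ n) : (a - b) ^ p ^ n = 0 := by
  obtain ⟨r, hr⟩ := exists_add_pow_prime_pow_eq hp (a - b) b n
  rw [sub_add_cancel, hpE] at hr
  linear_combination (norm := ring_nf) (-1 : E) * hr + h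

theorem pow_congr {E : Type u} [CommRing E] {p : ℕ} (hp : p.Prime) (hpE : (p : E) = 0) {a b : E} (n : ℕ)
    (h : (a - b) ^ p ^ n = 0) : a ^ p ^ n = b ^ p ^ n := by
  obtain ⟨r, hr⟩ := exists_add_pow_prime_pow_eq hp (a - b) b n
  rw [sub_add_cancel, hpE, h] at hr
  linear_combination (norm := ring_nf) hr

/-- `x ↦ x ^ p` -/
noncomputable def powHom {E : Type u} [CommRing E] {p : ℕ} (hp : p.Prime) (hpE : (p : E) = 0) : E →+* E where
  toFun a := a ^ p
  map_one' := one_pow p
  map_mul' a b := mul_pow a b p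
  map_zero' := zero_pow hp.ne_zero
  map_add' a b := by
    obtain ⟨r, hr⟩ := exists_add_pow_prime_eq hp a b
    rw [hpE] at hr
    linear_combination (norm := ring_nf) hr

section unramified

variable (p : ℕ) [hp : Fact p.Prime]

theorem surjective_of_field {k B : Type u} [Field k] [CommRing B] [Algebra k B] [Algebra.FiniteType k B]
    [Algebra.FormallyUnramified k B] (hpB : (p : B) = 0) (s : ℕ)
    (hpow : ∀ b : B, b ^ p ^ s ∈ Set.range (algebraMap k B)) : Function.Surjective (algebraMap k B) := by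
  intro b
  by_contra hb
  let W : Submodule k B := Submodule.span k {1}
  have hbW : b ∉ W := fun h => by
    obtain ⟨c, hc⟩ := Submodule.mem_span_singleton.mp h
    exact hb ⟨c, by rw [Algebra.algebraMap_eq_smul_one, hc]⟩
  obtain ⟨φ, hφb, hφW⟩ := Submodule.exists_dual_map_eq_bot_of_notMem hbW inferInstance
  let K := AlgebraicClosure k
  haveI : IsReduced (K ⊗[k] B) := Algebra.FormallyUnramified.isReduced_of_field K (K ⊗[k] B)
  obtain ⟨c, hc⟩ := hpow b
  obtain ⟨d, hd⟩ := IsAlgClosed.exists_pow_nat_eq (algebraMap k K c) (pow_pos hp.out.pos s)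
  have hp0 : ((p : ℕ) : K ⊗[k] B) = 0 := by
    rw [← map_natCast (Algebra.TensorProduct.includeRight : B →ₐ[k] K ⊗[k] B) p, hpB, map_zero]
  have h1 : ((1 : K) ⊗ₜ[k] b - d ⊗ₜ[k] (1 : B)) ^ p ^ s = 0 := sub_pow_eq_zero hp.out hp0 s (by
    rw [Algebra.TensorProduct.tmul_pow, Algebra.TensorProduct.tmul_pow, one_pow, one_pow, hd, ← hc,
      Algebra.algebraMap_eq_smul_one, Algebra.algebraMap_eq_smul_one, TensorProduct.smul_tmul])
  have h2 := congrArg (φ.lTensor K) (IsReduced.eq_zero _ ⟨_, h1⟩)
  have hφ1 : φ (1 : B) = 0 := by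
    have h3 : φ 1 ∈ W.map φ := Submodule.mem_map_of_mem (Submodule.mem_span_singleton_self 1)
    rwa [hφW, Submodule.mem_bot] at h3
  rw [map_sub, map_zero, LinearMap.lTensor_tmul, LinearMap.lTensor_tmul, hφ1, TensorProduct.tmul_zero, sub_zero] at h2
  refine hφb ?_
  have h4 := congrArg (TensorProduct.rid k K) h2
  rw [TensorProduct.rid_tmul, map_zero, ← Algebra.algebraMap_eq_smul_one] at h4
  exact (map_eq_zero _).mp h4

theorem surjective_of_unramified {A B : Type u} [CommRing A] [CommRing B] [Algebra A B] [Algebra.FiniteType A B]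
    (hpB : (p : B) = 0) (s : ℕ) (hpow : ∀ b : B, b ^ p ^ s ∈ Set.range (algebraMap A B))
    [Subsingleton (Ω[B⁄A])] : Function.Surjective (algebraMap A B) := by
  haveI : Algebra.FormallyUnramified A B := ⟨inferInstance⟩
  haveI : Algebra.IsIntegral A B := ⟨fun b => by
    obtain ⟨a, ha⟩ := hpow b
    exact IsIntegral.of_pow (pow_pos hp.out.pos s) (ha ▸ isIntegral_algebraMap)⟩
  haveI : Module.Finite A B := Algebra.IsIntegral.finite
  have key : ∀ m : Ideal A, m.IsMaximal → ∀ b : B, ∃ a, b - algebraMap A B a ∈ m.map (algebraMap A B) := by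
    intro m hm b
    let k := A ⧸ m
    letI : Field k := Ideal.Quotient.field m
    let B' := B ⧸ m.map (algebraMap A B)
    letI : Algebra k B' := (Ideal.quotientMap _ (algebraMap A B) Ideal.le_comap_map).toAlgebra
    haveI : IsScalarTower A k B' := IsScalarTower.of_algebraMap_eq fun _ => rfl
    haveI : Algebra.FormallyUnramified B B' :=
      Algebra.FormallyUnramified.of_surjective (IsScalarTower.toAlgHom B B B') Ideal.Quotient.mk_surjective
    haveI : Algebra.FormallyUnramified A B' := Algebra.FormallyUnramified.comp A B B'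
    haveI : Algebra.FormallyUnramified k B' := Algebra.FormallyUnramified.of_restrictScalars A k B'
    haveI : Algebra.FiniteType A B' := Algebra.FiniteType.of_surjective (IsScalarTower.toAlgHom A B B') Ideal.Quotient.mk_surjective
    haveI : Algebra.FiniteType k B' := Algebra.FiniteType.of_restrictScalars_finiteType A k B'
    obtain ⟨c, hc⟩ := surjective_of_field p (k := k) (B := B') (by rw [← map_natCast (Ideal.Quotient.mk _), hpB, map_zero]) s
      (fun z => by
        obtain ⟨z, rfl⟩ := Ideal.Quotient.mk_surjective z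
        obtain ⟨a, ha⟩ := hpow z
        exact ⟨Ideal.Quotient.mk m a, by
          show Ideal.Quotient.mk _ (algebraMap A B a) = _
          rw [ha, map_pow]⟩) (Ideal.Quotient.mk _ b)
    obtain ⟨a, rfl⟩ := Ideal.Quotient.mk_surjective c
    exact ⟨a, Ideal.Quotient.eq.mp hc.symm⟩
  let N : Submodule A B := LinearMap.range (Algebra.linearMap A B)
  suffices h : Subsingleton (B ⧸ N) from fun b => Submodule.Quotient.mk_eq_zero N |>.mp (Subsingleton.elim (Submodule.Quotient.mk b) 0)
  have hann : (⊤ : Submodule A (B ⧸ N)).annihilator = ⊤ := by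
    by_contra hne
    obtain ⟨m, hm, hle⟩ := Ideal.exists_le_maximal _ hne
    obtain ⟨r, hr1, hr⟩ := Submodule.exists_sub_one_mem_and_smul_eq_zero_of_fg_of_le_smul m (⊤ : Submodule A (B ⧸ N))
      Module.Finite.fg_top (fun q _ => by
        obtain ⟨b, rfl⟩ := Submodule.Quotient.mk_surjective N q
        obtain ⟨a, ha⟩ := key m hm b
        have h1 : Submodule.Quotient.mk b = N.mkQ (b - algebraMap A B a) := by
          rw [map_sub, show N.mkQ (algebraMap A B a) = 0 from (Submodule.Quotient.mk_eq_zero N).mpr ⟨a, rfl⟩, sub_zero]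
          rfl
        rw [h1]
        have h2 : b - algebraMap A B a ∈ m • (⊤ : Submodule A B) := by
          rw [Ideal.smul_top_eq_map]; exact ha
        have h3 := Submodule.mem_map_of_mem (f := N.mkQ) h2
        rw [Submodule.map_smul''] at h3
        exact Submodule.smul_mono le_rfl le_top h3)
    exact hm.ne_top (m.eq_top_iff_one.mpr (by
      simpa using sub_mem (hle (Submodule.mem_annihilator.mpr fun q _ => hr q Submodule.mem_top)) hr1))
  exact ⟨fun q q' => by
    have h1 : (1 : A) ∈ (⊤ : Submodule A (B ⧸ N)).annihilator := hann ▸ Submodule.mem_top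
    rw [← one_smul A q, ← one_smul A q', Submodule.mem_annihilator.mp h1 q Submodule.mem_top,
      Submodule.mem_annihilator.mp h1 q' Submodule.mem_top]⟩

end unramified

section apps

variable (p : ℕ) [hp : Fact p.Prime] {A B : Type u} [CommRing A] [CommRing B] [Algebra A B] [CharP B p] {ι : Type u}

theorem isPGenerating_of_span (x : ι → B) [Algebra.FiniteType (pPowerSubalgebra p A B) B]
    (h : Submodule.span B (Set.range fun i => KaehlerDifferential.D A B (x i)) = ⊤) : IsPGenerating p A x := by
  let S := pPowerSubalgebra p A B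
  haveI : IsScalarTower A S B := IsScalarTower.of_algebraMap_eq fun _ => rfl
  let T := Algebra.adjoin S (Set.range x)
  haveI : IsScalarTower A T B := IsScalarTower.of_algebraMap_eq fun _ => rfl
  haveI : Algebra.FiniteType T B := Algebra.FiniteType.of_restrictScalars_finiteType S T B
  haveI : Subsingleton (Ω[B⁄T]) := by
    have hmap : ∀ w, KaehlerDifferential.map A T B B w = 0 := fun w => by
      induction (h ▸ Submodule.mem_top : w ∈ Submodule.span B (Set.range fun i => KaehlerDifferential.D A B (x i)))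
        using Submodule.span_induction with
      | mem y hy =>
        obtain ⟨i, rfl⟩ := hy
        rw [KaehlerDifferential.map_D]
        exact (KaehlerDifferential.D T B).map_algebraMap ⟨x i, Algebra.subset_adjoin ⟨i, rfl⟩⟩
      | zero => rw [map_zero]
      | add y z _ _ hy hz => rw [map_add, hy, hz, add_zero]
      | smul c y _ hy => rw [map_smul, hy, smul_zero]
    exact ⟨fun w w' => by
      obtain ⟨w, rfl⟩ := KaehlerDifferential.map_surjective A T B w
      obtain ⟨w', rfl⟩ := KaehlerDifferential.map_surjective A T B w'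
      rw [hmap, hmap]⟩
  rw [isPGenerating_iff, eq_top_iff]
  intro b _
  obtain ⟨⟨t, ht⟩, rfl⟩ := surjective_of_unramified p (A := T) (CharP.cast_eq_zero B p) 1 (fun b => by
    rw [pow_one]
    exact ⟨⟨b ^ p, Subalgebra.algebraMap_mem T (⟨b ^ p, pow_mem_pPower p b⟩ : S)⟩, rfl⟩) b
  exact ht

theorem exists_section_iff (hinj : Function.Injective (algebraMap A B))
    (hpow : ∀ b : B, b ^ p ∈ Set.range (algebraMap A B)) (x : ι → B) (hx : IsPBasis p A x)
    {E : Type u} [CommRing E] [Algebra A E] (q : E →ₐ[A] B) (hq : Function.Surjective q)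
    (hK : RingHom.ker q.toRingHom ^ p = ⊥) :
    ((∃ v : B →ₐ[A] E, q.comp v = AlgHom.id A B) ↔
      ∀ (z : E) (a : A), algebraMap A B a = q z ^ p → algebraMap A E a = z ^ p) ∧
    ((∀ (z : E) (a : A), algebraMap A B a = q z ^ p → algebraMap A E a = z ^ p) →
      ∀ z : ι → E, (∀ i, q (z i) = x i) →
        (∃! v : B →ₐ[A] E, ∀ i, v (x i) = z i) ∧ ∀ v : B →ₐ[A] E, (∀ i, v (x i) = z i) → q.comp v = AlgHom.id A B) := by
  have htop := (isPGenerating_iff_adjoin p hpow x).mp hx.2
  have hLI := (isPIndependent_iff_linearIndependent p hpow hinj x).mp hx.1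
  have hB : ∀ f g : B →ₐ[A] E, (∀ i, f (x i) = g (x i)) → f = g := fun f g h => AlgHom.coe_ringHom_injective
    (hom_ext x htop (fun r => (f.commutes r).trans (g.commutes r).symm) h)
  have main : (∀ (z : E) (a : A), algebraMap A B a = q z ^ p → algebraMap A E a = z ^ p) →
      ∀ z : ι → E, (∀ i, q (z i) = x i) →
        (∃! v : B →ₐ[A] E, ∀ i, v (x i) = z i) ∧ ∀ v : B →ₐ[A] E, (∀ i, v (x i) = z i) → q.comp v = AlgHom.id A B := by
    intro h z hz
    choose a ha using fun i => hpow (x i)
    obtain ⟨v, hv, hvx⟩ := exists_hom p x a (fun i => (ha i).symm) hLI htop (algebraMap A E) z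
      fun i => (h (z i) (a i) (by rw [ha, hz])).symm
    refine ⟨⟨AlgHom.mk v hv, hvx, fun w hw => hB _ _ fun i => (hw i).trans (hvx i).symm⟩, fun w hw => ?_⟩
    refine AlgHom.coe_ringHom_injective (hom_ext x htop (fun r => (q.comp w).commutes r) fun i => ?_)
    show q (w (x i)) = x i
    rw [hw, hz]
  refine ⟨⟨fun ⟨v, hv⟩ z a ha => ?_, fun h => ?_⟩, main⟩
  · have hpE : (p : E) = 0 := by rw [← map_natCast v p, CharP.cast_eq_zero, map_zero]
    rw [← v.commutes, ha, map_pow]
    have h1 : (v (q z) - z) ^ p = 0 := by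
      rw [← Ideal.mem_bot, ← hK]
      exact Ideal.pow_mem_pow (show q (v (q z) - z) = 0 by
        rw [map_sub, ← AlgHom.comp_apply, hv, AlgHom.id_apply, sub_self]) p
    have h2 := pow_congr hp.out hpE 1 (by rwa [pow_one] : (v (q z) - z) ^ p ^ 1 = 0)
    rwa [pow_one] at h2
  · choose z hz using fun i => hq (x i)
    obtain ⟨⟨v, hv, -⟩, hall⟩ := main h z hz
    exact ⟨v, hall v hv⟩

theorem derivation_extends_iff (hinj : Function.Injective (algebraMap A B))
    (hpow : ∀ b : B, b ^ p ∈ Set.range (algebraMap A B)) (x : ι → B) (hx : IsPBasis p A x)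
    (L : Type u) [AddCommGroup L] [Module B L] [Module A L] [IsScalarTower A B L] (D : Derivation ℤ A L) :
    ((∃ D' : Derivation ℤ B L, ∀ a : A, D' (algebraMap A B a) = D a) ↔ ∀ (a : A) (b : B), algebraMap A B a = b ^ p → D a = 0) ∧
    ((∀ (a : A) (b : B), algebraMap A B a = b ^ p → D a = 0) →
      ∀ y : ι → L, ∃! D' : Derivation ℤ B L, (∀ a : A, D' (algebraMap A B a) = D a) ∧ ∀ i, D' (x i) = y i) := by
  have htop := (isPGenerating_iff_adjoin p hpow x).mp hx.2
  have hLI := (isPIndependent_iff_linearIndependent p hpow hinj x).mp hx.1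
  have main : (∀ (a : A) (b : B), algebraMap A B a = b ^ p → D a = 0) →
      ∀ y : ι → L, ∃! D' : Derivation ℤ B L, (∀ a : A, D' (algebraMap A B a) = D a) ∧ ∀ i, D' (x i) = y i := by
    intro h y
    choose a ha using fun i => hpow (x i)
    obtain ⟨D', hD', hy⟩ := exists_derivation p x a (fun i => (ha i).symm) hLI htop (CharP.cast_eq_zero B p) D
      (fun i => h _ _ (ha i)) y
    exact ⟨D', ⟨hD', hy⟩, fun E ⟨hE, hEy⟩ =>
      derivation_ext x htop (fun r => (hE r).trans (hD' r).symm) fun i => (hEy i).trans (hy i).symm⟩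
  refine ⟨⟨fun ⟨D', hD'⟩ a b hab => ?_, fun h => ?_⟩, main⟩
  · rw [← hD', hab, Derivation.leibniz_pow, ← Nat.cast_smul_eq_nsmul B, CharP.cast_eq_zero, zero_smul]
  · obtain ⟨D', ⟨hD', -⟩, -⟩ := main h 0
    exact ⟨D', hD'⟩

theorem isFormallySmoothRel {R : Type u} [CommRing R] [Algebra R A] [Algebra R B] [IsScalarTower R A B]
    (hinj : Function.Injective (algebraMap A B)) (hpow : ∀ b : B, b ^ p ∈ Set.range (algebraMap A B))
    (hR : Set.range (algebraMap R B) = Set.range fun b : B => b ^ p) (x : ι → B) (hx : IsPBasis p A x) :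
    EGA41.IsFormallySmoothRel R A B := by
  intro C _ _ _ _ J _ u₀ ⟨u, hu⟩
  have htop := (isPGenerating_iff_adjoin p hpow x).mp hx.2
  have hLI := (isPIndependent_iff_linearIndependent p hpow hinj x).mp hx.1
  choose r hr using fun i => (hR.symm ▸ ⟨x i, rfl⟩ : x i ^ p ∈ Set.range (algebraMap R B))
  obtain ⟨v, hv, hvx⟩ := exists_hom p x (fun i => algebraMap R A (r i))
    (fun i => by rw [← hr, IsScalarTower.algebraMap_apply R A B]) hLI htop (algebraMap A C) (fun i => u (x i))
    fun i => by rw [← map_pow, ← hr, AlgHom.commutes, IsScalarTower.algebraMap_apply R A C]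
  refine ⟨AlgHom.mk v hv, AlgHom.coe_ringHom_injective (hom_ext x htop (fun a => ?_) fun i => ?_)⟩
  · exact ((Ideal.Quotient.mkₐ A J).comp (AlgHom.mk v hv)).commutes a |>.trans (u₀.commutes a).symm
  · show Ideal.Quotient.mk J (v (x i)) = u₀ (x i)
    rw [hvx]
    exact DFunLike.congr_fun hu (x i)

theorem perfect_lift [CharP A p] [PerfectRing A p] [IsReduced B] (x : ι → B) (hx : IsPBasis p A x)
    (E : Type u) [CommRing E] [Algebra A E] (R : Ideal E) (hR : IsNilpotent R) :
    ∀ (v : B →ₐ[A] E ⧸ R) (z : ι → E), (∀ i, Ideal.Quotient.mk R (z i) = v (x i)) →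
      ∃ w : B →ₐ[A] E, (Ideal.Quotient.mkₐ A R).comp w = v ∧ ∀ i, w (x i) = z i := by
  let S := pPowerSubalgebra p A B
  have htop := (isPGenerating_iff p x).mp hx.2
  revert ‹Algebra A E›
  apply Ideal.IsNilpotent.induction_on (S := E) R hR
  · intro E _ R hR _ v z hz
    have hpE : ((p : ℕ) : E) = 0 := by rw [← map_natCast (algebraMap A E) p, CharP.cast_eq_zero, map_zero]
    have hpB : ((p : ℕ) : B) = 0 := CharP.cast_eq_zero B p
    let F := powHom hp.out hpB
    have hS : ∀ b : B, b ∈ S ↔ b ∈ F.range := by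
      intro b
      constructor
      · intro hb
        induction hb using Algebra.adjoin_induction with
        | mem y hy => obtain ⟨c, rfl⟩ := hy; exact ⟨c, rfl⟩
        | algebraMap a =>
          obtain ⟨a, rfl⟩ := (PerfectRing.bijective_frobenius (R := A) (p := p)).surjective a
          exact ⟨algebraMap A B a, (map_pow (algebraMap A B) a p).symm⟩
        | add a b _ _ ha hb => exact add_mem ha hb
        | mul a b _ _ ha hb => exact mul_mem ha hb
      · rintro ⟨c, rfl⟩
        exact pow_mem_pPower p c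
    let e0 : B →+* S := F.codRestrict S fun c => pow_mem_pPower p c
    let e : B ≃+* S := RingEquiv.ofBijective e0 ⟨fun a b hab => by
        have h1 : (a - b) ^ p ^ 1 = 0 := sub_pow_eq_zero hp.out hpB 1 (by
          rw [pow_one]; exact congrArg Subtype.val hab)
        exact sub_eq_zero.mp (IsReduced.eq_zero _ ⟨_, h1⟩),
      fun s => by
        obtain ⟨c, hc⟩ := (hS s.1).mp s.2
        exact ⟨c, Subtype.ext hc⟩⟩
    let ψ : E ⧸ R →+* E := Ideal.Quotient.lift R (powHom hp.out hpE) fun r hr => by
      show r ^ p = 0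
      rw [← Ideal.mem_bot, ← hR]
      exact Ideal.pow_le_pow_right hp.out.two_le (Ideal.pow_mem_pow hr p)
    let f : S →+* E := (ψ.comp v.toRingHom).comp e.symm.toRingHom
    have hfe : ∀ c, f (e c) = ψ (v c) := fun c => by
      show ψ (v (e.symm (e c))) = _
      rw [e.symm_apply_apply]
    obtain ⟨w, hw, hwx⟩ := exists_hom p x (pw p x) (fun _ => rfl) hx.1 htop f z fun i => by
      rw [show pw p x i = e (x i) from Subtype.ext rfl, hfe, ← hz i]
      rfl
    refine ⟨AlgHom.mk w fun a => ?_, AlgHom.coe_ringHom_injective (hom_ext x htop (fun s => ?_) fun i => ?_), hwx⟩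
    · obtain ⟨a, rfl⟩ := (PerfectRing.bijective_frobenius (R := A) (p := p)).surjective a
      have h1 : algebraMap A S (frobenius A p a) = e (algebraMap A B a) := Subtype.ext (by
        show algebraMap A B (frobenius A p a) = algebraMap A B a ^ p
        rw [frobenius_def, map_pow])
      show w (algebraMap A B (frobenius A p a)) = _
      rw [show algebraMap A B (frobenius A p a) = algebraMap S B (algebraMap A S (frobenius A p a)) from rfl, hw, h1, hfe,
        v.commutes]
      exact (map_pow (algebraMap A E) a p).symm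
    · obtain ⟨c, rfl⟩ := e.surjective s
      show Ideal.Quotient.mk R (w (algebraMap S B (e c))) = v (c ^ p)
      rw [hw, hfe, map_pow]
      obtain ⟨r, hr⟩ := Ideal.Quotient.mk_surjective (v c)
      rw [← hr]
      exact map_pow (Ideal.Quotient.mk R) r p
    · show Ideal.Quotient.mk R (w (x i)) = v (x i)
      rw [hwx, hz]
  · intro E _ I J hIJ hI hJ _ v z hz
    let eq := DoubleQuot.quotQuotEquivQuotOfLEₐ A hIJ
    obtain ⟨w₁, hw₁, hw₁x⟩ := hJ (eq.symm.toAlgHom.comp v) (fun i => Ideal.Quotient.mk I (z i)) fun i => by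
      show _ = eq.symm (v (x i))
      rw [← hz i, eq_comm, AlgEquiv.symm_apply_eq]
      rfl
    obtain ⟨w, hw, hwx⟩ := hI w₁ z fun i => (hw₁x i).symm
    refine ⟨w, AlgHom.ext fun b => ?_, hwx⟩
    have h1 : Ideal.Quotient.mk (J.map (Ideal.Quotient.mk I)) (w₁ b) = eq.symm (v b) := DFunLike.congr_fun hw₁ b
    rw [← DFunLike.congr_fun hw b] at h1
    exact (congrArg eq h1).trans (eq.apply_symm_apply _)

theorem perfect_formallySmooth [CharP A p] [PerfectRing A p] [IsReduced B] (x : ι → B) (hx : IsPBasis p A x) :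
    Algebra.FormallySmooth A B ∧
    ∀ (E : Type u) [CommRing E] [Algebra A E] (R : Ideal E), IsNilpotent R →
      ∀ (v : B →ₐ[A] E ⧸ R) (z : ι → E), (∀ i, Ideal.Quotient.mk R (z i) = v (x i)) →
        ∃! w : B →ₐ[A] E, (Ideal.Quotient.mkₐ A R).comp w = v ∧ ∀ i, w (x i) = z i := by
  refine ⟨Algebra.FormallySmooth.of_comp_surjective fun E _ _ R hR v => ?_, fun E _ _ R hR v z hz => ?_⟩
  · choose z hz using fun i => Ideal.Quotient.mk_surjective (v (x i))
    obtain ⟨w, hw, -⟩ := perfect_lift p x hx E R ⟨2, hR⟩ v z hz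
    exact ⟨w, hw⟩
  · obtain ⟨w, hw, hwx⟩ := perfect_lift p x hx E R hR v z hz
    refine ⟨w, ⟨hw, hwx⟩, fun w' ⟨hw', hw'x⟩ => ?_⟩
    have hpE : ((p : ℕ) : E) = 0 := by rw [← map_natCast (algebraMap A E) p, CharP.cast_eq_zero, map_zero]
    obtain ⟨n, hn⟩ := hR
    let T := AlgHom.equalizer w' w
    have step : ∀ k, (∀ b : B, b ^ p ^ (k + 1) ∈ T) → ∀ b : B, b ^ p ^ k ∈ T := fun k hk b => by
      induction (isPGenerating_iff' p x).mp hx.2 ▸ Algebra.mem_top (R := A) (x := b) using Algebra.adjoin_induction with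
      | mem y hy =>
        rcases hy with ⟨c, rfl⟩ | ⟨i, rfl⟩
        · show (c ^ p) ^ p ^ k ∈ T
          rw [← pow_mul, ← pow_succ']
          exact hk c
        · exact pow_mem (show x i ∈ T from (hw'x i).trans (hwx i).symm) _
      | algebraMap a => exact pow_mem (Subalgebra.algebraMap_mem T a) _
      | add a b _ _ ha hb =>
        obtain ⟨r, hr⟩ := exists_add_pow_prime_pow_eq hp.out a b k
        rw [CharP.cast_eq_zero] at hr
        rw [show (a + b) ^ p ^ k = a ^ p ^ k + b ^ p ^ k by linear_combination (norm := ring_nf) hr]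
        exact add_mem ha hb
      | mul a b _ _ ha hb => rw [mul_pow]; exact mul_mem ha hb
    have start : ∀ b : B, b ^ p ^ n ∈ T := fun b => by
      show w' (b ^ p ^ n) = w (b ^ p ^ n)
      rw [map_pow, map_pow]
      refine pow_congr hp.out hpE n ?_
      have h1 : w' b - w b ∈ R := Ideal.Quotient.eq.mp ((DFunLike.congr_fun hw' b).trans (DFunLike.congr_fun hw b).symm)
      have h2 : (w' b - w b) ^ n = 0 := by
        rw [← Ideal.mem_bot, ← Ideal.zero_eq_bot, ← hn]
        exact Ideal.pow_mem_pow h1 n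
      obtain ⟨t, ht⟩ := Nat.exists_eq_add_of_le (Nat.lt_pow_self hp.out.one_lt : n < p ^ n).le
      rw [ht, pow_add, h2, zero_mul]
    have all : ∀ k ≤ n, ∀ b : B, b ^ p ^ (n - k) ∈ T := by
      intro k
      induction k with
      | zero => exact fun _ => start
      | succ k ih =>
        intro hk
        refine step _ ?_
        rw [show n - (k + 1) + 1 = n - k by omega]
        exact ih (by omega)
    exact AlgHom.ext fun b => by
      have h1 := all n le_rfl b
      rw [Nat.sub_self, pow_zero, pow_one] at h1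
      exact h1

end apps

end Groth.L06.PBasisUniv
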