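import Groth.Agent.L06.PBasisTower

/-! The imperfection module of a reduced ring over a subring containing its `p`-th powers. -/

set_option autoImplicit false
set_option maxSynthPendingDepth 3
set_option linter.style.haveILetI false
universe u

namespace Groth.L06.PBasisImperf

open EGA41 (pMonomial pPowerSubalgebra IsPBasis IsPIndependent IsPGenerating)
open Groth.L06.PBasisUniv
open scoped TensorProduct

theorem mem_pPower_iff {p : ℕ} {R B : Type u} [CommRing R] [CommRing B] [Algebra R B] (b : B) :
    b ∈ pPowerSubalgebra p R B ↔ b ∈ Subring.closure (Set.range (algebraMap R B) ∪ Set.range fun c : B => c ^ p) := by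
  rw [← Algebra.adjoin_eq_ring_closure]
  rfl

/-- `p`-bases only depend on the image of the base. -/
theorem isPBasis_congr {p : ℕ} {R R' B : Type u} [CommRing R] [CommRing R'] [CommRing B] [Algebra R B] [Algebra R' B]
    (h : Set.range (algebraMap R B) = Set.range (algebraMap R' B)) {ι : Type u} {x : ι → B}
    (hx : IsPBasis p R x) : IsPBasis p R' x := by
  have key : ∀ b : B, b ∈ pPowerSubalgebra p R B ↔ b ∈ pPowerSubalgebra p R' B := fun b => by
    rw [mem_pPower_iff, mem_pPower_iff, h]
  obtain ⟨h1, h2⟩ := hx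
  refine ⟨?_, Submodule.eq_top_iff'.mpr fun b => ?_⟩
  · unfold IsPIndependent at h1 ⊢
    rw [linearIndependent_iff'] at h1 ⊢
    intro s g hg i hi
    exact Subtype.ext (congrArg Subtype.val (h1 s (fun j => ⟨g j, (key _).mpr (g j).2⟩) hg i hi) :)
  · have hb : b ∈ Submodule.span (pPowerSubalgebra p R B)
        (Set.range fun e : {e : ι →₀ ℕ // ∀ i, e i < p} => pMonomial x e.1) := by rw [h2]; trivial
    induction hb using Submodule.span_induction with
    | mem y hy => exact Submodule.subset_span hy
    | zero => exact zero_mem _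
    | add y z _ _ hy hz => exact add_mem hy hz
    | smul c y _ hy => exact Submodule.smul_mem _ (⟨c, (key _).mp c.2⟩ : pPowerSubalgebra p R' B) hy

/-- A copy of `A`, to carry algebra structures through Frobenius. -/
def Copy (A : Type u) : Type u := A

instance (A : Type u) [CommRing A] : CommRing (Copy A) := inferInstanceAs (CommRing A)

theorem D_pow_eq_zero {p : ℕ} {A : Type u} [CommRing A] [CharP A p] (a : A) :
    KaehlerDifferential.D ℤ A (a ^ p) = 0 := by
  rw [Derivation.leibniz_pow, ← Nat.cast_smul_eq_nsmul A, CharP.cast_eq_zero, zero_smul]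

/-- If the base maps into the `p`-th powers, a `p`-basis gives a basis of the absolute differentials. -/
theorem exists_basis_absolute {p : ℕ} [Fact p.Prime] {Q A : Type u} [CommRing Q] [CommRing A] [Algebra Q A] [CharP A p]
    (hQ : ∀ q : Q, ∃ a : A, algebraMap Q A q = a ^ p) {ι : Type u} {z : ι → A} (hz : IsPBasis p Q z) :
    ∃ b : Module.Basis ι A (Ω[A⁄ℤ]), ∀ i, b i = KaehlerDifferential.D ℤ A (z i) := by
  obtain ⟨c, hc⟩ := exists_basis_D p z hz
  let DZ : Derivation Q A (Ω[A⁄ℤ]) := Derivation.mk'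
    { toFun := fun a => KaehlerDifferential.D ℤ A a
      map_add' := fun a b => map_add _ a b
      map_smul' := fun q a => by
        obtain ⟨r, hr⟩ := hQ q
        show KaehlerDifferential.D ℤ A (q • a) = q • KaehlerDifferential.D ℤ A a
        rw [Algebra.smul_def, Derivation.leibniz, hr, D_pow_eq_zero, smul_zero, add_zero,
          ← algebraMap_smul A q (KaehlerDifferential.D ℤ A a), hr] }
    fun a b => (KaehlerDifferential.D ℤ A).leibniz a b
  let e : Ω[A⁄Q] ≃ₗ[A] Ω[A⁄ℤ] := LinearEquiv.ofLinear DZ.liftKaehlerDifferential (KaehlerDifferential.map ℤ Q A A)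
    (by
      refine Derivation.liftKaehlerDifferential_unique _ _ (Derivation.ext fun a => ?_)
      show DZ.liftKaehlerDifferential (KaehlerDifferential.map ℤ Q A A (KaehlerDifferential.D ℤ A a)) = KaehlerDifferential.D ℤ A a
      rw [KaehlerDifferential.map_D, Derivation.liftKaehlerDifferential_comp_D]
      rfl)
    (by
      refine Derivation.liftKaehlerDifferential_unique _ _ (Derivation.ext fun a => ?_)
      show KaehlerDifferential.map ℤ Q A A (DZ.liftKaehlerDifferential (KaehlerDifferential.D Q A a)) = KaehlerDifferential.D Q A a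
      rw [Derivation.liftKaehlerDifferential_comp_D]
      exact KaehlerDifferential.map_D _ _ _ _ a)
  refine ⟨c.map e, fun i => ?_⟩
  rw [Module.Basis.map_apply, hc]
  exact Derivation.liftKaehlerDifferential_comp_D DZ (z i)

/-- The kernel of `B ⊗ Ω_A → Ω_B`, given bases. -/
theorem exists_basis_imperfection {A B : Type u} [CommRing A] [CommRing B] [Algebra A B] {Λ M : Type u}
    (b : Module.Basis (Λ ⊕ M) A (Ω[A⁄ℤ]))
    (hzero : ∀ i, KaehlerDifferential.mapBaseChange ℤ A B ((1 : B) ⊗ₜ[A] b (Sum.inl i)) = 0)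
    (hind : LinearIndependent B fun m => KaehlerDifferential.mapBaseChange ℤ A B ((1 : B) ⊗ₜ[A] b (Sum.inr m))) :
    ∃ c : Module.Basis Λ B (EGA41.imperfection ℤ A B), ∀ i, (c i : B ⊗[A] Ω[A⁄ℤ]) = (1 : B) ⊗ₜ[A] b (Sum.inl i) := by
  let bB := b.baseChange B
  have hbB : ∀ i, bB i = (1 : B) ⊗ₜ[A] b i := fun i => Module.Basis.baseChange_apply _ _ _
  have hker : ∀ i, bB (Sum.inl i) ∈ EGA41.imperfection ℤ A B := fun i => by
    show KaehlerDifferential.mapBaseChange ℤ A B _ = 0
    rw [hbB, hzero]
  let v : Λ → EGA41.imperfection ℤ A B := fun i => ⟨bB (Sum.inl i), hker i⟩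
  have hv : LinearIndependent B v :=
    LinearIndependent.of_comp (EGA41.imperfection ℤ A B).subtype (bB.linearIndependent.comp _ Sum.inl_injective)
  refine ⟨Module.Basis.mk hv ?_, fun i => by rw [Module.Basis.mk_apply]; exact hbB _⟩
  rintro ⟨w, hw⟩ -
  obtain ⟨⟨w1, w2⟩, hw12⟩ := (Finsupp.sumFinsuppLEquivProdFinsupp B).symm.surjective (bB.repr w)
  have hw' : w = Finsupp.linearCombination B (bB ∘ Sum.inl) w1 + Finsupp.linearCombination B (bB ∘ Sum.inr) w2 := by
    conv_lhs => rw [← bB.linearCombination_repr w, ← hw12]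
    rw [Finsupp.linearCombination_apply, Finsupp.linearCombination_apply, Finsupp.linearCombination_apply]
    exact Finsupp.sum_sumElim w1 w2 (fun i a => a • bB i)
  have h1 : KaehlerDifferential.mapBaseChange ℤ A B (Finsupp.linearCombination B (bB ∘ Sum.inl) w1) = 0 := by
    rw [Finsupp.apply_linearCombination, Finsupp.linearCombination_apply]
    exact Finset.sum_eq_zero fun i _ => by simp only [Function.comp_apply, hbB, hzero, smul_zero]
  have h2 : w2 = 0 := by
    have h3 : KaehlerDifferential.mapBaseChange ℤ A B w = 0 := hw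
    rw [hw', map_add, h1, zero_add, Finsupp.apply_linearCombination] at h3
    refine (show Function.Injective (Finsupp.linearCombination B fun m => KaehlerDifferential.mapBaseChange ℤ A B ((1 : B) ⊗ₜ[A] b (Sum.inr m))) from hind) (Eq.trans ?_ (map_zero _).symm)
    rw [← h3]
    congr 2
    exact funext fun m => (congrArg _ (hbB _)).symm
  have h4 : (⟨w, hw⟩ : EGA41.imperfection ℤ A B) = Finsupp.linearCombination B v w1 := Subtype.ext (by
    show w = (EGA41.imperfection ℤ A B).subtype _
    rw [Finsupp.apply_linearCombination, hw', h2, map_zero, add_zero]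
    rfl)
  rw [h4]
  exact (Finsupp.range_linearCombination (R := B) (v := v)).le ⟨w1, rfl⟩

theorem imperfection_basis (p : ℕ) [Fact p.Prime] {R A B : Type u} [CommRing R] [CommRing A]
    [CommRing B] [IsReduced B] [Algebra R A] [Algebra A B] [Algebra R B] [IsScalarTower R A B] [CharP B p]
    (hinj : Function.Injective (algebraMap A B)) (hpow : ∀ b : B, b ^ p ∈ Set.range (algebraMap A B))
    (hR : Set.range (algebraMap R B) = Set.range fun b : B => b ^ p)
    {Λ M : Type u} (x : Λ → B) (hx : IsPBasis p A x) (x' : Λ → A) (hx' : ∀ i, algebraMap A B (x' i) = x i ^ p)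
    (y : M → A) (hy : IsPBasis p R y) :
    ∃ b : Module.Basis Λ B (EGA41.imperfection ℤ A B),
      ∀ i, (b i : B ⊗[A] Ω[A⁄ℤ]) = (1 : B) ⊗ₜ[A] KaehlerDifferential.D ℤ A (x' i) := by
  haveI : CharP A p := (algebraMap A B).charP hinj p
  choose φ hφ using hpow
  let φh : B →+* A :=
    { toFun := φ
      map_one' := hinj (by rw [hφ, one_pow, map_one])
      map_mul' := fun a b => hinj (by rw [hφ, map_mul, hφ, hφ, mul_pow])
      map_zero' := hinj (by rw [hφ, zero_pow (Fact.out : p.Prime).ne_zero, map_zero])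
      map_add' := fun a b => hinj (by rw [hφ, map_add, hφ, hφ, add_pow_char]) }
  letI : Algebra B A := φh.toAlgebra
  letI : Algebra (Copy A) B := RingHom.toAlgebra (algebraMap A B)
  letI : Algebra (Copy A) A := RingHom.toAlgebra (φh.comp (algebraMap A B))
  haveI : IsScalarTower (Copy A) B A := IsScalarTower.of_algebraMap_eq' rfl
  have hφinj : Function.Injective (algebraMap B A) := fun a b hab => by
    have h1 : a ^ p = b ^ p := by rw [← hφ, ← hφ]; exact congrArg (algebraMap A B) hab
    exact frobenius_inj B p h1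
  have hfr : ∀ a : A, φh (algebraMap A B a) = a ^ p := fun a => hinj (by rw [map_pow]; exact hφ _)
  have hpowA : ∀ a : A, a ^ p ∈ Set.range (algebraMap (Copy A) A) := fun a => ⟨a, hfr a⟩
  have hrangeR : ∀ r : R, ∃ b : B, φh b = algebraMap R A r := fun r => by
    obtain ⟨b, hb⟩ : algebraMap R B r ∈ Set.range fun b : B => b ^ p := hR ▸ ⟨r, rfl⟩
    exact ⟨b, hinj ((hφ b).trans (hb.trans (IsScalarTower.algebraMap_apply R A B r)))⟩
  have hy' : IsPBasis p B y := by
    refine isPBasis_congr (R := R) (Set.ext fun a => ⟨?_, ?_⟩) hy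
    · rintro ⟨r, rfl⟩
      exact hrangeR r
    · rintro ⟨b, rfl⟩
      obtain ⟨r, hr⟩ : b ^ p ∈ Set.range (algebraMap R B) := hR.symm ▸ ⟨b, rfl⟩
      exact ⟨r, hinj ((IsScalarTower.algebraMap_apply R A B r).symm.trans (hr.trans (hφ b).symm))⟩
  have hxC : IsPBasis p (Copy A) x := hx
  have hz : IsPBasis p (Copy A) (Sum.elim (fun i => algebraMap B A (x i)) y) :=
    ⟨(isPIndependent_sum_iff p x y hφinj hpowA hxC).mp hy'.1, isPGenerating_sum p x y hφinj hpowA hxC.2 hy'.2⟩
  obtain ⟨b, hb⟩ := exists_basis_absolute (Q := Copy A) (A := A) (fun q => ⟨_, hfr q⟩) hz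
  have hbl : ∀ i, b (Sum.inl i) = KaehlerDifferential.D ℤ A (x' i) := fun i => by
    rw [hb]
    exact congrArg _ (hinj ((hφ (x i)).trans (hx' i).symm))
  -- independence of the images of the `d y`
  obtain ⟨c, hc⟩ := exists_basis_D p (A := R) (Sum.elim (fun m => algebraMap A B (y m)) x)
    ⟨(isPIndependent_sum_iff p y x hinj (fun b => hR.symm ▸ ⟨b, rfl⟩) hy).mp hx.1,
      isPGenerating_sum p y x hinj (fun b => hR.symm ▸ ⟨b, rfl⟩) hy.2 hx.2⟩
  have hind : LinearIndependent B fun m => KaehlerDifferential.mapBaseChange ℤ A B ((1 : B) ⊗ₜ[A] b (Sum.inr m)) := by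
    refine LinearIndependent.of_comp (KaehlerDifferential.map ℤ R B B) ?_
    have h1 : (KaehlerDifferential.map ℤ R B B) ∘ (fun m => KaehlerDifferential.mapBaseChange ℤ A B
        ((1 : B) ⊗ₜ[A] b (Sum.inr m))) = c ∘ Sum.inl := funext fun m => by
      rw [Function.comp_apply, Function.comp_apply, hb, KaehlerDifferential.mapBaseChange_tmul, one_smul,
        KaehlerDifferential.map_D, KaehlerDifferential.map_D, hc]
      rfl
    rw [h1]
    exact c.linearIndependent.comp _ Sum.inl_injective
  obtain ⟨d, hd⟩ := exists_basis_imperfection b (fun i => by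
    rw [hbl, KaehlerDifferential.mapBaseChange_tmul, one_smul, KaehlerDifferential.map_D, hx', D_pow_eq_zero]) hind
  exact ⟨d, fun i => by rw [hd, hbl]⟩

end Groth.L06.PBasisImperf
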