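import Groth.Prelude.Def_EGA41
import Mathlib.RingTheory.MvPolynomial.Basic
import Mathlib.Algebra.TrivSqZeroExt.Basic
import Mathlib.RingTheory.Kaehler.Basic
import Mathlib.Algebra.CharP.Lemmas
import Mathlib.LinearAlgebra.Finsupp.Pi

/-! `p`-bases of rings: universal property, derivations, differentials. -/

set_option autoImplicit false
set_option maxSynthPendingDepth 3
set_option linter.style.haveILetI false
universe u

namespace Groth.L06.PBasisUniv

open EGA41 (pMonomial pPowerSubalgebra IsPBasis IsPIndependent IsPGenerating)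

theorem pMonomial_add {ι B : Type u} [CommRing B] (x : ι → B) (a b : ι →₀ ℕ) :
    pMonomial x (a + b) = pMonomial x a * pMonomial x b :=
  Finsupp.prod_add_index' (fun i => pow_zero _) fun i m n => pow_add _ _ _

theorem pMonomial_smul {ι B : Type u} [CommRing B] (x : ι → B) (p : ℕ) (q : ι →₀ ℕ) :
    pMonomial x (p • q) = pMonomial (fun i => x i ^ p) q := by
  rw [pMonomial, show p • q = q.mapRange (fun n => p * n) (mul_zero p) from Finsupp.ext fun i => by simp,
    Finsupp.prod_mapRange_index fun i => pow_zero _]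
  exact Finset.prod_congr rfl fun i _ => pow_mul _ _ _

theorem map_pMonomial {ι B E : Type u} [CommRing B] [CommRing E] (f : B →+* E) (x : ι → B) (e : ι →₀ ℕ) :
    f (pMonomial x e) = pMonomial (fun i => f (x i)) e := by
  rw [pMonomial, map_finsuppProd]
  exact Finset.prod_congr rfl fun i _ => map_pow _ _ _

theorem pMonomial_single {ι B : Type u} [CommRing B] (x : ι → B) (i : ι) (n : ℕ) :
    pMonomial x (Finsupp.single i n) = x i ^ n :=
  Finsupp.prod_single_index (pow_zero _)

theorem pMonomial_mem {ι B R : Type u} [CommRing B] [CommRing R] [Algebra R B] (T : Subalgebra R B) (x : ι → B)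
    (e : ι →₀ ℕ) (h : ∀ i ∈ e.support, x i ∈ T) : pMonomial x e ∈ T :=
  Subalgebra.prod_mem T fun i hi => pow_mem (h i hi) _

abbrev Red (p : ℕ) (ι : Type u) : Type u := {e : ι →₀ ℕ // ∀ i, e i < p}

section general

variable {R B : Type u} [CommRing R] [CommRing B] [Algebra R B] {ι : Type u} (p : ℕ) [hp : Fact p.Prime]

noncomputable def red (d : ι →₀ ℕ) : Red p ι :=
  ⟨d.mapRange (· % p) (Nat.zero_mod p), fun i => by rw [Finsupp.mapRange_apply]; exact Nat.mod_lt _ hp.out.pos⟩

omit hp in
theorem decomp (d : ι →₀ ℕ) :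
    p • d.mapRange (· / p) (Nat.zero_div p) + d.mapRange (· % p) (Nat.zero_mod p) = d :=
  Finsupp.ext fun i => by simp [Nat.div_add_mod]

noncomputable def reduce (s : ι → R) : MvPolynomial ι R →ₗ[R] (Red p ι →₀ R) :=
  (MvPolynomial.basisMonomials ι R).constr R fun d =>
    Finsupp.single (red p d) (pMonomial s (d.mapRange (· / p) (Nat.zero_div p)))

theorem eval₂_eq_sum (s : ι → R) {E : Type u} [CommRing E] (f : R →+* E) (z : ι → E) (hz : ∀ i, z i ^ p = f (s i))
    (P : MvPolynomial ι R) :
    MvPolynomial.eval₂Hom f z P = (reduce p s P).sum fun e c => f c * pMonomial z e.1 := by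
  induction P using MvPolynomial.induction_on' with
  | monomial d c =>
    have h1 : reduce p s (MvPolynomial.monomial d c) =
        Finsupp.single (red p d) (c * pMonomial s (d.mapRange (· / p) (Nat.zero_div p))) := by
      rw [show (MvPolynomial.monomial d c : MvPolynomial ι R) = c • MvPolynomial.basisMonomials ι R d by
        rw [MvPolynomial.coe_basisMonomials, MvPolynomial.smul_monomial, smul_eq_mul, mul_one],
        map_smul, reduce, Module.Basis.constr_basis, Finsupp.smul_single, smul_eq_mul]
    rw [h1, Finsupp.sum_single_index (by rw [map_zero, zero_mul]), MvPolynomial.eval₂Hom_monomial, map_mul,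
      map_pMonomial, mul_assoc]
    congr 1
    conv_lhs => rw [← decomp p d]
    rw [show (red p d).1 = d.mapRange (· % p) (Nat.zero_mod p) from rfl]
    show pMonomial z _ = _
    rw [pMonomial_add, pMonomial_smul]
    simp only [hz]
  | add a b ha hb =>
    rw [map_add, map_add, ha, hb, Finsupp.sum_add_index' (fun e => by rw [map_zero, zero_mul])
      fun e c c' => by rw [map_add, add_mul]]

variable (x : ι → B) (s : ι → R) (hs : ∀ i, x i ^ p = algebraMap R B (s i))

include hs in
theorem adjoin_eq_top_iff :
    Algebra.adjoin R (Set.range x) = ⊤ ↔ Submodule.span R (Set.range fun e : Red p ι => pMonomial x e.1) = ⊤ := by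
  constructor
  · refine fun h => Submodule.eq_top_iff'.mpr fun b => ?_
    have hb : b ∈ Algebra.adjoin R (Set.range x) := h ▸ Algebra.mem_top
    rw [Algebra.adjoin_range_eq_range_aeval] at hb
    obtain ⟨P, rfl⟩ := hb
    show MvPolynomial.eval₂Hom (algebraMap R B) x P ∈ _
    rw [eval₂_eq_sum p s _ _ hs]
    refine Submodule.sum_mem _ fun e _ => ?_
    dsimp only
    rw [← Algebra.smul_def]
    exact Submodule.smul_mem _ _ (Submodule.subset_span ⟨e, rfl⟩)
  · intro h
    refine eq_top_iff.mpr fun b _ => ?_
    have hle : Submodule.span R (Set.range fun e : Red p ι => pMonomial x e.1) ≤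
        Subalgebra.toSubmodule (Algebra.adjoin R (Set.range x)) := Submodule.span_le.mpr (by
      rintro _ ⟨e, rfl⟩
      exact pMonomial_mem _ _ _ fun i _ => Algebra.subset_adjoin ⟨i, rfl⟩)
    exact hle (h ▸ Submodule.mem_top)

omit hp in
theorem hom_ext {E : Type u} [CommRing E] (htop : Algebra.adjoin R (Set.range x) = ⊤) {f g : B →+* E}
    (hR : ∀ r, f (algebraMap R B r) = g (algebraMap R B r)) (hx : ∀ i, f (x i) = g (x i)) : f = g := by
  refine RingHom.ext fun b => ?_
  induction (htop ▸ Algebra.mem_top : b ∈ Algebra.adjoin R (Set.range x)) using Algebra.adjoin_induction with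
  | mem y hy => obtain ⟨i, rfl⟩ := hy; exact hx i
  | algebraMap r => exact hR r
  | add a b _ _ ha hb => rw [map_add, map_add, ha, hb]
  | mul a b _ _ ha hb => rw [map_mul, map_mul, ha, hb]

include hs in
/-- The universal property of a system with independent generating reduced monomials. -/
theorem exists_hom (hLI : LinearIndependent R fun e : Red p ι => pMonomial x e.1)
    (htop : Algebra.adjoin R (Set.range x) = ⊤) {E : Type u} [CommRing E] (f : R →+* E) (z : ι → E)
    (hz : ∀ i, z i ^ p = f (s i)) :
    ∃ v : B →+* E, (∀ r, v (algebraMap R B r) = f r) ∧ ∀ i, v (x i) = z i := by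
  let π : MvPolynomial ι R →+* B := MvPolynomial.eval₂Hom (algebraMap R B) x
  have hπ : Function.Surjective π := fun b => by
    have hb : b ∈ Algebra.adjoin R (Set.range x) := htop ▸ Algebra.mem_top
    rw [Algebra.adjoin_range_eq_range_aeval] at hb
    exact hb
  have hker : RingHom.ker π ≤ RingHom.ker (MvPolynomial.eval₂Hom f z) := fun P (hP : π P = 0) => by
    have h1 : Finsupp.linearCombination R (fun e : Red p ι => pMonomial x e.1) (reduce p s P) = 0 := by
      rw [Finsupp.linearCombination_apply]
      refine Eq.trans ?_ hP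
      rw [show π P = _ from eval₂_eq_sum p s _ _ hs P]
      exact Finset.sum_congr rfl fun e _ => Algebra.smul_def _ _
    have h2 : reduce p s P = 0 := hLI (h1.trans (map_zero _).symm)
    show MvPolynomial.eval₂Hom f z P = 0
    rw [eval₂_eq_sum p s f z hz P, h2, Finsupp.sum_zero_index]
  let v : B →+* E := π.liftOfSurjective hπ ⟨_, hker⟩
  have hv : ∀ P, v (π P) = MvPolynomial.eval₂Hom f z P := RingHom.liftOfRightInverse_comp_apply π _ _ ⟨_, hker⟩
  refine ⟨v, fun r => ?_, fun i => ?_⟩
  · have h1 := hv (MvPolynomial.C r)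
    simp only [π, MvPolynomial.eval₂Hom_C] at h1
    exact h1
  · have h1 := hv (MvPolynomial.X i)
    simp only [π, MvPolynomial.eval₂Hom_X'] at h1
    exact h1

include hs in
/-- Derivations extend, with prescribed values on the `x i`. -/
theorem exists_derivation (hLI : LinearIndependent R fun e : Red p ι => pMonomial x e.1)
    (htop : Algebra.adjoin R (Set.range x) = ⊤) (hpB : (p : B) = 0) {L : Type u} [AddCommGroup L] [Module B L]
    [Module R L] [IsScalarTower R B L] (D : Derivation ℤ R L) (hD : ∀ i, D (s i) = 0) (y : ι → L) :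
    ∃ D' : Derivation ℤ B L, (∀ r, D' (algebraMap R B r) = D r) ∧ ∀ i, D' (x i) = y i := by
  letI : Module Bᵐᵒᵖ L := Module.compHom L ((RingHom.id B).fromOpposite mul_comm)
  haveI : IsCentralScalar B L := ⟨fun _ _ => rfl⟩
  let f : R →+* TrivSqZeroExt B L :=
    { toFun := fun r => TrivSqZeroExt.inl (algebraMap R B r) + TrivSqZeroExt.inr (D r)
      map_one' := by ext <;> simp [D.map_one_eq_zero]
      map_mul' := fun a b => by ext <;> simp [D.leibniz, algebraMap_smul, add_comm]
      map_zero' := by ext <;> simp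
      map_add' := fun a b => by ext <;> simp }
  have hz : ∀ i, (TrivSqZeroExt.inl (x i) + TrivSqZeroExt.inr (y i) : TrivSqZeroExt B L) ^ p = f (s i) := fun i => by
    refine TrivSqZeroExt.ext ?_ ?_
    · simp [f, hs]
    · rw [TrivSqZeroExt.snd_pow, ← Nat.cast_smul_eq_nsmul B, hpB, zero_smul]
      simp [f, hD]
  obtain ⟨v, hv, hvx⟩ := exists_hom p x s hs hLI htop f _ hz
  have hfst : ∀ b, (v b).fst = b := fun b => by
    refine RingHom.congr_fun (hom_ext x htop (f := (TrivSqZeroExt.fstHom B B L).toRingHom.comp v) (g := RingHom.id B)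
      (fun r => ?_) fun i => ?_) b
    · show (v (algebraMap R B r)).fst = _
      rw [hv]; simp [f]
    · show (v (x i)).fst = _
      rw [hvx]; simp
  refine ⟨Derivation.mk' (AddMonoidHom.mk' (fun b => (v b).snd) fun a b => by simp).toIntLinearMap fun a b => ?_,
    fun r => ?_, fun i => ?_⟩
  · show (v (a * b)).snd = a • (v b).snd + b • (v a).snd
    rw [map_mul, TrivSqZeroExt.snd_mul, hfst, hfst, op_smul_eq_smul]
  · show (v (algebraMap R B r)).snd = D r
    rw [hv]; simp [f]
  · show (v (x i)).snd = y i
    rw [hvx]; simp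

omit hp in
theorem derivation_ext {L : Type u} [AddCommGroup L] [Module B L] (htop : Algebra.adjoin R (Set.range x) = ⊤)
    {D D' : Derivation ℤ B L} (hR : ∀ r, D (algebraMap R B r) = D' (algebraMap R B r)) (hx : ∀ i, D (x i) = D' (x i)) :
    D = D' := by
  refine Derivation.ext fun b => ?_
  induction (htop ▸ Algebra.mem_top : b ∈ Algebra.adjoin R (Set.range x)) using Algebra.adjoin_induction with
  | mem y hy => obtain ⟨i, rfl⟩ := hy; exact hx i
  | algebraMap r => exact hR r
  | add a b _ _ ha hb => rw [map_add, map_add, ha, hb]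
  | mul a b _ _ ha hb => rw [Derivation.leibniz, Derivation.leibniz, ha, hb]

end general

section pPower

variable (p : ℕ) [hp : Fact p.Prime] {A B : Type u} [CommRing A] [CommRing B] [Algebra A B] {ι : Type u}

omit hp in
theorem pow_mem_pPower (b : B) : b ^ p ∈ pPowerSubalgebra p A B := Algebra.subset_adjoin ⟨b, rfl⟩

/-- `x i ^ p`, in `A[B^p]` -/
noncomputable def pw (x : ι → B) (i : ι) : pPowerSubalgebra p A B := ⟨x i ^ p, pow_mem_pPower p _⟩

theorem isPGenerating_iff (x : ι → B) :
    IsPGenerating p A x ↔ Algebra.adjoin (pPowerSubalgebra p A B) (Set.range x) = ⊤ :=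
  (adjoin_eq_top_iff p x (pw p x) fun _ => rfl).symm

theorem isPGenerating_iff' (x : ι → B) :
    IsPGenerating p A x ↔ Algebra.adjoin A (Set.range (fun b : B => b ^ p) ∪ Set.range x) = ⊤ := by
  rw [isPGenerating_iff, Algebra.adjoin_union_eq_adjoin_adjoin]
  unfold EGA41.pPowerSubalgebra
  refine ⟨fun h => (congrArg (Subalgebra.restrictScalars A) h).trans (Subalgebra.restrictScalars_top A), fun h =>
    eq_top_iff.mpr fun b _ => ?_⟩
  exact (h ▸ Algebra.mem_top :
    b ∈ (Algebra.adjoin (Algebra.adjoin A (Set.range fun c : B => c ^ p)) (Set.range x)).restrictScalars A)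

omit hp in
theorem eq_zero_of_pow_derivation [CharP B p] {L : Type u} [AddCommGroup L] [Module B L] [Module A L]
    (D : Derivation A B L) (b : B) : D (b ^ p) = 0 := by
  rw [Derivation.leibniz_pow, ← Nat.cast_smul_eq_nsmul B, CharP.cast_eq_zero, zero_smul]

theorem span_D_eq_top [CharP B p] (x : ι → B) (h : IsPGenerating p A x) :
    Submodule.span B (Set.range fun i => KaehlerDifferential.D A B (x i)) = ⊤ := by
  rw [eq_top_iff, ← KaehlerDifferential.span_range_derivation, Submodule.span_le]
  rintro _ ⟨b, rfl⟩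
  induction ((isPGenerating_iff' p x).mp h ▸ Algebra.mem_top :
      b ∈ Algebra.adjoin A (Set.range (fun b : B => b ^ p) ∪ Set.range x)) using Algebra.adjoin_induction with
  | mem y hy =>
    rcases hy with ⟨c, rfl⟩ | ⟨i, rfl⟩
    · rw [eq_zero_of_pow_derivation p]; exact zero_mem _
    · exact Submodule.subset_span ⟨i, rfl⟩
  | algebraMap r => rw [Derivation.map_algebraMap]; exact zero_mem _
  | add a b _ _ ha hb => rw [map_add]; exact add_mem ha hb
  | mul a b _ _ ha hb =>
    rw [Derivation.leibniz]
    exact add_mem (Submodule.smul_mem _ _ hb) (Submodule.smul_mem _ _ ha)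

theorem exists_dual [CharP B p] (x : ι → B) (hx : IsPBasis p A x) (y : ι → B) :
    ∃ D : Derivation A B B, ∀ i, D (x i) = y i := by
  obtain ⟨D', hD', hxy⟩ := exists_derivation p x (pw p x) (fun _ => rfl) hx.1 ((isPGenerating_iff p x).mp hx.2)
    (CharP.cast_eq_zero B p) (L := B) 0 (fun _ => rfl) y
  exact ⟨Derivation.mk'
    { toFun := fun b => D' b
      map_add' := map_add D'
      map_smul' := fun a b => by
        show D' (a • b) = a • D' b
        rw [Algebra.smul_def, Derivation.leibniz,
          show D' (algebraMap A B a) = 0 from hD' ⟨algebraMap A B a, Subalgebra.algebraMap_mem _ a⟩,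
          smul_zero, add_zero, algebraMap_smul] }
    D'.leibniz, hxy⟩

theorem linearIndependent_of_dual (x : ι → B)
    (h : ∀ j, ∃ D : Derivation A B B, D (x j) = 1 ∧ ∀ i, i ≠ j → D (x i) = 0) :
    LinearIndependent B fun i => KaehlerDifferential.D A B (x i) := by
  rw [linearIndependent_iff']
  intro s g hg j hj
  obtain ⟨D, hDj, hDi⟩ := h j
  have h1 := congrArg D.liftKaehlerDifferential hg
  simp only [map_sum, map_smul, Derivation.liftKaehlerDifferential_comp_D, map_zero, smul_eq_mul] at h1
  rw [Finset.sum_eq_single j (fun i _ hij => by rw [hDi i hij, mul_zero]) (fun h => (h hj).elim), hDj, mul_one] at h1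
  exact h1

theorem exists_basis_D [CharP B p] (x : ι → B) (hx : IsPBasis p A x) :
    ∃ b : Module.Basis ι B (Ω[B⁄A]), ∀ i, b i = KaehlerDifferential.D A B (x i) := by
  classical
  have hli : LinearIndependent B fun i => KaehlerDifferential.D A B (x i) :=
    linearIndependent_of_dual x fun j => by
      obtain ⟨D, hD⟩ := exists_dual p x hx (Pi.single j 1)
      exact ⟨D, by rw [hD, Pi.single_eq_same], fun i hij => by rw [hD, Pi.single_eq_of_ne hij]⟩
  exact ⟨Module.Basis.mk hli (span_D_eq_top p x hx.2).ge, fun i => Module.Basis.mk_apply _ _ i⟩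

/-! The case `B^p ⊆ A ⊆ B`. -/

variable (hpow : ∀ b : B, b ^ p ∈ Set.range (algebraMap A B))

omit hp in
include hpow in
theorem pPower_eq_bot : pPowerSubalgebra p A B = ⊥ := le_bot_iff.mp (Algebra.adjoin_le (by
  rintro _ ⟨b, rfl⟩
  exact Algebra.mem_bot.mpr (hpow b)))

omit hp in
include hpow in
theorem surjective_to_pPower : Function.Surjective (algebraMap A (pPowerSubalgebra p A B)) := fun ⟨b, hb⟩ => by
  rw [pPower_eq_bot p hpow, Algebra.mem_bot] at hb
  obtain ⟨a, rfl⟩ := hb
  exact ⟨a, rfl⟩

include hpow in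
theorem isPGenerating_iff_adjoin (x : ι → B) : IsPGenerating p A x ↔ Algebra.adjoin A (Set.range x) = ⊤ := by
  rw [isPGenerating_iff', Algebra.adjoin_union, eq_bot_iff.mpr (Algebra.adjoin_le (by
    rintro _ ⟨b, rfl⟩
    exact Algebra.mem_bot.mpr (hpow b)) : Algebra.adjoin A (Set.range fun b : B => b ^ p) ≤ ⊥), bot_sup_eq]

omit hp in
include hpow in
theorem isPIndependent_iff_linearIndependent (hinj : Function.Injective (algebraMap A B)) (x : ι → B) :
    IsPIndependent p A x ↔ LinearIndependent A fun e : Red p ι => pMonomial x e.1 := by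
  constructor
  · refine fun h => LinearIndependent.restrict_scalars (fun a a' haa' => hinj ?_) h
    have h1 := congrArg Subtype.val haa'
    simpa [Algebra.smul_def] using h1
  · intro h
    unfold IsPIndependent
    rw [linearIndependent_iff'] at h ⊢
    intro s g hg i hi
    choose a ha using fun j => surjective_to_pPower p hpow (g j)
    rw [← ha i, h s a (by simpa only [← ha, algebraMap_smul] using hg) i hi, map_zero]

end pPower

end Groth.L06.PBasisUniv
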