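import Groth.Agent.L06.FormalFibres
import Groth.Agent.L06.RegularRing
import Groth.Agent.L01.Regular
import Groth.Agent.L04.CMLoc
import Groth.Agent.L03.RegularNormal
import Groth.Agent.S0564
import Groth.Agent.S9406

/-! Properties of Noetherian local rings which lift along regular elements. -/

set_option autoImplicit false
set_option linter.style.haveILetI false
universe u

namespace Groth.L06.PropLoc

open IsLocalRing
open scoped TensorProduct

/-- all local rings at primes satisfy `Q` -/
def Loc (Q : ∀ (R : Type u) [CommRing R], Prop) (R : Type u) [CommRing R] : Prop :=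
  ∀ (p : Ideal R) [p.IsPrime], Q (Localization.AtPrime p)

/-- A property `Q` of Noetherian local rings, stable under localization, which lifts along regular
elements and passes through flat local maps in both directions. -/
structure Good (Q : ∀ (R : Type u) [CommRing R], Prop) : Prop where
  of_equiv : ∀ {R R' : Type u} [CommRing R] [CommRing R'] [IsLocalRing R] [IsLocalRing R'] [IsNoetherianRing R],
    (R ≃+* R') → Q R → Q R'
  loc : ∀ {R : Type u} [CommRing R] [IsLocalRing R] [IsNoetherianRing R], Q R → Loc Q R
  lift : ∀ {R : Type u} [CommRing R] [IsLocalRing R] [IsNoetherianRing R] (x : R), x ∈ maximalIdeal R →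
    x ∈ nonZeroDivisors R → Q (R ⧸ Ideal.span {x}) → Q R
  ascend : ∀ {R S : Type u} [CommRing R] [CommRing S] [IsNoetherianRing R] [IsNoetherianRing S] [Algebra R S]
    [Module.Flat R S], Loc Q R → (∀ (p : Ideal R) [p.IsPrime], Loc Q (p.Fiber S)) → Loc Q S
  descend : ∀ {R S : Type u} [CommRing R] [CommRing S] [IsNoetherianRing R] [IsNoetherianRing S] [Algebra R S]
    [Module.FaithfullyFlat R S], Loc Q S → Loc Q R

variable {Q : ∀ (R : Type u) [CommRing R], Prop} (hQ : Good Q)
include hQ

theorem loc_of_ringEquiv {R R' : Type u} [CommRing R] [CommRing R'] [IsNoetherianRing R] (e : R ≃+* R')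
    (h : Loc Q R) : Loc Q R' := by
  intro p _
  let p₀ := p.comap (e : R →+* R')
  let eL : Localization.AtPrime p₀ ≃+* Localization.AtPrime p :=
    IsLocalization.ringEquivOfRingEquiv (M := p₀.primeCompl) (T := p.primeCompl) _ _ e (by
      ext x
      rw [Submonoid.mem_map]
      constructor
      · rintro ⟨y, hy, rfl⟩; exact hy
      · intro hx
        refine ⟨e.symm x, ?_, e.apply_symm_apply x⟩
        show e (e.symm x) ∉ p
        rwa [e.apply_symm_apply])
  exact hQ.of_equiv eL (h p₀)

theorem loc_localization {R : Type u} [CommRing R] [IsNoetherianRing R] (M : Submonoid R) (T : Type u)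
    [CommRing T] [Algebra R T] [IsLocalization M T] (h : Loc Q R) : Loc Q T := by
  intro P _
  haveI : IsLocalization.AtPrime (Localization.AtPrime P) (P.comap (algebraMap R T)) :=
    IsLocalization.isLocalization_isLocalization_atPrime_isLocalization M (Localization.AtPrime P) P
  exact hQ.of_equiv (IsLocalization.algEquiv (P.comap (algebraMap R T)).primeCompl
    (Localization.AtPrime (P.comap (algebraMap R T))) (Localization.AtPrime P)).toRingEquiv (h _)

theorem of_le {R : Type u} [CommRing R] [IsNoetherianRing R] {p M : Ideal R} [p.IsPrime] [M.IsPrime] (hle : p ≤ M)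
    (h : Q (Localization.AtPrime M)) : Q (Localization.AtPrime p) := by
  let P := p.map (algebraMap R (Localization.AtPrime M))
  haveI hP : P.IsPrime := Ideal.isPrime_map_of_isLocalizationAtPrime M hle
  have hcomap : P.comap (algebraMap R (Localization.AtPrime M)) = p := Ideal.under_map_of_isLocalizationAtPrime M hle
  haveI : IsLocalization.AtPrime (Localization.AtPrime P) (P.comap (algebraMap R (Localization.AtPrime M))) :=
    IsLocalization.isLocalization_isLocalization_atPrime_isLocalization M.primeCompl _ P
  haveI h2 : IsLocalization.AtPrime (Localization.AtPrime P) p := by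
    convert ‹IsLocalization.AtPrime (Localization.AtPrime P) (P.comap (algebraMap R (Localization.AtPrime M)))› using 2
    exact hcomap.symm
  exact hQ.of_equiv (IsLocalization.algEquiv p.primeCompl (Localization.AtPrime P) (Localization.AtPrime p)).toRingEquiv
    (hQ.loc h P)

theorem loc_of_maximal {R : Type u} [CommRing R] [IsNoetherianRing R]
    (h : ∀ (M : Ideal R) [M.IsMaximal], Q (Localization.AtPrime M)) : Loc Q R := by
  intro p hp
  obtain ⟨M, hM, hle⟩ := p.exists_le_maximal hp.ne_top
  exact of_le hQ hle (h M)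

theorem of_loc {R : Type u} [CommRing R] [IsLocalRing R] [IsNoetherianRing R] (h : Loc Q R) : Q R := by
  haveI : IsLocalization.AtPrime R (maximalIdeal R) :=
    IsLocalization.self fun x hx => (IsUnit.mem_submonoid_iff x).mpr (by simpa [Ideal.primeCompl] using hx)
  exact hQ.of_equiv (IsLocalization.algEquiv (maximalIdeal R).primeCompl (Localization.AtPrime (maximalIdeal R)) R).toRingEquiv (h _)

/-- the quotient of a local ring at a prime by an element -/
theorem quotient_span_localization {R : Type u} [CommRing R] [IsNoetherianRing R] (x : R) (M : Ideal R) [M.IsPrime]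
    (hx : x ∈ M) (h : Loc Q (R ⧸ Ideal.span {x})) :
    Q (Localization.AtPrime M ⧸ Ideal.span {algebraMap R (Localization.AtPrime M) x}) := by
  let RM := Localization.AtPrime M
  let J := Ideal.span ({x} : Set R)
  have hJ : J.map (algebraMap R RM) = Ideal.span {algebraMap R RM x} := by
    rw [Ideal.map_span, Set.image_singleton]
  let M' := M.map (Ideal.Quotient.mk J)
  have hJM : J ≤ M := (Ideal.span_singleton_le_iff_mem _).mpr hx
  haveI : M'.IsPrime := Ideal.map_isPrime_of_surjective Ideal.Quotient.mk_surjective (by rwa [Ideal.mk_ker])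
  have hM' : M'.comap (Ideal.Quotient.mk J) = M := by
    rw [Ideal.comap_map_of_surjective _ Ideal.Quotient.mk_surjective, ← RingHom.ker_eq_comap_bot, Ideal.mk_ker,
      sup_eq_left.mpr hJM]
  have hsub' : Algebra.algebraMapSubmonoid (R ⧸ J) M.primeCompl = M'.primeCompl := by
    refine SetLike.ext fun z => ⟨?_, fun hz => ?_⟩
    · rintro ⟨a, ha, rfl⟩ hm
      exact ha (hM' ▸ Ideal.mem_comap.mpr hm)
    · obtain ⟨a, rfl⟩ := Ideal.Quotient.mk_surjective z
      exact ⟨a, fun ha => hz (Ideal.mem_map_of_mem _ ha), rfl⟩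
  haveI : IsLocalization.AtPrime (RM ⧸ J.map (algebraMap R RM)) M' := by
    show IsLocalization M'.primeCompl _
    rw [← hsub']
    infer_instance
  haveI : IsLocalRing (RM ⧸ J.map (algebraMap R RM)) := IsLocalization.AtPrime.isLocalRing _ M'
  have hxm : algebraMap R RM x ∈ maximalIdeal RM := (IsLocalization.AtPrime.to_map_mem_maximal_iff RM M x).mpr hx
  haveI : IsLocalRing (RM ⧸ Ideal.span {algebraMap R RM x}) := Groth.L01.isLocalRing_quotient
    (fun htop => (maximalIdeal.isMaximal RM).ne_top (top_le_iff.mp (htop ▸ (Ideal.span_singleton_le_iff_mem _).mpr hxm)))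
  exact hQ.of_equiv (Ideal.quotEquivOfEq hJ)
    (hQ.of_equiv (IsLocalization.algEquiv M'.primeCompl (Localization.AtPrime M') (RM ⧸ J.map (algebraMap R RM))).toRingEquiv (h M'))

/-- lifting from the closed fibre over a regular base -/
theorem of_regular_base : ∀ (d : ℕ) {R S : Type u} [CommRing R] [IsRegularLocalRing R] [CommRing S] [IsLocalRing S]
    [IsNoetherianRing S] [Algebra R S] [IsLocalHom (algebraMap R S)] [Module.Flat R S],
    ringKrullDim R = d → Q (EGA4.FibRing R S) → Q S := by
  intro d
  induction d with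
  | zero =>
    intro R S _ _ _ _ _ _ _ _ hd h
    have hm : maximalIdeal R = ⊥ := by
      have h1 := IsRegularLocalRing.spanFinrank_maximalIdeal (R := R)
      rw [hd, Nat.cast_inj] at h1
      exact (Submodule.spanFinrank_eq_zero_iff_eq_bot (IsNoetherian.noetherian _)).mp h1
    have hmB : EGA4.mB R S = ⊥ := by rw [EGA4.mB, hm, Ideal.map_bot]
    haveI : IsLocalRing (EGA4.FibRing R S) := inferInstance
    exact hQ.of_equiv ((Ideal.quotEquivOfEq hmB).trans (RingEquiv.quotientBot S)) h
  | succ d ih =>
    intro R S _ _ _ _ _ _ _ _ hd h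
    obtain ⟨x, hx, hx2⟩ : ∃ x ∈ maximalIdeal R, x ∉ maximalIdeal R ^ 2 := by
      by_contra hcon
      push Not at hcon
      have hm : maximalIdeal R = ⊥ := Submodule.eq_bot_of_le_smul_of_le_jacobson_bot (maximalIdeal R) (maximalIdeal R)
        (IsNoetherian.noetherian _) (by rw [smul_eq_mul, ← pow_two]; exact hcon) (IsLocalRing.maximalIdeal_le_jacobson _)
      have h1 := IsRegularLocalRing.spanFinrank_maximalIdeal (R := R)
      rw [hm, Submodule.spanFinrank_bot, hd, Nat.cast_inj] at h1
      exact Nat.succ_ne_zero d h1.symm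
    obtain ⟨hreg, hdim⟩ := Groth.L01.regular_quotient_of_notMem_sq hx hx2
    haveI := hreg
    haveI := Groth.L01.isDomain_of_regular R
    let y := algebraMap R S x
    have hy : y ∈ maximalIdeal S := map_nonunit (algebraMap R S) x hx
    let J := Ideal.span ({x} : Set R)
    let J' := J.map (algebraMap R S)
    have hJ' : J' = Ideal.span {y} := by simp only [J', J, y, Ideal.map_span, Set.image_singleton]
    haveI : Nontrivial (S ⧸ J') := Ideal.Quotient.nontrivial_iff.mpr fun htop =>
      (maximalIdeal.isMaximal S).ne_top (top_le_iff.mp (htop ▸ hJ' ▸ (Ideal.span_singleton_le_iff_mem _).mpr hy))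
    haveI : IsLocalRing (S ⧸ J') := IsLocalRing.of_surjective' _ Ideal.Quotient.mk_surjective
    haveI : Module.Flat (R ⧸ J) (S ⧸ J') := by
      haveI : Module.Flat (R ⧸ J) ((R ⧸ J) ⊗[R] S) := inferInstance
      exact Module.Flat.of_linearEquiv (((TensorProduct.quotTensorEquivQuotSMul S J ≪≫ₗ
        Submodule.quotEquivOfEq _ _ (Ideal.smul_top_eq_map J)) ≪≫ₗ
        Submodule.Quotient.restrictScalarsEquiv R J').extendScalarsOfSurjective Ideal.Quotient.mk_surjective).symm
    haveI : IsLocalHom (algebraMap (R ⧸ J) (S ⧸ J')) := by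
      refine ⟨fun z hz => ?_⟩
      obtain ⟨a, rfl⟩ := Ideal.Quotient.mk_surjective z
      have h' : IsUnit (Ideal.Quotient.mk J' (algebraMap R S a)) := hz
      refine (isUnit_of_map_unit (algebraMap R S) a (IsLocalRing.notMem_maximalIdeal.mp fun hmem => ?_)).map _
      have hm' : Ideal.Quotient.mk J' (algebraMap R S a) ∈ maximalIdeal (S ⧸ J') := by
        rw [← IsLocalRing.map_maximalIdeal_of_surjective (Ideal.Quotient.mk J') Ideal.Quotient.mk_surjective]
        exact Ideal.mem_map_of_mem _ hmem
      exact IsLocalRing.notMem_maximalIdeal.mpr h' hm' 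
    have hmap : EGA4.mB (R ⧸ J) (S ⧸ J') = (EGA4.mB R S).map (Ideal.Quotient.mk J') := by
      rw [EGA4.mB, EGA4.mB, ← IsLocalRing.map_maximalIdeal_of_surjective (Ideal.Quotient.mk J) Ideal.Quotient.mk_surjective,
        Ideal.map_map, Ideal.map_map]
      rfl
    have hle : J' ≤ EGA4.mB R S := Ideal.map_mono ((Ideal.span_singleton_le_iff_mem _).mpr hx)
    have h' : Q (EGA4.FibRing (R ⧸ J) (S ⧸ J')) := by
      haveI : IsLocalRing (EGA4.FibRing (R ⧸ J) (S ⧸ J')) := inferInstance
      haveI : IsLocalRing (EGA4.FibRing R S) := inferInstance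
      exact hQ.of_equiv ((DoubleQuot.quotQuotEquivQuotOfLE hle).symm.trans (Ideal.quotEquivOfEq hmap.symm)) h
    have hd' : ringKrullDim (R ⧸ J) = d := by
      have h1 : ringKrullDim (R ⧸ J) + 1 = ((d + 1 : ℕ) : WithBot ℕ∞) := hdim.trans hd
      obtain ⟨e, he⟩ := Groth.L01.exists_dim_eq_nat (R := R ⧸ J)
      rw [he] at h1 ⊢
      have : e + 1 = d + 1 := by exact_mod_cast h1
      rw [Nat.succ_injective this]
    refine hQ.lift y hy ?_ ?_
    · refine mem_nonZeroDivisors_iff_right.mpr fun z hz => ?_
      have hx0 : x ≠ 0 := Groth.L01.ne_zero_of_notMem_sq hx2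
      have : IsSMulRegular R x := isSMulRegular_iff_right_eq_zero_of_smul.mpr fun a ha =>
        (mul_eq_zero.mp ha).resolve_left hx0
      refine (IsSMulRegular.of_flat (S := S) this).right_eq_zero_of_smul ?_
      simpa [Algebra.smul_def, mul_comm, y] using hz
    · haveI : IsLocalRing (S ⧸ Ideal.span {y}) := hJ' ▸ (inferInstance : IsLocalRing (S ⧸ J'))
      exact hQ.of_equiv (Ideal.quotEquivOfEq hJ') (ih (R := R ⧸ J) (S := S ⧸ J') hd' h')

end Groth.L06.PropLoc
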