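import Groth.Agent.L06.ValuationFibreGeneric
import Groth.Agent.L06.AffineRTrdeg
import Groth.Agent.L21.Smooth.Scheme
import Groth.Agent.L04.RegularPd
import Groth.Agent.S0603
import Mathlib.AlgebraicGeometry.Morphisms.Preimmersion
import Mathlib.RingTheory.AlgebraicIndependent.TranscendenceBasis
import Mathlib.RingTheory.FiniteType

/-! The dimension function of an algebra of finite type over a Prüfer domain. -/

set_option autoImplicit false
set_option maxSynthPendingDepth 3
set_option backward.isDefEq.respectTransparency.types false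
set_option backward.isDefEq.respectTransparency false
set_option linter.style.haveILetI false
universe u

open CategoryTheory CategoryTheory.Limits AlgebraicGeometry TopologicalSpace Topology Groth.L22

namespace Groth.L06.PruferDimFun

open Groth.L07.Equidim Groth.L07.DimToolkit

/-! ### morphisms over a valuation ring -/

section Valuation

variable {R : Type u} [CommRing R] [IsDomain R] [ValuationRing R] {X : Scheme.{u}}
  (f : X ⟶ Spec (CommRingCat.of R)) [LocallyOfFiniteType f]

theorem fdim_mono_valuation {y x : X} (h : y ⤳ x) :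
    fdim f x ≤ fdim f y ∧
      ((∀ z, y ⤳ z → z ⤳ x → f z = f x → z = x) → fdim f x = fdim f y) := by
  let I := Scheme.IdealSheafData.vanishingIdeal (⟨closure {y}, isClosed_closure⟩ : Closeds X)
  have hr : Set.range I.subschemeι = closure {y} :=
    Groth.L07.DimToolkit.range_subschemeι_vanishingIdeal ⟨closure {y}, isClosed_closure⟩
  haveI : IsReduced I.subscheme := Groth.L18.isReduced_vanishingIdeal_subscheme _
  obtain ⟨hirr, hg⟩ := Groth.L07.DimToolkit.irreducible_of_range_eq I.subschemeι y hr
  haveI : IsIntegral I.subscheme := isIntegral_of_irreducibleSpace_of_isReduced _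
  obtain ⟨w, hw⟩ : x ∈ Set.range I.subschemeι := by rw [hr]; exact h.mem_closure
  have h1 := Groth.L06.ValuationFibreGeneric.fdim_generic_eq (I.subschemeι ≫ f) w
  rw [fdim_comp I.subschemeι f _ rfl, hg] at h1
  refine ⟨?_, fun hmax => ?_⟩
  · rw [← h1, ← hw, ← fdim_comp I.subschemeι f (I.subschemeι ≫ f) rfl w]
    exact fdim_le_fibreDimAt _ w
  · rw [← h1, ← hw, ← fdim_comp I.subschemeι f (I.subschemeι ≫ f) rfl w]
    refine Groth.L07.OpenFibreDim.fdim_eq_fibreDimAt _ w fun z hz hzw => ?_
    apply I.subschemeι.isEmbedding.injective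
    rw [hw]
    refine hmax _ (specializes_iff_mem_closure.2 (hr.le ⟨z, rfl⟩)) (hw ▸ hzw.map I.subschemeι.continuous) ?_
    rw [Scheme.Hom.comp_apply, Scheme.Hom.comp_apply, hw] at hz
    exact hz

end Valuation

/-! ### two points of one fibre -/

theorem fibre_step {X Y : Scheme.{u}} (f : X ⟶ Y) [LocallyOfFiniteType f] {y x : X} (h : y ⤳ x) (hf : f y = f x) :
    ∃ A n N : ℕ, fdim f x = (n : WithBot ℕ∞) ∧ fdim f y = (N : WithBot ℕ∞) ∧ A + n = N ∧
      (y ≠ x → 0 < A) ∧ ((∀ z, y ⤳ z → z ⤳ x → z = y ∨ z = x) → A ≤ 1) := by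
  let F := f.fiber (f x)
  let fF : F ⟶ Spec (Y.residueField (f x)) := f.fiberToSpecResidueField (f x)
  haveI : LocallyOfFiniteType fF := MorphismProperty.pullback_snd _ _ inferInstance
  haveI : IsLocallyNoetherian F := LocallyOfFiniteType.isLocallyNoetherian fF
  obtain ⟨a, ha⟩ : x ∈ Set.range (f.fiberι (f x)) := by rw [f.range_fiberι]; rfl
  obtain ⟨b, hb⟩ : y ∈ Set.range (f.fiberι (f x)) := by rw [f.range_fiberι]; exact hf
  have he := (f.fiberι (f x)).isEmbedding
  have hba : b ⤳ a := he.isInducing.specializes_iff.mp (by rw [hb, ha]; exact h)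
  haveI : Subsingleton ↥(Spec (Y.residueField (f x))) := inferInstanceAs (Subsingleton (PrimeSpectrum _))
  have hdim : ∀ c : F, fdim fF c = fdim f (f.fiberι (f x) c) := fun c => by
    rw [fdim_fiberι]
    show topologicalKrullDim ↥(closure ({c} : Set F) ∩ fF.base ⁻¹' {fF.base c}) = _
    rw [show fF.base ⁻¹' {fF.base c} = Set.univ from Set.eq_univ_of_forall fun z => Subsingleton.elim _ _,
      Set.inter_univ]
  obtain ⟨A, B, n, N, hA, hB, hn, hN, -, heq⟩ := formula fF hba
  haveI := Groth.L21.Smooth.regular_stalk (𝟙 (Spec (Y.residueField (f x)))) (fF a)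
  haveI := Groth.L04.isCohenMacaulayLocalRing_of_regular ((Spec (Y.residueField (f x))).presheaf.stalk (fF a))
  haveI := Groth.L04.isCohenMacaulayRing_of_local ((Spec (Y.residueField (f x))).presheaf.stalk (fF a))
  have heq' := heq (Groth.Agent.S0603.result _)
  obtain rfl : B = 0 := by
    obtain ⟨P, hP⟩ := exists_prime (fF a) (fF b) (hba.map fF.continuous)
    rw [dim_locQuot_eq_coheight (fF a) (fF b) _ P hP] at hB
    have hm : IsMax P := fun Q _ => by
      have : Q = P := ((Spec (Y.residueField (f x))).fromSpecStalk (fF a)).isEmbedding.injective (Subsingleton.elim _ _)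
      exact this.le
    rw [Order.coheight_eq_zero.2 hm] at hB
    exact_mod_cast hB.symm
  rw [hdim, ha] at hn
  rw [hdim, hb] at hN
  obtain ⟨P, hP⟩ := exists_prime a b hba
  rw [dim_locQuot_eq_coheight a b hba P hP] at hA
  have hA' : Order.coheight P = (A : ℕ∞) := WithBot.coe_injective hA
  let c := IsLocalRing.closedPoint (F.presheaf.stalk a)
  refine ⟨A, n, N, hn, hN, by omega, fun hne => ?_, fun hcov => ?_⟩
  · refine Nat.pos_of_ne_zero fun h0 => hne ?_
    subst h0
    have hm : IsMax P := Order.coheight_eq_zero.1 (by rw [hA']; rfl)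
    have : P = c := le_antisymm (IsLocalRing.le_maximalIdeal P.2.ne_top) (hm (IsLocalRing.le_maximalIdeal P.2.ne_top))
    rw [← ha, ← hb, ← hP, this, Scheme.fromSpecStalk_closedPoint]
  · have h1 : Order.coheight P ≤ ((1 : ℕ) : ℕ∞) := by
      refine Order.coheight_le_coe_iff.2 fun Q hQ => ?_
      have hQc : Q = c := by
        have h1 : F.fromSpecStalk a P ⤳ F.fromSpecStalk a Q :=
          ((PrimeSpectrum.le_iff_specializes _ _).1 hQ.le).map (F.fromSpecStalk a).continuous
        have h2 : F.fromSpecStalk a Q ⤳ F.fromSpecStalk a c :=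
          ((PrimeSpectrum.le_iff_specializes _ _).1 (IsLocalRing.le_maximalIdeal Q.2.ne_top)).map
            (F.fromSpecStalk a).continuous
        rw [hP] at h1
        rw [Scheme.fromSpecStalk_closedPoint] at h2
        have h1' := h1.map (f.fiberι (f x)).continuous
        have h2' := h2.map (f.fiberι (f x)).continuous
        rcases hcov _ ((specializes_of_eq hb.symm).trans h1') (h2'.trans (specializes_of_eq ha)) with h3 | h3
        · exact absurd ((F.fromSpecStalk a).isEmbedding.injective ((he.injective (h3.trans hb.symm)).trans hP.symm)) hQ.ne'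
        · exact (F.fromSpecStalk a).isEmbedding.injective
            ((he.injective (h3.trans ha.symm)).trans (Scheme.fromSpecStalk_closedPoint).symm)
      rw [hQc, Order.coheight_eq_zero.2 (show IsMax c from fun Q' _ => IsLocalRing.le_maximalIdeal Q'.2.ne_top)]
      exact zero_lt_one
    rw [hA'] at h1
    exact_mod_cast h1

/-! ### Prüfer base -/

section Prufer

variable {R : Type u} [CommRing R] [IsDomain R]

theorem fdim_mono (hR : ∀ (p : Ideal R) [p.IsPrime], ValuationRing (Localization.AtPrime p)) {X : Scheme.{u}}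
    (f : X ⟶ Spec (CommRingCat.of R)) [LocallyOfFiniteType f] {y x : X} (h : y ⤳ x) :
    fdim f x ≤ fdim f y ∧
      ((∀ z, y ⤳ z → z ⤳ x → f z = f x → z = x) → fdim f x = fdim f y) := by
  let q := (f x).asIdeal
  haveI := hR q
  let A := Localization.AtPrime q
  let g : Spec (CommRingCat.of A) ⟶ Spec (CommRingCat.of R) := Spec.map (CommRingCat.ofHom (algebraMap R A))
  let f' : pullback f g ⟶ Spec (CommRingCat.of A) := pullback.snd f g
  let π : pullback f g ⟶ X := pullback.fst f g
  haveI : IsPreimmersion g := IsPreimmersion.of_isLocalization q.primeCompl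
  have hmem : ∀ v : X, v ⤳ x → v ∈ Set.range π := fun v hv => by
    rw [Scheme.Pullback.range_fst]
    show f v ∈ Set.range (PrimeSpectrum.comap (algebraMap R A))
    rw [PrimeSpectrum.localization_comap_range A q.primeCompl]
    show Disjoint (q.primeCompl : Set R) ((f v).asIdeal : Set R)
    exact Set.disjoint_left.mpr fun a ha ha' =>
      ha ((PrimeSpectrum.le_iff_specializes (f v) (f x)).2 (hv.map f.continuous) ha')
  have hw : ∀ w, g (f' w) = f (π w) := fun w => by
    rw [← Scheme.Hom.comp_apply, ← Scheme.Hom.comp_apply, pullback.condition]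
  have hfd : ∀ w, fdim f' w = fdim f (π w) := fun w => by
    symm
    refine SchemeDim.topologicalKrullDim_eq_of_isEmbedding (π.isEmbedding.comp IsEmbedding.subtypeVal) ?_
    rw [Set.range_comp, Subtype.range_coe]
    ext v
    constructor
    · rintro ⟨z, ⟨hz1, hz2⟩, rfl⟩
      refine ⟨((specializes_iff_mem_closure.2 hz1).map π.continuous).mem_closure, ?_⟩
      show f (π z) = f (π w)
      rw [← hw, ← hw, show f' z = f' w from hz2]
    · rintro ⟨hv1, hv2⟩
      obtain ⟨z, rfl⟩ : v ∈ Set.range π := by
        rw [Scheme.Pullback.range_fst]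
        exact ⟨f' w, (hw w).trans (show f v = f (π w) from hv2).symm⟩
      refine ⟨z, ⟨(π.isEmbedding.isInducing.specializes_iff.1 (specializes_iff_mem_closure.2 hv1)).mem_closure,
        g.isEmbedding.injective ?_⟩, rfl⟩
      show g (f' z) = g (f' w)
      rw [hw, hw]; exact hv2
  obtain ⟨a, ha⟩ := hmem x (specializes_refl x)
  obtain ⟨b, hb⟩ := hmem y h
  have hba : b ⤳ a := π.isEmbedding.isInducing.specializes_iff.1 (by rw [hb, ha]; exact h)
  obtain ⟨h1, h2⟩ := fdim_mono_valuation f' hba
  rw [hfd, hfd, ha, hb] at h1 h2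
  refine ⟨h1, fun hmax => h2 fun z hz1 hz2 hz3 => π.isEmbedding.injective ?_⟩
  rw [ha]
  exact hmax _ ((specializes_of_eq hb.symm).trans (hz1.map π.continuous))
    ((hz2.map π.continuous).trans (specializes_of_eq ha)) (by rw [← hw, hz3, hw, ha])

theorem le_or_le (hR : ∀ (p : Ideal R) [p.IsPrime], ValuationRing (Localization.AtPrime p))
    (p r q : Ideal R) [p.IsPrime] [r.IsPrime] [q.IsPrime] (hp : p ≤ q) (hr : r ≤ q) : p ≤ r ∨ r ≤ p := by
  by_contra hcon
  simp only [not_or] at hcon
  obtain ⟨a, hap, har⟩ := SetLike.not_le_iff_exists.1 hcon.1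
  obtain ⟨b, hbr, hbp⟩ := SetLike.not_le_iff_exists.1 hcon.2
  haveI := hR q
  have key : ∀ (p r : Ideal R) [p.IsPrime], p ≤ q → ∀ a ∈ r, ∀ b ∈ p, a ∉ p →
      algebraMap R (Localization.AtPrime q) b ∣ algebraMap R (Localization.AtPrime q) a → False := by
    intro p r _ hpq a _ b hb hap ⟨c, hc⟩
    obtain ⟨⟨c, t⟩, rfl⟩ := IsLocalization.mk'_surjective q.primeCompl c
    rw [IsLocalization.mul_mk'_eq_mk'_of_mul, IsLocalization.eq_mk'_iff_mul_eq, ← map_mul] at hc
    have h := IsLocalization.injective (Localization.AtPrime q) q.primeCompl_le_nonZeroDivisors hc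
    rcases Ideal.IsPrime.mem_or_mem ‹p.IsPrime› (show a * (t : R) ∈ p by rw [h]; exact p.mul_mem_right _ hb) with h | h
    · exact hap h
    · exact t.2 (hpq h)
  rcases ValuationRing.dvd_total (algebraMap R (Localization.AtPrime q) a) (algebraMap R (Localization.AtPrime q) b) with h | h
  · exact key p r hp b hbr a hap hbp h
  · exact key r p hr a hap b hbr har h

variable {S : Type u} [CommRing S] [Algebra R S]

theorem exists_between (hR : ∀ (p : Ideal R) [p.IsPrime], ValuationRing (Localization.AtPrime p))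
    (P Q : Ideal S) [P.IsPrime] [Q.IsPrime] (hPQ : P ≤ Q) (r : Ideal R) [r.IsPrime]
    (h1 : P.under R < r) (h2 : r ≤ Q.under R) :
    ∃ z : Ideal S, z.IsPrime ∧ P ≤ z ∧ z ≤ Q ∧ z.under R = r := by
  classical
  let q := Q.under R
  haveI := hR q
  let Qb := Q.map (Ideal.Quotient.mk P)
  haveI : Qb.IsPrime := Ideal.map_isPrime_of_surjective Ideal.Quotient.mk_surjective (Ideal.mk_ker.le.trans hPQ)
  let L := Localization.AtPrime Qb
  let φ : S →+* L := (algebraMap (S ⧸ P) L).comp (Ideal.Quotient.mk P)
  let χ : R →+* L := φ.comp (algebraMap R S)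
  have hcm : (r.map χ).comap χ = r := by
    refine le_antisymm (fun a ha => ?_) Ideal.le_comap_map
    by_contra har
    rw [Ideal.mem_comap, show r.map χ = ((r.map (algebraMap R S)).map (Ideal.Quotient.mk P)).map (algebraMap (S ⧸ P) L) from
      by rw [Ideal.map_map, Ideal.map_map]] at ha
    change algebraMap (S ⧸ P) L (Ideal.Quotient.mk P (algebraMap R S a)) ∈ _ at ha
    rw [IsLocalization.algebraMap_mem_map_algebraMap_iff Qb.primeCompl] at ha
    obtain ⟨s, hs, hsa⟩ := ha
    obtain ⟨s, rfl⟩ := Ideal.Quotient.mk_surjective s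
    have hsQ : s ∉ Q := fun h => hs (Ideal.mem_map_of_mem _ h)
    rw [← map_mul, Ideal.mem_quotient_iff_mem_sup] at hsa
    obtain ⟨u, hu, π, hπ, huπ⟩ := Submodule.mem_sup.1 hsa
    -- `u` is `a` times an element of `Q`, up to an element outside `q`
    have hu' : ∃ (t : R) (v : S), t ∉ q ∧ v ∈ Q ∧ algebraMap R S t * u = algebraMap R S a * v := by
      refine Submodule.span_induction (p := fun u _ => ∃ (t : R) (v : S), t ∉ q ∧ v ∈ Q ∧
        algebraMap R S t * u = algebraMap R S a * v) ?_ ?_ ?_ ?_ hu
      · rintro _ ⟨c, hc, rfl⟩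
        rcases ValuationRing.dvd_total (algebraMap R (Localization.AtPrime q) a) (algebraMap R (Localization.AtPrime q) c) with ⟨d, hd⟩ | ⟨d, hd⟩ <;>
        · obtain ⟨⟨d, t⟩, rfl⟩ := IsLocalization.mk'_surjective q.primeCompl d
          rw [IsLocalization.mul_mk'_eq_mk'_of_mul, IsLocalization.eq_mk'_iff_mul_eq, ← map_mul] at hd
          have h := IsLocalization.injective (Localization.AtPrime q) q.primeCompl_le_nonZeroDivisors hd
          first
          | (refine ⟨t, algebraMap R S d, t.2, ?_, by rw [← map_mul, ← map_mul, mul_comm (t : R), h]⟩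
             rcases Ideal.IsPrime.mem_or_mem ‹r.IsPrime› (show a * d ∈ r by rw [← h]; exact r.mul_mem_right _ hc) with h' | h'
             · exact absurd h' har
             · exact h2 h')
          | (exfalso
             rcases Ideal.IsPrime.mem_or_mem ‹r.IsPrime› (show a * (t : R) ∈ r by rw [h]; exact r.mul_mem_right _ hc) with h' | h'
             · exact har h'
             · exact t.2 (h2 h'))
      · exact ⟨1, 0, fun h => (Ideal.IsPrime.ne_top (show q.IsPrime from inferInstance)) ((Ideal.eq_top_iff_one _).2 h),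
          zero_mem _, by simp⟩
      · rintro x y - - ⟨t, v, ht, hv, e⟩ ⟨t', v', ht', hv', e'⟩
        refine ⟨t * t', algebraMap R S t' * v + algebraMap R S t * v', fun h =>
          ((show q.IsPrime from inferInstance).mem_or_mem h).elim ht ht',
          add_mem (Q.mul_mem_left _ hv) (Q.mul_mem_left _ hv'), ?_⟩
        rw [map_mul]
        linear_combination (algebraMap R S t') * e + (algebraMap R S t) * e'
      · rintro c x - ⟨t, v, ht, hv, e⟩
        refine ⟨t, c * v, ht, Q.mul_mem_left _ hv, ?_⟩
        rw [smul_eq_mul]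
        linear_combination c * e
    obtain ⟨t, v, ht, hv, e⟩ := hu'
    have h3 : algebraMap R S a * (algebraMap R S t * s - v) ∈ P := by
      have : algebraMap R S a * (algebraMap R S t * s - v) = algebraMap R S t * π := by
        linear_combination -(algebraMap R S t) * huπ + e
      rw [this]; exact P.mul_mem_left _ hπ
    rcases Ideal.IsPrime.mem_or_mem ‹P.IsPrime› h3 with h | h
    · exact har (h1.le h)
    · rcases Ideal.IsPrime.mem_or_mem ‹Q.IsPrime› (show algebraMap R S t * s ∈ Q by
        simpa using Q.add_mem (hPQ h) hv) with h | h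
      · exact ht h
      · exact hsQ h
  obtain ⟨w, hw, hwr⟩ := Ideal.comap_map_eq_self_iff_of_isPrime r |>.1 hcm
  refine ⟨w.comap φ, Ideal.IsPrime.comap _, fun a ha => ?_, fun a ha => ?_, hwr⟩
  · rw [Ideal.mem_comap]
    show algebraMap (S ⧸ P) L (Ideal.Quotient.mk P a) ∈ w
    rw [Ideal.Quotient.eq_zero_iff_mem.2 ha, map_zero]; exact zero_mem _
  · have h3 : algebraMap (S ⧸ P) L (Ideal.Quotient.mk P a) ∈ IsLocalRing.maximalIdeal L :=
      IsLocalRing.le_maximalIdeal hw.ne_top ha
    rw [IsLocalization.AtPrime.to_map_mem_maximal_iff L Qb] at h3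
    rw [← sup_eq_left.2 hPQ]
    exact Ideal.mem_quotient_iff_mem_sup.1 h3

open Algebra in
theorem trdeg_residue (P : Ideal S) [P.IsPrime] (p : Ideal R) [p.IsPrime] (h : P.under R = p) :
    letI := (Ideal.ResidueField.map p P (algebraMap R S) h.symm).toAlgebra
    Algebra.trdeg p.ResidueField P.ResidueField = Algebra.trdeg (R ⧸ P.under R) (S ⧸ P) := by
  subst h
  let p := P.under R
  letI := (Ideal.ResidueField.map p P (algebraMap R S) rfl).toAlgebra
  show Algebra.trdeg p.ResidueField P.ResidueField = Algebra.trdeg (R ⧸ p) (S ⧸ P)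
  letI : Algebra (R ⧸ p) P.ResidueField := ((algebraMap (S ⧸ P) P.ResidueField).comp (algebraMap (R ⧸ p) (S ⧸ P))).toAlgebra
  haveI : IsScalarTower (R ⧸ p) (S ⧸ P) P.ResidueField := IsScalarTower.of_algebraMap_eq fun _ => rfl
  haveI : IsScalarTower (R ⧸ p) p.ResidueField P.ResidueField := IsScalarTower.of_algebraMap_eq fun a => by
    obtain ⟨a, rfl⟩ := Ideal.Quotient.mk_surjective a
    show algebraMap S P.ResidueField (algebraMap R S a) =
      Ideal.ResidueField.map p P (algebraMap R S) rfl (algebraMap R p.ResidueField a)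
    simp
  haveI : FaithfulSMul (R ⧸ p) (S ⧸ P) := (faithfulSMul_iff_algebraMap_injective _ _).2 Ideal.algebraMap_quotient_injective
  haveI : FaithfulSMul (R ⧸ p) p.ResidueField := (faithfulSMul_iff_algebraMap_injective _ _).2 (IsFractionRing.injective _ _)
  haveI : FaithfulSMul (S ⧸ P) P.ResidueField := (faithfulSMul_iff_algebraMap_injective _ _).2 (IsFractionRing.injective _ _)
  haveI : Algebra.IsAlgebraic (R ⧸ p) p.ResidueField := IsLocalization.isAlgebraic (R := R ⧸ p) _ (nonZeroDivisors (R ⧸ p))
  haveI : Algebra.IsAlgebraic (S ⧸ P) P.ResidueField := IsLocalization.isAlgebraic (R := S ⧸ P) _ (nonZeroDivisors (S ⧸ P))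
  haveI : FaithfulSMul p.ResidueField P.ResidueField :=
    (faithfulSMul_iff_algebraMap_injective _ _).2 (algebraMap p.ResidueField P.ResidueField).injective
  have e1 := trdeg_add_eq (R ⧸ p) p.ResidueField (A := P.ResidueField)
  have e2 := trdeg_add_eq (R ⧸ p) (S ⧸ P) (A := P.ResidueField)
  rw [trdeg_eq_zero, zero_add] at e1
  rw [trdeg_eq_zero (R := S ⧸ P), add_zero] at e2
  rw [e1, e2]

/-- the relative transcendence degree -/
noncomputable def T (R : Type u) [CommRing R] [Algebra R S] (P : Ideal S) : ℕ :=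
  Cardinal.toNat (Algebra.trdeg (R ⧸ P.under R) (S ⧸ P))

theorem fdim_spec [Algebra.FiniteType R S] (P : PrimeSpectrum S) :
    fdim (Groth.L03.FibreLocalDim.f R S) P = (T R P.asIdeal : WithBot ℕ∞) := by
  haveI : LocallyOfFiniteType (Groth.L03.FibreLocalDim.f R S) := by
    rw [HasRingHomProperty.Spec_iff (P := @LocallyOfFiniteType)]
    exact RingHom.finiteType_algebraMap.2 inferInstance
  obtain ⟨n, hn, hn'⟩ := exists_fdim_rtrdeg (Groth.L03.FibreLocalDim.f R S) P
  rw [Groth.L06.AffineRTrdeg.rtrdeg_spec] at hn'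
  have h := trdeg_residue (R := R) P.asIdeal (PrimeSpectrum.comap (algebraMap R S) P).asIdeal rfl
  rw [hn, T, ← h, hn', Cardinal.toNat_natCast]

/-- the dimension function -/
noncomputable def δ (R : Type u) [CommRing R] [Algebra R S] (P : Ideal S) : ℤ :=
  (T R P : ℤ) - ((P.under R).height.toNat : ℤ)

omit [IsDomain R] in
theorem height_fin (hdim : ringKrullDim R < ⊤) (p : Ideal R) [p.IsPrime] : p.height ≠ ⊤ := fun h => by
  have h1 := Ideal.height_le_ringKrullDim_of_ne_top (I := p) (Ideal.IsPrime.ne_top ‹_›)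
  rw [h] at h1
  exact not_lt_of_ge h1 hdim

variable [Algebra.FiniteType R S]

theorem main (hR : ∀ (p : Ideal R) [p.IsPrime], ValuationRing (Localization.AtPrime p)) (hdim : ringKrullDim R < ⊤)
    (P Q : Ideal S) [P.IsPrime] [Q.IsPrime] (hPQ : P < Q) :
    δ R Q < δ R P ∧ ((⟨P, inferInstance⟩ : PrimeSpectrum S) ⋖ ⟨Q, inferInstance⟩ ↔ δ R P = δ R Q + 1) := by
  let f := Groth.L03.FibreLocalDim.f R S
  haveI : LocallyOfFiniteType f := by
    rw [HasRingHomProperty.Spec_iff (P := @LocallyOfFiniteType)]
    exact RingHom.finiteType_algebraMap.2 inferInstance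
  -- strict decrease
  have strict : ∀ (A B : Ideal S) [A.IsPrime] [B.IsPrime], A < B → δ R B < δ R A ∧
      ((∀ C : Ideal S, C.IsPrime → A ≤ C → C ≤ B → C = A ∨ C = B) → δ R A = δ R B + 1) := by
    intro A B hA hB hAB
    let a : PrimeSpectrum S := ⟨A, hA⟩
    let b : PrimeSpectrum S := ⟨B, hB⟩
    have hab : a ⤳ b := (PrimeSpectrum.le_iff_specializes a b).1 hAB.le
    have hle : A.under R ≤ B.under R := Ideal.comap_mono hAB.le
    rcases hle.eq_or_lt with he | hlt
    · -- same fibre
      have hf : f a = f b := PrimeSpectrum.ext he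
      obtain ⟨d, n, N, hn, hN, hd, hpos, hone⟩ := fibre_step f hab hf
      rw [fdim_spec] at hn hN
      have hn' : T R B = n := by exact_mod_cast hn
      have hN' : T R A = N := by exact_mod_cast hN
      have hpos' := hpos fun h => hAB.ne (congrArg PrimeSpectrum.asIdeal h)
      refine ⟨?_, fun hcov => ?_⟩
      · simp only [δ, he, hn', hN']; omega
      · have hone' := hone fun z hz1 hz2 => (hcov z.asIdeal z.2 ((PrimeSpectrum.le_iff_specializes a z).2 hz1)
          ((PrimeSpectrum.le_iff_specializes z b).2 hz2)).imp PrimeSpectrum.ext PrimeSpectrum.ext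
        simp only [δ, he, hn', hN']; omega
    · -- different fibres
      obtain ⟨hm, heq⟩ := fdim_mono hR f hab
      rw [fdim_spec, fdim_spec] at hm heq
      have hm' : T R B ≤ T R A := by exact_mod_cast hm
      obtain ⟨hb, hhb⟩ := ENat.ne_top_iff_exists.1 (height_fin hdim (B.under R))
      obtain ⟨ha, hha⟩ := ENat.ne_top_iff_exists.1 (height_fin hdim (A.under R))
      haveI : (B.under R).FiniteHeight := ⟨Or.inr (height_fin hdim _)⟩
      haveI : (A.under R).FiniteHeight := ⟨Or.inr (height_fin hdim _)⟩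
      have hht := Ideal.height_strict_mono_of_isPrime_of_isPrime hlt
      rw [← hha, ← hhb] at hht
      norm_cast at hht
      refine ⟨?_, fun hcov => ?_⟩
      · simp only [δ, ← hha, ← hhb, ENat.toNat_natCast]; omega
      · have hbelow : ∀ r : PrimeSpectrum R, r.asIdeal < B.under R → r.asIdeal ≤ A.under R := by
          intro r hr
          by_contra hrA
          rcases le_or_le hR (A.under R) r.asIdeal (B.under R) hle hr.le with h | h
          · have hAr : A.under R < r.asIdeal := lt_of_le_of_ne h fun e => hrA e.ge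
            obtain ⟨z, hz, hz1, hz2, hz3⟩ := exists_between hR A B hAB.le r.asIdeal hAr hr.le
            rcases hcov z hz hz1 hz2 with rfl | rfl
            · exact hAr.ne hz3
            · exact hr.ne hz3.symm
          · exact hrA h
        have hb1 : hb ≤ ha + 1 := by
          have h1 : (B.under R).height ≤ ((ha + 1 : ℕ) : ℕ∞) := by
            rw [PrimeSpectrum.height_eq_orderHeight ⟨B.under R, inferInstance⟩]
            refine Order.height_le_coe_iff.2 fun r hr => ?_
            refine lt_of_le_of_lt ?_ (show ((ha : ℕ) : ℕ∞) < ((ha + 1 : ℕ) : ℕ∞) by exact_mod_cast Nat.lt_succ_self ha)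
            rw [hha, ← PrimeSpectrum.height_eq_orderHeight r]
            exact Ideal.height_mono (hbelow r hr)
          rw [← hhb] at h1
          exact_mod_cast h1
        have hT : T R B = T R A := by
          have := heq fun z hz1 hz2 hz3 => by
            rcases hcov z.asIdeal z.2 ((PrimeSpectrum.le_iff_specializes a z).2 hz1)
              ((PrimeSpectrum.le_iff_specializes z b).2 hz2) with h | h
            · exfalso
              have h3 : z.asIdeal.under R = B.under R := congrArg PrimeSpectrum.asIdeal hz3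
              exact hlt.ne (by rw [← h3, h])
            · exact PrimeSpectrum.ext h
          exact_mod_cast this
        simp only [δ, ← hha, ← hhb, ENat.toNat_natCast, hT]; omega
  refine ⟨(strict P Q hPQ).1, fun hcov => (strict P Q hPQ).2 fun C hC h1 h2 => ?_, fun heq => ⟨hPQ, fun C hC1 hC2 => ?_⟩⟩
  · exact (hcov.eq_or_eq (c := ⟨C, hC⟩) h1 h2).imp (congrArg PrimeSpectrum.asIdeal) (congrArg PrimeSpectrum.asIdeal)
  · have h1 := (strict P C.asIdeal hC1).1
    have h2 := (strict C.asIdeal Q hC2).1
    omega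

theorem exists_bound (hdim : ringKrullDim R < ⊤) : ∃ N D : ℕ, ∀ P : Ideal S, P.IsPrime → δ R P ≤ N ∧ -(D : ℤ) ≤ δ R P := by
  obtain ⟨n, π, hπ⟩ := Algebra.FiniteType.iff_quotient_mvPolynomial''.1 (inferInstance : Algebra.FiniteType R S)
  obtain ⟨D, hD⟩ : ∃ D : ℕ, ringKrullDim R ≤ D := by
    have h0 := Ideal.height_le_ringKrullDim_of_ne_top (I := (⊥ : Ideal R)) bot_ne_top
    rcases hd : ringKrullDim R with _ | d
    · exact ⟨0, bot_le⟩
    · rcases d with _ | d
      · rw [hd] at hdim; exact absurd hdim (lt_irrefl _)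
      · exact ⟨d, le_rfl⟩
  refine ⟨n, D, fun P hP => ?_⟩
  haveI := hP
  have h1 : T R P ≤ n := by
    haveI : IsDomain (R ⧸ P.under R) := inferInstance
    let ψ : MvPolynomial (Fin n) (R ⧸ P.under R) →ₐ[R ⧸ P.under R] S ⧸ P :=
      MvPolynomial.aeval fun i => Ideal.Quotient.mk P (π (MvPolynomial.X i))
    have hψ : Function.Surjective ψ := by
      intro s
      obtain ⟨s, rfl⟩ := Ideal.Quotient.mk_surjective s
      obtain ⟨m, rfl⟩ := hπ s
      refine ⟨MvPolynomial.map (Ideal.Quotient.mk (P.under R)) m, ?_⟩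
      show MvPolynomial.aeval _ _ = _
      induction m using MvPolynomial.induction_on with
      | C r => simp
      | add x y hx hy => simp only [map_add, hx, hy]
      | mul_X x i hx => simp only [map_mul, hx, MvPolynomial.map_X, MvPolynomial.aeval_X]
    have h := trdeg_le_of_surjective ψ hψ
    rw [MvPolynomial.trdeg_of_isDomain, Cardinal.mk_fin, Cardinal.lift_natCast] at h
    have := Cardinal.toNat_le_toNat h (Cardinal.natCast_lt_aleph0)
    rwa [Cardinal.toNat_natCast] at this
  have h2 : (P.under R).height.toNat ≤ D := by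
    obtain ⟨c, hc⟩ := ENat.ne_top_iff_exists.1 (height_fin hdim (P.under R))
    have h := (Ideal.height_le_ringKrullDim_of_ne_top (I := P.under R) (Ideal.IsPrime.ne_top inferInstance)).trans hD
    rw [← hc] at h ⊢
    rw [ENat.toNat_natCast]
    exact_mod_cast h
  constructor <;> (unfold δ; omega)

end Prufer

/-- Catenary rings from dimension functions. -/
theorem catenary_of_dimFun {A : Type u} [CommRing A] (d : PrimeSpectrum A → ℤ) (lo hi : ℤ)
    (hb : ∀ P, lo ≤ d P ∧ d P ≤ hi) (hlt : ∀ P Q, P < Q → d Q < d P)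
    (hcov : ∀ P Q, P ⋖ Q → d P = d Q + 1) : CAlg.IsCatenary A ∧ ringKrullDim A < ⊤ := by
  have hlen : ∀ s : LTSeries (PrimeSpectrum A), (s.length : ℤ) ≤ d s.head - d s.last := by
    intro s
    have key : ∀ i : Fin (s.length + 1), (i : ℤ) ≤ d s.head - d (s i) := by
      intro i
      induction i using Fin.induction with
      | zero => simp [RelSeries.head]
      | succ j hj =>
        have := hlt _ _ (s.step j)
        simp only [Fin.val_castSucc] at hj
        simp only [Fin.val_succ, Nat.cast_add, Nat.cast_one]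
        omega
    exact key (Fin.last _)
  have heq : ∀ s : LTSeries (PrimeSpectrum A), (∀ i : Fin s.length, s (Fin.castSucc i) ⋖ s (Fin.succ i)) →
      (s.length : ℤ) = d s.head - d s.last := by
    intro s hs
    have key : ∀ i : Fin (s.length + 1), (i : ℤ) = d s.head - d (s i) := by
      intro i
      induction i using Fin.induction with
      | zero => simp [RelSeries.head]
      | succ j hj =>
        have := hcov _ _ (hs j)
        simp only [Fin.val_castSucc] at hj
        simp only [Fin.val_succ, Nat.cast_add, Nat.cast_one]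
        omega
    exact key (Fin.last _)
  refine ⟨⟨fun p q _ => ⟨(hi - lo).toNat, fun s _ _ => ?_⟩, fun s t h1 h2 hs ht => ?_⟩, ?_⟩
  · have := hlen s
    have := hb s.head
    have := hb s.last
    omega
  · have := heq s hs
    have := heq t ht
    rw [h1, h2] at *
    omega
  · refine lt_of_le_of_lt (iSup_le fun s => ?_) (WithBot.coe_lt_coe.2 (ENat.natCast_lt_top (hi - lo).toNat))
    have := hlen s
    have := hb s.head
    have := hb s.last
    exact WithBot.coe_le_coe.2 (by exact_mod_cast (show s.length ≤ (hi - lo).toNat by omega))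

theorem catenary_localization {R : Type u} [CommRing R] [IsDomain R]
    (hR : ∀ (p : Ideal R) [p.IsPrime], ValuationRing (Localization.AtPrime p)) (hdim : ringKrullDim R < ⊤)
    (S : Type u) [CommRing S] [Algebra R S] [Algebra.FiniteType R S] (M : Submonoid S)
    (T : Type u) [CommRing T] [Algebra S T] [IsLocalization M T] :
    CAlg.IsCatenary S ∧ ringKrullDim S < ⊤ ∧ CAlg.IsCatenary T ∧ ringKrullDim T < ⊤ := by
  obtain ⟨N, D, hND⟩ := exists_bound (S := S) hdim
  have hS := catenary_of_dimFun (fun P : PrimeSpectrum S => δ R P.asIdeal) (-(D : ℤ)) N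
    (fun P => (hND _ P.2).symm) (fun P Q h => (main hR hdim P.asIdeal Q.asIdeal h).1)
    (fun P Q h => ((main hR hdim P.asIdeal Q.asIdeal h.lt).2).1 h)
  refine ⟨hS.1, hS.2, ?_⟩
  let c := PrimeSpectrum.comap (algebraMap S T)
  have hle : ∀ P Q : PrimeSpectrum T, c P ≤ c Q → P ≤ Q := fun P Q h => by
    show P.asIdeal ≤ Q.asIdeal
    rw [← IsLocalization.map_under M T P.asIdeal, ← IsLocalization.map_under M T Q.asIdeal]
    exact Ideal.map_mono h
  have hlt : ∀ P Q : PrimeSpectrum T, P < Q → c P < c Q := fun P Q h =>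
    lt_of_le_of_ne (Ideal.comap_mono h.le) fun e => h.ne (le_antisymm h.le (hle _ _ e.ge))
  refine catenary_of_dimFun (fun P : PrimeSpectrum T => δ R (c P).asIdeal) (-(D : ℤ)) N
    (fun P => (hND _ (c P).2).symm) (fun P Q h => (main hR hdim (c P).asIdeal (c Q).asIdeal (hlt P Q h)).1)
    (fun P Q h => ((main hR hdim (c P).asIdeal (c Q).asIdeal (hlt P Q h.lt)).2).1
      ⟨hlt P Q h.lt, fun C h1 h2 => ?_⟩)
  obtain ⟨C', rfl⟩ : C ∈ Set.range c := by
    rw [PrimeSpectrum.localization_comap_range T M]
    refine Set.disjoint_left.2 fun m hm hmC => ?_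
    have hQ : (c Q) ∈ Set.range c := ⟨Q, rfl⟩
    rw [PrimeSpectrum.localization_comap_range T M] at hQ
    exact Set.disjoint_left.1 hQ hm (h2.le hmC)
  exact h.2 (lt_of_le_of_ne (hle _ _ h1.le) fun e => h1.ne (congrArg c e))
    (lt_of_le_of_ne (hle _ _ h2.le) fun e => h2.ne (congrArg c e))

end Groth.L06.PruferDimFun
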