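import Mathlib.AlgebraicGeometry.AffineScheme
import Mathlib.AlgebraicGeometry.Noetherian
import Mathlib.AlgebraicGeometry.Stalk
import Mathlib.Topology.JacobsonSpace
import Mathlib.RingTheory.Ideal.KrullsHeightTheorem
import Mathlib.RingTheory.Ideal.MinimalPrime.Noetherian

/-! Complements of closed sets meeting every closed set are Jacobson (EGA IV 10.5). -/

set_option autoImplicit false
set_option maxSynthPendingDepth 3
set_option linter.all false
noncomputable section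
universe u
open CategoryTheory AlgebraicGeometry TopologicalSpace

namespace Groth.L06.PuncturedJacobson

theorem no_isolated_generic {B : Type u} [CommRing B] [IsDomain B] [IsNoetherianRing B] (P m : Ideal B)
    [P.IsPrime] [m.IsPrime] (h0 : P ≠ ⊥) (hlt : P < m) (g : B) (hg : g ≠ 0)
    (h : ∀ Q : Ideal B, Q.IsPrime → Q ≠ ⊥ → g ∈ Q) : False := by
  classical
  have hfin := Ideal.finite_minimalPrimes_of_isNoetherianRing B (Ideal.span {g})
  have hle1 : ∀ Q ∈ (Ideal.span {g}).minimalPrimes, Q.height ≤ 1 := fun Q hQ =>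
    Ideal.height_le_one_of_isPrincipal_of_mem_minimalPrimes (Ideal.span {g}) Q hQ
  have hm : (1 : ℕ∞) < m.height := by
    have h1 : P.height < m.height := Ideal.height_strict_mono_of_isPrime_of_isPrime hlt
    refine lt_of_le_of_lt (Order.one_le_iff_pos.2 (pos_iff_ne_zero.2 fun h2 => h0 ?_)) h1
    rwa [Ideal.height_eq_zero_iff, IsDomain.minimalPrimes_eq_singleton_bot, Set.mem_singleton_iff] at h2
  have hne : ¬ (m : Set B) ⊆ ⋃ Q ∈ (Ideal.span {g}).minimalPrimes, (Q : Set B) := fun hsub => by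
    obtain ⟨Q, hQ, hmQ⟩ := (Ideal.subset_union_prime_finite hfin ⊤ ⊤ fun Q hQ _ _ => hQ.1.1).1 hsub
    exact absurd ((Ideal.height_mono hmQ).trans (hle1 Q hQ)) (not_le.2 hm)
  obtain ⟨x, hxm, hx⟩ := Set.not_subset.1 hne
  simp only [Set.mem_iUnion, not_exists, SetLike.mem_coe] at hx
  obtain ⟨Q, hQ, -⟩ := Ideal.exists_minimalPrimes_le ((Ideal.span_singleton_le_iff_mem m).2 hxm)
  haveI := hQ.1.1
  have hQ0 : Q ≠ ⊥ := by
    intro hb
    have hx0 : x = 0 := by simpa [hb] using hQ.1.2 (Ideal.mem_span_singleton_self x)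
    obtain ⟨Q', hQ', -⟩ := Ideal.exists_minimalPrimes_le ((Ideal.span_singleton_le_iff_mem m).2 (h m inferInstance (fun e => by rw [e] at hlt; exact not_lt_bot hlt)))
    exact hx Q' hQ' (hx0 ▸ Q'.zero_mem)
  obtain ⟨Q', hQ', hQQ⟩ := Ideal.exists_minimalPrimes_le ((Ideal.span_singleton_le_iff_mem Q).2 (h Q inferInstance hQ0))
  haveI := hQ'.1.1
  by_cases he : Q' = Q
  · exact hx Q' hQ' (he ▸ hQ.1.2 (Ideal.mem_span_singleton_self x))
  · have h3 : Q'.height < Q.height := Ideal.height_strict_mono_of_isPrime_of_isPrime (lt_of_le_of_ne hQQ he)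
    have h4 := ENat.lt_one_iff_eq_zero.1 (h3.trans_le (Ideal.height_le_one_of_isPrincipal_of_mem_minimalPrimes (Ideal.span {x}) Q hQ))
    rw [Ideal.height_eq_zero_iff, IsDomain.minimalPrimes_eq_singleton_bot, Set.mem_singleton_iff] at h4
    exact hg (by simpa [h4] using hQ'.1.2 (Ideal.mem_span_singleton_self g))

theorem main (X : Scheme.{u}) [IsLocallyNoetherian X] (Y : Set X) (hY : IsClosed Y)
    (hmeet : ∀ Z : Set X, IsClosed Z → Z.Nonempty → (Z ∩ Y).Nonempty) :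
    JacobsonSpace ↥(Yᶜ) := by
  rw [jacobsonSpace_iff_locallyClosed]
  intro Z hZne hZ
  obtain ⟨V, F, hV, hF, rfl⟩ := hZ
  obtain ⟨V0, hV0, rfl⟩ := isOpen_induced_iff.1 hV
  obtain ⟨F0, hF0, rfl⟩ := isClosed_induced_iff.1 hF
  obtain ⟨⟨x0, hx0Y⟩, hx0V, hx0F⟩ := hZne
  obtain ⟨W, hW, hx0W, -⟩ := exists_isAffineOpen_mem_and_subset (x := x0) (U := ⊤) trivial
  let R := Γ(X, W)
  haveI : IsNoetherianRing R := IsLocallyNoetherian.component_noetherian ⟨W, hW⟩
  -- a maximal point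
  let S : Set (Ideal R) := {I | ∃ h : I.IsPrime, hW.fromSpec.base (⟨I, h⟩ : PrimeSpectrum R) ∈ V0 ∩ F0 ∩ Yᶜ}
  have hS : S.Nonempty := by
    obtain ⟨P, hP⟩ : x0 ∈ Set.range hW.fromSpec.base := by rw [hW.range_fromSpec]; exact hx0W
    refine ⟨P.asIdeal, P.isPrime, ?_⟩
    rw [show (⟨P.asIdeal, P.isPrime⟩ : PrimeSpectrum R) = P from rfl, hP]
    exact ⟨⟨hx0V, hx0F⟩, hx0Y⟩
  obtain ⟨I, ⟨hI, hIx⟩, hmax⟩ := set_has_maximal_iff_noetherian.2 (inferInstance : IsNoetherian R R) S hS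
  let x := hW.fromSpec.base (⟨I, hI⟩ : PrimeSpectrum R)
  have hxW : x ∈ (W : Set X) := by rw [← hW.range_fromSpec]; exact ⟨_, rfl⟩
  -- isolated in its closure
  let O : Set X := V0 ∩ (W : Set X) ∩ Yᶜ
  have hO : IsOpen O := (hV0.inter W.2).inter hY.isOpen_compl
  have hiso : ∀ w ∈ O, x ⤳ w → w = x := by
    rintro w ⟨⟨hwV, hwW⟩, hwY⟩ hxw
    obtain ⟨⟨J, hJ⟩, rfl⟩ : w ∈ Set.range hW.fromSpec.base := by rw [hW.range_fromSpec]; exact hwW
    have hle : I ≤ J := (PrimeSpectrum.le_iff_specializes (⟨I, hI⟩ : PrimeSpectrum R) ⟨J, hJ⟩).2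
      (hW.fromSpec.isOpenEmbedding.isEmbedding.isInducing.specializes_iff.1 hxw)
    have hJS : J ∈ S := ⟨hJ, ⟨hwV, hxw.mem_closed hF0 hIx.1.2⟩, hwY⟩
    rcases hle.lt_or_eq with h | h
    · exact absurd h (hmax J hJS)
    · subst h; rfl
  refine ⟨⟨x, hIx.2⟩, ⟨hIx.1.1, hIx.1.2⟩, ?_⟩
  rw [mem_closedPoints_iff, ← closure_subset_iff_isClosed]
  intro w hw
  rw [closure_subtype, Set.image_singleton] at hw
  by_contra hne
  have hne' : w.1 ≠ x := fun h => hne (Subtype.ext h)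
  -- `w` specializes to a point of `Y`
  obtain ⟨y, hyw, hyY⟩ := hmeet (closure {w.1}) isClosed_closure ⟨_, subset_closure rfl⟩
  have hwy : w.1 ⤳ y := specializes_iff_mem_closure.2 hyw
  have hxw : x ⤳ w.1 := specializes_iff_mem_closure.2 hw
  let A := X.presheaf.stalk y
  let φ := (X.fromSpecStalk y).base
  obtain ⟨Pw, hPw⟩ : w.1 ∈ Set.range φ := by rw [Scheme.range_fromSpecStalk]; exact hwy
  obtain ⟨Px, hPx⟩ : x ∈ Set.range φ := by rw [Scheme.range_fromSpecStalk]; exact hxw.trans hwy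
  have hspec : ∀ P Q : PrimeSpectrum A, φ P ⤳ φ Q ↔ P.asIdeal ≤ Q.asIdeal := fun P Q =>
    ((X.fromSpecStalk y).isEmbedding.isInducing.specializes_iff).trans (PrimeSpectrum.le_iff_specializes P Q).symm
  have hxy : Px.asIdeal ≤ Pw.asIdeal := (hspec _ _).1 (by rw [hPx, hPw]; exact hxw)
  have hxy' : Px.asIdeal ≠ Pw.asIdeal := fun h => hne' (by rw [← hPw, ← hPx, PrimeSpectrum.ext h])
  have hclosed : φ (IsLocalRing.closedPoint A) = y := Scheme.fromSpecStalk_closedPoint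
  have hwm : Pw.asIdeal < IsLocalRing.maximalIdeal A := by
    refine lt_of_le_of_ne (IsLocalRing.le_maximalIdeal Pw.isPrime.ne_top) fun h => ?_
    have e : Pw = IsLocalRing.closedPoint A := PrimeSpectrum.ext h
    rw [e, hclosed] at hPw
    exact w.2 (hPw ▸ hyY)
  -- an element isolating the generic point
  have hpre : IsOpen (φ ⁻¹' O) := hO.preimage (X.fromSpecStalk y).continuous
  obtain ⟨_, ⟨g, rfl⟩, hgx, hgsub⟩ := PrimeSpectrum.isTopologicalBasis_basic_opens.exists_subset_of_mem_open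
    (show Px ∈ φ ⁻¹' O from by
      show φ Px ∈ O
      rw [hPx]; exact ⟨⟨hIx.1.1, hxW⟩, hIx.2⟩) hpre
  haveI : IsNoetherianRing A := inferInstance
  haveI := Px.isPrime
  let q := Ideal.Quotient.mk Px.asIdeal
  have hker : ∀ {P : Ideal A}, Px.asIdeal ≤ P → RingHom.ker q ≤ P := fun h => by rw [Ideal.mk_ker]; exact h
  haveI := Pw.isPrime
  haveI := Ideal.map_isPrime_of_surjective (f := q) Ideal.Quotient.mk_surjective (hker hxy)
  haveI := Ideal.map_isPrime_of_surjective (f := q) Ideal.Quotient.mk_surjective (hker (hxy.trans hwm.le))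
  refine no_isolated_generic (Pw.asIdeal.map q) ((IsLocalRing.maximalIdeal A).map q) (fun h => hxy' ?_) ?_ (q g) ?_ ?_
  · refine le_antisymm hxy fun z hz => Ideal.Quotient.eq_zero_iff_mem.1 ?_
    have := Ideal.mem_map_of_mem q hz
    rwa [h, Ideal.mem_bot] at this
  · refine lt_of_le_of_ne (Ideal.map_mono hwm.le) fun h => hwm.ne ?_
    have e := congrArg (Ideal.comap q) h
    rwa [Ideal.comap_map_quotientMk, Ideal.comap_map_quotientMk, sup_eq_right.2 hxy, sup_eq_right.2 (hxy.trans hwm.le)] at e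
  · exact fun h => hgx (Ideal.Quotient.eq_zero_iff_mem.1 h)
  · intro Q hQ hQ0
    by_contra hgQ
    let Q' : PrimeSpectrum A := ⟨Q.comap q, hQ.comap q⟩
    have hQ' : Px.asIdeal ≤ Q'.asIdeal := le_trans Ideal.mk_ker.ge (Ideal.ker_le_comap q)
    have h1 : φ Q' ∈ O := hgsub (show g ∉ Q'.asIdeal from hgQ)
    have h2 : φ Q' = x := hiso _ h1 (by rw [← hPx]; exact (hspec _ _).2 hQ')
    have h3 : Q' = Px := (X.fromSpecStalk y).isEmbedding.injective (h2.trans hPx.symm)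
    apply hQ0
    rw [eq_bot_iff]
    intro z hz
    obtain ⟨z, rfl⟩ := Ideal.Quotient.mk_surjective z
    exact Ideal.Quotient.eq_zero_iff_mem.2 (h3 ▸ (show z ∈ Q'.asIdeal from hz) : z ∈ Px.asIdeal)

end Groth.L06.PuncturedJacobson
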