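import Groth.Agent.L20.RG.PureProj
import Groth.Agent.L02.SchDom.EssFree
import Groth.Prelude.Def_FlatFun

/-!
# Closed loci attached to pure flat modules
-/

set_option autoImplicit false
set_option maxSynthPendingDepth 3
set_option linter.style.haveILetI false
set_option backward.isDefEq.respectTransparency.types false
set_option backward.isDefEq.respectTransparency false

universe u

open CategoryTheory CategoryTheory.Limits AlgebraicGeometry Opposite TopologicalSpace TensorProduct

noncomputable section

namespace Groth.L06.PureLocus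

/-- The locus where a surjection out of a projective module becomes bijective is closed. -/
theorem exists_ideal_bijective {A B : Type u} [CommRing A] [CommRing B] [Algebra A B] (N : Type u) [AddCommGroup N]
    [Module B N] [Module A N] [IsScalarTower A B N] [Module.Finite B N] [Module.Projective A N]
    (N' : Type u) [AddCommGroup N'] [Module B N'] [Module A N'] [IsScalarTower A B N'] (u : N →ₗ[B] N')
    (hu : Function.Surjective u) :
    ∃ I : Ideal A, (∀ (A' : Type u) [CommRing A'] [Algebra A A'],
        Function.Bijective ((u.restrictScalars A).baseChange A') ↔ I.map (algebraMap A A') = ⊥) ∧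
      (Module.FinitePresentation B N' → I.FG) := by
  classical
  obtain ⟨s, hspan, hfin⟩ : ∃ s : Set N, Submodule.span B s = LinearMap.ker u ∧
      (Module.FinitePresentation B N' → s.Finite) := by
    by_cases hFP : Module.FinitePresentation B N'
    · obtain ⟨G, hG⟩ := Module.FinitePresentation.fg_ker u hu
      exact ⟨G, hG, fun _ => G.finite_toSet⟩
    · exact ⟨_, Submodule.span_eq _, fun h => absurd h hFP⟩
  refine ⟨Groth.L13.FixedLocus.coeffIdeal A s, fun A' _ _ => ?_,
    fun h => Groth.L02.SchDom.coeffIdeal_fg (hfin h)⟩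
  rw [Ideal.map_eq_bot_iff_le_ker, ← Groth.L13.FixedLocus.tmul_eq_zero_iff A s A']
  let v := u.restrictScalars A
  have hsurj : Function.Surjective (v.baseChange A') := LinearMap.lTensor_surjective A' hu
  constructor
  · intro hb n hn
    apply hb.1
    rw [map_zero, LinearMap.baseChange_tmul]
    show (1 : A') ⊗ₜ[A] u n = 0
    rw [LinearMap.mem_ker.1 (hspan.le (Submodule.subset_span hn)), tmul_zero]
  · intro h
    refine ⟨?_, hsurj⟩
    have hz : ∀ k ∈ LinearMap.ker v, (1 : A') ⊗ₜ[A] k = 0 := fun k hk => by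
      have hk' : k ∈ Submodule.span B s := hspan.ge hk
      clear hk
      induction hk' using Submodule.span_induction with
      | mem x hx => exact h x hx
      | zero => exact tmul_zero _ _
      | add x y _ _ hx hy => rw [tmul_add, hx, hy, add_zero]
      | smul b x _ hx =>
        have := congrArg ((Algebra.lsmul A A N b).lTensor A') hx
        rwa [LinearMap.lTensor_tmul, map_zero, Algebra.lsmul_coe] at this
    rw [injective_iff_map_eq_zero]
    intro z hz0
    obtain ⟨w, rfl⟩ := ((lTensor_exact A' v.exact_subtype_ker_map hu) z).1 hz0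
    clear hz0
    induction w with
    | zero => exact map_zero _
    | tmul a k =>
      rw [LinearMap.lTensor_tmul, ← mul_one a, ← smul_eq_mul, ← TensorProduct.smul_tmul',
        Submodule.subtype_apply, hz _ k.2, smul_zero]
    | add x y hx hy => rw [map_add, hx, hy, add_zero]

/-- Projectivity along compatible ring isomorphisms. -/
theorem projective_transfer {R R' M M' : Type u} [CommRing R] [CommRing R'] [CommRing M] [CommRing M'] (i : R →+* M)
    (i' : R' →+* M') (eR : R ≃+* R') (eM : M ≃+* M') (h : ∀ r, eM (i r) = i' (eR r))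
    (hp : letI := i.toAlgebra; Module.Projective R M) : letI := i'.toAlgebra; Module.Projective R' M' := by
  letI := i.toAlgebra
  letI := i'.toAlgebra
  haveI := hp
  haveI := RingHomInvPair.of_ringEquiv eR
  haveI := RingHomInvPair.of_ringEquiv eR.symm
  exact Module.Projective.of_equiv
    ({ eM.toAddEquiv with
        map_smul' := fun r m => by
          show eM (i r * m) = i' (eR r) * eM m
          rw [map_mul, h] } : M ≃ₛₗ[(eR : R →+* R')] M')

theorem isEssentiallyFree_spec {A B : Type u} [CommRing A] [CommRing B] [Algebra A B] [Module.Projective A B] :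
    SGA3x.IsEssentiallyFree (Spec.map (CommRingCat.ofHom (algebraMap A B))) := by
  intro s
  let φ := CommRingCat.ofHom (algebraMap A B)
  let g : Spec (CommRingCat.of A) ⟶ ((⊤ : (Spec (CommRingCat.of A)).Opens) : Scheme.{u}) :=
    (Scheme.topIso _).inv
  refine ⟨⊤, Opens.mem_top _, isAffineOpen_top _, Spec (CommRingCat.of A), inferInstance, g, inferInstance,
    inferInstance, fun x => ?_⟩
  let pr := pullback.snd (Spec.map φ) (g ≫ (⊤ : (Spec (CommRingCat.of A)).Opens).ι)
  let fs := pullback.fst (Spec.map φ) (g ≫ (⊤ : (Spec (CommRingCat.of A)).Opens).ι)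
  have hg : g ≫ (⊤ : (Spec (CommRingCat.of A)).Opens).ι = 𝟙 _ := Scheme.topIso _ |>.inv_hom_id
  haveI : IsIso (g ≫ (⊤ : (Spec (CommRingCat.of A)).Opens).ι) := by rw [hg]; infer_instance
  haveI : IsIso fs := inferInstance
  have hfs : pr = fs ≫ Spec.map φ := by
    have := pullback.condition (f := Spec.map φ) (g := g ≫ (⊤ : (Spec (CommRingCat.of A)).Opens).ι)
    exact (this.trans ((congrArg (pr ≫ ·) hg).trans (Category.comp_id _))).symm
  haveI : IsAffine (pullback (Spec.map φ) (g ≫ (⊤ : (Spec (CommRingCat.of A)).Opens).ι)) :=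
    IsAffine.of_isIso fs
  refine ⟨⊤, Opens.mem_top _, isAffineOpen_top _, ?_⟩
  haveI : IsIso (⊤ : (pullback (Spec.map φ) (g ≫ (⊤ : (Spec (CommRingCat.of A)).Opens).ι)).Opens).ι :=
    inferInstanceAs (IsIso (Scheme.topIso _).hom)
  let eA := (Scheme.ΓSpecIso (CommRingCat.of A)).commRingCatIsoToRingEquiv
  let j : Γ(Spec (CommRingCat.of B), ⊤) ≅ Γ((⊤ : (pullback (Spec.map φ) (g ≫ (⊤ : (Spec (CommRingCat.of A)).Opens).ι)).Opens).toScheme, ⊤) :=
    asIso (((⊤ : (pullback (Spec.map φ) (g ≫ (⊤ : (Spec (CommRingCat.of A)).Opens).ι)).Opens).ι ≫ fs).appTop)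
  refine projective_transfer (algebraMap A B) _ eA.symm
    ((Scheme.ΓSpecIso (CommRingCat.of B)).symm ≪≫ j).commRingCatIsoToRingEquiv (fun r => ?_)
    (by rw [show (algebraMap A B).toAlgebra = (inferInstance : Algebra A B) from Algebra.algebra_ext _ _ fun _ => rfl];
        infer_instance)
  show ((φ ≫ (Scheme.ΓSpecIso (CommRingCat.of B)).inv) ≫ j.hom) r =
    ((Scheme.ΓSpecIso (CommRingCat.of A)).inv ≫ Scheme.Hom.appTop (_ ≫ pr)) r
  rw [hfs, ← Category.assoc _ fs, Scheme.Hom.comp_appTop _ (Spec.map φ), ← Category.assoc,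
    ← Scheme.ΓSpecIso_inv_naturality]
  rfl

/-- Weil restriction of a closed subscheme of a scheme with projective coordinate ring. -/
theorem weilRestriction {A B : Type u} [CommRing A] [CommRing B] [Algebra A B] [Module.Projective A B]
    {Y : Scheme.{u}} (i : Y ⟶ Spec (CommRingCat.of B)) [IsClosedImmersion i] :
    ∃ Z : Over (Spec (CommRingCat.of A)), IsClosedImmersion Z.hom ∧
      Nonempty ((FlatFun.genPSp (Spec (CommRingCat.of A)) (fun T =>
        IsIso (pullback.snd i (pullback.fst (Spec.map (CommRingCat.ofHom (algebraMap A B))) T.hom)))).RepresentableBy Z) ∧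
      (LocallyOfFinitePresentation i → LocallyOfFinitePresentation Z.hom) := by
  let f := Spec.map (CommRingCat.ofHom (algebraMap A B))
  obtain ⟨Z, t, ht, hfp, hZ⟩ := Groth.L02.SchDom.exists_weilLocus_free (f := f) (j := i) isEssentiallyFree_spec
  haveI := ht
  let P : Over (Spec (CommRingCat.of A)) → Prop := fun T => IsIso (pullback.snd i (pullback.fst f T.hom))
  have hP : ∀ T : Over (Spec (CommRingCat.of A)), P T ↔ Nonempty (T ⟶ Over.mk t) := fun T => by
    refine Iff.trans ?_ (Iff.trans (hZ T.left T.hom).symm ⟨fun ⟨g', hg'⟩ => ⟨Over.homMk g' hg'⟩, fun ⟨k⟩ => ⟨k.left, Over.w k⟩⟩)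
    constructor
    · intro h
      haveI : IsIso (pullback.snd i (pullback.fst f T.hom)) := h
      exact ⟨inv (pullback.snd i (pullback.fst f T.hom)) ≫ pullback.fst _ _, by
        rw [Category.assoc, pullback.condition, IsIso.inv_hom_id_assoc, Category.comp_id]⟩
    · rintro ⟨l, hl⟩
      rw [Category.comp_id] at hl
      haveI : IsSplitEpi (pullback.snd i (pullback.fst f T.hom)) :=
        ⟨⟨⟨pullback.lift l (𝟙 _) (by rw [hl, Category.id_comp]), pullback.lift_snd _ _ _⟩⟩⟩
      exact isIso_of_mono_of_isSplitEpi _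
  haveI : ∀ T : Over (Spec (CommRingCat.of A)), Subsingleton (T ⟶ Over.mk t) := fun T =>
    ⟨fun a b => Over.OverMorphism.ext ((cancel_mono t).1 ((Over.w a).trans (Over.w b).symm))⟩
  have hstab : ∀ ⦃T T₀ : Over (Spec (CommRingCat.of A))⦄ (_ : T ⟶ T₀), P T₀ → P T := fun T T₀ k h =>
    (hP T).2 ((hP T₀).1 h |>.map fun l => k ≫ l)
  refine ⟨Over.mk t, ht, ⟨
    { homEquiv := fun {T} =>
        { toFun := fun k => Classical.choice (FlatFun.genPSp_nonempty_of P ((hP T).2 ⟨k⟩))
          invFun := fun x => Classical.choice ((hP T).1 ((FlatFun.genPSp_nonempty_iff_of_stable P hstab T).1 ⟨x⟩))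
          left_inv := fun _ => Subsingleton.elim _ _
          right_inv := fun _ => Subsingleton.elim (α := (FlatFun.genPSp _ P).obj (op T)) _ _ }
      homEquiv_comp := fun {T T'} k l => Subsingleton.elim (α := (FlatFun.genPSp _ P).obj (op T)) _ _ }⟩,
    fun h => hfp ⟨inferInstance, h⟩⟩

end Groth.L06.PureLocus
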