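import Groth.Prelude.Def_QCohCat
import Groth.Agent.L17.QCohGab.FPObj
import Groth.Agent.L17.SerreCriterion
import Groth.Agent.L16.QcqsPush
import Mathlib.Algebra.Category.ModuleCat.Limits
import Mathlib.RingTheory.Nakayama
import Mathlib.LinearAlgebra.Basis.VectorSpace

/-!
A quasi-compact quasi-separated scheme whose quasi-coherent modules form a module category is affine.
-/

set_option autoImplicit false
set_option linter.style.haveILetI false
set_option backward.isDefEq.respectTransparency false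
universe u

open CategoryTheory CategoryTheory.Limits AlgebraicGeometry TopologicalSpace Opposite
open Groth.L18.Frame (rs ro rs_rs rs_smul)

noncomputable section

namespace Groth.L06.QCohAff

variable {X : Scheme.{u}}

theorem rs_zero (M : X.Modules) {U V : X.Opens} (h : V ≤ U) : rs M h 0 = 0 := map_zero _

/-- A morphism out of the structure module is determined by the image of `1`. -/
theorem app_eq_smul {M : X.Modules} (g : Coh.structureModule X ⟶ M) (V : X.Opens) (a : Γ(X, V)) :
    g.app V a = a • rs M (le_top : V ≤ ⊤) (g.app ⊤ (1 : Γ(X, ⊤))) := by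
  have h1 : rs M (le_top : V ≤ ⊤) (g.app ⊤ (1 : Γ(X, ⊤))) = g.app V (1 : Γ(X, V)) := by
    have := congr($(g.mapPresheaf.naturality (homOfLE (le_top : V ≤ ⊤)).op) (1 : Γ(X, ⊤)))
    refine this.symm.trans ?_
    exact congrArg (g.app V) (map_one (X.presheaf.map (homOfLE (le_top : V ≤ ⊤)).op).hom)
  rw [h1]
  refine Eq.trans ?_ (g.app_smul a (1 : Γ(X, V)))
  exact congrArg (g.app V) (mul_one a).symm

/-- The morphism given by a global section. -/
theorem exists_ofSection {M : X.Modules} (s : Γ(M, ⊤)) :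
    ∃ g : Coh.structureModule X ⟶ M, g.app ⊤ (1 : Γ(X, ⊤)) = s := by
  refine ⟨(SheafOfModules.unitHomEquiv M).symm
    ⟨fun V => rs M (le_top : V.unop ≤ ⊤) s, fun {V W} h => rs_rs M _ h.unop.le s⟩, ?_⟩
  have := SheafOfModules.unitHomEquiv_apply_coe M ((SheafOfModules.unitHomEquiv M).symm
    ⟨fun V => rs M (le_top : V.unop ≤ ⊤) s, fun {V W} h => rs_rs M _ h.unop.le s⟩) (op ⊤)
  rw [Equiv.apply_symm_apply] at this
  exact this.symm.trans (Groth.L18.Frame.rs_self M _ s)

/-- A quasi-coherent module without sections on an affine open has none below it. -/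
theorem eq_zero_of_le (M : X.Modules) [Coh.IsQCoh M] {U : X.Opens} (hU : IsAffineOpen U)
    (h : ∀ t : Γ(M, U), t = 0) (V : X.Opens) (hV : V ≤ U) (t : Γ(M, V)) : t = 0 := by
  have key : ∀ x : V, ∃ a : Γ(X, U), (x : X) ∈ X.basicOpen a ∧ X.basicOpen a ≤ V := fun x => by
    obtain ⟨a, ha, hxa⟩ := hU.exists_basicOpen_le (V := V) x (hV x.2)
    exact ⟨a, hxa, ha⟩
  choose a hxa ha using key
  refine TopCat.Sheaf.eq_of_locally_eq' (⟨M.presheaf, M.isSheaf⟩ : TopCat.Sheaf Ab X.toTopCat)
    (fun x : V => X.basicOpen (a x)) V (fun x => homOfLE (ha x))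
    (fun x hx => Opens.mem_iSup.2 ⟨⟨x, hx⟩, hxa ⟨x, hx⟩⟩) _ _ fun x => ?_
  show rs M (ha x) t = rs M (ha x) 0
  obtain ⟨n, t', ht'⟩ := Groth.L16.QCohSect.exists_pow_smul_eq_res hU M (a x) (rs M (ha x) t)
  rw [h t', rs_zero] at ht'
  rw [rs_zero]
  have hu : IsUnit (ro (X.basicOpen_le (a x)) (a x ^ n)) := by
    rw [Groth.L18.Frame.ro, map_pow]
    exact (X.toRingedSpace.isUnit_res_basicOpen (a x)).pow n
  exact hu.smul_eq_zero.1 ht'.symm

section Equiv

variable {R : Type u} [CommRing R] (e : QCohCat.QCoh X ≌ ModuleCat.{u} R)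

/-- The natural endomorphism of a quasi-coherent module given by a scalar. -/
def η (r : R) (F : QCohCat.QCoh X) : F ⟶ F := e.functor.preimage (r • 𝟙 (e.functor.obj F))

theorem η_naturality (r : R) {F G : QCohCat.QCoh X} (g : F ⟶ G) : g ≫ η e r G = η e r F ≫ g :=
  e.functor.map_injective (by simp [η])

/-- The structure module as an object. -/
def O (X : Scheme.{u}) : QCohCat.QCoh X :=
  ⟨Coh.structureModule X, Groth.L19.Conormal.isQCoh_structureModule X⟩

/-- The function attached to a scalar. -/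
def φ (r : R) : Γ(X, ⊤) := (η e r (O X)).hom.app ⊤ (1 : Γ(X, ⊤))

theorem app_top_η (r : R) (F : QCohCat.QCoh X) (s : Γ(F.obj, ⊤)) :
    (η e r F).hom.app ⊤ s = φ e r • s := by
  obtain ⟨g, rfl⟩ := exists_ofSection s
  have h := congrArg (fun k : O X ⟶ F => k.hom.app ⊤ (1 : Γ(X, ⊤)))
    (η_naturality e r (ObjectProperty.homMk g : O X ⟶ F))
  refine h.trans ?_
  show g.app ⊤ (φ e r) = _
  rw [app_eq_smul g ⊤ (φ e r), Groth.L18.Frame.rs_self]

theorem φ_one : φ e 1 = 1 := by
  have : η e 1 (O X) = 𝟙 (O X) := e.functor.map_injective (by simp [η])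
  rw [φ, this]
  rfl

theorem φ_mul (a b : R) : φ e (a * b) = φ e a * φ e b := by
  have : η e (a * b) (O X) = η e b (O X) ≫ η e a (O X) :=
    e.functor.map_injective (by
      rw [Functor.map_comp, η, η, η, Functor.map_preimage, Functor.map_preimage, Functor.map_preimage]
      ext m
      show (a * b) • m = a • (b • m)
      exact mul_smul a b m)
  rw [φ, this]
  exact app_top_η e a (O X) (φ e b)

theorem φ_add (a b : R) : φ e (a + b) = φ e a + φ e b := by
  haveI : e.functor.Additive := Functor.additive_of_preserves_binary_products _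
  have : η e (a + b) (O X) = η e a (O X) + η e b (O X) :=
    e.functor.map_injective (by simp [η, add_smul])
  rw [φ, this]
  rfl

theorem φ_zero : φ e 0 = 0 := by
  haveI : e.functor.Additive := Functor.additive_of_preserves_binary_products _
  have : η e 0 (O X) = 0 := e.functor.map_injective (by simp [η])
  rw [φ, this]
  rfl

/-- The ring map to functions. -/
def φHom : R →+* Γ(X, ⊤) where
  toFun := φ e
  map_one' := φ_one e
  map_mul' := φ_mul e
  map_zero' := φ_zero e
  map_add' := φ_add e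

/-- A scalar killing the module kills the object. -/
theorem η_eq_zero (r : R) (F : QCohCat.QCoh X) (h : ∀ m : e.functor.obj F, r • m = 0) : η e r F = 0 := by
  haveI : e.functor.Additive := Functor.additive_of_preserves_binary_products _
  refine e.functor.map_injective ?_
  rw [η, Functor.map_preimage, Functor.map_zero]
  ext m
  exact h m

theorem subsingleton_of_eq_zero (F : QCohCat.QCoh X) (h : ∀ (V : X.Opens) (t : Γ(F.obj, V)), t = 0) :
    Subsingleton (e.functor.obj F) := by
  haveI : e.functor.Additive := Functor.additive_of_preserves_binary_products _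
  have h0 : 𝟙 F = 0 := ObjectProperty.hom_ext _ (Scheme.Modules.hom_ext _ _ fun V => by
    ext t
    exact (h V t).trans (h V _).symm)
  have h1 : 𝟙 (e.functor.obj F) = 0 := by rw [← e.functor.map_id, h0, Functor.map_zero]
  refine subsingleton_of_forall_eq 0 fun m => ?_
  exact congr($(h1).hom m)

/-- Scalars with a covering family of affine basic opens generate the unit ideal. -/
theorem span_eq_top [CompactSpace X] [QuasiSeparatedSpace X] (G : Set R)
    (hG : ∀ r ∈ G, IsAffineOpen (X.basicOpen (φ e r))) (hcov : ∀ x : X, ∃ r ∈ G, x ∈ X.basicOpen (φ e r)) :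
    Ideal.span G = ⊤ := by
  by_contra hne
  obtain ⟨m, hm, hGm⟩ := Ideal.exists_le_maximal _ hne
  let S : QCohCat.QCoh X := e.inverse.obj (ModuleCat.of R (R ⧸ m))
  let i : e.functor.obj S ≅ ModuleCat.of R (R ⧸ m) := e.counitIso.app _
  haveI : Coh.IsQCoh S.obj := S.property
  have hkill : ∀ r ∈ G, η e r S = 0 := fun r hr => η_eq_zero e r S fun v => by
    apply i.toLinearEquiv.injective
    rw [map_smul, map_zero]
    obtain ⟨q, hq⟩ := Ideal.Quotient.mk_surjective (i.toLinearEquiv v)
    rw [← hq]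
    show r • Ideal.Quotient.mk m q = 0
    rw [Algebra.smul_def, Ideal.Quotient.algebraMap_eq, ← map_mul, Ideal.Quotient.eq_zero_iff_mem]
    exact m.mul_mem_right _ (hGm (Ideal.subset_span hr))
  have hz : ∀ r ∈ G, ∀ t : Γ(S.obj, X.basicOpen (φ e r)), t = 0 := fun r hr t => by
    obtain ⟨n, s, hs⟩ := Groth.L16.QcqsPush.exists_pow_smul_eq_res S.obj isCompact_univ
      (isQuasiSeparated_univ) (U := ⊤) (φ e r) t
    have h1 : φ e r • s = 0 := by
      rw [← app_top_η e r S s, hkill r hr]
      rfl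
    have h2 := congrArg (rs S.obj (X.basicOpen_le (φ e r))) h1
    rw [rs_smul, hs, rs_zero, smul_smul] at h2
    simp only [Groth.L18.Frame.ro, map_pow, ← pow_succ'] at h2
    have hu : IsUnit (ro (X.basicOpen_le (φ e r)) (φ e r) ^ (n + 1)) :=
      (X.toRingedSpace.isUnit_res_basicOpen (φ e r)).pow (n + 1)
    exact hu.smul_eq_zero.1 h2
  have hzero : ∀ (V : X.Opens) (t : Γ(S.obj, V)), t = 0 := fun V t => by
    choose r hrG hxr using hcov
    refine TopCat.Sheaf.eq_of_locally_eq' (⟨S.obj.presheaf, S.obj.isSheaf⟩ : TopCat.Sheaf Ab X.toTopCat)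
      (fun x : V => V ⊓ X.basicOpen (φ e (r x))) V (fun x => homOfLE inf_le_left)
      (fun x hx => Opens.mem_iSup.2 ⟨⟨x, hx⟩, hx, hxr x⟩) _ _ fun x => ?_
    exact (eq_zero_of_le S.obj (hG _ (hrG x)) (hz _ (hrG x)) _ inf_le_right _).trans
      (eq_zero_of_le S.obj (hG _ (hrG x)) (hz _ (hrG x)) _ inf_le_right _).symm
  haveI := subsingleton_of_eq_zero e S hzero
  haveI : Subsingleton (R ⧸ m) := i.toLinearEquiv.symm.injective.subsingleton
  exact hm.ne_top (Ideal.Quotient.subsingleton_iff.1 this)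

theorem finite_O [CompactSpace X] [QuasiSeparatedSpace X] : Module.Finite R (e.functor.obj (O X)) := by
  classical
  let M := e.functor.obj (O X)
  let ι := {N : Submodule R M // N.FG}
  haveI : IsDirectedOrder ι := ⟨fun a b => ⟨⟨a.1 ⊔ b.1, a.2.sup b.2⟩, le_sup_left, le_sup_right⟩⟩
  haveI : Nonempty ι := ⟨⟨⊥, Submodule.fg_bot⟩⟩
  let G : ι → Type u := fun a => ↥a.1
  let f : ∀ a b : ι, a ≤ b → G a →ₗ[R] G b := fun a b h => Submodule.inclusion h
  haveI : DirectedSystem G fun a b h => f a b h := ⟨fun _ _ => rfl, fun _ _ _ _ _ _ => rfl⟩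
  let L := Module.DirectLimit.lift R ι G f (fun a => a.1.subtype) fun _ _ _ _ => rfl
  have hL : Function.Bijective L := by
    refine ⟨Module.DirectLimit.lift_injective _ _ fun a => Subtype.val_injective, fun m => ?_⟩
    exact ⟨Module.DirectLimit.of R ι G f ⟨Submodule.span R {m}, Submodule.fg_span_singleton m⟩
      ⟨m, Submodule.mem_span_singleton_self m⟩, Module.DirectLimit.lift_of _ _ _⟩
  haveI : IsFinitelyPresentable.{u} (O X) :=
    Groth.L17.QCohGab.isFinitelyPresentable_of_isFP X (O X) (Groth.L19.FPExtend.isFP_structureModule X)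
  let c := ModuleCat.directLimitCocone (R := R) G f
  have hc := ModuleCat.directLimitIsColimit (R := R) G f
  let E : c.pt ≅ M := (LinearEquiv.ofBijective L hL).toModuleIso
  obtain ⟨a, p, hp⟩ := IsFinitelyPresentable.exists_hom_of_isColimit (isColimitOfPreserves e.inverse hc)
    (e.unit.app (O X) ≫ e.inverse.map E.inv)
  refine ⟨?_⟩
  suffices h : (⊤ : Submodule R M) ≤ a.1 from top_le_iff.1 h ▸ a.2
  intro m _
  have hp' : e.functor.map p ≫ e.counit.app _ ≫ c.ι.app a = E.inv := by
    have h := congrArg (fun k => e.functor.map k ≫ e.counit.app _) hp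
    simpa [c] using h
  have h2 := congr(($(hp') ≫ E.hom).hom m)
  simp only [Category.assoc, Iso.inv_hom_id] at h2
  rw [show m = _ from h2.symm]
  have key : ∀ v : G a, E.hom.hom ((c.ι.app a).hom v) ∈ a.1 := fun v => by
    show L (Module.DirectLimit.of R ι G f a v) ∈ a.1
    rw [Module.DirectLimit.lift_of]
    exact v.2
  exact key _

theorem exists_surjective_quotient {M : Type u} [AddCommGroup M] [Module R M] [Module.Finite R M] (q : Ideal R)
    [q.IsMaximal] (h : Module.annihilator R M ≤ q) : ∃ l : M →ₗ[R] R ⧸ q, Function.Surjective l := by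
  classical
  letI := Ideal.Quotient.field q
  haveI : Nontrivial (M ⧸ (q • ⊤ : Submodule R M)) := by
    refine Submodule.Quotient.nontrivial_iff.2 fun htop => ?_
    obtain ⟨r, hr1, hr⟩ := Submodule.exists_sub_one_mem_and_smul_eq_zero_of_fg_of_le_smul q (⊤ : Submodule R M)
      Module.Finite.fg_top htop.ge
    have hrq : r ∈ q := h (Module.mem_annihilator.2 fun m => hr m trivial)
    exact Ideal.IsMaximal.ne_top ‹_› ((Ideal.eq_top_iff_one q).2 (by simpa using q.sub_mem hrq hr1))
  let b := Module.Basis.ofVectorSpace (R ⧸ q) (M ⧸ (q • ⊤ : Submodule R M))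
  obtain ⟨k⟩ := b.index_nonempty
  refine ⟨((b.coord k).restrictScalars R).comp (Submodule.mkQ _), fun y => ?_⟩
  obtain ⟨v, hv⟩ := Submodule.mkQ_surjective (q • ⊤ : Submodule R M) (y • b k)
  exact ⟨v, by rw [LinearMap.comp_apply, hv]; simp⟩

/-- An epimorphism of `QCoh` is one of modules. -/
theorem epi_hom {F G : QCohCat.QCoh X} (a : F ⟶ G) [Epi a] : Epi a.hom := by
  haveI : Coh.IsQCoh F.obj := F.property
  haveI : Coh.IsQCoh G.obj := G.property
  refine Abelian.epi_of_cokernel_π_eq_zero _ ?_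
  let C : QCohCat.QCoh X := ⟨cokernel a.hom, Groth.L16.Devissage.isQCoh_cokernel a.hom⟩
  have : (ObjectProperty.homMk (cokernel.π a.hom) : G ⟶ C) = ObjectProperty.homMk (0 : G.obj ⟶ C.obj) := by
    rw [← cancel_epi a]
    exact ObjectProperty.hom_ext _ ((cokernel.condition a.hom).trans comp_zero.symm)
  exact congrArg (fun k => k.hom) this

/-- An epimorphism out of a module without sections below an open kills the sections below it. -/
theorem eq_zero_of_epi {M N : X.Modules} (a : M ⟶ N) [Epi a] (W : X.Opens)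
    (h : ∀ V ≤ W, ∀ m : Γ(M, V), m = 0) (V : X.Opens) (hV : V ≤ W) (t : Γ(N, V)) : t = 0 := by
  haveI := (Scheme.Modules.restrictAdjunction W.ι).leftAdjoint_preservesColimits
  have h0 : (Scheme.Modules.restrictFunctor W.ι).map a = 0 := Scheme.Modules.hom_ext _ _ fun V' => by
    ext m
    have hm := h (W.ι ''ᵁ V') ((Scheme.Hom.image_le_opensRange _ _).trans W.opensRange_ι.le) m
    show a.app (W.ι ''ᵁ V') m = 0
    rw [hm, map_zero]
  haveI : Epi ((Scheme.Modules.restrictFunctor W.ι).map a) := inferInstance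
  have hz : IsZero ((Scheme.Modules.restrictFunctor W.ι).obj N) := IsZero.of_epi_eq_zero _ h0
  have h1 : 𝟙 ((Scheme.Modules.restrictFunctor W.ι).obj N) = 0 := hz.eq_of_src _ _
  have e1 : W.ι ''ᵁ (W.ι ⁻¹ᵁ V) = V := by
    rw [W.ι.image_preimage_eq_opensRange_inf, W.opensRange_ι, inf_eq_right.2 hV]
  have h2 : rs N e1.le t = 0 := congr($(congrArg (fun k => Scheme.Modules.Hom.app k (W.ι ⁻¹ᵁ V)) h1) (rs N e1.le t))
  have h3 := congrArg (rs N e1.ge) h2
  rwa [rs_rs, Groth.L18.Frame.rs_self, rs_zero] at h3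

/-- The closed subscheme as an object, with the map from the structure module. -/
theorem exists_closed_obj {T : Scheme.{u}} (i : T ⟶ X) [IsClosedImmersion i] :
    ∃ (P : QCohCat.QCoh X) (π : O X ⟶ P), Epi π ∧
      (∀ f : Γ(X, ⊤), π.hom.app ⊤ f = 0 → i.app ⊤ f = 0) ∧
      (∀ V : X.Opens, (∀ z, i z ∉ V) → ∀ m : Γ(P.obj, V), m = 0) := by
  haveI : Coh.IsQCoh (Coh.structureModule T) := Groth.L19.Conormal.isQCoh_structureModule T
  let P : QCohCat.QCoh X := ⟨(Coh.push i).obj (Coh.structureModule T), Groth.L16.QcqsPush.isQCoh_push _ i⟩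
  haveI : Epi (Groth.L17.Serre.toPushUnit i) := by
    refine Groth.L17.Serre.epi_of_locally_surjective _ fun U x hx t => ?_
    obtain ⟨V, hV, hxV, hVU⟩ := exists_isAffineOpen_mem_and_subset (x := x) (U := U) hx
    obtain ⟨s, hs⟩ := i.app_surjective V hV
      (show Γ(T, i ⁻¹ᵁ V) from ((Coh.push i).obj (Coh.structureModule T)).presheaf.map (homOfLE hVU).op t)
    exact ⟨V, hVU, hxV, s, hs⟩
  refine ⟨P, ObjectProperty.homMk (Groth.L17.Serre.toPushUnit i), ?_, fun f hf => hf, fun V hV m => ?_⟩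
  · exact (QCohCat.isQCoh X).ι.epi_of_epi_map (inferInstanceAs (Epi (Groth.L17.Serre.toPushUnit i)))
  · have e0 : i ⁻¹ᵁ V = ⊥ := Opens.ext (Set.eq_empty_of_forall_notMem hV)
    have : Subsingleton Γ(T, i ⁻¹ᵁ V) := by
      rw [e0]; exact CommRingCat.subsingleton_of_isTerminal T.sheaf.isTerminalOfEmpty
    exact @Subsingleton.elim _ this _ _

/-- Closed points have affine basic open neighbourhoods from scalars. -/
theorem exists_scalar [CompactSpace X] [QuasiSeparatedSpace X] (x : X) (hx : IsClosed ({x} : Set X)) :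
    ∃ r : R, IsAffineOpen (X.basicOpen (φ e r)) ∧ x ∈ X.basicOpen (φ e r) := by
  classical
  obtain ⟨U, hU, hxU, -⟩ := exists_isAffineOpen_mem_and_subset (x := x) (U := ⊤) trivial
  let I := Scheme.IdealSheafData.vanishingIdeal (⟨(U : Set X)ᶜ, U.2.isClosed_compl⟩ : Closeds X)
  let J := Scheme.IdealSheafData.vanishingIdeal (⟨{x}, hx⟩ : Closeds X)
  have hI : Set.range I.subschemeι = (U : Set X)ᶜ := by
    rw [Scheme.IdealSheafData.range_subschemeι, Groth.L18.support_vanishingIdeal]; rfl
  have hJ : Set.range J.subschemeι = {x} := by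
    rw [Scheme.IdealSheafData.range_subschemeι, Groth.L18.support_vanishingIdeal]; rfl
  obtain ⟨P, π, hπ, hπ0, hP⟩ := exists_closed_obj I.subschemeι
  obtain ⟨Q, ρ, hρ, hρ0, hQ⟩ := exists_closed_obj J.subschemeι
  haveI := finite_O e
  haveI : Module.Finite R (e.functor.obj P) :=
    Module.Finite.of_surjective (e.functor.map π).hom ((ModuleCat.epi_iff_surjective _).1 inferInstance)
  haveI : Module.Finite R (e.functor.obj Q) :=
    Module.Finite.of_surjective (e.functor.map ρ).hom ((ModuleCat.epi_iff_surjective _).1 inferInstance)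
  have hsum : Module.annihilator R (e.functor.obj P) ⊔ Module.annihilator R (e.functor.obj Q) = ⊤ := by
    by_contra hne
    obtain ⟨q, hq, hle⟩ := Ideal.exists_le_maximal _ hne
    obtain ⟨l₁, hl₁⟩ := exists_surjective_quotient q (le_sup_left.trans hle)
    obtain ⟨l₂, hl₂⟩ := exists_surjective_quotient q (le_sup_right.trans hle)
    let S : QCohCat.QCoh X := e.inverse.obj (ModuleCat.of R (R ⧸ q))
    haveI : Epi (ModuleCat.ofHom l₁) := (ModuleCat.epi_iff_surjective _).2 hl₁
    haveI : Epi (ModuleCat.ofHom l₂) := (ModuleCat.epi_iff_surjective _).2 hl₂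
    let a : P ⟶ S := e.unit.app P ≫ e.inverse.map (ModuleCat.ofHom l₁)
    let b : Q ⟶ S := e.unit.app Q ≫ e.inverse.map (ModuleCat.ofHom l₂)
    haveI : Epi a := epi_comp _ _
    haveI : Epi b := epi_comp _ _
    haveI := epi_hom a
    haveI := epi_hom b
    let W : X.Opens := ⟨{x}ᶜ, hx.isOpen_compl⟩
    have h1 : ∀ V ≤ U, ∀ t : Γ(S.obj, V), t = 0 := eq_zero_of_epi a.hom U fun V hV => hP V fun z hz =>
      hI.le ⟨z, rfl⟩ (hV hz)
    have h2 : ∀ V ≤ W, ∀ t : Γ(S.obj, V), t = 0 := eq_zero_of_epi b.hom W fun V hV => hQ V fun z hz =>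
      hV hz (hJ.le ⟨z, rfl⟩)
    have hzero : ∀ (V : X.Opens) (t : Γ(S.obj, V)), t = 0 := fun V t => by
      refine TopCat.Sheaf.eq_of_locally_eq' (⟨S.obj.presheaf, S.obj.isSheaf⟩ : TopCat.Sheaf Ab X.toTopCat)
        (fun c : Bool => if c then V ⊓ U else V ⊓ W) V
        (fun c => homOfLE (by cases c <;> simp)) (fun y hy => ?_) _ _ fun c => ?_
      · by_cases hyx : y = x
        · exact Opens.mem_iSup.2 ⟨true, hy, hyx ▸ hxU⟩
        · exact Opens.mem_iSup.2 ⟨false, hy, hyx⟩
      · cases c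
        · exact (h2 _ inf_le_right _).trans (h2 _ inf_le_right _).symm
        · exact (h1 _ inf_le_right _).trans (h1 _ inf_le_right _).symm
    haveI := subsingleton_of_eq_zero e S hzero
    let i : e.functor.obj S ≅ ModuleCat.of R (R ⧸ q) := e.counitIso.app _
    haveI : Subsingleton (R ⧸ q) := i.toLinearEquiv.symm.injective.subsingleton
    exact hq.ne_top (Ideal.Quotient.subsingleton_iff.1 this)
  obtain ⟨r, hr, r', hr', hrr⟩ := Submodule.mem_sup.1 (hsum.ge (Submodule.mem_top : (1 : R) ∈ ⊤))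
  have kill : ∀ (s : R) (F : QCohCat.QCoh X) (σ : O X ⟶ F), s ∈ Module.annihilator R (e.functor.obj F) →
      σ.hom.app ⊤ (φ e s) = 0 := fun s F σ hs => by
    have h := congrArg (fun k : O X ⟶ F => k.hom.app ⊤ (1 : Γ(X, ⊤))) (η_naturality e s σ)
    refine h.symm.trans ?_
    rw [η_eq_zero e s F fun m => Module.mem_annihilator.1 hs m, comp_zero]
    rfl
  have h1 : I.subschemeι.app ⊤ (φ e r) = 0 := hπ0 _ (kill r P π hr)
  have h2 : J.subschemeι.app ⊤ (φ e r') = 0 := hρ0 _ (kill r' Q ρ hr')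
  have none : ∀ {T : Scheme.{u}} (i : T ⟶ X) (f : Γ(X, ⊤)), i.app ⊤ f = 0 → ∀ z, i z ∉ X.basicOpen f := by
    intro T i f hf z hz
    have : z ∈ i ⁻¹ᵁ X.basicOpen f := hz
    rw [Scheme.preimage_basicOpen, hf, Scheme.basicOpen_zero] at this
    exact this
  have hxr : x ∈ X.basicOpen (φ e r) := by
    obtain ⟨z, hz⟩ := hJ.ge (rfl : x ∈ ({x} : Set X))
    have hn := none J.subschemeι _ h2 z
    rw [hz, Scheme.mem_basicOpen_top] at hn
    rw [Scheme.mem_basicOpen_top]
    have e1 : X.presheaf.Γgerm x (φ e r') = 1 - X.presheaf.Γgerm x (φ e r) := by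
      rw [eq_sub_iff_add_eq, add_comm, ← map_add, ← φ_add, hrr, φ_one, map_one]
    exact (IsLocalRing.isUnit_or_isUnit_one_sub_self _).resolve_right fun h => hn (e1 ▸ h)
  have hsub : X.basicOpen (φ e r) ≤ U := fun y hy => by
    by_contra hyU
    obtain ⟨z, rfl⟩ := hI.ge (hyU : y ∈ (U : Set X)ᶜ)
    exact none I.subschemeι _ h1 z hy
  refine ⟨r, ?_, hxr⟩
  have : X.basicOpen (ro (le_top : U ≤ ⊤) (φ e r)) = X.basicOpen (φ e r) := by
    rw [Groth.L18.Frame.ro, X.basicOpen_res]; exact inf_eq_right.2 hsub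
  rw [← this]
  exact hU.basicOpen _

theorem isAffine (e : QCohCat.QCoh X ≌ ModuleCat.{u} R) [CompactSpace X] [QuasiSeparatedSpace X] : IsAffine X := by
  let G : Set R := {r | IsAffineOpen (X.basicOpen (φ e r))}
  have hcov : ∀ y : X, ∃ r ∈ G, y ∈ X.basicOpen (φ e r) := fun y => by
    obtain ⟨x, hxy, hx⟩ := IsClosed.exists_closed_singleton (S := closure {y}) isClosed_closure
      ⟨y, subset_closure rfl⟩
    obtain ⟨r, hr, hxr⟩ := exists_scalar e x hx
    exact ⟨r, hr, (specializes_iff_mem_closure.2 hxy).mem_open (X.basicOpen _).2 hxr⟩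
  refine isAffine_of_isAffineOpen_basicOpen (φHom e '' G) ?_ (by rintro _ ⟨r, hr, rfl⟩; exact hr)
  rw [← Ideal.map_span, span_eq_top e G (fun _ h => h) hcov, Ideal.map_top]

end Equiv

end Groth.L06.QCohAff
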