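import Groth.Agent.L20.RG.Coord
import Groth.Agent.L05.Hfp.OpenLoci

/-! Quasi-finite coordinates near a prime with prescribed preimage. -/

set_option autoImplicit false
set_option maxSynthPendingDepth 3
set_option linter.style.haveILetI false
universe u

open TensorProduct

noncomputable section

namespace Groth.L06.QFCoords

open Groth.L20.RG

variable {R C : Type u} [CommRing R] [CommRing C] [Algebra R C] [Algebra.FiniteType R C]

theorem basis_congr {ι : Type} {k L : Type u} [CommRing k] [CommRing L] (a b : Algebra k L)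
    (h : ∀ z, @algebraMap k L _ _ a z = @algebraMap k L _ _ b z) {x : ι → L}
    (hx : @IsTranscendenceBasis ι k L _ _ a x) : @IsTranscendenceBasis ι k L _ _ b x := by
  obtain rfl := Algebra.algebra_ext a b h
  exact hx

theorem fiber_residue_tower (p : Ideal R) [p.IsPrime] (Q : PrimeSpectrum (p.Fiber C)) :
    IsScalarTower p.ResidueField (p.Fiber C) Q.asIdeal.ResidueField := by
  refine IsScalarTower.of_algebraMap_eq' (Ideal.ResidueField.ringHom_ext (RingHom.ext fun c => ?_))
  simp only [RingHom.comp_apply, ← IsScalarTower.algebraMap_apply]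

set_option maxHeartbeats 400000 in
theorem exists_coords_split (p : Ideal R) [p.IsPrime] (Q : PrimeSpectrum (p.Fiber C)) (r : Ideal C) [r.IsPrime]
    (hQ : Q.asIdeal.comap Algebra.TensorProduct.includeRight.toRingHom = r) (n : ℕ)
    (hn : FlatMor.localDim (PrimeSpectrum (p.Fiber C)) Q = n) :
    ∃ (b₀ a₀ : ℕ), n = b₀ + a₀ ∧ ∃ φ : MvPolynomial (Fin (b₀ + a₀)) R →ₐ[R] C,
      (∀ j : Fin b₀, φ (MvPolynomial.X (Fin.castAdd a₀ j)) ∈ r) ∧
      IsTranscendenceBasis p.ResidueField (fun i => algebraMap (p.Fiber C) Q.asIdeal.ResidueField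
        ((1 : p.ResidueField) ⊗ₜ[R] φ (MvPolynomial.X (Fin.natAdd b₀ i)))) ∧
      (letI := φ.toRingHom.toAlgebra; Algebra.QuasiFiniteAt (MvPolynomial (Fin (b₀ + a₀)) R) r) := by
  classical
  haveI : IsNoetherianRing (p.Fiber C) := Algebra.FiniteType.isNoetherianRing p.ResidueField _
  obtain ⟨a₀, b₀, rfl, hb₀, xa, hxaT, htb⟩ := exists_basis_of_generators Q.asIdeal
    (Set.range fun c : C => ((1 : p.ResidueField) ⊗ₜ[R] c : p.Fiber C)) (adjoin_range_includeRight p) _ hn
  choose a ha using hxaT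
  obtain ⟨xb, hxbQ, hminQ⟩ := exists_minimal_over_parameters Q.asIdeal b₀ hb₀
  have hb : ∀ j : Fin b₀, ∃ c ∈ r, ∃ u : p.Fiber C, IsUnit u ∧ (1 : p.ResidueField) ⊗ₜ[R] c = u * xb j := by
    intro j
    obtain ⟨s', hs', c, hc⟩ := Ideal.Fiber.exists_smul_eq_one_tmul _ (xb j)
    refine ⟨c, ?_, algebraMap R _ s', ?_, ?_⟩
    · rw [← hQ, Ideal.mem_comap]
      show (1 : p.ResidueField) ⊗ₜ[R] c ∈ Q.asIdeal
      rw [← hc, Algebra.smul_def]
      exact Ideal.mul_mem_left _ _ (hxbQ j)
    · rw [IsScalarTower.algebraMap_apply R p.ResidueField]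
      exact (isUnit_iff_ne_zero.mpr fun h0 => hs' (Ideal.algebraMap_residueField_eq_zero.mp h0)).map _
    · rw [← hc, Algebra.smul_def]
  choose b hbr u hu hbu using hb
  obtain ⟨c₀, hc₀Q, hc₀⟩ := exists_mem_other_minimalPrimes _ Q.asIdeal hminQ
  obtain ⟨s', hs', c, hc⟩ := Ideal.Fiber.exists_smul_eq_one_tmul _ c₀
  have hcr : c ∉ r := by
    rw [← hQ, Ideal.mem_comap]
    show ¬ (1 : p.ResidueField) ⊗ₜ[R] c ∈ Q.asIdeal
    rw [← hc, Algebra.smul_def, Ideal.unit_mul_mem_iff_mem _ (by
      rw [IsScalarTower.algebraMap_apply R p.ResidueField]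
      exact (isUnit_iff_ne_zero.mpr fun h0 => hs' (Ideal.algebraMap_residueField_eq_zero.mp h0)).map _)]
    exact hc₀Q
  let f : Fin (b₀ + a₀) → C := Fin.append b a
  let φ : MvPolynomial (Fin (b₀ + a₀)) R →ₐ[R] C := MvPolynomial.aeval f
  haveI hrp : r.LiesOver p := by
    subst hQ
    exact ⟨Ideal.ext fun t => by
      rw [Ideal.mem_comap, Ideal.mem_comap]
      show t ∈ p ↔ (Algebra.TensorProduct.includeRight : C →ₐ[R] p.Fiber C) (algebraMap R C t) ∈ Q.asIdeal
      rw [AlgHom.commutes, IsScalarTower.algebraMap_apply R p.ResidueField (p.Fiber C)]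
      constructor
      · intro h
        rw [Ideal.algebraMap_residueField_eq_zero.mpr h, map_zero]
        exact zero_mem _
      · intro h
        by_contra hcp
        refine Q.isPrime.ne_top (Ideal.eq_top_of_isUnit_mem _ h ?_)
        exact (isUnit_iff_ne_zero.mpr fun h0 => hcp (Ideal.algebraMap_residueField_eq_zero.mp h0)).map
          (algebraMap p.ResidueField (p.Fiber C))⟩
  haveI hy : (r.comap φ).LiesOver p := ⟨Ideal.ext fun t => by
    rw [Ideal.mem_comap, Ideal.mem_comap, AlgHom.commutes]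
    exact Ideal.mem_of_liesOver r p t⟩
  have hQy : ∀ G, G ∈ r.comap φ ↔ (1 : p.ResidueField) ⊗ₜ[R] φ G ∈ Q.asIdeal := fun G => by
    rw [Ideal.mem_comap, ← hQ, Ideal.mem_comap]; rfl
  have hfun : ∀ i, φ (MvPolynomial.X (Fin.natAdd b₀ i)) = a i := fun i => by
    simp [φ, f]
  have hxind := (algebraicIndependent_residue_iff p Algebra.TensorProduct.includeRight Q.asIdeal φ (r.comap φ) hQy
    fun i => MvPolynomial.X (Fin.natAdd b₀ i)).mpr (by simpa only [hfun, Algebra.TensorProduct.includeRight_apply, ha] using htb.1)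
  refine ⟨b₀, a₀, rfl, φ, fun j => by simpa [φ, f] using hbr j, by
    simp only [hfun, ha]
    haveI := fiber_residue_tower (C := C) p Q
    exact basis_congr _ _ (fun z => (IsScalarTower.algebraMap_apply p.ResidueField (p.Fiber C) Q.asIdeal.ResidueField z).symm) htb, ?_⟩
  letI := φ.toRingHom.toAlgebra
  haveI : IsScalarTower R (MvPolynomial (Fin (b₀ + a₀)) R) C := IsScalarTower.of_algebraMap_eq' φ.comp_algebraMap.symm
  haveI : Algebra.FiniteType (MvPolynomial (Fin (b₀ + a₀)) R) C :=
    Algebra.FiniteType.of_restrictScalars_finiteType R _ _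
  exact quasiFiniteAt_of_isolated r c hcr fun r' hr' hcr' => by
    have hover : r'.asIdeal.comap (algebraMap R C) = p := by
      rw [IsScalarTower.algebraMap_eq R (MvPolynomial (Fin (b₀ + a₀)) R) C, ← Ideal.comap_comap,
        show Ideal.comap (algebraMap (MvPolynomial (Fin (b₀ + a₀)) R) C) r'.asIdeal = r.comap φ from hr']
      exact hy.over.symm
    let Q' := PrimeSpectrum.preimageEquivFiber R C ⟨p, inferInstance⟩ ⟨r', PrimeSpectrum.ext hover⟩
    have hQ' : Q'.asIdeal.comap Algebra.TensorProduct.includeRight.toRingHom = r'.asIdeal :=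
      congrArg PrimeSpectrum.asIdeal (congrArg Subtype.val
        ((PrimeSpectrum.preimageEquivFiber R C ⟨p, inferInstance⟩).symm_apply_apply ⟨r', PrimeSpectrum.ext hover⟩))
    have hJQ' : Ideal.span (Set.range xb) ≤ Q'.asIdeal := Ideal.span_le.mpr (Set.range_subset_iff.mpr fun j => by
      rw [SetLike.mem_coe, ← Ideal.unit_mul_mem_iff_mem _ (hu j), ← hbu]
      show b j ∈ Q'.asIdeal.comap Algebra.TensorProduct.includeRight.toRingHom
      rw [hQ']
      have : MvPolynomial.X (Fin.castAdd a₀ j) ∈ Ideal.comap φ r'.asIdeal := by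
        rw [show Ideal.comap φ r'.asIdeal = r.comap φ from hr']
        simpa [φ, f] using hbr j
      simpa [φ, f] using this)
    obtain ⟨P, hP, hPQ'⟩ := Ideal.exists_minimalPrimes_le hJQ'
    obtain rfl : P = Q.asIdeal := by
      by_contra hPne
      refine hcr' ?_
      rw [← hQ', Ideal.mem_comap]
      show (1 : p.ResidueField) ⊗ₜ[R] c ∈ Q'.asIdeal
      rw [← hc, Algebra.smul_def]
      exact Ideal.mul_mem_left _ _ (hPQ' (hc₀ P hP hPne))
    have := eq_of_le_of_algebraicIndependent Q.asIdeal Q'.asIdeal hPQ' xa htb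
      (by
        have hQy' : ∀ G, G ∈ r.comap φ ↔ (1 : p.ResidueField) ⊗ₜ[R] φ G ∈ Q'.asIdeal := fun G => by
          rw [← show Ideal.comap φ r'.asIdeal = r.comap φ from hr', Ideal.mem_comap, ← hQ', Ideal.mem_comap]
          rfl
        simpa only [hfun, Algebra.TensorProduct.includeRight_apply, ha] using (algebraicIndependent_residue_iff p Algebra.TensorProduct.includeRight Q'.asIdeal φ (r.comap φ) hQy'
          fun i => MvPolynomial.X (Fin.natAdd b₀ i)).mp hxind)
    rw [← hQ', this, hQ]


/-- The preimage of a prime under such coordinates. -/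
theorem comap_eq {n r : ℕ} {S : Type u} [CommRing S] [Algebra R S] (p : Ideal R) [p.IsPrime] (q : Ideal S)
    (φ : MvPolynomial (Fin n) R →ₐ[R] S) (hp : ∀ t ∈ p, algebraMap R S t ∈ q)
    (hX : ∀ i : Fin n, r ≤ (i : ℕ) → φ (MvPolynomial.X i) ∈ q)
    {L : Type u} [Field L] [Algebra p.ResidueField L] [Algebra R L] [IsScalarTower R p.ResidueField L]
    (ev : S →ₐ[R] L) (hev : ∀ s ∈ q, ev s = 0)
    (hind : AlgebraicIndependent p.ResidueField fun i : {i : Fin n // (i : ℕ) < r} => ev (φ (MvPolynomial.X i.1))) :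
    q.comap φ = p.map (algebraMap R (MvPolynomial (Fin n) R)) ⊔
      Ideal.span (Set.range fun i : {i : Fin n // r ≤ (i : ℕ)} => (MvPolynomial.X (i : Fin n) : MvPolynomial (Fin n) R)) := by
  classical
  set J := p.map (algebraMap R (MvPolynomial (Fin n) R)) ⊔
    Ideal.span (Set.range fun i : {i : Fin n // r ≤ (i : ℕ)} => (MvPolynomial.X (i : Fin n) : MvPolynomial (Fin n) R))
  have hJ : J ≤ q.comap φ := sup_le (Ideal.map_le_iff_le_comap.2 fun t ht => by
      rw [Ideal.mem_comap, Ideal.mem_comap, AlgHom.commutes]; exact hp t ht)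
    (Ideal.span_le.2 (Set.range_subset_iff.2 fun i => hX i.1 i.2))
  refine le_antisymm (fun G hG => ?_) hJ
  let τ : MvPolynomial (Fin n) R →ₐ[R] MvPolynomial {i : Fin n // (i : ℕ) < r} R :=
    MvPolynomial.aeval fun i => if h : (i : ℕ) < r then MvPolynomial.X ⟨i, h⟩ else 0
  have hτ : ∀ G, G - MvPolynomial.rename Subtype.val (τ G) ∈ J := fun G => by
    induction G using MvPolynomial.induction_on with
    | C c => simp [τ]
    | add G H hG hH =>
      rw [map_add, map_add, add_sub_add_comm]; exact add_mem hG hH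
    | mul_X G i hG =>
      rw [map_mul, map_mul]
      by_cases h : (i : ℕ) < r
      · simp only [τ, MvPolynomial.aeval_X, dif_pos h, MvPolynomial.rename_X, ← sub_mul]
        exact Ideal.mul_mem_right _ _ hG
      · simp only [τ, MvPolynomial.aeval_X, dif_neg h, map_zero, mul_zero, sub_zero]
        exact Ideal.mul_mem_left _ _ (Ideal.mem_sup_right (Ideal.subset_span ⟨⟨i, not_lt.1 h⟩, rfl⟩))
  have h0 : φ (MvPolynomial.rename Subtype.val (τ G)) ∈ q := by
    have h1 := Ideal.sub_mem _ (show φ G ∈ q from hG) (show φ (G - MvPolynomial.rename Subtype.val (τ G)) ∈ q from hJ (hτ G))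
    rwa [map_sub, sub_sub_cancel] at h1
  have h1 : MvPolynomial.map (algebraMap R p.ResidueField) (τ G) = 0 := by
    refine hind.eq_zero_of_aeval_eq_zero _ ?_
    rw [MvPolynomial.aeval_map_algebraMap]
    have h2 := hev _ h0
    rw [← AlgHom.comp_apply, ← AlgHom.comp_apply] at h2
    refine Eq.trans ?_ h2
    refine DFunLike.congr_fun (MvPolynomial.algHom_ext fun i => ?_) (τ G)
    simp
  have h2 : MvPolynomial.rename Subtype.val (τ G) ∈ p.map (algebraMap R (MvPolynomial (Fin n) R)) := by
    rw [MvPolynomial.algebraMap_eq, MvPolynomial.mem_map_C_iff]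
    intro d
    rw [← Ideal.algebraMap_residueField_eq_zero (I := p), ← MvPolynomial.coeff_map, MvPolynomial.map_rename, h1, map_zero, MvPolynomial.coeff_zero]
  simpa using add_mem (hτ G) (Ideal.mem_sup_left h2 : MvPolynomial.rename Subtype.val (τ G) ∈ J)

theorem main (R S : Type u) [CommRing R] [CommRing S]
    [Algebra R S] [Algebra.FiniteType R S] (p : Ideal R) [p.IsPrime] (q : Ideal S) [q.IsPrime] [q.LiesOver p]
    [Algebra (Localization.AtPrime p) (Localization.AtPrime q)]
    [Localization.AtPrime.IsLiesOverAlgebra p q] (Q : PrimeSpectrum (p.Fiber S))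
    (hQ : Q.asIdeal.comap (Algebra.TensorProduct.includeRight.toRingHom) = q) (n r : ℕ)
    (hdim : FlatMor.localDim (PrimeSpectrum (p.Fiber S)) Q = (n : WithBot ℕ∞))
    (hr : Algebra.trdeg p.ResidueField q.ResidueField = r) :
    ∃ (f : R) (g : S), f ∉ p ∧ g ∉ q ∧
      ∃ φ : MvPolynomial (Fin n) (Localization.Away f) →ₐ[R] Localization.Away g,
        φ.toRingHom.FiniteType ∧ φ.toRingHom.QuasiFinite ∧
        (q.map (algebraMap S (Localization.Away g))).comap φ =
          p.map (algebraMap R (MvPolynomial (Fin n) (Localization.Away f))) ⊔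
            Ideal.span (Set.range fun i : {i : Fin n // r ≤ (i : ℕ)} =>
              (MvPolynomial.X (i : Fin n) : MvPolynomial (Fin n) (Localization.Away f))) := by
  classical
  obtain ⟨b₀, a₀, rfl, φ₀, hφb, htb, hqf⟩ := exists_coords_split p Q q hQ n hdim
  let L := Q.asIdeal.ResidueField
  let ι : S →ₐ[R] p.Fiber S := Algebra.TensorProduct.includeRight
  haveI : IsScalarTower p.ResidueField (p.Fiber S) L := fiber_residue_tower p Q
  -- the transcendence degree
  haveI : IsScalarTower R p.ResidueField q.ResidueField := IsScalarTower.of_algebraMap_eq fun x => by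
    rw [IsScalarTower.algebraMap_apply R (Localization.AtPrime p) p.ResidueField,
      IsScalarTower.algebraMap_apply R (Localization.AtPrime q) q.ResidueField,
      IsScalarTower.algebraMap_apply R (Localization.AtPrime p) (Localization.AtPrime q)]
    rfl
  let j : q.ResidueField →+* L := Ideal.ResidueField.map q Q.asIdeal ι.toRingHom hQ.symm
  have hj : ∀ s, j (algebraMap S q.ResidueField s) = algebraMap (p.Fiber S) L ((1 : p.ResidueField) ⊗ₜ[R] s) :=
    fun s => Ideal.ResidueField.map_algebraMap _ _ _ _ _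
  have hjk : j.comp (algebraMap p.ResidueField q.ResidueField) = algebraMap p.ResidueField L := by
    refine Ideal.ResidueField.ringHom_ext ?_
    ext c
    rw [RingHom.comp_apply, RingHom.comp_apply, RingHom.comp_apply,
      ← IsScalarTower.algebraMap_apply R p.ResidueField q.ResidueField,
      IsScalarTower.algebraMap_apply R S q.ResidueField, hj,
      IsScalarTower.algebraMap_apply p.ResidueField (p.Fiber S) L,
      ← IsScalarTower.algebraMap_apply R p.ResidueField (p.Fiber S)]
    exact congrArg _ (ι.commutes c)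
  have hjsurj : Function.Surjective j := fun z => by
    obtain ⟨u, v, hv, rfl⟩ := IsFractionRing.div_surjective (A := p.Fiber S ⧸ Q.asIdeal) z
    have key : ∀ x : p.Fiber S ⧸ Q.asIdeal, algebraMap _ L x ∈ j.fieldRange := fun x => by
      obtain ⟨x, rfl⟩ := Ideal.Quotient.mk_surjective x
      obtain ⟨s', hs', c, hc⟩ := Ideal.Fiber.exists_smul_eq_one_tmul _ x
      rw [Algebra.smul_def] at hc
      have hcm : algebraMap (p.Fiber S) L (algebraMap R (p.Fiber S) s') * algebraMap (p.Fiber S) L x ∈ j.fieldRange := by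
        rw [← map_mul, hc]; exact ⟨_, hj c⟩
      have hsm : algebraMap (p.Fiber S) L (algebraMap R (p.Fiber S) s') ∈ j.fieldRange := by
        refine ⟨algebraMap p.ResidueField q.ResidueField (algebraMap R p.ResidueField s'), ?_⟩
        rw [← RingHom.comp_apply, hjk, IsScalarTower.algebraMap_apply R p.ResidueField (p.Fiber S),
          ← IsScalarTower.algebraMap_apply p.ResidueField (p.Fiber S) L]
      have hne : algebraMap (p.Fiber S) L (algebraMap R (p.Fiber S) s') ≠ 0 := by
        rw [IsScalarTower.algebraMap_apply R p.ResidueField (p.Fiber S),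
          ← IsScalarTower.algebraMap_apply p.ResidueField (p.Fiber S) L]
        exact (map_ne_zero _).2 fun h0 => hs' (Ideal.algebraMap_residueField_eq_zero.mp h0)
      rw [Ideal.algebraMap_quotient_residueField_mk]
      have := div_mem hcm hsm
      rwa [mul_div_cancel_left₀ _ hne] at this
    exact div_mem (key u) (key v)
  let je : q.ResidueField ≃ₐ[p.ResidueField] L :=
    AlgEquiv.ofBijective { j with commutes' := fun c => DFunLike.congr_fun hjk c } ⟨j.injective, hjsurj⟩
  obtain rfl : a₀ = r := by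
    have h := htb.lift_cardinalMk_eq_trdeg
    rw [← je.trdeg_eq, hr] at h
    simpa using h
  -- put the independent variables first
  let σ : Fin (b₀ + a₀) ≃ Fin (b₀ + a₀) :=
    ((finCongr (Nat.add_comm b₀ a₀)).trans finSumFinEquiv.symm).trans ((Equiv.sumComm _ _).trans finSumFinEquiv)
  let φ₁ : MvPolynomial (Fin (b₀ + a₀)) R →ₐ[R] S := φ₀.comp (MvPolynomial.renameEquiv R σ).toAlgHom
  have hφ₁ : ∀ i, φ₁ (MvPolynomial.X i) = φ₀ (MvPolynomial.X (σ i)) := fun i => by simp [φ₁]
  have hσlo : ∀ (i : Fin (b₀ + a₀)) (h : (i : ℕ) < a₀), σ i = Fin.natAdd b₀ ⟨i, h⟩ := fun i h => by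
    have : finSumFinEquiv.symm (finCongr (Nat.add_comm b₀ a₀) i) = Sum.inl (⟨i, h⟩ : Fin a₀) :=
      (Equiv.symm_apply_eq _).2 (Fin.ext (by simp))
    show finSumFinEquiv ((Equiv.sumComm _ _) (finSumFinEquiv.symm (finCongr (Nat.add_comm b₀ a₀) i))) = _
    rw [this]
    simp
  have hσhi : ∀ (i : Fin (b₀ + a₀)) (h : a₀ ≤ (i : ℕ)), ∃ l : Fin b₀, σ i = Fin.castAdd a₀ l := fun i h => by
    have hi := i.2
    refine ⟨⟨(i : ℕ) - a₀, by omega⟩, ?_⟩
    have : finSumFinEquiv.symm (finCongr (Nat.add_comm b₀ a₀) i) = Sum.inr (⟨(i : ℕ) - a₀, by omega⟩ : Fin b₀) :=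
      (Equiv.symm_apply_eq _).2 (Fin.ext (by simp; omega))
    show finSumFinEquiv ((Equiv.sumComm _ _) (finSumFinEquiv.symm (finCongr (Nat.add_comm b₀ a₀) i))) = _
    rw [this]
    simp
  letI : Algebra (MvPolynomial (Fin (b₀ + a₀)) R) S := φ₁.toRingHom.toAlgebra
  haveI : IsScalarTower R (MvPolynomial (Fin (b₀ + a₀)) R) S := IsScalarTower.of_algebraMap_eq' φ₁.comp_algebraMap.symm
  haveI : Algebra.FiniteType (MvPolynomial (Fin (b₀ + a₀)) R) S :=
    Algebra.FiniteType.of_restrictScalars_finiteType R _ _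
  haveI : Algebra.QuasiFiniteAt (MvPolynomial (Fin (b₀ + a₀)) R) q := by
    letI A0 : Algebra (MvPolynomial (Fin (b₀ + a₀)) R) S := φ₀.toRingHom.toAlgebra
    haveI : IsScalarTower R (MvPolynomial (Fin (b₀ + a₀)) R) S := IsScalarTower.of_algebraMap_eq' φ₀.comp_algebraMap.symm
    haveI : Algebra.FiniteType (MvPolynomial (Fin (b₀ + a₀)) R) S :=
      Algebra.FiniteType.of_restrictScalars_finiteType R _ _
    obtain ⟨g, hg, hgq⟩ := Groth.L05.Hfp.exists_quasiFinite_away (A := MvPolynomial (Fin (b₀ + a₀)) R) q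
    have h1 : ((algebraMap S (Localization.Away g)).comp φ₀.toRingHom).QuasiFinite :=
      RingHom.quasiFinite_algebraMap.2 hgq
    have h2 : ((MvPolynomial.renameEquiv R σ).toRingEquiv.toRingHom).QuasiFinite :=
      RingHom.QuasiFinite.of_finite (RingHom.Finite.of_surjective _ (MvPolynomial.renameEquiv R σ).surjective)
    have h3 := RingHom.QuasiFinite.stableUnderComposition _ _ h2 h1
    letI : Algebra (MvPolynomial (Fin (b₀ + a₀)) R) S := φ₁.toRingHom.toAlgebra
    haveI : Algebra.QuasiFinite (MvPolynomial (Fin (b₀ + a₀)) R) (Localization.Away g) :=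
      RingHom.quasiFinite_algebraMap.1 h3
    exact Groth.L05.Hfp.quasiFiniteAt_of_away g q hg
  obtain ⟨g, hg, hgq⟩ := Groth.L05.Hfp.exists_quasiFinite_away (A := MvPolynomial (Fin (b₀ + a₀)) R) q
  have hcomap := comap_eq p q φ₁ (fun t ht => (Ideal.mem_of_liesOver q p t).1 ht) (r := a₀) (fun i hi => by
      obtain ⟨l, hl⟩ := hσhi i hi
      rw [hφ₁, hl]; exact hφb l)
    (ev := (IsScalarTower.toAlgHom R (p.Fiber S) L).comp ι) (fun s hs => by
      show algebraMap (p.Fiber S) L (ι s) = 0
      rw [← hQ, Ideal.mem_comap] at hs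
      exact Ideal.algebraMap_residueField_eq_zero.2 hs)
    (by
      have : (fun i : {i : Fin (b₀ + a₀) // (i : ℕ) < a₀} =>
          ((IsScalarTower.toAlgHom R (p.Fiber S) L).comp ι) (φ₁ (MvPolynomial.X i.1))) =
        (fun i : Fin a₀ => algebraMap (p.Fiber S) L
          ((1 : p.ResidueField) ⊗ₜ[R] φ₀ (MvPolynomial.X (Fin.natAdd b₀ i)))) ∘ fun i => (⟨(i.1 : ℕ), i.2⟩ : Fin a₀) := by
        funext i
        simp only [hφ₁, hσlo i.1 i.2]
        rfl
      rw [this]
      exact htb.1.comp _ fun i i' h => Subtype.ext (Fin.ext (by simpa using congrArg Fin.val h)))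
  -- inverting one
  let e0 : R ≃ₐ[R] Localization.Away (1 : R) :=
    IsLocalization.atUnits R (Submonoid.powers (1 : R)) (by simp)
  let e : MvPolynomial (Fin (b₀ + a₀)) R ≃ₐ[R] MvPolynomial (Fin (b₀ + a₀)) (Localization.Away (1 : R)) :=
    MvPolynomial.mapAlgEquiv _ e0
  let χ : MvPolynomial (Fin (b₀ + a₀)) (Localization.Away (1 : R)) →ₐ[R] Localization.Away g :=
    ((IsScalarTower.toAlgHom R S (Localization.Away g)).comp φ₁).comp e.symm.toAlgHom
  refine ⟨1, g, fun h => Ideal.IsPrime.ne_top ‹p.IsPrime› ((Ideal.eq_top_iff_one p).2 h), hg, χ, ?_, ?_, ?_⟩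
  · refine RingHom.FiniteType.comp (g := ((IsScalarTower.toAlgHom R S (Localization.Away g)).comp φ₁).toRingHom) ?_
      (RingHom.FiniteType.of_surjective e.symm.toAlgHom.toRingHom e.symm.surjective)
    show (algebraMap (MvPolynomial (Fin (b₀ + a₀)) R) (Localization.Away g)).FiniteType
    exact RingHom.finiteType_algebraMap.2 inferInstance
  · refine RingHom.QuasiFinite.stableUnderComposition e.symm.toAlgHom.toRingHom
      ((IsScalarTower.toAlgHom R S (Localization.Away g)).comp φ₁).toRingHom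
      (RingHom.QuasiFinite.of_finite (RingHom.Finite.of_surjective _ e.symm.surjective)) ?_
    show (algebraMap (MvPolynomial (Fin (b₀ + a₀)) R) (Localization.Away g)).QuasiFinite
    exact RingHom.quasiFinite_algebraMap.2 hgq
  · have h1 : (q.map (algebraMap S (Localization.Away g))).comap (algebraMap S (Localization.Away g)) = q := by
      refine IsLocalization.comap_map_of_isPrime_disjoint (Submonoid.powers g) _ ‹q.IsPrime› ?_
      rw [Set.disjoint_left]
      rintro _ ⟨k, rfl⟩ hk
      exact hg (Ideal.IsPrime.mem_of_pow_mem ‹q.IsPrime› k hk)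
    have h2 : (q.map (algebraMap S (Localization.Away g))).comap χ = (q.comap φ₁).comap e.symm.toRingEquiv := by
      conv_rhs => rw [← h1]
      rfl
    rw [h2, hcomap]
    have key : ∀ J : Ideal (MvPolynomial (Fin (b₀ + a₀)) R), J.comap e.symm.toRingEquiv = J.map (e : MvPolynomial (Fin (b₀ + a₀)) R →+* _) :=
      fun J => (Ideal.map_comap_of_equiv e.toRingEquiv).symm
    rw [key, Ideal.map_sup, Ideal.map_map, Ideal.map_span, ← Set.range_comp]
    congr 2
    · exact RingHom.ext fun t => e.commutes t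
    · refine congrArg Set.range (funext fun i => ?_)
      simp [e]

end Groth.L06.QFCoords
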