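import Groth.Agent.L06.FiniteImage
import Groth.Agent.L28.EtaleStrata.Disjoint
import Mathlib.AlgebraicGeometry.Morphisms.QuasiFinite
import Mathlib.AlgebraicGeometry.Morphisms.FiniteType
import Mathlib.AlgebraicGeometry.Morphisms.QuasiCompact
import Mathlib.RingTheory.ZariskisMainTheorem

/-! Quasi-finite morphisms: images of nowhere dense sets, finiteness over a dense open. -/

set_option autoImplicit false
set_option maxSynthPendingDepth 3
set_option linter.style.haveILetI false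
set_option backward.isDefEq.respectTransparency.types false
set_option backward.isDefEq.respectTransparency false

universe u

open CategoryTheory CategoryTheory.Limits AlgebraicGeometry TopologicalSpace Topology

noncomputable section

namespace Groth.L06.QFDenseFinite

open FiniteImage

/-- Locally, a quasi-finite morphism is an open piece of a finite one. -/
theorem exists_piece {X Y : Scheme.{u}} (f : X ⟶ Y) [LocallyQuasiFinite f] [LocallyOfFiniteType f]
    {U : Y.Opens} (hU : IsAffineOpen U) (x : X) (hxU : f x ∈ U) :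
    ∃ (W : X.Opens) (Z : Scheme.{u}) (g : W.toScheme ⟶ Z) (q : Z ⟶ U.toScheme),
      x ∈ W ∧ IsOpenImmersion g ∧ IsFinite q ∧ W.ι ≫ f = g ≫ q ≫ U.ι := by
  classical
  obtain ⟨V, hV, hxV, hVU⟩ := exists_isAffineOpen_mem_and_subset (U := f ⁻¹ᵁ U) hxU
  have e : V ≤ f ⁻¹ᵁ U := hVU
  have hqf : (f.appLE U V e).hom.QuasiFinite := LocallyQuasiFinite.quasiFinite_appLE hU hV e
  have hft : (f.appLE U V e).hom.FiniteType :=
    HasRingHomProperty.appLE @LocallyOfFiniteType f ‹_› ⟨U, hU⟩ ⟨V, hV⟩ e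
  algebraize [(f.appLE U V e).hom]
  let q := hV.primeIdealOf ⟨x, hxV⟩
  obtain ⟨S', hS', r, hrq, hbij⟩ :=
    Algebra.QuasiFiniteAt.exists_fg_and_exists_notMem_and_awayMap_bijective (R := Γ(Y, U)) q.asIdeal
  haveI : Module.Finite Γ(Y, U) S' := ⟨(Submodule.fg_top _).mpr hS'⟩
  have hD : IsAffineOpen (X.basicOpen (r : Γ(X, V))) := hV.basicOpen _
  haveI : IsLocalization.Away (r : Γ(X, V)) Γ(X, X.basicOpen (r : Γ(X, V))) := hV.isLocalization_basicOpen _
  haveI : IsLocalization.Away (S'.val.toRingHom r) Γ(X, X.basicOpen (r : Γ(X, V))) :=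
    hV.isLocalization_basicOpen _
  let j : Localization.Away (S'.val.toRingHom r) ≃ₐ[Γ(X, V)] Γ(X, X.basicOpen (r : Γ(X, V))) :=
    IsLocalization.algEquiv (Submonoid.powers (S'.val.toRingHom r)) _ _
  let α : Localization.Away r →+* Γ(X, X.basicOpen (r : Γ(X, V))) :=
    j.toRingEquiv.toRingHom.comp (Localization.awayMap S'.val.toRingHom r)
  have hα : Function.Bijective α := j.bijective.comp hbij
  have hcomp : f.appLE U (X.basicOpen (r : Γ(X, V))) ((X.basicOpen_le _).trans e) =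
      CommRingCat.ofHom (algebraMap Γ(Y, U) S') ≫ CommRingCat.ofHom (algebraMap S' (Localization.Away r)) ≫
        CommRingCat.ofHom α := by
    rw [← Scheme.Hom.appLE_map f e (homOfLE (X.basicOpen_le _)).op]
    ext c
    show algebraMap Γ(X, V) Γ(X, X.basicOpen (r : Γ(X, V))) (algebraMap Γ(Y, U) Γ(X, V) c) =
      j (Localization.awayMap S'.val.toRingHom r (algebraMap S' (Localization.Away r) (algebraMap Γ(Y, U) S' c)))
    erw [IsLocalization.map_eq, AlgEquiv.commutes]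
    rfl
  haveI : IsIso (CommRingCat.ofHom α) := (ConcreteCategory.isIso_iff_bijective _).mpr hα
  haveI : IsOpenImmersion (Spec.map (CommRingCat.ofHom (algebraMap S' (Localization.Away r)))) :=
    IsOpenImmersion.of_isLocalization r
  haveI : IsFinite (Spec.map (CommRingCat.ofHom (algebraMap Γ(Y, U) S'))) :=
    (IsFinite.SpecMap_iff _).2 (RingHom.finite_algebraMap.2 inferInstance)
  refine ⟨X.basicOpen (r : Γ(X, V)), Spec (CommRingCat.of S'),
    hD.isoSpec.hom ≫ Spec.map (CommRingCat.ofHom α) ≫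
      Spec.map (CommRingCat.ofHom (algebraMap S' (Localization.Away r))),
    Spec.map (CommRingCat.ofHom (algebraMap Γ(Y, U) S')) ≫ hU.isoSpec.inv, ?_, inferInstance, inferInstance, ?_⟩
  · have hq : q ∈ PrimeSpectrum.basicOpen (r : Γ(X, V)) := hrq
    rw [← hV.fromSpec_preimage_basicOpen] at hq
    have e' : hV.fromSpec q = x := hV.fromSpec_primeIdealOf ⟨x, hxV⟩
    exact e' ▸ hq
  · simp only [Category.assoc, hU.isoSpec_inv_ι]
    rw [← Spec.map_comp_assoc, ← Spec.map_comp_assoc, ← hcomp, hU.SpecMap_appLE_fromSpec f hD,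
      ← Category.assoc hD.isoSpec.hom, hD.isoSpec_hom_fromSpec]

theorem exists_pieces {X Y : Scheme.{u}} (f : X ⟶ Y) [LocallyQuasiFinite f] [LocallyOfFiniteType f]
    [QuasiCompact f] {U : Y.Opens} (hU : IsAffineOpen U) :
    ∃ (ι : Type u) (_ : Finite ι) (W : ι → X.Opens) (Z : ι → Scheme.{u}) (g : ∀ i, (W i).toScheme ⟶ Z i)
      (q : ∀ i, Z i ⟶ U.toScheme), (∀ x, f x ∈ U → ∃ i, x ∈ W i) ∧ (∀ i, IsOpenImmersion (g i)) ∧
      (∀ i, IsFinite (q i)) ∧ ∀ i, (W i).ι ≫ f = g i ≫ q i ≫ U.ι := by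
  have hc : IsCompact ((f ⁻¹ᵁ U : X.Opens) : Set X) :=
    QuasiCompact.isCompact_preimage (f := f) _ U.isOpen hU.isCompact
  choose W Z g q hxW hg hq he using fun x : (f ⁻¹ᵁ U : X.Opens) => exists_piece f hU x.1 x.2
  obtain ⟨t, ht⟩ := hc.elim_finite_subcover (fun x : (f ⁻¹ᵁ U : X.Opens) => (W x : Set X))
    (fun x => (W x).isOpen) (fun x hx => Set.mem_iUnion.2 ⟨⟨x, hx⟩, hxW ⟨x, hx⟩⟩)
  refine ⟨t, inferInstance, fun i => W i, fun i => Z i, fun i => g i, fun i => q i, fun x hx => ?_,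
    fun i => hg i, fun i => hq i, fun i => he i⟩
  obtain ⟨i, hi, hxi⟩ := Set.mem_iUnion₂.1 (ht hx)
  exact ⟨⟨i, hi⟩, hxi⟩

theorem isNowhereDense_preimage {X Y : Type*} [TopologicalSpace X] [TopologicalSpace Y] {j : X → Y}
    (hj : IsOpenEmbedding j) {T : Set Y} (hT : IsNowhereDense T) : IsNowhereDense (j ⁻¹' T) := by
  rw [IsNowhereDense, ← hj.isOpenMap.preimage_closure_eq_closure_preimage hj.continuous,
    ← hj.isOpenMap.preimage_interior_eq_interior_preimage hj.continuous, hT, Set.preimage_empty]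

theorem isNowhereDense_image {X Y : Scheme.{u}} (f : X ⟶ Y) [LocallyQuasiFinite f] [LocallyOfFiniteType f]
    [QuasiCompact f] {T : Set X} (hT : IsNowhereDense T) : IsNowhereDense (f '' T) := by
  refine isNowhereDense_of_forall_open fun y => ?_
  obtain ⟨_, ⟨(U : Y.Opens), hU, rfl⟩, hyU, -⟩ :=
    Y.isBasis_affineOpens.exists_subset_of_mem_open (Set.mem_univ y) isOpen_univ
  replace hU : IsAffineOpen U := hU
  refine ⟨U, U.isOpen, hyU, ?_⟩
  obtain ⟨ι, _, W, Z, g, q, hcov, hg, hq, he⟩ := exists_pieces f hU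
  haveI : IsAffine U.toScheme := hU
  refine IsNowhereDense.mono (s := ⋃ i, U.ι '' ((q i) '' ((g i) '' ((W i).ι ⁻¹' T)))) ?_ ?_
  · rintro _ ⟨⟨x, hx, rfl⟩, hxU⟩
    obtain ⟨i, hi⟩ := hcov x hxU
    refine Set.mem_iUnion.2 ⟨i, _, ⟨_, ⟨⟨x, hi⟩, hx, rfl⟩, rfl⟩, ?_⟩
    exact (congr($(he i) ⟨x, hi⟩)).symm
  · refine isNowhereDense_iUnion fun i => U.ι.isOpenEmbedding.isInducing.isNowhereDense_image ?_
    haveI := hg i
    haveI := hq i
    exact isNowhereDense_image_of_isFinite (q i) ((g i).isOpenEmbedding.isInducing.isNowhereDense_image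
      (isNowhereDense_preimage (W i).ι.isOpenEmbedding hT))

/-- finiteness of one piece over a small open -/
theorem isFinite_piece {X Y : Scheme.{u}} (f : X ⟶ Y) {U U' : Y.Opens} (hle : U' ≤ U) (V : X.Opens)
    {Z : Scheme.{u}} (g : V.toScheme ⟶ Z) [IsOpenImmersion g] (q : Z ⟶ U.toScheme) [IsFinite q]
    (he : V.ι ≫ f = g ≫ q ≫ U.ι)
    (hcl : ∀ z ∈ closure (Set.range g), U.ι (q z) ∈ U' → z ∈ Set.range g) :
    IsFinite ((V.ι ∣_ (f ⁻¹ᵁ U')).opensRange.ι ≫ (f ∣_ U')) := by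
  set Q := q ⁻¹ᵁ (U.ι ⁻¹ᵁ U')
  haveI : IsClosedImmersion (g ∣_ Q) := by
    refine IsClosedImmersion.of_isPreimmersion _ ?_
    have hr : Set.range (g ∣_ Q) = Q.ι ⁻¹' closure (Set.range g) := by
      ext z
      constructor
      · rintro ⟨w, rfl⟩
        refine subset_closure ⟨(g ⁻¹ᵁ Q).ι w, ?_⟩
        exact (congr($(morphismRestrict_ι g Q) w)).symm
      · intro hz
        obtain ⟨w, hw⟩ := hcl _ hz z.2
        have hwQ : w ∈ g ⁻¹ᵁ Q := by
          show g w ∈ Q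
          rw [hw]
          exact z.2
        refine ⟨⟨w, hwQ⟩, Q.ι.isOpenEmbedding.injective ?_⟩
        exact (congr($(morphismRestrict_ι g Q) ⟨w, hwQ⟩)).trans hw
    rw [hr]
    exact isClosed_closure.preimage Q.ι.continuous
  haveI : IsFinite (q ∣_ (U.ι ⁻¹ᵁ U')) := IsZariskiLocalAtTarget.restrict ‹IsFinite q› _
  haveI : IsFinite (U.ι ∣_ U') := by
    haveI : Surjective (U.ι ∣_ U') := ⟨fun z => by
      have hz : U.ι ⟨z.1, hle z.2⟩ = z.1 := rfl
      refine ⟨⟨⟨z.1, hle z.2⟩, z.2⟩, U'.ι.isOpenEmbedding.injective ?_⟩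
      exact congr($(morphismRestrict_ι U.ι U') ⟨⟨z.1, hle z.2⟩, z.2⟩)⟩
    haveI : IsIso (U.ι ∣_ U') := (isIso_iff_isOpenImmersion_and_epi_base _).2
      ⟨inferInstance, (TopCat.epi_iff_surjective _).2 (U.ι ∣_ U').surjective⟩
    infer_instance
  have h : IsFinite ((g ≫ q ≫ U.ι) ∣_ U') := by
    rw [morphismRestrict_comp, morphismRestrict_comp]
    exact inferInstanceAs (IsFinite ((g ∣_ Q) ≫ (q ∣_ (U.ι ⁻¹ᵁ U')) ≫ (U.ι ∣_ U')))
  rw [← he, morphismRestrict_comp] at h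
  rw [← MorphismProperty.cancel_left_of_respectsIso @IsFinite (V.ι ∣_ (f ⁻¹ᵁ U')).isoOpensRange.hom,
    ← Category.assoc, Scheme.Hom.isoOpensRange_hom_ι]
  exact h

theorem isNowhereDense_closure_diff {X : Type*} [TopologicalSpace X] {s : Set X} (hs : IsOpen s) :
    IsNowhereDense (closure s \ s) := by
  rw [Set.diff_eq, (isClosed_closure.inter hs.isClosed_compl).isNowhereDense_iff, Set.eq_empty_iff_forall_notMem]
  intro x hx
  obtain ⟨z, hz, hzs⟩ := mem_closure_iff.1 (interior_subset hx).1 _ isOpen_interior hx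
  exact (interior_subset hz).2 hzs

theorem exists_isFinite_of_open {X Y : Scheme.{u}} (f : X ⟶ Y) [LocallyQuasiFinite f] [LocallyOfFiniteType f]
    [QuasiCompact f] (O : Y.Opens) (hO : (O : Set Y).Nonempty) :
    ∃ U' : Y.Opens, U' ≤ O ∧ (U' : Set Y).Nonempty ∧ IsFinite (f ∣_ U') := by
  obtain ⟨y, hy⟩ := hO
  obtain ⟨_, ⟨(U : Y.Opens), hU, rfl⟩, hyU, hUO⟩ :=
    Y.isBasis_affineOpens.exists_subset_of_mem_open hy O.isOpen
  replace hU : IsAffineOpen U := hU
  haveI : IsAffine U.toScheme := hU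
  obtain ⟨ι, _, W, Z, g, q, hcov, hg, hq, he⟩ := exists_pieces f hU
  let B : ι → Set Y := fun i => U.ι '' (q i '' (closure (Set.range (g i)) \ Set.range (g i)))
  let E : ι × ι → Set Y := fun ij => U.ι '' (q ij.1 '' (g ij.1 ''
    (closure ((W ij.1).ι ⁻¹' (W ij.2 : Set X)) \ (W ij.1).ι ⁻¹' (W ij.2 : Set X))))
  have hS : IsNowhereDense ((⋃ i, B i) ∪ ⋃ ij, E ij) := by
    refine isNowhereDense_union (isNowhereDense_iUnion fun i => ?_) (isNowhereDense_iUnion fun ij => ?_)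
    · haveI := hg i
      haveI := hq i
      exact U.ι.isOpenEmbedding.isInducing.isNowhereDense_image
        (isNowhereDense_image_of_isFinite (q i) (isNowhereDense_closure_diff (g i).isOpenEmbedding.isOpen_range))
    · haveI := hg ij.1
      haveI := hq ij.1
      exact U.ι.isOpenEmbedding.isInducing.isNowhereDense_image
        (isNowhereDense_image_of_isFinite (q ij.1) ((g ij.1).isOpenEmbedding.isInducing.isNowhereDense_image
          (isNowhereDense_closure_diff ((W ij.2).isOpen.preimage (W ij.1).ι.continuous))))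
  set S := (⋃ i, B i) ∪ ⋃ ij, E ij
  let U' : Y.Opens := U ⊓ ⟨(closure S)ᶜ, isClosed_closure.isOpen_compl⟩
  refine ⟨U', inf_le_left.trans hUO, ?_, ?_⟩
  · by_contra hne
    refine Set.eq_empty_iff_forall_notMem.1 hS y (interior_maximal (fun z hz => ?_) U.isOpen hyU)
    by_contra hzS
    exact hne ⟨z, hz, hzS⟩
  have hnot : ∀ z ∈ U', z ∉ S := fun z hz h => hz.2 (subset_closure h)
  let A : ι → (f ⁻¹ᵁ U').toScheme.Opens := fun i => ((W i).ι ∣_ (f ⁻¹ᵁ U')).opensRange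
  have hA : ∀ i (w : (f ⁻¹ᵁ U').toScheme), w ∈ A i ↔ (f ⁻¹ᵁ U').ι w ∈ W i := by
    intro i w
    constructor
    · rintro ⟨v, rfl⟩
      have h := congr($(morphismRestrict_ι (W i).ι (f ⁻¹ᵁ U')) v)
      exact h.symm ▸ (((W i).ι ⁻¹ᵁ f ⁻¹ᵁ U').ι v).2
    · intro hw
      refine ⟨⟨⟨_, hw⟩, w.2⟩, (f ⁻¹ᵁ U').ι.isOpenEmbedding.injective ?_⟩
      exact congr($(morphismRestrict_ι (W i).ι (f ⁻¹ᵁ U')) ⟨⟨_, hw⟩, w.2⟩)
  refine Groth.L28.EtaleStrata.isFinite_of_clopen_cover (f ∣_ U') A (fun i => ?_) (fun w => ?_) (fun i => ?_)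
  · rw [← closure_subset_iff_isClosed]
    intro w hw
    have hw1 : (f ⁻¹ᵁ U').ι w ∈ closure (W i : Set X) :=
      closure_mono (by rintro _ ⟨v, hv, rfl⟩; exact (hA i v).1 hv)
        (image_closure_subset_closure_image (f ⁻¹ᵁ U').ι.continuous ⟨w, hw, rfl⟩)
    by_contra hwi
    replace hwi : (f ⁻¹ᵁ U').ι w ∉ W i := fun h => hwi ((hA i w).2 h)
    obtain ⟨j, hj⟩ := hcov _ (inf_le_left (a := U) w.2)
    refine hnot _ w.2 (Or.inr (Set.mem_iUnion.2 ⟨(j, i), _, ⟨_, ⟨⟨_, hj⟩, ⟨?_, hwi⟩, rfl⟩, rfl⟩, ?_⟩))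
    · rw [← (W j).ι.isOpenEmbedding.isOpenMap.preimage_closure_eq_closure_preimage (W j).ι.continuous]
      exact hw1
    · exact (congr($(he j) ⟨_, hj⟩)).symm
  · obtain ⟨i, hi⟩ := hcov ((f ⁻¹ᵁ U').ι w) (inf_le_left (a := U) w.2)
    exact ⟨i, (hA i w).2 hi⟩
  · haveI := hg i
    haveI := hq i
    refine isFinite_piece f (inf_le_left (a := U)) (W i) (g i) (q i) (he i) fun z hz hzU => ?_
    by_contra hzr
    exact hnot _ hzU (Or.inl (Set.mem_iUnion.2 ⟨i, _, ⟨z, ⟨hz, hzr⟩, rfl⟩, rfl⟩))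

theorem exists_dense_isFinite {X Y : Scheme.{u}} (f : X ⟶ Y) [LocallyQuasiFinite f] [LocallyOfFiniteType f]
    [QuasiCompact f] : ∃ U : Y.Opens, Dense (U : Set Y) ∧ IsFinite (f ∣_ U) := by
  let U : Y.Opens := ⨆ i : {U' : Y.Opens // IsFinite (f ∣_ U')}, i.1
  refine ⟨U, dense_iff_inter_open.2 fun O hO hne => ?_, ?_⟩
  · obtain ⟨U', hle, ⟨y, hy⟩, hfin⟩ := exists_isFinite_of_open f ⟨O, hO⟩ hne
    exact ⟨y, hle hy, Opens.mem_iSup.2 ⟨⟨U', hfin⟩, hy⟩⟩
  · refine IsZariskiLocalAtTarget.of_iSup_eq_top (fun i : {U' : Y.Opens // IsFinite (f ∣_ U')} => U.ι ⁻¹ᵁ i.1)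
      (eq_top_iff.2 fun z _ => ?_) fun i => ?_
    · obtain ⟨i, hi⟩ := Opens.mem_iSup.1 z.2
      exact Opens.mem_iSup.2 ⟨i, hi⟩
    · have e : U.ι ''ᵁ (U.ι ⁻¹ᵁ i.1) = i.1 := by
        rw [Scheme.Hom.image_preimage_eq_opensRange_inf, Scheme.Opens.opensRange_ι]
        exact inf_eq_right.2 (le_iSup (fun i : {U' : Y.Opens // IsFinite (f ∣_ U')} => i.1) i)
      rw [MorphismProperty.arrow_mk_iso_iff @IsFinite
        (morphismRestrictRestrict f U (U.ι ⁻¹ᵁ i.1) ≪≫ morphismRestrictEq f e)]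
      exact i.2

end Groth.L06.QFDenseFinite
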