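import Groth.Prelude.Def_SGA1
import Groth.Prelude.Def_CAlg2
import Groth.Agent.S1454
import Groth.Agent.S13731
import Mathlib.AlgebraicGeometry.Morphisms.UniversallyOpen
import Mathlib.AlgebraicGeometry.Limits

/-! qfh coverings of a geometrically unibranch Noetherian scheme. -/

set_option autoImplicit false
set_option linter.style.haveILetI false

universe u

open CategoryTheory CategoryTheory.Limits AlgebraicGeometry

noncomputable section

namespace Groth.L06.QfhUnibranch

theorem univSubmersive_of_open_surjective {X Y : Scheme.{u}} (f : X ⟶ Y) [UniversallyOpen f] [Surjective f] :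
    SGA1.UnivSubmersive f := by
  intro X' Y' i₁ i₂ f' h
  haveI : UniversallyOpen f' := MorphismProperty.of_isPullback h.flip inferInstance
  haveI : Surjective f' := MorphismProperty.of_isPullback h.flip inferInstance
  exact f'.isOpenMap.isQuotientMap f'.continuous f'.surjective

theorem univSubmersive_of_comp {X Y Z : Scheme.{u}} (h : X ⟶ Y) (f : Y ⟶ Z)
    (hf : SGA1.UnivSubmersive (h ≫ f)) : SGA1.UnivSubmersive f := by
  intro Y' Z' i₁ i₂ f' sq
  have := hf _ i₂ (pullback.fst i₁ h ≫ f') ((IsPullback.of_hasPullback i₁ h).paste_horiz sq)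
  exact Topology.IsQuotientMap.of_comp (pullback.fst i₁ h).continuous f'.continuous this

theorem main {X : Scheme.{u}} [IsNoetherian X] [X.IsSeparated] [IrreducibleSpace ↥X]
    (hX : ∀ x : X, CAlg2.IsGeomUnibranch (X.presheaf.stalk x)) (E : PreZeroHypercover.{u} X) [Finite E.I₀]
    [∀ i, LocallyOfFiniteType (E.f i)] [∀ i, QuasiCompact (E.f i)] [∀ i, LocallyQuasiFinite (E.f i)]
    [∀ i, IsSeparated (E.f i)] [∀ i, IrreducibleSpace ↥(E.X i)] :
    (SGA1.UnivSubmersive (Sigma.desc E.f) ↔ ∀ x : X, ∃ (i : E.I₀) (u : E.X i), IsDominant (E.f i) ∧ E.f i u = x) ∧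
      ((∀ x : X, ∃ (i : E.I₀) (u : E.X i), IsDominant (E.f i) ∧ E.f i u = x) →
        SGA1.UnivSubmersive (Sigma.desc fun j : {i : E.I₀ // IsDominant (E.f i)} => E.f j.1)) := by
  have hD : (∀ x : X, ∃ (i : E.I₀) (u : E.X i), IsDominant (E.f i) ∧ E.f i u = x) →
      SGA1.UnivSubmersive (Sigma.desc fun j : {i : E.I₀ // IsDominant (E.f i)} => E.f j.1) := by
    intro h
    haveI : ∀ j : {i : E.I₀ // IsDominant (E.f i)}, UniversallyOpen (E.f j.1) := fun j => by
      refine Groth.Agent.S1454.result (E.f j.1) hX fun Z hZ x hx => ⟨Set.univ, ?_, ?_⟩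
      · rw [irreducibleComponents_eq_singleton]
        rfl
      · haveI := j.2
        have hZu : Z = Set.univ := by
          rw [irreducibleComponents_eq_singleton] at hZ
          exact hZ
        subst hZu
        have h1 := hx.image (E.f j.1).continuous
        rwa [Set.image_univ, (E.f j.1).denseRange.closure_range] at h1
    haveI : UniversallyOpen (Sigma.desc fun j : {i : E.I₀ // IsDominant (E.f i)} => E.f j.1) :=
      IsZariskiLocalAtSource.sigmaDesc inferInstance
    haveI : Surjective (Sigma.desc fun j : {i : E.I₀ // IsDominant (E.f i)} => E.f j.1) := ⟨fun x => by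
      obtain ⟨i, u, hi, hu⟩ := h x
      refine ⟨Sigma.ι (fun j : {i : E.I₀ // IsDominant (E.f i)} => E.X j.1) ⟨i, hi⟩ u, ?_⟩
      rw [← Scheme.Hom.comp_apply, Sigma.ι_desc]
      exact hu⟩
    exact univSubmersive_of_open_surjective _
  refine ⟨⟨fun hE x => ?_, fun h => ?_⟩, hD⟩
  · obtain ⟨i, ξ, u, -, hu, hc⟩ := Groth.Agent.S13731.result E hE x
    refine ⟨i, u, ⟨?_⟩, hu⟩
    rw [irreducibleComponents_eq_singleton, Set.mem_singleton_iff] at hc
    rw [DenseRange, dense_iff_closure_eq]
    exact top_unique (hc.ge.trans (closure_mono (Set.singleton_subset_iff.2 ⟨ξ, rfl⟩)))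
  · refine univSubmersive_of_comp
      (Sigma.map' (f := fun j : {i : E.I₀ // IsDominant (E.f i)} => E.X j.1) (g := E.X) Subtype.val fun j => 𝟙 _) _ ?_
    convert hD h using 1
    ext j : 1
    simp

end Groth.L06.QfhUnibranch
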