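import Groth.Agent.L01.AusBuch
import Groth.Agent.L04.RegularPd
import Groth.Agent.L04.SupportSh.DepthStalk
import Groth.Agent.L07.EquidimPoint
import Groth.Agent.L07.RegularLCI
import Groth.Agent.L22.SchemeDim
import Groth.Agent.L16.CohSupport
import Groth.Agent.L06.SupportStalk
import Mathlib.RingTheory.RegularLocalRing.Defs
import Mathlib.AlgebraicGeometry.Noetherian

/-! Rectified depth on regular biequidimensional schemes. -/

set_option autoImplicit false
set_option maxSynthPendingDepth 3
set_option backward.isDefEq.respectTransparency.types false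
set_option backward.isDefEq.respectTransparency false
set_option linter.style.haveILetI false
universe u

open CategoryTheory AlgebraicGeometry TopologicalSpace Topology

namespace Groth.L06.RectDepth

section Local

variable {R : Type u} [CommRing R] [IsRegularLocalRing R] (M : Type u) [AddCommGroup M] [Module R M]
  [Module.Finite R M]

theorem depth_subsingleton [Subsingleton M] : LocCoh.depth R M = ⊤ :=
  Groth.L04.idealDepth_eq_top (Subsingleton.elim _ _)

theorem exists_pd [Nontrivial M] {d : ℕ} (hd : ringKrullDim R = d) :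
    ∃ e k : ℕ, projectiveDimension (ModuleCat.of R M) = e ∧ LocCoh.depth R M = k ∧ e + k = d := by
  have h1 := (projectiveDimension_le_iff _ d).2
    (Groth.L04.hasProjectiveDimensionLE_of_regularLocal hd (ModuleCat.of R M))
  have h2 : projectiveDimension (ModuleCat.of R M) ≠ ⊥ := fun h => by
    have h3 := (projectiveDimension_eq_bot_iff _).1 h
    exact not_nontrivial_iff_subsingleton.2 (ModuleCat.subsingleton_of_isZero h3) ‹_›
  obtain ⟨e, he⟩ : ∃ e : ℕ, projectiveDimension (ModuleCat.of R M) = e := by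
    revert h1 h2
    generalize projectiveDimension (ModuleCat.of R M) = P
    intro h1 h2
    induction P using WithBot.recBotCoe with
    | bot => exact absurd rfl h2
    | coe P =>
      induction P using ENat.recTopCoe with
      | top => exact absurd (show (⊤ : ℕ∞) ≤ d by exact_mod_cast h1) (by simp)
      | coe e => exact ⟨e, rfl⟩
  have hab := Groth.L01.AusBuch.auslander_buchsbaum M he
  have hRR : LocCoh.depth R R = d := by
    have h := (Groth.L04.isCohenMacaulayLocalRing_of_regular R).supportDim_eq_depth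
    rw [Module.supportDim_self_eq_ringKrullDim, hd] at h
    exact_mod_cast h.symm
  rw [hRR] at hab
  revert hab
  generalize LocCoh.depth R M = k
  intro hab
  induction k using ENat.recTopCoe with
  | top => simp at hab
  | coe k => exact ⟨e, k, he, rfl, by exact_mod_cast hab.symm⟩

theorem pd_le_iff {d : ℕ} (hd : ringKrullDim R = d) (t : ℕ) :
    HasProjectiveDimensionLE (ModuleCat.of R M) t ↔ (d : ℕ∞) ≤ (t : ℕ∞) + LocCoh.depth R M := by
  refine ⟨fun h => ?_, Groth.L04.hasProjectiveDimensionLE_of_dim_le_add_depth M hd⟩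
  rcases subsingleton_or_nontrivial M with hM | hM
  · simp [depth_subsingleton M]
  obtain ⟨e, k, he, hk, hek⟩ := exists_pd M hd
  have h1 := (projectiveDimension_le_iff _ t).2 h
  rw [he] at h1
  rw [hk]
  have h2 : e ≤ t := by exact_mod_cast h1
  exact_mod_cast (by omega : d ≤ t + k)

end Local

variable {X : Scheme.{u}} [IsNoetherian X]

theorem dim_data (hreg : ∀ x : X, IsRegularLocalRing ↑(X.presheaf.stalk x))
    (hfin : topologicalKrullDim X < ⊤)
    (hcomp : ∀ C ∈ irreducibleComponents (X : Type u), topologicalKrullDim ↥C = topologicalKrullDim X)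
    (hchain : ∀ (y : X) (T : Set X), IsClosed T → IsIrreducible T → y ∈ T →
      topologicalKrullDim ↥T = topologicalKrullDim ↥(closure ({y} : Set X)) + topologicalKrullDim ↥{t : X | t ∈ T ∧ t ⤳ y})
    (x : X) :
    ∃ c d : ℕ, topologicalKrullDim ↥(closure ({x} : Set X)) = (c : WithBot ℕ∞) ∧
      ringKrullDim (X.presheaf.stalk x) = (d : WithBot ℕ∞) ∧
      topologicalKrullDim X = ((c + d : ℕ) : WithBot ℕ∞) := by
  haveI := hreg x
  let T := irreducibleComponent x
  have hT : T ∈ irreducibleComponents (X : Type u) := irreducibleComponent_mem_irreducibleComponents x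
  have hTc : IsClosed T := isClosed_irreducibleComponent
  have hTi : IsIrreducible T := isIrreducible_irreducibleComponent
  have hxT : x ∈ T := mem_irreducibleComponent
  have hη := hTi.isGenericPoint_genericPoint hTc
  obtain ⟨Q, hQ⟩ : ∃ Q : PrimeSpectrum (X.presheaf.stalk x), X.fromSpecStalk x Q = hTi.genericPoint := by
    change hTi.genericPoint ∈ Set.range (X.fromSpecStalk x)
    rw [Scheme.range_fromSpecStalk]; exact hη.specializes hxT
  have hQmin : ∀ Q', Q' ≤ Q → Q' = Q := by
    rw [Groth.L07.EquidimPoint.minimal_stalk_iff, hQ]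
    intro ζ hζ
    have h1 : T ⊆ closure {ζ} := hη.def.symm.subset.trans
      (closure_minimal (Set.singleton_subset_iff.2 hζ.mem_closure) isClosed_closure)
    have h2 : closure {ζ} ⊆ T := hT.2 isIrreducible_singleton.closure h1
    exact IsGenericPoint.eq (S := T) (Set.Subset.antisymm h2 h1) hη
  haveI : IsDomain (X.presheaf.stalk x) := Groth.L01.isDomain_of_regular _
  have hQbot : ∀ P, Q ≤ P := fun P => by
    have h := hQmin ⟨⊥, Ideal.isPrime_bot⟩ (bot_le (a := Q.asIdeal))
    rw [← h]; exact (bot_le (a := P.asIdeal))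
  have hgens : topologicalKrullDim ↥{t : X | t ∈ T ∧ t ⤳ x} = ringKrullDim (X.presheaf.stalk x) := by
    rw [← PrimeSpectrum.topologicalKrullDim_eq_ringKrullDim]
    refine Groth.L22.SchemeDim.topologicalKrullDim_eq_of_isEmbedding (X.fromSpecStalk x).isEmbedding (Set.ext fun t => ⟨?_, fun ht => ?_⟩)
    · rintro ⟨P, rfl⟩
      refine ⟨?_, Groth.L07.EquidimPoint.specializes_point x P⟩
      have h := (Groth.L07.EquidimPoint.le_iff_specializes' x Q P).mp (hQbot P)
      rw [hQ] at h
      exact h.mem_closed hTc hη.mem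
    · rw [Scheme.range_fromSpecStalk]; exact ht.2
  have h := hchain x T hTc hTi hxT
  rw [hcomp T hT, hgens] at h
  haveI : Nonempty ↥(closure ({x} : Set X)) := ⟨⟨x, subset_closure rfl⟩⟩
  haveI : Nonempty (IrreducibleCloseds ↥(closure ({x} : Set X))) :=
    ⟨⟨closure {⟨x, subset_closure rfl⟩}, isIrreducible_singleton.closure, isClosed_closure⟩⟩
  have hc : 0 ≤ topologicalKrullDim ↥(closure ({x} : Set X)) := Order.krullDim_nonneg
  have hd : 0 ≤ ringKrullDim (X.presheaf.stalk x) := ringKrullDim_nonneg_of_nontrivial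
  rw [h] at hfin
  revert h hc hd hfin
  generalize topologicalKrullDim ↥(closure ({x} : Set X)) = c
  generalize ringKrullDim (X.presheaf.stalk x) = d
  intro hfin h hc hd
  induction c using WithBot.recBotCoe with
  | bot => simp at hc
  | coe c =>
    induction d using WithBot.recBotCoe with
    | bot => simp at hd
    | coe d =>
      rw [← WithBot.coe_add, ← WithBot.coe_top, WithBot.coe_lt_coe] at hfin
      induction c using ENat.recTopCoe with
      | top => simp at hfin
      | coe c =>
        induction d using ENat.recTopCoe with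
        | top => simp at hfin
        | coe d => exact ⟨c, d, rfl, rfl, h.trans (by norm_cast)⟩

theorem nontrivial_of_mem {F : X.Modules} {x : X} (hx : x ∈ CohB1.support F) :
    Nontrivial (F.presheaf.stalk x) := not_subsingleton_iff_nontrivial.1 hx

theorem add_eq (hreg : ∀ x : X, IsRegularLocalRing ↑(X.presheaf.stalk x))
    (hfin : topologicalKrullDim X < ⊤)
    (hcomp : ∀ C ∈ irreducibleComponents (X : Type u), topologicalKrullDim ↥C = topologicalKrullDim X)
    (hchain : ∀ (y : X) (T : Set X), IsClosed T → IsIrreducible T → y ∈ T →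
      topologicalKrullDim ↥T = topologicalKrullDim ↥(closure ({y} : Set X)) + topologicalKrullDim ↥{t : X | t ∈ T ∧ t ⤳ y})
    (F : X.Modules) (hF : Coh.IsCoh F) (x : X) (hx : x ∈ CohB1.support F) :
    ((LocCoh.depth ↑(X.presheaf.stalk x) ↑(F.presheaf.stalk x) : ℕ∞) : WithBot ℕ∞) +
        topologicalKrullDim ↥(closure ({x} : Set X)) +
        projectiveDimension (ModuleCat.of ↑(X.presheaf.stalk x) ↑(F.presheaf.stalk x)) =
      topologicalKrullDim X := by
  haveI := hreg x
  haveI := SupportStalk.finite_stalk F hF x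
  haveI := nontrivial_of_mem hx
  obtain ⟨c, d, hc, hd, hD⟩ := dim_data hreg hfin hcomp hchain x
  obtain ⟨e, k, he, hk, hek⟩ := exists_pd (R := X.presheaf.stalk x) (F.presheaf.stalk x) hd
  rw [hc, hD, hk]
  erw [he]
  norm_cast
  omega

theorem isOpen_le (hreg : ∀ x : X, IsRegularLocalRing ↑(X.presheaf.stalk x))
    (hfin : topologicalKrullDim X < ⊤)
    (hcomp : ∀ C ∈ irreducibleComponents (X : Type u), topologicalKrullDim ↥C = topologicalKrullDim X)
    (hchain : ∀ (y : X) (T : Set X), IsClosed T → IsIrreducible T → y ∈ T →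
      topologicalKrullDim ↥T = topologicalKrullDim ↥(closure ({y} : Set X)) + topologicalKrullDim ↥{t : X | t ∈ T ∧ t ⤳ y})
    (F : X.Modules) (hF : Coh.IsCoh F) (n : ℕ) :
    IsOpen {x : X | (n : WithBot ℕ∞) ≤
      ((LocCoh.depth ↑(X.presheaf.stalk x) ↑(F.presheaf.stalk x) : ℕ∞) : WithBot ℕ∞) +
        topologicalKrullDim ↥(closure ({x} : Set X))} := by
  set S := {x : X | (n : WithBot ℕ∞) ≤
    ((LocCoh.depth ↑(X.presheaf.stalk x) ↑(F.presheaf.stalk x) : ℕ∞) : WithBot ℕ∞) +
      topologicalKrullDim ↥(closure ({x} : Set X))} with hS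
  rcases isEmpty_or_nonempty X with hX | ⟨⟨x₀⟩⟩
  · rw [Set.eq_empty_of_isEmpty S]; exact isOpen_empty
  obtain ⟨D, hD⟩ : ∃ D : ℕ, topologicalKrullDim X = (D : WithBot ℕ∞) := by
    obtain ⟨c, d, -, -, h⟩ := dim_data hreg hfin hcomp hchain x₀
    exact ⟨c + d, h⟩
  have key : ∀ x : X, ∃ d : ℕ, d ≤ D ∧ ringKrullDim (X.presheaf.stalk x) = (d : WithBot ℕ∞) ∧
      (x ∈ S ↔ (n : ℕ∞) + d ≤ LocCoh.depth (X.presheaf.stalk x) (F.presheaf.stalk x) + D) := fun x => by
    obtain ⟨c, d, hc, hd, h⟩ := dim_data hreg hfin hcomp hchain x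
    rw [hD] at h
    have h' : D = c + d := by exact_mod_cast h
    refine ⟨d, by omega, hd, ?_⟩
    change (n : WithBot ℕ∞) ≤ _ + topologicalKrullDim ↥(closure ({x} : Set X)) ↔ _
    rw [hc]
    generalize LocCoh.depth (X.presheaf.stalk x) (F.presheaf.stalk x) = k
    induction k using ENat.recTopCoe with
    | top =>
      refine iff_of_true ?_ (by simp)
      rw [show (c : WithBot ℕ∞) = ((c : ℕ∞) : WithBot ℕ∞) from rfl, ← WithBot.coe_add, top_add]
      exact WithBot.coe_le_coe.2 le_top
    | coe k =>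
      norm_cast
      omega
  rcases Nat.lt_or_ge D n with hn | hn
  · have hSe : S = (CohB1.support F)ᶜ := by
      ext x
      haveI := hreg x
      haveI := SupportStalk.finite_stalk F hF x
      obtain ⟨d, hdD, hd, hiff⟩ := key x
      rw [hiff]
      constructor
      · intro h hx
        haveI := nontrivial_of_mem hx
        obtain ⟨e, k, -, hk, hek⟩ := exists_pd (R := X.presheaf.stalk x) (F.presheaf.stalk x) hd
        rw [hk] at h
        have h' : n + d ≤ k + D := by exact_mod_cast h
        omega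
      · intro hx
        haveI : Subsingleton (F.presheaf.stalk x) := not_not.1 hx
        simp [depth_subsingleton (R := X.presheaf.stalk x) (F.presheaf.stalk x)]
    rw [hSe]
    exact (Groth.L16.CohSupport.isClosed_support F hF.2).isOpen_compl
  refine isOpen_iff_forall_mem_open.2 fun x₁ hx₁ => ?_
  obtain ⟨V, hV, hxV, -⟩ := exists_isAffineOpen_mem_and_subset (TopologicalSpace.Opens.mem_top x₁)
  haveI : Coh.IsQCoh F := hF.1
  haveI : IsNoetherianRing Γ(X, V) := IsLocallyNoetherian.component_noetherian ⟨V, hV⟩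
  haveI : IsRegularRing Γ(X, V) := Groth.L07.KoszulChart.isRegularRing_sections hreg hV
  haveI : Module.Finite Γ(X, V) Γ(F, V) := Groth.L20.ModStalk.finite_sections F hF hV
  let O := {p : PrimeSpectrum Γ(X, V) | HasProjectiveDimensionLE
    (ModuleCat.of (Localization.AtPrime p.asIdeal) (LocalizedModule p.asIdeal.primeCompl Γ(F, V))) (D - n)}
  have hO : IsOpen O := Groth.L04.isOpen_pdLE Γ(F, V) (D - n)
  have hmem : ∀ (x : X) (hx : x ∈ V), x ∈ S ↔ hV.primeIdealOf ⟨x, hx⟩ ∈ O := fun x hx => by
    obtain ⟨d, hdD, hd, hiff⟩ := key x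
    haveI : IsRegularLocalRing (Localization.AtPrime (hV.primeIdealOf ⟨x, hx⟩).asIdeal) :=
      IsRegularRing.isRegularLocalRing_localization _
    have hd' : ringKrullDim (Localization.AtPrime (hV.primeIdealOf ⟨x, hx⟩).asIdeal) = (d : WithBot ℕ∞) := by
      letI := X.presheaf.algebra_section_stalk ⟨x, hx⟩
      haveI := hV.isLocalization_stalk ⟨x, hx⟩
      rw [← hd]
      exact ringKrullDim_eq_of_ringEquiv
        (IsLocalization.algEquiv (hV.primeIdealOf ⟨x, hx⟩).asIdeal.primeCompl _ _).toRingEquiv
    rw [hiff, Groth.L04.SupportSh.depth_stalk_eq F hF hV hx]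
    change _ ↔ HasProjectiveDimensionLE _ (D - n)
    rw [pd_le_iff _ hd']
    generalize LocCoh.depth (Localization.AtPrime (hV.primeIdealOf ⟨x, hx⟩).asIdeal)
      (LocalizedModule (hV.primeIdealOf ⟨x, hx⟩).asIdeal.primeCompl Γ(F, V)) = k
    induction k using ENat.recTopCoe with
    | top => simp
    | coe k =>
      norm_cast
      omega
  refine ⟨hV.fromSpec '' O, ?_, hV.fromSpec.isOpenEmbedding.isOpenMap _ hO,
    ⟨hV.primeIdealOf ⟨x₁, hxV⟩, (hmem x₁ hxV).1 hx₁, hV.fromSpec_primeIdealOf _⟩⟩
  rintro _ ⟨p, hp, rfl⟩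
  have hxp : hV.fromSpec p ∈ V := hV.opensRange_fromSpec.le ⟨p, rfl⟩
  refine (hmem _ hxp).2 ?_
  have : hV.primeIdealOf ⟨hV.fromSpec p, hxp⟩ = p :=
    hV.fromSpec.isOpenEmbedding.injective (hV.fromSpec_primeIdealOf _)
  rw [this]
  exact hp

end Groth.L06.RectDepth
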