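import Groth.Agent.L06.RectDepth
import Groth.Agent.L06.DimLftJacobson
import Groth.Agent.L04.Depth2
import Groth.Agent.L07.DimToolkit
import Mathlib.RingTheory.RegularLocalRing.Polynomial
import Mathlib.RingTheory.FiniteType
import Mathlib.RingTheory.Localization.AtPrime.Basic
import Mathlib.AlgebraicGeometry.Morphisms.FiniteType

/-! Rectified depth on schemes locally of finite type over a regular Jacobson scheme. -/

set_option autoImplicit false
set_option maxSynthPendingDepth 3
set_option backward.isDefEq.respectTransparency.types false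
set_option backward.isDefEq.respectTransparency false
set_option linter.style.haveILetI false
universe u

open CategoryTheory AlgebraicGeometry TopologicalSpace Topology

namespace Groth.L06.RectDepthJacobson

open Groth.L07.DimToolkit Groth.L07.Equidim Groth.L22 IsLocalRing

/-- The depth of a localization does not see a surjection of the ground ring. -/
theorem depth_localization_surjective {B R : Type u} [CommRing B] [CommRing R] [IsNoetherianRing B]
    [Algebra B R] (hs : Function.Surjective (algebraMap B R)) (M : Type u) [AddCommGroup M] [Module B M]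
    [Module R M] [IsScalarTower B R M] [Module.Finite R M] (p : Ideal R) [p.IsPrime] :
    LocCoh.depth (Localization.AtPrime p) (LocalizedModule p.primeCompl M) =
      LocCoh.depth (Localization.AtPrime (p.comap (algebraMap B R)))
        (LocalizedModule (p.comap (algebraMap B R)).primeCompl M) := by
  let q := p.comap (algebraMap B R)
  let ψ : Localization.AtPrime q →+* Localization.AtPrime p :=
    Localization.localRingHom q p (algebraMap B R) rfl
  letI : Algebra (Localization.AtPrime q) (Localization.AtPrime p) := ψ.toAlgebra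
  have hψ : Function.Surjective ψ := fun z => by
    obtain ⟨r, ⟨s, hs'⟩, rfl⟩ := IsLocalization.exists_mk'_eq p.primeCompl z
    obtain ⟨b, rfl⟩ := hs r
    obtain ⟨t, rfl⟩ := hs s
    exact ⟨IsLocalization.mk' _ b (⟨t, hs'⟩ : q.primeCompl), Localization.localRingHom_mk' _ _ _ _ _ _⟩
  haveI : Module.Finite (Localization.AtPrime q) (Localization.AtPrime p) :=
    Module.Finite.of_surjective (Algebra.linearMap _ _) hψ
  haveI : Module.Finite B R := Module.Finite.of_surjective (Algebra.linearMap _ _) hs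
  haveI : Module.Finite B M := Module.Finite.trans R M
  letI : Module (Localization.AtPrime q) (LocalizedModule p.primeCompl M) := Module.compHom _ ψ
  haveI : IsScalarTower (Localization.AtPrime q) (Localization.AtPrime p) (LocalizedModule p.primeCompl M) :=
    IsScalarTower.of_algebraMap_smul fun _ _ => rfl
  have hψa : ∀ b : B, ψ (algebraMap B _ b) = algebraMap R _ (algebraMap B R b) := fun b =>
    Localization.localRingHom_to_map _ _ _ _ b
  have hsm : ∀ (b : B) (m : LocalizedModule p.primeCompl M), b • m = algebraMap B R b • m := fun b m =>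
    (IsScalarTower.algebraMap_smul R b m).symm
  haveI : IsScalarTower B (Localization.AtPrime q) (LocalizedModule p.primeCompl M) :=
    IsScalarTower.of_algebraMap_smul fun b m => by
      show ψ (algebraMap B _ b) • m = b • m
      rw [hψa, IsScalarTower.algebraMap_smul, hsm]
  let f : M →ₗ[B] LocalizedModule p.primeCompl M := (LocalizedModule.mkLinearMap p.primeCompl M).restrictScalars B
  haveI hf : IsLocalizedModule q.primeCompl f := by
    have h := (inferInstance : IsLocalizedModule p.primeCompl (LocalizedModule.mkLinearMap p.primeCompl M))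
    refine ⟨fun b => ?_, fun y => ?_, fun {x₁ x₂} e => ?_⟩
    · rw [Module.End.isUnit_iff]
      have hb := (Module.End.isUnit_iff _).1 (h.map_units (⟨algebraMap B R b.1, b.2⟩ : p.primeCompl))
      have e : ∀ y : LocalizedModule p.primeCompl M,
          algebraMap B (Module.End B (LocalizedModule p.primeCompl M)) b.1 y =
          algebraMap R (Module.End R (LocalizedModule p.primeCompl M)) (algebraMap B R b.1) y := fun y => by
        rw [Module.algebraMap_end_apply, Module.algebraMap_end_apply, hsm]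
      exact ⟨fun y₁ y₂ hy => hb.1 (by rw [← e, ← e]; exact hy), fun y => by
        obtain ⟨z, hz⟩ := hb.2 y
        exact ⟨z, (e z).trans hz⟩⟩
    · obtain ⟨⟨m, ⟨s, hs'⟩⟩, hy⟩ := h.surj y
      obtain ⟨t, rfl⟩ := hs s
      exact ⟨(m, ⟨t, hs'⟩), by rw [Submonoid.smul_def] at hy ⊢; rw [hsm]; exact hy⟩
    · obtain ⟨⟨s, hs'⟩, hc⟩ := h.exists_of_eq e
      obtain ⟨t, rfl⟩ := hs s
      refine ⟨⟨t, hs'⟩, ?_⟩
      show t • x₁ = t • x₂
      rw [← IsScalarTower.algebraMap_smul R t x₁, ← IsScalarTower.algebraMap_smul R t x₂]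
      exact hc
  have he : LocCoh.idealDepth (maximalIdeal (Localization.AtPrime q)) (LocalizedModule q.primeCompl M) =
      LocCoh.idealDepth (maximalIdeal (Localization.AtPrime q)) (LocalizedModule p.primeCompl M) :=
    Groth.L04.idealDepth_congr (LinearEquiv.extendScalarsOfIsLocalization q.primeCompl (Localization.AtPrime q)
      (IsLocalizedModule.iso q.primeCompl f))
  haveI : Module.Finite (Localization.AtPrime p) (LocalizedModule p.primeCompl M) := inferInstance
  show LocCoh.idealDepth (maximalIdeal (Localization.AtPrime p)) (LocalizedModule p.primeCompl M) =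
    LocCoh.idealDepth (maximalIdeal (Localization.AtPrime q)) (LocalizedModule q.primeCompl M)
  rw [he, Groth.L04.idealDepth_eq_idealDepth_map_of_finite (B := Localization.AtPrime p)
    (maximalIdeal (Localization.AtPrime q)) (LocalizedModule p.primeCompl M)]
  congr 1
  refine ((Ideal.map_eq_top_or_isMaximal_of_surjective (algebraMap (Localization.AtPrime q) (Localization.AtPrime p))
    hψ (maximalIdeal.isMaximal _)).elim (fun h => ?_) (fun h => IsLocalRing.eq_maximalIdeal h)).symm
  have hle : (maximalIdeal (Localization.AtPrime q)).map ψ ≤ maximalIdeal (Localization.AtPrime p) := by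
    rw [Ideal.map_le_iff_le_comap]
    intro r hr
    exact fun hu => hr (isUnit_of_map_unit ψ r hu)
  exact absurd (top_le_iff.mp (h ▸ hle)) (maximalIdeal.isMaximal _).ne_top

variable {X S : Scheme.{u}} [IsLocallyNoetherian S] [JacobsonSpace S]
    (hreg : ∀ s : S, IsRegularLocalRing ↑(S.presheaf.stalk s))
    (h3 : ∀ S' ∈ irreducibleComponents (S : Type u), ∀ s ∈ S', IsClosed ({s} : Set S) →
      topologicalKrullDim (↥S' : Type u) = topologicalKrullDim ↥{t : S | t ∈ S' ∧ t ⤳ s})
    (g : X ⟶ S) [LocallyOfFiniteType g] (F : X.Modules) (hF : Coh.IsCoh F)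

/-- The rectified depth. -/
noncomputable abbrev rd (x : X) : WithBot ℕ∞ :=
  ((LocCoh.depth ↑(X.presheaf.stalk x) ↑(F.presheaf.stalk x) : ℕ∞) : WithBot ℕ∞) +
    topologicalKrullDim ↥(closure ({x} : Set X))

include g hF in
theorem depth_eq_top_iff (x : X) :
    LocCoh.depth (X.presheaf.stalk x) (F.presheaf.stalk x) = ⊤ ↔ x ∉ CohB1.support F := by
  haveI : IsLocallyNoetherian X := LocallyOfFiniteType.isLocallyNoetherian g
  haveI := SupportStalk.finite_stalk F hF x
  constructor
  · intro h hx
    haveI : Nontrivial (F.presheaf.stalk x) := not_subsingleton_iff_nontrivial.1 hx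
    refine Groth.L04.idealDepth_ne_top (I := maximalIdeal (X.presheaf.stalk x)) (M := F.presheaf.stalk x) ?_ h
    exact Groth.L04.smul_top_ne_top_of_nontrivial (maximalIdeal.isMaximal _).ne_top
  · intro hx
    haveI : Subsingleton (F.presheaf.stalk x) := not_not.1 hx
    exact Groth.L04.idealDepth_eq_top (Subsingleton.elim _ _)

include hreg h3 g hF in
theorem isOpen_le (n : ℕ) : IsOpen {x : X | (n : WithBot ℕ∞) ≤ rd F x} := by
  haveI : IsLocallyNoetherian X := LocallyOfFiniteType.isLocallyNoetherian g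
  have h2 : ∀ s : S, CAlg.IsUniversallyCatenary (S.presheaf.stalk s) := fun s =>
    haveI := hreg s
    DimLftJacobson.isUniversallyCatenary_of_regularLocal _
  haveI : Coh.IsQCoh F := hF.1
  refine isOpen_iff_forall_mem_open.2 fun x₁ hx₁ => ?_
  obtain ⟨V, hV, hxV, -⟩ := exists_isAffineOpen_mem_and_subset (TopologicalSpace.Opens.mem_top (g x₁))
  obtain ⟨U, hU, hxU, hUV⟩ := exists_isAffineOpen_mem_and_subset (show x₁ ∈ g ⁻¹ᵁ V from hxV)
  have hUV' : U ≤ g ⁻¹ᵁ V := hUV
  haveI : IsNoetherianRing Γ(S, V) := IsLocallyNoetherian.component_noetherian ⟨V, hV⟩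
  haveI : IsRegularRing Γ(S, V) := Groth.L07.KoszulChart.isRegularRing_sections hreg hV
  haveI : Module.Finite Γ(X, U) Γ(F, U) := Groth.L20.ModStalk.finite_sections F hF hU
  letI : Algebra Γ(S, V) Γ(X, U) := (g.appLE V U hUV').hom.toAlgebra
  haveI : Algebra.FiniteType Γ(S, V) Γ(X, U) := g.finiteType_appLE hV hU hUV'
  obtain ⟨m, φ, hφ⟩ := Algebra.FiniteType.iff_quotient_mvPolynomial''.1 ‹Algebra.FiniteType Γ(S, V) Γ(X, U)›
  let B := MvPolynomial (Fin m) Γ(S, V)
  haveI : IsRegularRing B := inferInstance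
  letI : Algebra B Γ(X, U) := φ.toRingHom.toAlgebra
  letI : Module B Γ(F, U) := Module.compHom _ φ.toRingHom
  haveI : IsScalarTower B Γ(X, U) Γ(F, U) := IsScalarTower.of_algebraMap_smul fun _ _ => rfl
  haveI : Module.Finite B Γ(X, U) := Module.Finite.of_surjective (Algebra.linearMap _ _) hφ
  haveI : Module.Finite B Γ(F, U) := Module.Finite.trans Γ(X, U) Γ(F, U)
  -- the chart
  let P : Scheme.{u} := Spec (CommRingCat.of B)
  let h : P ⟶ S := Spec.map (CommRingCat.ofHom (algebraMap Γ(S, V) B)) ≫ hV.fromSpec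
  haveI : LocallyOfFiniteType (Spec.map (CommRingCat.ofHom (algebraMap Γ(S, V) B))) := by
    rw [HasRingHomProperty.Spec_iff (P := @LocallyOfFiniteType)]
    exact RingHom.finiteType_algebraMap.2 inferInstance
  haveI : LocallyOfFiniteType h := inferInstanceAs (LocallyOfFiniteType (_ ≫ hV.fromSpec))
  haveI : IsLocallyNoetherian P := LocallyOfFiniteType.isLocallyNoetherian h
  let i : (U : Scheme.{u}) ⟶ P := hU.isoSpec.hom ≫ Spec.map (CommRingCat.ofHom φ.toRingHom)
  haveI : IsClosedImmersion (Spec.map (CommRingCat.ofHom φ.toRingHom)) :=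
    IsClosedImmersion.spec_of_surjective _ hφ
  haveI : IsClosedImmersion i := inferInstanceAs (IsClosedImmersion (_ ≫ _))
  have hcomp : i ≫ h = U.ι ≫ g := by
    have hC : CommRingCat.ofHom (algebraMap Γ(S, V) B) ≫ CommRingCat.ofHom φ.toRingHom = g.appLE V U hUV' := by
      ext a
      exact φ.commutes a
    simp only [i, h, Category.assoc]
    rw [← Spec.map_comp_assoc, hC, hV.SpecMap_appLE_fromSpec g hU hUV', IsAffineOpen.isoSpec_hom_fromSpec_assoc]
  let pt : ∀ {x : X}, x ∈ U → P := fun {x} hx =>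
    PrimeSpectrum.comap φ.toRingHom (hU.primeIdealOf ⟨x, hx⟩)
  have hpt : ∀ {x : X} (hx : x ∈ U), i ⟨x, hx⟩ = pt hx := fun {x} hx => rfl
  -- the top component near the point
  let q₁ : P := pt hxU
  obtain ⟨η, hηq, hηmax⟩ := Groth.L07.Equidim.exists_maximal_generization q₁
  obtain ⟨O, hqO, hO⟩ := Groth.L07.Equidim.exists_nhd_maximal q₁
  have hgen : ∀ w ∈ O, ∃ hw : η ⤳ w, ringKrullDim (Cyc.LocQuot w η hw) = ringKrullDim (P.presheaf.stalk w) := by
    intro w hw
    obtain ⟨ξ, hξ, d, hξmax, hd, hd'⟩ := exists_dim_locQuot_eq w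
    have hξη : ξ = η := by
      have h1 := hO ξ (hξ.mem_open O.2 hw) hξmax
      obtain ⟨Q₁, hQ₁⟩ := exists_prime q₁ ξ h1
      obtain ⟨Q₂, hQ₂⟩ := exists_prime q₁ η hηq
      haveI : IsRegularLocalRing (P.presheaf.stalk q₁) := by
        haveI : IsRegularLocalRing (Localization.AtPrime (q₁ : PrimeSpectrum B).asIdeal) :=
          IsRegularRing.isRegularLocalRing_localization _
        exact IsRegularLocalRing.of_ringEquiv (R := Localization.AtPrime (q₁ : PrimeSpectrum B).asIdeal)
          (Spec.stalkIso (CommRingCat.of B) q₁).commRingCatIsoToRingEquiv.symm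
      haveI : IsDomain (P.presheaf.stalk q₁) := Groth.L01.isDomain_of_regular _
      let bot : PrimeSpectrum (P.presheaf.stalk q₁) := ⟨⊥, Ideal.isPrime_bot⟩
      have hmin : ∀ (Q : PrimeSpectrum (P.presheaf.stalk q₁)) (e : P), P.fromSpecStalk q₁ Q = e →
          (∀ v, v ⤳ e → v = e) → e = P.fromSpecStalk q₁ bot := fun Q e hQ hmax => by
        refine (hmax _ ?_).symm
        rw [← hQ]
        exact (Groth.L07.EquidimPoint.le_iff_specializes' q₁ bot Q).mp (bot_le (a := Q.asIdeal))
      rw [hmin Q₁ ξ hQ₁ hξmax, hmin Q₂ η hQ₂ hηmax]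
    subst hξη
    exact ⟨hξ, hd.trans rfl⟩
  obtain ⟨cη, Nη, -, -, hDη⟩ := DimLftJacobson.dim_closure h2 h3 h η
  set D := cη + Nη with hDdef
  have key : ∀ {x : X} (hx : x ∈ U), pt hx ∈ O → ∃ d : ℕ, d ≤ D ∧
      ringKrullDim (Localization.AtPrime (PrimeSpectrum.asIdeal (R := B) (pt hx))) = (d : WithBot ℕ∞) ∧
      topologicalKrullDim ↥(closure ({x} : Set X)) = ((D - d : ℕ) : WithBot ℕ∞) := by
    intro x hx hxO
    obtain ⟨hw, hdim⟩ := hgen _ hxO
    obtain ⟨c₁, N₁, hc₁, hN₁, hcl₁⟩ := DimLftJacobson.dim_closure h2 h3 g x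
    obtain ⟨c₂, N₂, hc₂, hN₂, hcl₂⟩ := DimLftJacobson.dim_closure h2 h3 h (pt hx)
    have hbase : h (pt hx) = g x := by
      rw [← hpt hx]
      exact (congr($(hcomp) ⟨x, hx⟩) :)
    have hc : c₁ = c₂ := by
      rw [hbase, hc₁] at hc₂
      exact_mod_cast hc₂
    have hN : N₁ = N₂ := by
      have e1 := fdim_comp i h (U.ι ≫ g) hcomp ⟨x, hx⟩
      rw [fdim_comp U.ι g (U.ι ≫ g) rfl ⟨x, hx⟩, hpt hx] at e1
      have e2 : fdim g x = fdim h (pt hx) := e1
      rw [hN₁, hN₂] at e2
      exact_mod_cast e2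
    have hadd := DimLftJacobson.dim_closure_add h2 h3 h hw
    rw [hdim, hDη, hcl₂] at hadd
    obtain ⟨d, hd⟩ := exists_nat_dim_stalk (pt hx)
    rw [hd] at hadd
    have hadd' : D = d + (c₂ + N₂) := by exact_mod_cast hadd
    refine ⟨d, by omega, ?_, ?_⟩
    · rw [← hd]
      exact ringKrullDim_eq_of_ringEquiv
        (Spec.stalkIso (CommRingCat.of B) (pt hx)).commRingCatIsoToRingEquiv.symm
    · rw [hcl₁, show D - d = c₁ + N₁ by omega]
  have hdepth : ∀ {x : X} (hx : x ∈ U), LocCoh.depth (X.presheaf.stalk x) (F.presheaf.stalk x) =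
      LocCoh.depth (Localization.AtPrime (PrimeSpectrum.asIdeal (R := B) (pt hx)))
        (LocalizedModule (PrimeSpectrum.asIdeal (R := B) (pt hx)).primeCompl Γ(F, U)) := fun {x} hx => by
    rw [Groth.L04.SupportSh.depth_stalk_eq F hF hU hx]
    exact depth_localization_surjective hφ Γ(F, U) (hU.primeIdealOf ⟨x, hx⟩).asIdeal
  rcases Nat.lt_or_ge D n with hn | hn
  · refine ⟨(CohB1.support F)ᶜ, fun x hx => ?_,
      (Groth.L16.CohSupport.isClosed_support F hF.2).isOpen_compl, ?_⟩
    · show (n : WithBot ℕ∞) ≤ _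
      rw [rd, (depth_eq_top_iff g F hF x).2 hx]
      obtain ⟨c, N, -, -, hcl⟩ := DimLftJacobson.dim_closure h2 h3 g x
      rw [hcl, show ((c + N : ℕ) : WithBot ℕ∞) = (((c + N : ℕ) : ℕ∞) : WithBot ℕ∞) from rfl, ← WithBot.coe_add,
        top_add]
      exact WithBot.coe_le_coe.2 le_top
    · intro hsupp
      obtain ⟨d, hdD, hd, hcl⟩ := key hxU hqO
      haveI : IsRegularLocalRing (Localization.AtPrime (PrimeSpectrum.asIdeal (R := B) q₁)) :=
        IsRegularRing.isRegularLocalRing_localization _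
      have h1 : (n : WithBot ℕ∞) ≤ rd F x₁ := hx₁
      rw [rd, hdepth hxU, hcl] at h1
      rcases subsingleton_or_nontrivial (LocalizedModule (PrimeSpectrum.asIdeal (R := B) q₁).primeCompl Γ(F, U)) with hM | hM
      · have := RectDepth.depth_subsingleton (R := Localization.AtPrime (PrimeSpectrum.asIdeal (R := B) q₁))
          (LocalizedModule (PrimeSpectrum.asIdeal (R := B) q₁).primeCompl Γ(F, U))
        exact (depth_eq_top_iff g F hF x₁).1 ((hdepth hxU).trans this) hsupp
      · obtain ⟨e, k, -, hk, hek⟩ := RectDepth.exists_pd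
          (LocalizedModule (PrimeSpectrum.asIdeal (R := B) q₁).primeCompl Γ(F, U)) hd
        rw [hk] at h1
        obtain ⟨a, ha⟩ : ∃ a, D - d = a := ⟨_, rfl⟩
        rw [ha] at h1
        have h1' : n ≤ k + a := by exact_mod_cast h1
        omega
  let T := {p : PrimeSpectrum B | HasProjectiveDimensionLE
    (ModuleCat.of (Localization.AtPrime p.asIdeal) (LocalizedModule p.asIdeal.primeCompl Γ(F, U))) (D - n)}
  have hT : IsOpen T := Groth.L04.isOpen_pdLE Γ(F, U) (D - n)
  have hmem : ∀ {x : X} (hx : x ∈ U), pt hx ∈ O →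
      ((n : WithBot ℕ∞) ≤ rd F x ↔ (pt hx : PrimeSpectrum B) ∈ T) := fun {x} hx hxO => by
    obtain ⟨d, hdD, hd, hcl⟩ := key hx hxO
    haveI : IsRegularLocalRing (Localization.AtPrime (PrimeSpectrum.asIdeal (R := B) (pt hx))) :=
      IsRegularRing.isRegularLocalRing_localization _
    rw [rd, hdepth hx, hcl]
    change _ ↔ HasProjectiveDimensionLE _ (D - n)
    rw [RectDepth.pd_le_iff _ hd]
    generalize LocCoh.depth (Localization.AtPrime (PrimeSpectrum.asIdeal (R := B) (pt hx)))
      (LocalizedModule (PrimeSpectrum.asIdeal (R := B) (pt hx)).primeCompl Γ(F, U)) = k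
    induction k using ENat.recTopCoe with
    | top =>
      refine iff_of_true ?_ (by simp)
      rw [show ((D - d : ℕ) : WithBot ℕ∞) = (((D - d : ℕ) : ℕ∞) : WithBot ℕ∞) from rfl, ← WithBot.coe_add,
        top_add]
      exact WithBot.coe_le_coe.2 le_top
    | coe k =>
      obtain ⟨a, ha⟩ : ∃ a, D - d = a := ⟨_, rfl⟩
      obtain ⟨b, hb⟩ : ∃ b, D - n = b := ⟨_, rfl⟩
      rw [ha, hb]
      norm_cast
      omega
  refine ⟨U.ι '' (i.base ⁻¹' ((O : Set P) ∩ T)), ?_,
    U.ι.isOpenEmbedding.isOpenMap _ ((O.2.inter hT).preimage i.continuous),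
    ⟨⟨x₁, hxU⟩, ⟨hqO, (hmem hxU hqO).1 hx₁⟩, rfl⟩⟩
  rintro _ ⟨⟨x, hx⟩, ⟨hxO, hxT⟩, rfl⟩
  exact (hmem hx hxO).2 hxT

include hreg h3 g hF in
theorem eq_depth_closed (x : X) (n : ℕ∞) :
    (∃ U : X.Opens, x ∈ U ∧ ∀ x' : ↥U, (x' : X) ∈ closure ({x} : Set X) → IsClosed ({x'} : Set ↥U) →
      LocCoh.depth ↑(X.presheaf.stalk (x' : X)) ↑(F.presheaf.stalk (x' : X)) = n) ↔
    ((n : WithBot ℕ∞) = rd F x) := by
  haveI : IsLocallyNoetherian X := LocallyOfFiniteType.isLocallyNoetherian g
  haveI : JacobsonSpace X := LocallyOfFiniteType.jacobsonSpace g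
  have h2 : ∀ s : S, CAlg.IsUniversallyCatenary (S.presheaf.stalk s) := fun s =>
    haveI := hreg s
    DimLftJacobson.isUniversallyCatenary_of_regularLocal _
  have hnat : ∀ y : X, ∃ D : ℕ, topologicalKrullDim ↥(closure ({y} : Set X)) = (D : WithBot ℕ∞) := fun y => by
    obtain ⟨c, N, -, -, h⟩ := DimLftJacobson.dim_closure h2 h3 g y
    exact ⟨c + N, h⟩
  choose D hD using hnat
  let f : X → ℕ∞ := fun y => LocCoh.depth (X.presheaf.stalk y) (F.presheaf.stalk y) + D y
  have hrd : ∀ y, rd F y = (f y : WithBot ℕ∞) := fun y => by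
    rw [rd, hD]
    exact (WithBot.coe_add _ _).symm
  have hopen : ∀ a : ℕ∞, IsOpen {y : X | a ≤ f y} := fun a => by
    induction a using ENat.recTopCoe with
    | top =>
      have : {y : X | (⊤ : ℕ∞) ≤ f y} = (CohB1.support F)ᶜ := by
        ext y
        rw [Set.mem_ofPred_eq, top_le_iff, Set.mem_compl_iff, ← depth_eq_top_iff g F hF y]
        exact ⟨fun h => (ENat.add_eq_top.mp h).resolve_right (ENat.natCast_ne_top _),
          fun h => by simp [f, h]⟩
      rw [this]
      exact (Groth.L16.CohSupport.isClosed_support F hF.2).isOpen_compl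
    | coe a =>
      convert isOpen_le hreg h3 g F hF a using 1
      ext y
      rw [Set.mem_ofPred_eq, Set.mem_ofPred_eq, hrd]
      exact (WithBot.coe_le_coe).symm
  let W : X.Opens := ⟨{y : X | f x ≤ f y}, hopen _⟩
  have hW : ∀ z, x ⤳ z → z ∈ W → IsClosed ({z} : Set X) →
      LocCoh.depth (X.presheaf.stalk z) (F.presheaf.stalk z) = f x := fun z hxz hzW hz => by
    have h1 : f z = f x := le_antisymm (hxz.mem_open (hopen (f z)) (le_refl (f z))) hzW
    have h0 : D z = 0 := by
      have h := hD z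
      rw [hz.closure_eq] at h
      haveI : Subsingleton ↥({z} : Set X) := Set.subsingleton_singleton.coe_sort
      have hle : topologicalKrullDim ↥({z} : Set X) ≤ 0 := topologicalKrullDim_zero_of_discreteTopology _
      rw [h] at hle
      have : D z ≤ 0 := by exact_mod_cast hle
      omega
    rw [← h1]
    simp [f, h0]
  have hclosed : ∀ (U : X.Opens) (z : ↥U), IsClosed ({z} : Set ↥U) → IsClosed ({(z : X)} : Set X) := fun U z hz => by
    have h : IsLocallyClosed ((Subtype.val : ↥(U : Set X) → X) '' ({z} : Set ↥(U : Set X))) :=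
      hz.isLocallyClosed.image IsInducing.subtypeVal (by rw [Subtype.range_coe]; exact U.2.isLocallyClosed)
    erw [Set.image_singleton] at h
    exact isClosed_singleton_of_isLocallyClosed_singleton h
  constructor
  · rintro ⟨U, hxU, hU⟩
    obtain ⟨z, hxz, hz, hzUW⟩ := JacobsonDim.exists_closed_specialization
      (U := (U : Set X) ∩ W) (U.2.inter W.2) ⟨hxU, le_refl (f x)⟩
    have hzcl : IsClosed ({⟨z, hzUW.1⟩} : Set ↥U) := by
      have := hz.preimage (continuous_subtype_val (p := fun t => t ∈ U))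
      convert this using 1
      ext w
      exact ⟨fun h => congrArg Subtype.val (Set.mem_singleton_iff.mp h), fun h => Subtype.ext h⟩
    have h1 := hU ⟨z, hzUW.1⟩ (specializes_iff_mem_closure.mp hxz) hzcl
    rw [hrd, ← h1, hW z hxz hzUW.2 hz]
  · intro hn
    rw [hrd, WithBot.coe_inj] at hn
    refine ⟨W, le_refl (f x), fun x' hx' hcl => ?_⟩
    rw [hn]
    exact hW x' (specializes_iff_mem_closure.mpr hx') x'.2 (hclosed W x' hcl)

end Groth.L06.RectDepthJacobson
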