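import Groth.Agent.L06.RelAssSpecial
import Groth.Agent.L13.CplRegular
import Groth.Agent.L18.FiberStalk

/-!
# Reducedness from the closed fibre over a valuation ring
-/

set_option autoImplicit false
set_option maxSynthPendingDepth 3
set_option linter.style.haveILetI false
set_option backward.isDefEq.respectTransparency.types false

universe u

open CategoryTheory CategoryTheory.Limits AlgebraicGeometry TopologicalSpace Topology IsLocalRing

noncomputable section

namespace Groth.L06.ReducedSpecial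

/-- A flat local algebra with reduced closed fibre over a valuation ring is reduced. -/
theorem isReduced_of_closed {V B : Type u} [CommRing V] [IsDomain V] [ValuationRing V]
    [CommRing B] [IsLocalRing B] [Algebra V B] [IsLocalHom (algebraMap V B)] [Algebra.EssFiniteType V B]
    (htf : ∀ (v : V) (b : B), v • b = 0 → v = 0 ∨ b = 0)
    (hI : ((maximalIdeal V).map (algebraMap V B)).IsRadical) : _root_.IsReduced B := by
  set I := (maximalIdeal V).map (algebraMap V B) with hI'
  let N : Ideal B := nilradical B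
  have hsat : ∀ (v : V) (b : B), v ≠ 0 → v • b ∈ N → b ∈ N := fun v b hv h => by
    obtain ⟨n, hn⟩ := h
    exact ⟨n, ((htf (v ^ n) (b ^ n) (by rw [← smul_pow]; exact hn)).resolve_left (pow_ne_zero n hv))⟩
  haveI : Module.Flat V (B ⧸ N) := by
    rw [Module.Flat.flat_iff_torsion_eq_bot_of_isBezout, eq_bot_iff]
    intro w hw
    obtain ⟨⟨v, hv⟩, h⟩ := (Submodule.mem_torsion_iff w).mp hw
    obtain ⟨z, rfl⟩ := Ideal.Quotient.mk_surjective w
    rw [Submodule.mem_bot, Ideal.Quotient.eq_zero_iff_mem]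
    refine hsat v z (nonZeroDivisors.ne_zero hv) (Ideal.Quotient.eq_zero_iff_mem.mp ?_)
    exact h
  haveI : Module.FinitePresentation B (B ⧸ N) := Groth.Agent.S2049.result (A := V) (B := B) (M := B ⧸ N)
  have hfg : N.FG := by
    have h := Module.FinitePresentation.fg_ker (Submodule.mkQ N) (Submodule.mkQ_surjective N)
    rwa [Submodule.ker_mkQ] at h
  have hNI : N ≤ I := fun z hz => hI (Ideal.radical_mono bot_le hz)
  have hcomb : ∀ z ∈ I, ∃ v ∈ maximalIdeal V, ∃ m : B, z = v • m := by
    intro z hz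
    induction hz using Submodule.span_induction with
    | mem r hr =>
      obtain ⟨v, hv, rfl⟩ := hr
      exact ⟨v, hv, 1, Algebra.algebraMap_eq_smul_one v⟩
    | zero => exact ⟨0, zero_mem _, 0, by rw [smul_zero]⟩
    | add a b _ _ ha hb =>
      obtain ⟨v, hv, m, rfl⟩ := ha
      obtain ⟨v', hv', m', rfl⟩ := hb
      rcases ValuationRing.dvd_total v v' with ⟨c, hc⟩ | ⟨c, hc⟩
      · exact ⟨v, hv, m + c • m', by rw [hc, mul_smul, smul_add]⟩
      · exact ⟨v', hv', c • m + m', by rw [hc, mul_smul, smul_add]⟩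
    | smul c a _ ha =>
      obtain ⟨v, hv, m, rfl⟩ := ha
      exact ⟨v, hv, c • m, by rw [smul_comm]⟩
  have h0 : N = ⊥ := by
    refine Submodule.eq_bot_of_le_smul_of_le_jacobson_bot I N hfg (fun z hz => ?_) ?_
    · obtain ⟨v, hv, m, rfl⟩ := hcomb z (hNI hz)
      by_cases hv0 : v = 0
      · rw [hv0, zero_smul]; exact zero_mem _
      rw [← algebraMap_smul B v m]
      exact Submodule.smul_mem_smul (Ideal.mem_map_of_mem _ hv) (hsat v m hv0 hz)
    · rw [jacobson_eq_maximalIdeal ⊥ bot_ne_top, hI', Ideal.map_le_iff_le_comap]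
      exact fun v hv hu => hv (isUnit_of_map_unit (algebraMap V B) v hu)
  exact ⟨fun z hz => by
    have h1 : z ∈ N := hz
    rwa [h0] at h1⟩

/-- The extensions of all primes are radical. -/
theorem isRadical_map {V B : Type u} [CommRing V] [IsDomain V] [ValuationRing V]
    [CommRing B] [IsLocalRing B] [Algebra V B] [IsLocalHom (algebraMap V B)] [Algebra.EssFiniteType V B]
    [Module.Flat V B] (hI : ((maximalIdeal V).map (algebraMap V B)).IsRadical) (p : Ideal V) [p.IsPrime] :
    (p.map (algebraMap V B)).IsRadical := by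
  set K := p.map (algebraMap V B) with hK
  have hKle : K ≤ maximalIdeal B := Ideal.map_le_iff_le_comap.mpr fun v hv hu =>
    (le_maximalIdeal (Ideal.IsPrime.ne_top ‹_›) hv) (isUnit_of_map_unit (algebraMap V B) v hu)
  haveI : Nontrivial (B ⧸ K) := Ideal.Quotient.nontrivial_iff.mpr
    (ne_top_of_le_ne_top (maximalIdeal.isMaximal B).ne_top hKle)
  haveI : IsLocalRing (B ⧸ K) := .of_surjective' (Ideal.Quotient.mk K) Ideal.Quotient.mk_surjective
  haveI : ValuationRing (V ⧸ p) := Function.Surjective.valuationRing (Ideal.Quotient.mk p) Ideal.Quotient.mk_surjective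
  letI : Algebra (V ⧸ p) (B ⧸ K) := (Ideal.quotientMap K (algebraMap V B) Ideal.le_comap_map).toAlgebra
  haveI : IsScalarTower V (V ⧸ p) (B ⧸ K) := IsScalarTower.of_algebraMap_eq fun _ => rfl
  haveI : Algebra.FiniteType B (B ⧸ K) := .of_surjective (IsScalarTower.toAlgHom B B (B ⧸ K)) Ideal.Quotient.mk_surjective
  haveI : Algebra.EssFiniteType V (B ⧸ K) := .comp V B _
  haveI : Algebra.EssFiniteType (V ⧸ p) (B ⧸ K) := .of_comp V _ _
  haveI : IsLocalRing (V ⧸ p) := .of_surjective' (Ideal.Quotient.mk p) Ideal.Quotient.mk_surjective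
  haveI : IsLocalHom (algebraMap (V ⧸ p) (B ⧸ K)) := ⟨fun a ha => by
    obtain ⟨v, rfl⟩ := Ideal.Quotient.mk_surjective a
    refine IsUnit.map _ ?_
    refine isUnit_of_map_unit (algebraMap V B) v ?_
    by_contra hnu
    have h1 : Ideal.Quotient.mk K (algebraMap V B v) ∈ (maximalIdeal B).map (Ideal.Quotient.mk K) :=
      Ideal.mem_map_of_mem _ hnu
    have h2 : (maximalIdeal B).map (Ideal.Quotient.mk K) ≤ maximalIdeal (B ⧸ K) := le_maximalIdeal fun h => by
      have h3 := congrArg (Ideal.comap (Ideal.Quotient.mk K)) h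
      rw [Ideal.comap_map_of_surjective _ Ideal.Quotient.mk_surjective, ← RingHom.ker_eq_comap_bot, Ideal.mk_ker,
        sup_eq_left.mpr hKle, Ideal.comap_top] at h3
      exact (maximalIdeal.isMaximal B).ne_top h3
    exact (mem_maximalIdeal _).mp (h2 h1) ha⟩
  have htf : ∀ (a : V ⧸ p) (b : B ⧸ K), a • b = 0 → a = 0 ∨ b = 0 := by
    intro a b h
    obtain ⟨v, rfl⟩ := Ideal.Quotient.mk_surjective a
    obtain ⟨c, rfl⟩ := Ideal.Quotient.mk_surjective b
    by_cases hv : v ∈ p
    · exact Or.inl (Ideal.Quotient.eq_zero_iff_mem.mpr hv)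
    refine Or.inr (Ideal.Quotient.eq_zero_iff_mem.mpr ?_)
    have h' : algebraMap V B v * c ∈ K := Ideal.Quotient.eq_zero_iff_mem.mp h
    have key : ∀ z ∈ K, ∃ π ∈ p, ∃ m : B, z = π • m := by
      intro z hz
      induction hz using Submodule.span_induction with
      | mem r hr =>
        obtain ⟨π, hπ, rfl⟩ := hr
        exact ⟨π, hπ, 1, Algebra.algebraMap_eq_smul_one π⟩
      | zero => exact ⟨0, zero_mem _, 0, by rw [smul_zero]⟩
      | add a b _ _ ha hb =>
        obtain ⟨π, hπ, m, rfl⟩ := ha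
        obtain ⟨π', hπ', m', rfl⟩ := hb
        rcases ValuationRing.dvd_total π π' with ⟨d, hd⟩ | ⟨d, hd⟩
        · exact ⟨π, hπ, m + d • m', by rw [hd, mul_smul, smul_add]⟩
        · exact ⟨π', hπ', d • m + m', by rw [hd, mul_smul, smul_add]⟩
      | smul d a _ ha =>
        obtain ⟨π, hπ, m, rfl⟩ := ha
        exact ⟨π, hπ, d • m, by rw [smul_comm]⟩
    obtain ⟨π, hπ, m, hm⟩ := key _ h'
    obtain ⟨π', rfl⟩ : v ∣ π := (ValuationRing.dvd_total v π).resolve_right fun hd =>
      hv (Ideal.mem_of_dvd p hd hπ)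
    have hv0 : v ≠ 0 := fun h0 => hv (h0 ▸ zero_mem p)
    have hc : c = π' • m := by
      refine (Module.Flat.isSMulRegular_of_isRegular (M := B) (IsRegular.of_ne_zero hv0)) ?_
      show v • c = v • π' • m
      rw [Algebra.smul_def, hm, mul_smul]
    rw [hc, Algebra.smul_def]
    exact Ideal.mul_mem_right _ _ (Ideal.mem_map_of_mem _
      ((Ideal.IsPrime.mem_or_mem ‹_› hπ).resolve_left hv))
  have hI₁ : ((maximalIdeal (V ⧸ p)).map (algebraMap (V ⧸ p) (B ⧸ K))).IsRadical := by
    have he : (maximalIdeal (V ⧸ p)).map (algebraMap (V ⧸ p) (B ⧸ K)) =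
        ((maximalIdeal V).map (algebraMap V B)).map (Ideal.Quotient.mk K) := by
      rw [← IsLocalRing.map_maximalIdeal_of_surjective (Ideal.Quotient.mk p) Ideal.Quotient.mk_surjective,
        Ideal.map_map, Ideal.map_map]
      rfl
    rw [he]
    intro z hz
    obtain ⟨b, rfl⟩ := Ideal.Quotient.mk_surjective z
    obtain ⟨n, hn⟩ := hz
    rw [← map_pow, ← Ideal.mem_comap, Ideal.comap_map_of_surjective _ Ideal.Quotient.mk_surjective,
      ← RingHom.ker_eq_comap_bot, Ideal.mk_ker,
      sup_eq_left.mpr (Ideal.map_mono (le_maximalIdeal (Ideal.IsPrime.ne_top ‹_›)))] at hn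
    exact Ideal.mem_map_of_mem _ (hI ⟨n, hn⟩)
  haveI := isReduced_of_closed (V := V ⧸ p) (B := B ⧸ K) htf hI₁
  exact (Ideal.isRadical_iff_quotient_reduced _).mpr inferInstance

theorem isRadical_map_localization {B C : Type u} [CommRing B] [CommRing C] [Algebra B C] (M : Submonoid B)
    [IsLocalization M C] {J : Ideal B} (hJ : J.IsRadical) : (J.map (algebraMap B C)).IsRadical := by
  intro c hc
  obtain ⟨n, hn⟩ := hc
  obtain ⟨⟨b, s⟩, hbs⟩ := IsLocalization.surj M c
  have h1 : algebraMap B C (b ^ n) ∈ J.map (algebraMap B C) := by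
    rw [map_pow, ← hbs, mul_pow]
    exact Ideal.mul_mem_right _ _ hn
  obtain ⟨t, ht, htb⟩ := (IsLocalization.algebraMap_mem_map_algebraMap_iff M C J (b ^ n)).mp h1
  have h2 : t * b ∈ J := hJ ⟨n + 1, by
    rw [show (t * b) ^ (n + 1) = (t ^ n * b) * (t * b ^ n) by ring]
    exact Ideal.mul_mem_left _ _ htb⟩
  have h3 : algebraMap B C (t * b) ∈ J.map (algebraMap B C) := Ideal.mem_map_of_mem _ h2
  rw [map_mul, ← hbs, Ideal.unit_mul_mem_iff_mem _ (IsLocalization.map_units C ⟨t, ht⟩),
    Ideal.mul_unit_mem_iff_mem _ (IsLocalization.map_units C s)] at h3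
  exact h3

theorem main {R : Type u} [CommRing R] [IsDomain R] [ValuationRing R] {X : Scheme.{u}}
    (f : X ⟶ Spec (CommRingCat.of R)) [IsProper f] [Flat f]
    (hred : IsReduced (f.fiber (closedPoint R))) :
    IsReduced X ∧ ∀ s : ↑(Spec (CommRingCat.of R)), IsReduced (f.fiber s) := by
  have key : ∀ (u : X) (p : Ideal R) [p.IsPrime], (p.map ((Scheme.ΓSpecIso (CommRingCat.of R)).inv ≫
      (Spec (CommRingCat.of R)).presheaf.germ ⊤ (f u) trivial ≫ f.stalkMap u).hom).IsRadical := by
    intro u p _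
    obtain ⟨x, hux, hxs⟩ := Groth.L13.CplRegular.exists_specializes_closedPoint f u
    let A := CommRingCat.of R
    let κ : ∀ z : X, A ⟶ X.presheaf.stalk z := fun z =>
      (Scheme.ΓSpecIso A).inv ≫ (Spec A).presheaf.germ ⊤ (f z) trivial ≫ f.stalkMap z
    letI : Algebra R (X.presheaf.stalk x) := (κ x).hom.toAlgebra
    letI : Algebra (X.presheaf.stalk x) (X.presheaf.stalk u) := (X.presheaf.stalkSpecializes hux).hom.toAlgebra
    haveI hP : (RingHom.ker (Cyc.specMap x u hux)).IsPrime := RingHom.ker_isPrime _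
    haveI := Groth.L22.Cyc.isLocalization_stalkSpecializes hux
    have hmax : maximalIdeal ((Spec A).presheaf.stalk (f x)) =
        (f x).asIdeal.map ((Scheme.ΓSpecIso A).inv ≫ (Spec A).presheaf.germ ⊤ (f x) trivial).hom :=
      RelAssSpecial.maximalIdeal_stalk_spec A (f x)
    have hloc : IsLocalHom (algebraMap R (X.presheaf.stalk x)) := ⟨fun v hv => by
      by_contra hnu
      have hvx : v ∈ (f x).asIdeal := by rw [hxs]; exact hnu
      have h1 : ((Scheme.ΓSpecIso A).inv ≫ (Spec A).presheaf.germ ⊤ (f x) trivial).hom v ∈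
          maximalIdeal ((Spec A).presheaf.stalk (f x)) := hmax ▸ Ideal.mem_map_of_mem _ hvx
      exact (mem_maximalIdeal _).mp h1 (isUnit_of_map_unit (f.stalkMap x).hom _ hv)⟩
    obtain ⟨W, hW, hxW, -⟩ := exists_isAffineOpen_mem_and_subset (x := x) (U := (⊤ : X.Opens)) trivial
    let ψ : A ⟶ Γ(X, W) := (Scheme.ΓSpecIso A).inv ≫ f.appLE ⊤ W le_top
    have hκ : κ x = ψ ≫ X.presheaf.germ W x hxW := by
      simp only [κ, ψ, Category.assoc, Scheme.Hom.germ_stalkMap]
      simp only [Scheme.Hom.appLE, Category.assoc, TopCat.Presheaf.germ_res]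
    letI : Algebra R Γ(X, W) := ψ.hom.toAlgebra
    haveI : Algebra.FiniteType R Γ(X, W) := RingHom.finiteType_respectsIso.2 _
      (Scheme.ΓSpecIso A).symm.commRingCatIsoToRingEquiv
      (LocallyOfFiniteType.finiteType_appLE f (isAffineOpen_top _) hW le_top)
    letI := X.presheaf.algebra_section_stalk (⟨x, hxW⟩ : W)
    haveI := hW.isLocalization_stalk ⟨x, hxW⟩
    haveI : IsScalarTower R Γ(X, W) (X.presheaf.stalk x) := IsScalarTower.of_algebraMap_eq' (by
      show (κ x).hom = _
      rw [hκ]; rfl)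
    haveI : Algebra.EssFiniteType Γ(X, W) (X.presheaf.stalk x) :=
      .of_isLocalization _ (hW.primeIdealOf ⟨x, hxW⟩).asIdeal.primeCompl
    haveI : Algebra.EssFiniteType R (X.presheaf.stalk x) := .comp R Γ(X, W) _
    haveI : Module.Flat R (X.presheaf.stalk x) := by
      haveI : Module.Flat R Γ(X, W) := RingHom.Flat.respectsIso.2 _
        (Scheme.ΓSpecIso A).symm.commRingCatIsoToRingEquiv
        (Flat.flat_appLE f (isAffineOpen_top _) hW le_top)
      haveI : Module.Flat Γ(X, W) (X.presheaf.stalk x) :=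
        IsLocalization.flat _ (hW.primeIdealOf ⟨x, hxW⟩).asIdeal.primeCompl
      exact Module.Flat.trans R Γ(X, W) _
    have hI : ((maximalIdeal R).map (algebraMap R (X.presheaf.stalk x))).IsRadical := by
      obtain ⟨z, hz⟩ : x ∈ Set.range (f.fiberι (closedPoint R)) := by rw [Scheme.Hom.range_fiberι]; exact hxs
      subst hz
      have h1 := Groth.L18.stalkMap_fiberι f (closedPoint R) z
      haveI : _root_.IsReduced ((f.fiber (closedPoint R)).presheaf.stalk z) := inferInstance
      have h2 := (RingHom.ker_isRadical_iff_reduced_of_surjective h1.1).mpr inferInstance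
      have hm : (f (f.fiberι (closedPoint R) z)).asIdeal = maximalIdeal R := by rw [hxs]; rfl
      rw [h1.2, hmax, Ideal.map_map, hm, ← CommRingCat.hom_comp, Category.assoc] at h2
      exact h2
    have h := isRadical_map (V := R) (B := X.presheaf.stalk x) hI p
    have h2 := isRadical_map_localization (C := X.presheaf.stalk u) (RingHom.ker (Cyc.specMap x u hux)).primeCompl h
    rw [Ideal.map_map] at h2
    have e : κ x ≫ X.presheaf.stalkSpecializes hux = κ u := by
      simp only [κ, Category.assoc, ← Scheme.Hom.stalkSpecializes_stalkMap]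
      rw [← Category.assoc ((Spec A).presheaf.germ ⊤ (f x) trivial), TopCat.Presheaf.germ_stalkSpecializes]
    show (p.map (κ u).hom).IsRadical
    rw [← e]
    exact h2
  refine ⟨?_, fun s => ?_⟩
  · haveI : ∀ u : X, _root_.IsReduced (X.presheaf.stalk u) := fun u => by
      have h := key u ⊥
      rw [Ideal.map_bot] at h
      exact ⟨fun z hz => h hz⟩
    exact isReduced_of_isReduced_stalk X
  · haveI : ∀ z : f.fiber s, _root_.IsReduced ((f.fiber s).presheaf.stalk z) := fun z => by
      have h1 := Groth.L18.stalkMap_fiberι f s z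
      refine (RingHom.ker_isRadical_iff_reduced_of_surjective h1.1).mp ?_
      rw [h1.2, RelAssSpecial.maximalIdeal_stalk_spec, Ideal.map_map, ← CommRingCat.hom_comp, Category.assoc]
      exact key _ _
    exact isReduced_of_isReduced_stalk _

end Groth.L06.ReducedSpecial
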