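import Groth.Agent.L06.RegularBaseChange
import Groth.Agent.L06.FormalFibres
import Groth.Agent.L03.GeomReduced
import Groth.Agent.S19379

/-! Regularity of tensor products over a field. -/

set_option autoImplicit false
set_option maxSynthPendingDepth 3
set_option linter.style.haveILetI false
noncomputable section
universe u
open TensorProduct Groth.L06.PropLoc

namespace Groth.L06.RegularTensor

theorem regular_point_iff {R S : Type u} [CommRing R] [CommRing S] [Algebra R S] [IsNoetherianRing R]
    [IsNoetherianRing S] (h : CAlg.IsRegularHom R S) (P : Ideal S) [P.IsPrime] :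
    IsRegularLocalRing (Localization.AtPrime (P.comap (algebraMap R S))) →
      IsRegularLocalRing (Localization.AtPrime P) := by
  intro hR
  haveI := h.1
  obtain ⟨i, hl, hf, q, hq, ⟨e⟩⟩ := Groth.L06.FlatFibre.exists_local_fibre (P.comap (algebraMap R S)) P (S := S)
  letI := i
  haveI := hl
  haveI := hf
  haveI := (h.2 (P.comap (algebraMap R S))).2 (P.comap (algebraMap R S)).ResidueField inferInstance
  haveI : IsRegularRing ((P.comap (algebraMap R S)).Fiber S) :=
    IsRegularRing.of_ringEquiv (Algebra.TensorProduct.lid (P.comap (algebraMap R S)).ResidueField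
      ((P.comap (algebraMap R S)).Fiber S)).toRingEquiv
  haveI : IsRegularLocalRing (Localization.AtPrime q) := IsRegularRing.isRegularLocalRing_localization q
  haveI : IsRegularLocalRing (EGA4.FibRing (Localization.AtPrime (P.comap (algebraMap R S))) (Localization.AtPrime P)) :=
    IsRegularLocalRing.of_ringEquiv (R := Localization.AtPrime q) e
  exact Groth.L06.FormalFibres.regular_of_flat (Localization.AtPrime (P.comap (algebraMap R S))) (Localization.AtPrime P)

theorem regular_descend_point {R S : Type u} [CommRing R] [CommRing S] [Algebra R S] [IsNoetherianRing R]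
    [IsNoetherianRing S] [Module.Flat R S] (P : Ideal S) [P.IsPrime] :
    IsRegularLocalRing (Localization.AtPrime P) →
      IsRegularLocalRing (Localization.AtPrime (P.comap (algebraMap R S))) := by
  intro hP
  obtain ⟨i, hl, hf, q, hq, -⟩ := Groth.L06.FlatFibre.exists_local_fibre (P.comap (algebraMap R S)) P (S := S)
  letI := i
  haveI := hl
  haveI := hf
  haveI : Module.FaithfullyFlat (Localization.AtPrime (P.comap (algebraMap R S))) (Localization.AtPrime P) :=
    Module.FaithfullyFlat.of_flat_of_isLocalHom
  exact of_loc good_reg (good_reg.descend (S := Localization.AtPrime P) (good_reg.loc (Q := QReg) hP))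

theorem isRegularHom_field {k T : Type u} [Field k] [CommRing T] [Algebra k T] [IsNoetherianRing T]
    (h : CAlg.IsGeometricallyRegular k T) : CAlg.IsRegularHom k T := by
  refine ⟨inferInstance, fun p _ => ?_⟩
  have hp : p = ⊥ := (Ideal.eq_bot_or_top p).resolve_right Ideal.IsPrime.ne_top'
  let e₀ : k ≃+* p.ResidueField := RingEquiv.ofBijective (algebraMap k p.ResidueField)
    ⟨(algebraMap k p.ResidueField).injective, fun x => by
      haveI : p.IsMaximal := hp ▸ Ideal.bot_isMaximal
      obtain ⟨y, rfl⟩ := Ideal.bijective_algebraMap_quotient_residueField p |>.2 x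
      obtain ⟨z, rfl⟩ := Ideal.Quotient.mk_surjective y
      exact ⟨z, IsScalarTower.algebraMap_apply k (k ⧸ p) p.ResidueField z⟩⟩
  haveI : Module.Finite k p.ResidueField :=
    Module.Finite.of_surjective (Algebra.linearMap k p.ResidueField) e₀.surjective
  haveI : IsRegularRing (p.ResidueField ⊗[k] T) := h _ inferInstance
  refine ⟨inferInstanceAs (IsNoetherianRing (p.ResidueField ⊗[k] T)), fun L _ _ hL => ?_⟩
  haveI := hL
  letI : Algebra k L := ((algebraMap p.ResidueField L).comp (algebraMap k p.ResidueField)).toAlgebra
  haveI : IsScalarTower k p.ResidueField L := IsScalarTower.of_algebraMap_eq' rfl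
  haveI : Module.Finite k L := Module.Finite.trans p.ResidueField L
  haveI := h L inferInstance
  exact IsRegularRing.of_ringEquiv
    (Algebra.TensorProduct.cancelBaseChange k p.ResidueField p.ResidueField L T).symm.toRingEquiv

theorem regular_tensor {k S T : Type u} [Field k] [CommRing S] [CommRing T] [Algebra k S] [Algebra k T]
    [IsNoetherianRing S] [IsNoetherianRing T] [IsNoetherianRing (S ⊗[k] T)]
    (hft : Algebra.FiniteType k S ∨ Algebra.FiniteType k T)
    (hS : IsRegularRing S) (hT : CAlg.IsGeometricallyRegular k T) : IsRegularRing (S ⊗[k] T) := by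
  haveI := hS
  have h := (Groth.L06.RegularBaseChange.main k T S hft.symm).1 (isRegularHom_field hT)
  exact ⟨fun P _ => regular_point_iff h P (IsRegularRing.isRegularLocalRing_localization _)⟩

theorem geomRegular_tensor {k S T : Type u} [Field k] [CommRing S] [CommRing T] [Algebra k S] [Algebra k T]
    [IsNoetherianRing S] [IsNoetherianRing T] [IsNoetherianRing (S ⊗[k] T)]
    (hft : Algebra.FiniteType k S ∨ Algebra.FiniteType k T)
    (hS : CAlg.IsGeometricallyRegular k S) (hT : CAlg.IsGeometricallyRegular k T) :
    CAlg.IsGeometricallyRegular k (S ⊗[k] T) := by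
  intro L _ _ hL
  haveI := hL
  haveI := hS L hL
  haveI : IsNoetherianRing ((S ⊗[k] T) ⊗[k] L) := IsNoetherianRing.of_finite (S ⊗[k] T) _
  haveI : IsNoetherianRing ((L ⊗[k] S) ⊗[k] T) := isNoetherianRing_of_ringEquiv _
    ((Algebra.TensorProduct.comm k (S ⊗[k] T) L).toRingEquiv.trans
      (Algebra.TensorProduct.assoc k k k L S T).symm.toRingEquiv)
  have hft' : Algebra.FiniteType k (L ⊗[k] S) ∨ Algebra.FiniteType k T := hft.imp_left fun h => by
    haveI := h
    haveI : Algebra.FiniteType k L := Module.Finite.finiteType L
    exact Algebra.FiniteType.trans (S := L) inferInstance inferInstance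
  haveI := regular_tensor hft' (hS L hL) hT
  exact IsRegularRing.of_ringEquiv (Algebra.TensorProduct.assoc k k k L S T).toRingEquiv

theorem baseChange_field {k S k' : Type u} [Field k] [CommRing S] [Algebra k S] [IsNoetherianRing S] [Field k']
    [Algebra k k'] [IsNoetherianRing (S ⊗[k] k')] (q' : Ideal (S ⊗[k] k')) [q'.IsPrime] :
    (IsRegularLocalRing (Localization.AtPrime q') →
        IsRegularLocalRing (Localization.AtPrime (q'.comap (algebraMap S (S ⊗[k] k'))))) ∧
      (Algebra.IsGeometricallyReduced k k' →
        IsRegularLocalRing (Localization.AtPrime (q'.comap (algebraMap S (S ⊗[k] k')))) →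
          IsRegularLocalRing (Localization.AtPrime q')) := by
  refine ⟨regular_descend_point q', fun hgr hq => ?_⟩
  haveI : Algebra.FormallySmooth k k' := (Groth.L03.GeomReduced.formallySmooth_iff k k').2 hgr
  exact regular_point_iff (Groth.Agent.S19379.result S (S ⊗[k] k')) q' hq

end Groth.L06.RegularTensor
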