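import Groth.Agent.L07.GeomRk.RelAss
import Groth.Agent.L07.AssFlatLocal
import Groth.Agent.L22.Cyc.Mult
import Groth.Agent.L00.PullStalk
import Groth.Agent.L00.BddFib
import Groth.Agent.S2512
import Groth.Agent.S6276
import Mathlib.AlgebraicGeometry.Morphisms.FiniteType
import Mathlib.AlgebraicGeometry.Pullbacks

/-!
# Relative associated points and base change
-/

set_option autoImplicit false
set_option maxSynthPendingDepth 3
set_option linter.style.haveILetI false
set_option backward.isDefEq.respectTransparency.types false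

universe u

open CategoryTheory CategoryTheory.Limits AlgebraicGeometry TensorProduct IsLocalRing

noncomputable section

namespace Groth.L06.RelAssBC

open Groth.L22.Cyc (FibGen fibIdeal)

variable {Z Z' : Scheme.{u}} (π : Z' ⟶ Z)

theorem isAssociatedPrime_self_congr {A B : Type u} [CommRing A] [IsLocalRing A] [CommRing B] [IsLocalRing B]
    (e : A ≃+* B) : IsAssociatedPrime (maximalIdeal A) A ↔ IsAssociatedPrime (maximalIdeal B) B := by
  letI := e.toRingHom.toAlgebra
  exact Groth.L07.RelAss.isAssociatedPrime_restrict_iff (P := B) (Q := A) e.surjective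
    (LinearEquiv.ofBijective (Algebra.linearMap A B) e.bijective).symm

theorem isAssociatedPrime_stalk_congr (M N : Z.Modules) (i : M ≅ N) (z : Z) :
    IsAssociatedPrime (maximalIdeal (Z.presheaf.stalk z)) (M.presheaf.stalk z) ↔
      IsAssociatedPrime (maximalIdeal (Z.presheaf.stalk z)) (N.presheaf.stalk z) :=
  LinearEquiv.isAssociatedPrime_iff ((Groth.L00.Stk.F Z z).mapIso i).toLinearEquiv

/-- Associated points of a flat pullback. -/
theorem ass_pullback_iff [IsLocallyNoetherian Z] [IsLocallyNoetherian Z'] [Flat π] (G : Z.Modules) (w : Z') :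
    IsAssociatedPrime (maximalIdeal (Z'.presheaf.stalk w))
        (((Scheme.Modules.pullback π).obj G).presheaf.stalk w) ↔
      IsAssociatedPrime (maximalIdeal (Z.presheaf.stalk (π w))) (G.presheaf.stalk (π w)) ∧
        IsAssociatedPrime (maximalIdeal (Z'.presheaf.stalk w)) (Z'.presheaf.stalk w ⧸ fibIdeal π w) := by
  letI : Algebra (Z.presheaf.stalk (π w)) (Z'.presheaf.stalk w) := (π.stalkMap w).hom.toAlgebra
  haveI : Module.Flat (Z.presheaf.stalk (π w)) (Z'.presheaf.stalk w) := Flat.stalkMap π w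
  haveI : IsLocalHom (algebraMap (Z.presheaf.stalk (π w)) (Z'.presheaf.stalk w)) := π.toLRSHom.prop w
  let el : ((Scheme.Modules.pullback π).obj G).presheaf.stalk w ≃ₗ[Z'.presheaf.stalk w]
      Z'.presheaf.stalk w ⊗[Z.presheaf.stalk (π w)] G.presheaf.stalk (π w) :=
    ((Groth.L00.PullStalk.stalkIso π w).app G).toLinearEquiv
  refine (LinearEquiv.isAssociatedPrime_iff el).trans ?_
  refine (Groth.L07.AssFlatLocal.maximal_mem_iff (Z'.presheaf.stalk w) (G.presheaf.stalk (π w))).trans ?_
  refine and_congr Iff.rfl (LinearEquiv.isAssociatedPrime_iff ?_)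
  exact Submodule.quotEquivOfEq _ _ (by
    rw [smul_eq_mul, Ideal.mul_top]
    rfl)

theorem ass_of_fibGen [IsLocallyNoetherian Z'] (w : Z') (h : FibGen π w) :
    IsAssociatedPrime (maximalIdeal (Z'.presheaf.stalk w)) (Z'.presheaf.stalk w ⧸ fibIdeal π w) := by
  have hfl : IsFiniteLength (Z'.presheaf.stalk w) (Z'.presheaf.stalk w ⧸ fibIdeal π w) :=
    Module.length_ne_top_iff.mp ((Groth.L22.Cyc.fibGen_iff π w).mp h)
  haveI : IsArtinianRing (Z'.presheaf.stalk w ⧸ fibIdeal π w) :=
    isArtinian_of_tower _ (isFiniteLength_iff_isNoetherian_isArtinian.mp hfl).2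
  haveI : Nontrivial (Z'.presheaf.stalk w ⧸ fibIdeal π w) := Ideal.Quotient.nontrivial_iff.mpr
    (ne_top_of_le_ne_top (maximalIdeal.isMaximal _).ne_top (Groth.L22.Cyc.fibIdeal_le π w))
  obtain ⟨P, hP⟩ := associatedPrimes.nonempty (Z'.presheaf.stalk w) (Z'.presheaf.stalk w ⧸ fibIdeal π w)
  haveI := hP.isPrime
  have hle : fibIdeal π w ≤ P := by
    refine le_trans (le_of_eq ?_) hP.annihilator_le
    first | exact (Submodule.annihilator_top.trans Ideal.annihilator_quotient).symm
  haveI : (P.map (Ideal.Quotient.mk (fibIdeal π w))).IsPrime :=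
    Ideal.map_isPrime_of_surjective Ideal.Quotient.mk_surjective (by rw [Ideal.mk_ker]; exact hle)
  haveI := IsArtinianRing.isMaximal_of_isPrime (P.map (Ideal.Quotient.mk (fibIdeal π w)))
  have hc := Ideal.comap_isMaximal_of_surjective (Ideal.Quotient.mk (fibIdeal π w))
    Ideal.Quotient.mk_surjective (K := P.map (Ideal.Quotient.mk (fibIdeal π w)))
  rw [Ideal.comap_map_of_surjective _ Ideal.Quotient.mk_surjective, ← RingHom.ker_eq_comap_bot, Ideal.mk_ker,
    sup_eq_left.mpr hle] at hc
  rwa [← eq_maximalIdeal hc]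

/-- A point of the spectrum of a Noetherian ring which is associated is a point with associated prime. -/
theorem mem_associatedPrimes_of_stalk (T : CommRingCat.{u}) [IsNoetherianRing T] (P : Spec T)
    (h : IsAssociatedPrime (maximalIdeal ((Spec T).presheaf.stalk P)) ((Spec T).presheaf.stalk P)) :
    P.asIdeal ∈ associatedPrimes T T := by
  have h2 := (isAssociatedPrime_self_congr (Spec.stalkIso T P).commRingCatIsoToRingEquiv).mp h
  have h3 := Module.associatedPrimes.comap_mem_associatedPrimes_of_mem_associatedPrimes_of_isLocalizedModule_of_fg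
    P.asIdeal.primeCompl (Algebra.linearMap T (Localization.AtPrime P.asIdeal))
    (maximalIdeal (Localization.AtPrime P.asIdeal)) h2 (IsNoetherian.noetherian _)
  rwa [show (maximalIdeal (Localization.AtPrime P.asIdeal)).comap (algebraMap T (Localization.AtPrime P.asIdeal)) =
    P.asIdeal from IsLocalization.AtPrime.under_maximalIdeal (Localization.AtPrime P.asIdeal) P.asIdeal] at h3

/-- The residue fields of a scheme of finite type over a field are essentially of finite type. -/
theorem essFiniteType_residueField {K : CommRingCat.{u}} (p : Z ⟶ Spec K) [LocallyOfFiniteType p] (z : Z)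
    (φ : K ⟶ Z.residueField z) (hφ : Spec.map φ = Z.fromSpecResidueField z ≫ p) :
    φ.hom.EssFiniteType := by
  obtain ⟨V, hV, hzV, -⟩ := exists_isAffineOpen_mem_and_subset (U := (⊤ : Z.Opens)) (x := z) trivial
  obtain ⟨χ, hχ⟩ := Spec.map_surjective (hV.fromSpec ≫ p)
  have h1 : χ.hom.FiniteType :=
    (HasRingHomProperty.Spec_iff (P := @LocallyOfFiniteType)).1 (hχ ▸ inferInstance)
  have h2 : φ = χ ≫ Z.presheaf.germ V z hzV ≫ Z.residue z := by
    apply Spec.map_injective
    rw [hφ, Spec.map_comp, hχ, Spec.map_comp]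
    show (Spec.map (Z.residue z) ≫ Z.fromSpecStalk z) ≫ p = _
    rw [← hV.fromSpecStalk_eq_fromSpecStalk hzV]
    simp only [IsAffineOpen.fromSpecStalk, Category.assoc]
  subst h2
  have h3 : (Z.presheaf.germ V z hzV).hom.EssFiniteType := by
    letI := TopCat.Presheaf.algebra_section_stalk Z.presheaf (⟨z, hzV⟩ : V)
    haveI := hV.isLocalization_stalk ⟨z, hzV⟩
    exact RingHom.essFiniteType_algebraMap.mpr
      (Algebra.EssFiniteType.of_isLocalization _ (hV.primeIdealOf ⟨z, hzV⟩).asIdeal.primeCompl)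
  have h4 : (Z.residue z).hom.FiniteType :=
    RingHom.FiniteType.of_surjective _ (Z.residue_surjective z)
  exact (h1.essFiniteType.comp h3).comp h4.essFiniteType

/-- In the fibres of a base change of schemes over a field along a field extension there are no
embedded points. -/
theorem fibGen_of_ass {K L : CommRingCat.{u}} (hK : IsField K) (hL : IsField L) {p : Z ⟶ Spec K}
    [LocallyOfFiniteType p] {p' : Z' ⟶ Spec L} {q : Spec L ⟶ Spec K} (sq : IsPullback π p' p q) (w : Z')
    (h : IsAssociatedPrime (maximalIdeal (Z'.presheaf.stalk w)) (Z'.presheaf.stalk w ⧸ fibIdeal π w)) :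
    FibGen π w := by
  letI := hK.toField
  letI := hL.toField
  suffices key : ∀ (z : Z) (w₀ y₀ : π.fiber z),
      IsAssociatedPrime (maximalIdeal (Z'.presheaf.stalk (π.fiberι z w₀)))
        (Z'.presheaf.stalk (π.fiberι z w₀) ⧸ fibIdeal π (π.fiberι z w₀)) → y₀ ⤳ w₀ → y₀ = w₀ by
    intro y hy hyw
    obtain ⟨w₀, hw₀⟩ : w ∈ Set.range (π.fiberι (π w)) := by rw [Scheme.Hom.range_fiberι]; rfl
    obtain ⟨y₀, hy₀⟩ : y ∈ Set.range (π.fiberι (π w)) := by rw [Scheme.Hom.range_fiberι]; exact hy
    have hsp : y₀ ⤳ w₀ := (π.fiberι (π w)).isEmbedding.isInducing.specializes_iff.mp (by rwa [hy₀, hw₀])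
    have h' : IsAssociatedPrime (maximalIdeal (Z'.presheaf.stalk (π.fiberι (π w) w₀)))
        (Z'.presheaf.stalk (π.fiberι (π w) w₀) ⧸ fibIdeal π (π.fiberι (π w) w₀)) :=
      (congrArg (fun x => IsAssociatedPrime (maximalIdeal (Z'.presheaf.stalk x))
        (Z'.presheaf.stalk x ⧸ fibIdeal π x)) hw₀).mpr h
    exact hy₀.symm.trans ((congrArg (π.fiberι (π w)) (key _ w₀ y₀ h' hsp)).trans hw₀)
  intro z w₀ y₀ h hsp
  obtain ⟨φ, hφ⟩ := Spec.map_surjective (Z.fromSpecResidueField z ≫ p)
  obtain ⟨ψ, hψ⟩ := Spec.map_surjective q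
  letI : Algebra K (Z.residueField z) := φ.hom.toAlgebra
  letI : Algebra K L := ψ.hom.toAlgebra
  have sq1 : IsPullback (π.fiberToSpecResidueField z) (π.fiberι z ≫ p')
      (Spec.map (CommRingCat.ofHom (algebraMap K (Z.residueField z))))
      (Spec.map (CommRingCat.ofHom (algebraMap K L))) := by
    have h1 := ((IsPullback.of_hasPullback π (Z.fromSpecResidueField z)).flip).paste_vert sq
    rw [← hφ, ← hψ] at h1
    exact h1
  let e : π.fiber z ≅ Spec (CommRingCat.of (Z.residueField z ⊗[K] L)) :=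
    sq1.isoPullback ≪≫ pullbackSpecIso K (Z.residueField z) L
  haveI : Algebra.EssFiniteType K (Z.residueField z) :=
    RingHom.essFiniteType_algebraMap.mp (essFiniteType_residueField p z φ hφ)
  haveI : IsNoetherianRing (Z.residueField z ⊗[K] L) :=
    Groth.Agent.S6276.result K L (Z.residueField z) (IntermediateField.fg_top_iff.mpr inferInstance)
  have hass : IsAssociatedPrime (maximalIdeal ((π.fiber z).presheaf.stalk w₀))
      ((π.fiber z).presheaf.stalk w₀) := by
    obtain ⟨hs, hk⟩ := Groth.L18.stalkMap_fiberι π z w₀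
    letI := ((π.fiberι z).stalkMap w₀).hom.toAlgebra
    refine (Groth.L07.RelAss.isAssociatedPrime_restrict_iff (P := (π.fiber z).presheaf.stalk w₀)
      (Q := Z'.presheaf.stalk (π.fiberι z w₀) ⧸ fibIdeal π (π.fiberι z w₀)) hs ?_).mp h
    exact (((Algebra.linearMap (Z'.presheaf.stalk (π.fiberι z w₀)) ((π.fiber z).presheaf.stalk w₀)).quotKerEquivOfSurjective
      hs).symm.trans (Submodule.quotEquivOfEq _ _ hk))
  have hw : e.inv (e.hom w₀) = w₀ := by rw [← Scheme.Hom.comp_apply, e.hom_inv_id]; rfl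
  have hass' : IsAssociatedPrime (maximalIdeal ((π.fiber z).presheaf.stalk (e.inv (e.hom w₀))))
      ((π.fiber z).presheaf.stalk (e.inv (e.hom w₀))) :=
    (congrArg (fun x => IsAssociatedPrime (maximalIdeal ((π.fiber z).presheaf.stalk x))
      ((π.fiber z).presheaf.stalk x)) hw).mpr hass
  have hassP := (isAssociatedPrime_self_congr
    (asIso (e.inv.stalkMap (e.hom w₀))).commRingCatIsoToRingEquiv).mp hass'
  have hmin := Groth.Agent.S2512.result (mem_associatedPrimes_of_stalk _ (e.hom w₀) hassP)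
  have hle : (e.hom y₀).asIdeal ≤ (e.hom w₀).asIdeal :=
    (PrimeSpectrum.le_iff_specializes _ _).mpr (hsp.map e.hom.continuous)
  exact e.hom.homeomorph.injective
    (PrimeSpectrum.ext (le_antisymm hle (hmin.2 ⟨(e.hom y₀).isPrime, bot_le⟩ hle)))

/-- The map between fibres of a base change. -/
theorem exists_fibreMap {X S X' S' : Scheme.{u}} {f : X ⟶ S} {g : S' ⟶ S} {f' : X' ⟶ S'} {g' : X' ⟶ X}
    (hc : IsPullback g' f' f g) {s : S} (s' : S') (hs : g s' = s) :
    ∃ (q : Spec (S'.residueField s') ⟶ Spec (S.residueField s)) (π : f'.fiber s' ⟶ f.fiber s),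
      π ≫ f.fiberι s = f'.fiberι s' ≫ g' ∧
        IsPullback π (f'.fiberToSpecResidueField s') (f.fiberToSpecResidueField s) q := by
  subst hs
  refine ⟨Spec.map (g.residueFieldMap s'), pullback.lift (f'.fiberι s' ≫ g')
    (f'.fiberToSpecResidueField s' ≫ Spec.map (g.residueFieldMap s')) ?_, pullback.lift_fst _ _ _, ?_⟩
  · rw [Category.assoc, hc.w, ← Category.assoc, Scheme.Hom.fiber_fac, Category.assoc,
      Category.assoc, Scheme.Hom.SpecMap_residueFieldMap_fromSpecResidueField]
  · refine IsPullback.of_right ?_ (pullback.lift_snd _ _ _) (IsPullback.of_hasPullback f _)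
    erw [pullback.lift_fst, Scheme.Hom.SpecMap_residueFieldMap_fromSpecResidueField]
    exact (IsPullback.of_hasPullback f' _).paste_horiz hc

variable {X S X' S' : Scheme.{u}} {f : X ⟶ S} [LocallyOfFiniteType f] {g : S' ⟶ S} {f' : X' ⟶ S'} {g' : X' ⟶ X}

theorem isLocallyNoetherian_fiber (f : X ⟶ S) [LocallyOfFiniteType f] (s : S) : IsLocallyNoetherian (f.fiber s) := by
  haveI : LocallyOfFiniteType (f.fiberToSpecResidueField s) :=
    MorphismProperty.pullback_snd (P := @LocallyOfFiniteType) _ _ ‹_›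
  haveI : IsNoetherianRing (S.residueField s : Type u) := inferInstance
  exact LocallyOfFiniteType.isLocallyNoetherian (f.fiberToSpecResidueField s)

/-- A point is in the relative assassin after base change iff its image is and it is maximal in the fibre
of the fibre map. -/
theorem mem_relAss_baseChange_iff (hc : IsPullback g' f' f g) (F : X.Modules) (x' : X') :
    x' ∈ MoreMor.relAss f' ((Scheme.Modules.pullback g').obj F) ↔
      g' x' ∈ MoreMor.relAss f F ∧
        ∀ x'' : X', f' x'' = f' x' → g' x'' = g' x' → x'' ⤳ x' → x'' = x' := by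
  haveI : LocallyOfFiniteType f' := MorphismProperty.of_isPullback (P := @LocallyOfFiniteType) hc ‹_›
  obtain ⟨q, π, hπ, sq⟩ := exists_fibreMap hc (f' x') rfl
  haveI := isLocallyNoetherian_fiber f (g (f' x'))
  haveI := isLocallyNoetherian_fiber f' (f' x')
  haveI : LocallyOfFiniteType (f.fiberToSpecResidueField (g (f' x'))) :=
    MorphismProperty.pullback_snd (P := @LocallyOfFiniteType) _ _ ‹_›
  haveI : Flat q := Groth.L00.BddFib.flat_toField (k := S.residueField (g (f' x'))) q
  haveI : Flat π := MorphismProperty.of_isPullback (P := @Flat) sq.flip ‹Flat q›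
  have hz : f'.fiberι (f' x') (f'.asFiber x') = x' := f'.fiberι_asFiber x'
  have hzπ : f.fiberι (g (f' x')) (π (f'.asFiber x')) = g' x' := by
    rw [← Scheme.Hom.comp_apply, hπ, Scheme.Hom.comp_apply, hz]
  rw [Groth.L07.RelAss.mem_relAss_iff_aux f' _ _ _ hz, Groth.L07.RelAss.mem_relAss_iff_aux f F _ _ hzπ]
  have i := (Scheme.Modules.pullbackComp (f'.fiberι (f' x')) g').app F ≪≫
    (Scheme.Modules.pullbackCongr hπ.symm).app F ≪≫
      ((Scheme.Modules.pullbackComp π (f.fiberι (g (f' x')))).app F).symm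
  refine (isAssociatedPrime_stalk_congr _ _ i _).trans ((ass_pullback_iff π _ _).trans (and_congr Iff.rfl ?_))
  refine ⟨fun h x'' h1 h2 h3 => ?_, fun h => ass_of_fibGen π _ fun y hy hsp => ?_⟩
  · have hG := fibGen_of_ass π (Field.toIsField (S.residueField (g (f' x'))))
      (Field.toIsField (S'.residueField (f' x'))) sq _ h
    obtain ⟨y, hy⟩ : x'' ∈ Set.range (f'.fiberι (f' x')) := by rw [Scheme.Hom.range_fiberι]; exact h1
    have h4 : f'.fiberι (f' x') y ⤳ f'.fiberι (f' x') (f'.asFiber x') := ((specializes_of_eq hy).trans h3).trans (specializes_of_eq hz.symm)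
    have hy' : π y = π (f'.asFiber x') := (f.fiberι _).isEmbedding.injective (by
      rw [hzπ, ← Scheme.Hom.comp_apply, hπ, Scheme.Hom.comp_apply, hy, h2])
    rw [← hy, hG y hy' ((f'.fiberι _).isEmbedding.isInducing.specializes_iff.mp h4), hz]
  · refine (f'.fiberι _).isEmbedding.injective ?_
    rw [hz]
    refine h _ ((Scheme.Hom.range_fiberι f' _).le ⟨y, rfl⟩) ?_ ((hsp.map (f'.fiberι _).continuous).trans (specializes_of_eq hz))
    rw [← Scheme.Hom.comp_apply, ← hπ, Scheme.Hom.comp_apply, hy, hzπ]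

/-- Every point of the relative assassin lifts to every base change. -/
theorem exists_mem_relAss_baseChange (hc : IsPullback g' f' f g) (F : X.Modules) {x : X}
    (hx : x ∈ MoreMor.relAss f F) (s' : S') (hs : f x = g s') :
    ∃ x' : X', x' ∈ MoreMor.relAss f' ((Scheme.Modules.pullback g').obj F) ∧ g' x' = x ∧ f' x' = s' := by
  haveI : LocallyOfFiniteType f' := MorphismProperty.of_isPullback (P := @LocallyOfFiniteType) hc ‹_›
  obtain ⟨q, π, hπ, sq⟩ := exists_fibreMap hc s' rfl
  haveI := isLocallyNoetherian_fiber f' s'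
  haveI : Surjective q := ⟨fun z => ⟨IsLocalRing.closedPoint (S'.residueField s'),
    Subsingleton.elim (α := PrimeSpectrum (S.residueField (g s'))) _ _⟩⟩
  haveI : Surjective π := MorphismProperty.of_isPullback (P := @Surjective) sq.flip ‹Surjective q›
  obtain ⟨z, hz⟩ : x ∈ Set.range (f.fiberι (g s')) := by rw [Scheme.Hom.range_fiberι]; exact hs
  obtain ⟨w₁, hw₁⟩ := π.surjective z
  obtain ⟨w, hw, -, hgen⟩ := Groth.L22.Cyc.exists_fibGen π w₁
  have hfx : f' (f'.fiberι s' w) = s' := (Scheme.Hom.range_fiberι f' _).le ⟨w, rfl⟩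
  have hgx : g' (f'.fiberι s' w) = x := by
    rw [← Scheme.Hom.comp_apply, ← hπ, Scheme.Hom.comp_apply, hw, hw₁, hz]
  refine ⟨f'.fiberι s' w, (mem_relAss_baseChange_iff hc F _).mpr ⟨hgx ▸ hx, fun x'' h1 h2 h3 => ?_⟩, hgx, hfx⟩
  obtain ⟨y, rfl⟩ : x'' ∈ Set.range (f'.fiberι s') := by
    rw [Scheme.Hom.range_fiberι]; exact h1.trans hfx
  refine congrArg _ (hgen y ((f.fiberι _).isEmbedding.injective ?_)
    ((f'.fiberι s').isEmbedding.isInducing.specializes_iff.mp h3))
  rw [← Scheme.Hom.comp_apply, ← Scheme.Hom.comp_apply, hπ, Scheme.Hom.comp_apply, Scheme.Hom.comp_apply]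
  exact h2

end Groth.L06.RelAssBC
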