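import Groth.Agent.L06.RelAssGenericLocal
import Groth.Agent.L16.AffineBC.Pullback

/-!
# Relative assassins near the generic point of an irreducible base
-/

set_option autoImplicit false
set_option maxSynthPendingDepth 3
set_option linter.style.haveILetI false
set_option backward.isDefEq.respectTransparency.types false

universe u

open CategoryTheory CategoryTheory.Limits AlgebraicGeometry TopologicalSpace Topology IsLocalRing

noncomputable section

namespace Groth.L06.RelAssGeneric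

variable {X S : Scheme.{u}}

/-- A quasi-compact open missing a given point of the generic fibre whose complement is, near the generic
fibre, in the closure of that point. -/
theorem exists_compact_avoid [IsAffine X] [IsAffine S] [IsIntegral S] (f : X ⟶ S) [LocallyOfFiniteType f]
    (x : X) :
    ∃ (U' : X.Opens) (W : S.Opens), IsCompact (U' : Set X) ∧ (W : Set S).Nonempty ∧ x ∉ U' ∧
      ∀ z, f z ∈ W → z ∉ U' → x ⤳ z := by
  classical
  let P : Ideal Γ(X, ⊤) := (maximalIdeal (X.presheaf.stalk x)).comap (X.presheaf.germ ⊤ x trivial).hom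
  have hP : ∀ a, a ∈ P ↔ x ∉ X.basicOpen a := fun a => by
    show X.presheaf.germ ⊤ x trivial a ∈ maximalIdeal _ ↔ _
    rw [mem_maximalIdeal, mem_nonunits_iff, Scheme.mem_basicOpen X a x trivial]
  letI : Algebra Γ(S, ⊤) Γ(X, ⊤) := f.appTop.hom.toAlgebra
  haveI : Algebra.FiniteType Γ(S, ⊤) Γ(X, ⊤) :=
    (HasRingHomProperty.iff_of_isAffine (P := @LocallyOfFiniteType)).1 ‹_›
  obtain ⟨g, hg, -, a, π, hsurj, K, hK, hle, hker⟩ :=
    Groth.L20.GF.exists_free_and_nearlyFP (R := Γ(S, ⊤)) (S := Γ(X, ⊤)) (Γ(X, ⊤) ⧸ P)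
  obtain ⟨k, v, hv⟩ := hsurj 1
  choose c hc using fun i => Ideal.Quotient.mk_surjective (π (Pi.single i 1))
  let lam : (Fin a → Γ(X, ⊤)) →ₗ[Γ(X, ⊤)] Γ(X, ⊤) := Fintype.linearCombination Γ(X, ⊤) c
  have hlam : ∀ w, Ideal.Quotient.mk P (lam w) = π w := fun w => by
    have h : (Submodule.mkQ P).comp lam = π := by
      apply LinearMap.pi_ext'
      intro i
      apply LinearMap.ext_ring
      simp only [LinearMap.comp_apply, lam, LinearMap.coe_single, Fintype.linearCombination_apply_single,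
        one_smul, Submodule.mkQ_apply]
      exact hc i
    exact congrArg (fun l => l w) h
  set b := algebraMap Γ(S, ⊤) Γ(X, ⊤) g with hb
  let p₀ := lam v - b ^ k
  obtain ⟨G, hG⟩ := hK.map lam
  let gens : Finset Γ(X, ⊤) := insert p₀ G
  have hgens : ∀ q ∈ gens, q ∈ P := fun q hq => by
    rcases Finset.mem_insert.mp hq with rfl | hq
    · rw [← Ideal.Quotient.eq, hlam, hv]
      show b ^ k • (1 : Γ(X, ⊤) ⧸ P) = _
      rw [Algebra.smul_def, mul_one]; rfl
    · obtain ⟨w, hw, rfl⟩ : q ∈ Submodule.map lam K := hG ▸ Submodule.subset_span hq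
      rw [← Ideal.Quotient.eq_zero_iff_mem, hlam]
      exact hle hw
  have key : ∀ p ∈ P, ∃ n, b ^ n * p ∈ Ideal.span (gens : Set Γ(X, ⊤)) := fun p hp => by
    have h1 : p • v ∈ LinearMap.ker π := by
      rw [LinearMap.mem_ker, map_smul, hv]
      show p • (b ^ k • (1 : Γ(X, ⊤) ⧸ P)) = 0
      rw [Algebra.smul_def p, Ideal.Quotient.algebraMap_eq, Ideal.Quotient.eq_zero_iff_mem.mpr hp, zero_mul]
    obtain ⟨l, hl⟩ := hker _ h1
    refine ⟨l + k, ?_⟩
    have h2 : lam (b ^ l • p • v) ∈ Ideal.span (G : Set Γ(X, ⊤)) := by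
      rw [Ideal.span, hG]; exact Submodule.mem_map_of_mem hl
    rw [map_smul, map_smul, smul_eq_mul, smul_eq_mul] at h2
    have h3 : b ^ (l + k) * p = b ^ l * (p * lam v) - b ^ l * p * p₀ := by
      simp only [p₀]; ring
    rw [h3]
    refine sub_mem (Ideal.span_mono (by simp [gens]) h2) (Ideal.mul_mem_left _ _ (Ideal.subset_span ?_))
    simp [gens]
  refine ⟨⨆ q : gens, X.basicOpen q.1, S.basicOpen g, ?_, ?_, ?_, fun z hz hzU => ?_⟩
  · rw [Opens.coe_iSup]
    exact isCompact_iUnion fun q => ((isAffineOpen_top X).basicOpen q.1).isCompact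
  · rw [Set.nonempty_iff_ne_empty]
    exact fun he => hg ((basicOpen_eq_bot_iff g).mp (Opens.ext he))
  · intro hx
    obtain ⟨q, hq⟩ := Opens.mem_iSup.mp hx
    exact (hP q.1).mp (hgens q.1 q.2) hq
  · refine specializes_iff_forall_open.mpr fun W hW hzW => ?_
    obtain ⟨p, hpW, hzp⟩ := (isAffineOpen_top X).exists_basicOpen_le (V := ⟨W, hW⟩) ⟨z, hzW⟩ trivial
    by_contra hxW
    obtain ⟨n, hn⟩ := key p ((hP p).mpr fun h => hxW (hpW h))
    let Q : Ideal Γ(X, ⊤) := (maximalIdeal (X.presheaf.stalk z)).comap (X.presheaf.germ ⊤ z trivial).hom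
    have hQ : ∀ c, c ∈ Q ↔ z ∉ X.basicOpen c := fun c => by
      show X.presheaf.germ ⊤ z trivial c ∈ maximalIdeal _ ↔ _
      rw [mem_maximalIdeal, mem_nonunits_iff, Scheme.mem_basicOpen X c z trivial]
    have h4 : b ^ n * p ∈ Q := Ideal.span_le.mpr (fun q hq => (hQ q).mpr fun h =>
      hzU (Opens.mem_iSup.mpr ⟨⟨q, hq⟩, h⟩)) hn
    haveI : Q.IsPrime := Ideal.IsPrime.comap _
    rcases Ideal.IsPrime.mem_or_mem ‹_› h4 with h5 | h5
    · refine (hQ b).mp (Ideal.IsPrime.mem_of_pow_mem ‹_› n h5) ?_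
      show z ∈ X.basicOpen (f.appTop g)
      rw [← Scheme.preimage_basicOpen_top]
      exact hz
    · exact (hQ p).mp h5 hzp

/-- A reduced affine model of an open of an irreducible scheme. -/
theorem exists_reduced_chart [IrreducibleSpace S] :
    ∃ (T : Scheme.{u}) (k : T ⟶ S) (_ : IsAffine T) (_ : IsIntegral T), Mono k ∧ IsOpenEmbedding k ∧
      k (genericPoint T) = genericPoint S := by
  obtain ⟨V, hV, hηV, -⟩ := exists_isAffineOpen_mem_and_subset (U := (⊤ : S.Opens)) (x := genericPoint S) trivial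
  let q := CommRingCat.ofHom (Ideal.Quotient.mk (nilradical Γ(S, V)))
  let k := Spec.map q ≫ hV.fromSpec
  haveI : IsClosedImmersion (Spec.map q) := IsClosedImmersion.spec_of_surjective _ Ideal.Quotient.mk_surjective
  haveI : Surjective (Spec.map q) := ⟨fun p => ⟨⟨p.asIdeal.map (Ideal.Quotient.mk _),
    Ideal.map_isPrime_of_surjective Ideal.Quotient.mk_surjective (by
      rw [Ideal.mk_ker]; exact nilradical_le_prime _)⟩, PrimeSpectrum.ext (by
    show (p.asIdeal.map (Ideal.Quotient.mk (nilradical Γ(S, V)))).comap (Ideal.Quotient.mk (nilradical Γ(S, V))) = _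
    rw [Ideal.comap_map_of_surjective _ Ideal.Quotient.mk_surjective, ← RingHom.ker_eq_comap_bot, Ideal.mk_ker]
    exact sup_eq_left.mpr (nilradical_le_prime _))⟩⟩
  have hr : Set.range k = (V : Set S) := by
    rw [Scheme.Hom.comp_base, TopCat.coe_comp, Set.range_comp, (Spec.map q).surjective.range_eq, Set.image_univ,
      hV.range_fromSpec]
  have hemb : IsOpenEmbedding k := by
    refine ⟨?_, hr ▸ V.2⟩
    rw [Scheme.Hom.comp_base, TopCat.coe_comp]
    exact hV.fromSpec.isOpenEmbedding.toIsEmbedding.comp (Spec.map q).isClosedEmbedding.toIsEmbedding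
  haveI : Nonempty ↑(Spec (CommRingCat.of (Γ(S, V) ⧸ nilradical Γ(S, V)))) := by
    obtain ⟨t, -⟩ := hr.ge hηV
    exact ⟨t⟩
  haveI : IrreducibleSpace ↑(Spec (CommRingCat.of (Γ(S, V) ⧸ nilradical Γ(S, V)))) := by
    haveI : PreirreducibleSpace ↑(Spec (CommRingCat.of (Γ(S, V) ⧸ nilradical Γ(S, V)))) :=
      ⟨(PreirreducibleSpace.isPreirreducible_univ (X := S)).preimage hemb⟩
    exact ⟨inferInstance⟩
  haveI : IsReduced (Γ(S, V) ⧸ nilradical Γ(S, V)) :=
    (Ideal.isRadical_iff_quotient_reduced _).mp (Ideal.radical_isRadical _)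
  haveI : IsReduced (Spec (CommRingCat.of (Γ(S, V) ⧸ nilradical Γ(S, V)))) := inferInstance
  haveI hint : IsIntegral (Spec (CommRingCat.of (Γ(S, V) ⧸ nilradical Γ(S, V)))) :=
    isIntegral_of_irreducibleSpace_of_isReduced _
  refine ⟨_, k, inferInstance, hint, inferInstance, hemb, ?_⟩
  obtain ⟨t, ht⟩ := hr.ge hηV
  have hgen : ∀ u, t ⤳ u := fun u => hemb.toIsEmbedding.isInducing.specializes_iff.mp
    (ht ▸ genericPoint_specializes (k u))
  rw [← ((genericPoint_specializes t).antisymm (hgen _)).eq] at ht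
  exact ht

/-- Transport of the assassin to pieces over the reduced chart. -/
theorem exists_pieces [IrreducibleSpace S] (f : X ⟶ S) [LocallyOfFiniteType f] [QuasiCompact f] (F : X.Modules)
    (hF : Coh.IsCoh F) :
    ∃ (T : Scheme.{u}) (k : T ⟶ S) (_ : IsAffine T) (_ : IsIntegral T) (_ : IsOpenEmbedding k)
      (_ : k (genericPoint T) = genericPoint S) (ι : Type u) (_ : Finite ι) (A : ι → Scheme.{u})
      (_ : ∀ i, IsAffine (A i)) (h : ∀ i, A i ⟶ T) (_ : ∀ i, LocallyOfFiniteType (h i))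
      (φ : ∀ i, A i ⟶ X) (G : ∀ i, (A i).Modules),
      (∀ i, Coh.IsCoh (G i)) ∧ (∀ i a, f (φ i a) = k (h i a)) ∧
      (∀ i a, a ∈ MoreMor.relAss (h i) (G i) ↔ φ i a ∈ MoreMor.relAss f F) ∧
      ∀ x : X, f x ∈ Set.range k → ∃ i a, φ i a = x := by
  obtain ⟨T, k, hTa, hTi, hmono, hemb, hgen⟩ := exists_reduced_chart (S := S)
  haveI := hTa
  haveI := hmono
  let f₁ := pullback.snd f k
  let g₁ := pullback.fst f k
  haveI : LocallyOfFiniteType f₁ := MorphismProperty.pullback_snd _ _ ‹_›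
  haveI : CompactSpace ↑(pullback f k) := QuasiCompact.compactSpace_of_compactSpace f₁
  have hinj : Function.Injective g₁ := by
    intro a b hab
    obtain ⟨p, hpa, hpb⟩ := Scheme.Pullback.exists_preimage_pullback (f := g₁) (g := g₁) a b hab
    rw [← hpa, ← hpb, fst_eq_snd_of_mono_eq g₁]
  let 𝒰 := (pullback f k).affineCover.finiteSubcover
  refine ⟨T, k, hTa, hTi, hemb, hgen, 𝒰.I₀, inferInstance, fun i => 𝒰.X i, fun i => inferInstanceAs (IsAffine (Spec _)),
    fun i => 𝒰.f i ≫ f₁, fun i => inferInstance, fun i => 𝒰.f i ≫ g₁,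
    fun i => (Scheme.Modules.pullback (𝒰.f i)).obj ((Scheme.Modules.pullback g₁).obj F), fun i => ?_,
    fun i a => ?_, fun i a => ?_, fun x hx => ?_⟩
  · exact Groth.L16.AffineBC.isCoh_pullback _ (Groth.L16.AffineBC.isCoh_pullback _ hF)
  · simp only [← Scheme.Hom.comp_apply, Category.assoc, f₁, g₁, pullback.condition]
  · rw [Scheme.Hom.comp_apply, mem_relAss_openImmersion f₁ _ (𝒰.f i) a]
    exact mem_relAss_injective (IsPullback.of_hasPullback f k) hinj F _
  · obtain ⟨t, ht⟩ := hx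
    obtain ⟨p, hp, -⟩ := Scheme.Pullback.exists_preimage_pullback (f := f) (g := k) x t ht.symm
    obtain ⟨a, ha⟩ := 𝒰.covers p
    exact ⟨_, a, by rw [Scheme.Hom.comp_apply, ha]; exact hp⟩

theorem subset_near_generic [IrreducibleSpace S] (f : X ⟶ S) [LocallyOfFiniteType f] [QuasiCompact f]
    (F : X.Modules) (hF : Coh.IsCoh F) (U : X.Opens)
    (h : ∀ x ∈ MoreMor.relAss f F, f x = genericPoint S → x ∈ U) :
    ∃ V : S.Opens, (V : Set S).Nonempty ∧ ∀ x ∈ MoreMor.relAss f F, f x ∈ V → x ∈ U := by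
  classical
  obtain ⟨T, k, _, _, hemb, hgen, ι, _, A, _, h', _, φ, G, hG, hw, hass, hcov⟩ := exists_pieces f F hF
  have hW : ∀ i, ∃ W : T.Opens, (W : Set T).Nonempty ∧
      ∀ a ∈ MoreMor.relAss (h' i) (G i), h' i a ∈ W → φ i a ∈ U := fun i => by
    haveI : NoetherianSpace ((h' i) ⁻¹' {genericPoint T} : Set (A i)) := by
      haveI := Groth.L06.RelAssBC.isLocallyNoetherian_fiber (h' i) (genericPoint T)
      haveI : IsNoetherian ((h' i).fiber (genericPoint T)) := ⟨⟩
      exact ((h' i).fiberHomeo (genericPoint T)).symm.isInducing.noetherianSpace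
    obtain ⟨U', hU'c, hU'le, hU'⟩ : ∃ U' : (A i).Opens, IsCompact (U' : Set (A i)) ∧ U' ≤ φ i ⁻¹ᵁ U ∧
        ∀ a, h' i a = genericPoint T → a ∈ φ i ⁻¹ᵁ U → a ∈ U' := by
      have hc : IsCompact ((h' i) ⁻¹' {genericPoint T} ∩ (φ i ⁻¹ᵁ U : Set (A i))) := by
        rw [← Subtype.image_preimage_coe]
        exact (NoetherianSpace.isCompact _).image continuous_subtype_val
      choose B hB hxB hBle using fun a : (φ i ⁻¹ᵁ U : Set (A i)) =>
        exists_isAffineOpen_mem_and_subset (U := φ i ⁻¹ᵁ U) (x := a.1) a.2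
      obtain ⟨t, ht⟩ := hc.elim_finite_subcover (fun a => (B a : Set (A i))) (fun a => (B a).2)
        (fun a ha => Set.mem_iUnion.mpr ⟨⟨a, ha.2⟩, hxB _⟩)
      refine ⟨t.sup B, ?_, Finset.sup_le fun a _ => hBle a, fun a ha haU => ?_⟩
      · rw [Opens.coe_finset_sup, Finset.sup_set_eq_biUnion]
        exact t.finite_toSet.isCompact_biUnion fun a _ => (hB a).isCompact
      · obtain ⟨c, hc, hac⟩ := Set.mem_iUnion₂.mp (ht ⟨ha, haU⟩)
        exact Finset.le_sup (f := B) hc hac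
    obtain ⟨W, hW, hW1, -⟩ := dichotomy (h' i) (G i) (hG i) U' hU'c
    refine ⟨W, hW, fun a ha haW => hU'le (hW1 (fun b hb hbη => hU' b hbη ?_) a ha haW)⟩
    exact h _ ((hass i b).mp hb) (by rw [hw, hbη, hgen])
  choose W hWne hWsub using hW
  letI := Fintype.ofFinite ι
  let W₀ : T.Opens := Finset.univ.inf W
  have hη : genericPoint T ∈ W₀ := by
    suffices ∀ s : Finset ι, genericPoint T ∈ s.inf W from this _
    intro s
    induction s using Finset.induction_on with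
    | empty => trivial
    | insert i s _ ih =>
      rw [Finset.inf_insert]
      refine ⟨?_, ih⟩
      obtain ⟨z, hz⟩ := hWne i
      exact ((genericPoint_spec T).mem_open_set_iff (W i).2).2 ⟨z, trivial, hz⟩
  refine ⟨⟨k '' (W₀ : Set T), hemb.isOpenMap _ W₀.2⟩, ⟨_, _, hη, rfl⟩, fun x hx hxV => ?_⟩
  obtain ⟨t, htW, ht⟩ := hxV
  obtain ⟨i, a, rfl⟩ := hcov x ⟨t, ht⟩
  refine hWsub i a ((hass i a).mpr hx) ?_
  rw [hw] at ht
  exact hemb.injective ht ▸ (Finset.inf_le (f := W) (Finset.mem_univ i)) htW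

theorem not_subset_near_generic [IrreducibleSpace S] (f : X ⟶ S) [LocallyOfFiniteType f] [QuasiCompact f]
    (F : X.Modules) (hF : Coh.IsCoh F) (U : X.Opens)
    (h : ∃ x ∈ MoreMor.relAss f F, f x = genericPoint S ∧ x ∉ U) :
    ∃ V : S.Opens, (V : Set S).Nonempty ∧ ∀ y ∈ V, ∃ x ∈ MoreMor.relAss f F, f x = y ∧ x ∉ U := by
  obtain ⟨T, k, _, _, hemb, hgen, ι, _, A, _, h', _, φ, G, hG, hw, hass, hcov⟩ := exists_pieces f F hF
  obtain ⟨x, hx, hfx, hxU⟩ := h
  obtain ⟨i, a, rfl⟩ := hcov x ⟨_, hgen.trans hfx.symm⟩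
  have hfa : h' i a = genericPoint T := hemb.injective ((hw i a).symm.trans (hfx.trans hgen.symm))
  obtain ⟨U', W₁, hU', hW₁, haU', hspec⟩ := exists_compact_avoid (h' i) a
  obtain ⟨W, hW, -, hW2⟩ := dichotomy (h' i) (G i) (hG i) U' hU'
  have hη : genericPoint T ∈ W ⊓ W₁ := by
    obtain ⟨z, hz⟩ := hW
    obtain ⟨z', hz'⟩ := hW₁
    exact ⟨((genericPoint_spec T).mem_open_set_iff W.2).2 ⟨z, trivial, hz⟩,
      ((genericPoint_spec T).mem_open_set_iff W₁.2).2 ⟨z', trivial, hz'⟩⟩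
  refine ⟨⟨k '' (W ⊓ W₁ : T.Opens), hemb.isOpenMap _ (W ⊓ W₁).2⟩, ⟨_, _, hη, rfl⟩, ?_⟩
  rintro _ ⟨t, ⟨ht, ht₁⟩, rfl⟩
  obtain ⟨b, hb, hbt, hbU⟩ := hW2 ⟨a, (hass i a).mpr hx, hfa, haU'⟩ t ht
  refine ⟨φ i b, (hass i b).mp hb, by rw [hw, hbt], fun hmem => hxU ?_⟩
  exact ((hspec b (hbt.symm ▸ ht₁) hbU).map (φ i).continuous).mem_open U.2 hmem

end Groth.L06.RelAssGeneric
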