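import Groth.Agent.L06.RelAssBC
import Groth.Agent.L06.Constr
import Groth.Agent.L20.ModStalk
import Groth.Agent.L20.GenericFreeness
import Groth.Agent.L05.Prufer.Sheaf
import Groth.Agent.L07.PrinParts.Mod
import Groth.Agent.L22.Inter.FlatTwist
import Groth.Agent.S0414
import Groth.Agent.S1370

/-!
# Relative assassins near the generic point of the base, affine case
-/

set_option autoImplicit false
set_option maxSynthPendingDepth 3
set_option linter.style.haveILetI false
set_option backward.isDefEq.respectTransparency.types false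

universe u

open CategoryTheory CategoryTheory.Limits AlgebraicGeometry TopologicalSpace Topology

noncomputable section

namespace Groth.L06.RelAssGeneric

open Groth.L22.Cyc (FibGen)

variable {X S : Scheme.{u}}

/-- The relative assassin restricts along open immersions of the source. -/
theorem mem_relAss_openImmersion (f : X ⟶ S) [LocallyOfFiniteType f] (F : X.Modules) {A : Scheme.{u}}
    (j : A ⟶ X) [IsOpenImmersion j] (w : A) :
    w ∈ MoreMor.relAss (j ≫ f) ((Scheme.Modules.pullback j).obj F) ↔ j w ∈ MoreMor.relAss f F := by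
  let π := MoreMor.fiberMap j f (f (j w))
  have sq : IsPullback ((j ≫ f).fiberι (f (j w))) π j (f.fiberι (f (j w))) := by
    refine IsPullback.of_bot ?_ (pullback.lift_fst _ _ _).symm (IsPullback.of_hasPullback f _)
    show IsPullback _ (MoreMor.fiberMap j f (f (j w)) ≫ _) _ _
    rw [MoreMor.fiberMap]
    erw [pullback.lift_snd]
    exact IsPullback.of_hasPullback (j ≫ f) _
  haveI : IsOpenImmersion π := MorphismProperty.of_isPullback (P := @IsOpenImmersion) sq ‹IsOpenImmersion j›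
  haveI := Groth.L06.RelAssBC.isLocallyNoetherian_fiber f (f (j w))
  haveI := Groth.L06.RelAssBC.isLocallyNoetherian_fiber (j ≫ f) (f (j w))
  obtain ⟨z, hz⟩ : w ∈ Set.range ((j ≫ f).fiberι (f (j w))) := by
    rw [Scheme.Hom.range_fiberι]; exact Scheme.Hom.comp_apply _ _ _
  have hzπ : f.fiberι (f (j w)) (π z) = j w := by
    rw [← Scheme.Hom.comp_apply, ← sq.w, Scheme.Hom.comp_apply, hz]
  rw [Groth.L07.RelAss.mem_relAss_iff_aux (j ≫ f) _ _ _ hz, Groth.L07.RelAss.mem_relAss_iff_aux f F _ _ hzπ]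
  have i := (Scheme.Modules.pullbackComp ((j ≫ f).fiberι (f (j w))) j).app F ≪≫
    (Scheme.Modules.pullbackCongr sq.w).app F ≪≫
      ((Scheme.Modules.pullbackComp π (f.fiberι (f (j w)))).app F).symm
  refine (Groth.L06.RelAssBC.isAssociatedPrime_stalk_congr _ _ i _).trans
    ((Groth.L06.RelAssBC.ass_pullback_iff π _ _).trans ?_)
  exact and_iff_left (Groth.L06.RelAssBC.ass_of_fibGen π z fun y hy _ => π.isOpenEmbedding.injective hy)

/-- The relative assassin does not change along injective base changes. -/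
theorem mem_relAss_injective {X' S' : Scheme.{u}} {f : X ⟶ S} [LocallyOfFiniteType f] {g : S' ⟶ S}
    {f' : X' ⟶ S'} {g' : X' ⟶ X} (hc : IsPullback g' f' f g) (hinj : Function.Injective g') (F : X.Modules)
    (x' : X') : x' ∈ MoreMor.relAss f' ((Scheme.Modules.pullback g').obj F) ↔ g' x' ∈ MoreMor.relAss f F :=
  (Groth.L06.RelAssBC.mem_relAss_baseChange_iff hc F x').trans
    (and_iff_left fun _ _ h _ => hinj h)

/-- A nearly finitely presented module of sections is finitely presented over the basic open. -/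
theorem finitePresentation_basicOpen [IsAffine X] {R : Type u} [CommRing R] [Algebra R Γ(X, ⊤)] (F : X.Modules)
    [Coh.IsQCoh F] (g : R) (h : Groth.L20.GF.NearlyFP g Γ(X, ⊤) Γ(F, ⊤)) :
    Module.FinitePresentation Γ(X, X.basicOpen (algebraMap R Γ(X, ⊤) g))
      Γ(F, X.basicOpen (algebraMap R Γ(X, ⊤) g)) := by
  obtain ⟨a, π, hsurj, K, hK, hle, hker⟩ := h
  set b := algebraMap R Γ(X, ⊤) g with hb
  letI := (X.presheaf.map (homOfLE (X.basicOpen_le b)).op).hom.toAlgebra
  letI := Module.compHom Γ(F, X.basicOpen b) (X.presheaf.map (homOfLE (X.basicOpen_le b)).op).hom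
  haveI : IsScalarTower Γ(X, ⊤) Γ(X, X.basicOpen b) Γ(F, X.basicOpen b) :=
    IsScalarTower.of_algebraMap_smul fun _ _ => rfl
  haveI : IsLocalization.Away b Γ(X, X.basicOpen b) := (isAffineOpen_top X).isLocalization_basicOpen b
  let res : Γ(F, ⊤) →ₗ[Γ(X, ⊤)] Γ(F, X.basicOpen b) :=
    { toFun := fun s => Groth.L18.Frame.rs F (X.basicOpen_le b) s
      map_add' := fun x y => map_add _ x y
      map_smul' := fun r s => Groth.L18.Frame.rs_smul F (X.basicOpen_le b) r s }
  haveI hres : IsLocalizedModule (Submonoid.powers b) res :=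
    Groth.L20.ModStalk.isLocalizedModule_res F (isAffineOpen_top X) b
  haveI : Module.FinitePresentation Γ(X, ⊤) ((Fin a → Γ(X, ⊤)) ⧸ K) :=
    Module.finitePresentation_of_surjective K.mkQ K.mkQ_surjective (by rwa [Submodule.ker_mkQ])
  let π₀ : ((Fin a → Γ(X, ⊤)) ⧸ K) →ₗ[Γ(X, ⊤)] Γ(F, ⊤) := K.liftQ π hle
  haveI : IsLocalizedModule (Submonoid.powers b) (res ∘ₗ π₀) := by
    refine ⟨hres.map_units, fun y => ?_, fun {x₁ x₂} he => ?_⟩
    · obtain ⟨⟨m, ⟨_, i, rfl⟩⟩, hy⟩ := IsLocalizedModule.surj (Submonoid.powers b) res y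
      obtain ⟨k, v, hv⟩ := hsurj m
      refine ⟨(K.mkQ v, ⟨b ^ (k + i), k + i, rfl⟩), ?_⟩
      show b ^ (k + i) • y = res (π v)
      rw [hv, map_smul, ← hy, pow_add, mul_smul]
      rfl
    · obtain ⟨v₁, rfl⟩ := K.mkQ_surjective x₁
      obtain ⟨v₂, rfl⟩ := K.mkQ_surjective x₂
      obtain ⟨⟨_, i, rfl⟩, hc⟩ := hres.exists_of_eq (S := Submonoid.powers b) (f := res) he
      have hk : b ^ i • (v₁ - v₂) ∈ LinearMap.ker π := by
        rw [LinearMap.mem_ker, map_smul, map_sub, smul_sub, sub_eq_zero]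
        exact hc
      obtain ⟨l, hl⟩ := hker _ hk
      refine ⟨⟨b ^ (l + i), l + i, rfl⟩, ?_⟩
      show b ^ (l + i) • K.mkQ v₁ = b ^ (l + i) • K.mkQ v₂
      rw [← map_smul, ← map_smul, Submodule.mkQ_apply, Submodule.mkQ_apply, Submodule.Quotient.eq, ← smul_sub,
        pow_add, mul_smul]
      exact hl
  exact Module.FinitePresentation.of_equiv
    (IsLocalizedModule.isBaseChange (Submonoid.powers b) Γ(X, X.basicOpen b) (res ∘ₗ π₀)).equiv

theorem contains_open [IrreducibleSpace X] {C : Set X} (hC : IsConstructible C) (h : genericPoint X ∈ C) :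
    ∃ W : X.Opens, (W : Set X).Nonempty ∧ (W : Set X) ⊆ C := by
  obtain ⟨n, L, hL, hCL⟩ := Groth.L06.Constr.exists_finite_isLocallyClosed hC
  obtain ⟨U, hU, hne, hsub⟩ := Groth.L06.Constr.exists_open_inter_subset hL
    (IrreducibleSpace.isIrreducible_univ X) (by
      rw [Set.inter_univ, ← hCL]
      exact (genericPoint_spec X).symm.subset.trans (closure_mono (Set.singleton_subset_iff.mpr h)))
  exact ⟨⟨U, hU⟩, by simpa using hne, by rw [hCL]; simpa using hsub⟩

/-- Near the generic point of an integral affine base the source and the module are finitely presented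
and the assassins outside a quasi-compact open are governed by the generic fibre. -/
theorem dichotomy [IsAffine X] [IsAffine S] [IsIntegral S] (f : X ⟶ S) [LocallyOfFiniteType f]
    (F : X.Modules) (hF : Coh.IsCoh F) (U : X.Opens) (hU : IsCompact (U : Set X)) :
    ∃ W : S.Opens, (W : Set S).Nonempty ∧
      ((∀ x ∈ MoreMor.relAss f F, f x = genericPoint S → x ∈ U) →
        ∀ x ∈ MoreMor.relAss f F, f x ∈ W → x ∈ U) ∧
      ((∃ x ∈ MoreMor.relAss f F, f x = genericPoint S ∧ x ∉ U) →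
        ∀ y ∈ W, ∃ x ∈ MoreMor.relAss f F, f x = y ∧ x ∉ U) := by
  classical
  haveI : Coh.IsQCoh F := hF.1
  obtain ⟨O, hO, -, hfp⟩ := Groth.Agent.S0414.result f
  letI : Algebra Γ(S, ⊤) Γ(X, ⊤) := f.appTop.hom.toAlgebra
  haveI : Algebra.FiniteType Γ(S, ⊤) Γ(X, ⊤) :=
    (HasRingHomProperty.iff_of_isAffine (P := @LocallyOfFiniteType)).1 ‹_›
  letI : Module Γ(S, ⊤) Γ(F, ⊤) := Module.compHom _ f.appTop.hom
  haveI : IsScalarTower Γ(S, ⊤) Γ(X, ⊤) Γ(F, ⊤) := IsScalarTower.of_algebraMap_smul fun _ _ => rfl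
  haveI : Module.Finite Γ(X, ⊤) Γ(F, ⊤) := Groth.L20.ModStalk.finite_sections F hF (isAffineOpen_top X)
  obtain ⟨g₀, hg₀, -, hnear⟩ := Groth.L20.GF.exists_free_and_nearlyFP (R := Γ(S, ⊤)) (S := Γ(X, ⊤)) Γ(F, ⊤)
  have hη : genericPoint S ∈ S.basicOpen g₀ ⊓ O := by
    refine ⟨((genericPoint_spec S).mem_open_set_iff (S.basicOpen g₀).2).2 ?_,
      ((genericPoint_spec S).mem_open_set_iff O.2).2 ?_⟩
    · obtain ⟨z, hz⟩ : (S.basicOpen g₀ : Set S).Nonempty := by
        rw [Set.nonempty_iff_ne_empty]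
        exact fun he => hg₀ ((basicOpen_eq_bot_iff g₀).mp (Opens.ext he))
      exact ⟨z, trivial, hz⟩
    · obtain ⟨z, hz⟩ := hO.nonempty
      exact ⟨z, trivial, hz⟩
  obtain ⟨g, hgle, hηg⟩ := (isAffineOpen_top S).exists_basicOpen_le ⟨genericPoint S, hη⟩ trivial
  let V := S.basicOpen g
  haveI : IsAffine V.toScheme := (isAffineOpen_top S).basicOpen g
  haveI : IsAffine (f ⁻¹ᵁ V).toScheme := ((isAffineOpen_top S).basicOpen g).preimage f
  haveI : LocallyOfFinitePresentation (f ∣_ V) := by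
    have hVO : V ≤ O := hgle.trans inf_le_right
    have sqO := (isPullback_morphismRestrict f O).flip
    let top := sqO.lift (f ⁻¹ᵁ V).ι ((f ∣_ V) ≫ S.homOfLE hVO) (by
      rw [Category.assoc, Scheme.homOfLE_ι, morphismRestrict_ι])
    refine MorphismProperty.of_isPullback (P := @LocallyOfFinitePresentation) (f' := top) (f := S.homOfLE hVO) ?_ hfp
    refine IsPullback.of_right ?_ (sqO.lift_snd _ _ _) sqO
    rw [sqO.lift_fst, Scheme.homOfLE_ι]
    exact (isPullback_morphismRestrict f V).flip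
  haveI : Nonempty V.toScheme := ⟨⟨_, hηg⟩⟩
  have hc := (isPullback_morphismRestrict f V).flip
  let ι := (f ⁻¹ᵁ V).ι
  let F' := (Scheme.Modules.pullback ι).obj F
  have hFP : CohB1.IsFP F' := by
    let b := f.appTop g₀
    have hle : f ⁻¹ᵁ V ≤ X.basicOpen b := by
      show f ⁻¹ᵁ V ≤ X.basicOpen (f.app ⊤ g₀)
      rw [← Scheme.preimage_basicOpen]
      exact f.preimage_mono (hgle.trans inf_le_left)
    have hbfp : Module.FinitePresentation Γ(X, X.basicOpen b) Γ(F, X.basicOpen b) :=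
      finitePresentation_basicOpen F g₀ hnear
    have h1 : CohB1.IsFP ((Scheme.Modules.pullback (X.basicOpen b).ι).obj F) := by
      refine Groth.L22.Inter.FlatTwist.isFP_of_iso
        ((Scheme.Modules.restrictFunctorIsoPullback (X.basicOpen b).ι).app F) ?_
      obtain ⟨N, hN, ⟨e⟩⟩ := Groth.L05.Prufer.exists_tilde_chart F ((isAffineOpen_top X).basicOpen b) hbfp
      refine Groth.L19.isFP_of_tilde_charts _ fun x =>
        ⟨_, ((isAffineOpen_top X).basicOpen b).isoSpec.inv, inferInstance, N,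
          ((isAffineOpen_top X).basicOpen b).isoSpec.inv.surjective x, hN, ⟨?_⟩⟩
      haveI : IsOpenImmersion (((isAffineOpen_top X).basicOpen b).isoSpec.inv ≫ (X.basicOpen b).ι) := inferInstance
      exact ((Scheme.Modules.restrictFunctorComp _ _).symm ≪≫ Scheme.Modules.restrictFunctorCongr
        ((isAffineOpen_top X).basicOpen b).isoSpec_inv_ι).app F ≪≫ e
    exact Groth.L22.Inter.FlatTwist.isFP_of_iso
      ((Scheme.Modules.pullbackComp (X.homOfLE hle) (X.basicOpen b).ι).app F ≪≫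
        (Scheme.Modules.pullbackCongr (X.homOfLE_ι hle)).app F)
      (Groth.L07.PrinParts.isFP_pullback (X.homOfLE hle) h1)
  have hF'q : Coh.IsQCoh F' := Groth.L05.Prufer.isQCoh_of_isFP hFP
  let U' := ι ⁻¹ᵁ U
  haveI : CompactSpace ↥U'.toScheme := by
    refine isCompact_iff_compactSpace.mp ?_
    rw [ι.isOpenEmbedding.toIsEmbedding.isCompact_iff]
    show IsCompact (ι '' (ι ⁻¹' (U : Set X)))
    rw [Set.image_preimage_eq_inter_range, Scheme.Opens.range_ι]
    exact hU.inter_of_isOpen (((isAffineOpen_top S).basicOpen g).preimage f).isCompact U.2 (f ⁻¹ᵁ V).2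
  haveI : QuasiCompact (U'.ι ≫ f ∣_ V) := HasAffineProperty.iff_of_isAffine.mpr (inferInstance : CompactSpace U'.toScheme)
  have hcons := (Groth.Agent.S1370.result (f ∣_ V) F' hF'q hFP U').isConstructible
  have hpts : ∀ x : ↥(f ⁻¹ᵁ V).toScheme,
      x ∈ MoreMor.relAss (f ∣_ V) F' ↔ x.1 ∈ MoreMor.relAss f F := fun x =>
    mem_relAss_injective hc (f ⁻¹ᵁ V).ι.isOpenEmbedding.injective F x
  haveI : IsIntegral V.toScheme := isIntegral_of_isOpenImmersion V.ι
  have hgen : (genericPoint V.toScheme).1 = genericPoint S :=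
    genericPoint_eq_of_isOpenImmersion V.ι
  let η : V.toScheme := genericPoint V.toScheme
  by_cases hη' : η ∈ {y | ∀ x ∈ MoreMor.relAss (f ∣_ V) F', (f ∣_ V) x = y → x ∈ U'}
  · obtain ⟨W, hWne, hW⟩ := contains_open hcons hη'
    refine ⟨V.ι ''ᵁ W, hWne.image _, fun _ x hx hxW => ?_, fun ⟨x, hx, hfx, hxU⟩ => ?_⟩
    · obtain ⟨v, hv, hvx⟩ := hxW
      have hxV : x ∈ f ⁻¹ᵁ V := by show f x ∈ V; rw [← hvx]; exact v.2
      exact hW hv ⟨x, hxV⟩ ((hpts _).2 hx) (Subtype.ext ((morphismRestrict_base_coe f V _).trans hvx.symm))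
    · have hxV : x ∈ f ⁻¹ᵁ V := by show f x ∈ V; rw [hfx]; exact hηg
      exact absurd (hη' ⟨x, hxV⟩ ((hpts _).2 hx)
        (Subtype.ext ((morphismRestrict_base_coe f V _).trans (hfx.trans hgen.symm)))) hxU
  · obtain ⟨W, hWne, hW⟩ := contains_open hcons.compl hη'
    refine ⟨V.ι ''ᵁ W, hWne.image _, fun h => absurd (fun x hx hfx => ?_) hη', fun _ y hy => ?_⟩
    · exact h x.1 ((hpts x).1 hx) ((morphismRestrict_base_coe f V x).symm.trans ((congrArg Subtype.val hfx).trans hgen))
    · obtain ⟨v, hv, rfl⟩ := hy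
      have h := hW hv
      simp only [Set.mem_compl_iff, Set.mem_setOf_eq, not_forall] at h
      obtain ⟨x, hx, hxv, hxU⟩ := h
      exact ⟨x.1, (hpts x).1 hx, (morphismRestrict_base_coe f V x).symm.trans (congrArg Subtype.val hxv), hxU⟩

end Groth.L06.RelAssGeneric
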