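import Groth.Agent.L06.RelAssSpecial
import Groth.Agent.L06.RelAssGenericLocal
import Groth.Agent.L20.ModFlat

/-!
# Generic points of fibres of the closure of a relative associated point
-/

set_option autoImplicit false
set_option maxSynthPendingDepth 3
set_option linter.style.haveILetI false
set_option backward.isDefEq.respectTransparency.types false

universe u

open CategoryTheory CategoryTheory.Limits AlgebraicGeometry TopologicalSpace Topology IsLocalRing
open Groth.L07.Equidim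

noncomputable section

namespace Groth.L06.RelAssSpecial

variable {X S : Scheme.{u}} (f : X ⟶ S) [LocallyOfFiniteType f] (F : X.Modules)

theorem localDim_closure (y x : X) (hyx : y ⤳ x) (hmax : ∀ z, y ⤳ z → f z = f x → z ⤳ x → z = x) :
    FlatMor.localDim ↑(closure ({y} : Set X) ∩ f.base ⁻¹' {f.base x}) ⟨x, hyx.mem_closure, rfl⟩ = fdim f x := by
  let I := Scheme.IdealSheafData.vanishingIdeal (⟨closure {y}, isClosed_closure⟩ : Closeds X)
  have hr : Set.range I.subschemeι = closure {y} :=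
    Groth.L07.DimToolkit.range_subschemeι_vanishingIdeal ⟨closure {y}, isClosed_closure⟩
  obtain ⟨w, hw⟩ : x ∈ Set.range I.subschemeι := by rw [hr]; exact hyx.mem_closure
  rw [Groth.L07.DimToolkit.localDim_eq_fibreDimAt_comp I.subschemeι f w _ hr x hw,
    ← Groth.L07.OpenFibreDim.fdim_eq_fibreDimAt (I.subschemeι ≫ f) w fun w' h h' => ?_,
    fdim_comp I.subschemeι f _ rfl, hw]
  refine I.subschemeι.isEmbedding.injective ((hmax _ ?_ ?_ ?_).trans hw.symm)
  · exact specializes_iff_mem_closure.mpr (hr ▸ ⟨w', rfl⟩)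
  · rw [← Scheme.Hom.comp_apply, h, Scheme.Hom.comp_apply, hw]
  · exact (h'.map I.subschemeι.continuous).trans (specializes_of_eq hw)

theorem generic_of_closure_fibre (hF : Coh.IsCoh F) (y : X) (hy : y ∈ MoreMor.relAss f F) (s : S) (x : X)
    (hx : x ∈ closure ({y} : Set X)) (hxs : f x = s)
    (hgen : ∃ C ∈ irreducibleComponents ↑(closure ({y} : Set X) ∩ f ⁻¹' {s}),
      IsGenericPoint (⟨x, hx, hxs⟩ : ↑(closure ({y} : Set X) ∩ f ⁻¹' {s})) C)
    (hfl : FlatMod.IsFlatOverAt f F x) :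
    x ∈ MoreMor.relAss f F ∧
      FlatMor.localDim ↑(closure ({y} : Set X) ∩ f ⁻¹' {s}) ⟨x, hx, hxs⟩ =
        topologicalKrullDim ↑(closure ({y} : Set X) ∩ f ⁻¹' {f y}) := by
  subst hxs
  obtain ⟨C, hC, hg⟩ := hgen
  have hmax : ∀ z, y ⤳ z → f z = f x → z ⤳ x → z = x := fun z h1 h2 h3 =>
    eq_of_isGenericPoint hC hg (show z ∈ (closure {y} ∩ f ⁻¹' {f x} : Set X) from ⟨h1.mem_closure, h2⟩) h3
  obtain ⟨h1, h2⟩ := relAss_specialise f F hF y hy x (specializes_iff_mem_closure.mpr hx) hmax hfl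
  exact ⟨h1, (localDim_closure f y x (specializes_iff_mem_closure.mpr hx) hmax).trans h2⟩

theorem closure_hasRelDim (hF : Coh.IsCoh F) (y : X) (hy : y ∈ MoreMor.relAss f F) {Y : Scheme.{u}}
    (i : Y ⟶ X) [IsClosedImmersion i] (hr : Set.range i = closure {y})
    (hflat : ∀ x : Y, (∃ Z ∈ irreducibleComponents ↥((i ≫ f).fiber (f (i x))),
      IsGenericPoint ((i ≫ f).asFiber x) Z) → FlatMod.IsFlatOverAt f F (i x)) :
    ∃ d : ℕ, ∀ x : Y, FlatMor.fibreDimAt (i ≫ f) x = d := by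
  obtain ⟨d, hd, -⟩ := Groth.L07.DimToolkit.exists_fdim_rtrdeg f y
  refine ⟨d, fun x => ?_⟩
  obtain ⟨z, -, -, hmax, hz⟩ := Groth.L07.OpenEquiv.exists_maximal_fdim_eq (i ≫ f) x
  have hyz : y ⤳ i z := specializes_iff_mem_closure.mpr (hr.le ⟨z, rfl⟩)
  have hgen : ∃ C ∈ irreducibleComponents ↥((i ≫ f).fiber (f (i z))), IsGenericPoint ((i ≫ f).asFiber z) C := by
    refine ⟨_, irreducibleComponent_mem_irreducibleComponents ((i ≫ f).asFiber z), ?_⟩
    obtain ⟨g, hg⟩ := QuasiSober.sober (isIrreducible_irreducibleComponent (x := (i ≫ f).asFiber z))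
      isClosed_irreducibleComponent
    have h1 := (hg.specializes mem_irreducibleComponent).map ((i ≫ f).fiberι _).continuous
    rw [(i ≫ f).fiberι_asFiber] at h1
    have h2 : g = (i ≫ f).asFiber z := ((i ≫ f).fiberι _).isEmbedding.injective
      ((hmax _ ((Scheme.Hom.range_fiberι (i ≫ f) _).le ⟨g, rfl⟩) h1).trans ((i ≫ f).fiberι_asFiber z).symm)
    exact h2 ▸ hg
  have h := relAss_specialise f F hF y hy (i z) hyz (fun w h1 h2 h3 => by
    obtain ⟨w', rfl⟩ := hr.ge h1.mem_closure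
    exact congrArg _ (hmax w' (by simpa using h2) (i.isEmbedding.isInducing.specializes_iff.mp h3))) (hflat z hgen)
  rw [← hz, fdim_comp i f _ rfl, h.2, hd]

theorem exists_open_generic (hF : Coh.IsCoh F) (ξ : X) (hξ : ξ ∈ MoreMor.relAss f F) :
    ∃ V : Set X, V ⊆ closure {ξ} ∧ IsOpen (Subtype.val ⁻¹' V : Set ↑(closure ({ξ} : Set X))) ∧ V.Nonempty ∧
      ∀ (x : X) (hx : x ∈ V), (∃ C ∈ irreducibleComponents ↑(V ∩ f ⁻¹' {f x}),
        IsGenericPoint (⟨x, hx, rfl⟩ : ↑(V ∩ f ⁻¹' {f x})) C) → x ∈ MoreMor.relAss f F := by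
  obtain ⟨W, hW, hηW, -⟩ := exists_isAffineOpen_mem_and_subset (x := f ξ) (U := (⊤ : S.Opens)) trivial
  obtain ⟨U, hU, hξU, hUW⟩ := exists_isAffineOpen_mem_and_subset (x := ξ) (U := f ⁻¹ᵁ W) hηW
  haveI : IsAffine U.toScheme := hU
  let h' : U.toScheme ⟶ Spec Γ(S, W) := f.resLE W U hUW ≫ hW.isoSpec.hom
  have hh : h' ≫ hW.fromSpec = U.ι ≫ f := by
    simp only [h', Category.assoc]
    rw [← IsAffineOpen.isoSpec_inv_ι, Iso.hom_inv_id_assoc, Scheme.Hom.resLE_comp_ι]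
  have sq1 : IsPullback (𝟙 U.toScheme) h' (U.ι ≫ f) hW.fromSpec :=
    ⟨⟨by rw [Category.id_comp, hh]⟩, ⟨PullbackCone.IsLimit.mk _ (fun s => s.fst) (fun s => Category.comp_id _)
      (fun s => by rw [← cancel_mono hW.fromSpec, Category.assoc, hh, s.condition])
      (fun s m hm _ => by rw [← hm, Category.comp_id])⟩⟩
  let P := hW.primeIdealOf ⟨f ξ, hηW⟩
  let sm := Spec.map (CommRingCat.ofHom (Ideal.Quotient.mk P.asIdeal))
  haveI : IsClosedImmersion sm := IsClosedImmersion.spec_of_surjective _ Ideal.Quotient.mk_surjective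
  let T := Spec (CommRingCat.of (Γ(S, W) ⧸ P.asIdeal))
  haveI : IsIntegral T := inferInstance
  let g₁ := pullback.fst h' sm
  let f₁ := pullback.snd h' sm
  have sq := (IsPullback.of_hasPullback h' sm).paste_horiz sq1
  haveI : IsAffineHom f₁ := inferInstance
  haveI : LocallyOfFiniteType h' := by
    haveI : LocallyOfFiniteType (f.resLE W U hUW) := inferInstance
    infer_instance
  haveI : LocallyOfFiniteType f₁ := MorphismProperty.pullback_snd _ _ ‹_›
  let F₁ := (Scheme.Modules.pullback U.ι).obj F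
  let G := (Scheme.Modules.pullback (g₁ ≫ 𝟙 _)).obj F₁
  have hF₁ : Coh.IsCoh F₁ := Groth.L16.AffineBC.isCoh_pullback _ hF
  have hG : Coh.IsCoh G := Groth.L16.AffineBC.isCoh_pullback _ hF₁
  haveI : Coh.IsQCoh G := hG.1
  obtain ⟨U₀, hU₀, hflat⟩ := Groth.L20.ModStalk.exists_generic_flat f₁ G
    fun V hV => Groth.L20.ModStalk.finite_sections G hG hV
  have hinj : Function.Injective (g₁ ≫ 𝟙 U.toScheme) := by
    rw [Category.comp_id]; exact g₁.isEmbedding.injective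
  have hmem : ∀ a, a ∈ MoreMor.relAss f₁ G ↔ (g₁ a).1 ∈ MoreMor.relAss f F := fun a => by
    rw [RelAssGeneric.mem_relAss_injective sq hinj F₁ a]
    exact (RelAssGeneric.mem_relAss_openImmersion f F U.ι _).trans (by simp [g₁])
  obtain ⟨O, hO, hOU⟩ := sm.isEmbedding.isInducing.isOpen_iff.mp U₀.2
  have hrange : ∀ u : U.toScheme, ξ ⤳ u.1 → ∃ a, g₁ a = u := by
    intro u hu
    have h1 : h' ⟨ξ, hξU⟩ ⤳ h' u :=
      ((U.ι.isEmbedding.isInducing.specializes_iff).mp (show U.ι ⟨ξ, hξU⟩ ⤳ U.ι u from hu)).map h'.continuous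
    have h2 : h' ⟨ξ, hξU⟩ = P := hW.fromSpec.isOpenEmbedding.injective (by
      rw [← Scheme.Hom.comp_apply, hh, IsAffineOpen.fromSpec_primeIdealOf]; rfl)
    obtain ⟨t, ht⟩ : ∃ t, sm t = h' u := by
      rw [h2] at h1
      refine h1.mem_closed sm.isClosedEmbedding.isClosed_range ?_
      have hmap : (P.asIdeal.map (Ideal.Quotient.mk P.asIdeal)).IsPrime :=
        Ideal.map_isPrime_of_surjective Ideal.Quotient.mk_surjective (le_of_eq Ideal.mk_ker)
      refine ⟨⟨_, hmap⟩, PrimeSpectrum.ext ?_⟩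
      show (P.asIdeal.map (Ideal.Quotient.mk P.asIdeal)).comap (Ideal.Quotient.mk P.asIdeal) = _
      rw [Ideal.comap_map_of_surjective _ Ideal.Quotient.mk_surjective, ← RingHom.ker_eq_comap_bot, Ideal.mk_ker,
        sup_idem]
    obtain ⟨a, ha, -⟩ := Scheme.Pullback.exists_preimage_pullback (f := h') (g := sm) u t ht.symm
    exact ⟨a, ha⟩
  obtain ⟨a₀, ha₀⟩ := hrange ⟨ξ, hξU⟩ specializes_rfl
  have hsmf : ∀ a, sm (f₁ a) = h' (g₁ a) := fun a => by
    rw [← Scheme.Hom.comp_apply, ← Scheme.Hom.comp_apply, pullback.condition]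
  have hfξ : f₁ a₀ ⤳ genericPoint T := by
    refine sm.isEmbedding.isInducing.specializes_iff.mp ?_
    rw [hsmf, ha₀, show h' ⟨ξ, hξU⟩ = P from hW.fromSpec.isOpenEmbedding.injective (by
      rw [← Scheme.Hom.comp_apply, hh, IsAffineOpen.fromSpec_primeIdealOf]; rfl)]
    refine (PrimeSpectrum.le_iff_specializes _ _).mp ?_
    intro r hr
    show Ideal.Quotient.mk P.asIdeal r ∈ (genericPoint T : PrimeSpectrum _).asIdeal
    rw [Ideal.Quotient.eq_zero_iff_mem.mpr hr]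
    exact zero_mem _
  have ha₀U : f₁ a₀ ∈ U₀ := by
    obtain ⟨z, hz⟩ := hU₀
    rw [(hfξ.antisymm (genericPoint_specializes _)).eq]
    exact ((genericPoint_spec T).mem_open_set_iff U₀.2).2 ⟨z, trivial, hz⟩
  let Ω : X.Opens := U.ι ''ᵁ (h' ⁻¹ᵁ ⟨O, hO⟩)
  refine ⟨closure {ξ} ∩ Ω, Set.inter_subset_left, ?_, ⟨ξ, subset_closure rfl, ⟨ξ, hξU⟩, ?_, rfl⟩, fun x hx hgen => ?_⟩
  · have : (Subtype.val ⁻¹' (closure {ξ} ∩ Ω) : Set ↑(closure ({ξ} : Set X))) = Subtype.val ⁻¹' (Ω : Set X) := by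
      ext z
      exact and_iff_right z.2
    rw [this]
    exact Ω.2.preimage continuous_subtype_val
  · show h' ⟨ξ, hξU⟩ ∈ O
    rw [← ha₀, ← hsmf]
    exact hOU.ge ha₀U
  obtain ⟨hxξ, u, hu, rfl⟩ := hx
  obtain ⟨a, ha⟩ := hrange u (specializes_iff_mem_closure.mpr hxξ)
  obtain ⟨C, hC, hg⟩ := hgen
  have hg₁ : IsInducing g₁ := g₁.isEmbedding.isInducing
  have hsp : a₀ ⤳ a := hg₁.specializes_iff.mp (by
    rw [ha₀, ha]
    exact U.ι.isEmbedding.isInducing.specializes_iff.mp (specializes_iff_mem_closure.mpr hxξ))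
  have ha₀A : a₀ ∈ MoreMor.relAss f₁ G := (hmem a₀).mpr (by rw [ha₀]; exact hξ)
  have hfu : ∀ b, f (g₁ b).1 = hW.fromSpec (sm (f₁ b)) := fun b => by
    rw [hsmf, ← Scheme.Hom.comp_apply h' hW.fromSpec, hh]; rfl
  have h := relAss_specialise f₁ G hG a₀ ha₀A a hsp (fun b h1 h2 h3 => ?_) (hflat a (hOU.le (by
    show sm (f₁ a) ∈ O
    rw [hsmf, ha]; exact hu)))
  · have := (hmem a).mp h.1
    rwa [ha] at this
  · refine g₁.isEmbedding.injective (U.ι.isOpenEmbedding.injective ?_)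
    rw [ha]
    refine eq_of_isGenericPoint hC hg (show U.ι (g₁ b) ∈ (_ : Set X) from
      ⟨⟨?_, g₁ b, ?_, rfl⟩, ?_⟩) ?_
    · have h4 := (h1.map g₁.continuous).map U.ι.continuous
      rw [ha₀] at h4
      exact h4.mem_closure
    · show h' (g₁ b) ∈ O
      rw [← hsmf, h2, hsmf, ha]; exact hu
    · show f (g₁ b).1 = f (U.ι u)
      rw [hfu, h2, ← hfu, ha]; rfl
    · have h4 := (h3.map g₁.continuous).map U.ι.continuous
      rw [ha] at h4
      exact h4

end Groth.L06.RelAssSpecial
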