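import Groth.Agent.L06.RelFPModules
import Mathlib.RingTheory.TensorProduct.MvPolynomial

/-!
# Base change of relative finite presentation
-/

set_option autoImplicit false
set_option maxSynthPendingDepth 3
set_option linter.style.haveILetI false
set_option backward.isDefEq.respectTransparency.types false
set_option backward.isDefEq.respectTransparency false

universe u

open CategoryTheory CategoryTheory.Limits AlgebraicGeometry Opposite TopologicalSpace TensorProduct

noncomputable section

namespace Groth.L06.RelFPBaseChange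

theorem relFP_pushout {A A' C C' : Type u} [CommRing A] [CommRing A'] [CommRing C] [CommRing C'] [Algebra A A']
    [Algebra A C] [Algebra A' C'] [Algebra C C'] [Algebra A C'] [IsScalarTower A A' C'] [IsScalarTower A C C']
    [Algebra.IsPushout A A' C C'] (M : Type u) [AddCommGroup M] [Module C M]
    (h : FlatCA.RelFinitePresentation A C M) : FlatCA.RelFinitePresentation A' C' (C' ⊗[C] M) := by
  obtain ⟨n, φ, hφ, hM⟩ := h
  let P := MvPolynomial (Fin n) A
  let P' := MvPolynomial (Fin n) A'
  let φ' : P' →ₐ[A'] C' := MvPolynomial.aeval fun i => algebraMap C C' (φ (MvPolynomial.X i))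
  letI : Algebra P P' := MvPolynomial.algebraMvPolynomial
  letI algPC := φ.toRingHom.toAlgebra
  letI algP'C' := φ'.toRingHom.toAlgebra
  letI algPC' := ((algebraMap C C').comp φ.toRingHom).toAlgebra
  letI : Module P M := Module.compHom M φ.toRingHom
  haveI : Module.FinitePresentation P M := hM
  haveI : IsScalarTower P C M := IsScalarTower.of_algebraMap_smul fun _ _ => rfl
  haveI : IsScalarTower P C C' := IsScalarTower.of_algebraMap_eq fun _ => rfl
  haveI : IsScalarTower A P C := IsScalarTower.of_algebraMap_eq fun a => (φ.commutes a).symm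
  haveI : IsScalarTower A' P' C' := IsScalarTower.of_algebraMap_eq fun a => (φ'.commutes a).symm
  haveI : IsScalarTower A P C' := IsScalarTower.of_algebraMap_eq fun a => by
    rw [IsScalarTower.algebraMap_apply A C C', IsScalarTower.algebraMap_apply A P C]
    rfl
  haveI : IsScalarTower P P' C' := IsScalarTower.of_algebraMap_eq fun p => by
    have : (algebraMap C C').comp φ.toRingHom = φ'.toRingHom.comp (algebraMap P P') := by
      refine MvPolynomial.ringHom_ext (fun a => ?_) fun i => ?_
      · show algebraMap C C' (φ (MvPolynomial.C a)) = φ' (MvPolynomial.map (algebraMap A A') (MvPolynomial.C a) : P')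
        rw [MvPolynomial.map_C]
        show algebraMap C C' (φ (algebraMap A P a)) = φ' (algebraMap A' P' (algebraMap A A' a))
        rw [φ.commutes, φ'.commutes, ← IsScalarTower.algebraMap_apply A C C', ← IsScalarTower.algebraMap_apply A A' C']
      · show algebraMap C C' (φ (MvPolynomial.X i)) = φ' (MvPolynomial.map (algebraMap A A') (MvPolynomial.X i))
        rw [MvPolynomial.map_X]
        exact (MvPolynomial.aeval_X (R := A') (fun i => algebraMap C C' (φ (MvPolynomial.X i))) i).symm
    exact DFunLike.congr_fun this p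
  haveI : IsScalarTower A P' C' := IsScalarTower.of_algebraMap_eq fun a => by
    rw [IsScalarTower.algebraMap_apply A A' C', IsScalarTower.algebraMap_apply A A' P']
    exact (φ'.commutes _).symm
  haveI : Algebra.IsPushout A P A' P' := inferInstanceAs (Algebra.IsPushout A (MvPolynomial (Fin n) A) A' (MvPolynomial (Fin n) A'))
  haveI : Algebra.IsPushout A C A' C' := Algebra.IsPushout.symm inferInstance
  haveI hP : Algebra.IsPushout P C P' C' := (Algebra.IsPushout.comp_iff (R := A) (S := P) (R' := A') (S' := P') (T := C) (T' := C')).1 inferInstance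
  haveI : Algebra.IsPushout P P' C C' := Algebra.IsPushout.symm hP
  have hφ' : Function.Surjective φ' := by
    rw [← AlgHom.range_eq_top, eq_top_iff]
    intro x _
    refine (Algebra.IsPushout.out (R := A) (S := A') (R' := C) (S' := C')).inductionOn x
      (fun y => y ∈ φ'.range) (zero_mem _) (fun c => ?_) (fun a y hy => Subalgebra.smul_mem _ hy a)
      fun y z hy hz => add_mem hy hz
    obtain ⟨p, rfl⟩ := hφ c
    refine ⟨algebraMap P P' p, ?_⟩
    exact (IsScalarTower.algebraMap_apply P P' C' p).symm
  haveI : Module.FinitePresentation P' (P' ⊗[P] M) := inferInstance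
  exact ⟨n, φ', hφ', Module.FinitePresentation.of_equiv (Algebra.IsPushout.cancelBaseChange P P' C C' M).symm⟩

theorem relFP_base_change {X S X' S' : Scheme.{u}} (f : X ⟶ S) [LocallyOfFiniteType f] (F : X.Modules)
    [Coh.IsQCoh F] (g : S' ⟶ S) (f' : X' ⟶ S') (g' : X' ⟶ X) (hc : IsPullback g' f' f g)
    (hF : Flatn.IsRelFP f F) : Flatn.IsRelFP f' ((Scheme.Modules.pullback g').obj F) := by
  haveI : LocallyOfFiniteType f' := MorphismProperty.of_isPullback hc inferInstance
  haveI : Coh.IsQCoh ((Scheme.Modules.pullback g').obj F) := Groth.L16.AffineBC.isQCoh_pullback g' F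
  refine RelFPModules.isRelFP_of_local _ _ fun x => ?_
  obtain ⟨W, V, W', U, eV, eW, eU, eU', hW, hV, hW', hU, hx, hpo⟩ :=
    Groth.L20.ModStalk.exists_affine_square hc x
  refine ⟨⟨U, hU⟩, ⟨W', hW'⟩, eU', hx, ?_⟩
  rw [Flatn.relFPOn_iff]
  letI := (f.appLE W V eV).hom.toAlgebra
  letI := (g.appLE W W' eW).hom.toAlgebra
  letI := (g'.appLE V U eU).hom.toAlgebra
  letI := (f'.appLE W' U eU').hom.toAlgebra
  letI : Algebra Γ(S, W) Γ(X', U) := ((g'.appLE V U eU).hom.comp (f.appLE W V eV).hom).toAlgebra
  haveI : IsScalarTower Γ(S, W) Γ(X, V) Γ(X', U) := IsScalarTower.of_algebraMap_eq fun _ => rfl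
  haveI : IsScalarTower Γ(S, W) Γ(S', W') Γ(X', U) := IsScalarTower.of_algebraMap_eq fun a =>
    congr($(hpo.w) a)
  haveI : Algebra.IsPushout Γ(S, W) Γ(S', W') Γ(X, V) Γ(X', U) :=
    CommRingCat.isPushout_iff_isPushout.1 hpo.flip
  obtain ⟨e⟩ := RelFPModules.sections_pullback g' F hU hV eU
  exact RelFPRing.relFP_of_equiv e (relFP_pushout _ (RelFPModules.relFPOn_all f F hF ⟨V, hV⟩ ⟨W, hW⟩ eV))

end Groth.L06.RelFPBaseChange
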