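import Groth.Agent.L10.RelPC.Formal
import Groth.Prelude.Def_FlatCA
import Mathlib.RingTheory.Finiteness.ModuleFinitePresentation
import Mathlib.RingTheory.IntegralClosure.IsIntegralClosure.Basic

/-!
# Modules of finite presentation relative to a ring
-/

set_option autoImplicit false
set_option maxSynthPendingDepth 3
set_option linter.style.haveILetI false

universe u

open TensorProduct

namespace Groth.L06.RelFPRing

section basic

variable {S R : Type u} [CommRing S] [CommRing R]

/-- Finite presentation of the module restricted along a finite, finitely presented map. -/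
theorem fp_iff_of (φ : S →+* R) (hf : φ.Finite) (hp : φ.FinitePresentation) (N : Type u) [AddCommGroup N]
    [Module R N] :
    Module.FinitePresentation R N ↔ @Module.FinitePresentation S N _ _ (Module.compHom N φ) := by
  letI := φ.toAlgebra
  letI : Module S N := Module.compHom N φ
  haveI : IsScalarTower S R N := IsScalarTower.of_algebraMap_smul fun _ _ => rfl
  haveI : Module.Finite S R := hf
  haveI : Algebra.FinitePresentation S R := hp
  haveI : Module.FinitePresentation S R := Module.FinitePresentation.of_finite_of_finitePresentation S R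
  constructor
  · intro h
    exact Module.FinitePresentation.trans (R := S) (M := N) R
  · intro h
    haveI : Module.Finite R N := Module.Finite.of_restrictScalars_finite S R N
    obtain ⟨k, f, hf⟩ := Module.Finite.exists_fin' R N
    refine Module.finitePresentation_of_surjective f hf ?_
    refine Submodule.FG.of_restrictScalars (R := S) ?_
    haveI : Module.Finite S (Fin k → R) := Module.Finite.trans R _
    exact Module.FinitePresentation.fg_ker (f.restrictScalars S) hf

theorem fp_congr {N : Type u} [AddCommGroup N] (i j : Module S N)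
    (h : ∀ (s : S) (x : N), (letI := i; s • x) = (letI := j; s • x)) :
    @Module.FinitePresentation S N _ _ i ↔ @Module.FinitePresentation S N _ _ j := by
  have : i = j := Module.ext' _ _ h
  rw [this]

end basic

section rel

variable {A C : Type u} [CommRing A] [CommRing C] [Algebra A C]

/-- Relative finite presentation is tested on any presentation. -/
theorem relFP_iff {n : ℕ} (α : MvPolynomial (Fin n) A →ₐ[A] C) (hα : Function.Surjective α)
    (N : Type u) [AddCommGroup N] [Module C N] :
    FlatCA.RelFinitePresentation A C N ↔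
      @Module.FinitePresentation (MvPolynomial (Fin n) A) N _ _ (Module.compHom N α.toRingHom) := by
  haveI : Algebra.FiniteType A C := Algebra.FiniteType.of_surjective α hα
  refine ⟨?_, fun h => ⟨n, α, hα, h⟩⟩
  rintro ⟨m, β, hβ, h⟩
  exact (Groth.L10.RelPC.module_iff α hα N).2.1 ((Groth.L10.RelPC.module_iff β hβ N).2.2 h)

/-- Relative finite presentation tested through an intermediate finitely presented algebra. -/
theorem relFP_iff_through {σ : Type} [Finite σ] {R : Type u} [CommRing R] [Algebra A R]
    (q : MvPolynomial σ A →ₐ[A] R) (hq : Function.Surjective q) [Algebra.FinitePresentation A R]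
    (r : R →ₐ[A] C) (hr : Function.Surjective r) (N : Type u) [AddCommGroup N] [Module C N] :
    FlatCA.RelFinitePresentation A C N ↔
      @Module.FinitePresentation R N _ _ (Module.compHom N r.toRingHom) := by
  haveI : Fintype σ := Fintype.ofFinite σ
  let e := MvPolynomial.renameEquiv A (Fintype.equivFin σ).symm
  let q' : MvPolynomial (Fin (Fintype.card σ)) A →ₐ[A] R := q.comp e.toAlgHom
  have hq' : Function.Surjective q' := hq.comp e.surjective
  rw [relFP_iff (r.comp q') (hr.comp hq') N]
  letI : Module R N := Module.compHom N r.toRingHom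
  refine (fp_congr _ (Module.compHom N q'.toRingHom) fun s x => rfl).trans (fp_iff_of q'.toRingHom
    (RingHom.Finite.of_surjective _ hq')
    (RingHom.FinitePresentation.of_surjective _ hq' (Algebra.FinitePresentation.ker_fG_of_surjective q' hq')) N).symm

theorem relFP_of_equiv {N N' : Type u} [AddCommGroup N] [Module C N] [AddCommGroup N'] [Module C N']
    (e : N ≃ₗ[C] N') (h : FlatCA.RelFinitePresentation A C N) : FlatCA.RelFinitePresentation A C N' := by
  obtain ⟨n, α, hα, h⟩ := h
  letI : Module (MvPolynomial (Fin n) A) N := Module.compHom N α.toRingHom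
  letI : Module (MvPolynomial (Fin n) A) N' := Module.compHom N' α.toRingHom
  haveI := h
  exact ⟨n, α, hα, Module.FinitePresentation.of_equiv
    { e.toAddEquiv with map_smul' := fun p x => e.map_smul (α p) x }⟩

end rel

variable {A B C : Type u} [CommRing A] [CommRing B] [CommRing C] [Algebra A B] [Algebra A C] [Algebra B C]
  [IsScalarTower A B C]

/-- Relative finite presentation and finite algebras. -/
theorem relFP_finite [Algebra.FiniteType A B] [Module.Finite B C] (N : Type u) [AddCommGroup N]
    [Module C N] [Module B N] [IsScalarTower B C N] :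
    FlatCA.RelFinitePresentation A C N ↔ FlatCA.RelFinitePresentation A B N := by
  classical
  obtain ⟨n, β, hβ⟩ := Groth.L10.RelPC.exists_presentation A B
  let P := MvPolynomial (Fin n) A
  let φ : P →ₐ[A] C := (IsScalarTower.toAlgHom A B C).comp β
  letI := φ.toRingHom.toAlgebra
  haveI : IsScalarTower A P C := IsScalarTower.of_algebraMap_eq fun a => (φ.commutes a).symm
  have hφ : φ.toRingHom.Finite :=
    RingHom.Finite.comp (RingHom.finite_algebraMap.mpr ‹Module.Finite B C›) (RingHom.Finite.of_surjective _ hβ)
  haveI : Module.Finite P C := hφ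
  obtain ⟨m, c, hc⟩ := Module.Finite.exists_fin (R := P) (M := C)
  choose g hgm hg using fun j => (IsIntegral.of_finite P (c j))
  let I : Ideal (MvPolynomial (Fin m) P) :=
    Ideal.span (Set.range fun j => Polynomial.aeval (MvPolynomial.X j) (g j))
  let P2 := MvPolynomial (Fin m) P ⧸ I
  have hI : I.FG := Submodule.fg_span (Set.finite_range _)
  haveI : Algebra.FinitePresentation P P2 := Algebra.FinitePresentation.quotient hI
  haveI : Algebra.FinitePresentation A (MvPolynomial (Fin m) P) :=
    Algebra.FinitePresentation.mvPolynomial_of_finitePresentation (Fin m)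
  haveI : Algebra.FinitePresentation A P2 := Algebra.FinitePresentation.quotient hI
  haveI : Algebra.IsIntegral P P2 := by
    refine ⟨fun x => ?_⟩
    obtain ⟨x, rfl⟩ := Ideal.Quotient.mk_surjective x
    induction x using MvPolynomial.induction_on with
    | C a => exact isIntegral_algebraMap
    | add p q hp hq => rw [map_add]; exact hp.add hq
    | mul_X p j hp =>
      rw [map_mul]
      refine hp.mul ⟨g j, hgm j, ?_⟩
      show Polynomial.aeval (Ideal.Quotient.mkₐ P I (MvPolynomial.X j)) (g j) = 0
      rw [Polynomial.aeval_algHom_apply]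
      exact Ideal.Quotient.eq_zero_iff_mem.2 (Ideal.subset_span ⟨j, rfl⟩)
  haveI : Module.Finite P P2 := Algebra.IsIntegral.finite
  have hIc : ∀ a ∈ I, (MvPolynomial.aeval c : MvPolynomial (Fin m) P →ₐ[P] C) a = 0 := by
    intro a ha
    induction ha using Submodule.span_induction with
    | mem x hx =>
      obtain ⟨j, rfl⟩ := hx
      rw [← Polynomial.aeval_algHom_apply, MvPolynomial.aeval_X]
      exact hg j
    | zero => exact map_zero _
    | add x y _ _ hx hy => rw [map_add, hx, hy, add_zero]
    | smul a x _ hx => rw [smul_eq_mul, map_mul, hx, mul_zero]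
  let r : P2 →ₐ[P] C := Ideal.Quotient.liftₐ I (MvPolynomial.aeval c) hIc
  have hr : Function.Surjective r := by
    rw [← AlgHom.range_eq_top, eq_top_iff]
    rintro x -
    have hx : x ∈ Submodule.span P (Set.range c) := hc ▸ Submodule.mem_top
    induction hx using Submodule.span_induction with
    | mem x hx =>
      obtain ⟨j, rfl⟩ := hx
      exact ⟨Ideal.Quotient.mk I (MvPolynomial.X j), MvPolynomial.aeval_X c j⟩
    | zero => exact zero_mem _
    | add x y _ _ hx hy => exact add_mem hx hy
    | smul a x _ hx => exact Subalgebra.smul_mem _ hx a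
  let q : MvPolynomial (Fin m ⊕ Fin n) A →ₐ[A] P2 :=
    (Ideal.Quotient.mkₐ A I).comp (MvPolynomial.sumAlgEquiv A (Fin m) (Fin n)).toAlgHom
  have hq : Function.Surjective q :=
    (Ideal.Quotient.mkₐ_surjective A I).comp (MvPolynomial.sumAlgEquiv A (Fin m) (Fin n)).surjective
  rw [relFP_iff_through q hq (r.restrictScalars A) hr N, relFP_iff β hβ N]
  letI : Module P2 N := Module.compHom N r.toRingHom
  refine (fp_iff_of (algebraMap P P2) (RingHom.finite_algebraMap.mpr inferInstance)
    (RingHom.finitePresentation_algebraMap.mpr inferInstance) N).trans (fp_congr _ _ fun p x => ?_)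
  show r (algebraMap P P2 p) • x = β p • x
  rw [AlgHom.commutes]
  exact algebraMap_smul C (β p) x

/-- Relative finite presentation and finitely presented bases. -/
theorem relFP_trans [Algebra.FinitePresentation A B] (N : Type u) [AddCommGroup N] [Module C N]
    (h : FlatCA.RelFinitePresentation B C N) : FlatCA.RelFinitePresentation A C N := by
  obtain ⟨m, γ, hγ, h⟩ := h
  obtain ⟨n, β, hβ⟩ := Groth.L10.RelPC.exists_presentation A B
  haveI : Algebra.FinitePresentation A (MvPolynomial (Fin m) B) :=
    Algebra.FinitePresentation.mvPolynomial_of_finitePresentation (Fin m)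
  let q : MvPolynomial (Fin m ⊕ Fin n) A →ₐ[A] MvPolynomial (Fin m) B :=
    (MvPolynomial.mapAlgHom β).comp (MvPolynomial.sumAlgEquiv A (Fin m) (Fin n)).toAlgHom
  have hq : Function.Surjective q :=
    (MvPolynomial.map_surjective β.toRingHom hβ).comp (MvPolynomial.sumAlgEquiv A (Fin m) (Fin n)).surjective
  exact (relFP_iff_through q hq (γ.restrictScalars A) hγ N).2 h

/-- Relative finite presentation of a base change along a finitely presented algebra. -/
theorem relFP_baseChange [Algebra.FiniteType A B] [Algebra.FinitePresentation B C]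
    (M : Type u) [AddCommGroup M] [Module B M] (h : FlatCA.RelFinitePresentation A B M) :
    FlatCA.RelFinitePresentation A C (C ⊗[B] M) := by
  classical
  obtain ⟨n, β, hβ, hM⟩ := h
  obtain ⟨m, γ, hγ, hker⟩ := Algebra.FinitePresentation.out (R := B) (A := C)
  let P := MvPolynomial (Fin n) A
  letI : Module P M := Module.compHom M β.toRingHom
  haveI : Module.FinitePresentation P M := hM
  let μ : MvPolynomial (Fin m) P →ₐ[A] MvPolynomial (Fin m) B := MvPolynomial.mapAlgHom β
  have hμ : Function.Surjective μ := MvPolynomial.map_surjective β.toRingHom hβ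
  obtain ⟨s, hs⟩ := hker
  choose lift hlift using hμ
  let J : Ideal (MvPolynomial (Fin m) P) := Ideal.span (lift '' s)
  have hJ : J.FG := Submodule.fg_span (s.finite_toSet.image lift)
  let C' := MvPolynomial (Fin m) P ⧸ J
  haveI : Algebra.FinitePresentation A (MvPolynomial (Fin m) P) :=
    Algebra.FinitePresentation.mvPolynomial_of_finitePresentation (Fin m)
  haveI : Algebra.FinitePresentation A C' := Algebra.FinitePresentation.quotient hJ
  have hJle : ∀ a ∈ J, ((γ.restrictScalars A).comp μ) a = 0 := by
    intro a ha
    induction ha using Submodule.span_induction with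
    | mem x hx =>
      obtain ⟨y, hy, rfl⟩ := hx
      show γ (μ (lift y)) = 0
      rw [hlift]
      exact RingHom.mem_ker.1 (hs ▸ Ideal.subset_span hy : y ∈ RingHom.ker γ.toRingHom)
    | zero => exact map_zero _
    | add x y _ _ hx hy => rw [map_add, hx, hy, add_zero]
    | smul a x _ hx => rw [smul_eq_mul, map_mul, hx, mul_zero]
  let r : C' →ₐ[A] C := Ideal.Quotient.liftₐ J ((γ.restrictScalars A).comp μ) hJle
  have hr : Function.Surjective r := fun y => by
    obtain ⟨z, rfl⟩ := hγ y
    exact ⟨Ideal.Quotient.mk J (lift z), by show γ (μ (lift z)) = _; rw [hlift]⟩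
  have hrP : ∀ p : P, r (algebraMap P C' p) = algebraMap B C (β p) := fun p => by
    show γ (MvPolynomial.map β.toRingHom (MvPolynomial.C p)) = _
    rw [MvPolynomial.map_C]
    exact γ.commutes (β p)
  let q : MvPolynomial (Fin m ⊕ Fin n) A →ₐ[A] C' :=
    (Ideal.Quotient.mkₐ A J).comp (MvPolynomial.sumAlgEquiv A (Fin m) (Fin n)).toAlgHom
  have hq : Function.Surjective q :=
    (Ideal.Quotient.mkₐ_surjective A J).comp (MvPolynomial.sumAlgEquiv A (Fin m) (Fin n)).surjective
  rw [relFP_iff_through q hq r hr]
  -- the kernel of `r` comes from the kernel of `β`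
  have hkr : ∀ a : C', r a = 0 → a ∈ (RingHom.ker β.toRingHom).map (algebraMap P C') := by
    intro a ha
    obtain ⟨z, rfl⟩ := Ideal.Quotient.mk_surjective a
    have hz : μ z ∈ RingHom.ker γ.toRingHom := RingHom.mem_ker.2 ha
    have hle : RingHom.ker γ.toRingHom ≤ J.map μ.toRingHom := by
      rw [← hs]
      refine Ideal.span_le.2 fun y hy => ?_
      rw [← hlift y]
      exact Ideal.mem_map_of_mem μ.toRingHom (Ideal.subset_span ⟨y, hy, rfl⟩)
    obtain ⟨w, hw, hwz⟩ := (Ideal.mem_map_iff_of_surjective μ.toRingHom
      (MvPolynomial.map_surjective β.toRingHom hβ)).1 (hle hz)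
    have h1 : z - w ∈ RingHom.ker (MvPolynomial.map (σ := Fin m) β.toRingHom) := by
      rw [RingHom.mem_ker, map_sub, sub_eq_zero]
      exact hwz.symm
    rw [MvPolynomial.ker_map] at h1
    have h2 := Ideal.mem_map_of_mem (Ideal.Quotient.mk J) h1
    rw [Ideal.map_map, map_sub, Ideal.Quotient.eq_zero_iff_mem.2 hw, sub_zero] at h2
    exact h2
  have hann : ∀ a : C', r a = 0 → ∀ t : C' ⊗[P] M, a • t = 0 := by
    intro a ha
    have hmem := hkr a ha
    clear ha
    induction hmem using Submodule.span_induction with
    | mem x hx =>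
      obtain ⟨p, hp, rfl⟩ := hx
      intro t
      induction t using TensorProduct.induction_on with
      | zero => exact smul_zero _
      | tmul c y =>
        rw [algebraMap_smul, ← TensorProduct.tmul_smul]
        rw [show p • y = β p • y from rfl, show β p = 0 from RingHom.mem_ker.1 hp, zero_smul, TensorProduct.tmul_zero]
      | add u v hu hv => rw [smul_add, hu, hv, add_zero]
    | zero => exact fun t => zero_smul _ t
    | add x y _ _ hx hy => exact fun t => by rw [add_smul, hx, hy, add_zero]
    | smul b x _ hx => exact fun t => by rw [smul_eq_mul, mul_smul, hx, smul_zero]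
  letI : Module C' (C ⊗[B] M) := Module.compHom _ r.toRingHom
  let Ψ₀ : C' ⊗[P] M →+ C ⊗[B] M :=
    TensorProduct.liftAddHom
      { toFun := fun a =>
          { toFun := fun x => r a ⊗ₜ[B] x
            map_zero' := TensorProduct.tmul_zero _ _
            map_add' := fun x y => TensorProduct.tmul_add _ _ _ }
        map_zero' := AddMonoidHom.ext fun x => by simp
        map_add' := fun a b => AddMonoidHom.ext fun x => by simp [TensorProduct.add_tmul] }
      (fun p a x => by
        show r (p • a) ⊗ₜ[B] x = r a ⊗ₜ[B] (β p • x)
        rw [Algebra.smul_def, map_mul, hrP, ← Algebra.smul_def, TensorProduct.smul_tmul])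
  let sec : C → C' := fun c => (hr c).choose
  have hsec : ∀ c, r (sec c) = c := fun c => (hr c).choose_spec
  have key : ∀ (a b : C') (x : M), r a = r b → a ⊗ₜ[P] x = b ⊗ₜ[P] x := fun a b x hab => by
    have h' := hann (a - b) (by rw [map_sub, hab, sub_self]) ((1 : C') ⊗ₜ[P] x)
    rw [TensorProduct.smul_tmul', smul_eq_mul, mul_one, TensorProduct.sub_tmul, sub_eq_zero] at h'
    exact h'
  let Φ : C ⊗[B] M →+ C' ⊗[P] M :=
    TensorProduct.liftAddHom
      { toFun := fun c =>
          { toFun := fun x => sec c ⊗ₜ[P] x
            map_zero' := TensorProduct.tmul_zero _ _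
            map_add' := fun x y => TensorProduct.tmul_add _ _ _ }
        map_zero' := AddMonoidHom.ext fun x => by
          show sec 0 ⊗ₜ[P] x = 0
          rw [key _ 0 x (by rw [hsec, map_zero]), TensorProduct.zero_tmul]
        map_add' := fun c d => AddMonoidHom.ext fun x => by
          show sec (c + d) ⊗ₜ[P] x = sec c ⊗ₜ[P] x + sec d ⊗ₜ[P] x
          rw [← TensorProduct.add_tmul]
          exact key _ _ x (by rw [map_add, hsec, hsec, hsec]) }
      (fun b c x => by
        obtain ⟨p, rfl⟩ := hβ b
        show sec (β p • c) ⊗ₜ[P] x = sec c ⊗ₜ[P] (p • x)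
        rw [← TensorProduct.smul_tmul]
        exact key _ _ x (by rw [hsec, Algebra.smul_def p, map_mul, hrP, hsec, Algebra.smul_def]))
  have h1 : ∀ t, Φ (Ψ₀ t) = t := by
    intro t
    induction t using TensorProduct.induction_on with
    | zero => simp only [map_zero]
    | tmul a x => exact key _ _ x (hsec _)
    | add u v hu hv => rw [map_add, map_add, hu, hv]
  have h2 : ∀ t, Ψ₀ (Φ t) = t := by
    intro t
    induction t using TensorProduct.induction_on with
    | zero => simp only [map_zero]
    | tmul c x => exact congrArg (· ⊗ₜ[B] x) (hsec c)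
    | add u v hu hv => rw [map_add, map_add, hu, hv]
  haveI : Module.FinitePresentation C' (C' ⊗[P] M) := inferInstance
  refine Module.FinitePresentation.of_equiv
    ({ toFun := Ψ₀
       invFun := Φ
       left_inv := h1
       right_inv := h2
       map_add' := map_add Ψ₀
       map_smul' := fun a t => ?_ } : C' ⊗[P] M ≃ₗ[C'] C ⊗[B] M)
  induction t using TensorProduct.induction_on with
  | zero => simp
  | tmul c x =>
    show r (a * c) ⊗ₜ[B] x = r a • (r c ⊗ₜ[B] x)
    rw [map_mul, TensorProduct.smul_tmul', smul_eq_mul]
  | add u v hu hv =>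
    simp only [smul_add, map_add, RingHom.id_apply] at hu hv ⊢
    rw [hu, hv]

end Groth.L06.RelFPRing
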