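import Groth.Prelude.Def_Frob
import Mathlib.AlgebraicGeometry.Pullbacks

/-!
Relatively perfect morphisms: relative Frobenius is an isomorphism iff the Frobenius square is
cartesian.
-/

set_option autoImplicit false
set_option maxSynthPendingDepth 3
set_option backward.isDefEq.respectTransparency.types false
set_option backward.isDefEq.respectTransparency false

universe u

open CategoryTheory CategoryTheory.Limits AlgebraicGeometry

namespace Groth.L06.RelPerfect

variable {p : ℕ} [Fact p.Prime]

/-- Relatively perfect means that the Frobenius square is cartesian. -/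
theorem isPullback_iff {X S : Scheme.{u}} [FrobSch.IsCharP S p] [FrobSch.IsCharP X p] (f : X ⟶ S) :
    IsIso (FrobSch.relFrob f p) ↔ IsPullback (FrobSch.frob X p) f f (FrobSch.frob S p) := by
  refine ⟨fun h => ?_, fun h => ?_⟩
  · exact IsPullback.of_iso_pullback ⟨FrobSch.frob_comp p f⟩
      (@asIso _ _ _ _ (FrobSch.relFrob f p) h) (FrobSch.relFrob_fst f p) (FrobSch.relFrob_snd f p)
  · have e : FrobSch.relFrob f p = h.isoPullback.hom := by
      apply pullback.hom_ext
      · rw [FrobSch.relFrob_fst, IsPullback.isoPullback_hom_fst]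
      · rw [FrobSch.relFrob_snd, IsPullback.isoPullback_hom_snd]
    rw [e]
    infer_instance

/-- Relatively perfect morphisms compose. -/
theorem comp {X T S : Scheme.{u}} [FrobSch.IsCharP S p] [FrobSch.IsCharP T p] (g : X ⟶ T) (f : T ⟶ S)
    (hg : IsIso (FrobSch.relFrob g p)) (hf : IsIso (FrobSch.relFrob f p)) :
    IsIso (FrobSch.relFrob (g ≫ f) p) := by
  haveI : FrobSch.IsCharP X p := FrobSch.IsCharP.of_hom g p
  exact (isPullback_iff _).2 (((isPullback_iff g).1 hg).paste_vert ((isPullback_iff f).1 hf))

/-- Relatively perfect morphisms are stable under base change. -/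
theorem baseChange {Y' Y T S : Scheme.{u}} [FrobSch.IsCharP S p] [FrobSch.IsCharP T p]
    (a : Y' ⟶ Y) (q : Y' ⟶ T) (r : Y ⟶ S) (f : T ⟶ S) (H : IsPullback a q r f)
    (hr : IsIso (FrobSch.relFrob r p)) : IsIso (FrobSch.relFrob q p) := by
  haveI : FrobSch.IsCharP Y p := FrobSch.IsCharP.of_hom r p
  haveI : FrobSch.IsCharP Y' p := FrobSch.IsCharP.of_hom q p
  refine (isPullback_iff q).2 (IsPullback.of_right ?_ (FrobSch.frob_comp p q) H)
  rw [FrobSch.frob_comp p a, FrobSch.frob_comp p f]
  exact H.paste_horiz ((isPullback_iff r).1 hr)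

end Groth.L06.RelPerfect
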