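import Mathlib.LinearAlgebra.RootSystem.BaseExists
import Mathlib.LinearAlgebra.RootSystem.Reduced
import Mathlib.LinearAlgebra.FreeModule.Finite.Basic
import Mathlib.Algebra.Polynomial.Roots

/-!
# A reduced integral root datum has a base
-/

set_option autoImplicit false
set_option linter.style.haveILetI false
set_option linter.unusedSectionVars false

open RootPairing Module IsAddIndecomposable

namespace Groth.L06.RootBase

variable {ι M N : Type*} [Finite ι] [AddCommGroup M] [AddCommGroup N]

/-- A linear form avoiding finitely many nonzero vectors of a lattice. -/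
theorem exists_dual_avoiding [Module.Free ℤ N] [Module.Finite ℤ N] (v : ι → N) (hv : ∀ i, v i ≠ 0) :
    ∃ g : N →ₗ[ℤ] ℤ, ∀ i, g (v i) ≠ 0 := by
  classical
  haveI : Fintype ι := Fintype.ofFinite ι
  let b := Module.finBasis ℤ N
  let p : ι → Polynomial ℤ := fun i => ∑ k, Polynomial.C (b.coord k (v i)) * Polynomial.X ^ (k : ℕ)
  have hp : ∀ i, p i ≠ 0 := by
    intro i h
    refine hv i (b.forall_coord_eq_zero_iff.1 fun k => ?_)
    have := congrArg (fun q => Polynomial.coeff q (k : ℕ)) h
    simpa [p, Fin.val_inj] using this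
  obtain ⟨t, ht⟩ : ∃ t : ℤ, ¬ (∏ i, p i).IsRoot t := by
    by_contra! hall
    exact (Finset.prod_ne_zero_iff.2 fun i _ => hp i) (Polynomial.funext fun r => by
      simpa using hall r)
  refine ⟨∑ k : Fin (Module.finrank ℤ N), t ^ (k : ℕ) • b.coord k, fun i h => ht ?_⟩
  rw [Polynomial.IsRoot.def, Polynomial.eval_prod, Finset.prod_eq_zero_iff]
  refine ⟨i, Finset.mem_univ i, ?_⟩
  simpa [p, Polynomial.eval_finsetSum, mul_comm] using h

variable [Module.Free ℤ M] [Module.Free ℤ N] (P : RootPairing ι ℤ M N) [P.IsReduced]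

theorem rootForm_root_pos [Fintype ι] (i : ι) : 0 < P.RootForm (P.root i) (P.root i) := by
  rw [rootForm_apply_apply]
  refine Finset.sum_pos' (fun c _ => mul_self_nonneg _) ⟨i, Finset.mem_univ i, ?_⟩
  simp

theorem linearIndepOn_baseOf (f : M →ₗ[ℤ] ℤ) (hf : ∀ i, f (P.root i) ≠ 0) :
    LinearIndepOn ℤ P.root (baseOf P.root (f : M →+ ℤ)) := by
  haveI : P.IsCrystallographic := ⟨fun i j => ⟨P.pairing i j, rfl⟩⟩
  exact P.linearIndepOn_root_baseOf' f hf

theorem exists_nat_combination {κ V : Type*} [AddCommMonoid V] (v : κ → V) (s : Finset κ) {x : V}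
    (hx : x ∈ AddSubmonoid.closure (v '' (s : Set κ))) :
    ∃ n : κ → ℕ, x = ∑ a ∈ s, n a • v a := by
  classical
  induction hx using AddSubmonoid.closure_induction with
  | mem y hy =>
    obtain ⟨a, ha, rfl⟩ := hy
    exact ⟨Pi.single a 1, by rw [Finset.sum_eq_single_of_mem a ha fun b _ hb => by simp [hb]]; simp⟩
  | zero => exact ⟨0, by simp⟩
  | add y z _ _ hy hz =>
    obtain ⟨n, rfl⟩ := hy
    obtain ⟨m, rfl⟩ := hz
    exact ⟨n + m, by simp [add_smul, Finset.sum_add_distrib]⟩

/-- The indecomposable coroots correspond to indecomposable roots. -/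
theorem baseOf_coroot_subset (f : M →ₗ[ℤ] ℤ) (g : N →ₗ[ℤ] ℤ) (hg : ∀ i, g (P.coroot i) ≠ 0)
    (hfg : ∀ i, 0 < f (P.root i) ↔ 0 < g (P.coroot i)) :
    baseOf P.coroot (g : N →+ ℤ) ⊆ baseOf P.root (f : M →+ ℤ) := by
  classical
  haveI : Fintype ι := Fintype.ofFinite ι
  intro c hc
  let s : Finset ι := (Set.toFinite (baseOf P.root (f : M →+ ℤ))).toFinset
  let s' : Finset ι := (Set.toFinite (baseOf P.coroot (g : N →+ ℤ))).toFinset
  have hcs' : c ∈ s' := (Set.Finite.mem_toFinset _).2 hc
  have hgc : 0 < g (P.coroot c) := IsAddIndecomposable.baseOf_subset_pos P.coroot (g : N →+ ℤ) hc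
  have hcl : P.root c ∈ AddSubmonoid.closure (P.root '' (s : Set ι)) := by
    rw [Set.Finite.coe_toFinset, AddSubmonoid.closure_image_isAddIndecomposable_baseOf]
    exact AddSubmonoid.subset_closure ⟨c, (hfg c).2 hgc, rfl⟩
  obtain ⟨n, hn⟩ := exists_nat_combination P.root s hcl
  have hm : ∀ a ∈ s, ∃ m : ι → ℕ, P.coroot a = ∑ b ∈ s', m b • P.coroot b := by
    intro a ha
    refine exists_nat_combination P.coroot s' ?_
    rw [Set.Finite.coe_toFinset, AddSubmonoid.closure_image_isAddIndecomposable_baseOf]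
    exact AddSubmonoid.subset_closure ⟨a, (hfg a).1
      (IsAddIndecomposable.baseOf_subset_pos P.root (f : M →+ ℤ) ((Set.Finite.mem_toFinset _).1 ha)), rfl⟩
  choose! m hm using hm
  let l : ι → ℤ := fun i => P.RootForm (P.root i) (P.root i)
  have hl : ∀ i, l i • P.coroot i = 2 • P.Polarization (P.root i) := fun i => P.rootForm_self_smul_coroot i
  -- the coefficients of the coroot
  let q : ι → ℤ := fun b => ∑ a ∈ s, (n a : ℤ) * l a * (m a b : ℤ)
  have hq : l c • P.coroot c = ∑ b ∈ s', q b • P.coroot b := by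
    rw [hl, hn, map_sum, Finset.smul_sum]
    simp only [q, Finset.sum_smul]
    rw [Finset.sum_comm]
    refine Finset.sum_congr rfl fun a ha => ?_
    rw [map_nsmul, smul_comm, ← hl, hm a ha, Finset.smul_sum, Finset.smul_sum]
    refine Finset.sum_congr rfl fun b _ => ?_
    simp only [← natCast_zsmul, smul_smul]
    congr 1
    ring
  have hli : LinearIndepOn ℤ P.coroot (s' : Set ι) := by
    rw [Set.Finite.coe_toFinset]
    exact linearIndepOn_baseOf P.flip g hg
  have hzero : ∀ b ∈ s', b ≠ c → q b = 0 := by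
    intro b hb hbc
    have h0 : ∑ x ∈ s', (q x - if x = c then l c else 0) • P.coroot x = 0 := by
      simp only [sub_smul, ite_smul, zero_smul, Finset.sum_sub_distrib, Finset.sum_ite_eq', hcs', if_true]
      rw [← hq, sub_self]
    have := linearIndepOn_finset_iff.1 hli _ h0 b hb
    simpa [hbc] using this
  obtain ⟨a, ha, hna⟩ : ∃ a ∈ s, n a ≠ 0 := by
    by_contra! h0
    exact P.ne_zero c (hn.trans (Finset.sum_eq_zero fun a ha => by rw [h0 a ha, zero_smul]))
  have hla : ∀ i, 0 < l i := rootForm_root_pos P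
  have hma : ∀ b ∈ s', b ≠ c → m a b = 0 := by
    intro b hb hbc
    have h1 := (Finset.sum_eq_zero_iff_of_nonneg fun x _ =>
      mul_nonneg (mul_nonneg (Int.natCast_nonneg (n x)) (hla x).le) (Int.natCast_nonneg (m x b))).1
      (hzero b hb hbc) a ha
    simpa [hna, (hla a).ne'] using h1
  have hac : P.coroot a = (m a c : ℤ) • P.coroot c := by
    rw [hm a ha, Finset.sum_eq_single_of_mem c hcs' fun b hb hbc => by rw [hma b hb hbc, zero_smul],
      Nat.cast_smul_eq_nsmul]
  haveI : IsAddTorsionFree M := .of_isTorsionFree ℤ _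
  have hroot : (m a c : ℤ) • P.root a = P.root c := P.flip.smul_coroot_eq_of_root_eq_smul c a _ hac
  have hdep : ¬ LinearIndependent ℤ ![P.root a, P.root c] := by
    rw [LinearIndependent.pair_iff]
    intro h
    exact absurd (h (m a c : ℤ) (-1) (by rw [hroot, neg_one_smul, add_neg_cancel])).2 (by simp)
  rcases IsReduced.eq_or_eq_neg a c hdep with h | h
  · rw [← P.root.injective h]
    exact (Set.Finite.mem_toFinset _).1 ha
  · exfalso
    have h1 : 0 < f (P.root a) :=
      IsAddIndecomposable.baseOf_subset_pos P.root (f : M →+ ℤ) ((Set.Finite.mem_toFinset _).1 ha)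
    have h2 := (hfg c).2 hgc
    rw [h, map_neg] at h1
    omega

/-- A reduced integral root datum has a base. -/
theorem nonempty_base [Module.Finite ℤ N] : Nonempty P.Base := by
  classical
  haveI : Fintype ι := Fintype.ofFinite ι
  haveI : IsAddTorsionFree N := .of_isTorsionFree ℤ _
  letI := P.indexNeg
  obtain ⟨g, hg⟩ := exists_dual_avoiding P.coroot fun i => P.flip.ne_zero i
  let f : M →ₗ[ℤ] ℤ := g ∘ₗ P.Polarization
  have h2f : ∀ i, 2 * f (P.root i) = P.RootForm (P.root i) (P.root i) * g (P.coroot i) := by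
    intro i
    have := congrArg g (P.rootForm_self_smul_coroot i)
    rw [map_smul, map_nsmul, smul_eq_mul, nsmul_eq_mul, Nat.cast_ofNat] at this
    exact this.symm
  have hf : ∀ i, f (P.root i) ≠ 0 := fun i h => by
    have := h2f i
    rw [h, mul_zero] at this
    exact mul_ne_zero (rootForm_root_pos P i).ne' (hg i) this.symm
  have hfg : ∀ i, 0 < f (P.root i) ↔ 0 < g (P.coroot i) := fun i => by
    have hl := rootForm_root_pos P i
    constructor
    · intro h
      by_contra! hle
      nlinarith [h2f i]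
    · intro h
      nlinarith [h2f i]
  have heq : baseOf P.coroot (g : N →+ ℤ) = baseOf P.root (f : M →+ ℤ) := by
    haveI : P.flip.IsReduced := inferInstance
    exact (baseOf_coroot_subset P f g hg hfg).antisymm
      (baseOf_coroot_subset P.flip g f hf fun i => (hfg i).symm)
  exact ⟨{
    support := (Set.toFinite (baseOf P.root (f : M →+ ℤ))).toFinset
    linearIndepOn_root := by
      rw [Set.Finite.coe_toFinset]; exact linearIndepOn_baseOf P f hf
    linearIndepOn_coroot := by
      rw [Set.Finite.coe_toFinset, ← heq]; exact linearIndepOn_baseOf P.flip g hg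
    root_mem_or_neg_mem := fun i => by
      rw [Set.Finite.coe_toFinset]
      exact mem_or_neg_mem_closure_baseOf P.root (f : M →+ ℤ) i (hf i) (by simp)
    coroot_mem_or_neg_mem := fun i => by
      rw [Set.Finite.coe_toFinset, ← heq]
      exact mem_or_neg_mem_closure_baseOf P.coroot (g : N →+ ℤ) i (hg i) (by simp) }⟩

end Groth.L06.RootBase
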