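import Groth.Agent.L06.Spectral
import Mathlib.Topology.Order
import Mathlib.Topology.Compactness.Compact
import Mathlib.Topology.Separation.Basic

set_option autoImplicit false

/-!
Powers of the Sierpinski space are spectral, and every spectral space embeds in one.
-/

namespace Groth.L06.Spectral

open Topology TopologicalSpace Set

/-- Product of discrete topologies on a power of `Prop`. -/
@[reducible] def piBot (I : Type*) : TopologicalSpace (I → Prop) :=
  @Pi.topologicalSpace I (fun _ => Prop) (fun _ => ⊥)

theorem compactSpace_piBot (I : Type*) : @CompactSpace (I → Prop) (piBot I) :=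
  @Pi.compactSpace I (fun _ => Prop) (fun _ => ⊥) (fun _ => @Finite.compactSpace Prop ⊥ _)

theorem piProp_eq_generateFrom (I : Type*) :
    (Pi.topologicalSpace : TopologicalSpace (I → Prop)) =
      generateFrom (range fun i : I => {x : I → Prop | x i}) := by
  show (⨅ i : I, TopologicalSpace.induced (fun x : I → Prop => x i) sierpinskiSpace) = _
  rw [← iUnion_singleton_eq_range, generateFrom_iUnion]
  refine iInf_congr fun i => ?_
  rw [sierpinskiSpace, induced_generateFrom_eq, image_singleton]
  congr 2
  ext x
  simp

theorem isClopen_piBot {I : Type*} (i : I) : @IsClopen _ (piBot I) {x : I → Prop | x i} :=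
  @IsClopen.preimage _ Prop (piBot I) ⊥ {p : Prop | p}
    (@isClopen_discrete Prop ⊥ (@DiscreteTopology.mk Prop ⊥ rfl) _) (fun x : I → Prop => x i) (@continuous_apply I (fun _ => Prop) (fun _ => ⊥) i)

theorem t0Space_piProp (I : Type*) : T0Space (I → Prop) := ⟨fun x y h => funext fun i => by
  have hopen : IsOpen {x : I → Prop | x i} :=
    ((continuous_apply i : Continuous fun x : I → Prop => x i)).isOpen_preimage _ isOpen_singleton_true |> fun h => by
      simpa [Set.preimage] using h
  exact propext (h.mem_open_iff hopen)⟩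

theorem spectralSpace_piProp (I : Type*) : SpectralSpace (I → Prop) :=
  @spectralSpace_of_finer_compact (I → Prop) Pi.topologicalSpace (t0Space_piProp I) (piBot I)
    (compactSpace_piBot I) _ (piProp_eq_generateFrom I) (by rintro _ ⟨i, rfl⟩; exact isClopen_piBot i)

variable (X : Type*) [tX : TopologicalSpace X] [SpectralSpace X]

/-- The canonical map of a spectral space to a power of `Prop`. -/
def toPiProp : X → ({U : Set X // IsOpen U ∧ IsCompact U} → Prop) := fun x U => x ∈ U.1

theorem isInducing_toPiProp : IsInducing (toPiProp X) := by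
  constructor
  rw [piProp_eq_generateFrom, induced_generateFrom_eq, ← range_comp]
  refine (PrespectralSpace.isTopologicalBasis (X := X)).eq_generateFrom.trans ?_
  congr 1
  ext s
  exact ⟨fun hs => ⟨⟨s, hs⟩, rfl⟩, by rintro ⟨U, rfl⟩; exact U.2⟩

theorem isSpectralMap_toPiProp : IsSpectralMap (toPiProp X) := by
  have := spectralSpace_piProp {U : Set X // IsOpen U ∧ IsCompact U}
  refine ⟨(isInducing_toPiProp X).continuous, fun s hso hsc => ?_⟩
  have hb := isTopologicalBasis_of_subbasis
    (piProp_eq_generateFrom {U : Set X // IsOpen U ∧ IsCompact U})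
  obtain ⟨S, hS, rfl⟩ := hb.open_eq_sUnion hso
  rw [sUnion_eq_iUnion] at hsc ⊢
  obtain ⟨F, hF⟩ := hsc.elim_finite_subcover (fun i : S => (i : Set _))
    (fun i => hb.isOpen (hS i.2)) (subset_refl _)
  have he := subset_antisymm hF (iUnion₂_subset fun i _ => subset_iUnion (fun i : S => (i : Set ({U : Set X // IsOpen U ∧ IsCompact U} → Prop))) i)
  rw [he, preimage_iUnion₂]
  refine F.finite_toSet.isCompact_biUnion fun i _ => ?_
  obtain ⟨g, ⟨hgf, hg⟩, hgi⟩ := hS i.2
  rw [← hgi]
  refine isCompact_of_isClosed_cons ?_
  rw [preimage_sInter]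
  refine @isClosed_biInter _ _ (constructibleTopology X) _ _ fun t ht => ?_
  obtain ⟨U, rfl⟩ := hg ht
  exact (isClopen_cons U.2.1 U.2.2).1

theorem spectralSpace_of_homeomorph {Y : Type*} [TopologicalSpace Y] (h : X ≃ₜ Y) :
    SpectralSpace Y :=
  have : CompactSpace Y := h.compactSpace
  h.symm.isOpenEmbedding.spectralSpace

end Groth.L06.Spectral
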