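import Groth.Agent.L06.NormallyFlatFormula
import Mathlib.RingTheory.Regular.Flat
import Mathlib.RingTheory.KrullDimension.Regular
import Groth.Prelude.Def_CAlg

/-! `(S_k)` through embedded primes of quotients by regular sequences. -/

set_option autoImplicit false
set_option maxSynthPendingDepth 3
set_option linter.all false
noncomputable section
universe u
open IsLocalRing RingTheory.Sequence

namespace Groth.L06.SkNoEmbedded

theorem lift_seq {R : Type u} [CommRing R] (S : Submonoid R) {B : Type u} [CommRing B] [Algebra R B]
    [IsLocalization S B] (rs : List B) : ∃ bs : List R, List.Forall₂ Associated rs (bs.map (algebraMap R B)) := by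
  induction rs with
  | nil => exact ⟨[], List.Forall₂.nil⟩
  | cons r rs ih =>
    obtain ⟨bs, h⟩ := ih
    obtain ⟨⟨b, t⟩, hbt⟩ := IsLocalization.surj S r
    exact ⟨b :: bs, List.Forall₂.cons ⟨(IsLocalization.map_units B t).unit, hbt⟩ h⟩

theorem span_of_associated {B : Type u} [CommRing B] : ∀ {l l' : List B}, List.Forall₂ Associated l l' →
    Ideal.ofList l = Ideal.ofList l' := by
  intro l l' h
  induction h with
  | nil => rfl
  | cons h _ ih =>
    obtain ⟨w, rfl⟩ := h
    rw [Ideal.ofList_cons, Ideal.ofList_cons, ih, Ideal.span_singleton_mul_right_unit w.isUnit]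

theorem localized_ofList {R : Type u} [CommRing R] (S : Submonoid R) (B : Type u) [CommRing B] [Algebra R B]
    [IsLocalization S B] {M : Type u} [AddCommGroup M] [Module R M] {MB : Type u} [AddCommGroup MB] [Module R MB]
    [Module B MB] [IsScalarTower R B MB] (m : M →ₗ[R] MB) [IsLocalizedModule S m] (bs : List R) :
    (Ideal.ofList bs • (⊤ : Submodule R M)).localized' B S m = Ideal.ofList (bs.map (algebraMap R B)) • ⊤ := by
  rw [Submodule.localized'_smul, Submodule.localized'_top, Submodule.localized'_eq_span, ← Ideal.map_ofList]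
  rfl

variable {A : Type u} [CommRing A] [IsNoetherianRing A] {M : Type u} [AddCommGroup M] [Module A M] [Module.Finite A M]

/-- at an associated prime of `M/(bs)` the localized sequence is a maximal regular sequence -/
theorem depth_eq_length {q : Ideal A} [q.IsPrime] {bs : List A} (hbs : ∀ b ∈ bs, b ∈ q)
    (hreg : IsWeaklyRegular (LocalizedModule q.primeCompl M) bs)
    (hq : q ∈ associatedPrimes A (M ⧸ (Ideal.ofList bs • (⊤ : Submodule A M)))) :
    LocCoh.depth (Localization.AtPrime q) (LocalizedModule q.primeCompl M) = bs.length := by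
  let B := Localization.AtPrime q
  let m := LocalizedModule.mkLinearMap q.primeCompl M
  obtain ⟨-, n, hn⟩ := isAssociatedPrime_iff.1 hq
  let g := (Ideal.ofList bs • (⊤ : Submodule A M)).toLocalizedQuotient' B q.primeCompl m
  let e := Submodule.quotEquivOfEq _ _ (localized_ofList q.primeCompl B m bs)
  rw [show bs.length = (bs.map (algebraMap A B)).length from (List.length_map _).symm]
  refine Groth.L04.idealDepth_eq_length ((isWeaklyRegular_map_algebraMap_iff _ _ bs).2 hreg)
    (fun r hr => by
      obtain ⟨r, hr', rfl⟩ := List.mem_map.1 hr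
      exact (IsLocalization.AtPrime.to_map_mem_maximal_iff B q r).2 (hbs r hr'))
    (z := e (g n)) ?_ ?_
  · rw [Ne, LinearEquiv.map_eq_zero_iff]
    intro h
    obtain ⟨c, hc⟩ := (IsLocalizedModule.eq_zero_iff q.primeCompl g).1 h
    exact c.2 (hn.ge (Submodule.mem_colon_singleton.2 (by simpa [Submonoid.smul_def] using hc)))
  · intro a ha
    rw [← map_smul, LinearEquiv.map_eq_zero_iff]
    rw [← Localization.AtPrime.map_eq_maximalIdeal] at ha
    refine Submodule.span_induction (p := fun a _ => a • g n = 0) ?_ (zero_smul _ _)
      (fun a b _ _ h1 h2 => by rw [add_smul, h1, h2, add_zero])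
      (fun c a _ h => by rw [smul_eq_mul, mul_smul, h, smul_zero]) ha
    rintro _ ⟨a, ha, rfl⟩
    rw [algebraMap_smul, ← map_smul, show a • n = 0 from by simpa using hn.le ha, map_zero]

/-- the easy inclusion -/
theorem noEmbedded {k : ℕ} (h : LocCoh.HasSk k A M) {bs : List A} (hlen : bs.length < k) {p q : Ideal A}
    (hp : p ∈ associatedPrimes A (M ⧸ (Ideal.ofList bs • (⊤ : Submodule A M))))
    (hq : q ∈ associatedPrimes A (M ⧸ (Ideal.ofList bs • (⊤ : Submodule A M)))) (hpq : p ≤ q)
    (hreg : ∀ [q.IsPrime], IsWeaklyRegular (LocalizedModule q.primeCompl M) bs) : p = q := by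
  by_contra hne
  obtain ⟨hpp, np, hnp⟩ := isAssociatedPrime_iff.1 hp
  obtain ⟨hqp, nq, hnq⟩ := isAssociatedPrime_iff.1 hq
  haveI := hqp
  let B := Localization.AtPrime q
  let MB := LocalizedModule q.primeCompl M
  let m := LocalizedModule.mkLinearMap q.primeCompl M
  haveI : Module.Finite B MB := Module.Finite.of_isLocalizedModule q.primeCompl m
  let U := Ideal.ofList bs • (⊤ : Submodule A M)
  have hU : ∀ (x : M ⧸ U), ∀ b ∈ bs, b • x = 0 := fun x b hb => by
    obtain ⟨x, rfl⟩ := Submodule.Quotient.mk_surjective _ x
    rw [← Submodule.Quotient.mk_smul, Submodule.Quotient.mk_eq_zero]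
    exact Submodule.smul_mem_smul (Ideal.subset_span hb) Submodule.mem_top
  have hbs : ∀ b ∈ bs, b ∈ q := fun b hb => hnq.ge (Submodule.mem_colon_singleton.2 (by simpa using hU nq b hb))
  have hd := depth_eq_length hbs hreg hq
  let g := U.toLocalizedQuotient' B q.primeCompl m
  let N := MB ⧸ U.localized' B q.primeCompl m
  have hn0 : g np ≠ 0 := fun h0 => by
    obtain ⟨c, hc⟩ := (IsLocalizedModule.eq_zero_iff q.primeCompl g).1 h0
    exact c.2 (hpq (hnp.ge (Submodule.mem_colon_singleton.2 (by simpa [Submonoid.smul_def] using hc))))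
  haveI : Nontrivial N := ⟨⟨g np, 0, hn0⟩⟩
  haveI : Nontrivial MB := (Submodule.mkQ_surjective (U.localized' B q.primeCompl m)).nontrivial
  have hR : IsRegular MB (bs.map (algebraMap A B)) :=
    IsRegular.of_isWeaklyRegular_of_mem_maximalIdeal MB (fun r hr => by
        obtain ⟨r, hr', rfl⟩ := List.mem_map.1 hr
        exact (IsLocalization.AtPrime.to_map_mem_maximal_iff B q r).2 (hbs r hr'))
      ((isWeaklyRegular_map_algebraMap_iff _ _ bs).2 hreg)
  have h1 := Module.supportDim_add_length_eq_supportDim_of_isRegular _ hR
  rw [List.length_map] at h1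
  rw [← (Module.supportDim_eq_of_equiv (Submodule.quotEquivOfEq _ _ (localized_ofList q.primeCompl B m bs)))] at h1
  -- the localized quotient has positive dimension
  haveI := hpp
  let P : PrimeSpectrum B := ⟨p.map (algebraMap A B), Ideal.isPrime_map_of_isLocalizationAtPrime q hpq⟩
  have hPc : P.asIdeal.comap (algebraMap A B) = p := Ideal.under_map_of_isLocalizationAtPrime q hpq
  have hPsupp : P ∈ Module.support B N := by
    rw [Module.mem_support_iff']
    refine ⟨g np, fun r hr h0 => ?_⟩
    obtain ⟨a, s, rfl⟩ := IsLocalization.exists_mk'_eq q.primeCompl r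
    have h2 : a • g np = 0 := by
      rw [← algebraMap_smul B a (g np), ← IsLocalization.mk'_spec' B a s, mul_smul, h0, smul_zero]
    rw [← map_smul] at h2
    obtain ⟨c, hc⟩ := (IsLocalizedModule.eq_zero_iff q.primeCompl g).1 h2
    have h3 : (c : A) * a ∈ p := hnp.ge (Submodule.mem_colon_singleton.2 (by simpa [Submonoid.smul_def, mul_smul] using hc))
    rcases hpp.mem_or_mem h3 with h4 | h4
    · exact c.2 (hpq h4)
    · exact hr ((IsLocalization.mk'_mem_iff).2 (show a ∈ P.asIdeal.comap (algebraMap A B) from hPc.ge h4))
  have hmax : (⟨maximalIdeal B, inferInstance⟩ : PrimeSpectrum B) ∈ Module.support B N :=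
    IsLocalRing.closedPoint_mem_support B N
  have hpos : (1 : WithBot ℕ∞) ≤ Module.supportDim B N := by
    have hlt : P < ⟨maximalIdeal B, inferInstance⟩ := by
      refine lt_of_le_of_ne (le_maximalIdeal P.isPrime.ne_top) fun h => hne ?_
      rw [← hPc, h]
      exact IsLocalization.AtPrime.under_maximalIdeal B q
    exact Order.le_krullDim_iff.2
      ⟨(RelSeries.singleton _ (⟨P, hPsupp⟩ : Module.support B N)).snoc ⟨_, hmax⟩ (by exact hlt), rfl⟩
  have h2 := h q
  rw [hd] at h2
  have h3 : (bs.length : WithBot ℕ∞) + 1 ≤ Module.supportDim B MB := by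
    rw [← h1, add_comm]; exact add_le_add hpos le_rfl
  have h4 : ((bs.length + 1 : ℕ) : WithBot ℕ∞) ≤ min (k : WithBot ℕ∞) (Module.supportDim B MB) :=
    le_min (by exact_mod_cast hlen) (by exact_mod_cast h3)
  have h5 := h4.trans h2
  norm_cast at h5
  omega

theorem main (k : ℕ) :
    LocCoh.HasSk k A M ↔
      ∀ (g : A) (rs : List (Localization.Away g)), rs.length < k →
        RingTheory.Sequence.IsWeaklyRegular (LocalizedModule (Submonoid.powers g) M) rs →
        ∀ p ∈ associatedPrimes (Localization.Away g)
            (LocalizedModule (Submonoid.powers g) M ⧸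
              (Ideal.ofList rs • (⊤ : Submodule (Localization.Away g) (LocalizedModule (Submonoid.powers g) M)))),
          ∀ q ∈ associatedPrimes (Localization.Away g)
            (LocalizedModule (Submonoid.powers g) M ⧸
              (Ideal.ofList rs • (⊤ : Submodule (Localization.Away g) (LocalizedModule (Submonoid.powers g) M)))),
            p ≤ q → p = q := by
  constructor
  · intro h g rs hlen hreg P hP Q hQ hPQ
    let B := Localization.Away g
    let MB := LocalizedModule (Submonoid.powers g) M
    let m := LocalizedModule.mkLinearMap (Submonoid.powers g) M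
    obtain ⟨bs, hassoc⟩ := lift_seq (Submonoid.powers g) rs
    have hreg' := (isWeaklyRegular_map_algebraMap_iff _ MB bs).1 (Groth.L04.isWeaklyRegular_of_associated hassoc hreg)
    let U := Ideal.ofList bs • (⊤ : Submodule A M)
    have heq : Ideal.ofList rs • (⊤ : Submodule B MB) = U.localized' B (Submonoid.powers g) m := by
      rw [span_of_associated hassoc, localized_ofList]
    rw [LinearEquiv.AssociatedPrimes.eq (Submodule.quotEquivOfEq _ _ heq)] at hP hQ
    rw [← Module.associatedPrimes.preimage_comap_associatedPrimes_eq_associatedPrimes_of_isLocalizedModule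
      (Submonoid.powers g) B (U.toLocalizedQuotient' B (Submonoid.powers g) m), Set.mem_preimage] at hP hQ
    have hc : P.comap (algebraMap A B) = Q.comap (algebraMap A B) := by
      refine noEmbedded h (by rw [show bs.length = rs.length by rw [hassoc.length_eq, List.length_map]]; exact hlen) hP hQ
        (Ideal.comap_mono hPQ) ?_
      intro hprime
      have hgQ : g ∉ Q.comap (algebraMap A B) := fun hgQ => by
        have : Q = ⊤ := Ideal.eq_top_of_isUnit_mem _ hgQ (IsLocalization.Away.algebraMap_isUnit g)
        exact hprime.ne_top (by rw [this, Ideal.comap_top])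
      have hle : Submonoid.powers g ≤ (Q.comap (algebraMap A B)).primeCompl :=
        Submonoid.powers_le.2 hgQ
      let f2 := LocalizedModule.mkLinearMap (Q.comap (algebraMap A B)).primeCompl M
      let l := IsLocalizedModule.liftOfLE (Submonoid.powers g) (Q.comap (algebraMap A B)).primeCompl hle m f2
      exact (isWeaklyRegular_map_algebraMap_iff _ _ bs).1 (hreg'.of_isLocalizedModule
        (Localization.AtPrime (Q.comap (algebraMap A B))) (Q.comap (algebraMap A B)).primeCompl l)
    rw [← IsLocalization.map_under (Submonoid.powers g) B P, ← IsLocalization.map_under (Submonoid.powers g) B Q]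
    exact congrArg (Ideal.map (algebraMap A B)) hc
  · intro h p _
    let Rp := Localization.AtPrime p
    let Mp := LocalizedModule p.primeCompl M
    let φ := LocalizedModule.mkLinearMap p.primeCompl M
    by_cases hnt : Nontrivial Mp
    swap
    · rw [not_nontrivial_iff_subsingleton] at hnt
      rw [Module.supportDim_eq_bot_of_subsingleton]
      simp
    haveI : IsNoetherianRing Rp := IsLocalization.isNoetherianRing p.primeCompl Rp inferInstance
    haveI : Module.Finite Rp Mp := Module.Finite.of_isLocalizedModule p.primeCompl φ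
    obtain ⟨rs, -, hrs, hI, z, hz0, hz⟩ := Groth.L04.exists_maximal_regular (I := maximalIdeal Rp) (M := Mp)
      (Groth.L04.smul_top_ne_top_of_nontrivial (maximalIdeal.isMaximal Rp).ne_top) (IsWeaklyRegular.nil Rp _) (by simp)
    have hd : LocCoh.depth Rp Mp = rs.length := Groth.L04.idealDepth_eq_length hrs hI hz0 hz
    rw [hd]
    by_contra hcon
    rw [not_le, lt_min_iff] at hcon
    have hk : rs.length < k := by exact_mod_cast hcon.1
    obtain ⟨bs, hassoc⟩ := lift_seq p.primeCompl rs
    have hlen : bs.length = rs.length := by rw [hassoc.length_eq, List.length_map]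
    let U := Ideal.ofList bs • (⊤ : Submodule A M)
    have heq : Ideal.ofList rs • (⊤ : Submodule Rp Mp) = U.localized' Rp p.primeCompl φ := by
      rw [span_of_associated hassoc, localized_ofList]
    let N := M ⧸ U
    let gN := U.toLocalizedQuotient' Rp p.primeCompl φ
    let Np := Mp ⧸ U.localized' Rp p.primeCompl φ
    let e := Submodule.quotEquivOfEq _ _ heq
    have hmem : maximalIdeal Rp ∈ associatedPrimes Rp Np := by
      refine isAssociatedPrime_iff.2 ⟨inferInstance, e z, le_antisymm
        (fun a ha => Submodule.mem_colon_singleton.2 (by simp [← map_smul, hz a ha])) (fun a ha => ?_)⟩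
      rw [Submodule.mem_colon_singleton, Submodule.mem_bot, ← map_smul, LinearEquiv.map_eq_zero_iff] at ha
      by_contra h0
      exact hz0 ((IsLocalRing.notMem_maximalIdeal.1 h0).smul_eq_zero.1 ha)
    have hpN : p ∈ associatedPrimes A N := by
      rw [← Module.associatedPrimes.preimage_comap_associatedPrimes_eq_associatedPrimes_of_isLocalizedModule p.primeCompl Rp gN,
        Set.mem_preimage] at hmem
      have h2 : Ideal.comap (algebraMap A Rp) (maximalIdeal Rp) = p := IsLocalization.AtPrime.under_maximalIdeal Rp p
      rwa [h2] at hmem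
    -- positive dimension of the quotient
    have hR : IsRegular Mp rs := IsRegular.of_isWeaklyRegular_of_mem_maximalIdeal Mp hI hrs
    have h1 := Module.supportDim_add_length_eq_supportDim_of_isRegular _ hR
    rw [Module.supportDim_eq_of_equiv e] at h1
    obtain ⟨q, hq, hqp, hqne⟩ : ∃ q ∈ associatedPrimes A N, q ≤ p ∧ q ≠ p := by
      by_contra hall
      push Not at hall
      have hsupp : p ∈ (Module.annihilator A N).minimalPrimes := by
        have hann : Module.annihilator A N ≤ p := hpN.annihilator_le.trans' (le_of_eq Submodule.annihilator_top.symm)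
        obtain ⟨q, hq, hqp⟩ := Ideal.exists_minimalPrimes_le hann
        rwa [hall q (Module.associatedPrimes.minimalPrimes_annihilator_subset_associatedPrimes A N hq) hqp] at hq
      have hzero : Module.supportDim Rp Np ≤ 0 := by
        refine Order.krullDim_nonpos_iff_forall_isMin.2 fun Q Q' hQ' => ?_
        have key : ∀ Q : Module.support Rp Np, Q.1.asIdeal = maximalIdeal Rp := fun Q => by
          have h3 := (Groth.L04.support_localization p Q.1 (L := N)).1
          have hQN : PrimeSpectrum.comap (algebraMap A Rp) Q.1 ∈ Module.support A N := by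
            obtain ⟨x, hx⟩ := Module.mem_support_iff'.1 Q.2
            obtain ⟨⟨x0, s⟩, hs⟩ := IsLocalizedModule.surj p.primeCompl gN x
            refine Module.mem_support_iff'.2 ⟨x0, fun r hr h0 => hx (algebraMap A Rp (r * s)) ?_ ?_⟩
            · intro hmem
              rcases (Q.1.isPrime.comap (algebraMap A Rp)).mem_or_mem (show r * (s : A) ∈ Q.1.asIdeal.comap (algebraMap A Rp) from hmem) with h4 | h4
              · exact hr h4
              · exact s.2 ((Ideal.comap_mono (le_maximalIdeal Q.1.isPrime.ne_top)).trans_eq
                  (IsLocalization.AtPrime.under_maximalIdeal Rp p) h4)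
            · rw [algebraMap_smul, mul_smul, ← Submonoid.smul_def, hs, ← map_smul, h0, map_zero]
          have hle : Q.1.asIdeal.comap (algebraMap A Rp) ≤ p :=
            (Ideal.comap_mono (le_maximalIdeal Q.1.isPrime.ne_top)).trans_eq (IsLocalization.AtPrime.under_maximalIdeal Rp p)
          have hge := hsupp.2 ⟨Q.1.isPrime.comap _, Module.mem_support_iff_of_finite.1 hQN⟩ hle
          refine le_antisymm (le_maximalIdeal Q.1.isPrime.ne_top) ?_
          rw [← Localization.AtPrime.map_eq_maximalIdeal, Ideal.map_le_iff_le_comap]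
          exact hge
        exact (le_of_eq (Subtype.ext (PrimeSpectrum.ext ((key Q).trans (key Q').symm))))
      have h5 : Module.supportDim Rp Mp ≤ (rs.length : WithBot ℕ∞) := by
        rw [← h1]; exact (add_le_add hzero le_rfl).trans_eq (zero_add _)
      exact absurd (lt_of_lt_of_le hcon.2 h5) (lt_irrefl _)
    obtain ⟨f₀, hf₀, hreg⟩ := Groth.L04.exists_isWeaklyRegular_nhd p bs M Mp φ
      ((isWeaklyRegular_map_algebraMap_iff _ _ bs).1 (Groth.L04.isWeaklyRegular_of_associated hassoc hrs))
    let B := Localization.Away f₀
    let MB := LocalizedModule (Submonoid.powers f₀) M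
    let m := LocalizedModule.mkLinearMap (Submonoid.powers f₀) M
    have hregB : IsWeaklyRegular MB (bs.map (algebraMap A B)) := (isWeaklyRegular_map_algebraMap_iff _ _ bs).2
      (hreg (Submonoid.powers f₀) ⟨f₀, Submonoid.mem_powers f₀, dvd_rfl⟩ _ m)
    have hp' : p.IsPrime := inferInstance
    have hq' : q.IsPrime := hq.1
    have hdisj : ∀ P : Ideal A, P.IsPrime → P ≤ p → Disjoint (Submonoid.powers f₀ : Set A) (P : Set A) := fun P hP hle =>
      Set.disjoint_left.2 fun x hx hxP => by
        obtain ⟨n, rfl⟩ := hx
        exact hf₀ (hle (hP.mem_of_pow_mem n hxP))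
    have hmemB : ∀ P : Ideal A, P ∈ associatedPrimes A N → P ≤ p →
        P.map (algebraMap A B) ∈ associatedPrimes B (MB ⧸ (Ideal.ofList (bs.map (algebraMap A B)) • (⊤ : Submodule B MB))) := by
      intro P hP hle
      rw [← LinearEquiv.AssociatedPrimes.eq (Submodule.quotEquivOfEq _ _ (localized_ofList (Submonoid.powers f₀) B m bs)),
        ← Module.associatedPrimes.preimage_comap_associatedPrimes_eq_associatedPrimes_of_isLocalizedModule
          (Submonoid.powers f₀) B (U.toLocalizedQuotient' B (Submonoid.powers f₀) m), Set.mem_preimage]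
      have := IsLocalization.under_map_of_isPrime_disjoint (Submonoid.powers f₀) B hP.1 (hdisj P hP.1 hle)
      show Ideal.comap (algebraMap A B) (P.map (algebraMap A B)) ∈ _
      rw [show Ideal.comap (algebraMap A B) (P.map (algebraMap A B)) = P from this]
      exact hP
    have heqB := h f₀ (bs.map (algebraMap A B)) (by rw [List.length_map, hlen]; exact hk) hregB _ (hmemB q hq hqp) _
      (hmemB p hpN le_rfl) (Ideal.map_mono hqp)
    apply hqne
    have e1 := IsLocalization.under_map_of_isPrime_disjoint (Submonoid.powers f₀) B hq' (hdisj q hq' hqp)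
    have e2 := IsLocalization.under_map_of_isPrime_disjoint (Submonoid.powers f₀) B hp' (hdisj p hp' le_rfl)
    rw [← e1, ← e2, heqB]

end Groth.L06.SkNoEmbedded
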