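import Groth.Agent.L05.Henselization.SmoothUnibranch
import Groth.Agent.L05.Henselization.UnibranchScheme
import Groth.Agent.L20.TorAmpWeaklyEtale
import Groth.Agent.L05.HensTensor.WEHens
import Mathlib.RingTheory.Ideal.GoingDown
import Mathlib.RingTheory.Flat.FaithfullyFlat.Algebra

/-! Branches of smooth algebras after strict henselization. -/

set_option autoImplicit false
set_option linter.style.haveILetI false
universe u

open IsLocalRing Groth.L05.Henselization Groth.L05.Henselization.Branches
open scoped TensorProduct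

namespace Groth.L06.SmoothBranches

/-- If minimal primes extend to primes along a faithfully flat map, their number is preserved. -/
theorem encard_minimalPrimes_eq {A B : Type u} [CommRing A] [CommRing B] [Algebra A B]
    [Module.FaithfullyFlat A B] (h : ∀ P ∈ minimalPrimes A, (P.map (algebraMap A B)).IsPrime) :
    (minimalPrimes A).encard = (minimalPrimes B).encard := by
  let f := fun P : Ideal A => P.map (algebraMap A B)
  have hcm : ∀ P : Ideal A, (f P).comap (algebraMap A B) = P := fun P =>
    Ideal.comap_map_eq_self_of_faithfullyFlat P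
  have hmin : ∀ Q ∈ minimalPrimes B, Q.comap (algebraMap A B) ∈ minimalPrimes A := fun Q hQ => by
    haveI := hQ.isPrime
    refine ⟨⟨Ideal.IsPrime.comap _, bot_le⟩, fun P hP hle => ?_⟩
    haveI := hP.1
    haveI : Q.LiesOver (Q.comap (algebraMap A B)) := ⟨rfl⟩
    obtain ⟨Q', hQ'Q, hQ', hQ'P⟩ := Ideal.exists_ideal_le_liesOver_of_le (S := B) Q hle
    have : Q ≤ Q' := hQ.2 ⟨hQ', bot_le⟩ hQ'Q
    rw [hQ'P.over]
    exact Ideal.comap_mono this
  have himage : f '' minimalPrimes A = minimalPrimes B := by
    refine Set.Subset.antisymm ?_ fun Q hQ => ?_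
    · rintro _ ⟨P, hP, rfl⟩
      haveI := h P hP
      obtain ⟨Q, hQ, hQle⟩ := Ideal.exists_minimalPrimes_le (bot_le : (⊥ : Ideal B) ≤ f P)
      have h1 : Q.comap (algebraMap A B) ≤ P := (Ideal.comap_mono hQle).trans (hcm P).le
      have h2 : P = Q.comap (algebraMap A B) :=
        le_antisymm (hP.2 ⟨(hmin Q hQ).isPrime, bot_le⟩ h1) h1
      have h3 : f P ≤ Q := Ideal.map_le_iff_le_comap.2 h2.le
      rw [le_antisymm h3 hQle]
      exact hQ
    · refine ⟨_, hmin Q hQ, ?_⟩
      have hle : f (Q.comap (algebraMap A B)) ≤ Q := Ideal.map_comap_le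
      exact le_antisymm hle (hQ.2 ⟨h _ (hmin Q hQ), bot_le⟩ hle)
  rw [← himage]
  exact (Set.InjOn.encard_image fun P _ P' _ he => by rw [← hcm P, ← hcm P']; exact congrArg _ he).symm

theorem isPrime_map_of_smooth_strict (R S Ash Bsh : Type u) [CommRing R] [CommRing S] [Algebra R S]
    [Algebra.Smooth R S] [CommRing Ash] [HenselianLocalRing Ash] [IsSepClosed (ResidueField Ash)]
    [Algebra R Ash] [CommRing Bsh] [IsLocalRing Bsh] [Algebra Ash Bsh] [IsLocalHom (algebraMap Ash Bsh)]
    [Algebra (Ash ⊗[R] S) Bsh] [IsScalarTower Ash (Ash ⊗[R] S) Bsh] [Algebra.WeaklyEtale (Ash ⊗[R] S) Bsh]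
    (P : Ideal Ash) [P.IsPrime] : (P.map (algebraMap Ash Bsh)).IsPrime := by
  let W := Ash ⊗[R] S
  let R₀ := Ash ⧸ P
  haveI : IsLocalRing R₀ := IsLocalRing.of_surjective' _ Ideal.Quotient.mk_surjective
  haveI : HenselianLocalRing R₀ := Groth.L05.henselianLocalRing_of_integral (A := Ash) R₀
  haveI : IsLocalHom (algebraMap Ash R₀) := IsLocalHom.of_surjective _ Ideal.Quotient.mk_surjective
  haveI : Algebra.IsAlgebraic (ResidueField Ash) (ResidueField R₀) := by
    haveI : IsScalarTower Ash (ResidueField Ash) (ResidueField R₀) :=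
      IsScalarTower.of_algebraMap_eq fun r => (ResidueField.map_residue _ r).symm
    haveI : Algebra.IsIntegral Ash (ResidueField R₀) := ⟨fun z => by
      obtain ⟨a, rfl⟩ := residue_surjective z
      obtain ⟨r, rfl⟩ := Ideal.Quotient.mk_surjective a
      exact isIntegral_algebraMap (R := Ash) (x := r)⟩
    haveI : Algebra.IsIntegral (ResidueField Ash) (ResidueField R₀) := Algebra.IsIntegral.tower_top (R := Ash)
    infer_instance
  haveI : IsSepClosed (ResidueField R₀) :=
    Groth.L05.isSepClosed_of_algebraic (ResidueField Ash) (ResidueField R₀)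
  let W₀ := R₀ ⊗[R] S
  let mkW : W →ₐ[R] W₀ := Algebra.TensorProduct.map (Ideal.Quotient.mkₐ R P) (AlgHom.id R S)
  have hmkW : Function.Surjective mkW :=
    Algebra.TensorProduct.map_surjective _ _ Ideal.Quotient.mk_surjective Function.surjective_id
  letI : Algebra W W₀ := mkW.toRingHom.toAlgebra
  let T₀ := W₀ ⊗[W] Bsh
  letI : CommRing T₀ := Algebra.TensorProduct.instCommRing
  let π : Bsh →+* T₀ := (Algebra.TensorProduct.includeRight : Bsh →ₐ[W] T₀).toRingHom
  have hπ : Function.Surjective π := by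
    intro z
    induction z using TensorProduct.induction_on with
    | zero => exact ⟨0, map_zero _⟩
    | tmul a t =>
      obtain ⟨a, rfl⟩ := hmkW a
      refine ⟨a • t, ?_⟩
      show (1 : W₀) ⊗ₜ[W] (a • t) = _
      rw [TensorProduct.tmul_smul, TensorProduct.smul_tmul', Algebra.smul_def, mul_one]
      rfl
    | add a b ha hb =>
      obtain ⟨x, rfl⟩ := ha; obtain ⟨y, rfl⟩ := hb
      exact ⟨x + y, map_add _ _ _⟩
  have hker : RingHom.ker π = P.map (algebraMap Ash Bsh) := by
    refine le_antisymm (fun t ht => ?_) ?_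
    · let J : Ideal Bsh := P.map (algebraMap Ash Bsh)
      let γ : R₀ →+* Bsh ⧸ J := Ideal.quotientMap J (algebraMap Ash Bsh) Ideal.le_comap_map
      letI : Algebra R (Bsh ⧸ J) := (γ.comp (algebraMap R R₀)).toAlgebra
      let sg : S →ₐ[R] Bsh ⧸ J :=
        { (Ideal.Quotient.mk J).comp ((algebraMap W Bsh).comp
            (Algebra.TensorProduct.includeRight : S →ₐ[R] W).toRingHom) with
          commutes' := fun r => by
            show Ideal.Quotient.mk J (algebraMap W Bsh ((Algebra.TensorProduct.includeRight : S →ₐ[R] W) (algebraMap R S r))) = γ (algebraMap R R₀ r)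
            rw [AlgHom.commutes, IsScalarTower.algebraMap_apply R Ash W, ← IsScalarTower.algebraMap_apply Ash W Bsh]
            rfl }
      let g0 : W₀ →ₐ[R] Bsh ⧸ J :=
        Algebra.TensorProduct.lift { γ with commutes' := fun _ => rfl } sg fun _ _ => Commute.all _ _
      have hg0 : ∀ w : W, g0 (mkW w) = Ideal.Quotient.mk J (algebraMap W Bsh w) := fun w => by
        induction w using TensorProduct.induction_on with
        | zero => simp
        | add a b ha hb => simp only [map_add, ha, hb]
        | tmul a s =>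
          rw [Algebra.TensorProduct.map_tmul, Algebra.TensorProduct.lift_tmul]
          show γ (Ideal.Quotient.mk P a) * Ideal.Quotient.mk J (algebraMap W Bsh ((1 : Ash) ⊗ₜ[R] s)) = _
          rw [Ideal.quotientMap_mk, IsScalarTower.algebraMap_apply Ash W Bsh, ← map_mul, ← map_mul,
            show algebraMap Ash W a = a ⊗ₜ[R] (1 : S) from rfl, Algebra.TensorProduct.tmul_mul_tmul, mul_one, one_mul]
      let g : W₀ →ₐ[W] Bsh ⧸ J := { g0.toRingHom with commutes' := hg0 }
      let ψ : T₀ →ₐ[W] Bsh ⧸ J := Algebra.TensorProduct.lift g (IsScalarTower.toAlgHom W Bsh (Bsh ⧸ J)) fun _ _ => Commute.all _ _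
      have h : ψ ((1 : W₀) ⊗ₜ[W] t) = Ideal.Quotient.mk J t := by
        refine (Algebra.TensorProduct.lift_tmul _ _ _ _ t).trans ?_
        rw [map_one, one_mul]
        rfl
      rw [show (1 : W₀) ⊗ₜ[W] t = 0 from ht, map_zero] at h
      exact Ideal.Quotient.eq_zero_iff_mem.mp h.symm
    · rw [Ideal.map_le_iff_le_comap]
      intro a ha
      show (Algebra.TensorProduct.includeRight : Bsh →ₐ[W] T₀) (algebraMap Ash Bsh a) = 0
      rw [IsScalarTower.algebraMap_apply Ash W Bsh, AlgHom.commutes, Algebra.TensorProduct.algebraMap_apply]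
      have h0 : algebraMap W W₀ (algebraMap Ash W a) = 0 := by
        show mkW (a ⊗ₜ[R] (1 : S)) = 0
        rw [Algebra.TensorProduct.map_tmul, Ideal.Quotient.mkₐ_eq_mk, Ideal.Quotient.eq_zero_iff_mem.2 ha,
          TensorProduct.zero_tmul]
      rw [h0, TensorProduct.zero_tmul]
  have hPne : P.map (algebraMap Ash Bsh) ≤ maximalIdeal Bsh :=
    (Ideal.map_mono (IsLocalRing.le_maximalIdeal ‹P.IsPrime›.ne_top)).trans
      (((IsLocalRing.local_hom_TFAE (algebraMap Ash Bsh)).out 0 2 rfl rfl).mp inferInstance)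
  haveI : Nontrivial T₀ := nontrivial_of_ne 1 0 fun h =>
    (maximalIdeal.isMaximal Bsh).ne_top ((Ideal.eq_top_iff_one _).mpr
      (hPne (hker.le (RingHom.mem_ker.mpr ((map_one π).trans h)))))
  haveI : IsLocalRing T₀ := IsLocalRing.of_surjective' π hπ
  haveI : IsLocalHom π := IsLocalHom.of_surjective π hπ
  haveI : Algebra.Smooth R₀ W₀ := inferInstance
  let q : Ideal W₀ := (maximalIdeal T₀).comap (algebraMap W₀ T₀)
  have hq : (maximalIdeal R₀).map (algebraMap R₀ W₀) ≤ q := by
    rw [Ideal.map_le_iff_le_comap]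
    intro r hr
    obtain ⟨r, rfl⟩ := Ideal.Quotient.mk_surjective r
    have hr' : r ∈ maximalIdeal Ash := fun hu => hr (hu.map _)
    show algebraMap W₀ T₀ (algebraMap R₀ W₀ (Ideal.Quotient.mk P r)) ∈ maximalIdeal T₀
    have e : algebraMap R₀ W₀ (Ideal.Quotient.mk P r) = algebraMap W W₀ (algebraMap Ash W r) := by
      show _ = mkW (r ⊗ₜ[R] (1 : S))
      rw [Algebra.TensorProduct.map_tmul, map_one]
      rfl
    rw [e, ← IsScalarTower.algebraMap_apply W W₀ T₀,
      ← (Algebra.TensorProduct.includeRight : Bsh →ₐ[W] T₀).commutes, ← IsScalarTower.algebraMap_apply Ash W Bsh]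
    exact map_nonunit π _ (map_nonunit (algebraMap Ash Bsh) r hr')
  obtain ⟨hdom, hGU⟩ := geomUnibranch_localization_of_smooth
    (isGeomUnibranch_of_strictlyHenselian R₀) W₀ q hq
  let Lq := Localization.AtPrime q
  have hu : ∀ t : q.primeCompl, IsUnit (algebraMap W₀ T₀ t.1) := fun t =>
    IsLocalRing.notMem_maximalIdeal.mp t.2
  letI : Algebra Lq T₀ := (IsLocalization.lift (M := q.primeCompl) hu).toAlgebra
  haveI : IsScalarTower W₀ Lq T₀ :=
    IsScalarTower.of_algebraMap_smul (A := Lq) fun r x => by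
      show IsLocalization.lift hu (algebraMap W₀ Lq r) * x = r • x
      rw [IsLocalization.lift_eq]
      show (r ⊗ₜ[W] (1 : Bsh)) * x = r • x
      induction x using TensorProduct.induction_on with
      | zero => rw [mul_zero, smul_zero]
      | tmul a b => rw [Algebra.TensorProduct.tmul_mul_tmul, one_mul, TensorProduct.smul_tmul', smul_eq_mul]
      | add a b ha hb => rw [mul_add, smul_add, ha, hb]
  haveI : IsLocalHom (algebraMap Lq T₀) := by
    refine ((IsLocalRing.local_hom_TFAE _).out 0 2 rfl rfl).mpr ?_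
    have hm : q.map (algebraMap W₀ Lq) = maximalIdeal Lq := Localization.AtPrime.map_eq_maximalIdeal
    rw [← hm, Ideal.map_map, ← IsScalarTower.algebraMap_eq, Ideal.map_le_iff_le_comap]
  haveI : IsLocalization (⊥ : Submonoid T₀) T₀ := IsLocalization.self bot_le
  haveI : Algebra.WeaklyEtale W₀ T₀ := inferInstance
  haveI : Algebra.WeaklyEtale Lq T₀ :=
    Groth.L20.weaklyEtale_of_isLocalization q.primeCompl (⊥ : Submonoid T₀) Lq T₀
  haveI := hdom
  haveI : IsDomain T₀ := (isDomain_geomUnibranch_of_weaklyEtale Lq T₀ hGU).1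
  exact hker ▸ RingHom.ker_isPrime π

theorem card_minimalPrimes_strict {R S Ash Bsh : Type u} [CommRing R] [CommRing S] [Algebra R S]
    [Algebra.Smooth R S] (q : Ideal S) [q.IsPrime] (p : Ideal R) [p.IsPrime] [q.LiesOver p]
    [CommRing Ash] [IsLocalRing Ash] [Algebra (Localization.AtPrime p) Ash]
    [IsLocalHom (algebraMap (Localization.AtPrime p) Ash)] [hAs : Hensel.IsStrictHenselization (Localization.AtPrime p) Ash]
    [CommRing Bsh] [IsLocalRing Bsh] [Algebra (Localization.AtPrime q) Bsh]
    [IsLocalHom (algebraMap (Localization.AtPrime q) Bsh)] [hBs : Hensel.IsStrictHenselization (Localization.AtPrime q) Bsh] :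
    (minimalPrimes Ash).encard = (minimalPrimes Bsh).encard := by
  let A := Localization.AtPrime p
  let B := Localization.AtPrime q
  let fAB : A →+* B := Localization.localRingHom p q (algebraMap R S) (q.over_def p)
  let f : A →+* Bsh := (algebraMap B Bsh).comp fAB
  haveI : IsLocalHom fAB := Localization.isLocalHom_localRingHom p q (algebraMap R S) (q.over_def p)
  haveI : IsLocalHom f := RingHom.isLocalHom_comp _ _
  haveI := hBs.henselian
  haveI : IsSepClosed (ResidueField Bsh) := hBs.isSepClosure.sep_closed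
  haveI : IsSepClosed (ResidueField Ash) := hAs.isSepClosure.sep_closed
  haveI : Algebra.IsSeparable (ResidueField A) (ResidueField Ash) := hAs.isSepClosure.separable
  letI : Algebra (ResidueField A) (ResidueField Bsh) := (ResidueField.map f).toAlgebra
  let τ : ResidueField Ash →ₐ[ResidueField A] ResidueField Bsh := IsSepClosed.lift
  obtain ⟨g, ⟨hg, hgr⟩, -⟩ := hAs.universal Bsh f τ.toRingHom (RingHom.ext τ.commutes)
  letI : Algebra Ash Bsh := g.toAlgebra
  haveI : IsLocalHom (algebraMap Ash Bsh) := ⟨fun x hx => by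
    by_contra hnu
    have h := hgr x
    rw [show residue Ash x = 0 from (residue_eq_zero_iff x).2 hnu, map_zero] at h
    exact (residue_eq_zero_iff (g x)).1 h hx⟩
  letI : Algebra R Ash := ((algebraMap A Ash).comp (algebraMap R A)).toAlgebra
  haveI : IsScalarTower R A Ash := .of_algebraMap_eq fun _ => rfl
  letI : Algebra S Bsh := ((algebraMap B Bsh).comp (algebraMap S B)).toAlgebra
  haveI : IsScalarTower S B Bsh := .of_algebraMap_eq fun _ => rfl
  letI : Algebra R Bsh := ((algebraMap S Bsh).comp (algebraMap R S)).toAlgebra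
  haveI : IsScalarTower R S Bsh := .of_algebraMap_eq fun _ => rfl
  let gR : Ash →ₐ[R] Bsh :=
    { g with
      commutes' := fun r => by
        show g (algebraMap A Ash (algebraMap R A r)) = algebraMap B Bsh (algebraMap S B (algebraMap R S r))
        rw [← RingHom.comp_apply g, hg]
        show algebraMap B Bsh (fAB (algebraMap R A r)) = _
        rw [Localization.localRingHom_to_map] }
  let Φ : Ash ⊗[R] S →ₐ[R] Bsh :=
    Algebra.TensorProduct.lift gR (IsScalarTower.toAlgHom R S Bsh) fun _ _ => Commute.all _ _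
  letI : Algebra (Ash ⊗[R] S) Bsh := Φ.toRingHom.toAlgebra
  haveI : IsScalarTower Ash (Ash ⊗[R] S) Bsh := .of_algebraMap_eq fun a => by
    show g a = Φ (a ⊗ₜ[R] 1)
    rw [Algebra.TensorProduct.lift_tmul, map_one, mul_one]
    rfl
  let W := Ash ⊗[R] S
  let W' := S ⊗[R] Ash
  let e : W →+* W' := (Algebra.TensorProduct.comm R Ash S).toRingEquiv.toRingHom
  letI : Algebra W W' := e.toAlgebra
  letI : Algebra W' Bsh := (Φ.toRingHom.comp (Algebra.TensorProduct.comm R S Ash).toRingEquiv.toRingHom).toAlgebra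
  haveI : IsScalarTower W W' Bsh := .of_algebraMap_eq fun w => by
    show Φ w = Φ ((Algebra.TensorProduct.comm R S Ash) ((Algebra.TensorProduct.comm R Ash S) w))
    induction w using TensorProduct.induction_on with
    | zero => simp
    | tmul a s => rw [Algebra.TensorProduct.comm_tmul, Algebra.TensorProduct.comm_tmul]
    | add a b ha hb => simp only [map_add, ← ha, ← hb]
  haveI : IsScalarTower S W' Bsh := .of_algebraMap_eq fun s => by
    show algebraMap S Bsh s = Φ ((Algebra.TensorProduct.comm R S Ash) (s ⊗ₜ[R] 1))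
    rw [Algebra.TensorProduct.comm_tmul, Algebra.TensorProduct.lift_tmul, map_one, one_mul]
    rfl
  haveI : Algebra.WeaklyEtale A Ash :=
    Groth.L27.IndEtale.weaklyEtale A Ash (isIndEtale_of_isStrictHenselization A Ash)
  haveI : Algebra.WeaklyEtale B Bsh :=
    Groth.L27.IndEtale.weaklyEtale B Bsh (isIndEtale_of_isStrictHenselization B Bsh)
  haveI : Algebra.WeaklyEtale R A := Groth.L20.weaklyEtale_isLocalization p.primeCompl A
  haveI : Algebra.WeaklyEtale S B := Groth.L20.weaklyEtale_isLocalization q.primeCompl B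
  haveI : Algebra.WeaklyEtale R Ash := Algebra.WeaklyEtale.trans R A Ash
  haveI : Algebra.WeaklyEtale S Bsh := Algebra.WeaklyEtale.trans S B Bsh
  obtain ⟨hflat, hlm⟩ := Groth.L20.TorAmp.weaklyEtale_cancel S W' Bsh
  haveI : Algebra.WeaklyEtale W' Bsh := ⟨hflat, hlm⟩
  haveI : Algebra.WeaklyEtale W W' := Groth.L05.HensTensor.weaklyEtale_of_bijective W W'
    (Algebra.TensorProduct.comm R Ash S).toRingEquiv.bijective
  haveI : Algebra.WeaklyEtale (Ash ⊗[R] S) Bsh := Algebra.WeaklyEtale.trans W W' Bsh
  haveI := hAs.henselian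
  haveI : Module.Flat Ash (Ash ⊗[R] S) := inferInstance
  haveI : Module.Flat Ash Bsh := Module.Flat.trans Ash (Ash ⊗[R] S) Bsh
  haveI : Module.FaithfullyFlat Ash Bsh := Module.FaithfullyFlat.of_flat_of_isLocalHom
  exact encard_minimalPrimes_eq fun P hP => by
    haveI := hP.isPrime
    exact isPrime_map_of_smooth_strict R S Ash Bsh P

end Groth.L06.SmoothBranches
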