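import Groth.Agent.L06.EtaleNbhdLift
import Groth.Agent.L05.SmoothLift.Main
import Groth.Agent.L03.GeomRegular
import Groth.Agent.L06.FormalFibres
import Mathlib.RingTheory.RingHom.Etale
import Mathlib.RingTheory.LocalRing.ResidueField.Basic

/-!
Lifting smooth algebras with finite étale covers from the residue field of a discrete valuation ring.
-/

set_option autoImplicit false
set_option linter.style.haveILetI false
set_option maxSynthPendingDepth 3

universe u

open TensorProduct

noncomputable section

namespace Groth.L06.SmoothFiniteEtaleLift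

/-- A surjection with kernel `m A` identifies the base change to the residue field. -/
theorem exists_residueEquiv {V A A₀ : Type u} [CommRing V] [IsLocalRing V] [CommRing A] [Algebra V A] [CommRing A₀]
    [Algebra (IsLocalRing.ResidueField V) A₀] (θ : A →+* A₀) (hθs : Function.Surjective θ)
    (hθV : ∀ v, θ (algebraMap V A v) = algebraMap (IsLocalRing.ResidueField V) A₀ (IsLocalRing.residue V v))
    (hθk : RingHom.ker θ = (IsLocalRing.maximalIdeal V).map (algebraMap V A)) :
    ∃ e : IsLocalRing.ResidueField V ⊗[V] A ≃ₐ[IsLocalRing.ResidueField V] A₀, ∀ a, e (1 ⊗ₜ a) = θ a := by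
  letI : Algebra V A₀ := ((algebraMap (IsLocalRing.ResidueField V) A₀).comp (IsLocalRing.residue V)).toAlgebra
  haveI : IsScalarTower V (IsLocalRing.ResidueField V) A₀ := IsScalarTower.of_algebraMap_eq fun _ => rfl
  let θV : A →ₐ[V] A₀ := { θ with commutes' := hθV }
  let L : IsLocalRing.ResidueField V ⊗[V] A →ₐ[IsLocalRing.ResidueField V] A₀ :=
    Algebra.TensorProduct.lift (Algebra.ofId _ A₀) θV fun _ _ => Commute.all _ _
  have hL : ∀ a, L ((1 : IsLocalRing.ResidueField V) ⊗ₜ a) = θ a := fun a => by
    rw [Algebra.TensorProduct.lift_tmul, map_one, one_mul]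
    rfl
  have hrep : ∀ x : IsLocalRing.ResidueField V ⊗[V] A, ∃ a, x = 1 ⊗ₜ a := by
    intro x
    induction x using TensorProduct.induction_on with
    | zero => exact ⟨0, by simp⟩
    | tmul c a =>
      obtain ⟨v, rfl⟩ := IsLocalRing.residue_surjective c
      refine ⟨v • a, ?_⟩
      rw [TensorProduct.tmul_smul, TensorProduct.smul_tmul', Algebra.smul_def, mul_one]
      rfl
    | add x y hx hy =>
      obtain ⟨a, rfl⟩ := hx
      obtain ⟨b, rfl⟩ := hy
      exact ⟨a + b, (TensorProduct.tmul_add _ _ _).symm⟩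
  have hbij : Function.Bijective L := by
    refine ⟨(injective_iff_map_eq_zero L).2 fun x hx => ?_, fun y => ?_⟩
    · obtain ⟨a, rfl⟩ := hrep x
      rw [hL] at hx
      have h := Ideal.mem_map_of_mem
        (Algebra.TensorProduct.includeRight : A →ₐ[V] IsLocalRing.ResidueField V ⊗[V] A).toRingHom
        (hθk.le (RingHom.mem_ker.2 hx))
      rw [Ideal.map_map, AlgHom.toRingHom_eq_coe, AlgHom.comp_algebraMap,
        IsScalarTower.algebraMap_eq V (IsLocalRing.ResidueField V), ← Ideal.map_map] at h
      rw [show (IsLocalRing.maximalIdeal V).map (algebraMap V (IsLocalRing.ResidueField V)) = ⊥ from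
        Ideal.map_quotient_self _, Ideal.map_bot] at h
      exact h
    · obtain ⟨a, rfl⟩ := hθs y
      exact ⟨1 ⊗ₜ a, hL a⟩
  exact ⟨AlgEquiv.ofBijective L hbij, hL⟩

theorem etale_localization {A B : Type u} [CommRing A] [CommRing B] [Algebra A B] [Algebra.Etale A B]
    (M : Submonoid A) :
    Algebra.Etale (Localization M) (Localization (Algebra.algebraMapSubmonoid B M)) := by
  haveI : Algebra.IsPushout A (Localization M) B (Localization (Algebra.algebraMapSubmonoid B M)) :=
    (show Algebra.IsPushout A B (Localization M) (Localization (Algebra.algebraMapSubmonoid B M)) by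
      apply Algebra.isPushout_of_isLocalization M).symm
  exact Algebra.Etale.of_equiv (Algebra.IsPushout.equiv A (Localization M) B (Localization (Algebra.algebraMapSubmonoid B M)))

theorem exists_lift (V : Type u) [CommRing V] [IsDomain V] [IsDiscreteValuationRing V]
    (A₀ : Type u) [CommRing A₀] [Algebra (IsLocalRing.ResidueField V) A₀]
    [Algebra.Smooth (IsLocalRing.ResidueField V) A₀]
    (B₀ : Type u) [CommRing B₀] [Algebra A₀ B₀] [Algebra (IsLocalRing.ResidueField V) B₀]
    [IsScalarTower (IsLocalRing.ResidueField V) A₀ B₀] [Module.Finite A₀ B₀] [Algebra.Etale A₀ B₀] :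
    ∃ (A : Type u) (_ : CommRing A) (_ : Algebra V A) (_ : Algebra.Smooth V A)
      (e : (IsLocalRing.ResidueField V) ⊗[V] A ≃ₐ[IsLocalRing.ResidueField V] A₀)
      (B : Type u) (_ : CommRing B) (_ : Algebra A B) (_ : Algebra V B) (_ : IsScalarTower V A B)
      (e' : (IsLocalRing.ResidueField V) ⊗[V] B ≃ₐ[IsLocalRing.ResidueField V] B₀),
      Module.Finite A B ∧ EGA4.IsNormalRing B ∧
      (∀ x : (IsLocalRing.ResidueField V) ⊗[V] A,
        e' (Algebra.TensorProduct.map (AlgHom.id (IsLocalRing.ResidueField V) (IsLocalRing.ResidueField V))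
          (IsScalarTower.toAlgHom V A B) x) = algebraMap A₀ B₀ (e x)) ∧
      Algebra.Etale (Localization (MonoidHom.mker (Ideal.Quotient.mk ((IsLocalRing.maximalIdeal V).map (algebraMap V A)))))
        (Localization (Algebra.algebraMapSubmonoid B
          (MonoidHom.mker (Ideal.Quotient.mk ((IsLocalRing.maximalIdeal V).map (algebraMap V A)))))) := by
  letI : Algebra V A₀ := ((algebraMap (IsLocalRing.ResidueField V) A₀).comp (IsLocalRing.residue V)).toAlgebra
  haveI : IsScalarTower V (IsLocalRing.ResidueField V) A₀ := IsScalarTower.of_algebraMap_eq fun _ => rfl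
  letI : Algebra (V ⧸ IsLocalRing.maximalIdeal V) A₀ := ‹Algebra (IsLocalRing.ResidueField V) A₀›
  haveI : Algebra.Smooth (V ⧸ IsLocalRing.maximalIdeal V) A₀ := ‹Algebra.Smooth (IsLocalRing.ResidueField V) A₀›
  haveI : IsScalarTower V (V ⧸ IsLocalRing.maximalIdeal V) A₀ := IsScalarTower.of_algebraMap_eq fun _ => rfl
  obtain ⟨C, _, _, θ, hC, hθs, hθk⟩ :=
    Groth.L05.SmoothLift.exists_smooth_lift (R := V) (A₀ := A₀) (IsLocalRing.maximalIdeal V)
  haveI := hC
  let J := (IsLocalRing.maximalIdeal V).map (algebraMap V C)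
  let θb : C ⧸ J →+* A₀ := Ideal.Quotient.lift J θ.toRingHom hθk.ge
  have hθb : Function.Bijective θb := by
    refine ⟨RingHom.lift_injective_of_ker_le_ideal _ _ hθk.le, fun y => ?_⟩
    obtain ⟨c, rfl⟩ := hθs y
    exact ⟨Ideal.Quotient.mk J c, rfl⟩
  letI : Algebra (C ⧸ J) B₀ := ((algebraMap A₀ B₀).comp θb).toAlgebra
  letI : Algebra C B₀ := ((algebraMap A₀ B₀).comp θ.toRingHom).toAlgebra
  haveI : IsScalarTower C (C ⧸ J) B₀ := IsScalarTower.of_algebraMap_eq fun _ => rfl
  haveI : Module.Finite (C ⧸ J) B₀ :=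
    RingHom.finite_algebraMap.1 ((RingHom.finite_algebraMap.2 ‹Module.Finite A₀ B₀›).comp
      (RingHom.Finite.of_surjective θb hθb.2))
  haveI : Algebra.Etale (C ⧸ J) B₀ :=
    RingHom.etale_algebraMap.1 (RingHom.Etale.stableUnderComposition θb (algebraMap A₀ B₀)
      (RingHom.Etale.of_bijective hθb) (RingHom.etale_algebraMap.2 inferInstance))
  obtain ⟨A, _, _, σ, B, _, _, θB, hAet, hσs, hσk, hBfin, hBet, hθBs, hθBk, hcomp⟩ :=
    Groth.L06.EtaleNbhdLift.exists_lift J B₀
  haveI := hAet
  haveI := hBet
  letI : Algebra V A := ((algebraMap C A).comp (algebraMap V C)).toAlgebra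
  haveI : IsScalarTower V C A := IsScalarTower.of_algebraMap_eq fun _ => rfl
  haveI hAsm : Algebra.Smooth V A := Algebra.Smooth.comp V C A
  letI : Algebra V B := ((algebraMap A B).comp (algebraMap V A)).toAlgebra
  haveI : IsScalarTower V A B := IsScalarTower.of_algebraMap_eq fun _ => rfl
  haveI : Algebra.Smooth V B := Algebra.Smooth.comp V A B
  let θA : A →+* A₀ := θb.comp σ.toRingHom
  have hθAV : ∀ v, θA (algebraMap V A v) = algebraMap (IsLocalRing.ResidueField V) A₀ (IsLocalRing.residue V v) := by
    intro v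
    show θb (σ (algebraMap C A (algebraMap V C v))) = _
    rw [σ.commutes]
    exact θ.commutes v
  have hmA : (IsLocalRing.maximalIdeal V).map (algebraMap V A) = J.map (algebraMap C A) := (Ideal.map_map _ _).symm
  obtain ⟨e, he⟩ := exists_residueEquiv θA (hθb.2.comp hσs) hθAV (by
    rw [hmA, ← hσk]
    exact RingHom.ker_comp_of_injective _ hθb.1)
  obtain ⟨e', he'⟩ := exists_residueEquiv (A₀ := B₀) θB hθBs (fun v => by
    show θB (algebraMap A B (algebraMap V A v)) = _
    rw [hcomp]
    show algebraMap A₀ B₀ (θA (algebraMap V A v)) = _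
    rw [hθAV, ← IsScalarTower.algebraMap_apply]) (by
    rw [hθBk, ← hmA, Ideal.map_map]
    rfl)
  refine ⟨A, _, _, hAsm, e, B, _, _, _, inferInstance, e', hBfin, ?_, fun x => ?_, etale_localization _⟩
  · haveI := Groth.L03.GeomRegular.isRegularRing_of_smooth V B
    exact Groth.L06.FormalFibres.isNormalRing_of_isRegularRing B
  · induction x using TensorProduct.induction_on with
    | zero => simp
    | add x y hx hy => simp only [map_add, hx, hy]
    | tmul c a =>
      rw [show c ⊗ₜ[V] a = c • ((1 : IsLocalRing.ResidueField V) ⊗ₜ[V] a) by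
        rw [TensorProduct.smul_tmul', smul_eq_mul, mul_one]]
      simp only [map_smul, he, Algebra.TensorProduct.map_tmul, map_one]
      rw [show (IsScalarTower.toAlgHom V A B) a = algebraMap A B a from rfl, he', hcomp,
        Algebra.smul_def, Algebra.smul_def, map_mul, ← IsScalarTower.algebraMap_apply]
      rfl

end Groth.L06.SmoothFiniteEtaleLift
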