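import Groth.Prelude.Def_W4stktopologysheavesDim
import Mathlib.Topology.Sober
import Mathlib.Topology.NoetherianSpace
import Mathlib.Topology.Spectral.Basic

/-! Soberification. -/

set_option linter.style.haveILetI false

universe u

namespace Groth.L06.Sob

open TopologicalSpace Set

variable {X : Type u} [TopologicalSpace X]

/-- The carrier of a point of the soberification. -/
def carrier (Z : PtTop.Sob X) : Set X := (show IrreducibleCloseds X from Z : Set X)

theorem isIrreducible_carrier (Z : PtTop.Sob X) : IsIrreducible (carrier Z) :=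
  (show IrreducibleCloseds X from Z).isIrreducible

theorem isClosed_carrier (Z : PtTop.Sob X) : IsClosed (carrier Z) :=
  (show IrreducibleCloseds X from Z).isClosed

theorem carrier_injective : Function.Injective (carrier (X := X)) :=
  fun _ _ h => SetLike.coe_injective (A := IrreducibleCloseds X) h

theorem carrier_toSob (x : X) : carrier (PtTop.toSob X x) = closure {x} := rfl

/-- The open set of the soberification attached to an open of `X`. -/
def star (U : Set X) : Set (PtTop.Sob X) := {Z | (carrier Z ∩ U).Nonempty}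

theorem mem_star {U : Set X} {Z : PtTop.Sob X} : Z ∈ star U ↔ (carrier Z ∩ U).Nonempty := Iff.rfl

theorem isOpen_star {U : Set X} (hU : IsOpen U) : IsOpen (star U : Set (PtTop.Sob X)) :=
  GenerateOpen.basic _ ⟨⟨U, hU⟩, rfl⟩

theorem star_inter {U V : Set X} (hU : IsOpen U) (hV : IsOpen V) :
    (star (U ∩ V) : Set (PtTop.Sob X)) = star U ∩ star V := by
  ext Z
  exact ⟨fun ⟨x, h, hu, hv⟩ => ⟨⟨x, h, hu⟩, ⟨x, h, hv⟩⟩, fun ⟨h1, h2⟩ => (isIrreducible_carrier Z).2 U V hU hV h1 h2⟩

theorem star_sUnion (S : Set (Set X)) : (star (⋃₀ S) : Set (PtTop.Sob X)) = ⋃ U ∈ S, star U := by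
  ext Z
  simp only [Set.mem_iUnion, exists_prop, mem_star]
  exact ⟨fun ⟨x, h, U, hU, hx⟩ => ⟨U, hU, x, h, hx⟩, fun ⟨U, hU, x, h, hx⟩ => ⟨x, h, U, hU, hx⟩⟩

theorem toSob_preimage_star {U : Set X} (hU : IsOpen U) : PtTop.toSob X ⁻¹' star U = U := by
  ext x
  rw [Set.mem_preimage, mem_star, carrier_toSob]
  exact ⟨fun ⟨y, hy, hyU⟩ => (specializes_iff_mem_closure.mpr hy).mem_open hU hyU,
    fun hx => ⟨x, subset_closure rfl, hx⟩⟩

theorem continuous_toSob : Continuous (PtTop.toSob X) := by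
  refine continuous_generateFrom_iff.mpr ?_
  rintro s ⟨U, rfl⟩
  exact (toSob_preimage_star U.2).symm ▸ U.2

theorem exists_eq_star {W : Set (PtTop.Sob X)} (hW : IsOpen W) :
    ∃ U : Set X, IsOpen U ∧ W = star U := by
  induction hW with
  | basic s hs =>
    obtain ⟨U, rfl⟩ := hs
    exact ⟨U, U.2, rfl⟩
  | univ =>
    refine ⟨univ, isOpen_univ, (eq_univ_of_forall fun Z => ?_).symm⟩
    rw [mem_star, Set.inter_univ]
    exact (isIrreducible_carrier Z).1
  | inter s t _ _ hs ht =>
    obtain ⟨U, hU, rfl⟩ := hs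
    obtain ⟨V, hV, rfl⟩ := ht
    exact ⟨U ∩ V, hU.inter hV, (star_inter hU hV).symm⟩
  | sUnion S _ hS =>
    choose U hU hUe using hS
    refine ⟨⋃₀ {V | ∃ s, ∃ hs : s ∈ S, U s hs = V}, isOpen_sUnion ?_, ?_⟩
    · rintro _ ⟨s, hs, rfl⟩; exact hU s hs
    · rw [star_sUnion]
      refine subset_antisymm (sUnion_subset fun s hs => ?_) (iUnion₂_subset ?_)
      · exact (hUe s hs).trans_subset (subset_biUnion_of_mem (u := star) ⟨s, hs, rfl⟩)
      · rintro _ ⟨s, hs, rfl⟩
        exact (hUe s hs) ▸ subset_sUnion_of_mem hs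

theorem star_preimage {W : Set (PtTop.Sob X)} (hW : IsOpen W) : star (PtTop.toSob X ⁻¹' W) = W := by
  obtain ⟨U, hU, rfl⟩ := exists_eq_star hW
  rw [toSob_preimage_star hU]

theorem bijOn : Set.BijOn (fun U' : Set (PtTop.Sob X) => PtTop.toSob X ⁻¹' U')
    {U' | IsOpen U'} {U : Set X | IsOpen U} :=
  ⟨fun _ h => h.preimage continuous_toSob,
    fun A hA B hB h => (star_preimage hA).symm.trans ((congrArg star h).trans (star_preimage hB)),
    fun U hU => ⟨star U, isOpen_star hU, toSob_preimage_star hU⟩⟩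

theorem star_subset_iff {U V : Set X} (hU : IsOpen U) (hV : IsOpen V) :
    (star U : Set (PtTop.Sob X)) ⊆ star V ↔ U ⊆ V :=
  ⟨fun h => by rw [← toSob_preimage_star hU, ← toSob_preimage_star hV]; exact preimage_mono h,
    fun h _ hZ => hZ.mono (inter_subset_inter_right _ h)⟩

theorem isCompact_star_iff {U : Set X} (hU : IsOpen U) :
    IsCompact (star U : Set (PtTop.Sob X)) ↔ IsCompact U := by
  constructor
  · intro hc
    refine isCompact_of_finite_subcover fun {κ} V hV hcov => ?_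
    obtain ⟨t, ht⟩ := hc.elim_finite_subcover (fun k => star (V k)) (fun k => isOpen_star (hV k))
      (fun Z ⟨x, hxZ, hxU⟩ => by
        obtain ⟨k, hk⟩ := mem_iUnion.mp (hcov hxU)
        exact mem_iUnion.mpr ⟨k, x, hxZ, hk⟩)
    refine ⟨t, ?_⟩
    have := preimage_mono (f := PtTop.toSob X) ht
    rw [toSob_preimage_star hU, preimage_iUnion₂] at this
    exact this.trans (iUnion₂_mono fun k _ => (toSob_preimage_star (hV k)).subset)
  · intro hc
    refine isCompact_of_finite_subcover fun {κ} W hW hcov => ?_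
    obtain ⟨t, ht⟩ := hc.elim_finite_subcover (fun k => PtTop.toSob X ⁻¹' W k) (fun k => (hW k).preimage continuous_toSob)
      (by rw [← preimage_iUnion, ← toSob_preimage_star hU]; exact preimage_mono hcov)
    refine ⟨t, fun Z ⟨x, hxZ, hxU⟩ => ?_⟩
    obtain ⟨k, hk, hxk⟩ := mem_iUnion₂.mp (ht hxU)
    refine mem_iUnion₂.mpr ⟨k, hk, ?_⟩
    rw [← star_preimage (hW k)]
    exact ⟨x, hxZ, hxk⟩

instance t0Space : T0Space (PtTop.Sob X) := by
  constructor
  intro Z W h
  have key : ∀ Z W : PtTop.Sob X, Z ⤳ W → carrier W ⊆ carrier Z := by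
    intro Z W h x hx
    by_contra hxZ
    obtain ⟨y, hy, hy'⟩ := h.mem_open (isOpen_star (isClosed_carrier Z).isOpen_compl) ⟨x, hx, hxZ⟩
    exact hy' hy
  exact carrier_injective ((key W Z h.symm.specializes).antisymm (key Z W h.specializes))

instance quasiSober : QuasiSober (PtTop.Sob X) := by
  constructor
  intro K hK hKc
  obtain ⟨U, hU, hKU⟩ := exists_eq_star hKc.isOpen_compl
  have hmem : ∀ Z : PtTop.Sob X, Z ∈ K ↔ carrier Z ⊆ Uᶜ := fun Z => by
    rw [← not_not (a := Z ∈ K), ← mem_compl_iff, hKU, mem_star, Set.not_nonempty_iff_eq_empty,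
      ← Set.disjoint_iff_inter_eq_empty, ← Set.subset_compl_iff_disjoint_right]
  have hirr : IsIrreducible Uᶜ := by
    constructor
    · obtain ⟨Z, hZ⟩ := hK.1
      exact (isIrreducible_carrier Z).1.mono ((hmem Z).mp hZ)
    · intro A B hA hB ⟨a, ha, haA⟩ ⟨b, hb, hbB⟩
      have hK' : ∀ {A : Set X} {a : X}, a ∈ Uᶜ → a ∈ A → (K ∩ star A).Nonempty := fun {A a} ha haA =>
        ⟨PtTop.toSob X a, (hmem _).mpr ((carrier_toSob a).trans_subset
          (closure_minimal (singleton_subset_iff.mpr ha) hU.isClosed_compl)), ⟨a, subset_closure rfl, haA⟩⟩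
      obtain ⟨Z, hZ, hZA, hZB⟩ := hK.2 (star A) (star B) (isOpen_star hA) (isOpen_star hB) (hK' ha haA) (hK' hb hbB)
      obtain ⟨x, hx, hxAB⟩ := (isIrreducible_carrier Z).2 A B hA hB hZA hZB
      exact ⟨x, (hmem Z).mp hZ hx, hxAB⟩
  let η : PtTop.Sob X := (⟨Uᶜ, hirr, hU.isClosed_compl⟩ : IrreducibleCloseds X)
  refine ⟨η, subset_antisymm (closure_minimal (singleton_subset_iff.mpr ((hmem η).mpr subset_rfl)) hKc) ?_⟩
  intro Z hZ
  rw [mem_closure_iff]
  intro W hW hZW
  obtain ⟨V, hV, rfl⟩ := exists_eq_star hW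
  obtain ⟨x, hx, hxV⟩ := hZW
  exact ⟨η, ⟨x, (hmem Z).mp hZ hx, hxV⟩, rfl⟩

theorem compactSpace [CompactSpace X] : CompactSpace (PtTop.Sob X) :=
  ⟨by rw [show (univ : Set (PtTop.Sob X)) = star (PtTop.toSob X ⁻¹' univ) from (star_preimage isOpen_univ).symm]
      exact (isCompact_star_iff isOpen_univ).mpr isCompact_univ⟩

theorem spectralSpace [CompactSpace X] [PrespectralSpace X] [QuasiSeparatedSpace X] :
    SpectralSpace (PtTop.Sob X) := by
  haveI := compactSpace (X := X)
  haveI : PrespectralSpace (PtTop.Sob X) := by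
    refine ⟨isTopologicalBasis_of_isOpen_of_nhds (fun W hW => hW.1) fun Z W hZ hW => ?_⟩
    obtain ⟨U, hU, rfl⟩ := exists_eq_star hW
    obtain ⟨x, hx, hxU⟩ := hZ
    obtain ⟨V, ⟨hVo, hVc⟩, hxV, hVU⟩ := PrespectralSpace.isTopologicalBasis.exists_subset_of_mem_open hxU hU
    exact ⟨star V, ⟨isOpen_star hVo, (isCompact_star_iff hVo).mpr hVc⟩, ⟨x, hx, hxV⟩, (star_subset_iff hVo hU).mpr hVU⟩
  haveI : QuasiSeparatedSpace (PtTop.Sob X) := by
    constructor
    intro A B hAo hAc hBo hBc
    obtain ⟨U, hU, rfl⟩ := exists_eq_star hAo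
    obtain ⟨V, hV, rfl⟩ := exists_eq_star hBo
    rw [← star_inter hU hV]
    exact (isCompact_star_iff (hU.inter hV)).mpr (QuasiSeparatedSpace.inter_isCompact U V hU
      ((isCompact_star_iff hU).mp hAc) hV ((isCompact_star_iff hV).mp hBc))
  exact ⟨⟩

theorem exists_lift {Y : Type u} [TopologicalSpace Y] [QuasiSober Y] [T0Space Y] (f : X → Y) (hf : Continuous f) :
    ∃ g : PtTop.Sob X → Y, Continuous g ∧ g ∘ PtTop.toSob X = f := by
  let g : PtTop.Sob X → Y := fun Z => ((isIrreducible_carrier Z).image f hf.continuousOn).closure.genericPoint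
  have hg : ∀ Z, IsGenericPoint (g Z) (closure (f '' carrier Z)) := fun Z =>
    ((isIrreducible_carrier Z).image f hf.continuousOn).closure.isGenericPoint_genericPoint isClosed_closure
  have key : ∀ V : Set Y, IsOpen V → g ⁻¹' V = star (f ⁻¹' V) := by
    intro V hV
    ext Z
    rw [Set.mem_preimage, (hg Z).mem_open_set_iff hV, mem_star, closure_inter_open_nonempty_iff hV,
      Set.image_inter_nonempty_iff]
  refine ⟨g, continuous_def.mpr fun V hV => key V hV ▸ isOpen_star (hV.preimage hf), funext fun x => ?_⟩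
  refine (hg _).eq ?_
  rw [carrier_toSob, closure_image_closure hf, Set.image_singleton]
  exact isGenericPoint_closure

end Groth.L06.Sob
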