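import Groth.Agent.L06.Sierpinski
import Mathlib.Topology.Category.TopCat.Limits.Basic
import Mathlib.CategoryTheory.Limits.Types.Limits
import Mathlib.Data.Finset.Lattice.Fold

set_option autoImplicit false

/-!
A spectral space is a directed limit of finite sober spaces.
-/

universe u

namespace Groth.L06.Spectral

open Topology TopologicalSpace Set CategoryTheory CategoryTheory.Limits

variable (X : Type u) [tX : TopologicalSpace X] [SpectralSpace X]

/-- Compact opens. -/
abbrev CO : Type u := {U : Set X // IsOpen U ∧ IsCompact U}

/-- The membership pattern of a point on a finite set of compact opens. -/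
def pattern (s : Finset (CO X)) : X → ((↥s) → Prop) := fun x U => x ∈ U.1.1

/-- The finite quotient attached to a finite set of compact opens. -/
abbrev FinObj (s : Finset (CO X)) : Type u := range (pattern X s)

instance finite_finObj (s : Finset (CO X)) : Finite (FinObj X s) := inferInstance

/-- Restriction of patterns. -/
def restr {s t : Finset (CO X)} (h : s ⊆ t) (p : FinObj X t) : FinObj X s :=
  ⟨fun U => p.1 ⟨U.1, h U.2⟩, by obtain ⟨_, x, rfl⟩ := p; exact ⟨x, rfl⟩⟩

theorem continuous_restr {s t : Finset (CO X)} (h : s ⊆ t) : Continuous (restr X h) :=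
  (continuous_pi fun U => (continuous_apply (⟨U.1, h U.2⟩ : ↥t)).comp continuous_subtype_val).subtype_mk _

/-- The inverse system. -/
noncomputable def finSystem : (Finset (CO X))ᵒᵖ ⥤ TopCat.{u} where
  obj s := TopCat.of (FinObj X s.unop)
  map f := TopCat.ofHom ⟨restr X (leOfHom f.unop), continuous_restr X _⟩
  map_id s := rfl
  map_comp f g := rfl

/-- The cone with vertex the space itself. -/
noncomputable def finCone : Cone (finSystem X) where
  pt := TopCat.of X
  π :=
    { app := fun s => TopCat.ofHom ⟨fun x => ⟨pattern X s.unop x, x, rfl⟩,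
        (continuous_pi fun U => continuous_Prop.mpr U.1.2.1).subtype_mk _⟩
      naturality := fun s t f => rfl }

theorem nonempty_isLimit_finCone : Nonempty (IsLimit (finCone X)) := by
  classical
  have hbij : Nonempty (IsLimit ((forget TopCat).mapCone (finCone X))) := by
    rw [Types.isLimit_iff_bijective_sectionOfCone]
    refine ⟨fun (x : X) (y : X) h => ?_, fun σ => ?_⟩
    · refine (isInducing_toPiProp X).injective (funext fun U => ?_)
      have h1 := congrArg (fun σ => σ.1 (Opposite.op {U})) h
      exact congrFun (congrArg Subtype.val h1) ⟨U, Finset.mem_singleton_self U⟩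
    · let Z : Finset (CO X) → Set X := fun s => {x | pattern X s x = (σ.1 (Opposite.op s)).1}
      have hZcl : ∀ s, IsClosed[constructibleTopology X] (Z s) := fun s => by
        have : Z s = ⋂ U : ↥s, {x | (x ∈ U.1.1) = (σ.1 (Opposite.op s)).1 U} := by
          ext x; simp [Z, pattern, funext_iff]
        rw [this]
        refine @isClosed_iInter _ _ (constructibleTopology X) _ fun U => ?_
        by_cases hU : (σ.1 (Opposite.op s)).1 U
        · simp only [hU, eq_iff_iff, iff_true]
          exact (isClopen_cons U.1.2.1 U.1.2.2).1
        · simp only [hU, eq_iff_iff, iff_false]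
          exact (@IsClopen.compl _ (constructibleTopology X) _ (isClopen_cons U.1.2.1 U.1.2.2)).1
      have hmono : ∀ {s t : Finset (CO X)}, s ⊆ t → Z t ⊆ Z s := fun {s t} h x hx => by
        have h2 : restr X h (σ.1 (Opposite.op t)) = σ.1 (Opposite.op s) := σ.2 (homOfLE h).op
        show pattern X s x = _
        rw [← h2]
        funext U
        exact congrFun (show pattern X t x = _ from hx) ⟨U.1, h U.2⟩
      obtain ⟨x, hx⟩ := nonempty_iInter_cons Z
        (fun s t => ⟨s ∪ t, hmono Finset.subset_union_left, hmono Finset.subset_union_right⟩)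
        (fun s => ⟨(σ.1 (Opposite.op s)).2.choose, (σ.1 (Opposite.op s)).2.choose_spec⟩)
        hZcl
      refine ⟨x, Subtype.ext (funext fun s => Subtype.ext ?_)⟩
      exact mem_iInter.mp hx s.unop
  refine (TopCat.nonempty_isLimit_iff_eq_induced _ hbij.some).mpr ?_
  refine le_antisymm (le_iInf fun s => (TopCat.Hom.hom ((finCone X).π.app s)).continuous.le_induced) ?_
  show _ ≤ tX
  refine le_of_le_of_eq (le_generateFrom fun U hU => ?_)
    (PrespectralSpace.isTopologicalBasis (X := X)).eq_generateFrom.symm
  refine (iInf_le (fun s => TopologicalSpace.induced _ ((finSystem X).obj s).str)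
    (Opposite.op {(⟨U, hU⟩ : CO X)})) U ?_
  exact ⟨{p | p.1 ⟨⟨U, hU⟩, Finset.mem_singleton_self _⟩},
    (continuous_Prop.mp ((continuous_apply _).comp continuous_subtype_val)), rfl⟩

end Groth.L06.Spectral
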