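import Groth.Agent.L14.Chev.Cell.InnerTrivial
import Groth.Agent.L14.Chev.Cell.Normalizer
import Groth.Agent.L14.Luna.SemiRank.SplitField
import Groth.Agent.L06.RootBase

/-!
# The centre of a split reductive group
-/

set_option autoImplicit false
universe u

open CategoryTheory CategoryTheory.Limits AlgebraicGeometry MonoidalCategory CartesianMonoidalCategory MonObj
open Groth.L14.RankOne Groth.L25 Groth.L14.Chart Groth.L14.Chev Groth.L14.Chev.Cell

set_option backward.isDefEq.respectTransparency.types false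
set_option linter.style.haveILetI false
set_option linter.unusedSectionVars false
set_option maxHeartbeats 1000000

noncomputable section

namespace Groth.L06.SplitCentre

variable {S : Scheme.{u}} {G : Over S} [GrpObj G] {D : Red.SplitRed G}

theorem gm_ext {X : Over S} {a b : X ⟶ Red.Gm S} (h : Red.gmFn a = Red.gmFn b) : a = b := by
  rw [gmFn_eq_char, gmFn_eq_char] at h
  have e : DSPts.char a = DSPts.char b := MonoidHom.ext_mint h
  rw [← DSPts.pt_char a, e, DSPts.pt_char]

theorem nonempty_base [Nonempty S] (D : Red.SplitRed G) : Nonempty D.P.Base := by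
  haveI : Finite D.idx := Finite.of_fintype _
  haveI := D.freeM
  haveI := D.finiteM
  haveI := Groth.L14.Luna.SemiRank.isReduced_splitRed (D := D)
  exact Groth.L06.RootBase.nonempty_base D.P

/-- A central point factors through the torus. -/
theorem exists_torus_of_central [Nonempty S] {X : Over S} (g : X ⟶ G)
    (hc : ∀ (X' : Over S) (x : X' ⟶ X) (h : X' ⟶ G), (x ≫ g) * h = h * (x ≫ g)) :
    ∃ t : X ⟶ D.T, t ≫ D.i = g ∧ ∀ a : D.idx, t ≫ D.split.hom.hom.hom ≫ Red.chi S (D.P.root a) = 1 := by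
  classical
  haveI := isMonHom_i (D := D)
  haveI : ∀ c, IsMonHom (D.u c) := fun c => (D.rootHom c).1
  haveI : Finite D.idx := Finite.of_fintype _
  obtain ⟨b⟩ : Nonempty D.P.Base := nonempty_base D
  obtain ⟨n, eneg, hneg⟩ := exists_enum (D := D) (RedSub.negRoots D.P b)
  obtain ⟨m, epos, hpos⟩ := exists_enum (D := D) (RedSub.posRoots D.P b)
  obtain ⟨lam, hl, hlp⟩ := exists_lam_prim b
  haveI := isOpenImmersion_cellMap hneg hpos
  have hcomm : ∀ (X' : Over S) (x : X' ⟶ X) (s : X' ⟶ G), (x ≫ g) * s * (x ≫ g)⁻¹ = s := fun X' x s => by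
    rw [hc, mul_inv_cancel_right]
  have hr : Set.range g.left ⊆ Set.range (RedSub.cellMap D eneg epos).left := by
    rintro _ ⟨x, rfl⟩
    obtain ⟨R, _, j, _, K, _, _, _, t, p, hp⟩ := exists_geom_chart_through x
    obtain ⟨χ, hχ⟩ := torus_of_fixed hneg hpos hl hlp (t ≫ g) fun C' _ _ f u => by
      rw [conjT, mul_inv_eq_iff_eq_mul]
      exact ((by rw [Category.assoc] : (mor j f ≫ t) ≫ g = mor j f ≫ t ≫ g) ▸
        hc _ (mor j f ≫ t) (tpt D j (unitChar lam u) ≫ D.i)).symm
    have hm := range_of_comp (t ≫ g)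
      (lift (tup n fun k => gp j ((0 : D.idx → K) (eneg k)))
        (lift (tpt D j χ) (tup m fun k => gp j ((0 : D.idx → K) (epos k)))))
      (by rw [lift_cellMap, rootProd_eq_one j (x := (0 : D.idx → K)) fun _ _ => rfl,
        rootProd_eq_one j (x := (0 : D.idx → K)) fun _ _ => rfl, _root_.one_mul, _root_.mul_one, hχ])
    have hpc : p = IsLocalRing.closedPoint K := Subsingleton.elim (α := PrimeSpectrum K) p _
    rw [← hp, hpc]
    rwa [Over.comp_left, Scheme.Hom.comp_apply] at hm
  let z : X ⟶ cellSpace D n m := Over.homMk (IsOpenImmersion.lift _ g.left hr) (by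
    rw [← Over.w (RedSub.cellMap D eneg epos), IsOpenImmersion.lift_fac_assoc, Over.w])
  have hz : z ≫ RedSub.cellMap D eneg epos = g := Over.OverMorphism.ext (IsOpenImmersion.lift_fac _ _ _)
  have hti : (z ≫ snd _ _ ≫ fst _ _) ≫ D.i = g := by
    refine hom_ext_open fun R _ j _ C _ _ t₀ => ?_
    conv_rhs => rw [← hz, ← Category.assoc]
    rw [comp_cellMap_eq_torus hneg hpos (t₀ ≫ z) fun X' y s => ⟨s, ?_⟩]
    · simp only [Category.assoc]
    · rw [Category.assoc t₀, hz, ← Category.assoc]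
      exact hcomm X' (y ≫ t₀) _
  refine ⟨_, hti, fun a => hom_ext_open fun R _ j _ C _ _ t₀ => ?_⟩
  haveI : IsMonHom (D.split.hom.hom.hom) := D.split.hom.hom.isMonHom_hom
  haveI : IsMonHom (Red.chi S (D.P.root a)) := by
    rw [Red.chi]; infer_instance
  obtain ⟨χ, hχ⟩ := exists_tpt j (t₀ ≫ z ≫ snd _ _ ≫ fst _ _)
  have hroot : χ (Multiplicative.ofAdd (D.P.root a)) = 1 := by
    refine gp_u_injective (j := j) (c := a) ?_
    have h1 := conj_root j D.rootHom χ a (1 : C)
    rw [_root_.mul_one] at h1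
    rw [← h1, hχ, Category.assoc, hti]
    exact hcomm _ t₀ _
  rw [← Category.assoc, ← hχ, MonObj.comp_one, ← MonObj.one_comp (D.split.hom.hom.hom ≫ Red.chi S (D.P.root a)),
    ← tpt_one (D := D) (j := j) (C := C)]
  refine gm_ext ?_
  rw [gmFn_tpt_chi, gmFn_tpt_chi, hroot, MonoidHom.one_apply]

/-- A torus point killed by all roots is central. -/
theorem central_of_roots [Nonempty S] {X : Over S} (t : X ⟶ D.T)
    (ht : ∀ a : D.idx, t ≫ D.split.hom.hom.hom ≫ Red.chi S (D.P.root a) = 1)
    (X' : Over S) (x : X' ⟶ X) (h : X' ⟶ G) : (x ≫ t ≫ D.i) * h = h * (x ≫ t ≫ D.i) := by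
  classical
  haveI := isMonHom_i (D := D)
  haveI : ∀ c, IsMonHom (D.u c) := fun c => (D.rootHom c).1
  haveI : Finite D.idx := Finite.of_fintype _
  obtain ⟨b⟩ : Nonempty D.P.Base := nonempty_base D
  choose nr hnr using D.refl
  have hn : ∀ a, ActsBy (nr a) a := fun a => actsBy_of_refl (hnr a)
  obtain ⟨n, eneg, hneg⟩ := exists_enum (D := D) (RedSub.negRoots D.P b)
  obtain ⟨m, epos, hpos⟩ := exists_enum (D := D) (RedSub.posRoots D.P b)
  let T : List D.idx → (cellSpace D n m ⟶ G) := fun w => (toUnit _ ≫ (w.map nr).prod) * RedSub.cellMap D eneg epos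
  haveI : ∀ w, IsOpenImmersion (T w).left := fun w => isOpenImmersion_translate hneg hpos _
  let 𝒰 : G.left.OpenCover := Scheme.Cover.mkOfCovers (List D.idx) (fun _ => (cellSpace D n m).left)
    (fun w => (T w).left) (fun q => by
      obtain ⟨w, y, hy⟩ := exists_translate hneg hpos (nr := nr) hnr q
      exact ⟨w, y, hy⟩) (fun w => ‹∀ w, IsOpenImmersion (T w).left› w)
  refine Over.OverMorphism.ext (Scheme.Cover.hom_ext (𝒰.pullback₁ h.left) _ _ fun w => ?_)
  let Y : Over S := Over.mk (pullback.fst h.left (T w).left ≫ X'.hom)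
  let y : Y ⟶ X' := Over.homMk (pullback.fst h.left (T w).left) rfl
  let q : Y ⟶ cellSpace D n m := Over.homMk (pullback.snd h.left (T w).left) (by
    show _ = pullback.fst h.left (T w).left ≫ X'.hom
    rw [← Over.w (T w), ← pullback.condition_assoc, Over.w])
  have hyq : y ≫ h = q ≫ T w := Over.OverMorphism.ext pullback.condition
  suffices key : y ≫ ((x ≫ t ≫ D.i) * h) = y ≫ (h * (x ≫ t ≫ D.i)) from congrArg CommaMorphism.left key
  refine hom_ext_open fun R _ j _ C _ _ t₀ => ?_
  obtain ⟨χ, hχ⟩ := exists_tpt j (t₀ ≫ y ≫ x ≫ t)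
  have hroot : ∀ c : D.idx, χ (Multiplicative.ofAdd (D.P.root c)) = 1 := fun c => by
    haveI : IsMonHom (D.split.hom.hom.hom) := D.split.hom.hom.isMonHom_hom
    haveI : IsMonHom (Red.chi S (D.P.root c)) := by
      rw [Red.chi]; infer_instance
    have h1 : tpt D j χ ≫ D.split.hom.hom.hom ≫ Red.chi S (D.P.root c) =
        tpt D j (1 : Multiplicative D.M →* C) ≫ D.split.hom.hom.hom ≫ Red.chi S (D.P.root c) := by
      rw [hχ, tpt_one, MonObj.one_comp, Category.assoc, Category.assoc, Category.assoc, ht c, MonObj.comp_one,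
        MonObj.comp_one, MonObj.comp_one]
    have h2 := congrArg Red.gmFn h1
    rw [gmFn_tpt_chi, gmFn_tpt_chi, MonoidHom.one_apply] at h2
    simpa using congrArg (Scheme.ΓSpecIso (CommRingCat.of C)).hom h2
  let g₀ : Sp j C ⟶ G := tpt D j χ ≫ D.i
  have hg₀ : t₀ ≫ y ≫ x ≫ t ≫ D.i = g₀ := by simp only [g₀, hχ, Category.assoc]
  have hm := translate_mem (j := j) (C := C) b (Subgroup.centralizer {g₀})
    (fun φ => Subgroup.mem_centralizer_iff.2 (by
      rintro _ rfl
      simp only [g₀, ← MonObj.mul_comp, ← tpt_mul, mul_comm]))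
    (fun a _ c => ⟨Subgroup.mem_centralizer_iff.2 (by
        rintro _ rfl
        have := conj_root j D.rootHom χ a c
        rw [hroot, _root_.one_mul, mul_inv_eq_iff_eq_mul] at this
        exact this),
      Subgroup.mem_centralizer_iff.2 (by
        rintro _ rfl
        have := conj_root j D.rootHom χ (D.P.reflectionPerm a a) c
        rw [hroot, _root_.one_mul, mul_inv_eq_iff_eq_mul] at this
        exact this)⟩)
    hn w hneg.1 hpos.1 (t₀ ≫ q)
  have hh : t₀ ≫ y ≫ h = (t₀ ≫ q) ≫ T w := by rw [hyq, Category.assoc]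
  rw [MonObj.comp_mul, MonObj.comp_mul, MonObj.comp_mul, MonObj.comp_mul, hg₀, hh]
  exact Subgroup.mem_centralizer_iff.1 hm g₀ rfl

end Groth.L06.SplitCentre
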