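import Groth.Agent.L11.SmRegular.Basic
import Mathlib.AlgebraicGeometry.Morphisms.ClosedImmersion
import Mathlib.AlgebraicGeometry.IdealSheaf.Subscheme

/-!
Closed immersions detected modulo the square of a nilpotent ideal.
-/

set_option autoImplicit false
set_option maxSynthPendingDepth 3
set_option linter.style.haveILetI false
set_option backward.isDefEq.respectTransparency.types false
set_option backward.isDefEq.respectTransparency false
universe u

open CategoryTheory AlgebraicGeometry

namespace Groth.L06.SqClosedImm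

/-- A subring surjecting onto the quotient by the square of a nilpotent ideal is everything. -/
theorem surjective_of_sq {A B : Type*} [CommRing A] [CommRing B] (φ : A →+* B) (J : Ideal B)
    (hJ : IsNilpotent J) (h : ∀ b : B, ∃ a, b - φ a ∈ J ^ 2) : Function.Surjective φ := by
  have hstep : ∀ n : ℕ, ∀ x ∈ J ^ (n + 1), ∃ a, φ a ∈ J ^ (n + 1) ∧ x - φ a ∈ J ^ (n + 2) := by
    intro n
    induction n with
    | zero =>
      intro x hx
      obtain ⟨a, ha⟩ := h x
      refine ⟨a, ?_, ha⟩
      rw [zero_add, pow_one] at hx ⊢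
      have h1 : x - φ a ∈ J := Ideal.pow_le_self two_ne_zero ha
      simpa using sub_mem hx h1
    | succ n ih =>
      intro x hx
      rw [pow_succ] at hx
      refine Submodule.mul_induction_on hx (fun y hy i hi => ?_) fun y z hy hz => ?_
      · obtain ⟨a, ha, hya⟩ := ih y hy
        obtain ⟨b, hb⟩ := h i
        refine ⟨a * b, ?_, ?_⟩
        · rw [map_mul, pow_succ]
          exact Ideal.mul_mem_mul ha (by
            have h1 : i - φ b ∈ J := Ideal.pow_le_self two_ne_zero hb
            simpa using sub_mem hi h1)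
        · have he : y * i - φ (a * b) = (y - φ a) * i + φ a * (i - φ b) := by rw [map_mul]; ring
          rw [he]
          refine add_mem ?_ ?_
          · rw [pow_succ J (n + 2)]; exact Ideal.mul_mem_mul hya hi
          · rw [show n + 1 + 2 = n + 1 + 2 from rfl, pow_add]; exact Ideal.mul_mem_mul ha hb
      · obtain ⟨a, ha, hya⟩ := hy
        obtain ⟨b, hb, hzb⟩ := hz
        exact ⟨a + b, by rw [map_add]; exact add_mem ha hb,
          by rw [map_add, add_sub_add_comm]; exact add_mem hya hzb⟩
  have hall : ∀ n : ℕ, ∀ b : B, ∃ a, b - φ a ∈ J ^ (n + 1) := by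
    intro n
    induction n with
    | zero => exact fun b => (h b).imp fun a ha => by rw [zero_add, pow_one]; exact Ideal.pow_le_self two_ne_zero ha
    | succ n ih =>
      intro b
      obtain ⟨a, ha⟩ := ih b
      obtain ⟨a', -, ha'⟩ := hstep n _ ha
      exact ⟨a + a', by rw [map_add, ← sub_sub]; exact ha'⟩
  obtain ⟨N, hN⟩ := hJ
  intro b
  obtain ⟨a, ha⟩ := hall N b
  rw [pow_succ, hN] at ha
  exact ⟨a, (sub_eq_zero.mp (by simpa using ha)).symm⟩

theorem isClosedImmersion_of_sq {X Y : Scheme.{u}} (f : X ⟶ Y) (I : X.IdealSheafData) (hI : IsNilpotent I)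
    (h : IsClosedImmersion ((I ^ 2).subschemeι ≫ f)) : IsClosedImmersion f := by
  obtain ⟨N, hN⟩ := hI
  let ι := (I ^ 2).subschemeι
  have hnil : ∀ U : X.affineOpens, I.ideal U ^ N = ⊥ := fun U => by
    have := congrArg (fun J : X.IdealSheafData => J.ideal U) hN
    simpa using this
  have hsurj : Function.Surjective ι := by
    intro x
    have : x ∈ Set.range ι := by
      rw [Scheme.IdealSheafData.range_subschemeι]
      obtain ⟨_, ⟨U, hU, rfl⟩, hxU, -⟩ := X.isBasis_affineOpens.exists_subset_of_mem_open (Set.mem_univ x) isOpen_univ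
      refine ((Set.ext_iff.mp ((I ^ 2).coe_support_inter ⟨U, hU⟩) x).mpr ⟨?_, hxU⟩).1
      rw [Scheme.mem_zeroLocus_iff]
      intro s hs hx
      have hs' : IsNilpotent s := ⟨N, by
        have h1 : s ∈ I.ideal ⟨U, hU⟩ := Ideal.pow_le_self two_ne_zero (by simpa using hs)
        have := Ideal.pow_mem_pow h1 N
        rw [hnil] at this
        simpa using this⟩
      obtain ⟨hxU', hu⟩ := (Scheme.mem_basicOpen'' X s x).mp hx
      exact (hs'.map (X.presheaf.germ U x hxU').hom).not_isUnit hu
    exact this
  have hemb : Topology.IsClosedEmbedding f := by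
    have h1 : Topology.IsClosedEmbedding (f ∘ ι) := by
      rw [← TopCat.coe_comp, ← Scheme.Hom.comp_base]; exact (ι ≫ f).isClosedEmbedding
    have h2 : IsHomeomorph ι := isHomeomorph_iff_isEmbedding_surjective.mpr ⟨ι.isClosedEmbedding.isEmbedding, hsurj⟩
    have : (f : X → Y) = (f ∘ ι) ∘ h2.homeomorph.symm := by
      funext x
      show f x = f (ι (h2.homeomorph.symm x))
      exact congrArg f (h2.homeomorph.apply_symm_apply x).symm
    rw [this]
    exact h1.comp h2.homeomorph.symm.isClosedEmbedding
  haveI : SurjectiveOnStalks f := by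
    refine ⟨fun x => ?_⟩
    obtain ⟨z, rfl⟩ := hsurj x
    obtain ⟨_, ⟨U, hU, rfl⟩, hxU, -⟩ := X.isBasis_affineOpens.exists_subset_of_mem_open (Set.mem_univ (ι z)) isOpen_univ
    obtain ⟨hsj, hker⟩ := Groth.L11.SmRegular.stalkMap_subschemeι (I ^ 2) z ⟨U, hU⟩ hxU
    let J := (I.ideal ⟨U, hU⟩).map (X.presheaf.germ U (ι z) hxU).hom
    refine surjective_of_sq (f.stalkMap (ι z)).hom J ⟨N, by
      rw [← Ideal.map_pow, hnil, Ideal.map_bot]; rfl⟩ fun b => ?_
    obtain ⟨a, ha⟩ := (ι ≫ f).stalkMap_surjective z ((ι.stalkMap z) b)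
    refine ⟨a, ?_⟩
    rw [Scheme.Hom.stalkMap_comp] at ha
    have : b - f.stalkMap (ι z) a ∈ RingHom.ker (ι.stalkMap z).hom := by
      rw [RingHom.mem_ker, map_sub, sub_eq_zero]
      exact ha.symm
    rw [hker] at this
    simpa [J, Ideal.map_pow] using this
  exact ⟨hemb⟩

end Groth.L06.SqClosedImm
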