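import Mathlib.Topology.LocallyClosed
import Mathlib.Data.Fintype.Pi
import Mathlib.Data.Fintype.Prod
import Mathlib.Order.BooleanAlgebra.Set

/-! The stratification by atoms of a finite family of closed sets. -/

universe u

namespace Groth.L06.Strata

noncomputable section

open Set

variable {X : Type u} [TopologicalSpace X] {ι : Type} (C : ι → Set X)

/-- The atom of the family `C` indexed by `v`. -/
def atom (v : ι → Bool) : Set X := {x | ∀ a, (x ∈ C a ↔ v a = true)}

theorem atom_eq (v : ι → Bool) :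
    atom C v = (⋂ a ∈ {a | v a = true}, C a) ∩ (⋂ a ∈ {a | ¬ v a = true}, (C a)ᶜ) := by
  ext x
  simp only [atom, Set.mem_ofPred_eq, Set.mem_inter_iff, Set.mem_iInter, Set.mem_compl_iff]
  exact ⟨fun h => ⟨fun a ha => (h a).mpr ha, fun a ha hx => ha ((h a).mp hx)⟩,
    fun h a => ⟨fun hx => by_contra fun ha => h.2 a ha hx, h.1 a⟩⟩

theorem exists_atom (x : X) : ∃ v, x ∈ atom C v := by
  classical
  exact ⟨fun a => decide (x ∈ C a), fun a => by simp⟩

theorem disjoint_atom {v w : ι → Bool} (h : v ≠ w) : Disjoint (atom C v) (atom C w) := by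
  rw [Set.disjoint_left]
  intro x hv hw
  exact h (funext fun a => Bool.eq_iff_iff.mpr ((hv a).symm.trans (hw a)))

variable {C} [Finite ι]

theorem isLocallyClosed_atom (hC : ∀ a, IsClosed (C a)) (v : ι → Bool) :
    IsLocallyClosed (atom C v) := by
  rw [atom_eq, Set.inter_comm]
  exact ⟨_, _, (Set.toFinite _).isOpen_biInter fun a _ => (hC a).isOpen_compl,
    isClosed_biInter fun a _ => hC a, rfl⟩

theorem closure_atom_subset (hC : ∀ a, IsClosed (C a)) (v : ι → Bool) :
    closure (atom C v) ⊆ ⋃ w ∈ {w : ι → Bool | v ≤ w}, atom C w := by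
  intro x hx
  obtain ⟨w, hw⟩ := exists_atom C x
  refine mem_iUnion₂.mpr ⟨w, fun a => ?_, hw⟩
  rcases Bool.eq_false_or_eq_true (v a) with h | h
  · rw [h]
    exact ((hw a).mp (closure_minimal (fun y hy => (hy a).mpr h) (hC a) hx)).ge
  · rw [h]; exact Bool.false_le _

/-- The packaged stratification. -/
theorem exists_stratification [Fintype ι] (hC : ∀ a, IsClosed (C a)) {κ : Type*} (P : κ → Set X)
    (hP : ∀ k x y, (∀ a, x ∈ C a ↔ y ∈ C a) → x ∈ P k → y ∈ P k) :
    ∃ (I : Type) (_ : Fintype I) (_ : PartialOrder I) (S : I → Set X),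
      (∀ i, IsLocallyClosed (S i) ∧ ∃ v, S i = atom C v) ∧ (⋃ i, S i = Set.univ) ∧
      (∀ i j, i ≠ j → Disjoint (S i) (S j)) ∧
      (∀ j, closure (S j) ⊆ ⋃ i ∈ Set.Iic j, S i) ∧
      (∀ i k, (S i ∩ P k).Nonempty → S i ⊆ P k) := by
  classical
  refine ⟨(ι → Bool)ᵒᵈ, inferInstanceAs (Fintype (ι → Bool)), inferInstance,
    fun i => atom C (OrderDual.ofDual i),
    fun i => ⟨isLocallyClosed_atom hC _, _, rfl⟩,
    eq_univ_of_forall fun x => ?_, fun i j h => disjoint_atom C (fun e => h (OrderDual.ofDual.injective e)),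
    fun j x hx => ?_, fun i k ⟨x, hxi, hxk⟩ y hy => hP k x y (fun a => (hxi a).trans (hy a).symm) hxk⟩
  · obtain ⟨v, hv⟩ := exists_atom C x
    exact mem_iUnion.mpr ⟨OrderDual.toDual v, hv⟩
  · obtain ⟨w, hw, hxw⟩ := mem_iUnion₂.mp (closure_atom_subset hC _ hx)
    exact mem_iUnion₂.mpr ⟨OrderDual.toDual w, hw, hxw⟩

end

end Groth.L06.Strata
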