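import Groth.Prelude.Def_PP16
import Mathlib.RingTheory.MvPolynomial.Ideal
import Mathlib.LinearAlgebra.Multilinear.Pi
import Mathlib.Algebra.Module.Torsion.Basic

/-! Symmetric powers of `J/J²` and the graded pieces `Jⁿ/Jⁿ⁺¹`. -/

set_option autoImplicit false
set_option maxSynthPendingDepth 3
set_option linter.style.haveILetI false
universe u

namespace Groth.L06.SymGr

theorem exists_symLift {R ι M N : Type u} [CommRing R] [AddCommGroup M] [Module R M] [AddCommGroup N] [Module R N]
    (f : MultilinearMap R (fun _ : ι => M) N) (hf : ∀ (e : Equiv.Perm ι) (v : ι → M), f (fun i => v (e i)) = f v) :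
    ∃ F : SymmetricPower R ι M →ₗ[R] N, ∀ v, F (SymmetricPower.tprod R v) = f v := by
  have h : addConGen (SymmetricPower.Rel R ι M) ≤ AddCon.ker (PiTensorProduct.lift f).toAddMonoidHom := by
    refine AddCon.addConGen_le.mpr fun x y hxy => ?_
    cases hxy with
    | perm e g =>
      rw [AddCon.ker_rel, LinearMap.toAddMonoidHom_coe, PiTensorProduct.lift.tprod, PiTensorProduct.lift.tprod, hf]
  refine ⟨{ toFun := AddCon.lift _ _ h, map_add' := map_add _, map_smul' := fun r x => ?_ },
    fun v => PiTensorProduct.lift.tprod v⟩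
  induction x using AddCon.induction_on with
  | H z => exact (PiTensorProduct.lift f).map_smul r z

theorem symExt {R ι M M' N : Type u} [CommRing R] [AddCommGroup M] [Module R M] [AddCommGroup N] [Module R N]
    (p : M' → M) (hp : Function.Surjective p) {F G : SymmetricPower R ι M →ₗ[R] N}
    (h : ∀ v : ι → M', F (SymmetricPower.tprod R fun i => p (v i)) = G (SymmetricPower.tprod R fun i => p (v i))) :
    F = G := by
  refine LinearMap.ext_on (SymmetricPower.span_tprod_eq_top ..) ?_
  rintro _ ⟨v, rfl⟩
  choose w hw using fun i => hp (v i)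
  rw [show v = fun i => p (w i) from funext fun i => (hw i).symm]
  exact h w

theorem prod_sub_mem {R ι : Type*} [CommRing R] (I : Ideal R) (s : Finset ι) (x y : ι → R) (hx : ∀ i, x i ∈ I)
    (hxy : ∀ i, x i - y i ∈ I ^ 2) : ∏ i ∈ s, x i - ∏ i ∈ s, y i ∈ I ^ (s.card + 1) := by
  classical
  induction s using Finset.induction_on with
  | empty => simp
  | insert a s ha ih =>
    rw [Finset.prod_insert ha, Finset.prod_insert ha, Finset.card_insert_of_notMem ha]
    have hy : ∏ i ∈ s, y i ∈ I ^ s.card := by
      rw [← Finset.prod_const]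
      exact Ideal.prod_mem_prod fun i _ => by simpa using sub_mem (hx i) (Ideal.pow_le_self two_ne_zero (hxy i))
    rw [show x a * ∏ i ∈ s, x i - y a * ∏ i ∈ s, y i =
      x a * (∏ i ∈ s, x i - ∏ i ∈ s, y i) + (x a - y a) * ∏ i ∈ s, y i by ring]
    refine add_mem ?_ ?_
    · rw [pow_succ' I (s.card + 1)]
      exact Ideal.mul_mem_mul (hx a) ih
    · rw [show s.card + 1 + 1 = 2 + s.card by omega, pow_add]
      exact Ideal.mul_mem_mul (hxy a) hy

variable {B : Type u} [CommRing B] (J : Ideal B)

/-- The class of a product in the graded piece. -/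
noncomputable def zetaMultilinear (ι : Type u) [Fintype ι] :
    MultilinearMap B (fun _ : ι => ↥J) (PP16.grJ B J (Fintype.card ι)) :=
  (Submodule.mkQ _).compMultilinearMap
    (MultilinearMap.codRestrict ((MultilinearMap.mkPiAlgebra B ι B).compLinearMap fun _ => J.subtype) (J ^ Fintype.card ι)
      fun x => by simpa using PP16.prod_mem_pow J Finset.univ (fun i => (x i : B)) fun i _ => (x i).2)

theorem zetaMultilinear_apply (ι : Type u) [Fintype ι] (x : ι → ↥J) :
    zetaMultilinear J ι x = PP16.zetaJ B J x := rfl

theorem zetaJ_congr (ι : Type u) [Fintype ι] (x y : ι → ↥J) (h : ∀ i, J.toCotangent (x i) = J.toCotangent (y i)) :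
    PP16.zetaJ B J x = PP16.zetaJ B J y := by
  refine (Submodule.Quotient.eq _).mpr ?_
  show ∏ i, (x i : B) - ∏ i, (y i : B) ∈ J ^ (Fintype.card ι + 1)
  exact prod_sub_mem J Finset.univ _ _ (fun i => (x i).2) fun i => (Ideal.toCotangent_eq J).mp (h i)

/-- the canonical map `Symⁿ(J/J²) → Jⁿ/Jⁿ⁺¹` -/
theorem exists_grMap (ι : Type u) [Fintype ι] :
    ∃ φ : SymmetricPower B ι J.Cotangent →ₗ[B] PP16.grJ B J (Fintype.card ι),
      ∀ x : ι → ↥J, φ (SymmetricPower.tprod B fun i => J.toCotangent (x i)) = PP16.zetaJ B J x := by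
  classical
  let sec := Function.surjInv J.toCotangent_surjective
  have hsec : ∀ v, J.toCotangent (sec v) = v := Function.surjInv_eq _
  let M : MultilinearMap B (fun _ : ι => J.Cotangent) (PP16.grJ B J (Fintype.card ι)) :=
    { toFun := fun v => PP16.zetaJ B J fun i => sec (v i)
      map_update_add' := fun v i a b => by
        have h1 : ∀ c, PP16.zetaJ B J (fun j => sec (Function.update v i c j)) =
            zetaMultilinear J ι (Function.update (fun j => sec (v j)) i (sec c)) := fun c => by
          rw [zetaMultilinear_apply]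
          exact congrArg _ (funext fun j => Function.apply_update (fun _ => sec) v i c j)
        rw [h1, h1, h1, ← (zetaMultilinear J ι).map_update_add, zetaMultilinear_apply, zetaMultilinear_apply]
        refine zetaJ_congr J ι _ _ fun j => ?_
        rcases eq_or_ne j i with rfl | hj
        · rw [Function.update_self, Function.update_self, map_add, hsec, hsec, hsec]
        · rw [Function.update_of_ne hj, Function.update_of_ne hj]
      map_update_smul' := fun v i c a => by
        have h1 : ∀ c, PP16.zetaJ B J (fun j => sec (Function.update v i c j)) =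
            zetaMultilinear J ι (Function.update (fun j => sec (v j)) i (sec c)) := fun c => by
          rw [zetaMultilinear_apply]
          exact congrArg _ (funext fun j => Function.apply_update (fun _ => sec) v i c j)
        rw [h1, h1, ← (zetaMultilinear J ι).map_update_smul, zetaMultilinear_apply, zetaMultilinear_apply]
        refine zetaJ_congr J ι _ _ fun j => ?_
        rcases eq_or_ne j i with rfl | hj
        · rw [Function.update_self, Function.update_self, map_smul, hsec, hsec]
        · rw [Function.update_of_ne hj, Function.update_of_ne hj] }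
  obtain ⟨F, hF⟩ := exists_symLift M fun e v => by
    show PP16.zetaJ B J _ = PP16.zetaJ B J _
    exact congrArg Submodule.Quotient.mk (Subtype.ext (Equiv.prod_comp e fun i => ((sec (v i) : ↥J) : B)))
  exact ⟨F, fun x => (hF _).trans (zetaJ_congr J ι _ _ fun i => hsec _)⟩

theorem grMap_unique {ι : Type u} [Fintype ι]
    {φ φ' : SymmetricPower B ι J.Cotangent →ₗ[B] PP16.grJ B J (Fintype.card ι)}
    (h : ∀ x : ι → ↥J, φ (SymmetricPower.tprod B fun i => J.toCotangent (x i)) = PP16.zetaJ B J x)
    (h' : ∀ x : ι → ↥J, φ' (SymmetricPower.tprod B fun i => J.toCotangent (x i)) = PP16.zetaJ B J x) : φ = φ' :=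
  symExt J.toCotangent J.toCotangent_surjective fun x => (h x).trans (h' x).symm

theorem pow_le_span_prod (ι : Type u) (s : Finset ι) :
    J ^ s.card ≤ Submodule.span B (Set.range fun x : ι → ↥J => ∏ i ∈ s, (x i : B)) := by
  classical
  induction s using Finset.induction_on with
  | empty =>
    intro b _
    rw [← mul_one b]
    exact Submodule.smul_mem _ b (Submodule.subset_span ⟨fun _ => 0, Finset.prod_empty⟩)
  | insert a s ha ih =>
    rw [Finset.card_insert_of_notMem ha, pow_succ', Ideal.mul_le]
    intro r hr t ht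
    refine (Submodule.map_span_le (LinearMap.mulLeft B r) _ _).mpr ?_ ⟨t, ih ht, rfl⟩
    rintro _ ⟨x, rfl⟩
    refine Submodule.subset_span ⟨Function.update x a ⟨r, hr⟩, ?_⟩
    show ∏ i ∈ insert a s, (Function.update x a ⟨r, hr⟩ i : B) = r * ∏ i ∈ s, (x i : B)
    rw [Finset.prod_insert ha, Function.update_self]
    exact congrArg (r * ·) (Finset.prod_congr rfl fun i hi => by rw [Function.update_of_ne (ne_of_mem_of_not_mem hi ha)])

theorem grMap_surjective {ι : Type u} [Fintype ι]
    {φ : SymmetricPower B ι J.Cotangent →ₗ[B] PP16.grJ B J (Fintype.card ι)}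
    (h : ∀ x : ι → ↥J, φ (SymmetricPower.tprod B fun i => J.toCotangent (x i)) = PP16.zetaJ B J x) :
    Function.Surjective φ := by
  intro y
  obtain ⟨⟨b, hb⟩, rfl⟩ := Submodule.Quotient.mk_surjective _ y
  have h1 := pow_le_span_prod J ι Finset.univ (Finset.card_univ (α := ι) ▸ hb)
  have key : ∀ c ∈ Submodule.span B (Set.range fun x : ι → ↥J => ∏ i, (x i : B)),
      ∃ (hc : c ∈ J ^ Fintype.card ι) (t : SymmetricPower B ι J.Cotangent), φ t = Submodule.Quotient.mk ⟨c, hc⟩ := by
    intro c hc
    induction hc using Submodule.span_induction with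
    | mem x hx =>
      obtain ⟨x, rfl⟩ := hx
      exact ⟨by simpa using PP16.prod_mem_pow J Finset.univ (fun i => (x i : B)) fun i _ => (x i).2, _, h x⟩
    | zero => exact ⟨zero_mem _, 0, by rw [map_zero]; rfl⟩
    | add a b _ _ ha hb =>
      obtain ⟨ha, t, ht⟩ := ha
      obtain ⟨hb, t', ht'⟩ := hb
      exact ⟨add_mem ha hb, t + t', by rw [map_add, ht, ht']; rfl⟩
    | smul r a _ ha =>
      obtain ⟨ha, t, ht⟩ := ha
      exact ⟨Submodule.smul_mem _ r ha, r • t, by rw [map_smul, ht]; rfl⟩
  obtain ⟨_, t, ht⟩ := key b h1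
  exact ⟨t, ht⟩

theorem symGrBijective_of_injective
    (h : ∀ (ι : Type u) [Fintype ι] [Nonempty ι] (φ : SymmetricPower B ι J.Cotangent →ₗ[B] PP16.grJ B J (Fintype.card ι)),
      (∀ x : ι → ↥J, φ (SymmetricPower.tprod B fun i => J.toCotangent (x i)) = PP16.zetaJ B J x) → Function.Injective φ) :
    PP16.SymGrBijective B J := fun ι _ _ => by
  obtain ⟨φ, hφ⟩ := exists_grMap J ι
  exact ⟨φ, hφ, h ι φ hφ, grMap_surjective J hφ⟩

theorem symPow_smul_eq_zero (ι : Type u) [Nonempty ι] {r : B} (hr : r ∈ J) (t : SymmetricPower B ι J.Cotangent) :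
    r • t = 0 := by
  classical
  have ht : t ∈ Submodule.span B (Set.range (SymmetricPower.tprod B (ι := ι) (M := J.Cotangent))) := by
    rw [SymmetricPower.span_tprod_eq_top]; trivial
  induction ht using Submodule.span_induction with
  | mem x hx =>
    obtain ⟨v, rfl⟩ := hx
    let i := Classical.arbitrary ι
    conv_lhs => rw [← Function.update_eq_self i v, ← MultilinearMap.map_update_smul]
    exact MultilinearMap.map_coord_zero _ i (by rw [Function.update_self, Ideal.Cotangent.smul_eq_zero_of_mem hr])
  | zero => exact smul_zero _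
  | add x y _ _ hx hy => rw [smul_add, hx, hy, add_zero]
  | smul c x _ hx => rw [smul_comm, hx, smul_zero]

end Groth.L06.SymGr
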