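import Groth.Agent.L06.SymGrBasic
import Mathlib.Algebra.Module.Projective
import Mathlib.RingTheory.MvPolynomial.Basic
import Mathlib.Logic.Equiv.Set

/-! A test for injectivity of `Symⁿ(J/J²) → Jⁿ/Jⁿ⁺¹` through a polynomial ring. -/

set_option autoImplicit false
set_option maxSynthPendingDepth 3
set_option linter.style.haveILetI false
universe u

namespace Groth.L06.SymGr

open MvPolynomial

theorem exists_perm_of_count {ι W : Type*} [Fintype ι] [DecidableEq W] (e e' : ι → W)
    (h : ∑ j, Finsupp.single (e j) 1 = (∑ j, Finsupp.single (e' j) 1 : W →₀ ℕ)) :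
    ∃ p : Equiv.Perm ι, ∀ j, e' (p j) = e j := by
  classical
  have hc : ∀ w, Fintype.card {j // e j = w} = Fintype.card {j // e' j = w} := fun w => by
    have := DFunLike.congr_fun h w
    simp only [Finsupp.coe_finsetSum, Finset.sum_apply, Finsupp.single_apply, Finset.sum_boole, Nat.cast_id] at this
    simpa [Fintype.card_subtype] using this
  exact ⟨Equiv.ofFiberEquiv fun w => Fintype.equivOfCardEq (hc w), fun j => Equiv.ofFiberEquiv_map _ j⟩

variable {B : Type u} [CommRing B] (J : Ideal B)

set_option maxHeartbeats 800000 in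
theorem injective_of_test [Module.Projective (B ⧸ J) J.Cotangent] {ι : Type u} [Fintype ι] [Nonempty ι]
    (φ : SymmetricPower B ι J.Cotangent →ₗ[B] PP16.grJ B J (Fintype.card ι))
    (hφ : ∀ x : ι → ↥J, φ (SymmetricPower.tprod B fun i => J.toCotangent (x i)) = PP16.zetaJ B J x)
    (hf : ∀ (lin : J.Cotangent →ₗ[B ⧸ J] MvPolynomial J.Cotangent (B ⧸ J)),
      (∀ v, lin v ∈ idealOfVars J.Cotangent (B ⧸ J)) →
      ∃ f : B →+* MvPolynomial J.Cotangent (B ⧸ J) ⧸ idealOfVars J.Cotangent (B ⧸ J) ^ (Fintype.card ι + 1),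
        (∀ b, f b - Ideal.Quotient.mk _ (C (Ideal.Quotient.mk J b)) ∈
          (idealOfVars J.Cotangent (B ⧸ J)).map (Ideal.Quotient.mk _)) ∧
        ∀ x : ↥J, f x - Ideal.Quotient.mk _ (lin (J.toCotangent x)) ∈
          (idealOfVars J.Cotangent (B ⧸ J)).map (Ideal.Quotient.mk _) ^ 2) :
    Function.Injective φ := by
  classical
  let V := J.Cotangent
  let R := B ⧸ J
  let n := Fintype.card ι
  obtain ⟨σ, hσ⟩ := (Module.projective_def (R := R) (P := V)).mp inferInstance
  let lin : V →ₗ[R] MvPolynomial V R := (Finsupp.linearCombination R (MvPolynomial.X)).comp σ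
  have hlin : ∀ v, lin v ∈ idealOfVars V R := fun v => by
    show Finsupp.linearCombination R MvPolynomial.X (σ v) ∈ _
    rw [Finsupp.linearCombination_apply]
    refine Ideal.sum_mem _ fun w _ => ?_
    show σ v w • X w ∈ _
    rw [MvPolynomial.smul_eq_C_mul]
    exact Ideal.mul_mem_left _ _ (Ideal.subset_span ⟨w, rfl⟩)
  obtain ⟨f, hf1, hf2⟩ := hf lin hlin
  -- the symmetric power is a module over `B ⧸ J`
  have htors : Module.IsTorsionBySet B (SymmetricPower B ι V) (J : Ideal B) := fun t r => symPow_smul_eq_zero J ι r.2 t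
  letI : Module R (SymmetricPower B ι V) := htors.module
  haveI : IsScalarTower B R (SymmetricPower B ι V) := IsScalarTower.of_algebraMap_smul fun _ _ => rfl
  let g : (V →₀ ℕ) → SymmetricPower B ι V := fun d =>
    if h : ∃ e : ι → V, ∑ j, Finsupp.single (e j) 1 = d then SymmetricPower.tprod B h.choose else 0
  have hg : ∀ e : ι → V, g (∑ j, Finsupp.single (e j) 1) = SymmetricPower.tprod B e := fun e => by
    have h : ∃ e' : ι → V, ∑ j, Finsupp.single (e' j) 1 = (∑ j, Finsupp.single (e j) 1 : V →₀ ℕ) := ⟨e, rfl⟩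
    show dite _ _ _ = _
    rw [dif_pos h]
    obtain ⟨p, hp⟩ := exists_perm_of_count e h.choose h.choose_spec.symm
    conv_rhs => rw [show e = fun j => h.choose (p j) from funext fun j => (hp j).symm]
    exact (SymmetricPower.tprod_equiv p h.choose).symm
  let L : MvPolynomial V R →ₗ[R] SymmetricPower B ι V := (basisMonomials V R).constr R g
  have hL : ∀ d (c : R), L (monomial d c) = c • g d := fun d c => by
    have h1 : monomial d c = c • (basisMonomials V R d) := by
      rw [coe_basisMonomials, smul_monomial, smul_eq_mul, mul_one]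
    rw [h1, map_smul]
    exact congrArg (c • ·) ((basisMonomials V R).constr_basis R g d)
  -- product of linear forms
  let P0 : MultilinearMap B (fun _ : ι => V) (MvPolynomial V R) :=
    (MultilinearMap.mkPiAlgebra B ι (MvPolynomial V R)).compLinearMap fun _ => lin.restrictScalars B
  obtain ⟨P, hP⟩ := exists_symLift P0 fun e v => by
    simp only [P0, MultilinearMap.compLinearMap_apply, MultilinearMap.mkPiAlgebra_apply]
    exact Equiv.prod_comp e fun i => (lin.restrictScalars B) (v i)
  have hP' : ∀ v, P (SymmetricPower.tprod B v) = ∏ i, lin (v i) := fun v => (hP v).trans rfl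
  let out : R → B := Function.surjInv Ideal.Quotient.mk_surjective
  have hout : ∀ c, Ideal.Quotient.mk J (out c) = c := Function.surjInv_eq _
  have hmono : ∀ (s : Finset ι) (w : ι → V) (c : ι → R),
      ∏ j ∈ s, monomial (Finsupp.single (w j) 1) (c j) = monomial (∑ j ∈ s, Finsupp.single (w j) 1) (∏ j ∈ s, c j) := by
    intro s w c
    induction s using Finset.induction_on with
    | empty => simp
    | insert a s ha ih => rw [Finset.prod_insert ha, ih, monomial_mul, Finset.sum_insert ha, Finset.prod_insert ha]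
  have hLP : ∀ v : ι → V, L (∏ i, lin (v i)) = SymmetricPower.tprod B v := fun v => by
    have h1 : ∀ i, lin (v i) = ∑ w ∈ (σ (v i)).support, monomial (Finsupp.single w 1) (σ (v i) w) := fun i => by
      show Finsupp.linearCombination R MvPolynomial.X (σ (v i)) = _
      rw [Finsupp.linearCombination_apply]
      exact Finset.sum_congr rfl fun w _ => by simp [MvPolynomial.smul_eq_C_mul, MvPolynomial.C_mul_X_eq_monomial]
    have h2 : ∀ i, v i = ∑ w ∈ (σ (v i)).support, out (σ (v i) w) • w := fun i => by
      conv_lhs => rw [← hσ (v i), Finsupp.linearCombination_apply]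
      refine Finset.sum_congr rfl fun w _ => ?_
      show σ (v i) w • w = out (σ (v i) w) • w
      conv_lhs => rw [← hout (σ (v i) w)]
      rfl
    rw [Finset.prod_congr rfl fun i _ => h1 i, Finset.prod_univ_sum, map_sum,
      show SymmetricPower.tprod B v = SymmetricPower.tprod B (fun i => ∑ w ∈ (σ (v i)).support, out (σ (v i) w) • w) from
        congrArg _ (funext h2), MultilinearMap.map_sum_finset]
    refine Finset.sum_congr rfl fun w _ => ?_
    rw [hmono, hL, hg, MultilinearMap.map_smul_univ, ← algebraMap_smul R (∏ i, out (σ (v i) (w i)))]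
    congr 1
    rw [map_prod]
    exact Finset.prod_congr rfl fun i _ => (hout _).symm
  have hLP' : ∀ t, L (P t) = t := LinearMap.congr_fun (symExt (F := (L.restrictScalars B).comp P) (G := LinearMap.id) id
    Function.surjective_id fun v => by
      show L (P _) = _
      rw [hP', hLP]
      rfl)
  -- kills higher monomials
  have hLz : ∀ p ∈ idealOfVars V R ^ (n + 1), L p = 0 := fun p hp => by
    rw [p.as_sum, map_sum]
    refine Finset.sum_eq_zero fun d hd => ?_
    rw [hL]
    have h1 := (mem_pow_idealOfVars_iff (n + 1) p).mp hp d hd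
    have h2 : ¬∃ e : ι → V, ∑ j, Finsupp.single (e j) 1 = d := fun ⟨e, he⟩ => by
      rw [← he, map_sum] at h1
      simp [Finsupp.degree_single, n] at h1
    show _ • dite _ _ _ = 0
    rw [dif_neg h2, smul_zero]
  let q := Ideal.Quotient.mk (idealOfVars V R ^ (n + 1))
  let I1 := (idealOfVars V R).map q
  have hI1 : I1 ^ (n + 1) = ⊥ := by rw [← Ideal.map_pow, Ideal.map_quotient_self]
  have hfJ : ∀ x : ↥J, f x ∈ I1 := fun x => by
    have h := add_mem (Ideal.pow_le_self two_ne_zero (hf2 x)) (Ideal.mem_map_of_mem q (hlin (J.toCotangent x)))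
    rwa [sub_add_cancel] at h
  have key : ∀ t, P t ∈ idealOfVars V R ^ n ∧ ∃ y : ↥(J ^ n), φ t = Submodule.Quotient.mk y ∧ f y = q (P t) := by
    intro t
    have ht : t ∈ Submodule.span B (Set.range (SymmetricPower.tprod B (ι := ι) (M := V))) := by
      rw [SymmetricPower.span_tprod_eq_top]; trivial
    induction ht using Submodule.span_induction with
    | mem x hx =>
      obtain ⟨v, rfl⟩ := hx
      choose w hw using fun i => J.toCotangent_surjective (v i)
      obtain rfl : v = fun i => J.toCotangent (w i) := funext fun i => (hw i).symm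
      refine ⟨?_, ⟨∏ i, (w i : B), by simpa using PP16.prod_mem_pow J Finset.univ (fun i => (w i : B)) fun i _ => (w i).2⟩,
        hφ w, ?_⟩
      · rw [hP', show idealOfVars V R ^ n = ∏ _i : ι, idealOfVars V R by simp [n]]
        exact Ideal.prod_mem_prod fun i _ => hlin _
      · show f (∏ i, (w i : B)) = q _
        rw [hP', map_prod f, map_prod q, ← sub_eq_zero, ← Ideal.mem_bot, ← hI1]
        exact prod_sub_mem I1 Finset.univ _ _ (fun i => hfJ (w i)) fun i => hf2 (w i)
    | zero => exact ⟨by rw [map_zero]; exact zero_mem _, 0, by rw [map_zero]; rfl, by simp⟩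
    | add a b _ _ ha hb =>
      obtain ⟨ha, y, hy, hy'⟩ := ha
      obtain ⟨hb, z, hz, hz'⟩ := hb
      exact ⟨by rw [map_add]; exact add_mem ha hb, y + z, by rw [map_add, hy, hz]; rfl,
        by rw [Submodule.coe_add, map_add f, map_add P, map_add q, hy', hz']⟩
    | smul r a _ ha =>
      obtain ⟨ha, y, hy, hy'⟩ := ha
      have hr : P (r • a) = C (Ideal.Quotient.mk J r) * P a := by
        rw [map_smul, ← algebraMap_smul R r, MvPolynomial.smul_eq_C_mul]
        rfl
      refine ⟨by rw [hr]; exact Ideal.mul_mem_left _ _ ha, r • y, by rw [map_smul, hy]; rfl, ?_⟩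
      show f (r * (y : B)) = _
      rw [hr, map_mul, map_mul, hy', ← sub_eq_zero, ← sub_mul, ← Ideal.mem_bot, ← hI1, pow_succ' I1 n]
      exact Ideal.mul_mem_mul (hf1 r) (by rw [← Ideal.map_pow]; exact Ideal.mem_map_of_mem q ha)
  refine (injective_iff_map_eq_zero φ).mpr fun t ht => ?_
  obtain ⟨-, y, hy, hy'⟩ := key t
  rw [← hLP' t]
  refine hLz _ ?_
  rw [← Ideal.Quotient.eq_zero_iff_mem]
  show q (P t) = 0
  rw [← hy', ← Ideal.mem_bot, ← hI1]
  have hyJ : (y : B) ∈ J ^ (n + 1) :=
    (Submodule.Quotient.mk_eq_zero (Submodule.comap (J ^ n).subtype (J ^ (n + 1)))).mp (hy.symm.trans ht)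
  refine (Ideal.map_le_iff_le_comap.mp (?_ : (J ^ (n + 1)).map f ≤ I1 ^ (n + 1))) hyJ
  rw [Ideal.map_pow]
  refine Ideal.pow_right_mono (Ideal.map_le_iff_le_comap.mpr fun x hx => ?_) _
  exact hfJ ⟨x, hx⟩

end Groth.L06.SymGr
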