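import Groth.Agent.L06.DescendFiniteTypeInt
import Groth.Agent.L06.FibreModel
import Groth.Agent.L06.Constr
import Groth.Agent.L07.CILocusScheme
import Groth.Agent.L07.SyntScheme
import Groth.Agent.L19.Limit.Smooth

/-!
Flat morphisms with complete intersection fibres descend along cofiltered limits.
-/

set_option autoImplicit false
set_option maxSynthPendingDepth 3
set_option linter.style.haveILetI false
set_option backward.isDefEq.respectTransparency.types false
set_option backward.isDefEq.respectTransparency false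
set_option backward.defeqAttrib.useBackward true

universe u

open CategoryTheory CategoryTheory.Limits AlgebraicGeometry MorphismProperty TensorProduct

noncomputable section

namespace Groth.L06.SyntomicDescent

/-- Flat morphisms locally of finite presentation with complete intersection fibres. -/
abbrev P : MorphismProperty Scheme.{u} := fun _ _ f => CInt.IsCIMorphism f

/-- The fibre ring at a point only depends on a neighbourhood of the point. -/
theorem isCI_fiberStalk_comp {U X S : Scheme.{u}} (j : U ⟶ X) [IsOpenImmersion j] (f : X ⟶ S)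
    [LocallyOfFiniteType f] (x : U) :
    Pi1.IsCompleteIntersection (CInt.fiberStalk (j ≫ f) x) ↔
      Pi1.IsCompleteIntersection (CInt.fiberStalk f (j x)) := by
  let s := (j ≫ f) x
  let w : (j ≫ f).fiber s ⟶ f.fiber s := CInt.fiberMap j f s
  have hsq : IsPullback ((j ≫ f).fiberι s) w j (f.fiberι s) := by
    refine IsPullback.of_bot ?_ (pullback.lift_fst _ _ _).symm
      (IsPullback.of_hasPullback f (S.fromSpecResidueField s))
    have hw : w ≫ pullback.snd f (S.fromSpecResidueField s) = (j ≫ f).fiberToSpecResidueField s :=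
      (pullback.lift_snd _ _ _).trans (Category.comp_id _)
    rw [hw]
    exact IsPullback.of_hasPullback _ _
  haveI : IsOpenImmersion w := MorphismProperty.of_isPullback hsq ‹IsOpenImmersion j›
  let z := (j ≫ f).asFiber x
  have hz : f.fiberι s (w z) = j x := by
    rw [← Scheme.Hom.comp_apply, ← hsq.w, Scheme.Hom.comp_apply]
    exact congrArg j ((j ≫ f).fiberι_asFiber x)
  haveI := Groth.L07.CIBaseChange.isLocallyNoetherian_fiber (j ≫ f) s
  haveI := Groth.L07.CIBaseChange.isLocallyNoetherian_fiber f s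
  rw [Groth.L07.CIBaseChange.isCI_fiberStalk_iff f (j x) s (w z) hz]
  exact (Groth.L07.Avramov.isCompleteIntersection_congr (asIso (w.stalkMap z)).commRingCatIsoToRingEquiv).symm

instance : (P.{u}).RespectsIso := by
  refine MorphismProperty.RespectsIso.mk _ (fun {X Y Z} e f h => ?_) (fun {X Y Z} e f h => ?_)
  · obtain ⟨_, _, hCI⟩ := h
    haveI : LocallyOfFiniteType f := inferInstance
    exact ⟨inferInstance, inferInstance, fun x => (isCI_fiberStalk_comp e.hom f x).2 (hCI _)⟩
  · obtain ⟨_, _, hCI⟩ := h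
    haveI : LocallyOfFiniteType f := inferInstance
    exact ⟨inferInstance, inferInstance, fun x => (Groth.L07.CIBaseChange.isCI_fiberStalk_baseChange f
      (IsPullback.of_horiz_isIso ⟨by simp⟩ : IsPullback (𝟙 X) (f ≫ e.hom) f e.inv) x).2 (hCI _)⟩

instance : (P.{u}).IsStableUnderBaseChange := .mk' fun X Y S f g _ hg => by
  obtain ⟨_, _, hCI⟩ := hg
  haveI : LocallyOfFiniteType g := inferInstance
  refine ⟨MorphismProperty.pullback_fst f g ‹Flat g›, MorphismProperty.pullback_fst f g
    ‹LocallyOfFinitePresentation g›, fun x' => ?_⟩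
  exact (Groth.L07.CIBaseChange.isCI_fiberStalk_baseChange g (IsPullback.of_hasPullback f g).flip x').2 (hCI _)

instance : IsZariskiLocalAtSource P.{u} := by
  refine IsZariskiLocalAtSource.mk' (fun {X Y} f U h => ?_) (fun {X Y} f {ι} U hU h => ?_)
  · obtain ⟨_, _, hCI⟩ := h
    haveI : LocallyOfFiniteType f := inferInstance
    exact ⟨inferInstance, inferInstance, fun x => (isCI_fiberStalk_comp U.ι f x).2 (hCI _)⟩
  · haveI : Flat f := IsZariskiLocalAtSource.of_iSup_eq_top U hU fun i => (h i).1
    haveI : LocallyOfFinitePresentation f := IsZariskiLocalAtSource.of_iSup_eq_top U hU fun i => (h i).2.1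
    haveI : LocallyOfFiniteType f := inferInstance
    refine ⟨inferInstance, inferInstance, fun x => ?_⟩
    obtain ⟨i, hi⟩ := TopologicalSpace.Opens.mem_iSup.1 (hU.ge (trivial : x ∈ (⊤ : X.Opens)))
    exact (isCI_fiberStalk_comp (U i).ι f ⟨x, hi⟩).1 ((h i).2.2 _)

instance : IsZariskiLocalAtTarget P.{u} := by
  refine IsZariskiLocalAtTarget.mk' (fun {X Y} f U h => MorphismProperty.of_isPullback
    (isPullback_morphismRestrict f U).flip h) (fun {X Y} f {ι} U hU h => ?_)
  haveI : Flat f := IsZariskiLocalAtTarget.of_iSup_eq_top U hU fun i => (h i).1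
  haveI : LocallyOfFinitePresentation f := IsZariskiLocalAtTarget.of_iSup_eq_top U hU fun i => (h i).2.1
  haveI : LocallyOfFiniteType f := inferInstance
  refine ⟨inferInstance, inferInstance, fun x => ?_⟩
  obtain ⟨i, hi⟩ := TopologicalSpace.Opens.mem_iSup.1 (hU.ge (trivial : f x ∈ (⊤ : Y.Opens)))
  exact (Groth.L07.CIBaseChange.isCI_fiberStalk_baseChange f (isPullback_morphismRestrict f (U i)).flip
    (⟨x, hi⟩ : ↥(f ⁻¹ᵁ U i))).1 ((h i).2.2 _)

/-- A model over a finitely generated subring. -/
theorem exists_model_ring (A B : Type u) [CommRing A] [CommRing B] [Algebra A B]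
    (hf : P (Spec.map (CommRingCat.ofHom (algebraMap A B)))) :
    ∃ (A₁ : Subalgebra ℤ A) (B₁ : Type u) (_ : CommRing B₁) (_ : Algebra A₁ B₁),
      A₁.FG ∧ Algebra.FinitePresentation A₁ B₁ ∧ Nonempty (A ⊗[A₁] B₁ ≃ₐ[A] B) ∧
        P (Spec.map (CommRingCat.ofHom (algebraMap A₁ B₁))) := by
  obtain ⟨hfl, hlfp, hCI⟩ := hf
  haveI : Algebra.FinitePresentation A B := RingHom.finitePresentation_algebraMap.1
    ((HasRingHomProperty.Spec_iff (P := @LocallyOfFinitePresentation)).1 hlfp)
  haveI : Module.Flat A B := RingHom.flat_algebraMap_iff.1 ((HasRingHomProperty.Spec_iff (P := @Flat)).1 hfl)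
  obtain ⟨A₁, B₁, _, _, hA₁, hft, hflat, ⟨e⟩⟩ := DescendFiniteTypeInt.exists_flat_model_fg A B
  haveI := hft
  haveI := hflat
  haveI : Algebra.FiniteType ℤ A₁ := A₁.fg_iff_finiteType.mp hA₁
  haveI : IsNoetherianRing A₁ := Algebra.FiniteType.isNoetherianRing ℤ A₁
  haveI : Algebra.FinitePresentation A₁ B₁ := Algebra.FinitePresentation.of_finiteType.mp inferInstance
  haveI : IsNoetherianRing B₁ := Algebra.FiniteType.isNoetherianRing A₁ B₁
  let f₁ := Spec.map (CommRingCat.ofHom (algebraMap A₁ B₁))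
  haveI : Flat f₁ := (HasRingHomProperty.Spec_iff (P := @Flat)).2 (RingHom.flat_algebraMap_iff.2 hflat)
  haveI : LocallyOfFinitePresentation f₁ := (HasRingHomProperty.Spec_iff (P := @LocallyOfFinitePresentation)).2
    (RingHom.finitePresentation_algebraMap.2 inferInstance)
  haveI : LocallyOfFiniteType f₁ := inferInstance
  let f := Spec.map (CommRingCat.ofHom (algebraMap A B))
  -- the bad locus and its image
  let C : Set (Spec (CommRingCat.of B₁)) := {x | Pi1.IsCompleteIntersection (CInt.fiberStalk f₁ x)}ᶜ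
  have hC : IsClosed C := (Groth.L07.CILocus.isOpen_relCI f₁).isClosed_compl
  have hCc : Topology.IsConstructible C := by
    haveI : TopologicalSpace.NoetherianSpace (Spec (CommRingCat.of B₁)) :=
      inferInstanceAs (TopologicalSpace.NoetherianSpace (PrimeSpectrum B₁))
    exact Groth.L06.Constr.isConstructible_of_isClosed hC
  have hE : Topology.IsConstructible ((f₁ '' C)ᶜ) :=
    (PrimeSpectrum.isConstructible_comap_image (f := algebraMap A₁ B₁)
      (RingHom.finitePresentation_algebraMap.2 inferInstance) hCc).compl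
  obtain ⟨g, g', hg⟩ := DescendFiniteTypeInt.isPullback_of_model f (Iso.refl _) (Iso.refl _)
    (by simp [f]) e
  haveI : LocallyOfFiniteType f := inferInstance
  obtain ⟨A₂, hle, hA₂, hA₂E⟩ := FibreModel.exists_stage A₁ hA₁ ((f₁ '' C)ᶜ) hE fun p => by
    rintro ⟨x₁, hx₁, hxp⟩
    have h0 := isPullback_SpecMap_of_isPushout _ _ _ _ (CommRingCat.isPushout_tensorProduct A₁ A B₁)
    let fA := Spec.map (CommRingCat.ofHom (Algebra.TensorProduct.includeLeftRingHom : A →+* A ⊗[A₁] B₁))
    obtain ⟨z, hz1, -⟩ := Scheme.exists_preimage_of_isPullback h0.flip x₁ p hxp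
    refine hx₁ ?_
    rw [← hz1]
    refine (Groth.L07.CIBaseChange.isCI_fiberStalk_baseChange f₁ h0.flip z).1 ?_
    let eB : Spec (CommRingCat.of B) ≅ Spec (CommRingCat.of (A ⊗[A₁] B₁)) :=
      Scheme.Spec.mapIso e.toRingEquiv.toCommRingCatIso.op
    have hsq : IsPullback eB.inv fA f (𝟙 _) := IsPullback.of_horiz_isIso ⟨by
      rw [Category.comp_id]
      show Spec.map _ ≫ Spec.map _ = Spec.map _
      rw [← Spec.map_comp]
      congr 1
      ext a
      exact e.symm.commutes a⟩
    exact (Groth.L07.CIBaseChange.isCI_fiberStalk_baseChange f hsq z).2 (hCI _)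
  letI : Algebra A₁ A₂ := (Subalgebra.inclusion hle).toRingHom.toAlgebra
  haveI : IsScalarTower A₁ A₂ A := IsScalarTower.of_algebraMap_eq fun _ => rfl
  have h1 := (isPullback_SpecMap_of_isPushout _ _ _ _ (CommRingCat.isPushout_tensorProduct A₁ A₂ B₁)).flip
  refine ⟨A₂, A₂ ⊗[A₁] B₁, inferInstance, inferInstance, hA₂, inferInstance,
    ⟨(Algebra.TensorProduct.cancelBaseChange A₁ A₂ A A B₁).trans e⟩, ?_⟩
  refine ⟨MorphismProperty.of_isPullback h1 ‹Flat f₁›, MorphismProperty.of_isPullback h1
    ‹LocallyOfFinitePresentation f₁›, fun x => ?_⟩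
  refine (Groth.L07.CIBaseChange.isCI_fiberStalk_baseChange f₁ h1 x).2 ?_
  by_contra hn
  refine hA₂E ((Spec.map (CommRingCat.ofHom (algebraMap A₂ (A₂ ⊗[A₁] B₁)))) x) ⟨_, hn, ?_⟩
  exact congrArg (fun q : Spec (CommRingCat.of (A₂ ⊗[A₁] B₁)) ⟶ Spec (CommRingCat.of A₁) => q x) h1.w

theorem descendsAffine : Groth.L19.Limit.DescendsAffine P.{u} Groth.L19.Limit.qcqsfp.{u} := by
  refine Groth.L19.Limit.descendsAffine_of_source fun {I} _ _ {D} {c} _ _ hc {i} {X} _ a _ hP => ?_
  haveI : IsAffine c.pt := Scheme.isAffine_of_isLimit c hc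
  haveI : IsAffine (((Functor.const I).obj c.pt).obj i) := inferInstanceAs (IsAffine c.pt)
  let p : pullback (c.π.app i) a ⟶ c.pt := pullback.fst (c.π.app i) a
  haveI : IsAffine (pullback (c.π.app i) a) := inferInstance
  letI : Algebra Γ(c.pt, ⊤) Γ(pullback (c.π.app i) a, ⊤) := p.appTop.hom.toAlgebra
  have hP' : P (Spec.map (CommRingCat.ofHom (algebraMap Γ(c.pt, ⊤) Γ(pullback (c.π.app i) a, ⊤)))) := by
    show P (Spec.map p.appTop)
    rw [← P.cancel_left_of_respectsIso (pullback (c.π.app i) a).isoSpec.hom, Scheme.isoSpec_hom_naturality p,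
      P.cancel_right_of_respectsIso]
    exact hP
  obtain ⟨A', B', _, _, hA', hB', he, hP₁⟩ := exists_model_ring Γ(c.pt, ⊤) Γ(pullback (c.π.app i) a, ⊤) hP'
  haveI : Algebra.FiniteType ℤ A' := A'.fg_iff_finiteType.mp hA'
  haveI := hB'
  obtain ⟨e⟩ := he
  exact Groth.L19.Limit.exists_stage_of_ringModel (P := P) hc a (A' := A') (B' := B') hP₁ ⟨e.symm⟩

theorem descends : Groth.L19.Limit.Descends P.{u} Groth.L19.Limit.qcqsfp.{u} :=
  Groth.L19.Limit.descends_of_affine descendsAffine

end Groth.L06.SyntomicDescent
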