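import Groth.Agent.L06.SyntomicDescent
import Groth.Agent.L03.SmoothStage
import Groth.Agent.L19.Limit.Criterion
import Groth.Agent.L18.Quiet.Basic

/-!
Syntomic algebras descend along filtered colimits of rings.
-/

set_option autoImplicit false
set_option maxSynthPendingDepth 3
set_option linter.style.haveILetI false
set_option backward.isDefEq.respectTransparency.types false
set_option backward.isDefEq.respectTransparency false
set_option backward.defeqAttrib.useBackward true

universe u

open CategoryTheory CategoryTheory.Limits AlgebraicGeometry MorphismProperty TensorProduct Opposite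
open Groth.L03.SmoothStage (IsColim)

noncomputable section

namespace Groth.L06.SyntomicDescent

theorem P_of_isSyntomic {A B : Type u} [CommRing A] [CommRing B] [Algebra A B] (h : Synt.IsSyntomic A B) :
    P (Spec.map (CommRingCat.ofHom (algebraMap A B))) :=
  Groth.L18.Quiet.isCIMorphism_Spec (CommRingCat.ofHom (algebraMap A B)) (by
    have hi : (algebraMap A B).toAlgebra = ‹Algebra A B› := Algebra.algebra_ext _ _ fun _ => rfl
    exact hi.symm ▸ h)

theorem isSyntomic_of_P {A B : Type u} [CommRing A] [CommRing B] [Algebra A B]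
    (h : P (Spec.map (CommRingCat.ofHom (algebraMap A B)))) : Synt.IsSyntomic A B := by
  let φ : CommRingCat.of A ⟶ CommRingCat.of B := CommRingCat.ofHom (algebraMap A B)
  have h1 := Groth.L07.SyntScheme.isSyntomic_appLE h (isAffineOpen_top (Spec (CommRingCat.of A)))
    (isAffineOpen_top (Spec (CommRingCat.of B))) le_top
  have e : CategoryTheory.Arrow.mk ((Spec.map φ).appLE ⊤ ⊤ le_top) ≅ CategoryTheory.Arrow.mk φ :=
    CategoryTheory.Arrow.isoMk (Scheme.ΓSpecIso _) (Scheme.ΓSpecIso _) (by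
      simp only [CategoryTheory.Arrow.mk_hom, Scheme.Hom.appLE_eq_app]
      exact (Scheme.ΓSpecIso_naturality φ).symm)
  have h2 : @Synt.IsSyntomic A _ B _ φ.hom.toAlgebra := Groth.L07.SyntBase.isSyntomic_of_arrowIso e h1
  have hi : φ.hom.toAlgebra = ‹Algebra A B› := Algebra.algebra_ext _ _ fun _ => rfl
  exact hi ▸ h2

/-- Syntomicity over a ring holds over a subalgebra of finite type. -/
theorem exists_subalgebra (B : Type u) [CommRing B] (C : Type u) [CommRing C] [Algebra B C]
    [Algebra.FinitePresentation B C] (A : Type u) [CommRing A] [Algebra B A]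
    (h : Synt.IsSyntomic A (A ⊗[B] C)) :
    ∃ S : Subalgebra B A, S.FG ∧ Synt.IsSyntomic S (S ⊗[B] C) := by
  classical
  let J := {S : Subalgebra B A // S.FG}
  haveI : IsDirected J (· ≤ ·) :=
    ⟨fun S T => ⟨⟨S.1 ⊔ T.1, S.2.sup T.2⟩, (le_sup_left : S.1 ≤ _), (le_sup_right : T.1 ≤ _)⟩⟩
  haveI : Nonempty J := ⟨⟨⊥, Subalgebra.fg_bot⟩⟩
  let F : J ⥤ CommRingCat.{u} :=
    { obj := fun S => CommRingCat.of S.1
      map := fun {S T} h => CommRingCat.ofHom (Subalgebra.inclusion (leOfHom h : S ≤ T)).toRingHom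
      map_id := fun _ => rfl
      map_comp := fun _ _ => rfl }
  let cc : Cocone F := ⟨CommRingCat.of A,
    { app := fun S => CommRingCat.ofHom S.1.val.toRingHom
      naturality := fun _ _ _ => rfl }⟩
  obtain ⟨hcc⟩ := Groth.L19.Limit.isColimit_of_elements cc
    (fun x => ⟨⟨Algebra.adjoin B {x}, ⟨{x}, by simp⟩⟩, ⟨x, Algebra.subset_adjoin (Set.mem_singleton x)⟩, rfl⟩)
    (fun S x y e => ⟨S, 𝟙 S, congrArg _ (Subtype.ext e)⟩)
  haveI : PreservesLimitsOfSize.{u, u} Scheme.Spec.{u} := ΓSpec.adjunction.rightAdjoint_preservesLimits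
  let D : Jᵒᵖ ⥤ Scheme.{u} := F.op ⋙ Scheme.Spec
  let c : Cone D := Scheme.Spec.mapCone cc.op
  have hc : IsLimit c := isLimitOfPreserves Scheme.Spec hcc.op
  haveI : ∀ j, IsAffine (D.obj j) := fun j => inferInstanceAs (IsAffine (Spec _))
  haveI : ∀ {i j} (m : i ⟶ j), IsAffineHom (D.map m) := fun m => inferInstance
  let S₀ : J := ⟨⊥, Subalgebra.fg_bot⟩
  let w := Spec.map (CommRingCat.ofHom (algebraMap B C))
  haveI : LocallyOfFinitePresentation w := (LocallyOfFinitePresentation.SpecMap_iff _).mpr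
    ((RingHom.finitePresentation_algebraMap (A := B) (B := C)).mpr inferInstance)
  let s : D.obj (op S₀) ⟶ Spec (CommRingCat.of B) := Spec.map (CommRingCat.ofHom (algebraMap B S₀.1))
  let a := pullback.snd w s
  have hQ : Groth.L19.Limit.qcqsfp a := by
    refine ⟨⟨?_, ?_⟩, MorphismProperty.pullback_snd _ _ inferInstance⟩
    · exact MorphismProperty.pullback_snd (P := @QuasiCompact) _ _ inferInstance
    · exact MorphismProperty.pullback_snd (P := @QuasiSeparated) _ _ inferInstance
  have hsq : ∀ (R : Type u) [CommRing R] [Algebra B R],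
      IsPullback (Spec.map (CommRingCat.ofHom (Algebra.TensorProduct.includeRight : C →ₐ[B] R ⊗[B] C).toRingHom))
        (Spec.map (CommRingCat.ofHom (algebraMap R (R ⊗[B] C)))) w (Spec.map (CommRingCat.ofHom (algebraMap B R))) :=
    fun R _ _ => (isPullback_SpecMap_of_isPushout _ _ _ _ (CommRingCat.isPushout_tensorProduct B R C)).flip
  have hcomp : c.π.app (op S₀) ≫ s = Spec.map (CommRingCat.ofHom (algebraMap B A)) := by
    show Spec.map _ ≫ Spec.map _ = _
    rw [← Spec.map_comp]
    rfl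
  have hA : Groth.L19.Limit.Pb P a (c.π.app (op S₀)) := by
    rw [Groth.L19.Limit.pb_snd_iff, hcomp]
    exact (Groth.L19.Limit.pb_iff_of_isPullback (hsq A)).1 (P_of_isSyntomic h)
  obtain ⟨j, φ, hj⟩ := descendsAffine hc a hQ hA
  refine ⟨j.unop.1, j.unop.2, isSyntomic_of_P ?_⟩
  have hcomp' : D.map φ ≫ s = Spec.map (CommRingCat.ofHom (algebraMap B j.unop.1)) := by
    show Spec.map _ ≫ Spec.map _ = _
    rw [← Spec.map_comp]
    rfl
  rw [Groth.L19.Limit.pb_snd_iff, hcomp'] at hj
  exact (Groth.L19.Limit.pb_iff_of_isPullback (hsq j.unop.1)).2 hj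

theorem P_baseChange {A B : Type u} [CommRing A] [CommRing B] [Algebra A B] (A' : Type u) [CommRing A']
    [Algebra A A'] (h : Synt.IsSyntomic A B) : Synt.IsSyntomic A' (A' ⊗[A] B) :=
  isSyntomic_of_P (MorphismProperty.of_isPullback
    (isPullback_SpecMap_of_isPushout _ _ _ _ (CommRingCat.isPushout_tensorProduct A A' B)).flip (P_of_isSyntomic h))

/-- A finitely presented algebra mapping to a colimit lifts to a stage. -/
theorem exists_lift_algHom {B : Type u} [CommRing B] {ι : Type u} {G : ι → Type u} [∀ i, CommRing (G i)]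
    [∀ i, Algebra B (G i)] {A : Type u} [CommRing A] [Algebra B A] {g : ∀ i, G i →ₐ[B] A}
    (hc : IsColim G g) {R : Type u} [CommRing R] [Algebra R B] [Algebra R A] [IsScalarTower R B A]
    [∀ i, Algebra R (G i)] [∀ i, IsScalarTower R B (G i)]
    {Q : Type u} [CommRing Q] [Algebra R Q] [Algebra.FinitePresentation R Q] (θ : Q →ₐ[R] A) :
    ∃ (k : ι) (χ : Q →ₐ[R] G k), ∀ q, g k (χ q) = θ q := by
  classical
  obtain ⟨m, π, hπ, hker⟩ := Algebra.FinitePresentation.out (R := R) (A := Q)
  obtain ⟨i, hi⟩ := Groth.L03.SmoothStage.exists_lift hc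
    (Finset.univ.image fun k : Fin m => (MvPolynomial.C (θ (π (MvPolynomial.X k))) : MvPolynomial (Fin 0) A))
  choose p hp using fun k : Fin m => hi _ (Finset.mem_image.2 ⟨k, Finset.mem_univ _, rfl⟩)
  let v : Fin m → G i := fun k => MvPolynomial.constantCoeff (p k)
  have hv : ∀ k, g i (v k) = θ (π (MvPolynomial.X k)) := fun k => by
    have := congrArg MvPolynomial.constantCoeff (hp k)
    rw [MvPolynomial.constantCoeff_map, MvPolynomial.constantCoeff_C] at this
    exact this
  have hev : ∀ q, g i (MvPolynomial.aeval v q) = θ (π q) := fun q => by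
    have : ((g i).restrictScalars R).comp (MvPolynomial.aeval v) = θ.comp π :=
      MvPolynomial.algHom_ext fun k => by simp [hv]
    exact DFunLike.congr_fun this q
  obtain ⟨s, hs⟩ := hker
  obtain ⟨k, φ, hφ, hkill⟩ := Groth.L03.SmoothStage.exists_kill hc i (s.image (MvPolynomial.aeval v)) fun x hx => by
    obtain ⟨q, hq, rfl⟩ := Finset.mem_image.1 hx
    rw [hev, show π q = 0 from (hs ▸ Ideal.subset_span hq : q ∈ RingHom.ker π.toRingHom), map_zero]
  let w : MvPolynomial (Fin m) R →ₐ[R] G k := (φ.restrictScalars R).comp (MvPolynomial.aeval v)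
  have hle : RingHom.ker π.toRingHom ≤ RingHom.ker w.toRingHom := by
    rw [← hs, Ideal.span_le]
    intro q hq
    exact hkill _ (Finset.mem_image.2 ⟨q, hq, rfl⟩)
  refine ⟨k, AlgHom.liftOfSurjective π hπ w hle, fun q => ?_⟩
  obtain ⟨q, rfl⟩ := hπ q
  rw [AlgHom.liftOfSurjective_apply]
  exact (DFunLike.congr_fun hφ _).trans (hev q)

/-- Syntomicity descends to some stage. -/
theorem exists_syntomic_stage {B : Type u} [CommRing B] {ι : Type u} {G : ι → Type u} [∀ i, CommRing (G i)]
    [∀ i, Algebra B (G i)] {A : Type u} [CommRing A] [Algebra B A] {g : ∀ i, G i →ₐ[B] A}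
    (hc : IsColim G g) (C : Type u) [CommRing C] [Algebra B C] [Algebra.FinitePresentation B C]
    (h : Synt.IsSyntomic A (A ⊗[B] C)) : ∃ i, Synt.IsSyntomic (G i) (G i ⊗[B] C) := by
  classical
  let P₀ := Algebra.Presentation.ofFinitePresentation B C
  let R := Algebra.adjoin ℤ P₀.coeffs
  haveI : P₀.HasCoeffs R := ⟨fun x hx => ⟨⟨x, Algebra.subset_adjoin hx⟩, rfl⟩⟩
  haveI : Algebra.FiniteType ℤ R := R.fg_iff_finiteType.mp ⟨P₀.finite_coeffs.toFinset, by simp [R]⟩
  haveI : IsNoetherianRing R := Algebra.FiniteType.isNoetherianRing ℤ R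
  let C₁ := P₀.ModelOfHasCoeffs R
  let e : B ⊗[R] C₁ ≃ₐ[B] C := P₀.tensorModelOfHasCoeffsEquiv R
  -- transport to the Noetherian base
  let eR : ∀ (T : Type u) [CommRing T] [Algebra B T],
      T ⊗[B] C ≃ₐ[T] T ⊗[R] C₁ := fun T _ _ =>
    ((Algebra.TensorProduct.congr (AlgEquiv.refl (R := T) (A₁ := T)) e.symm).trans
      (Algebra.TensorProduct.cancelBaseChange R B T T C₁))
  obtain ⟨S, hS, hsyn⟩ := exists_subalgebra R C₁ A (Groth.L07.SyntAlg.isSyntomic_of_algEquiv (eR A) h)
  haveI : Algebra.FiniteType R S := S.fg_iff_finiteType.mp hS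
  haveI : Algebra.FinitePresentation R S := Algebra.FinitePresentation.of_finiteType.mp inferInstance
  obtain ⟨k, χ, -⟩ := exists_lift_algHom hc (R := R) (S.val)
  letI : Algebra S (G k) := χ.toRingHom.toAlgebra
  haveI : IsScalarTower R S (G k) := IsScalarTower.of_algebraMap_eq fun r => (χ.commutes r).symm
  refine ⟨k, Groth.L07.SyntAlg.isSyntomic_of_algEquiv
    ((Algebra.TensorProduct.cancelBaseChange R S (G k) (G k) C₁).trans (eR (G k)).symm)
    (P_baseChange (G k) hsyn)⟩

end Groth.L06.SyntomicDescent
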