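import Groth.Agent.L06.ReducedSpecial
import Groth.Agent.L08.Cube.Inverse
import Groth.Agent.L18.Frame
import Groth.Agent.S1216

/-!
# Invertible modules trivial on the generic fibre over a valuation ring
-/

set_option autoImplicit false
set_option maxSynthPendingDepth 3
set_option linter.style.haveILetI false
set_option backward.isDefEq.respectTransparency.types false

universe u

open CategoryTheory CategoryTheory.Limits AlgebraicGeometry TopologicalSpace Topology IsLocalRing TensorProduct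
open Groth.L18.Frame (rs ro rs_rs rs_self rs_smul ro_ro ro_self IsFrame pull pull_rs pull_smul)

noncomputable section

namespace Groth.L06.TrivGenericVal

/-- Primitive decompositions in a flat local algebra with integral closed fibre. -/
theorem exists_primitive {A B : Type u} [CommRing A] [IsDomain A] [ValuationRing A] [CommRing B] [IsLocalRing B]
    [Algebra A B] [IsLocalHom (algebraMap A B)] [Algebra.EssFiniteType A B] [Module.Flat A B]
    (b : B) (hb : b ≠ 0) :
    ∃ (w : A) (b' : B), w ≠ 0 ∧ b = w • b' ∧ b' ∉ (maximalIdeal A).map (algebraMap A B) := by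
  obtain ⟨I, ⟨w, rfl⟩, hbI, hmin⟩ := Groth.Agent.S1216.result (A := A) (B := B) B b
  simp only [Ideal.submodule_span_eq, Submodule.ideal_span_singleton_smul] at hbI
  obtain ⟨b', -, hb''⟩ := hbI
  have hb' : w • b' = b := hb''
  refine ⟨w, b', fun h => hb ?_, hb'.symm, fun hmem => ?_⟩
  · rw [← hb', h, zero_smul]
  obtain ⟨π, hπ, c, rfl⟩ : ∃ π ∈ maximalIdeal A, ∃ c : B, b' = π • c := by
    clear hb' hb''
    induction hmem using Submodule.span_induction with
    | mem r hr =>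
      obtain ⟨v, hv, rfl⟩ := hr
      exact ⟨v, hv, 1, Algebra.algebraMap_eq_smul_one v⟩
    | zero => exact ⟨0, zero_mem _, 0, by rw [smul_zero]⟩
    | add a b _ _ ha hb =>
      obtain ⟨v, hv, m, rfl⟩ := ha
      obtain ⟨v', hv', m', rfl⟩ := hb
      rcases ValuationRing.dvd_total v v' with ⟨d, hd⟩ | ⟨d, hd⟩
      · exact ⟨v, hv, m + d • m', by rw [hd, mul_smul, smul_add]⟩
      · exact ⟨v', hv', d • m + m', by rw [hd, mul_smul, smul_add]⟩
    | smul d a _ ha =>
      obtain ⟨v, hv, m, rfl⟩ := ha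
      exact ⟨v, hv, d • m, by rw [smul_comm]⟩
  have h1 := hmin (Ideal.span {w * π}) (by
    rw [← hb', ← mul_smul]
    exact Submodule.smul_mem_smul (Ideal.mem_span_singleton_self _) trivial)
  obtain ⟨d, hd⟩ := Ideal.mem_span_singleton.mp (h1 (Ideal.mem_span_singleton_self w))
  have hw0 : w ≠ 0 := fun h => hb (by rw [← hb', h, zero_smul])
  rw [mul_assoc] at hd
  exact hπ (IsUnit.of_mul_eq_one d (mul_left_cancel₀ hw0 (by rw [mul_one, ← hd])))

/-- Primitive decompositions are unique up to units. -/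
theorem associated_of_primitive {A B : Type u} [CommRing A] [IsDomain A] [ValuationRing A] [CommRing B]
    [Algebra A B] [Module.Flat A B]
    (w w' : A) (hw : w ≠ 0) (b b' : B) (hb : b ∉ (maximalIdeal A).map (algebraMap A B))
    (hb' : b' ∉ (maximalIdeal A).map (algebraMap A B)) (h : w • b = w' • b') :
    ∃ ε : Aˣ, w' = w * ε ∧ b = (ε : A) • b' := by
  have key : ∀ (w w' : A), w ≠ 0 → ∀ b b' : B, b ∉ (maximalIdeal A).map (algebraMap A B) →
      w • b = w' • b' → ∀ d, w' = w * d → IsUnit d ∧ b = d • b' := by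
    intro w w' hw b b' hb h d hd
    have h1 : b = d • b' := (Module.Flat.isSMulRegular_of_isRegular (M := B) (IsRegular.of_ne_zero hw)) (by
      show w • b = w • d • b'
      rw [h, hd, mul_smul])
    refine ⟨?_, h1⟩
    by_contra hd'
    rw [h1, Algebra.smul_def] at hb
    exact hb (Ideal.mul_mem_right _ _ (Ideal.mem_map_of_mem _ hd'))
  rcases ValuationRing.dvd_total w w' with ⟨d, hd⟩ | ⟨d, hd⟩
  · obtain ⟨hu, h1⟩ := key w w' hw b b' hb h d hd
    exact ⟨hu.unit, hd, h1⟩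
  · have hw' : w' ≠ 0 := fun h0 => hw (by rw [hd, h0, zero_mul])
    obtain ⟨hu, h1⟩ := key w' w hw' b' b hb' h.symm d hd
    refine ⟨hu.unit⁻¹, ?_, ?_⟩
    · rw [hd, mul_assoc, IsUnit.mul_val_inv, mul_one]
    · rw [h1, smul_smul, IsUnit.val_inv_mul, one_smul]

variable {A : Type u} [CommRing A] {X : Scheme.{u}} (f : X ⟶ Spec (CommRingCat.of A))

/-- The structure map to the functions on an open. -/
abbrev ρ (W : X.Opens) : CommRingCat.of A ⟶ Γ(X, W) :=
  (Scheme.ΓSpecIso (CommRingCat.of A)).inv ≫ f.appLE ⊤ W le_top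

theorem ρ_ro {W W' : X.Opens} (h : W' ≤ W) (a : A) : ro h ((ρ f W).hom a) = (ρ f W').hom a := by
  show (ρ f W ≫ X.presheaf.map (homOfLE h).op) a = (ρ f W').hom a
  simp only [ρ, Category.assoc, Scheme.Hom.appLE_map]

theorem SpecMap_ρ {W : X.Opens} (hW : IsAffineOpen W) : Spec.map (ρ f W) = hW.fromSpec ≫ f := by
  rw [← IsAffineOpen.SpecMap_appLE_fromSpec f (isAffineOpen_top (Spec (CommRingCat.of A))) hW le_top,
    IsAffineOpen.fromSpec_top, Scheme.isoSpec_Spec_inv, ← Spec.map_comp]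

theorem comap_ρ {W : X.Opens} (hW : IsAffineOpen W) {z : X} (hz : z ∈ W) :
    (hW.primeIdealOf ⟨z, hz⟩).asIdeal.comap (ρ f W).hom = (f z).asIdeal := by
  have h : (Spec.map (ρ f W)) (hW.primeIdealOf ⟨z, hz⟩) = f z := by
    rw [SpecMap_ρ f hW, Scheme.Hom.comp_apply, IsAffineOpen.fromSpec_primeIdealOf]
  exact congrArg PrimeSpectrum.asIdeal h

theorem flat_ρ [Flat f] {W : X.Opens} (hW : IsAffineOpen W) :
    letI := (ρ f W).hom.toAlgebra
    Module.Flat A Γ(X, W) :=
  RingHom.Flat.respectsIso.2 _ (Scheme.ΓSpecIso (CommRingCat.of A)).symm.commRingCatIsoToRingEquiv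
    (Flat.flat_appLE f (isAffineOpen_top _) hW le_top)

variable [IsDomain A] [Flat f]

/-- Functions are torsion free over the base. -/
theorem eq_zero_of_ρ_mul {W : X.Opens} {a : A} (ha : a ≠ 0) {c : Γ(X, W)} (h : (ρ f W).hom a * c = 0) :
    c = 0 := by
  refine TopCat.Presheaf.section_ext X.sheaf W c 0 fun x hx => ?_
  obtain ⟨V, hV, hxV, hVW⟩ := exists_isAffineOpen_mem_and_subset (x := x) (U := W) hx
  letI := (ρ f V).hom.toAlgebra
  haveI := flat_ρ f hV
  have h1 : ro hVW c = 0 := by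
    refine (Module.Flat.isSMulRegular_of_isRegular (M := Γ(X, V)) (IsRegular.of_ne_zero ha)) ?_
    show a • ro hVW c = a • (0 : Γ(X, V))
    rw [smul_zero, Algebra.smul_def]
    show (ρ f V).hom a * ro hVW c = 0
    rw [← ρ_ro f hVW a, ← Groth.L18.Frame.ro_mul, h]
    exact map_zero _
  show X.presheaf.germ W x hx c = X.presheaf.germ W x hx 0
  rw [← TopCat.Presheaf.germ_res_apply X.presheaf (homOfLE hVW) x hxV c]
  show X.presheaf.germ V x hxV (ro hVW c) = _
  rw [h1, map_zero, map_zero]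

/-- Functions vanishing at every point over the generic point vanish. -/
theorem eq_zero_of_germ {W : X.Opens} (c : Γ(X, W))
    (h : ∀ u (hu : u ∈ W), f u = (⊥ : PrimeSpectrum A) → X.presheaf.germ W u hu c = 0) : c = 0 := by
  refine TopCat.Presheaf.section_ext X.sheaf W c 0 fun x hx => ?_
  obtain ⟨V, hV, hxV, hVW⟩ := exists_isAffineOpen_mem_and_subset (x := x) (U := W) hx
  letI := (ρ f V).hom.toAlgebra
  haveI := flat_ρ f hV
  have h1 : ro hVW c = 0 := by
    by_contra hne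
    let J : Ideal Γ(X, V) := (Submodule.span Γ(X, V) {ro hVW c}).annihilator
    have hd : Disjoint (J : Set Γ(X, V)) ((nonZeroDivisors A).map (algebraMap A Γ(X, V)) : Submonoid Γ(X, V)) := by
      rw [Set.disjoint_left]
      rintro _ hJ ⟨a, ha, rfl⟩
      refine hne ((Module.Flat.isSMulRegular_of_isRegular (M := Γ(X, V))
        (IsRegular.of_ne_zero (nonZeroDivisors.ne_zero ha))).right_eq_zero_of_smul ?_)
      rw [← algebraMap_smul Γ(X, V) a]
      exact (Submodule.mem_annihilator_span_singleton _ _).mp hJ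
    obtain ⟨P, hP, hJP, hPd⟩ := Ideal.exists_le_prime_disjoint J _ hd
    let q : PrimeSpectrum Γ(X, V) := ⟨P, hP⟩
    let u := hV.fromSpec q
    have huV : u ∈ V := hV.range_fromSpec.le ⟨q, rfl⟩
    have hfu : f u = (⊥ : PrimeSpectrum A) := by
      have h2 : f u = Spec.map (ρ f V) q := by rw [SpecMap_ρ f hV, Scheme.Hom.comp_apply]
      rw [h2]
      refine PrimeSpectrum.ext (eq_bot_iff.mpr fun a ha => ?_)
      by_contra ha0
      exact Set.disjoint_left.mp hPd ha ⟨a, mem_nonZeroDivisors_of_ne_zero ha0, rfl⟩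
    have hq : hV.primeIdealOf ⟨u, huV⟩ = q := hV.fromSpec.isOpenEmbedding.injective (by
      rw [IsAffineOpen.fromSpec_primeIdealOf])
    letI := X.presheaf.algebra_section_stalk (⟨u, huV⟩ : V)
    haveI := hV.isLocalization_stalk ⟨u, huV⟩
    have h3 : algebraMap Γ(X, V) (X.presheaf.stalk u) (ro hVW c) = 0 :=
      (TopCat.Presheaf.germ_res_apply X.presheaf (homOfLE hVW) u huV c).trans (h u (hVW huV) hfu)
    obtain ⟨⟨t, ht⟩, htc⟩ := (IsLocalization.map_eq_zero_iff (hV.primeIdealOf ⟨u, huV⟩).asIdeal.primeCompl _ _).mp h3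
    refine ht ?_
    rw [hq]
    exact hJP ((Submodule.mem_annihilator_span_singleton _ _).mpr htc)
  show X.presheaf.germ W x hx c = X.presheaf.germ W x hx 0
  rw [← TopCat.Presheaf.germ_res_apply X.presheaf (homOfLE hVW) x hxV c]
  show X.presheaf.germ V x hxV (ro hVW c) = _
  rw [h1, map_zero, map_zero]

/-- Restriction to the generic fibre is injective on functions. -/
theorem app_injective (η : ↥(Spec (CommRingCat.of A))) (hη : η = (⊥ : PrimeSpectrum A)) {W : X.Opens}
    (c : Γ(X, W)) (h : (f.fiberι η).app W c = 0) : c = 0 := by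
  refine eq_zero_of_germ f c fun u hu hfu => ?_
  obtain ⟨z, rfl⟩ : u ∈ Set.range (f.fiberι η) := by rw [Scheme.Hom.range_fiberι, hη]; exact hfu
  have h1 := Groth.L18.stalkMap_fiberι f η z
  have hk : RingHom.ker ((f.fiberι η).stalkMap z).hom = ⊥ := by
    have hm : (f (f.fiberι η z)).asIdeal = ⊥ := by rw [hfu]; rfl
    rw [h1.2, RelAssSpecial.maximalIdeal_stalk_spec, hm, Ideal.map_bot, Ideal.map_bot]
  refine (RingHom.injective_iff_ker_eq_bot _).mpr hk ?_
  rw [map_zero]
  show (f.fiberι η).stalkMap z (X.presheaf.germ W _ hu c) = 0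
  rw [Scheme.Hom.germ_stalkMap_apply, h, map_zero]

/-- Functions on the generic fibre of an affine open are fractions. -/
theorem exists_lift (η : ↥(Spec (CommRingCat.of A))) (hη : η = (⊥ : PrimeSpectrum A)) {U : X.Opens}
    (hU : IsAffineOpen U) (c : Γ(f.fiber η, f.fiberι η ⁻¹ᵁ U)) :
    ∃ (a : Γ(X, U)) (v : A), v ≠ 0 ∧ (f.fiberι η).app U a = (f.fiberι η).app U ((ρ f U).hom v) * c := by
  let S := Spec (CommRingCat.of A)
  let j := S.fromSpecResidueField η
  let T := Spec (S.residueField η)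
  let s := f.fiberToSpecResidueField η
  let ι := f.fiberι η
  have hT : IsAffineOpen (⊤ : T.Opens) := isAffineOpen_top _
  haveI : IsAffine (⊤ : S.Opens).toScheme := isAffineOpen_top S
  haveI : IsAffine (⊤ : T.Opens).toScheme := hT
  haveI : IsAffine U.toScheme := hU
  have hc : IsPullback ι s f j := IsPullback.of_hasPullback f j
  have eU : U ≤ f ⁻¹ᵁ ⊤ := le_top
  have eT : (⊤ : T.Opens) ≤ j ⁻¹ᵁ ⊤ := le_top
  have hpb := Scheme.Hom.isPullback_resLE hc (UT := ⊤) eT eU (UY := ι ⁻¹ᵁ U ⊓ s ⁻¹ᵁ ⊤) rfl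
  have hpo : IsPushout (f.appLE ⊤ U eU) (j.appLE ⊤ ⊤ eT)
      (ι.appLE U (ι ⁻¹ᵁ U ⊓ s ⁻¹ᵁ ⊤) inf_le_left) (s.appLE ⊤ (ι ⁻¹ᵁ U ⊓ s ⁻¹ᵁ ⊤) inf_le_right) := by
    refine (isPushout_appTop_of_isPullback hpb).of_iso (Scheme.Opens.topIso _) U.topIso (Scheme.Opens.topIso _)
      (ι ⁻¹ᵁ U ⊓ s ⁻¹ᵁ ⊤).topIso ?_ ?_ ?_ ?_ <;>
    simp only [Scheme.Hom.appTop, Scheme.Hom.resLE_app_top, Category.assoc, Iso.inv_hom_id, Category.comp_id]
  have heq : ι ⁻¹ᵁ U ⊓ s ⁻¹ᵁ ⊤ = ι ⁻¹ᵁ U := inf_eq_left.mpr le_top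
  -- fractions in the residue field
  have hfrac : ∀ k : Γ(T, ⊤), ∃ v : A, v ≠ 0 ∧ ∃ a : A,
      j.appLE ⊤ ⊤ eT ((Scheme.ΓSpecIso (CommRingCat.of A)).inv v) * k =
        j.appLE ⊤ ⊤ eT ((Scheme.ΓSpecIso (CommRingCat.of A)).inv a) := by
    intro k
    obtain ⟨k', rfl⟩ := (ConcreteCategory.bijective_of_isIso (Scheme.ΓSpecIso (S.residueField η)).inv).2 k
    obtain ⟨k'', rfl⟩ := IsLocalRing.residue_surjective k'
    letI := ((Scheme.ΓSpecIso (CommRingCat.of A)).inv ≫ S.presheaf.germ ⊤ η trivial).hom.toAlgebra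
    obtain ⟨k₃, rfl⟩ := (ConcreteCategory.bijective_of_isIso (Spec.stalkIso (CommRingCat.of A) η).inv).2 k''
    obtain ⟨⟨a, v⟩, hav⟩ := IsLocalization.surj η.asIdeal.primeCompl k₃
    have hj : ∀ r : A, j.appLE ⊤ ⊤ eT ((Scheme.ΓSpecIso (CommRingCat.of A)).inv r) =
        (Scheme.ΓSpecIso (S.residueField η)).inv ((S.residue η) ((Spec.stalkIso (CommRingCat.of A) η).inv
          (algebraMap A (Localization.AtPrime η.asIdeal) r))) := by
      intro r
      have h1 : CommRingCat.ofHom (algebraMap A (Localization.AtPrime η.asIdeal)) ≫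
          (Spec.stalkIso (CommRingCat.of A) η).inv =
          (Scheme.ΓSpecIso (CommRingCat.of A)).inv ≫ S.presheaf.germ ⊤ η trivial :=
        Spec.algebraMap_stalkIso_inv _
      have h2 : j.appLE ⊤ ⊤ eT = S.presheaf.germ ⊤ η trivial ≫ S.residue η ≫
          (Scheme.ΓSpecIso (S.residueField η)).inv := by
        rw [show j.appLE ⊤ ⊤ eT = j.appTop from (Scheme.Hom.app_eq_appLE _).symm]
        show (Spec.map (S.residue η) ≫ S.fromSpecStalk η).appTop = _
        rw [Scheme.Hom.comp_appTop, Scheme.fromSpecStalk_appTop]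
        simp
      rw [h2]
      exact congrArg (fun t => (Scheme.ΓSpecIso (S.residueField η)).inv ((S.residue η) t))
        (congrArg (fun (φ : CommRingCat.of A ⟶ S.presheaf.stalk η) => φ r) h1).symm
    refine ⟨v.1, fun h0 => v.2 (h0 ▸ zero_mem _), a, ?_⟩
    rw [hj, hj, ← hav]
    show _ * (Scheme.ΓSpecIso (S.residueField η)).inv.hom ((S.residue η).hom _) = _
    rw [← map_mul, ← map_mul, ← map_mul, mul_comm]
  -- the pushout is spanned by fractions
  have hgen : ∀ d : Γ(f.fiber η, ι ⁻¹ᵁ U ⊓ s ⁻¹ᵁ ⊤), ∃ (a : Γ(X, U)) (v : A), v ≠ 0 ∧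
      ι.appLE U _ inf_le_left a = ι.appLE U _ inf_le_left ((ρ f U).hom v) * d := by
    algebraize [(f.appLE ⊤ U eU).hom, (j.appLE ⊤ ⊤ eT).hom, (ι.appLE U (ι ⁻¹ᵁ U ⊓ s ⁻¹ᵁ ⊤) inf_le_left).hom,
      (s.appLE ⊤ (ι ⁻¹ᵁ U ⊓ s ⁻¹ᵁ ⊤) inf_le_right).hom,
      ((ι.appLE U (ι ⁻¹ᵁ U ⊓ s ⁻¹ᵁ ⊤) inf_le_left).hom.comp (f.appLE ⊤ U eU).hom)]
    haveI : IsScalarTower Γ(S, ⊤) Γ(T, ⊤) Γ(f.fiber η, ι ⁻¹ᵁ U ⊓ s ⁻¹ᵁ ⊤) :=
      IsScalarTower.of_algebraMap_eq' (congrArg CommRingCat.Hom.hom hpo.w)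
    haveI hP : Algebra.IsPushout Γ(S, ⊤) Γ(X, U) Γ(T, ⊤) Γ(f.fiber η, ι ⁻¹ᵁ U ⊓ s ⁻¹ᵁ ⊤) :=
      CommRingCat.isPushout_iff_isPushout.mp hpo
    intro d
    obtain ⟨d, rfl⟩ := (Algebra.IsPushout.equiv Γ(S, ⊤) Γ(X, U) Γ(T, ⊤) _).surjective d
    induction d using TensorProduct.induction_on with
    | zero => exact ⟨0, 1, one_ne_zero, by rw [map_zero, map_zero, mul_zero]⟩
    | tmul b k =>
      obtain ⟨v, hv, a, hav⟩ := hfrac k
      refine ⟨b * (ρ f U).hom a, v, hv, ?_⟩
      rw [Algebra.IsPushout.equiv_tmul]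
      show algebraMap Γ(X, U) _ (b * algebraMap Γ(S, ⊤) Γ(X, U) ((Scheme.ΓSpecIso (CommRingCat.of A)).inv a)) =
        algebraMap Γ(X, U) _ (algebraMap Γ(S, ⊤) Γ(X, U) ((Scheme.ΓSpecIso (CommRingCat.of A)).inv v)) *
          (algebraMap Γ(X, U) _ b * algebraMap Γ(T, ⊤) _ k)
      rw [map_mul, ← IsScalarTower.algebraMap_apply, ← IsScalarTower.algebraMap_apply,
        IsScalarTower.algebraMap_apply Γ(S, ⊤) Γ(T, ⊤) Γ(f.fiber η, ι ⁻¹ᵁ U ⊓ s ⁻¹ᵁ ⊤),
        IsScalarTower.algebraMap_apply Γ(S, ⊤) Γ(T, ⊤) Γ(f.fiber η, ι ⁻¹ᵁ U ⊓ s ⁻¹ᵁ ⊤),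
        ← show algebraMap Γ(S, ⊤) Γ(T, ⊤) _ * k = algebraMap Γ(S, ⊤) Γ(T, ⊤) _ from hav, map_mul]
      ring
    | add x y hx hy =>
      obtain ⟨a, v, hv, hav⟩ := hx
      obtain ⟨a', v', hv', hav'⟩ := hy
      refine ⟨a * (ρ f U).hom v' + a' * (ρ f U).hom v, v * v', mul_ne_zero hv hv', ?_⟩
      simp only [map_add, map_mul, hav, hav']
      ring
  obtain ⟨a, v, hv, hav⟩ := hgen ((f.fiber η).presheaf.map (eqToHom heq).op c)
  refine ⟨a, v, hv, ?_⟩
  apply (ConcreteCategory.bijective_of_isIso ((f.fiber η).presheaf.map (eqToHom heq).op)).1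
  rw [map_mul]
  simp only [Scheme.Hom.appLE, CommRingCat.comp_apply] at hav
  exact hav

/-- The closed fibre part: trivialising sections at a point of an integral closed fibre. -/
theorem main [ValuationRing A] [IsProper f] [LocallyOfFinitePresentation f] (L : X.Modules) (hL : PicF.IsInvertible L)
    (htriv : Nonempty ((Scheme.Modules.pullback (f.fiberι (genericPoint ↑(Spec (CommRingCat.of A))))).obj L ≅
      Coh.structureModule (f.fiber (genericPoint ↑(Spec (CommRingCat.of A))))))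
    (hint : IsIntegral (f.fiber (IsLocalRing.closedPoint A))) :
    Nonempty (L ≅ Coh.structureModule X) := by
  classical
  obtain ⟨θ⟩ := htriv
  set η := genericPoint ↑(Spec (CommRingCat.of A)) with hη'
  have hη : η = (⊥ : PrimeSpectrum A) := by
    refine IsGenericPoint.eq (genericPoint_spec _) ?_
    show closure {(⟨⊥, Ideal.isPrime_bot⟩ : PrimeSpectrum A)} = Set.univ
    rw [PrimeSpectrum.closure_singleton]
    exact PrimeSpectrum.zeroLocus_bot
  let ι := f.fiberι η
  let L' := (Scheme.Modules.pullback ι).obj L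
  let σ : Γ(L', ⊤) := θ.inv.app ⊤ (1 : Γ(f.fiber η, ⊤))
  have hσ : IsFrame L' ⊤ σ := by
    intro V h
    have key : (fun a : Γ(f.fiber η, V) => a • rs L' h σ) = fun a : Γ(f.fiber η, V) => θ.inv.app V a := by
      funext a
      have h1 : rs L' h σ = θ.inv.app V (1 : Γ(f.fiber η, V)) := by
        have := congr($(θ.inv.mapPresheaf.naturality (homOfLE h).op) (1 : Γ(f.fiber η, ⊤)))
        refine Eq.trans ?_ (this.symm.trans (congrArg (θ.inv.app V) (map_one ((f.fiber η).presheaf.map (homOfLE h).op).hom)))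
        rfl
      rw [h1]
      refine Eq.trans ?_ ((congrArg (θ.inv.app V) (show a • (1 : Γ(f.fiber η, V)) = a from mul_one _)).symm.trans
        (θ.inv.app_smul (U := V) a (1 : Γ(f.fiber η, V)))).symm
      rfl
    rw [key]
    exact ConcreteCategory.bijective_of_isIso (θ.inv.app V)
  -- affine frames
  have hfr : ∀ x : X, ∃ (U : X.Opens) (e : Γ(L, U)), IsAffineOpen U ∧ x ∈ U ∧ IsFrame L U e := fun x => by
    obtain ⟨W, e, hxW, he⟩ := Groth.L18.Frame.exists_frame hL x
    obtain ⟨U, hU, hxU, hUW⟩ := exists_isAffineOpen_mem_and_subset (x := x) (U := W) hxW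
    exact ⟨U, rs L hUW e, hU, hxU, he.mono hUW⟩
  choose U e hU hxU he using hfr
  haveI : CompactSpace X := QuasiCompact.compactSpace_of_compactSpace f
  obtain ⟨t, ht⟩ := isCompact_univ.elim_finite_subcover (fun x => (U x : Set X)) (fun x => (U x).2)
    fun x _ => Set.mem_iUnion.mpr ⟨x, hxU x⟩
  -- coefficients
  have hcoef : ∀ x : X, ∃ (a : Γ(X, U x)) (v : A), v ≠ 0 ∧ ∃ c : Γ(f.fiber η, ι ⁻¹ᵁ U x), IsUnit c ∧
      c • pull ι L (U x) (e x) = rs L' le_top σ ∧ ι.app (U x) a = ι.app (U x) ((ρ f (U x)).hom v) * c := fun x => by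
    have hp := (he x).pullback ι L
    obtain ⟨c, hc⟩ := hp.exists_coeff le_rfl (rs L' le_top σ)
    rw [rs_self] at hc
    obtain ⟨a, v, hv, hav⟩ := exists_lift f η hη (hU x) c
    exact ⟨a, v, hv, c, Groth.L18.Frame.isUnit_of_isFrame hp (hc ▸ hσ.mono le_top), hc, hav⟩
  choose a v hv c hcu hc hac using hcoef
  let V : A := ∏ i : t, v i
  have hV : V ≠ 0 := Finset.prod_ne_zero_iff.mpr fun i _ => hv i
  let a' : ∀ i : t, Γ(X, U i) := fun i => (ρ f (U i)).hom (∏ j ∈ Finset.univ.erase i, v j) * a i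
  have ha' : ∀ i : t, ι.app (U i) (a' i) = ι.app (U i) ((ρ f (U i)).hom V) * c i := fun i => by
    simp only [a', map_mul, hac, ← mul_assoc]
    rw [← map_mul, ← map_mul, show V = (∏ j ∈ Finset.univ.erase i, v j) * v i from
      (Finset.prod_erase_mul _ _ (Finset.mem_univ i)).symm]
  have hunit : ∀ (i : t) (u : X) (hu : u ∈ U i), f u = (⊥ : PrimeSpectrum A) →
      IsUnit (X.presheaf.germ (U i) u hu (a' i)) := by
    intro i u hu hfu
    obtain ⟨z, rfl⟩ : u ∈ Set.range ι := by rw [Scheme.Hom.range_fiberι, hη]; exact hfu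
    refine isUnit_of_map_unit (ι.stalkMap z).hom _ ?_
    show IsUnit (ι.stalkMap z (X.presheaf.germ (U i) (ι z) hu (a' i)))
    rw [Scheme.Hom.germ_stalkMap_apply, ha', map_mul]
    refine IsUnit.mul ?_ ((hcu i).map _)
    rw [← Scheme.Hom.germ_stalkMap_apply]
    refine IsUnit.map _ ?_
    letI := X.presheaf.algebra_section_stalk (⟨ι z, hu⟩ : U i)
    haveI := (hU i).isLocalization_stalk ⟨ι z, hu⟩
    refine (IsLocalization.AtPrime.isUnit_to_map_iff _ ((hU i).primeIdealOf ⟨ι z, hu⟩).asIdeal _).mpr fun hmem => ?_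
    have hmem' : V ∈ ((hU i).primeIdealOf ⟨ι z, hu⟩).asIdeal.comap (ρ f (U i)).hom := hmem
    rw [comap_ρ f (hU i) hu, hfu] at hmem'
    exact hV hmem'
  -- the global section
  let sec : ∀ i : t, Γ(L, U i) := fun i => a' i • e i
  have hsec : ∀ i k : t, rs L (inf_le_left : U i ⊓ U k ≤ U i) (sec i) = rs L inf_le_right (sec k) := by
    intro i k
    obtain ⟨b, hb⟩ := (he i).exists_coeff (inf_le_left : U i ⊓ U k ≤ U i) (rs L inf_le_right (sec k))
    rw [← hb]
    simp only [sec, rs_smul]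
    congr 1
    refine sub_eq_zero.mp (app_injective f η hη _ ?_)
    rw [map_sub, sub_eq_zero]
    refine ((he i).pullback ι L).inj (ι.preimage_mono inf_le_left) ?_
    rw [pull_rs, ← pull_smul, ← pull_smul, hb, ← rs_smul]
    simp only [sec]
    rw [← pull_rs, ← pull_rs, pull_smul, pull_smul]
    have key : ∀ i : t, ι.app (U i) (a' i) • pull ι L (U i) (e i) =
        ι.app (U i) ((ρ f (U i)).hom V) • rs L' (le_top : ι ⁻¹ᵁ U i ≤ ⊤) σ := fun i => by
      rw [ha', mul_smul, hc]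
    rw [key, key, rs_smul, rs_smul, rs_rs, rs_rs]
    congr 1
    show ro _ (ι.app (U i) _) = ro _ (ι.app (U k) _)
    rw [show ∀ (W W' : X.Opens) (h : W' ≤ W) (r : Γ(X, W)), ro (ι.preimage_mono h) (ι.app W r) = ι.app W' (ro h r) from
      fun W W' h r => (congr($(ι.naturality (homOfLE h).op) r)).symm,
      show ∀ (W W' : X.Opens) (h : W' ≤ W) (r : Γ(X, W)), ro (ι.preimage_mono h) (ι.app W r) = ι.app W' (ro h r) from
      fun W W' h r => (congr($(ι.naturality (homOfLE h).op) r)).symm, ρ_ro, ρ_ro]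
    all_goals first | exact inf_le_right | exact inf_le_left
  have hcov : (⊤ : X.Opens) ≤ ⨆ i : t, U i := fun x _ => by
    obtain ⟨i, hi, hxi⟩ := Set.mem_iUnion₂.mp (ht (Set.mem_univ x))
    exact Opens.mem_iSup.mpr ⟨⟨i, hi⟩, hxi⟩
  let OM : TopCat.Sheaf Ab.{u} X.toTopCat := ⟨L.presheaf, L.isSheaf⟩
  obtain ⟨s, hs, -⟩ := OM.existsUnique_gluing' (fun i : t => U i) ⊤ (fun i => homOfLE le_top) hcov sec
    fun i k => hsec i k
  -- the closed fibre
  obtain ⟨x₀, hx₀⟩ : ∃ x₀ : X, x₀ = f.fiberι (closedPoint A) (genericPoint (f.fiber (closedPoint A))) := ⟨_, rfl⟩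
  have hx₀s : f x₀ = closedPoint A := by rw [hx₀]; exact Groth.L07.Equidim.apply_fiberι f _ _
  have hx₀g : ∀ x, f x = closedPoint A → x₀ ⤳ x := fun x hx => by
    obtain ⟨z, rfl⟩ : x ∈ Set.range (f.fiberι (closedPoint A)) := by rw [Scheme.Hom.range_fiberι]; exact hx
    rw [hx₀]
    exact (genericPoint_specializes z).map (f.fiberι (closedPoint A)).continuous
  letI alg : ∀ x : X, Algebra A (X.presheaf.stalk x) := fun x =>
    ((Scheme.ΓSpecIso (CommRingCat.of A)).inv ≫ (Spec (CommRingCat.of A)).presheaf.germ ⊤ (f x) trivial ≫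
      f.stalkMap x).hom.toAlgebra
  have halg : ∀ (x : X) (W : X.Opens) (hx : x ∈ W) (r : A),
      algebraMap A (X.presheaf.stalk x) r = X.presheaf.germ W x hx ((ρ f W).hom r) := fun x W hx r => by
    have h : (Scheme.ΓSpecIso (CommRingCat.of A)).inv ≫ (Spec (CommRingCat.of A)).presheaf.germ ⊤ (f x) trivial ≫
        f.stalkMap x = ρ f W ≫ X.presheaf.germ W x hx := by
      simp only [ρ, Category.assoc, Scheme.Hom.germ_stalkMap]
      simp only [Scheme.Hom.appLE, Category.assoc, TopCat.Presheaf.germ_res]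
    exact congrArg (fun φ : CommRingCat.of A ⟶ X.presheaf.stalk x => φ r) h
  have hflat : ∀ x : X, Module.Flat A (X.presheaf.stalk x) := fun x => by
    obtain ⟨W, hW, hxW, -⟩ := exists_isAffineOpen_mem_and_subset (x := x) (U := (⊤ : X.Opens)) trivial
    letI := (ρ f W).hom.toAlgebra
    haveI := flat_ρ f hW
    letI := X.presheaf.algebra_section_stalk (⟨x, hxW⟩ : W)
    haveI := hW.isLocalization_stalk ⟨x, hxW⟩
    haveI : IsScalarTower A Γ(X, W) (X.presheaf.stalk x) := IsScalarTower.of_algebraMap_eq (halg x W hxW)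
    haveI : Module.Flat Γ(X, W) (X.presheaf.stalk x) :=
      IsLocalization.flat _ (hW.primeIdealOf ⟨x, hxW⟩).asIdeal.primeCompl
    exact Module.Flat.trans A Γ(X, W) _
  have hess : ∀ x : X, Algebra.EssFiniteType A (X.presheaf.stalk x) := fun x => by
    obtain ⟨W, hW, hxW, -⟩ := exists_isAffineOpen_mem_and_subset (x := x) (U := (⊤ : X.Opens)) trivial
    letI := (ρ f W).hom.toAlgebra
    haveI : Algebra.FiniteType A Γ(X, W) := RingHom.finiteType_respectsIso.2 _
      (Scheme.ΓSpecIso (CommRingCat.of A)).symm.commRingCatIsoToRingEquiv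
      (LocallyOfFiniteType.finiteType_appLE f (isAffineOpen_top _) hW le_top)
    letI := X.presheaf.algebra_section_stalk (⟨x, hxW⟩ : W)
    haveI := hW.isLocalization_stalk ⟨x, hxW⟩
    haveI : IsScalarTower A Γ(X, W) (X.presheaf.stalk x) := IsScalarTower.of_algebraMap_eq (halg x W hxW)
    haveI : Algebra.EssFiniteType Γ(X, W) (X.presheaf.stalk x) :=
      .of_isLocalization _ (hW.primeIdealOf ⟨x, hxW⟩).asIdeal.primeCompl
    exact .comp A Γ(X, W) _
  have hloc : ∀ x : X, f x = closedPoint A → IsLocalHom (algebraMap A (X.presheaf.stalk x)) := fun x hx =>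
    ⟨fun r hr => by
      by_contra hnu
      obtain ⟨W, hW, hxW, -⟩ := exists_isAffineOpen_mem_and_subset (x := x) (U := (⊤ : X.Opens)) trivial
      rw [halg x W hxW] at hr
      letI := X.presheaf.algebra_section_stalk (⟨x, hxW⟩ : W)
      haveI := hW.isLocalization_stalk ⟨x, hxW⟩
      refine (IsLocalization.AtPrime.isUnit_to_map_iff _ (hW.primeIdealOf ⟨x, hxW⟩).asIdeal _).mp hr ?_
      show r ∈ (hW.primeIdealOf ⟨x, hxW⟩).asIdeal.comap (ρ f W).hom
      rw [comap_ρ f hW hxW, hx]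
      exact hnu⟩
  let I : ∀ x : X, Ideal (X.presheaf.stalk x) := fun x => (maximalIdeal A).map (algebraMap A (X.presheaf.stalk x))
  have hIp : ∀ x : X, f x = closedPoint A → (I x).IsPrime := fun x hx => by
    obtain ⟨z, hz⟩ : x ∈ Set.range (f.fiberι (closedPoint A)) := by rw [Scheme.Hom.range_fiberι]; exact hx
    subst hz
    have h1 := Groth.L18.stalkMap_fiberι f (closedPoint A) z
    haveI : IsDomain ((f.fiber (closedPoint A)).presheaf.stalk z) := inferInstance
    have h2 : (RingHom.ker ((f.fiberι (closedPoint A)).stalkMap z).hom).IsPrime := RingHom.ker_isPrime _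
    have hm : (f (f.fiberι (closedPoint A) z)).asIdeal = maximalIdeal A := by rw [hx]; rfl
    rw [h1.2, RelAssSpecial.maximalIdeal_stalk_spec, Ideal.map_map, hm, ← CommRingCat.hom_comp, Category.assoc] at h2
    exact h2
  -- primitive decomposition of the coefficient at a point
  have hdec : ∀ (i : t) (x : X) (hx : x ∈ U i), f x = closedPoint A → ∃ (w : A) (b : X.presheaf.stalk x),
      w ≠ 0 ∧ X.presheaf.germ (U i) x hx (a' i) = w • b ∧ IsUnit b := by
    intro i x hx hfx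
    haveI := hflat x
    haveI := hess x
    haveI := hloc x hfx
    haveI := hIp x hfx
    letI := X.presheaf.algebra_section_stalk (⟨x, hx⟩ : U i)
    haveI := (hU i).isLocalization_stalk ⟨x, hx⟩
    obtain ⟨d, r, hr, hdr⟩ : ∃ (d : X.presheaf.stalk x) (r : A), r ≠ 0 ∧
        X.presheaf.germ (U i) x hx (a' i) * d = algebraMap A (X.presheaf.stalk x) r := by
      by_contra hne
      push Not at hne
      have hd : Disjoint ((Ideal.span {X.presheaf.germ (U i) x hx (a' i)} : Ideal (X.presheaf.stalk x)) : Set _)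
          (((nonZeroDivisors A).map (algebraMap A (X.presheaf.stalk x)) : Submonoid (X.presheaf.stalk x)) :
            Set (X.presheaf.stalk x)) := by
        rw [Set.disjoint_left]
        rintro _ hJ ⟨r, hr, rfl⟩
        obtain ⟨d, hd⟩ := Ideal.mem_span_singleton'.mp hJ
        exact hne d r (nonZeroDivisors.ne_zero hr) (by rw [mul_comm]; exact hd)
      obtain ⟨P, hP, hJP, hPd⟩ := Ideal.exists_le_prime_disjoint _ _ hd
      let q : PrimeSpectrum Γ(X, U i) := ⟨P.comap (algebraMap Γ(X, U i) (X.presheaf.stalk x)), inferInstance⟩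
      let u := (hU i).fromSpec q
      have huU : u ∈ U i := (hU i).range_fromSpec.le ⟨q, rfl⟩
      have hfu : f u = (⊥ : PrimeSpectrum A) := by
        have h2 : f u = Spec.map (ρ f (U i)) q := by rw [SpecMap_ρ f (hU i), Scheme.Hom.comp_apply]
        rw [h2]
        refine PrimeSpectrum.ext (eq_bot_iff.mpr fun r hr => ?_)
        by_contra hr0
        refine Set.disjoint_left.mp hPd ?_ ⟨r, mem_nonZeroDivisors_of_ne_zero hr0, rfl⟩
        show algebraMap A (X.presheaf.stalk x) r ∈ P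
        rw [halg x (U i) hx]
        exact hr
      have hq : (hU i).primeIdealOf ⟨u, huU⟩ = q := (hU i).fromSpec.isOpenEmbedding.injective (by
        rw [IsAffineOpen.fromSpec_primeIdealOf])
      letI := X.presheaf.algebra_section_stalk (⟨u, huU⟩ : U i)
      haveI := (hU i).isLocalization_stalk ⟨u, huU⟩
      refine (IsLocalization.AtPrime.isUnit_to_map_iff _ ((hU i).primeIdealOf ⟨u, huU⟩).asIdeal _).mp
        (hunit i u huU hfu) ?_
      rw [hq]
      exact hJP (Ideal.mem_span_singleton_self _)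
    have hne : ∀ z, X.presheaf.germ (U i) x hx (a' i) * z = algebraMap A (X.presheaf.stalk x) r →
        X.presheaf.germ (U i) x hx (a' i) ≠ 0 ∧ z ≠ 0 := fun z hz => by
      have h0 : algebraMap A (X.presheaf.stalk x) r ≠ 0 := fun h0 => one_ne_zero (α := X.presheaf.stalk x)
        ((Module.Flat.isSMulRegular_of_isRegular (M := X.presheaf.stalk x)
          (IsRegular.of_ne_zero hr)).right_eq_zero_of_smul (by rw [Algebra.smul_def, h0, zero_mul]))
      exact ⟨fun h => h0 (by rw [← hz, h, zero_mul]), fun h => h0 (by rw [← hz, h, mul_zero])⟩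
    obtain ⟨w, b, hw, hwb, hb⟩ := exists_primitive (A := A) _ (hne d hdr).1
    obtain ⟨w', d', hw', hwd, hd'⟩ := exists_primitive (A := A) _ (hne d hdr).2
    refine ⟨w, b, hw, hwb, ?_⟩
    obtain ⟨ε, -, hbd⟩ := associated_of_primitive (A := A) (w * w') r (mul_ne_zero hw hw') (b * d') 1
      (fun h => ((hIp x hfx).mem_or_mem h).elim hb hd') (hIp x hfx).one_notMem (by
        rw [← Algebra.algebraMap_eq_smul_one, ← hdr, hwb, hwd, smul_mul_smul_comm])
    refine isUnit_of_mul_isUnit_left (y := d') ?_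
    rw [hbd, ← Algebra.algebraMap_eq_smul_one]
    exact (Units.isUnit ε).map _
  obtain ⟨i₀, hi₀, hx₀i⟩ := Set.mem_iUnion₂.mp (ht (Set.mem_univ x₀))
  obtain ⟨w, b₀, hw, hwb₀, hb₀⟩ := hdec ⟨i₀, hi₀⟩ x₀ hx₀i hx₀s
  -- local frames dividing the section
  have hloc' : ∀ x : X, ∃ (D : X.Opens) (e' : Γ(L, D)), x ∈ D ∧ IsFrame L D e' ∧
      (ρ f D).hom w • e' = rs L le_top s := by
    intro x
    obtain ⟨y, hxy, hy⟩ := Groth.L13.CplRegular.exists_specializes_closedPoint f x
    obtain ⟨k, hk⟩ := Opens.mem_iSup.mp (hcov (show y ∈ (⊤ : X.Opens) from trivial))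
    obtain ⟨w₁, b, hw₁, hwb, hb⟩ := hdec k y hk hy
    -- the content at `y` is the content at `x₀`
    have hsp := hx₀g y hy
    have hk₀ : x₀ ∈ U k := hsp.mem_open (U k).2 hk
    haveI := hflat x₀
    have hspc : ∀ r, X.presheaf.stalkSpecializes hsp (algebraMap A _ r) = algebraMap A (X.presheaf.stalk x₀) r := by
      intro r
      rw [halg y (U k) hk, halg x₀ (U k) hk₀]
      exact TopCat.Presheaf.germ_stalkSpecializes_apply (hy := hk) X.presheaf hsp _
    have hsb : IsUnit (X.presheaf.stalkSpecializes hsp b) := hb.map (X.presheaf.stalkSpecializes hsp).hom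
    have hsk : X.presheaf.germ (U k) x₀ hk₀ (a' k) = w₁ • X.presheaf.stalkSpecializes hsp b := by
      rw [← TopCat.Presheaf.germ_stalkSpecializes_apply (hy := hk) X.presheaf hsp (a' k), hwb, Algebra.smul_def,
        map_mul, hspc, ← Algebra.smul_def]
    have hcmp : ∃ δ : X.presheaf.stalk x₀, IsUnit δ ∧
        X.presheaf.germ (U k) x₀ hk₀ (a' k) = δ * X.presheaf.germ (U i₀) x₀ hx₀i (a' ⟨i₀, hi₀⟩) := by
      let W := U i₀ ⊓ U k
      have hxW : x₀ ∈ W := ⟨hx₀i, hk₀⟩
      obtain ⟨g, hg⟩ := (he k).exists_coeff (inf_le_right : W ≤ U k) (rs L inf_le_left (e i₀))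
      have hgu : IsUnit g := Groth.L18.Frame.isUnit_of_isFrame ((he k).mono (inf_le_right : W ≤ U k))
        (by rw [hg]; exact (he i₀).mono inf_le_left)
      refine ⟨X.presheaf.germ W x₀ hxW g, hgu.map _, ?_⟩
      rw [← TopCat.Presheaf.germ_res_apply X.presheaf (homOfLE (inf_le_right : W ≤ U k)) x₀ hxW (a' k),
        ← TopCat.Presheaf.germ_res_apply X.presheaf (homOfLE (inf_le_left : W ≤ U i₀)) x₀ hxW (a' ⟨i₀, hi₀⟩),
        ← map_mul]
      congr 1
      refine ((he k).mono (inf_le_right : W ≤ U k)).inj le_rfl ?_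
      simp only [rs_self]
      have h1 := hsec ⟨i₀, hi₀⟩ k
      simp only [sec, rs_smul] at h1
      rw [mul_smul, ← smul_comm]
      show ro inf_le_right (a' k) • rs L inf_le_right (e k) = ro inf_le_left (a' ⟨i₀, hi₀⟩) • g • rs L inf_le_right (e k)
      rw [hg]
      exact h1.symm
    obtain ⟨δ, hδ, hδe⟩ := hcmp
    haveI := hIp x₀ hx₀s
    have hunit_not : ∀ {z : X.presheaf.stalk x₀}, IsUnit z → z ∉ I x₀ := fun {z} hz h =>
      (hIp x₀ hx₀s).ne_top (Ideal.eq_top_of_isUnit_mem _ h hz)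
    obtain ⟨ε, hε, -⟩ := associated_of_primitive (A := A) w w₁ hw (δ * b₀) (X.presheaf.stalkSpecializes hsp b)
      (hunit_not (hδ.mul hb₀)) (hunit_not hsb) (by
        rw [← hsk, hδe, hwb₀, mul_smul_comm])
    -- spread the unit
    obtain ⟨D, hD, β, hβ⟩ := TopCat.Presheaf.exists_germ_eq (F := X.presheaf) ((ε : A) • b)
    have hβu : IsUnit ((ε : A) • b) := by
      rw [Algebra.smul_def]; exact ((Units.isUnit ε).map _).mul hb
    have hDk : y ∈ D ⊓ U k := ⟨hD, hk⟩
    have heq : X.presheaf.germ (D ⊓ U k) y hDk ((ρ f (D ⊓ U k)).hom w * ro inf_le_left β) =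
        X.presheaf.germ (D ⊓ U k) y hDk (ro inf_le_right (a' k)) := by
      rw [map_mul, ← halg y (D ⊓ U k) hDk, TopCat.Presheaf.germ_res_apply, TopCat.Presheaf.germ_res_apply, hβ, hwb,
        hε, mul_smul, Algebra.smul_def w]
    obtain ⟨D', hyD', i1, i2, hD'⟩ := TopCat.Presheaf.germ_eq X.presheaf y hDk hDk _ _ heq
    let D'' := D' ⊓ X.basicOpen β
    have hyD'' : y ∈ D'' := ⟨hyD', (Scheme.mem_basicOpen X β y hD).mpr (by rw [hβ]; exact hβu)⟩
    refine ⟨D'', (ro (inf_le_right.trans (X.basicOpen_le β) : D'' ≤ D) β : Γ(X, D'')) •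
      rs L ((inf_le_left.trans i1.le).trans inf_le_right : D'' ≤ U k) (e k),
      hxy.mem_open D''.2 hyD'', ?_, ?_⟩
    · refine ((he k).mono _).smul_unit ?_
      rw [show ro (inf_le_right.trans (X.basicOpen_le β) : D'' ≤ D) β = ro (inf_le_right : D'' ≤ X.basicOpen β)
        (ro (X.basicOpen_le β) β) from (ro_ro _ _ _).symm]
      exact (RingedSpace.isUnit_res_basicOpen X.toRingedSpace β).map (X.presheaf.map (homOfLE _).op).hom
    · rw [← mul_smul, show rs L (le_top : D'' ≤ ⊤) s = rs L ((inf_le_left.trans i1.le).trans inf_le_right) (sec k) by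
        rw [← hs k]; exact (rs_rs L _ _ _).symm]
      simp only [sec, rs_smul]
      congr 1
      have h1 : ro (inf_le_left : D'' ≤ D') (ro i1.le ((ρ f (D ⊓ U k)).hom w * ro inf_le_left β)) =
          ro (inf_le_left : D'' ≤ D') (ro i2.le (ro inf_le_right (a' k))) := congrArg _ hD'
      simp only [Groth.L18.Frame.ro_mul, ro_ro] at h1
      rw [ρ_ro] at h1
      exact h1
  choose D e' hxD he' hse using hloc'
  have hcovD : (⊤ : X.Opens) ≤ ⨆ x, D x := fun x _ => Opens.mem_iSup.mpr ⟨x, hxD x⟩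
  obtain ⟨g, hg, -⟩ := OM.existsUnique_gluing' D ⊤ (fun x => homOfLE le_top) hcovD e' fun x y => by
    show rs L (inf_le_left : D x ⊓ D y ≤ D x) (e' x) = rs L inf_le_right (e' y)
    obtain ⟨b, hb⟩ := (he' x).exists_coeff (inf_le_left : D x ⊓ D y ≤ D x) (rs L inf_le_right (e' y))
    rw [← hb]
    have h1 : (1 - b) = 0 := by
      refine eq_zero_of_ρ_mul f hw ((he' x).inj inf_le_left ?_)
      have hx' := congrArg (rs L (inf_le_left : D x ⊓ D y ≤ D x)) (hse x)
      have hy' := congrArg (rs L (inf_le_right : D x ⊓ D y ≤ D y)) (hse y)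
      rw [rs_smul, ρ_ro, rs_rs] at hx' hy'
      rw [zero_smul, mul_sub, sub_smul, mul_one, mul_smul, hb, hy', hx', sub_self]
    rw [← sub_eq_zero.mp h1, one_smul]
  refine Groth.L08.Cube.nonempty_iso_of_frame_top (σ := g) (IsFrame.of_cover D (fun _ => le_top) hcovD fun x => ?_)
  rw [show rs L (le_top : D x ≤ ⊤) g = e' x from hg x]
  exact he' x

end Groth.L06.TrivGenericVal
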