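import Groth.Agent.L06.Unibranch
import Groth.Agent.L06.NormalTensorFlat
import Mathlib.RingTheory.TensorProduct.Quotient

/-! Geometrically unibranch local rings and normal base change. -/

set_option autoImplicit false
set_option maxSynthPendingDepth 3
set_option linter.style.haveILetI false
noncomputable section
universe u
open TensorProduct
open Groth.L28.Unibranch (toNorm toNorm_isIntegral)

namespace Groth.L06.Unibranch

theorem exists_mul_mem {R B : Type u} [CommRing R] [IsDomain R] [CommRing B] [Algebra R B]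
    {K : Type u} [Field K] [Algebra R K] [IsFractionRing R K] [Algebra B K] [IsScalarTower R B K]
    (hB : Function.Injective (algebraMap B K)) (x : B) :
    ∃ b a : R, b ≠ 0 ∧ algebraMap R B b * x = algebraMap R B a := by
  obtain ⟨a, b, hb, h⟩ := IsFractionRing.div_surjective (A := R) (algebraMap B K x)
  refine ⟨b, a, nonZeroDivisors.ne_zero hb, hB ?_⟩
  rw [map_mul, ← IsScalarTower.algebraMap_apply R B K, ← IsScalarTower.algebraMap_apply R B K, ← h,
    mul_div_cancel₀ _ (IsFractionRing.to_map_ne_zero_of_mem_nonZeroDivisors hb)]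

/-- the normalization map of `B ⊗ A'` to `A' ⊗ N` and its properties -/
theorem exists_tensor_normalization {A A' : Type u} [CommRing A] [CommRing A'] [Algebra A A'] [Module.Flat A A']
    (B : Type u) [CommRing B] [Algebra A B] [IsDomain (CAlg2.red B)] [Algebra A (CAlg2.normRed B)]
    (hcompat : ∀ a, toNorm B (algebraMap A B a) = algebraMap A (CAlg2.normRed B) a) :
    ∃ φ : B ⊗[A] A' →ₐ[A] A' ⊗[A] CAlg2.normRed B,
      (∀ b a, φ (b ⊗ₜ a) = a ⊗ₜ toNorm B b) ∧ φ.toRingHom.IsIntegral ∧
      RingHom.ker φ.toRingHom ≤ nilradical (B ⊗[A] A') ∧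
      (∀ t, ∃ b a : B ⊗[A] A', (∀ x, φ.toRingHom b * x = 0 → x = 0) ∧ φ.toRingHom b * t = φ.toRingHom a) ∧
      (IsDomain B → Function.Injective φ) := by
  let N := CAlg2.normRed B
  let ν : B →ₐ[A] N := { toNorm B with commutes' := hcompat }
  let φ : B ⊗[A] A' →ₐ[A] A' ⊗[A] N :=
    (Algebra.TensorProduct.map (AlgHom.id A A') ν).comp (Algebra.TensorProduct.comm A B A').toAlgHom
  have hφ : ∀ b a, φ (b ⊗ₜ a) = a ⊗ₜ toNorm B b := fun b a => rfl
  have hint : φ.toRingHom.IsIntegral := by
    intro t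
    induction t using TensorProduct.induction_on with
    | zero => exact φ.toRingHom.isIntegralElem_zero
    | tmul a x =>
      have h1 : φ.toRingHom.IsIntegralElem (a ⊗ₜ[A] (1 : N)) := by
        have : a ⊗ₜ[A] (1 : N) = φ.toRingHom (1 ⊗ₜ a) := by
          show _ = φ (1 ⊗ₜ a)
          rw [hφ, map_one]
        rw [this]
        exact φ.toRingHom.isIntegralElem_map
      have h2 : φ.toRingHom.IsIntegralElem ((1 : A') ⊗ₜ[A] x) := by
        obtain ⟨f, hf, he⟩ := toNorm_isIntegral B x
        refine ⟨f.map (algebraMap B (B ⊗[A] A')), hf.map _, ?_⟩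
        rw [Polynomial.eval₂_map]
        have hc : φ.toRingHom.comp (algebraMap B (B ⊗[A] A')) =
            (Algebra.TensorProduct.includeRight : N →ₐ[A] A' ⊗[A] N).toRingHom.comp (toNorm B) :=
          RingHom.ext fun b => hφ b 1
        rw [hc]
        show Polynomial.eval₂ _ ((Algebra.TensorProduct.includeRight : N →ₐ[A] A' ⊗[A] N).toRingHom x) f = 0
        rw [← Polynomial.hom_eval₂, he, map_zero]
      simpa using RingHom.IsIntegralElem.mul φ.toRingHom h1 h2
    | add x y hx hy => exact RingHom.IsIntegralElem.add φ.toRingHom hx hy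
  -- the kernel
  let R := CAlg2.red B
  let π : B →ₐ[A] R := Ideal.Quotient.mkₐ A (nilradical B)
  let ι : R →ₐ[A] N := { algebraMap R N with commutes' := fun a => hcompat a }
  have hιinj : Function.Injective ι := FaithfulSMul.algebraMap_injective R N
  have hkerπ : RingHom.ker (Algebra.TensorProduct.map π (AlgHom.id A A')) ≤ nilradical (B ⊗[A] A') := by
    rw [Algebra.TensorProduct.rTensor_ker _ (Ideal.Quotient.mkₐ_surjective A _), Ideal.map_le_iff_le_comap]
    intro b hb
    rw [Ideal.mem_comap, mem_nilradical]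
    refine IsNilpotent.map ?_ _
    rwa [RingHom.mem_ker, Ideal.Quotient.mkₐ_eq_mk, Ideal.Quotient.eq_zero_iff_mem] at hb
  have hιφ : ∀ z, φ z = Algebra.TensorProduct.map (AlgHom.id A A') ι
      (Algebra.TensorProduct.comm A R A' (Algebra.TensorProduct.map π (AlgHom.id A A') z)) := by
    intro z
    induction z using TensorProduct.induction_on with
    | zero => simp
    | tmul b a => rfl
    | add x y hx hy => rw [map_add, hx, hy, map_add, map_add, map_add]
  have hinjι : Function.Injective (Algebra.TensorProduct.map (AlgHom.id A A') ι) :=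
    Module.Flat.lTensor_preserves_injective_linearMap (M := A') ι.toLinearMap hιinj
  have hker : RingHom.ker φ.toRingHom ≤ nilradical (B ⊗[A] A') := fun z hz => by
    refine hkerπ ?_
    have hz' : φ z = 0 := hz
    rw [hιφ, map_eq_zero_iff _ hinjι, EmbeddingLike.map_eq_zero_iff] at hz'
    exact hz'
  have hbirN : ∀ x : N, ∃ b a : B, toNorm B b ≠ 0 ∧ toNorm B b * x = toNorm B a := by
    intro x
    obtain ⟨b, a, hb, hab⟩ := exists_mul_mem (R := R) (B := N) (K := FractionRing R)
      (FaithfulSMul.algebraMap_injective N (FractionRing R)) x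
    obtain ⟨b, rfl⟩ := Ideal.Quotient.mk_surjective b
    obtain ⟨a, rfl⟩ := Ideal.Quotient.mk_surjective a
    exact ⟨b, a, (map_ne_zero_iff _ (FaithfulSMul.algebraMap_injective R N)).mpr hb, hab⟩
  have hbir : ∀ t : A' ⊗[A] N, ∃ b a : B ⊗[A] A', (∀ x, φ.toRingHom b * x = 0 → x = 0) ∧
      φ.toRingHom b * t = φ.toRingHom a := by
    suffices ∀ t : A' ⊗[A] N, ∃ b : B, toNorm B b ≠ 0 ∧ ∃ a : B ⊗[A] A', ((1 : A') ⊗ₜ[A] toNorm B b) * t = φ a by
      intro t
      obtain ⟨b, hb, a, ha⟩ := this t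
      refine ⟨b ⊗ₜ 1, a, fun x hx => ?_, ha⟩
      have hreg : Function.Injective (LinearMap.mulLeft A (toNorm B b)) := mul_right_injective₀ hb
      refine Module.Flat.lTensor_preserves_injective_linearMap (M := A') _ hreg ?_
      have hmul : (LinearMap.mulLeft A (toNorm B b)).lTensor A' =
          LinearMap.mulLeft A ((1 : A') ⊗ₜ[A] toNorm B b) := TensorProduct.ext' fun a' m => by
        simp [Algebra.TensorProduct.tmul_mul_tmul]
      rw [map_zero, hmul, LinearMap.mulLeft_apply, ← hx]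
      rfl
    intro t
    induction t using TensorProduct.induction_on with
    | zero => exact ⟨1, by rw [map_one]; exact one_ne_zero, 0, by simp⟩
    | tmul a x =>
      obtain ⟨b, c, hb, hbc⟩ := hbirN x
      exact ⟨b, hb, c ⊗ₜ a, by rw [hφ, Algebra.TensorProduct.tmul_mul_tmul, one_mul, hbc]⟩
    | add x y hx hy =>
      obtain ⟨b₁, hb₁, a₁, ha₁⟩ := hx
      obtain ⟨b₂, hb₂, a₂, ha₂⟩ := hy
      refine ⟨b₁ * b₂, by rw [map_mul]; exact mul_ne_zero hb₁ hb₂,
        (b₂ ⊗ₜ 1) * a₁ + (b₁ ⊗ₜ 1) * a₂, ?_⟩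
      have e : ((1 : A') ⊗ₜ[A] toNorm B (b₁ * b₂)) = ((1 : A') ⊗ₜ[A] toNorm B b₁) * ((1 : A') ⊗ₜ[A] toNorm B b₂) := by
        rw [Algebra.TensorProduct.tmul_mul_tmul, one_mul, map_mul]
      rw [e, map_add, map_mul, map_mul, hφ, hφ, ← ha₁, ← ha₂]
      ring
  refine ⟨φ, hφ, hint, hker, hbir, fun hd => ?_⟩
  haveI := hd
  have hπinj : Function.Injective π := by
    refine (injective_iff_map_eq_zero π).mpr fun b hb => ?_
    have : b ∈ nilradical B := Ideal.Quotient.eq_zero_iff_mem.mp hb
    rwa [nilradical_eq_zero, Submodule.zero_eq_bot, Ideal.mem_bot] at this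
  have hmap : Function.Injective (Algebra.TensorProduct.map π (AlgHom.id A A')) :=
    Module.Flat.rTensor_preserves_injective_linearMap (M := A') π.toLinearMap hπinj
  intro x y hxy
  have : φ x = φ y := hxy
  rw [hιφ, hιφ] at this
  exact hmap ((Algebra.TensorProduct.comm A R A').injective (hinjι this))

/-- the general criterion for a flat base change of a geometrically unibranch local ring with normal
total normalization -/
theorem isGeomUnibranch_tensor {A A' : Type u} [CommRing A] [CommRing A'] [Algebra A A'] [Module.Flat A A']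
    (B : Type u) [CommRing B] [IsLocalRing B] [Algebra A B] (hB : CAlg2.IsGeomUnibranch B)
    (hT : ∀ (N : Type u) [CommRing N] [IsDomain N] [IsIntegrallyClosed N] [Algebra A N], EGA4.IsNormalRing (A' ⊗[A] N))
    (q : Ideal (B ⊗[A] A')) [q.IsPrime] (hq : q.comap (algebraMap B (B ⊗[A] A')) = IsLocalRing.maximalIdeal B) :
    CAlg2.IsGeomUnibranch (Localization.AtPrime q) ∧ (IsDomain B → IsDomain (Localization.AtPrime q)) := by
  haveI := hB.1.1
  haveI := hB.1.2
  haveI : IsIntegrallyClosed (CAlg2.normRed B) :=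
    integralClosure.isIntegrallyClosedOfFiniteExtension (FractionRing (CAlg2.red B))
  let N := CAlg2.normRed B
  letI : Algebra A N := ((toNorm B).comp (algebraMap A B)).toAlgebra
  let ν : B →ₐ[A] N := { toNorm B with commutes' := fun _ => rfl }
  have hν : ∀ b, ν b = toNorm B b := fun _ => rfl
  obtain ⟨φ, hφ, hint, hker, hbir, hinjφ⟩ :=
    exists_tensor_normalization (A := A) (A' := A') B (fun _ => rfl)
  haveI : (IsLocalRing.maximalIdeal N).IsMaximal := IsLocalRing.maximalIdeal.isMaximal N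
  let p := ringExpChar (N ⧸ IsLocalRing.maximalIdeal N)
  haveI : IsDomain (N ⧸ IsLocalRing.maximalIdeal N) := Ideal.Quotient.isDomain _
  have hover : ∀ P : Ideal (A' ⊗[A] N), P.IsPrime → P.comap φ.toRingHom = q →
      ∀ ν ∈ IsLocalRing.maximalIdeal N, (1 : A') ⊗ₜ[A] ν ∈ P := by
    intro P hP hPq ν hν'
    let i : N →+* A' ⊗[A] N := (Algebra.TensorProduct.includeRight : N →ₐ[A] A' ⊗[A] N).toRingHom
    have hc : (P.comap i).comap (toNorm B) = IsLocalRing.maximalIdeal B := by
      rw [← hq, ← hPq]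
      ext b
      show i (toNorm B b) ∈ P ↔ φ (b ⊗ₜ 1) ∈ P
      rw [hφ]
      rfl
    have hmax : (P.comap i).IsMaximal :=
      Ideal.isMaximal_of_isIntegral_of_isMaximal_comap' _ (toNorm_isIntegral B) _
        (hc ▸ IsLocalRing.maximalIdeal.isMaximal B)
    have := IsLocalRing.eq_maximalIdeal hmax
    exact this.symm.le hν'
  have hchar : ∀ P : Ideal (A' ⊗[A] N), P.IsPrime → P.comap φ.toRingHom = q → ExpChar ((A' ⊗[A] N) ⧸ P) p := by
    intro P hP hPq
    haveI := hP
    haveI := ringExpChar.expChar (N ⧸ IsLocalRing.maximalIdeal N)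
    letI : Field (N ⧸ IsLocalRing.maximalIdeal N) := Ideal.Quotient.field _
    refine expChar_of_injective_ringHom (f := Ideal.Quotient.lift _ ((Ideal.Quotient.mk P).comp
      (Algebra.TensorProduct.includeRight : N →ₐ[A] A' ⊗[A] N).toRingHom) fun ν hν' =>
        Ideal.Quotient.eq_zero_iff_mem.mpr (hover P hP hPq ν hν')) (RingHom.injective _) p
  have hrad : ∀ t : A' ⊗[A] N, ∃ (n : ℕ) (s : B ⊗[A] A'), ∀ P : Ideal (A' ⊗[A] N), P.IsPrime →
      P.comap φ.toRingHom = q → t ^ p ^ n - φ.toRingHom s ∈ P := by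
    intro t
    induction t using TensorProduct.induction_on with
    | zero =>
      refine ⟨0, 0, fun P _ _ => ?_⟩
      simp
    | tmul a x =>
      obtain ⟨n, b, hb⟩ := (isGeomUnibranch_def.mp hB).2 (IsLocalRing.maximalIdeal N) x
      refine ⟨n, b ⊗ₜ (a ^ p ^ n), fun P hP hPq => ?_⟩
      have : (a ⊗ₜ[A] x) ^ p ^ n - φ.toRingHom (b ⊗ₜ (a ^ p ^ n)) =
          ((a ^ p ^ n) ⊗ₜ[A] (1 : N)) * ((1 : A') ⊗ₜ[A] (x ^ p ^ n - toNorm B b)) := by
        show _ - φ (b ⊗ₜ (a ^ p ^ n)) = _
        rw [hφ, Algebra.TensorProduct.tmul_pow, Algebra.TensorProduct.tmul_mul_tmul, mul_one, one_mul,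
          TensorProduct.tmul_sub]
      rw [this]
      exact P.mul_mem_left _ (hover P hP hPq _ hb)
    | add x y hx hy =>
      obtain ⟨n₁, s₁, h₁⟩ := hx
      obtain ⟨n₂, s₂, h₂⟩ := hy
      refine ⟨n₁ + n₂, s₁ ^ p ^ n₂ + s₂ ^ p ^ n₁, fun P hP hPq => ?_⟩
      haveI := hchar P hP hPq
      rw [← Ideal.Quotient.eq_zero_iff_mem, map_sub, sub_eq_zero, map_pow, map_add, map_add, map_add,
        map_pow φ.toRingHom, map_pow φ.toRingHom, map_pow, map_pow, add_pow_expChar_pow,
        ← Ideal.Quotient.eq.mpr (h₁ P hP hPq), ← Ideal.Quotient.eq.mpr (h₂ P hP hPq), map_pow, map_pow, ← pow_mul,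
        ← pow_mul, ← pow_add, ← pow_add, add_comm n₂ n₁]
  obtain ⟨h1, h2⟩ := geomUnibranch_atPrime φ.toRingHom hint q hker (hT N) p hrad hchar hbir
  exact ⟨h1, fun hd => h2 (hinjφ hd)⟩

end Groth.L06.Unibranch
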