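import Groth.Agent.L06.UnibranchOpenQF
import Groth.Prelude.Def_EGA43
import Mathlib.FieldTheory.Minpoly.IsIntegrallyClosed
import Mathlib.RingTheory.Spectrum.Prime.Chevalley
import Mathlib.AlgebraicGeometry.ZariskisMainTheorem
import Groth.Agent.L06.Unibranch
import Groth.Agent.L07.UnivOpenAt
import Mathlib.RingTheory.IntegralClosure.GoingDown
import Mathlib.RingTheory.IntegralClosure.IntegrallyClosed
import Mathlib.AlgebraicGeometry.Properties

/-! Openness of integral maps and of morphisms of finite type at points isolated in their fibres, over unibranch points. -/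

set_option autoImplicit false
set_option maxSynthPendingDepth 3
set_option linter.style.haveILetI false
set_option backward.isDefEq.respectTransparency.types false
set_option backward.isDefEq.respectTransparency false

universe u

open CategoryTheory CategoryTheory.Limits AlgebraicGeometry TopologicalSpace Topology

noncomputable section

namespace Groth.L06.UnibranchOpenInt

open PrimeSpectrum

/-- Over an integrally closed domain, the image of a basic open of an integral extension domain is open. -/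
theorem isOpen_image_basicOpen {C T : Type u} [CommRing C] [IsDomain C] [IsIntegrallyClosed C] [CommRing T]
    [IsDomain T] [Algebra C T] [Algebra.IsIntegral C T] [FaithfulSMul C T] (t : T) :
    IsOpen (PrimeSpectrum.comap (algebraMap C T) '' (basicOpen t : Set (PrimeSpectrum T))) := by
  have ht : IsIntegral C t := Algebra.IsIntegral.isIntegral t
  let g := minpoly C t
  have hg : g.Monic := minpoly.monic ht
  let φ : AdjoinRoot g →ₐ[C] T := (Algebra.adjoin C ({t} : Set T)).val.comp (minpoly.equivAdjoin ht).toAlgHom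
  have hφ : Function.Injective φ := Subtype.val_injective.comp (minpoly.equivAdjoin ht).injective
  have hroot : φ (AdjoinRoot.root g) = t := by
    show ((minpoly.equivAdjoin ht (AdjoinRoot.root g) : Algebra.adjoin C ({t} : Set T)) : T) = t
    simp [g, AdjoinRoot.Minpoly.toAdjoin]
  have hint : φ.toRingHom.IsIntegral := RingHom.IsIntegral.tower_top (algebraMap C (AdjoinRoot g)) φ.toRingHom
    (by rw [show φ.toRingHom.comp (algebraMap C (AdjoinRoot g)) = algebraMap C T from φ.comp_algebraMap]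
        exact Algebra.IsIntegral.isIntegral)
  have hsurj : Function.Surjective (PrimeSpectrum.comap φ.toRingHom) :=
    RingHom.IsIntegral.comap_surjective hint hφ
  haveI : Module.Free C (AdjoinRoot g) := Module.Free.of_basis (AdjoinRoot.powerBasis' hg).basis
  haveI : Algebra.FinitePresentation C (AdjoinRoot g) :=
    Algebra.FinitePresentation.quotient (Submodule.fg_span_singleton g)
  have e : PrimeSpectrum.comap (algebraMap C T) '' (basicOpen t : Set (PrimeSpectrum T)) =
      PrimeSpectrum.comap (algebraMap C (AdjoinRoot g)) '' (basicOpen (AdjoinRoot.root g) : Set _) := by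
    have h1 : (basicOpen t : Set (PrimeSpectrum T)) =
        PrimeSpectrum.comap φ.toRingHom ⁻¹' (basicOpen (AdjoinRoot.root g) : Set _) := by
      conv_lhs => rw [← hroot]
      rfl
    have h2 : algebraMap C T = φ.toRingHom.comp (algebraMap C (AdjoinRoot g)) := φ.comp_algebraMap.symm
    rw [h1, h2, PrimeSpectrum.comap_comp, Set.image_comp,
      Set.image_preimage_eq _ hsurj]
  rw [e]
  exact PrimeSpectrum.isOpenMap_comap_of_hasGoingDown_of_finitePresentation _ (basicOpen _).2

/-- An integral extension of domains is open at a prime over which the normalization has one prime. -/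
theorem isOpenAt_domain {A S : Type u} [CommRing A] [IsDomain A] [CommRing S] [IsDomain S] [Algebra A S]
    [Algebra.IsIntegral A S] [FaithfulSMul A S] (p : Ideal A) [p.IsPrime]
    (huniq : ∀ P P' : Ideal (integralClosure A (FractionRing A)), P.IsPrime → P'.IsPrime →
      P.comap (algebraMap A (integralClosure A (FractionRing A))) = p →
      P'.comap (algebraMap A (integralClosure A (FractionRing A))) = p → P = P')
    (q : Ideal S) [q.IsPrime] (hq : q.comap (algebraMap A S) = p) (U : Set (PrimeSpectrum S))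
    (hU : U ∈ nhds (⟨q, inferInstance⟩ : PrimeSpectrum S)) :
    PrimeSpectrum.comap (algebraMap A S) '' U ∈ nhds (⟨p, inferInstance⟩ : PrimeSpectrum A) := by
  let K := FractionRing A
  let L := FractionRing S
  letI : Algebra K L := (IsFractionRing.lift (A := A) (K := K) (g := algebraMap A L)
    (FaithfulSMul.algebraMap_injective A L)).toAlgebra
  haveI : IsScalarTower A K L := IsScalarTower.of_algebraMap_eq fun a =>
    (IsFractionRing.lift_algebraMap (FaithfulSMul.algebraMap_injective A L) a).symm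
  let C := integralClosure A K
  let T := integralClosure A L
  haveI : IsIntegrallyClosed C := integralClosure.isIntegrallyClosedOfFiniteExtension K
  let ψ : C →+* T :=
    { toFun := fun c => ⟨algebraMap K L c.1, IsIntegral.map (IsScalarTower.toAlgHom A K L) c.2⟩
      map_one' := Subtype.ext (map_one (algebraMap K L))
      map_mul' := fun a b => Subtype.ext (map_mul (algebraMap K L) a.1 b.1)
      map_zero' := Subtype.ext (map_zero (algebraMap K L))
      map_add' := fun a b => Subtype.ext (map_add (algebraMap K L) a.1 b.1) }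
  let ι : S →+* T :=
    { toFun := fun s => ⟨algebraMap S L s, IsIntegral.map (IsScalarTower.toAlgHom A S L) (Algebra.IsIntegral.isIntegral s)⟩
      map_one' := Subtype.ext (map_one (algebraMap S L))
      map_mul' := fun a b => Subtype.ext (map_mul (algebraMap S L) a b)
      map_zero' := Subtype.ext (map_zero (algebraMap S L))
      map_add' := fun a b => Subtype.ext (map_add (algebraMap S L) a b) }
  letI : Algebra C T := ψ.toAlgebra
  letI : Algebra S T := ι.toAlgebra
  haveI : IsScalarTower A C T := IsScalarTower.of_algebraMap_eq fun a =>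
    Subtype.ext (IsScalarTower.algebraMap_apply A K L a)
  haveI : IsScalarTower A S T := IsScalarTower.of_algebraMap_eq fun a =>
    Subtype.ext (IsScalarTower.algebraMap_apply A S L a)
  haveI : Algebra.IsIntegral C T := Algebra.IsIntegral.tower_top (R := A)
  haveI : Algebra.IsIntegral S T := Algebra.IsIntegral.tower_top (R := A)
  haveI : FaithfulSMul C T := (faithfulSMul_iff_algebraMap_injective C T).2 fun a b h =>
    Subtype.ext ((algebraMap K L).injective (congrArg Subtype.val h))
  obtain ⟨_, ⟨_, ⟨b, rfl⟩, rfl⟩, hqb, hbU⟩ := PrimeSpectrum.isBasis_basic_opens.mem_nhds_iff.1 hU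
  have hST : Function.Surjective (PrimeSpectrum.comap (algebraMap S T)) :=
    RingHom.IsIntegral.comap_surjective Algebra.IsIntegral.isIntegral fun a c h =>
      IsFractionRing.injective S L (congrArg Subtype.val h)
  obtain ⟨Q, hQ⟩ := hST ⟨q, inferInstance⟩
  let W : Set (PrimeSpectrum C) := PrimeSpectrum.comap (algebraMap C T) '' (basicOpen (algebraMap S T b) : Set _)
  have hW : IsOpen W := isOpen_image_basicOpen _
  have hQb : Q ∈ (basicOpen (algebraMap S T b) : Set (PrimeSpectrum T)) := by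
    show algebraMap S T b ∉ Q.asIdeal
    exact fun h => hqb (hQ ▸ h)
  have hAC : (algebraMap A C).IsIntegral := Algebra.IsIntegral.isIntegral
  have hsurjC : Function.Surjective (PrimeSpectrum.comap (algebraMap A C)) :=
    RingHom.IsIntegral.comap_surjective hAC fun a c h =>
      IsFractionRing.injective A K (congrArg Subtype.val h)
  have hcl : IsClosed (PrimeSpectrum.comap (algebraMap A C) '' Wᶜ) :=
    PrimeSpectrum.isClosedMap_comap_of_isIntegral _ hAC _ hW.isClosed_compl
  have hp : (⟨p, inferInstance⟩ : PrimeSpectrum A) ∉ PrimeSpectrum.comap (algebraMap A C) '' Wᶜ := by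
    rintro ⟨P, hP, hPp⟩
    refine hP ⟨Q, hQb, PrimeSpectrum.ext (huniq _ _ (PrimeSpectrum.isPrime _) P.2 ?_ (congrArg PrimeSpectrum.asIdeal hPp))⟩
    have hQq : Q.asIdeal.comap (algebraMap S T) = q := congrArg PrimeSpectrum.asIdeal hQ
    show (Q.asIdeal.comap (algebraMap C T)).comap (algebraMap A C) = p
    rw [Ideal.comap_comap, ← IsScalarTower.algebraMap_eq, IsScalarTower.algebraMap_eq A S T, ← Ideal.comap_comap,
      hQq, hq]
  refine Filter.mem_of_superset (hcl.isOpen_compl.mem_nhds hp) fun a ha => ?_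
  obtain ⟨P, rfl⟩ := hsurjC a
  have hPW : P ∈ W := by_contra fun h => ha ⟨P, h, rfl⟩
  obtain ⟨Q', hQ', rfl⟩ := hPW
  refine ⟨PrimeSpectrum.comap (algebraMap S T) Q', hbU hQ', ?_⟩
  apply PrimeSpectrum.ext
  show (Q'.asIdeal.comap (algebraMap S T)).comap (algebraMap A S) = (Q'.asIdeal.comap (algebraMap C T)).comap (algebraMap A C)
  rw [Ideal.comap_comap, Ideal.comap_comap, ← IsScalarTower.algebraMap_eq, ← IsScalarTower.algebraMap_eq]

/-- An integral algebra with a dominant component is open at the unibranch points of that component. -/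
theorem isOpenAt_integral {A S : Type u} [CommRing A] [CommRing S] [Algebra A S] [Algebra.IsIntegral A S]
    (p₀ : Ideal A) [p₀.IsPrime] (hle : ∀ p : Ideal A, p.IsPrime → p₀ ≤ p)
    (Q₀ q : Ideal S) [Q₀.IsPrime] [q.IsPrime] (hQq : Q₀ ≤ q) (hQ₀ : Q₀.comap (algebraMap A S) = p₀)
    (R : Type u) [CommRing R] [IsLocalRing R] [Algebra A R]
    [IsLocalization.AtPrime R (q.comap (algebraMap A S))] (h : CAlg2.IsUnibranch R)
    (U : Set (PrimeSpectrum S)) (hU : U ∈ nhds (⟨q, inferInstance⟩ : PrimeSpectrum S)) :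
    PrimeSpectrum.comap (algebraMap A S) '' U ∈
      nhds (PrimeSpectrum.comap (algebraMap A S) ⟨q, inferInstance⟩) := by
  letI : Algebra (A ⧸ p₀) (S ⧸ Q₀) := (Ideal.quotientMap Q₀ (algebraMap A S) hQ₀.ge).toAlgebra
  haveI : IsScalarTower A (A ⧸ p₀) (S ⧸ Q₀) := IsScalarTower.of_algebraMap_eq fun a => rfl
  haveI : Algebra.IsIntegral (A ⧸ p₀) (S ⧸ Q₀) := Algebra.IsIntegral.tower_top (R := A)
  haveI : FaithfulSMul (A ⧸ p₀) (S ⧸ Q₀) := (faithfulSMul_iff_algebraMap_injective _ _).2
    (Ideal.quotientMap_injective' (J := p₀) (I := Q₀) (f := algebraMap A S) (H := hQ₀.ge) hQ₀.le)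
  have hcm : ∀ {T : Type u} [CommRing T] (I J : Ideal T), I ≤ J →
      (J.map (Ideal.Quotient.mk I)).comap (Ideal.Quotient.mk I) = J := fun {T} _ I J hIJ => by
    rw [Ideal.comap_map_of_surjective _ Ideal.Quotient.mk_surjective, ← RingHom.ker_eq_comap_bot, Ideal.mk_ker]
    exact sup_eq_left.2 hIJ
  have hpr : (q.comap (algebraMap A S)).IsPrime := Ideal.comap_isPrime _ _
  haveI : (q.map (Ideal.Quotient.mk Q₀)).IsPrime :=
    Ideal.map_isPrime_of_surjective Ideal.Quotient.mk_surjective (by rw [Ideal.mk_ker]; exact hQq)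
  haveI : ((q.comap (algebraMap A S)).map (Ideal.Quotient.mk p₀)).IsPrime :=
    Ideal.map_isPrime_of_surjective Ideal.Quotient.mk_surjective (by rw [Ideal.mk_ker]; exact hle _ hpr)
  have hqpt : PrimeSpectrum.comap (Ideal.Quotient.mk Q₀) ⟨q.map (Ideal.Quotient.mk Q₀), inferInstance⟩ =
      ⟨q, inferInstance⟩ := PrimeSpectrum.ext (hcm Q₀ q hQq)
  have hU' : PrimeSpectrum.comap (Ideal.Quotient.mk Q₀) ⁻¹' U ∈
      nhds (⟨q.map (Ideal.Quotient.mk Q₀), inferInstance⟩ : PrimeSpectrum (S ⧸ Q₀)) :=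
    (PrimeSpectrum.continuous_comap _).continuousAt.preimage_mem_nhds (hqpt ▸ hU)
  have key := isOpenAt_domain ((q.comap (algebraMap A S)).map (Ideal.Quotient.mk p₀))
    (UnibranchOpenQF.prime_unique p₀ hle (q.comap (algebraMap A S)) R h) (q.map (Ideal.Quotient.mk Q₀))
    (by
      apply Ideal.comap_injective_of_surjective (Ideal.Quotient.mk p₀) Ideal.Quotient.mk_surjective
      rw [hcm p₀ _ (hle _ hpr), Ideal.comap_comap]
      show Ideal.comap ((Ideal.Quotient.mk Q₀).comp (algebraMap A S)) _ = _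
      rw [← Ideal.comap_comap, hcm Q₀ q hQq]) _ hU'
  have hind : Topology.IsInducing (PrimeSpectrum.comap (Ideal.Quotient.mk p₀)) :=
    (PrimeSpectrum.isClosedEmbedding_comap_of_surjective _ _ Ideal.Quotient.mk_surjective).isInducing
  have hall : Function.Surjective (PrimeSpectrum.comap (Ideal.Quotient.mk p₀)) := fun a => by
    haveI : (a.asIdeal.map (Ideal.Quotient.mk p₀)).IsPrime :=
      Ideal.map_isPrime_of_surjective Ideal.Quotient.mk_surjective (by rw [Ideal.mk_ker]; exact hle _ a.2)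
    exact ⟨⟨a.asIdeal.map (Ideal.Quotient.mk p₀), inferInstance⟩, PrimeSpectrum.ext (hcm p₀ _ (hle _ a.2))⟩
  have hq0 : PrimeSpectrum.comap (Ideal.Quotient.mk p₀)
      ⟨(q.comap (algebraMap A S)).map (Ideal.Quotient.mk p₀), inferInstance⟩ =
      PrimeSpectrum.comap (algebraMap A S) ⟨q, inferInstance⟩ := PrimeSpectrum.ext (hcm p₀ _ (hle _ hpr))
  rw [← hq0]
  rw [hind.nhds_eq_comap, Filter.mem_comap] at key
  obtain ⟨V, hV, hVU⟩ := key
  refine Filter.mem_of_superset hV fun a ha => ?_
  obtain ⟨a', rfl⟩ := hall a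
  obtain ⟨z, hz, hza⟩ := hVU ha
  refine ⟨PrimeSpectrum.comap (Ideal.Quotient.mk Q₀) z, hz, ?_⟩
  rw [← hza]
  apply PrimeSpectrum.ext
  show (z.asIdeal.comap (Ideal.Quotient.mk Q₀)).comap (algebraMap A S) =
    (z.asIdeal.comap (algebraMap (A ⧸ p₀) (S ⧸ Q₀))).comap (Ideal.Quotient.mk p₀)
  rw [Ideal.comap_comap, Ideal.comap_comap]
  rfl

/-- The integral case for domains. -/
theorem isOpenAt_of_isIntegral (A B : Type u) [CommRing A] [IsDomain A] [CommRing B] [IsDomain B] [Algebra A B]
    (hinj : Function.Injective (algebraMap A B)) (hint : Algebra.IsIntegral A B) (q : PrimeSpectrum B)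
    (h : CAlg2.IsUnibranch (Localization.AtPrime (q.asIdeal.comap (algebraMap A B)))) :
    EGA43.IsOpenAt (PrimeSpectrum.comap (algebraMap A B)) q := fun U hU =>
  isOpenAt_integral (⊥ : Ideal A) (fun _ _ => bot_le) (⊥ : Ideal B) q.asIdeal bot_le
    (by rw [← RingHom.ker_eq_comap_bot]; exact (RingHom.injective_iff_ker_eq_bot _).1 hinj)
    (Localization.AtPrime (q.asIdeal.comap (algebraMap A B))) h U hU

theorem isOpenAt_locallyQuasiFinite {X Y : Scheme.{u}} [IrreducibleSpace X] [IrreducibleSpace Y] (f : X ⟶ Y)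
    [LocallyOfFiniteType f] [LocallyQuasiFinite f] (hd : DenseRange f) (x : X)
    (hy : CAlg2.IsUnibranch (Y.presheaf.stalk (f x))) : EGA43.IsOpenAt f.base x := by
  intro N hN
  obtain ⟨U, hU, hxU, -⟩ := exists_isAffineOpen_mem_and_subset (U := ⊤) (x := f x) trivial
  obtain ⟨W, Z, g, r, hxW, hg, hr, he⟩ := QFDenseFinite.exists_piece f hU x hxU
  haveI : IsAffine U.toScheme := hU
  haveI : IsAffine Z := isAffine_of_isAffineHom r
  obtain ⟨ψ, hψ⟩ := Spec.map_surjective (Z.isoSpec.inv ≫ r ≫ hU.isoSpec.hom)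
  haveI : IsFinite (Spec.map ψ) := hψ ▸ inferInstance
  algebraize [ψ.hom]
  haveI : Module.Finite Γ(Y, U) Γ(Z, ⊤) := RingHom.finite_algebraMap.1 ((IsFinite.SpecMap_iff _).1 ‹_›)
  let j : W.toScheme ⟶ Spec Γ(Z, ⊤) := g ≫ Z.isoSpec.hom
  have hj : W.ι ≫ f = j ≫ Spec.map ψ ≫ hU.fromSpec := by
    rw [he, hψ, ← hU.isoSpec_inv_ι]
    simp [j]
  have hjx : ∀ w : W.toScheme, f (W.ι w) = hU.fromSpec (Spec.map ψ (j w)) := fun w => congr($hj w)
  have hξ : genericPoint X ⤳ x := genericPoint_specializes x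
  let ξ' : W.toScheme := ⟨genericPoint X, hξ.mem_open W.isOpen hxW⟩
  have hξ' : ξ' ⤳ (⟨x, hxW⟩ : W.toScheme) := W.ι.isOpenEmbedding.isInducing.specializes_iff.1 hξ
  have hgen : f (genericPoint X) = genericPoint Y := by
    have h1 := (genericPoint_spec X).image f.continuous
    have hd' : closure (f '' Set.univ) = Set.univ := by
      rw [Set.image_univ]
      exact hd.closure_range
    rw [hd'] at h1
    exact h1.eq (genericPoint_spec Y)
  let P : PrimeSpectrum Γ(Z, ⊤) := j ξ'
  let Q : PrimeSpectrum Γ(Z, ⊤) := j ⟨x, hxW⟩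
  haveI := P.2
  haveI := Q.2
  have hle : ∀ p : Ideal Γ(Y, U), p.IsPrime → P.asIdeal.comap (algebraMap Γ(Y, U) Γ(Z, ⊤)) ≤ p := fun p hp => by
    refine (PrimeSpectrum.le_iff_specializes (PrimeSpectrum.comap (algebraMap Γ(Y, U) Γ(Z, ⊤)) P) ⟨p, hp⟩).2
      (hU.fromSpec.isOpenEmbedding.isInducing.specializes_iff.1 ?_)
    have : hU.fromSpec (Spec.map ψ (j ξ')) = genericPoint Y := (hjx ξ').symm.trans hgen
    exact this ▸ genericPoint_specializes _
  have hPQ : P.asIdeal ≤ Q.asIdeal :=
    (PrimeSpectrum.le_iff_specializes P Q).2 (hξ'.map j.continuous)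
  have hyQ : f x = hU.fromSpec (Spec.map ψ Q) := hjx ⟨x, hxW⟩
  have hmem : hU.fromSpec (Spec.map ψ Q) ∈ U := hU.range_fromSpec.le ⟨_, rfl⟩
  haveI : (Ideal.comap (algebraMap Γ(Y, U) Γ(Z, ⊤)) Q.asIdeal).IsPrime := Ideal.comap_isPrime _ _
  let R := Y.presheaf.stalk (hU.fromSpec (Spec.map ψ Q))
  letI : Algebra Γ(Y, U) R := (Y.presheaf.germ U _ hmem).hom.toAlgebra
  haveI : IsLocalization.AtPrime R (Ideal.comap (algebraMap Γ(Y, U) Γ(Z, ⊤)) Q.asIdeal) :=
    hU.isLocalization_stalk' (Spec.map ψ Q) hmem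
  have hu : CAlg2.IsUnibranch R := by
    clear_value Q
    show CAlg2.IsUnibranch (Y.presheaf.stalk (hU.fromSpec (Spec.map ψ Q)))
    exact hyQ ▸ hy
  have hN' : j '' (W.ι ⁻¹' N) ∈ nhds Q :=
    j.isOpenEmbedding.isOpenMap.image_mem_nhds (W.ι.continuous.continuousAt.preimage_mem_nhds hN)
  have key := isOpenAt_integral (A := Γ(Y, U)) (S := Γ(Z, ⊤))
    (P.asIdeal.comap (algebraMap Γ(Y, U) Γ(Z, ⊤))) hle P.asIdeal Q.asIdeal hPQ rfl R hu _ hN'
  have h2 : hU.fromSpec '' (Spec.map ψ '' (j '' (W.ι ⁻¹' N))) ∈ nhds (hU.fromSpec (Spec.map ψ Q)) :=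
    hU.fromSpec.isOpenEmbedding.isOpenMap.image_mem_nhds key
  rw [← hyQ] at h2
  refine Filter.mem_of_superset h2 ?_
  rintro _ ⟨_, ⟨_, ⟨w, hw, rfl⟩, rfl⟩, rfl⟩
  exact ⟨W.ι w, hw, hjx w⟩

theorem isOpenAt_of_isolated {X Y : Scheme.{u}} (f : X ⟶ Y) [IrreducibleSpace X] [IrreducibleSpace Y]
    [LocallyOfFiniteType f] (hd : DenseRange f.base) (x : X)
    (hx : nhdsWithin x (f.base ⁻¹' {f.base x}) = pure x)
    (hy : CAlg2.IsUnibranch (Y.presheaf.stalk (f.base x))) : EGA43.IsOpenAt f.base x := by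
  have hxq : f.QuasiFiniteAt x := by
    rw [Scheme.Hom.quasiFiniteAt_iff_isOpen_singleton_asFiber, ← (f.fiberHomeo (f x)).isOpen_image,
      Set.image_singleton, Scheme.Hom.asFiber, Homeomorph.apply_symm_apply]
    obtain ⟨O, hOo, hxO, hO⟩ := mem_nhdsWithin.1 (show ({x} : Set X) ∈ nhdsWithin x (f ⁻¹' {f x}) by
      rw [hx]; exact Set.mem_singleton x)
    convert hOo.preimage continuous_subtype_val using 1
    ext z
    simp only [Set.mem_singleton_iff, Set.mem_preimage]
    exact ⟨fun h => h ▸ hxO, fun h => Subtype.ext (hO ⟨h, z.2⟩)⟩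
  let U := f.quasiFiniteLocus
  let g : U.toScheme ⟶ Y := U.ι ≫ f
  haveI : LocallyQuasiFinite g := by
    refine locallyQuasiFinite_iff_isDiscrete_preimage_singleton.2 fun y => ?_
    rw [isDiscrete_iff_discreteTopology, discreteTopology_iff_isOpen_singleton]
    rintro ⟨z, hz⟩
    obtain rfl : g z = y := hz
    have hzq : g.QuasiFiniteAt z := Scheme.Hom.quasiFiniteAt_comp_iff_of_isOpenImmersion.2 z.2
    rw [Scheme.Hom.quasiFiniteAt_iff_isOpen_singleton_asFiber, ← (g.fiberHomeo (g z)).isOpen_image,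
      Set.image_singleton, Scheme.Hom.asFiber, Homeomorph.apply_symm_apply] at hzq
    exact hzq
  haveI : Nonempty U.toScheme := ⟨⟨x, hxq⟩⟩
  haveI : IrreducibleSpace U.toScheme := U.ι.isOpenEmbedding.irreducibleSpace
  have hdU : DenseRange g := by
    have h1 : Dense (U : Set X) := U.isOpen.dense ⟨x, hxq⟩
    exact (hd.comp (show DenseRange U.ι by rw [DenseRange, Scheme.Opens.range_ι]; exact h1) f.continuous :)
  intro N hN
  refine Filter.mem_of_superset (isOpenAt_locallyQuasiFinite g hdU ⟨x, hxq⟩ hy (U.ι ⁻¹' N)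
    (U.ι.continuous.continuousAt.preimage_mem_nhds hN)) ?_
  rintro _ ⟨z, hz, rfl⟩
  exact ⟨U.ι z, hz, rfl⟩

end Groth.L06.UnibranchOpenInt
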