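import Groth.Agent.L06.QFDenseFinite
import Groth.Agent.L06.Unibranch
import Groth.Agent.L07.UnivOpenAt
import Mathlib.RingTheory.IntegralClosure.GoingDown
import Mathlib.RingTheory.IntegralClosure.IntegrallyClosed
import Mathlib.AlgebraicGeometry.Properties

/-! A quasi-finite dominant morphism of irreducible schemes is open over unibranch points. -/

set_option autoImplicit false
set_option maxSynthPendingDepth 3
set_option linter.style.haveILetI false
set_option backward.isDefEq.respectTransparency.types false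
set_option backward.isDefEq.respectTransparency false

universe u

open CategoryTheory CategoryTheory.Limits AlgebraicGeometry TopologicalSpace Topology

noncomputable section

namespace Groth.L06.UnibranchOpenQF

/-- Going down for an integral extension of domains at a prime with a single prime above it in the
normalization. -/
theorem exists_le_comap_eq {A S : Type u} [CommRing A] [IsDomain A] [CommRing S] [IsDomain S] [Algebra A S]
    [Algebra.IsIntegral A S] [FaithfulSMul A S] (p : Ideal A) [p.IsPrime]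
    (huniq : ∀ P P' : Ideal (integralClosure A (FractionRing A)), P.IsPrime → P'.IsPrime →
      P.comap (algebraMap A (integralClosure A (FractionRing A))) = p →
      P'.comap (algebraMap A (integralClosure A (FractionRing A))) = p → P = P')
    (q : Ideal S) [q.IsPrime] (hq : q.comap (algebraMap A S) = p) (p' : Ideal A) [p'.IsPrime] (hp' : p' ≤ p) :
    ∃ q' : Ideal S, q'.IsPrime ∧ q' ≤ q ∧ q'.comap (algebraMap A S) = p' := by
  let K := FractionRing A
  let L := FractionRing S
  letI : Algebra K L := (IsFractionRing.lift (A := A) (K := K) (g := algebraMap A L)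
    (FaithfulSMul.algebraMap_injective A L)).toAlgebra
  haveI : IsScalarTower A K L := IsScalarTower.of_algebraMap_eq fun a =>
    (IsFractionRing.lift_algebraMap (FaithfulSMul.algebraMap_injective A L) a).symm
  let C := integralClosure A K
  let T := integralClosure A L
  haveI : IsIntegrallyClosed C := integralClosure.isIntegrallyClosedOfFiniteExtension K
  let ψ : C →+* T :=
    { toFun := fun c => ⟨algebraMap K L c.1, IsIntegral.map (IsScalarTower.toAlgHom A K L) c.2⟩
      map_one' := Subtype.ext (map_one (algebraMap K L))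
      map_mul' := fun a b => Subtype.ext (map_mul (algebraMap K L) a.1 b.1)
      map_zero' := Subtype.ext (map_zero (algebraMap K L))
      map_add' := fun a b => Subtype.ext (map_add (algebraMap K L) a.1 b.1) }
  let ι : S →+* T :=
    { toFun := fun s => ⟨algebraMap S L s, IsIntegral.map (IsScalarTower.toAlgHom A S L) (Algebra.IsIntegral.isIntegral s)⟩
      map_one' := Subtype.ext (map_one (algebraMap S L))
      map_mul' := fun a b => Subtype.ext (map_mul (algebraMap S L) a b)
      map_zero' := Subtype.ext (map_zero (algebraMap S L))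
      map_add' := fun a b => Subtype.ext (map_add (algebraMap S L) a b) }
  letI : Algebra C T := ψ.toAlgebra
  letI : Algebra S T := ι.toAlgebra
  haveI : IsScalarTower A C T := IsScalarTower.of_algebraMap_eq fun a =>
    Subtype.ext (IsScalarTower.algebraMap_apply A K L a)
  haveI : IsScalarTower A S T := IsScalarTower.of_algebraMap_eq fun a =>
    Subtype.ext (IsScalarTower.algebraMap_apply A S L a)
  haveI : Algebra.IsIntegral C T := Algebra.IsIntegral.tower_top (R := A)
  haveI : Algebra.IsIntegral S T := Algebra.IsIntegral.tower_top (R := A)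
  haveI : FaithfulSMul C T := (faithfulSMul_iff_algebraMap_injective C T).2 fun a b h =>
    Subtype.ext ((algebraMap K L).injective (congrArg Subtype.val h))
  have hιk : (⊥ : Ideal T).comap (algebraMap S T) ≤ q := fun s hs => by
    have : algebraMap S L s = 0 := congrArg Subtype.val (Ideal.mem_bot.1 hs)
    rw [(IsFractionRing.injective S L) (this.trans (map_zero _).symm)]
    exact zero_mem _
  obtain ⟨Q, -, hQp, hQ⟩ := Ideal.exists_ideal_over_prime_of_isIntegral q (⊥ : Ideal T) hιk
  haveI := hQp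
  let PQ := Q.comap (algebraMap C T)
  have hPQ : PQ.comap (algebraMap A C) = p := by
    rw [Ideal.comap_comap, ← IsScalarTower.algebraMap_eq, IsScalarTower.algebraMap_eq A S T, ← Ideal.comap_comap,
      hQ, hq]
  have hCk : (⊥ : Ideal C).comap (algebraMap A C) ≤ p' := fun a ha => by
    have : algebraMap A K a = 0 := congrArg Subtype.val (Ideal.mem_bot.1 ha)
    rw [(IsFractionRing.injective A K) (this.trans (map_zero _).symm)]
    exact zero_mem _
  obtain ⟨P₁, -, hP₁p, hP₁⟩ := Ideal.exists_ideal_over_prime_of_isIntegral p' (⊥ : Ideal C) hCk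
  haveI := hP₁p
  obtain ⟨P₂, hP₁₂, hP₂p, hP₂⟩ := Ideal.exists_ideal_over_prime_of_isIntegral p P₁ (hP₁.le.trans hp')
  haveI := hP₂p
  have heq : P₂ = PQ := huniq P₂ PQ hP₂p (Ideal.comap_isPrime _ _) hP₂ hPQ
  haveI : Q.LiesOver PQ := ⟨rfl⟩
  obtain ⟨Q', hQ'le, hQ'p, hQ'⟩ := Ideal.exists_ideal_le_liesOver_of_le (p := P₁) (q := PQ) Q (heq ▸ hP₁₂)
  haveI := hQ'p
  refine ⟨Q'.comap (algebraMap S T), Ideal.comap_isPrime _ _, hQ ▸ Ideal.comap_mono hQ'le, ?_⟩
  rw [Ideal.comap_comap, ← IsScalarTower.algebraMap_eq, IsScalarTower.algebraMap_eq A C T, ← Ideal.comap_comap,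
    show Ideal.comap (algebraMap C T) Q' = P₁ from hQ'.over.symm, hP₁]

/-- Unibranchness of a local ring gives a single prime in the normalization. -/
theorem prime_unique {A : Type u} [CommRing A] (p₀ : Ideal A) [p₀.IsPrime]
    (hle : ∀ p : Ideal A, p.IsPrime → p₀ ≤ p) (p : Ideal A) [p.IsPrime] (R : Type u) [CommRing R]
    [IsLocalRing R] [Algebra A R] [IsLocalization.AtPrime R p] (h : CAlg2.IsUnibranch R)
    (P P' : Ideal (integralClosure (A ⧸ p₀) (FractionRing (A ⧸ p₀)))) (hP : P.IsPrime) (hP' : P'.IsPrime)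
    (h1 : P.comap (algebraMap (A ⧸ p₀) _) = p.map (Ideal.Quotient.mk p₀))
    (h2 : P'.comap (algebraMap (A ⧸ p₀) _) = p.map (Ideal.Quotient.mk p₀)) : P = P' := by
  let B := A ⧸ p₀
  let K := FractionRing B
  let C := integralClosure B K
  let f : A →+* C := (algebraMap B C).comp (Ideal.Quotient.mk p₀)
  letI : Algebra A C := f.toAlgebra
  haveI : IsScalarTower A B C := IsScalarTower.of_algebraMap_eq fun _ => rfl
  haveI : IsIntegrallyClosed C := integralClosure.isIntegrallyClosedOfFiniteExtension K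
  haveI : Algebra.IsIntegral A C := ⟨fun c => isIntegral_trans (R := A) (A := B) c (Algebra.IsIntegral.isIntegral c)⟩
  have hcomap : ∀ (P : Ideal C), P.comap (algebraMap B C) = p.map (Ideal.Quotient.mk p₀) →
      P.comap (algebraMap A C) = p := fun P hP => by
    show P.comap f = p
    rw [← Ideal.comap_comap, hP, Ideal.comap_map_of_surjective _ Ideal.Quotient.mk_surjective,
      ← RingHom.ker_eq_comap_bot, Ideal.mk_ker]
    exact sup_eq_left.2 (hle p ‹_›)
  let M := Algebra.algebraMapSubmonoid C p.primeCompl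
  have hdisj : ∀ (P : Ideal C), P.comap (algebraMap A C) = p → Disjoint (M : Set C) (P : Set C) := by
    rintro P hP
    rw [Set.disjoint_left]
    rintro _ ⟨a, ha, rfl⟩ hc
    exact ha (hP.le hc)
  have hM : M ≤ nonZeroDivisors C := by
    rintro _ ⟨a, ha, rfl⟩
    refine mem_nonZeroDivisors_of_ne_zero fun h0 => ha (hle p ‹_› ?_)
    have : algebraMap B K (Ideal.Quotient.mk p₀ a) = 0 := congrArg Subtype.val h0
    exact Ideal.Quotient.eq_zero_iff_mem.1 ((IsFractionRing.injective B K) (this.trans (map_zero _).symm))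
  let N := Localization M
  haveI : IsDomain N := IsLocalization.isDomain_localization hM
  haveI : IsIntegrallyClosed N := isIntegrallyClosed_of_isLocalization N M hM
  let φ : R →+* N := IsLocalization.map (T := M) N (algebraMap A C) p.primeCompl.le_comap_map
  have hφ : ∀ a, φ (algebraMap A R a) = algebraMap C N (algebraMap A C a) := IsLocalization.map_eq _
  have hint : φ.IsIntegral := isIntegral_localization
  have hinjN : Function.Injective (algebraMap C N) := IsLocalization.injective N hM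
  have hker : RingHom.ker φ ≤ nilradical R := fun x hx => by
    obtain ⟨⟨a, s⟩, hs⟩ := IsLocalization.surj p.primeCompl x
    have h0 : algebraMap C N (algebraMap A C a) = 0 := by
      rw [← hφ, ← hs, map_mul, RingHom.mem_ker.1 hx, zero_mul]
    have h0' : algebraMap A C a = 0 := hinjN (h0.trans (map_zero _).symm)
    have ha : a ∈ p₀ := Ideal.Quotient.eq_zero_iff_mem.1
      ((IsFractionRing.injective B K) ((congrArg Subtype.val h0').trans (map_zero _).symm))
    have hnil : IsNilpotent a := nilpotent_iff_mem_prime.2 fun Q hQ => hle Q hQ ha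
    have : IsNilpotent (x * algebraMap A R s) := hs ▸ hnil.map (algebraMap A R)
    obtain ⟨n, hn⟩ := this
    refine ⟨n, ?_⟩
    rw [mul_pow] at hn
    exact ((IsLocalization.map_units R s).pow n).mul_left_eq_zero.1 hn
  have hbir : ∀ x : N, ∃ b a : R, φ b ≠ 0 ∧ φ b * x = φ a := fun x => by
    obtain ⟨⟨c, ⟨_, s, hs, rfl⟩⟩, hx⟩ := IsLocalization.surj M x
    obtain ⟨⟨num, den⟩, hc⟩ := IsLocalization.surj (nonZeroDivisors B) c.1
    obtain ⟨d, hd⟩ := Ideal.Quotient.mk_surjective (den : B)
    obtain ⟨a, rfl⟩ := Ideal.Quotient.mk_surjective num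
    have e : algebraMap A C d * c = algebraMap A C a := Subtype.ext (by
      show algebraMap B K (Ideal.Quotient.mk p₀ d) * c.1 = algebraMap B K (Ideal.Quotient.mk p₀ a)
      rw [hd, mul_comm]
      exact hc)
    refine ⟨algebraMap A R (d * s), algebraMap A R a, ?_, ?_⟩
    · rw [hφ, map_ne_zero_iff _ hinjN, map_mul]
      refine mul_ne_zero (fun h0 => nonZeroDivisors.ne_zero den.2 ?_) fun h0 =>
        nonZeroDivisors.ne_zero (hM ⟨s, hs, rfl⟩) h0
      rw [← hd]
      exact (IsFractionRing.injective B K) ((congrArg Subtype.val h0).trans (map_zero _).symm)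
    · rw [hφ, hφ, map_mul, map_mul, mul_assoc, mul_comm _ x, hx, ← map_mul, e]
  haveI : IsLocalRing N := (Groth.L06.Unibranch.isUnibranch_iff φ hint hker hbir).1 h
  have key : ∀ (Q : Ideal C), Q.IsPrime → Q.comap (algebraMap B C) = p.map (Ideal.Quotient.mk p₀) →
      Q = (IsLocalRing.maximalIdeal N).comap (algebraMap C N) := fun Q hQ hQp => by
    haveI := hQ
    have hd := hdisj Q (hcomap Q hQp)
    haveI : (Q.map (algebraMap C N)).IsPrime := IsLocalization.isPrime_of_isPrime_disjoint M N Q hQ hd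
    have hQQ : (Q.map (algebraMap C N)).comap (algebraMap C N) = Q :=
      IsLocalization.comap_map_of_isPrime_disjoint M N hQ hd
    have hmax : ((Q.map (algebraMap C N)).comap φ).IsMaximal := by
      have : (Q.map (algebraMap C N)).comap φ = IsLocalRing.maximalIdeal R := by
        rw [← IsLocalization.map_under p.primeCompl R ((Q.map (algebraMap C N)).comap φ),
          ← IsLocalization.map_under p.primeCompl R (IsLocalRing.maximalIdeal R)]
        congr 1
        show Ideal.comap (algebraMap A R) _ = Ideal.comap (algebraMap A R) _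
        rw [Ideal.comap_comap, show φ.comp (algebraMap A R) = (algebraMap C N).comp (algebraMap A C) from
          RingHom.ext hφ, ← Ideal.comap_comap, hQQ, hcomap Q hQp]
        exact (IsLocalization.AtPrime.under_maximalIdeal R p).symm
      rw [this]
      exact IsLocalRing.maximalIdeal.isMaximal R
    rw [← IsLocalRing.eq_maximalIdeal (Ideal.isMaximal_of_isIntegral_of_isMaximal_comap' φ hint _ hmax), hQQ]
  rw [key P hP h1, key P' hP' h2]

/-- Going down at a unibranch point, for integral algebras with a dominant component. -/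
theorem exists_generization {A S : Type u} [CommRing A] [CommRing S] [Algebra A S] [Algebra.IsIntegral A S]
    (p₀ : Ideal A) [p₀.IsPrime] (hle : ∀ p : Ideal A, p.IsPrime → p₀ ≤ p)
    (Q₀ q : Ideal S) [Q₀.IsPrime] [q.IsPrime] (hQq : Q₀ ≤ q) (hQ₀ : Q₀.comap (algebraMap A S) = p₀)
    (R : Type u) [CommRing R] [IsLocalRing R] [Algebra A R]
    [IsLocalization.AtPrime R (q.comap (algebraMap A S))] (h : CAlg2.IsUnibranch R)
    (p' : Ideal A) [p'.IsPrime] (hp' : p' ≤ q.comap (algebraMap A S)) :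
    ∃ q' : Ideal S, q'.IsPrime ∧ q' ≤ q ∧ q'.comap (algebraMap A S) = p' := by
  letI : Algebra (A ⧸ p₀) (S ⧸ Q₀) := (Ideal.quotientMap Q₀ (algebraMap A S) hQ₀.ge).toAlgebra
  haveI : IsScalarTower A (A ⧸ p₀) (S ⧸ Q₀) := IsScalarTower.of_algebraMap_eq fun a => rfl
  haveI : Algebra.IsIntegral (A ⧸ p₀) (S ⧸ Q₀) := Algebra.IsIntegral.tower_top (R := A)
  haveI : FaithfulSMul (A ⧸ p₀) (S ⧸ Q₀) := (faithfulSMul_iff_algebraMap_injective _ _).2
    (Ideal.quotientMap_injective' (J := p₀) (I := Q₀) (f := algebraMap A S) (H := hQ₀.ge) hQ₀.le)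
  have hcm : ∀ {T : Type u} [CommRing T] (I J : Ideal T), I ≤ J →
      (J.map (Ideal.Quotient.mk I)).comap (Ideal.Quotient.mk I) = J := fun {T} _ I J hIJ => by
    rw [Ideal.comap_map_of_surjective _ Ideal.Quotient.mk_surjective, ← RingHom.ker_eq_comap_bot, Ideal.mk_ker]
    exact sup_eq_left.2 hIJ
  haveI : (q.map (Ideal.Quotient.mk Q₀)).IsPrime :=
    Ideal.map_isPrime_of_surjective Ideal.Quotient.mk_surjective (by rw [Ideal.mk_ker]; exact hQq)
  haveI : (p'.map (Ideal.Quotient.mk p₀)).IsPrime :=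
    Ideal.map_isPrime_of_surjective Ideal.Quotient.mk_surjective (by rw [Ideal.mk_ker]; exact hle p' ‹_›)
  haveI : ((q.comap (algebraMap A S)).map (Ideal.Quotient.mk p₀)).IsPrime :=
    Ideal.map_isPrime_of_surjective Ideal.Quotient.mk_surjective
      (by rw [Ideal.mk_ker]; exact hle _ (Ideal.comap_isPrime _ _))
  obtain ⟨q', hq', hq'le, hq'c⟩ := exists_le_comap_eq ((q.comap (algebraMap A S)).map (Ideal.Quotient.mk p₀))
    (prime_unique p₀ hle (q.comap (algebraMap A S)) R h) (q.map (Ideal.Quotient.mk Q₀))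
    (by
      apply Ideal.comap_injective_of_surjective (Ideal.Quotient.mk p₀) Ideal.Quotient.mk_surjective
      rw [hcm p₀ _ (hle _ (Ideal.comap_isPrime _ _)), Ideal.comap_comap]
      show Ideal.comap ((Ideal.Quotient.mk Q₀).comp (algebraMap A S)) _ = _
      rw [← Ideal.comap_comap, hcm Q₀ q hQq])
    (p'.map (Ideal.Quotient.mk p₀)) (Ideal.map_mono hp')
  haveI := hq'
  refine ⟨q'.comap (Ideal.Quotient.mk Q₀), Ideal.comap_isPrime _ _, hcm Q₀ q hQq ▸ Ideal.comap_mono hq'le, ?_⟩
  rw [Ideal.comap_comap]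
  show Ideal.comap ((algebraMap (A ⧸ p₀) (S ⧸ Q₀)).comp (Ideal.Quotient.mk p₀)) q' = p'
  rw [← Ideal.comap_comap, hq'c, hcm p₀ p' (hle p' ‹_›)]

theorem isOpenAt {X Y : Scheme.{u}} [IrreducibleSpace X] [IrreducibleSpace Y] (f : X ⟶ Y)
    [LocallyOfFinitePresentation f] [LocallyQuasiFinite f] [IsDominant f] (x : X)
    (hy : CAlg2.IsUnibranch (Y.presheaf.stalk (f x))) : EGA43.IsOpenAt f.base x := by
  refine Groth.L07.UnivOpenAt.isOpenAt_of_lfp f x fun N hN y' hy' => ?_
  obtain ⟨N', hN', hN'o, hxN'⟩ := mem_nhds_iff.1 hN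
  suffices h : ∃ x', x' ⤳ x ∧ f x' = y' by
    obtain ⟨x', hx', hfx'⟩ := h
    exact ⟨x', hN' (hx'.mem_open hN'o hxN'), hfx'⟩
  obtain ⟨U, hU, hxU, -⟩ := exists_isAffineOpen_mem_and_subset (U := ⊤) (x := f x) trivial
  obtain ⟨W, Z, g, r, hxW, hg, hr, he⟩ := QFDenseFinite.exists_piece f hU x hxU
  haveI : IsAffine U.toScheme := hU
  haveI : IsAffine Z := isAffine_of_isAffineHom r
  obtain ⟨ψ, hψ⟩ := Spec.map_surjective (Z.isoSpec.inv ≫ r ≫ hU.isoSpec.hom)
  haveI : IsFinite (Spec.map ψ) := hψ ▸ inferInstance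
  algebraize [ψ.hom]
  haveI : Module.Finite Γ(Y, U) Γ(Z, ⊤) := RingHom.finite_algebraMap.1 ((IsFinite.SpecMap_iff _).1 ‹_›)
  let j : W.toScheme ⟶ Spec Γ(Z, ⊤) := g ≫ Z.isoSpec.hom
  have hj : W.ι ≫ f = j ≫ Spec.map ψ ≫ hU.fromSpec := by
    rw [he, hψ, ← hU.isoSpec_inv_ι]
    simp [j]
  have hjx : ∀ w : W.toScheme, f (W.ι w) = hU.fromSpec (Spec.map ψ (j w)) := fun w => congr($hj w)
  have hξ : genericPoint X ⤳ x := genericPoint_specializes x
  let ξ' : W.toScheme := ⟨genericPoint X, hξ.mem_open W.isOpen hxW⟩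
  have hξ' : ξ' ⤳ (⟨x, hxW⟩ : W.toScheme) := W.ι.isOpenEmbedding.isInducing.specializes_iff.1 hξ
  have hgen : f (genericPoint X) = genericPoint Y := by
    have h1 := (genericPoint_spec X).image f.continuous
    have hd : closure (f '' Set.univ) = Set.univ := by
      rw [Set.image_univ]
      exact f.denseRange.closure_range
    rw [hd] at h1
    exact h1.eq (genericPoint_spec Y)
  let P : PrimeSpectrum Γ(Z, ⊤) := j ξ'
  let Q : PrimeSpectrum Γ(Z, ⊤) := j ⟨x, hxW⟩
  haveI := P.2
  haveI := Q.2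
  have hle : ∀ p : Ideal Γ(Y, U), p.IsPrime → P.asIdeal.comap (algebraMap Γ(Y, U) Γ(Z, ⊤)) ≤ p := fun p hp => by
    refine (PrimeSpectrum.le_iff_specializes (PrimeSpectrum.comap (algebraMap Γ(Y, U) Γ(Z, ⊤)) P) ⟨p, hp⟩).2
      (hU.fromSpec.isOpenEmbedding.isInducing.specializes_iff.1 ?_)
    have : hU.fromSpec (Spec.map ψ (j ξ')) = genericPoint Y := (hjx ξ').symm.trans hgen
    exact this ▸ genericPoint_specializes _
  have hPQ : P.asIdeal ≤ Q.asIdeal :=
    (PrimeSpectrum.le_iff_specializes P Q).2 (hξ'.map j.continuous)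
  obtain ⟨p', hp'⟩ : y' ∈ Set.range hU.fromSpec := by
    rw [hU.range_fromSpec]
    exact hy'.mem_open U.isOpen hxU
  have hyQ : f x = hU.fromSpec (Spec.map ψ Q) := hjx ⟨x, hxW⟩
  have hmem : hU.fromSpec (Spec.map ψ Q) ∈ U := hU.range_fromSpec.le ⟨_, rfl⟩
  haveI : (Ideal.comap (algebraMap Γ(Y, U) Γ(Z, ⊤)) Q.asIdeal).IsPrime := Ideal.comap_isPrime _ _
  let R := Y.presheaf.stalk (hU.fromSpec (Spec.map ψ Q))
  letI : Algebra Γ(Y, U) R := (Y.presheaf.germ U _ hmem).hom.toAlgebra
  haveI : IsLocalization.AtPrime R (Ideal.comap (algebraMap Γ(Y, U) Γ(Z, ⊤)) Q.asIdeal) :=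
    hU.isLocalization_stalk' (Spec.map ψ Q) hmem
  have hu : CAlg2.IsUnibranch R := by
    clear_value Q
    show CAlg2.IsUnibranch (Y.presheaf.stalk (hU.fromSpec (Spec.map ψ Q)))
    exact hyQ ▸ hy
  haveI := p'.2
  obtain ⟨q', hq', hq'le, hq'c⟩ := exists_generization (A := Γ(Y, U)) (S := Γ(Z, ⊤))
    (P.asIdeal.comap (algebraMap Γ(Y, U) Γ(Z, ⊤))) hle P.asIdeal Q.asIdeal hPQ rfl R hu p'.asIdeal (by
      refine (PrimeSpectrum.le_iff_specializes p' (PrimeSpectrum.comap (algebraMap Γ(Y, U) Γ(Z, ⊤)) Q)).2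
        (hU.fromSpec.isOpenEmbedding.isInducing.specializes_iff.1 ?_)
      rw [hp']
      exact hyQ ▸ hy')
  have hsp : (⟨q', hq'⟩ : PrimeSpectrum Γ(Z, ⊤)) ⤳ Q := (PrimeSpectrum.le_iff_specializes _ Q).1 hq'le
  obtain ⟨w, hw⟩ : (⟨q', hq'⟩ : PrimeSpectrum Γ(Z, ⊤)) ∈ Set.range j :=
    hsp.mem_open j.isOpenEmbedding.isOpen_range ⟨_, rfl⟩
  refine ⟨W.ι w, ?_, ?_⟩
  · refine Specializes.map (y := (⟨x, hxW⟩ : W.toScheme)) ?_ W.ι.continuous
    refine j.isOpenEmbedding.isInducing.specializes_iff.1 ?_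
    rw [hw]
    exact hsp
  · rw [hjx, hw, ← hp']
    exact congrArg hU.fromSpec (PrimeSpectrum.ext hq'c)

end Groth.L06.UnibranchOpenQF
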