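import Groth.Prelude.Def_CAlg2
import Groth.Prelude.Def_Hensel
import Groth.Agent.L23.GeomUnibranchSH
import Groth.Agent.L05.Henselization.UnibranchScheme
import Groth.Agent.L05.Henselization.Strict
import Groth.Agent.L20.WeaklyEtaleStalk
import Groth.Agent.L27.IndEtale
import Groth.Agent.L05.Point.UnramFlat
import Groth.Agent.L06.RegularSeqCodim
import Groth.Agent.L06.UnibranchPolynomial
import Groth.Agent.L07.ParaF.Stalks
import Groth.Agent.S0538
import Groth.Agent.S0539
import Groth.Agent.S0540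
import Groth.Agent.S0541

/-!
# Geometric unibranchness and connectedness of punctured strict henselizations
-/

set_option autoImplicit false
set_option maxSynthPendingDepth 3
set_option linter.style.haveILetI false

universe u

open CategoryTheory AlgebraicGeometry IsLocalRing Groth.L05.Henselization

noncomputable section

namespace Groth.L06.UnibranchPunctured

theorem connected_punctured {B : Type u} [CommRing B] [IsLocalRing B] (h : CAlgX.HasUniqueMinimalPrime B)
    (y : PrimeSpectrum B) (hy : y ≠ closedPoint B) :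
    ConnectedSpace ↥({closedPoint B}ᶜ : Set (PrimeSpectrum B)) := by
  have hN : (nilradical B).IsPrime := (Groth.L23.SH.hasUniqueMinimalPrime_iff B).1 h
  haveI : Nonempty ↥({closedPoint B}ᶜ : Set (PrimeSpectrum B)) := ⟨⟨y, hy⟩⟩
  let η : PrimeSpectrum B := ⟨nilradical B, hN⟩
  have hsp : ∀ z : PrimeSpectrum B, η ⤳ z := fun z =>
    (PrimeSpectrum.le_iff_specializes η z).1 (nilradical_le_prime z.asIdeal)
  have hη : η ≠ closedPoint B := fun e => hy <| le_antisymm (le_maximalIdeal y.2.ne_top) <| by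
    rw [← e]; exact nilradical_le_prime y.asIdeal
  haveI : PreconnectedSpace ↥({closedPoint B}ᶜ : Set (PrimeSpectrum B)) :=
    isPreconnected_iff_preconnectedSpace.1 (isPreconnected_singleton.subset_closure
      (Set.singleton_subset_iff.2 hη) fun z _ => specializes_iff_mem_closure.1 (hsp z))
  exact ⟨inferInstance⟩

theorem hasUnique_of_punctured {B : Type u} [CommRing B] [IsLocalRing B] [IsNoetherianRing B]
    (hc : _root_.IsPreconnected ({closedPoint B}ᶜ : Set (PrimeSpectrum B)))
    (hu : ∀ y : PrimeSpectrum B, y ≠ closedPoint B → ∀ Q₁ ∈ minimalPrimes B, ∀ Q₂ ∈ minimalPrimes B,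
      Q₁ ≤ y.asIdeal → Q₂ ≤ y.asIdeal → Q₁ = Q₂) : CAlgX.HasUniqueMinimalPrime B := by
  obtain ⟨Q₁, hQ₁, -⟩ := Ideal.exists_minimalPrimes_le (I := (⊥ : Ideal B)) (J := maximalIdeal B) bot_le
  refine ⟨Q₁, hQ₁, fun Q₂ hQ₂ => ?_⟩
  by_contra hne
  haveI := hQ₁.isPrime
  haveI := hQ₂.isPrime
  have key : ∀ Q ∈ minimalPrimes B, ∀ Q' ∈ minimalPrimes B, Q ≠ Q' → Q ≠ maximalIdeal B := by
    intro Q hQ Q' hQ' hn he
    exact hn (le_antisymm (hQ.2 ⟨hQ'.isPrime, bot_le⟩ (he ▸ le_maximalIdeal hQ'.isPrime.ne_top))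
      (he ▸ le_maximalIdeal hQ'.isPrime.ne_top))
  let S : Set (Ideal B) := minimalPrimes B \ {Q₁}
  have hSfin : S.Finite := (minimalPrimes.finite_of_isNoetherianRing B).subset Set.sdiff_subset
  let t : Set (PrimeSpectrum B) := PrimeSpectrum.zeroLocus (Q₁ : Set B)
  let t' : Set (PrimeSpectrum B) := ⋃ Q ∈ S, PrimeSpectrum.zeroLocus (Q : Set B)
  have hcov : ({closedPoint B}ᶜ : Set (PrimeSpectrum B)) ⊆ t ∪ t' := fun z _ => by
    obtain ⟨Q, hQ, hQz⟩ := Ideal.exists_minimalPrimes_le (I := (⊥ : Ideal B)) (J := z.asIdeal) bot_le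
    by_cases h : Q = Q₁
    · subst h
      exact Or.inl hQz
    · exact Or.inr (Set.mem_biUnion (show Q ∈ S from ⟨hQ, h⟩) hQz)
  obtain ⟨z, hz, hz1, hz2⟩ := isPreconnected_closed_iff.1 hc t t' (PrimeSpectrum.isClosed_zeroLocus _)
    (hSfin.isClosed_biUnion fun Q _ => PrimeSpectrum.isClosed_zeroLocus _) hcov
    ⟨⟨Q₁, inferInstance⟩, fun h => key Q₁ hQ₁ Q₂ hQ₂ (Ne.symm hne) (congrArg PrimeSpectrum.asIdeal h),
      (PrimeSpectrum.mem_zeroLocus _ _).2 subset_rfl⟩
    ⟨⟨Q₂, inferInstance⟩, fun h => key Q₂ hQ₂ Q₁ hQ₁ hne (congrArg PrimeSpectrum.asIdeal h),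
      Set.mem_biUnion (show Q₂ ∈ S from ⟨hQ₂, hne⟩) ((PrimeSpectrum.mem_zeroLocus _ _).2 subset_rfl)⟩
  obtain ⟨Q, ⟨hQ, hQne⟩, hQz⟩ := Set.mem_iUnion₂.1 hz2
  exact hQne (hu z hz Q hQ Q₁ hQ₁ hQz hz1)

/-- The inductive step. -/
theorem isGeomUnibranch_of_punctured (A : Type u) [CommRing A] [IsLocalRing A] [IsNoetherianRing A]
    (hloc : ∀ (P : Ideal A) [P.IsPrime], P ≠ maximalIdeal A → CAlg2.IsGeomUnibranch (Localization.AtPrime P))
    (hc : (∃ P : Ideal A, P.IsPrime ∧ P ≠ maximalIdeal A) →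
      ∀ (Ash : Type u) [CommRing Ash] [IsLocalRing Ash] [Algebra A Ash] [IsLocalHom (algebraMap A Ash)]
        [Hensel.IsStrictHenselization A Ash],
        _root_.IsPreconnected ({closedPoint Ash}ᶜ : Set (PrimeSpectrum Ash))) :
    CAlg2.IsGeomUnibranch A := by
  obtain ⟨S, _, _, _, _, hS⟩ := exists_isStrictHenselization A
  rw [Groth.L23.SH.isGeomUnibranch_iff_uniqueMinimal (S := S)]
  haveI : IsNoetherianRing S := (Groth.Agent.S0540.result A S).1 ‹_›
  haveI : Module.FaithfullyFlat A S := Groth.Agent.S0539.result A S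
  have hover : ∀ y : PrimeSpectrum S, y.asIdeal.comap (algebraMap A S) = maximalIdeal A → y = closedPoint S := by
    intro y hy
    refine PrimeSpectrum.ext ((eq_maximalIdeal ?_))
    have h : maximalIdeal S ≤ y.asIdeal := by
      rw [← Groth.Agent.S0538.result A S, Ideal.map_le_iff_le_comap, hy]
    rw [← le_antisymm h (le_maximalIdeal y.2.ne_top)]
    exact maximalIdeal.isMaximal S
  by_cases hP : ∃ P : Ideal A, P.IsPrime ∧ P ≠ maximalIdeal A
  · refine hasUnique_of_punctured (hc hP S) fun y hy Q₁ hQ₁ Q₂ hQ₂ h₁ h₂ => ?_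
    let P := y.asIdeal.comap (algebraMap A S)
    have hPm : P ≠ maximalIdeal A := fun h => hy (hover y h)
    haveI : Algebra.WeaklyEtale A S :=
      Groth.L27.IndEtale.weaklyEtale A S (isIndEtale_of_isStrictHenselization A S)
    let Ap := Localization.AtPrime P
    let Bq := Localization.AtPrime y.asIdeal
    let φ : Ap →+* Bq := Localization.localRingHom P y.asIdeal (algebraMap A S) rfl
    letI : Algebra Ap Bq := φ.toAlgebra
    haveI : IsLocalHom (algebraMap Ap Bq) := Localization.isLocalHom_localRingHom P y.asIdeal (algebraMap A S) rfl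
    haveI : IsScalarTower A Ap Bq := IsScalarTower.of_algebraMap_eq fun a => by
      show algebraMap A Bq a = φ (algebraMap A Ap a)
      rw [Localization.localRingHom_to_map, ← IsScalarTower.algebraMap_apply]
    haveI : Algebra.WeaklyEtale Ap Bq :=
      Groth.L20.weaklyEtale_of_isLocalization (A := A) (B := S) P.primeCompl y.asIdeal.primeCompl Ap Bq
    haveI hN : (nilradical Bq).IsPrime := Branches.isPrime_nilradical_of_weaklyEtale Ap Bq (hloc P hPm)
    have key : ∀ Q ∈ minimalPrimes S, Q ≤ y.asIdeal → (nilradical Bq).comap (algebraMap S Bq) = Q := by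
      intro Q hQ hQy
      haveI := hQ.isPrime
      have hdis : Disjoint (y.asIdeal.primeCompl : Set S) (Q : Set S) := Set.disjoint_left.2 fun s hs hsQ => hs (hQy hsQ)
      haveI : (Q.map (algebraMap S Bq)).IsPrime := IsLocalization.isPrime_of_isPrime_disjoint _ Bq Q hQ.isPrime hdis
      have hle : (nilradical Bq).comap (algebraMap S Bq) ≤ Q :=
        (Ideal.comap_mono (nilradical_le_prime _)).trans
          (IsLocalization.comap_map_of_isPrime_disjoint _ Bq hQ.isPrime hdis).le
      exact le_antisymm hle (hQ.2 ⟨Ideal.comap_isPrime _ _, bot_le⟩ hle)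
    rw [← key Q₁ hQ₁ h₁, ← key Q₂ hQ₂ h₂]
  · push_neg at hP
    have hall : ∀ y : PrimeSpectrum S, y = closedPoint S := fun y => hover y (hP _ (Ideal.comap_isPrime _ _))
    exact ⟨maximalIdeal S, ⟨⟨(maximalIdeal.isMaximal S).isPrime, bot_le⟩, fun Q hQ _ =>
      (congrArg PrimeSpectrum.asIdeal (hall ⟨Q, hQ.1⟩)).ge⟩,
      fun Q hQ => congrArg PrimeSpectrum.asIdeal (hall ⟨Q, hQ.isPrime⟩)⟩

set_option backward.isDefEq.respectTransparency false in
set_option backward.isDefEq.respectTransparency.types false in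
theorem geomUnibranch_fromSpecStalk {X : Scheme.{u}} (x : X) (P : PrimeSpectrum (X.presheaf.stalk x))
    (h : CAlg2.IsGeomUnibranch (X.presheaf.stalk (X.fromSpecStalk x P))) :
    CAlg2.IsGeomUnibranch (Localization.AtPrime P.asIdeal) := by
  let p : ↥(Spec (X.presheaf.stalk x)) := P
  let e := RingEquiv.ofBijective _ (Groth.L05.Point.bijective_stalkMap_fromSpecStalk x p)
  exact UnibranchPolynomial.of_equiv
    (e.trans (StructureSheaf.stalkIso (X.presheaf.stalk x) P).symm.toRingEquiv) h

theorem notMem_components_iff {X : Scheme.{u}} (x : X) :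
    closure ({x} : Set X) ∉ irreducibleComponents X ↔
      ∃ P : PrimeSpectrum (X.presheaf.stalk x), P ≠ closedPoint (X.presheaf.stalk x) := by
  constructor
  · intro h
    by_contra hP
    push_neg at hP
    refine h ⟨isIrreducible_singleton.closure, fun Z hZ hle => ?_⟩
    obtain ⟨η, hη⟩ := QuasiSober.sober (hZ.closure) isClosed_closure
    have hsp : η ⤳ x := hη.specializes (subset_closure (hle (subset_closure rfl)))
    obtain ⟨P, hP'⟩ : η ∈ Set.range (X.fromSpecStalk x) := by rw [Scheme.range_fromSpecStalk]; exact hsp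
    rw [hP P, Scheme.fromSpecStalk_closedPoint] at hP'
    subst hP'
    exact subset_closure.trans hη.def.ge
  · rintro ⟨P, hP⟩ hmem
    have hsp : X.fromSpecStalk x P ⤳ x := Groth.L07.EquidimPoint.specializes_point x P
    have heq := le_antisymm (hsp.closure_subset) (hmem.2 isIrreducible_singleton.closure hsp.closure_subset)
    have hxx : x ⤳ X.fromSpecStalk x P := specializes_iff_closure_subset.2 heq.ge
    exact hP ((Groth.L07.ParaF.fromSpecStalk_eq_iff x P).1 (hsp.antisymm hxx).eq)

theorem main (X : Scheme.{u}) [IsNoetherian X] :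
    (∀ x : X, CAlg2.IsGeomUnibranch (X.presheaf.stalk x)) ↔
      ∀ (x : X), closure ({x} : Set X) ∉ irreducibleComponents X →
        ∀ (Ash : Type u) [CommRing Ash] [IsLocalRing Ash] [Algebra (X.presheaf.stalk x) Ash]
          [IsLocalHom (algebraMap (X.presheaf.stalk x) Ash)]
          [Hensel.IsStrictHenselization (X.presheaf.stalk x) Ash],
          ConnectedSpace ↥({IsLocalRing.closedPoint Ash}ᶜ : Set (PrimeSpectrum Ash)) := by
  constructor
  · intro h x hx Ash _ _ _ _ _
    obtain ⟨P, hP⟩ := (notMem_components_iff x).1 hx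
    haveI : Module.FaithfullyFlat (X.presheaf.stalk x) Ash := Groth.Agent.S0539.result _ _
    obtain ⟨y, hy⟩ := PrimeSpectrum.comap_surjective_of_faithfullyFlat (A := X.presheaf.stalk x) (B := Ash) P
    refine connected_punctured (Groth.L23.SH.isGeomUnibranch_iff_uniqueMinimal.1 (h x)) y fun e => hP ?_
    rw [← hy, e]
    exact IsLocalRing.comap_closedPoint (algebraMap (X.presheaf.stalk x) Ash)
  · intro h
    suffices key : ∀ (n : ℕ) (x : X), ringKrullDim (X.presheaf.stalk x) < (n : WithBot ℕ∞) →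
        CAlg2.IsGeomUnibranch (X.presheaf.stalk x) by
      intro x
      obtain ⟨d, hd⟩ : ∃ d : ℕ, ((maximalIdeal (X.presheaf.stalk x)).height : ℕ∞) = d :=
        ⟨_, (ENat.coe_toNat (Ideal.height_ne_top (maximalIdeal.isMaximal _).ne_top)).symm⟩
      refine key (d + 1) x ?_
      rw [← IsLocalRing.maximalIdeal_height_eq_ringKrullDim, hd]
      exact_mod_cast Nat.lt_succ_self d
    intro n
    induction n with
    | zero => exact fun x hx => absurd hx (not_lt.2 ringKrullDim_nonneg_of_nontrivial)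
    | succ n ih =>
      intro x hx
      refine isGeomUnibranch_of_punctured _ (fun P _ hPm => ?_) fun ⟨P, hP, hPm⟩ => ?_
      · refine geomUnibranch_fromSpecStalk x ⟨P, inferInstance⟩ (ih _ ?_)
        rw [RegularSeqCodim.dim_stalk_fromSpecStalk]
        rw [← IsLocalRing.maximalIdeal_height_eq_ringKrullDim] at hx
        have hlt := Ideal.height_strict_mono_of_isPrime (I := P) (J := maximalIdeal (X.presheaf.stalk x))
          (lt_of_le_of_ne (le_maximalIdeal (Ideal.IsPrime.ne_top inferInstance)) hPm)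
        have hne := Ideal.height_ne_top (Ideal.IsPrime.ne_top (inferInstance : P.IsPrime))
        obtain ⟨a, ha⟩ : ∃ a : ℕ, (P.height : ℕ∞) = a := ⟨_, (ENat.coe_toNat hne).symm⟩
        obtain ⟨b, hb⟩ : ∃ b : ℕ, ((maximalIdeal (X.presheaf.stalk x)).height : ℕ∞) = b :=
          ⟨_, (ENat.coe_toNat (Ideal.height_ne_top (maximalIdeal.isMaximal _).ne_top)).symm⟩
        rw [hb] at hx hlt
        rw [ha] at hlt ⊢
        norm_cast at hx hlt ⊢
        omega
      · intro Ash _ _ _ _ _
        haveI := h x ((notMem_components_iff x).2 ⟨⟨P, hP⟩, fun e => hPm (congrArg PrimeSpectrum.asIdeal e)⟩) Ash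
        exact isPreconnected_iff_preconnectedSpace.2 inferInstance

end Groth.L06.UnibranchPunctured
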