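import Groth.Agent.L28.AWN.Key
import Mathlib.FieldTheory.PerfectClosure
import Mathlib.NumberTheory.Basic

/-!
A universal homeomorphism which is an isomorphism away from `p` is given by `p`-power radicial elements.
-/

set_option autoImplicit false
set_option maxSynthPendingDepth 3
set_option linter.style.haveILetI false

universe u

namespace Groth.L06.UnivHomeoPPow

open Groth.L28.AWN

variable {A B : Type u} [CommRing A] [CommRing B]

theorem charP_of_natCast_eq_zero (R : Type u) [CommRing R] [Nontrivial R] {p : ℕ} (hp : p.Prime)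
    (h : (p : R) = 0) : CharP R p := by
  rcases (Nat.dvd_prime hp).mp (ringChar.dvd h) with h1 | h1
  · exact absurd h1 (CharP.ringChar_ne_one)
  · exact h1 ▸ ringChar.charP R

/-- In characteristic `p`, a universal homeomorphism has every `p`-power large enough in its image. -/
theorem exists_pow_mem_charP (p : ℕ) [Fact p.Prime] [CharP A p] [CharP B p] {φ : A →+* B}
    (h : IsUH φ) (b : B) : ∃ (n : ℕ) (a : A), b ^ p ^ n = φ a := by
  have hp : p.Prime := Fact.out
  let Φ : PerfectClosure A p →+* PerfectClosure B p :=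
    PerfectClosure.lift A p _ ((PerfectClosure.of B p).comp φ)
  have hΦ : ∀ a, Φ (PerfectClosure.of A p a) = PerfectClosure.of B p (φ a) :=
    RingHom.congr_fun ((PerfectClosure.lift A p _).symm_apply_apply ((PerfectClosure.of B p).comp φ))
  have hmk : ∀ (n : ℕ) (x : A), PerfectClosure.mk A p (n, x) ^ p ^ n = PerfectClosure.of A p x := by
    intro n x
    rw [← iterate_frobenius, PerfectClosure.iterate_frobenius_mk]
  have hmk' : ∀ (n : ℕ) (x : B), PerfectClosure.mk B p (n, x) ^ p ^ n = PerfectClosure.of B p x := by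
    intro n x
    rw [← iterate_frobenius, PerfectClosure.iterate_frobenius_mk]
  have hint : Φ.IsIntegral := by
    intro y
    obtain ⟨⟨n, x⟩, rfl⟩ := PerfectClosure.mk_surjective B p y
    letI := Φ.toAlgebra
    refine IsIntegral.of_pow (pow_pos hp.pos n) ?_
    rw [hmk']
    obtain ⟨F, hF, hF'⟩ := h.integral x
    refine ⟨F.map (PerfectClosure.of A p), hF.map _, ?_⟩
    rw [Polynomial.eval₂_map, show (algebraMap (PerfectClosure A p) (PerfectClosure B p)).comp
      (PerfectClosure.of A p) = (PerfectClosure.of B p).comp φ from RingHom.ext hΦ,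
      ← Polynomial.hom_eval₂, hF', map_zero]
  have hext : ∀ (K : Type u) [Field K] (f g : PerfectClosure B p →+* K),
      f.comp Φ = g.comp Φ → f = g := by
    intro K _ f g e
    haveI : CharP K p := charP_of_natCast_eq_zero K hp (by
      rw [← map_natCast f, CharP.cast_eq_zero, map_zero])
    have e' : f.comp (PerfectClosure.of B p) = g.comp (PerfectClosure.of B p) :=
      h.hom_ext K _ _ (RingHom.ext fun a => by
        have := RingHom.congr_fun e (PerfectClosure.of A p a)
        simp only [RingHom.comp_apply, hΦ] at this ⊢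
        exact this)
    refine RingHom.ext fun y => ?_
    obtain ⟨⟨n, x⟩, rfl⟩ := PerfectClosure.mk_surjective B p y
    refine (frobenius_inj K p).iterate n ?_
    rw [iterate_frobenius, iterate_frobenius, ← map_pow, ← map_pow, hmk']
    exact RingHom.congr_fun e' x
  have hnil : ∀ y, Φ y = 0 → IsNilpotent y := by
    intro y hy
    obtain ⟨⟨n, x⟩, rfl⟩ := PerfectClosure.mk_surjective A p y
    refine ⟨p ^ n, ?_⟩
    rw [hmk]
    have h0 : PerfectClosure.of B p (φ x) = 0 := by
      rw [← hΦ, ← hmk n x, map_pow, hy, zero_pow (pow_ne_zero _ hp.ne_zero)]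
    rw [PerfectClosure.of_apply, ← PerfectClosure.mk_zero_right (K := B) p 0,
      PerfectClosure.mk_eq_iff] at h0
    obtain ⟨z, hz⟩ := h0
    rw [iterate_frobenius, iterate_frobenius, zero_pow (pow_ne_zero _ hp.ne_zero), ← map_pow] at hz
    exact ((IsNilpotent.of_pow (h.nil _ hz)).map (PerfectClosure.of A p)).eq_zero
  obtain ⟨y, hy⟩ := ((⟨hint, hext, hnil⟩ : IsUH Φ).bijective_of_isAWNRing
    (isAWNRing_of_perfect p)).2 (PerfectClosure.of B p b)
  obtain ⟨⟨n, x⟩, rfl⟩ := PerfectClosure.mk_surjective A p y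
  have e := congrArg (· ^ p ^ n) hy
  simp only [← map_pow, hmk, hΦ] at e
  rw [PerfectClosure.of_apply, PerfectClosure.of_apply, PerfectClosure.mk_eq_iff] at e
  obtain ⟨z, hz⟩ := e
  simp only [iterate_frobenius, zero_add] at hz
  exact ⟨n + z, x ^ p ^ z, by rw [map_pow, hz, ← pow_mul, ← pow_add]⟩

/-- The base change of a universal homeomorphism to characteristic `p`. -/
theorem exists_pow_mem_mod (p : ℕ) (hp : p.Prime) {φ : A →+* B} (h : IsUH φ) (b : B)
    (hA : ¬ IsUnit (p : A)) : ∃ (n : ℕ) (a : A) (c : B), b ^ p ^ n = φ a + (p : B) * c := by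
  haveI : Fact p.Prime := ⟨hp⟩
  obtain ⟨P, hP, hpP⟩ := exists_max_ideal_of_mem_nonunits hA
  obtain ⟨Q, hQ, hQP⟩ := h.exists_comap P
  have hpQ : (p : B) ∈ Q := by
    rw [← map_natCast φ, ← Ideal.mem_comap, hQP]; exact hpP
  haveI : Nontrivial (A ⧸ Ideal.span {(p : A)}) := Ideal.Quotient.nontrivial_iff.mpr
    fun e => hP.ne_top (top_le_iff.mp (e ▸ (Ideal.span_singleton_le_iff_mem _).mpr hpP))
  haveI : Nontrivial (B ⧸ Ideal.span {(p : B)}) := Ideal.Quotient.nontrivial_iff.mpr
    fun e => hQ.ne_top (top_le_iff.mp (e ▸ (Ideal.span_singleton_le_iff_mem _).mpr hpQ))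
  haveI := charP_of_natCast_eq_zero (A ⧸ Ideal.span {(p : A)}) hp (by
    rw [← map_natCast (Ideal.Quotient.mk (Ideal.span {(p : A)})), Ideal.Quotient.eq_zero_iff_mem]
    exact Ideal.subset_span rfl)
  haveI := charP_of_natCast_eq_zero (B ⧸ Ideal.span {(p : B)}) hp (by
    rw [← map_natCast (Ideal.Quotient.mk (Ideal.span {(p : B)})), Ideal.Quotient.eq_zero_iff_mem]
    exact Ideal.subset_span rfl)
  have hle : Ideal.span {(p : A)} ≤ (Ideal.span {(p : B)}).comap φ := by
    rw [Ideal.span_singleton_le_iff_mem, Ideal.mem_comap, map_natCast]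
    exact Ideal.subset_span rfl
  let ψ := Ideal.quotientMap (Ideal.span {(p : B)}) φ hle
  have hψ : IsUH ψ := by
    refine ⟨?_, ?_, ?_⟩
    · intro y
      obtain ⟨y, rfl⟩ := Ideal.Quotient.mk_surjective y
      obtain ⟨F, hF, hF'⟩ := h.integral y
      refine ⟨F.map (Ideal.Quotient.mk _), hF.map _, ?_⟩
      rw [Polynomial.eval₂_map, Ideal.quotientMap_comp_mk, ← Polynomial.hom_eval₂, hF', map_zero]
    · intro K _ f g e
      refine Ideal.Quotient.ringHom_ext (h.hom_ext K _ _ ?_)
      rw [RingHom.comp_assoc, RingHom.comp_assoc, ← Ideal.quotientMap_comp_mk hle,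
        ← RingHom.comp_assoc, ← RingHom.comp_assoc, e]
    · intro y hy
      obtain ⟨y, rfl⟩ := Ideal.Quotient.mk_surjective y
      rw [Ideal.quotientMap_mk, Ideal.Quotient.eq_zero_iff_mem] at hy
      suffices hrad : y ∈ (Ideal.span {(p : A)}).radical by
        obtain ⟨m, hm⟩ := hrad
        exact ⟨m, by rw [← map_pow, Ideal.Quotient.eq_zero_iff_mem]; exact hm⟩
      rw [Ideal.radical_eq_sInf, Ideal.mem_sInf]
      rintro P' ⟨hle', hP'⟩
      haveI := hP'
      obtain ⟨Q', hQ', hQP'⟩ := h.exists_comap P'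
      have hpQ' : (p : B) ∈ Q' := by
        rw [← map_natCast φ, ← Ideal.mem_comap, hQP']; exact hle' (Ideal.subset_span rfl)
      rw [← hQP', Ideal.mem_comap]
      exact (Ideal.span_singleton_le_iff_mem _).mpr hpQ' hy
  obtain ⟨n, a, ha⟩ := exists_pow_mem_charP p hψ (Ideal.Quotient.mk _ b)
  obtain ⟨a, rfl⟩ := Ideal.Quotient.mk_surjective a
  rw [← map_pow, Ideal.quotientMap_mk, Ideal.Quotient.eq, Ideal.mem_span_singleton] at ha
  obtain ⟨c, hc⟩ := ha
  exact ⟨n, a, c, by rw [← hc]; ring⟩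

theorem exists_pow_mul_mem_of_surjective (p : ℕ) {φ : A →+* B}
    (h : Function.Surjective (Localization.awayMap φ (p : A))) (b : B) :
    ∃ n : ℕ, (p ^ n : B) * b ∈ φ.range := by
  obtain ⟨x, hx⟩ := h (algebraMap B _ b)
  obtain ⟨a, ⟨_, k, rfl⟩, rfl⟩ := IsLocalization.exists_mk'_eq (Submonoid.powers (p : A)) x
  simp only [Localization.awayMap, IsLocalization.Away.map, IsLocalization.map_mk'] at hx
  rw [IsLocalization.mk'_eq_iff_eq_mul, ← map_mul, IsLocalization.eq_iff_exists
    (Submonoid.powers (φ (p : A)))] at hx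
  obtain ⟨⟨_, m, rfl⟩, hm⟩ := hx
  refine ⟨m + k, (p : A) ^ m * a, ?_⟩
  simp only [map_pow, map_natCast] at hm
  rw [map_mul, map_pow, map_natCast, hm]
  ring

theorem exists_uniform (p : ℕ) {φ : A →+* B} (hi : φ.IsIntegral)
    (hsat : ∀ b : B, ∃ n : ℕ, (p ^ n : B) * b ∈ φ.range) (c : B) :
    letI := φ.toAlgebra
    ∃ T : ℕ, ∀ s ∈ Algebra.adjoin A ({c} : Set B), (p ^ T : B) * s ∈ φ.range := by
  letI := φ.toAlgebra
  obtain ⟨G, hG⟩ := IsIntegral.fg_adjoin_singleton (hi c : IsIntegral A c)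
  choose e he using hsat
  refine ⟨G.sup e, fun s hs => ?_⟩
  have hs' : s ∈ Submodule.span A (G : Set B) := by rw [hG]; exact hs
  clear hs
  induction hs' using Submodule.span_induction with
  | mem x hx =>
    have hle : e x ≤ G.sup e := Finset.le_sup hx
    obtain ⟨a, ha⟩ := he x
    refine ⟨(p : A) ^ (G.sup e - e x) * a, ?_⟩
    rw [map_mul, ha, map_pow, map_natCast, ← mul_assoc, ← pow_add, Nat.sub_add_cancel hle]
  | zero => rw [mul_zero]; exact zero_mem _
  | add x y _ _ hx hy => rw [mul_add]; exact add_mem hx hy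
  | smul r x _ hx =>
    rw [Algebra.smul_def, mul_left_comm]
    exact mul_mem ⟨r, rfl⟩ hx

/-- A universal homeomorphism whose cokernel is `p`-power torsion: high `p`-powers lie in the image. -/
theorem exists_pow_mem (p : ℕ) (hp : p.Prime) {φ : A →+* B} (h : IsUH φ)
    (hsat : ∀ b : B, ∃ n : ℕ, (p ^ n : B) * b ∈ φ.range) (b : B) :
    ∃ N : ℕ, b ^ p ^ N ∈ φ.range := by
  by_cases hA : IsUnit (p : A)
  · obtain ⟨n, a, ha⟩ := hsat b
    obtain ⟨u, hu⟩ := hA.pow n
    refine ⟨0, ↑u⁻¹ * a, ?_⟩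
    rw [map_mul, ha, pow_zero, pow_one, ← mul_assoc, ← map_natCast φ, ← map_pow, ← hu, ← map_mul,
      Units.inv_mul, map_one, one_mul]
  obtain ⟨n, a, c, hb⟩ := exists_pow_mem_mod p hp h b hA
  letI := φ.toAlgebra
  obtain ⟨T, hT⟩ := exists_uniform p h.integral hsat c
  let S := Algebra.adjoin A ({c} : Set B)
  let c' : S := ⟨c, Algebra.self_mem_adjoin_singleton A c⟩
  obtain ⟨s, hs⟩ := dvd_sub_pow_of_dvd_sub (R := S) (p := p) (a := algebraMap A S a + (p : S) * c')
    (b := algebraMap A S a) ⟨c', by ring⟩ T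
  have hs' := congrArg S.val hs
  simp only [map_sub, map_mul, map_pow, map_add, map_natCast, AlgHom.commutes] at hs'
  refine ⟨n + T, ?_⟩
  rw [pow_add, pow_mul, hb]
  obtain ⟨x, hx⟩ := hT _ s.2
  refine ⟨a ^ p ^ T + (p : A) * x, ?_⟩
  rw [map_add, map_mul, hx, map_natCast, ← mul_assoc, ← pow_succ', map_pow]
  exact (eq_add_of_sub_eq' hs').symm

theorem isUH_of (p : ℕ) (hp : p.Prime) {φ : A →+* B} (hker : ∀ a ∈ RingHom.ker φ, IsNilpotent a)
    (h : ∀ b : B, ∃ n : ℕ, (p ^ n : B) * b ∈ φ.range ∧ b ^ (p ^ n) ∈ φ.range) : IsUH φ := by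
  refine ⟨fun b => ?_, fun K _ f g e => RingHom.ext fun b => ?_, fun a ha => hker a ha⟩
  · obtain ⟨n, -, a, ha⟩ := h b
    letI := φ.toAlgebra
    exact IsIntegral.of_pow (pow_pos hp.pos n) (ha ▸ (isIntegral_algebraMap : IsIntegral A (algebraMap A B a)))
  · obtain ⟨n, ⟨a, ha⟩, a', ha'⟩ := h b
    by_cases hK : (p : K) = 0
    · haveI : CharP K p := charP_of_natCast_eq_zero K hp hK
      haveI : Fact p.Prime := ⟨hp⟩
      refine (frobenius_inj K p).iterate n ?_
      rw [iterate_frobenius, iterate_frobenius, ← map_pow, ← map_pow, ← ha']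
      exact RingHom.congr_fun e a'
    · have := RingHom.congr_fun e a
      simp only [RingHom.comp_apply, ha, map_mul, map_pow, map_natCast] at this
      exact mul_left_cancel₀ (pow_ne_zero _ hK) this

end Groth.L06.UnivHomeoPPow
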