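import Groth.Agent.L20.UnivOpenAffineSpace
import Mathlib.AlgebraicGeometry.Morphisms.UniversallyOpen
import Mathlib.RingTheory.TensorProduct.MvPolynomial
import Mathlib.RingTheory.LocalRing.ResidueField.Ideal

/-! Universal openness of a finite algebra is detected by one generic linear form. -/

set_option autoImplicit false
set_option maxSynthPendingDepth 3
set_option linter.style.haveILetI false
set_option backward.isDefEq.respectTransparency.types false
set_option backward.isDefEq.respectTransparency false

universe u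

open CategoryTheory CategoryTheory.Limits AlgebraicGeometry TensorProduct MvPolynomial

noncomputable section

namespace Groth.L06.UnivOpenLinearForm

variable {A B : Type u} [CommRing A] [CommRing B] [Algebra A B]

theorem isOpenMap_map (σ : Type) (h : UniversallyOpen (Spec.map (CommRingCat.ofHom (algebraMap A B)))) :
    IsOpenMap (PrimeSpectrum.comap (MvPolynomial.map (σ := σ) (algebraMap A B))) := by
  letI : Algebra (MvPolynomial σ A) (MvPolynomial σ B) := MvPolynomial.algebraMvPolynomial
  have hpo : CategoryTheory.IsPushout (CommRingCat.ofHom (algebraMap A B))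
      (CommRingCat.ofHom (algebraMap A (MvPolynomial σ A)))
      (CommRingCat.ofHom (algebraMap B (MvPolynomial σ B)))
      (CommRingCat.ofHom (algebraMap (MvPolynomial σ A) (MvPolynomial σ B))) :=
    CommRingCat.isPushout_iff_isPushout.mpr inferInstance
  have sq := isPullback_SpecMap_of_isPushout _ _ _ _ hpo
  have h2 : UniversallyOpen (Spec.map (CommRingCat.ofHom (algebraMap (MvPolynomial σ A) (MvPolynomial σ B)))) :=
    MorphismProperty.of_isPullback (P := @UniversallyOpen) sq h
  exact (Spec.map (CommRingCat.ofHom (algebraMap (MvPolynomial σ A) (MvPolynomial σ B)))).isOpenMap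

theorem image_basicOpen {d : ℕ} (b : Fin d → B) {σ : Type u} (g : Fin d → MvPolynomial σ A) :
    PrimeSpectrum.comap (MvPolynomial.map (σ := σ) (algebraMap A B)) ''
      (PrimeSpectrum.basicOpen (∑ i, C (b i) * (g i).map (algebraMap A B)) : Set (PrimeSpectrum (MvPolynomial σ B))) =
    PrimeSpectrum.comap (aeval g : MvPolynomial (Fin d) A →ₐ[A] MvPolynomial σ A).toRingHom ⁻¹'
      (PrimeSpectrum.comap (MvPolynomial.map (σ := Fin d) (algebraMap A B)) ''
        (PrimeSpectrum.basicOpen (∑ i : Fin d, X i * C (b i)) : Set (PrimeSpectrum (MvPolynomial (Fin d) B)))) := by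
  let θ : MvPolynomial (Fin d) A →+* MvPolynomial σ A := (aeval g : MvPolynomial (Fin d) A →ₐ[A] MvPolynomial σ A).toRingHom
  let Θ : MvPolynomial (Fin d) B →+* MvPolynomial σ B :=
    eval₂Hom C fun i => (g i).map (algebraMap A B)
  let mx := MvPolynomial.map (σ := Fin d) (algebraMap A B)
  let my := MvPolynomial.map (σ := σ) (algebraMap A B)
  have hcomm : Θ.comp mx = my.comp θ := by
    refine MvPolynomial.ringHom_ext (fun a => ?_) fun i => ?_
    · simp [Θ, mx, my, θ]
    · simp [Θ, mx, my, θ]
  ext p
  constructor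
  · rintro ⟨Q, hQ, rfl⟩
    refine ⟨PrimeSpectrum.comap Θ Q, fun hm => hQ ?_, ?_⟩
    · have : Θ (∑ i : Fin d, X i * C (b i)) ∈ Q.asIdeal := hm
      simpa [Θ, mul_comm] using this
    · show PrimeSpectrum.comap mx (PrimeSpectrum.comap Θ Q) = PrimeSpectrum.comap θ (PrimeSpectrum.comap my Q)
      rw [← PrimeSpectrum.comap_comp_apply, hcomm, PrimeSpectrum.comap_comp_apply]
  · rintro ⟨Q, hQ, hQp⟩
    haveI := Q.2
    haveI := p.2
    let P0 : Ideal (MvPolynomial (Fin d) A) := Q.asIdeal.comap mx
    have hP0 : P0 = p.asIdeal.comap θ := congrArg PrimeSpectrum.asIdeal hQp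
    let k := P0.ResidueField
    letI : Algebra k Q.asIdeal.ResidueField := (Ideal.ResidueField.map P0 Q.asIdeal mx rfl).toAlgebra
    letI : Algebra k p.asIdeal.ResidueField := (Ideal.ResidueField.map P0 p.asIdeal θ hP0).toAlgebra
    haveI : Module.Flat k Q.asIdeal.ResidueField := Module.Flat.of_free
    haveI : Nontrivial (Q.asIdeal.ResidueField ⊗[k] p.asIdeal.ResidueField) :=
      Algebra.TensorProduct.nontrivial_of_algebraMap_injective_of_flat_left k Q.asIdeal.ResidueField
        p.asIdeal.ResidueField (algebraMap k p.asIdeal.ResidueField).injective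
    obtain ⟨m, hm⟩ := Ideal.exists_maximal (Q.asIdeal.ResidueField ⊗[k] p.asIdeal.ResidueField)
    let _ : Field ((Q.asIdeal.ResidueField ⊗[k] p.asIdeal.ResidueField) ⧸ m) := Ideal.Quotient.field m
    let L := (Q.asIdeal.ResidueField ⊗[k] p.asIdeal.ResidueField) ⧸ m
    let iQ : Q.asIdeal.ResidueField →+* L := (Ideal.Quotient.mk m).comp Algebra.TensorProduct.includeLeftRingHom
    let ip : p.asIdeal.ResidueField →+* L := (Ideal.Quotient.mk m).comp
      (Algebra.TensorProduct.includeRight (R := k) (A := Q.asIdeal.ResidueField) (B := p.asIdeal.ResidueField)).toRingHom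
    let fQ : MvPolynomial (Fin d) B →+* L := iQ.comp (algebraMap _ _)
    let fp : MvPolynomial σ A →+* L := ip.comp (algebraMap _ _)
    have hagree : ∀ z, fQ (mx z) = fp (θ z) := fun z => by
      have h1 : algebraMap k Q.asIdeal.ResidueField (algebraMap _ k z) = algebraMap _ _ (mx z) :=
        Ideal.ResidueField.map_algebraMap ..
      have h2 : algebraMap k p.asIdeal.ResidueField (algebraMap _ k z) = algebraMap _ _ (θ z) :=
        Ideal.ResidueField.map_algebraMap ..
      have h3 := congrArg (Ideal.Quotient.mk m) (Algebra.TensorProduct.tmul_one_eq_one_tmul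
        (A := Q.asIdeal.ResidueField) (B := p.asIdeal.ResidueField) (algebraMap _ k z))
      rw [h1, h2] at h3
      exact h3
    let G : MvPolynomial σ B →+* L := eval₂Hom (fQ.comp C) fun s => fp (X s)
    have hG : G.comp my = fp := by
      refine MvPolynomial.ringHom_ext (fun a => ?_) fun s => ?_
      · have h := hagree (C a)
        simp [mx, θ] at h
        simpa [G, my] using h
      · simp [G, my]
    refine ⟨⟨RingHom.ker G, RingHom.ker_isPrime _⟩, fun hker => hQ ?_, ?_⟩
    · have h1 : fQ (∑ i : Fin d, X i * C (b i)) = 0 := by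
        have h2 : G (∑ i, C (b i) * my (g i)) = 0 := hker
        rw [← h2, map_sum, map_sum]
        refine Finset.sum_congr rfl fun i _ => ?_
        rw [map_mul, map_mul, show G (my (g i)) = fp (g i) from RingHom.congr_fun hG _]
        have h := hagree (X i)
        simp only [mx, θ, MvPolynomial.map_X] at h
        rw [h]
        simp [G, mul_comm]
      exact Ideal.algebraMap_residueField_eq_zero.1 ((map_eq_zero iQ).1 h1)
    · refine PrimeSpectrum.ext (Ideal.ext fun z => ?_)
      show G (my z) = 0 ↔ z ∈ p.asIdeal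
      rw [show G (my z) = fp z from RingHom.congr_fun hG z]
      show ip (algebraMap _ _ z) = 0 ↔ _
      rw [map_eq_zero]
      exact Ideal.algebraMap_residueField_eq_zero

theorem main {d : ℕ} (b : Fin d → B) (hb : Submodule.span A (Set.range b) = ⊤) :
    UniversallyOpen (Spec.map (CommRingCat.ofHom (algebraMap A B))) ↔
      IsOpen (PrimeSpectrum.comap (MvPolynomial.map (σ := Fin d) (algebraMap A B)) ''
        (PrimeSpectrum.basicOpen (∑ i : Fin d, X i * C (b i)) : Set (PrimeSpectrum (MvPolynomial (Fin d) B)))) := by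
  refine ⟨fun h => isOpenMap_map (Fin d) h _ (PrimeSpectrum.basicOpen _).2, fun h => ?_⟩
  refine Groth.L20.universallyOpen_SpecMap_of_isOpenMap_polynomial _ fun n => ?_
  rw [PrimeSpectrum.isTopologicalBasis_basic_opens.isOpenMap_iff]
  rintro _ ⟨z, rfl⟩
  obtain ⟨g, rfl⟩ : ∃ g : Fin d → MvPolynomial (ULift.{u} (Fin n)) A,
      ∑ i, C (b i) * (g i).map (algebraMap A B) = z := by
    induction z using MvPolynomial.induction_on' with
    | monomial m c =>
      obtain ⟨a, ha⟩ := (Submodule.mem_span_range_iff_exists_fun A).1 (hb ▸ Submodule.mem_top (x := c))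
      refine ⟨fun i => monomial m (a i), ?_⟩
      simp only [map_monomial, C_mul_monomial]
      rw [← map_sum, ← ha]
      exact congrArg _ (Finset.sum_congr rfl fun i _ => by rw [Algebra.smul_def, mul_comm])
    | add z₁ z₂ h₁ h₂ =>
      obtain ⟨g₁, rfl⟩ := h₁
      obtain ⟨g₂, rfl⟩ := h₂
      exact ⟨g₁ + g₂, by simp [mul_add, Finset.sum_add_distrib]⟩
  show IsOpen (PrimeSpectrum.comap (MvPolynomial.map (algebraMap A B)) '' _)
  rw [image_basicOpen b g]
  exact h.preimage (PrimeSpectrum.continuous_comap _)

end Groth.L06.UnivOpenLinearForm
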