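import Groth.Agent.L06.ValuationFibreDim
import Groth.Agent.L06.FibreDimsOpen
import Groth.Agent.L03.FibreLocalDim
import Mathlib.RingTheory.LocalRing.ResidueField.Fiber
import Mathlib.RingTheory.LocalRing.ResidueField.Ideal
import Mathlib.RingTheory.TensorProduct.Maps

/-! Equidimensionality of the fibres over a valuation ring. -/

set_option autoImplicit false
set_option maxSynthPendingDepth 3
set_option backward.isDefEq.respectTransparency.types false
set_option backward.isDefEq.respectTransparency false
set_option linter.style.haveILetI false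
universe u

open CategoryTheory AlgebraicGeometry TopologicalSpace Topology TensorProduct

namespace Groth.L06.ValuationEquidim

open Groth.L07.Equidim Groth.L07.DimToolkit Groth.L22

variable {A : Type u} [CommRing A] [IsDomain A] [ValuationRing A] {X : Scheme.{u}} [IrreducibleSpace X]
  (f : X ⟶ Spec (CommRingCat.of A)) [LocallyOfFiniteType f] [IsDominant f]

theorem fibreDimAt_eq (x : X) : FlatMor.fibreDimAt f x = fdim f (genericPoint X) := by
  obtain ⟨z, -, -, -, hz⟩ := Groth.L07.OpenEquiv.exists_maximal_fdim_eq f x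
  refine le_antisymm ?_ (fdim_le_fibreDimAt_of_specializes f ((genericPoint_spec X).specializes trivial))
  rw [← hz]
  exact ValuationFibreDim.fdim_le_generic f z

theorem component_dim (y : ↥(Spec (CommRingCat.of A))) {Z : Set ↥(f.fiber y)}
    (hZ : Z ∈ irreducibleComponents ↥(f.fiber y)) :
    topologicalKrullDim ↥Z = topologicalKrullDim ↥(f.fiber (genericPoint ↥(Spec (CommRingCat.of A)))) := by
  haveI : IrreducibleSpace ↥(Spec (CommRingCat.of A)) := inferInstanceAs (IrreducibleSpace (PrimeSpectrum A))
  have h : topologicalKrullDim ↥Z ∈ FibreComponentsGeneric.dims f y := ⟨Z, hZ, rfl⟩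
  rw [FibreDimsOpen.dims_eq] at h
  obtain ⟨x, -, hx⟩ := h
  rw [← hx, fibreDimAt_eq f x, (generic_data f).2]

theorem fibre_ring_dim {R S : Type u} [CommRing R] [IsDomain R] [ValuationRing R] [CommRing S] [IsDomain S]
    [Algebra R S] (hinj : Function.Injective (algebraMap R S)) [Algebra.FiniteType R S]
    [Nontrivial (IsLocalRing.ResidueField R ⊗[R] S)] :
    ringKrullDim (IsLocalRing.ResidueField R ⊗[R] S) = ringKrullDim (FractionRing R ⊗[R] S) := by
  let f := Groth.L03.FibreLocalDim.f R S
  haveI : LocallyOfFiniteType f := by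
    rw [HasRingHomProperty.Spec_iff (P := @LocallyOfFiniteType)]
    exact RingHom.finiteType_algebraMap.2 inferInstance
  haveI : IrreducibleSpace ↥(Spec (CommRingCat.of S)) := inferInstanceAs (IrreducibleSpace (PrimeSpectrum S))
  haveI : IrreducibleSpace ↥(Spec (CommRingCat.of R)) := inferInstanceAs (IrreducibleSpace (PrimeSpectrum R))
  haveI : IsDominant f := by
    refine ⟨?_⟩
    show DenseRange (PrimeSpectrum.comap (algebraMap R S))
    rw [PrimeSpectrum.denseRange_comap_iff_ker_le_nilRadical, (RingHom.injective_iff_ker_eq_bot _).mp hinj]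
    exact bot_le
  have hdim : ∀ p : PrimeSpectrum R, topologicalKrullDim ↥(f.fiber p) = ringKrullDim (p.asIdeal.Fiber S) :=
    fun p => by
      rw [← PrimeSpectrum.topologicalKrullDim_eq_ringKrullDim]
      exact ((f.fiberHomeo p).trans (PrimeSpectrum.preimageHomeomorphFiber R S p)).isHomeomorph.topologicalKrullDim_eq
  let m : PrimeSpectrum R := IsLocalRing.closedPoint R
  have eκ : IsLocalRing.ResidueField R ≃ₐ[R] m.asIdeal.ResidueField :=
    AlgEquiv.ofBijective (IsScalarTower.toAlgHom R (R ⧸ IsLocalRing.maximalIdeal R) (IsLocalRing.maximalIdeal R).ResidueField)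
      (Ideal.bijective_algebraMap_quotient_residueField _)
  haveI : IsFractionRing R (⊥ : Ideal R).ResidueField := inferInstance
  have eK : FractionRing R ≃ₐ[R] (⊥ : Ideal R).ResidueField :=
    IsLocalization.algEquiv (nonZeroDivisors R) _ _
  have hgen : (genericPoint ↥(Spec (CommRingCat.of R))) = (⟨⊥, Ideal.isPrime_bot⟩ : PrimeSpectrum R) := by
    refine IsGenericPoint.eq (genericPoint_spec _) ?_
    show closure {(⟨⊥, Ideal.isPrime_bot⟩ : PrimeSpectrum R)} = Set.univ
    rw [PrimeSpectrum.closure_singleton]
    exact PrimeSpectrum.zeroLocus_bot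
  rw [ringKrullDim_eq_of_ringEquiv (Algebra.TensorProduct.congr eκ (AlgEquiv.refl (R := R) (A₁ := S))).toRingEquiv,
    ringKrullDim_eq_of_ringEquiv (Algebra.TensorProduct.congr eK (AlgEquiv.refl (R := R) (A₁ := S))).toRingEquiv]
  have hnt : Nontrivial (m.asIdeal.Fiber S) :=
    (Algebra.TensorProduct.congr eκ (AlgEquiv.refl (R := R) (A₁ := S))).toEquiv.nontrivial_congr.mp inferInstance
  have hne : Nonempty ↥(f.fiber m) := by
    obtain ⟨P⟩ : Nonempty (PrimeSpectrum (m.asIdeal.Fiber S)) := inferInstance
    exact ⟨((f.fiberHomeo m).trans (PrimeSpectrum.preimageHomeomorphFiber R S m)).symm P⟩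
  have h := ValuationFibreDim.dim_closed_fibre_eq f m hne
  rw [hgen, hdim, hdim] at h
  exact h

end Groth.L06.ValuationEquidim
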