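import Groth.Agent.L22.AffineDim
import Groth.Agent.L28.ExtShriek.Pres
import Mathlib.RingTheory.RingHom.QuasiFinite
import Mathlib.RingTheory.KrullDimension.Polynomial
import Mathlib.RingTheory.KrullDimension.Field
import Mathlib.RingTheory.LocalRing.ResidueField.Fiber
import Mathlib.RingTheory.IntegralClosure.IsIntegralClosure.Basic

/-! A relative Noether normalization: a quasi-finite map to affine space of the fibre dimension. -/

set_option autoImplicit false
set_option maxSynthPendingDepth 3
set_option linter.style.haveILetI false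

universe u

open TensorProduct MvPolynomial

noncomputable section

namespace Groth.L06.WeakNormalization

variable {R S : Type u} [CommRing R] [CommRing S] [Algebra R S]

/-- The polynomial map on the fibre over `p` given by a family of elements. -/
def fibreHom (p : PrimeSpectrum R) {n : ℕ} (v : Fin n → S) :
    MvPolynomial (Fin n) p.asIdeal.ResidueField →ₐ[p.asIdeal.ResidueField] p.asIdeal.Fiber S :=
  aeval fun i => Algebra.TensorProduct.includeRight (v i)

theorem fibreHom_map (p : PrimeSpectrum R) {n : ℕ} (v : Fin n → S) (g : MvPolynomial (Fin n) R) :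
    fibreHom p v (g.map (algebraMap R p.asIdeal.ResidueField)) =
      (Algebra.TensorProduct.includeRight : S →ₐ[R] p.asIdeal.Fiber S) (aeval v g) := by
  rw [fibreHom, aeval_map_algebraMap]
  exact (DFunLike.congr_fun (comp_aeval v (Algebra.TensorProduct.includeRight : S →ₐ[R] p.asIdeal.Fiber S)) g).symm

theorem exists_map (p : PrimeSpectrum R) {σ : Type*} (g : MvPolynomial σ p.asIdeal.ResidueField) :
    ∃ a ∉ p.asIdeal, ∃ g' : MvPolynomial σ R,
      g'.map (algebraMap R p.asIdeal.ResidueField) = C (algebraMap R p.asIdeal.ResidueField a) * g := by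
  induction g using MvPolynomial.induction_on with
  | C c =>
    obtain ⟨z, w, -, hzw⟩ := IsFractionRing.div_surjective (R ⧸ p.asIdeal) c
    obtain ⟨z, rfl⟩ := Ideal.Quotient.mk_surjective z
    obtain ⟨w, rfl⟩ := Ideal.Quotient.mk_surjective w
    by_cases hc : algebraMap R p.asIdeal.ResidueField w = 0
    · refine ⟨1, fun h1 => p.2.ne_top ((Ideal.eq_top_iff_one _).2 h1), 0, ?_⟩
      have : c = 0 := by rw [← hzw]; exact (div_eq_zero_iff).2 (Or.inr hc)
      simp [this]
    · refine ⟨w, fun h => hc (Ideal.algebraMap_residueField_eq_zero.2 h), C z, ?_⟩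
      rw [map_C, ← map_mul, ← hzw]
      exact congrArg C (mul_div_cancel₀ (algebraMap R p.asIdeal.ResidueField z) hc).symm
  | add g₁ g₂ h₁ h₂ =>
    obtain ⟨a, ha, g₁', e₁⟩ := h₁
    obtain ⟨b, hb, g₂', e₂⟩ := h₂
    refine ⟨a * b, fun h => (p.2.mem_or_mem h).elim ha hb, C b * g₁' + C a * g₂', ?_⟩
    simp only [map_add, map_mul, map_C, e₁, e₂]
    ring
  | mul_X g i h =>
    obtain ⟨a, ha, g', e⟩ := h
    refine ⟨a, ha, g' * X i, ?_⟩
    rw [map_mul, map_X, e, mul_assoc]

/-- An element of every prime over `p` is killed by some power in a neighbourhood inside `V(T)`. -/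
theorem exists_mem_span (p : PrimeSpectrum R) (b : S)
    (hb : ∀ q : PrimeSpectrum S, PrimeSpectrum.comap (algebraMap R S) q = p → b ∈ q.asIdeal) :
    ∃ s ∉ p.asIdeal, ∃ (m : ℕ) (T : Finset R), (T : Set R) ⊆ p.asIdeal ∧
      algebraMap R S s * b ^ m ∈ Ideal.span (algebraMap R S '' T) := by
  classical
  let I := p.asIdeal.map (algebraMap R S)
  obtain ⟨s, hs, m, hsm⟩ : ∃ s ∉ p.asIdeal, ∃ m : ℕ, algebraMap R S s * b ^ m ∈ I := by
    by_contra! hne
    let M : Submonoid S :=
      { carrier := {z | ∃ s ∉ p.asIdeal, ∃ m : ℕ, z = algebraMap R S s * b ^ m}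
        one_mem' := ⟨1, fun h => p.2.ne_top ((Ideal.eq_top_iff_one _).2 h), 0, by simp⟩
        mul_mem' := by
          rintro _ _ ⟨s, hs, m, rfl⟩ ⟨t, ht, k, rfl⟩
          exact ⟨s * t, fun h => (p.2.mem_or_mem h).elim hs ht, m + k, by rw [map_mul]; ring⟩ }
    have hd : Disjoint (I : Set S) (M : Set S) := Set.disjoint_left.2 fun z hz hzM => by
      obtain ⟨s, hs, m, rfl⟩ := hzM
      exact hne s hs m hz
    obtain ⟨q, hq, hIq, hqM⟩ := Ideal.exists_le_prime_disjoint I M hd
    have hqp : PrimeSpectrum.comap (algebraMap R S) ⟨q, hq⟩ = p := by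
      refine PrimeSpectrum.ext (le_antisymm (fun a ha => ?_) (Ideal.map_le_iff_le_comap.1 hIq))
      by_contra h
      exact Set.disjoint_left.1 hqM ha ⟨a, h, 0, by simp⟩
    exact Set.disjoint_left.1 hqM (hb ⟨q, hq⟩ hqp)
      ⟨1, fun h => p.2.ne_top ((Ideal.eq_top_iff_one _).2 h), 1, by simp⟩
  obtain ⟨T', hT', hmem⟩ := Submodule.mem_span_finite_of_mem_span
    (show algebraMap R S s * b ^ m ∈ Submodule.span S (algebraMap R S '' p.asIdeal) from hsm)
  obtain ⟨T, hT, rfl⟩ := Finset.subset_set_image_iff.1 hT'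
  exact ⟨s, hs, m, T, hT, by rwa [Finset.coe_image] at hmem⟩

theorem exists_leading {κ : Type*} [Field κ] {n N : ℕ} (g : MvPolynomial (Fin (n + 1)) κ) (hg : g ≠ 0)
    (hdeg : g.totalDegree < N) :
    let G := aeval (R := κ) (Fin.lastCases (motive := fun _ => Polynomial (MvPolynomial (Fin n) κ)) Polynomial.X
      (fun i => Polynomial.X ^ N ^ ((i : ℕ) + 1) + Polynomial.C (X i))) g
    IsUnit G.leadingCoeff := by
  classical
  intro G
  let P := MvPolynomial (Fin n) κ
  let w : (Fin (n + 1) →₀ ℕ) → ℕ := fun m => m (Fin.last n) + ∑ i : Fin n, m i.castSucc * N ^ ((i : ℕ) + 1)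
  let e : Fin (n + 1) → ℕ := Fin.lastCases 1 (fun i : Fin n => N ^ ((i : ℕ) + 1))
  let φ : Fin (n + 1) → Polynomial P :=
    Fin.lastCases Polynomial.X (fun i => Polynomial.X ^ N ^ ((i : ℕ) + 1) + Polynomial.C (X i))
  have hN : 0 < N := by omega
  have hφ : ∀ i, (φ i).Monic ∧ (φ i).natDegree = e i := by
    intro i
    refine Fin.lastCases ?_ (fun i => ?_) i
    · simp [φ, e, Polynomial.monic_X]
    · simp only [φ, e, Fin.lastCases_castSucc]
      exact ⟨Polynomial.monic_X_pow_add_C _ (pow_pos hN _).ne', Polynomial.natDegree_X_pow_add_C⟩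
  have hmon : ∀ m : Fin (n + 1) →₀ ℕ, (∏ i, φ i ^ m i).Monic ∧ (∏ i, φ i ^ m i).natDegree = w m := fun m => by
    refine ⟨Polynomial.monic_prod_of_monic _ _ fun i _ => (hφ i).1.pow _, ?_⟩
    rw [Polynomial.natDegree_prod_of_monic _ _ fun i _ => (hφ i).1.pow _]
    simp only [Polynomial.Monic.natDegree_pow (hφ _).1, (hφ _).2, Fin.sum_univ_castSucc]
    simp [e, w, add_comm]
  have hinj : ∀ m ∈ g.support, ∀ m' ∈ g.support, w m = w m' → m = m' := by
    intro m hm m' hm' hw
    have hlt : ∀ m ∈ g.support, ∀ i, m i < N := fun m hm i => lt_of_le_of_lt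
      ((monomial_le_degreeOf i hm).trans (degreeOf_le_totalDegree g i)) hdeg
    let d : (Fin (n + 1) →₀ ℕ) → Fin (n + 1) → Fin N := fun m i =>
      if h : Fin.cases (m (Fin.last n)) (fun i : Fin n => m i.castSucc) i < N then ⟨_, h⟩ else ⟨0, hN⟩
    have hd : ∀ m ∈ g.support, (finFunctionFinEquiv (d m) : ℕ) = w m := fun m hm => by
      rw [finFunctionFinEquiv_apply, Fin.sum_univ_succ]
      simp [d, w, hlt m hm, Fin.val_succ]
    have := finFunctionFinEquiv.injective (Fin.ext ((hd m hm).trans (hw.trans (hd m' hm').symm)))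
    ext i
    refine Fin.lastCases ?_ (fun i => ?_) i
    · simpa [d, hlt m hm, hlt m' hm'] using congrArg Fin.val (congrFun this 0)
    · simpa [d, hlt m hm, hlt m' hm'] using congrArg Fin.val (congrFun this i.succ)
  have hG : G = ∑ m ∈ g.support, Polynomial.C (C (g.coeff m)) * ∏ i, φ i ^ m i := by
    show aeval φ g = _
    conv_lhs => rw [g.as_sum]
    rw [map_sum]
    refine Finset.sum_congr rfl fun m _ => ?_
    rw [aeval_monomial, Finsupp.prod_fintype _ _ (fun _ => pow_zero _)]
    rfl
  obtain ⟨m₀, hm₀, hmax⟩ := g.support.exists_max_image w (support_nonempty.2 hg)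
  have hc0 : ∀ m ∈ g.support, (C (g.coeff m) : P) ≠ 0 := fun m hm h =>
    mem_support_iff.1 hm (C_injective _ _ (h.trans (map_zero _).symm))
  have hterm : ∀ m ∈ g.support, (Polynomial.C (C (g.coeff m) : P) * ∏ i, φ i ^ m i).natDegree ≤ w m :=
    fun m hm => (Polynomial.natDegree_C_mul_le _ _).trans_eq (hmon m).2
  have hcoef : G.coeff (w m₀) = C (g.coeff m₀) := by
    rw [hG, Polynomial.finsetSum_coeff, Finset.sum_eq_single_of_mem m₀ hm₀]
    · rw [Polynomial.coeff_C_mul, ← (hmon m₀).2, (hmon m₀).1.coeff_natDegree, mul_one]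
    · intro m hm hne
      refine Polynomial.coeff_eq_zero_of_natDegree_lt ((hterm m hm).trans_lt ?_)
      exact lt_of_le_of_ne (hmax m hm) fun h => hne (hinj m hm m₀ hm₀ h)
  have hdegG : G.natDegree = w m₀ := by
    refine le_antisymm ?_ (Polynomial.le_natDegree_of_ne_zero (hcoef ▸ hc0 m₀ hm₀))
    rw [hG]
    exact Polynomial.natDegree_sum_le_of_forall_le _ _ fun m hm => (hterm m hm).trans (hmax m hm)
  rw [Polynomial.leadingCoeff, hdegG, hcoef]
  exact (mem_support_iff.1 hm₀).isUnit.map C

theorem integral_step (p : PrimeSpectrum R) {n N : ℕ} (v : Fin (n + 1) → S)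
    (h : (fibreHom p v).toRingHom.IsIntegral) (g : MvPolynomial (Fin (n + 1)) R)
    (hg : g.map (algebraMap R p.asIdeal.ResidueField) ≠ 0) (hdeg : g.totalDegree < N)
    (hnil : ∀ q : PrimeSpectrum S, PrimeSpectrum.comap (algebraMap R S) q = p → aeval v g ∈ q.asIdeal) :
    (fibreHom p (fun i : Fin n => v i.castSucc - v (Fin.last n) ^ N ^ ((i : ℕ) + 1))).toRingHom.IsIntegral := by
  classical
  let κ := p.asIdeal.ResidueField
  let F := p.asIdeal.Fiber S
  let inc : S →ₐ[R] F := Algebra.TensorProduct.includeRight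
  let z : Fin n → S := fun i => v i.castSucc - v (Fin.last n) ^ N ^ ((i : ℕ) + 1)
  letI : Algebra (MvPolynomial (Fin n) κ) F := (fibreHom p z).toRingHom.toAlgebra
  haveI : IsScalarTower κ (MvPolynomial (Fin n) κ) F :=
    IsScalarTower.of_algebraMap_eq fun c => ((fibreHom p z).commutes c).symm
  let g' := g.map (algebraMap R κ)
  have hG := exists_leading g' hg (lt_of_le_of_lt (Finset.sup_mono (MvPolynomial.support_map_subset _ g)) hdeg)
  set φ : Fin (n + 1) → Polynomial (MvPolynomial (Fin n) κ) :=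
    Fin.lastCases Polynomial.X (fun i => Polynomial.X ^ N ^ ((i : ℕ) + 1) + Polynomial.C (X i))
  have hroot : Polynomial.aeval (inc (v (Fin.last n))) (aeval φ g') = inc (aeval v g) := by
    rw [← fibreHom_map p v g]
    show ((Polynomial.aeval (R := MvPolynomial (Fin n) κ) (inc (v (Fin.last n)))).restrictScalars κ).comp
      (aeval φ) g' = aeval (fun i => inc (v i)) g'
    congr 1
    refine MvPolynomial.algHom_ext fun i => ?_
    rw [AlgHom.comp_apply, aeval_X, aeval_X, AlgHom.restrictScalars_apply]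
    refine Fin.lastCases ?_ (fun i => ?_) i
    · simp [φ]
    · simp only [φ, Fin.lastCases_castSucc, map_add, map_pow, Polynomial.aeval_X, Polynomial.aeval_C]
      show _ + fibreHom p z (X i) = _
      rw [fibreHom, aeval_X]
      show inc (v (Fin.last n)) ^ _ + inc (v i.castSucc - v (Fin.last n) ^ _) = inc (v i.castSucc)
      rw [map_sub, map_pow]
      ring
  have hnilF : IsNilpotent (inc (aeval v g)) := nilpotent_iff_mem_prime.2 fun Q hQ => by
    let q : PrimeSpectrum S := PrimeSpectrum.comap inc.toRingHom ⟨Q, hQ⟩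
    exact hnil q ((PrimeSpectrum.preimageHomeomorphFiber R S p).symm ⟨Q, hQ⟩).2
  obtain ⟨k, hk⟩ := hnilF
  have hlast : IsIntegral (MvPolynomial (Fin n) κ) (inc (v (Fin.last n))) := by
    have hu : IsUnit ((aeval φ g') ^ k).leadingCoeff := by
      rw [Polynomial.leadingCoeff_pow]
      exact hG.pow k
    refine ⟨Polynomial.C hu.unit⁻¹.val * (aeval φ g') ^ k, ?_, ?_⟩
    · rw [Polynomial.Monic, Polynomial.leadingCoeff_mul, Polynomial.leadingCoeff_C]
      exact hu.val_inv_mul
    · rw [Polynomial.eval₂_mul, ← Polynomial.aeval_def, ← Polynomial.aeval_def, map_pow, hroot, hk, mul_zero]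
  let CC := integralClosure (MvPolynomial (Fin n) κ) F
  have hall : ∀ g₀ : MvPolynomial (Fin (n + 1)) κ, fibreHom p v g₀ ∈ CC := by
    intro g₀
    induction g₀ using MvPolynomial.induction_on with
    | C c =>
      rw [fibreHom, aeval_C, IsScalarTower.algebraMap_apply κ (MvPolynomial (Fin n) κ) F]
      exact isIntegral_algebraMap
    | add a b ha hb => rw [map_add]; exact add_mem ha hb
    | mul_X a i ha =>
      rw [map_mul]
      refine mul_mem ha ?_
      rw [fibreHom, aeval_X]
      refine Fin.lastCases ?_ (fun i => ?_) i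
      · exact hlast
      · have e : inc (v i.castSucc) = inc (z i) + inc (v (Fin.last n)) ^ N ^ ((i : ℕ) + 1) := by
          simp [z]
        show inc (v i.castSucc) ∈ CC
        rw [e]
        refine add_mem ?_ (pow_mem hlast _)
        have : inc (z i) = algebraMap (MvPolynomial (Fin n) κ) F (X i) := (aeval_X (fun i => inc (z i)) i).symm
        rw [this]
        exact isIntegral_algebraMap
  intro x
  let ψ : MvPolynomial (Fin (n + 1)) κ →+* CC := (fibreHom p v).toRingHom.codRestrict CC hall
  obtain ⟨P, hP, hPx⟩ := h x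
  have hxC : IsIntegral CC x := ⟨P.map ψ, hP.map _, by rw [Polynomial.eval₂_map]; exact hPx⟩
  haveI : Algebra.IsIntegral (MvPolynomial (Fin n) κ) CC := inferInstance
  exact isIntegral_trans (R := MvPolynomial (Fin n) κ) x hxC

theorem exists_family (d : ℕ) [Algebra.FiniteType R S]
    (hd : ∀ p : PrimeSpectrum R, ringKrullDim (p.asIdeal.Fiber S) ≤ (d : WithBot ℕ∞)) :
    ∀ k : ℕ, (∃ v : Fin (d + k) → S, ∀ p : PrimeSpectrum R, (fibreHom p v).toRingHom.IsIntegral) →
      ∃ v : Fin d → S, ∀ p : PrimeSpectrum R, (fibreHom p v).toRingHom.IsIntegral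
  | 0, h => h
  | k + 1, ⟨v, hv⟩ => by
    classical
    refine exists_family d hd k ?_
    have hg : ∀ p : PrimeSpectrum R, ∃ g : MvPolynomial (Fin (d + k + 1)) R,
        g.map (algebraMap R p.asIdeal.ResidueField) ≠ 0 ∧
        ∀ q : PrimeSpectrum S, PrimeSpectrum.comap (algebraMap R S) q = p → aeval v g ∈ q.asIdeal := by
      intro p
      have hninj : ¬ Function.Injective (fibreHom p v) := fun hinj => by
        letI := (fibreHom p v).toRingHom.toAlgebra
        haveI : Algebra.IsIntegral (MvPolynomial (Fin (d + k + 1)) p.asIdeal.ResidueField) (p.asIdeal.Fiber S) := ⟨hv p⟩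
        have h2 := hd p
        rw [Groth.L22.AffineDim.ringKrullDim_eq_of_isIntegral (R := MvPolynomial (Fin (d + k + 1)) p.asIdeal.ResidueField) hinj,
          MvPolynomial.ringKrullDim_of_isNoetherianRing, ringKrullDim_eq_zero_of_field, zero_add, Nat.card_fin] at h2
        have : d + k + 1 ≤ d := by exact_mod_cast h2
        omega
      obtain ⟨g₀, hg₀, hg₀0⟩ : ∃ g₀, fibreHom p v g₀ = 0 ∧ g₀ ≠ 0 := by
        by_contra! hcon
        exact hninj ((injective_iff_map_eq_zero _).2 hcon)
      obtain ⟨a, ha, g, hga⟩ := exists_map p g₀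
      refine ⟨g, ?_, fun q hq => ?_⟩
      · rw [hga]
        exact mul_ne_zero (fun h => ha (Ideal.algebraMap_residueField_eq_zero.1 (C_injective _ _ (h.trans (map_zero _).symm)))) hg₀0
      · have h0 : (Algebra.TensorProduct.includeRight : S →ₐ[R] p.asIdeal.Fiber S) (aeval v g) = 0 := by
          rw [← fibreHom_map, hga, map_mul, hg₀, mul_zero]
        let Q := PrimeSpectrum.preimageHomeomorphFiber R S p ⟨q, hq⟩
        have hQ : Q.asIdeal.comap (Algebra.TensorProduct.includeRight : S →ₐ[R] p.asIdeal.Fiber S) = q.asIdeal :=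
          congrArg (fun z => z.1.asIdeal) ((PrimeSpectrum.preimageHomeomorphFiber R S p).symm_apply_apply ⟨q, hq⟩)
        rw [← hQ, Ideal.mem_comap, h0]
        exact zero_mem _
    choose g hg₁ hg₂ using hg
    choose m hm using fun p => ne_zero_iff.1 (hg₁ p)
    choose s hs e T hT hmem using fun p => exists_mem_span p (aeval v (g p)) (hg₂ p)
    let E : PrimeSpectrum R → Set (PrimeSpectrum R) := fun p =>
      (PrimeSpectrum.basicOpen (s p * (g p).coeff (m p)) : Set _) \ ⋃ t ∈ T p, (PrimeSpectrum.basicOpen t : Set _)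
    have hE : ∀ p, Topology.IsConstructible (E p) := fun p => by
      have h1 : ∀ F : Finset R, Topology.IsConstructible (⋃ t ∈ F, (PrimeSpectrum.basicOpen t : Set (PrimeSpectrum R))) := by
        intro F
        induction F using Finset.induction with
        | empty => simp
        | insert a F ha ih =>
          rw [Finset.set_biUnion_insert]
          exact PrimeSpectrum.isConstructible_basicOpen.union ih
      exact PrimeSpectrum.isConstructible_basicOpen.sdiff (h1 _)
    have hpE : ∀ p, p ∈ E p := fun p => by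
      refine ⟨fun h => (p.2.mem_or_mem h).elim (hs p) fun h' => hm p ?_, fun h => ?_⟩
      · rw [coeff_map, Ideal.algebraMap_residueField_eq_zero.2 h']
      · obtain ⟨t, ht, hpt⟩ := Set.mem_iUnion₂.1 h
        exact hpt (hT p ht)
    obtain ⟨F, hF⟩ := (CompactSpace.isCompact_univ (X := WithConstructibleTopology (PrimeSpectrum R))).elim_finite_subcover
      (fun p => (WithTopology.ofTopology : WithConstructibleTopology (PrimeSpectrum R) → PrimeSpectrum R) ⁻¹' E p)
      (fun p => Groth.L28.ExtShriek.isOpen_constructible (X := AlgebraicGeometry.Spec (CommRingCat.of R)) (hE p))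
      (fun w _ => Set.mem_iUnion.2 ⟨WithTopology.ofTopology w, hpE _⟩)
    let N := (F.sup fun p => (g p).totalDegree) + 1
    refine ⟨fun i => v i.castSucc - v (Fin.last (d + k)) ^ N ^ ((i : ℕ) + 1), fun p' => ?_⟩
    obtain ⟨p, hp, hp'⟩ := Set.mem_iUnion₂.1 (hF (Set.mem_univ (WithTopology.toTopology _ p')))
    obtain ⟨hp'1, hp'2⟩ : p' ∈ E p := hp'
    refine integral_step p' v (hv p') (g p) (fun h0 => hp'1 (Ideal.mul_mem_left _ _ ?_))
      (Nat.lt_succ_of_le (Finset.le_sup (f := fun p => (g p).totalDegree) hp)) (fun q hq => ?_)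
    · exact Ideal.algebraMap_residueField_eq_zero.1 (by rw [← coeff_map, h0, coeff_zero])
    · have hsub : Ideal.span (algebraMap R S '' (T p : Set R)) ≤ q.asIdeal := Ideal.span_le.2 (by
        rintro _ ⟨t, ht, rfl⟩
        have : t ∈ p'.asIdeal := by
          by_contra hne
          exact hp'2 (Set.mem_iUnion₂.2 ⟨t, ht, hne⟩)
        rw [← hq] at this
        exact this)
      refine q.2.mem_of_pow_mem (e p) ((q.2.mem_or_mem (hsub (hmem p))).resolve_left fun h => hp'1 ?_)
      refine Ideal.mul_mem_right _ _ ?_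
      rw [← hq]
      exact h

theorem exists_quasiFinite [Algebra.FiniteType R S] (d : ℕ)
    (hd : ∀ p : PrimeSpectrum R, ringKrullDim (p.asIdeal.Fiber S) ≤ (d : WithBot ℕ∞)) :
    ∃ φ : MvPolynomial (Fin d) R →ₐ[R] S, φ.toRingHom.QuasiFinite := by
  classical
  obtain ⟨n, π, hπ⟩ := Algebra.FiniteType.iff_quotient_mvPolynomial''.mp (inferInstance : Algebra.FiniteType R S)
  have hstart : ∃ k, ∃ v : Fin (d + k) → S, ∀ p : PrimeSpectrum R, (fibreHom p v).toRingHom.IsIntegral := by
    refine ⟨n, fun i => Fin.addCases (fun _ => 0) (fun j => π (X j)) i, fun p => ?_⟩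
    refine RingHom.IsIntegral.of_finite (RingHom.Finite.of_surjective _ fun x => ?_)
    induction x using TensorProduct.induction_on with
    | zero => exact ⟨0, map_zero _⟩
    | add a b ha hb =>
      obtain ⟨a, rfl⟩ := ha
      obtain ⟨b, rfl⟩ := hb
      exact ⟨a + b, map_add _ _ _⟩
    | tmul c s =>
      obtain ⟨f, rfl⟩ := hπ s
      refine ⟨C c * (rename (Fin.natAdd d) f).map (algebraMap R _), ?_⟩
      show fibreHom p _ _ = _
      rw [map_mul, fibreHom_map, fibreHom, aeval_C, aeval_rename]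
      have : aeval (fun j : Fin n => π (X j)) f = π f :=
        (DFunLike.congr_fun (MvPolynomial.aeval_unique π) f).symm
      simp [Function.comp_def, this, Algebra.TensorProduct.tmul_mul_tmul]
  obtain ⟨k, hk⟩ := hstart
  obtain ⟨v, hv⟩ := exists_family d hd k hk
  refine ⟨aeval v, ?_⟩
  let A := MvPolynomial (Fin d) R
  letI : Algebra A S := (aeval v : A →ₐ[R] S).toRingHom.toAlgebra
  haveI : IsScalarTower R A S := IsScalarTower.of_algebraMap_eq fun r => ((aeval v).commutes r).symm
  haveI : Algebra.FiniteType A S := Algebra.FiniteType.of_restrictScalars_finiteType R A S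
  show Algebra.QuasiFinite A S
  rw [Algebra.QuasiFinite.iff_finite_comap_preimage_singleton]
  intro Q
  let p : PrimeSpectrum R := PrimeSpectrum.comap (algebraMap R A) Q
  let F := p.asIdeal.Fiber S
  let K := MvPolynomial (Fin d) p.asIdeal.ResidueField
  letI : Algebra K F := (fibreHom p v).toRingHom.toAlgebra
  haveI : IsScalarTower p.asIdeal.ResidueField K F :=
    IsScalarTower.of_algebraMap_eq fun c => ((fibreHom p v).commutes c).symm
  haveI : Algebra.FiniteType K F := Algebra.FiniteType.of_restrictScalars_finiteType p.asIdeal.ResidueField K F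
  haveI : Algebra.IsIntegral K F := ⟨hv p⟩
  haveI : Module.Finite K F := Algebra.IsIntegral.finite
  let inc : S →ₐ[R] F := Algebra.TensorProduct.includeRight
  have hkey : ∀ W : PrimeSpectrum F, ∀ g : A,
      g.map (algebraMap R p.asIdeal.ResidueField) ∈ W.asIdeal.comap (algebraMap K F) ↔
        aeval v g ∈ W.asIdeal.comap inc := fun W g => by
    show fibreHom p v _ ∈ W.asIdeal ↔ _
    rw [fibreHom_map]
    rfl
  have hqp : ∀ q ∈ PrimeSpectrum.comap (algebraMap A S) ⁻¹' {Q}, PrimeSpectrum.comap (algebraMap R S) q = p := by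
    intro q hq
    show PrimeSpectrum.comap (algebraMap R S) q = PrimeSpectrum.comap (algebraMap R A) Q
    rw [← (show PrimeSpectrum.comap (algebraMap A S) q = Q from hq), IsScalarTower.algebraMap_eq R A S]
    exact PrimeSpectrum.comap_comp_apply _ _ q
  by_cases hne : (PrimeSpectrum.comap (algebraMap A S) ⁻¹' {Q}).Nonempty
  swap
  · rw [Set.not_nonempty_iff_eq_empty.1 hne]
    exact Set.finite_empty
  obtain ⟨q₁, hq₁⟩ := hne
  let W₁ := PrimeSpectrum.preimageHomeomorphFiber R S p ⟨q₁, hqp q₁ hq₁⟩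
  have hW : ∀ (q : PrimeSpectrum S) (hq : PrimeSpectrum.comap (algebraMap R S) q = p),
      (PrimeSpectrum.preimageHomeomorphFiber R S p ⟨q, hq⟩).asIdeal.comap inc = q.asIdeal := fun q hq =>
    congrArg (fun z => z.1.asIdeal) ((PrimeSpectrum.preimageHomeomorphFiber R S p).symm_apply_apply ⟨q, hq⟩)
  have hfin := Algebra.QuasiFinite.finite_comap_preimage_singleton (R := K) (S := F)
    (PrimeSpectrum.comap (algebraMap K F) W₁)
  refine Set.Finite.subset (hfin.image fun W => PrimeSpectrum.comap inc.toRingHom W) fun q hq => ?_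
  refine ⟨PrimeSpectrum.preimageHomeomorphFiber R S p ⟨q, hqp q hq⟩, ?_, PrimeSpectrum.ext (hW q (hqp q hq))⟩
  refine PrimeSpectrum.ext ?_
  ext g₀
  obtain ⟨a, ha, g, hga⟩ := exists_map p g₀
  have hu : IsUnit (C (algebraMap R p.asIdeal.ResidueField a) : K) :=
    (Ne.isUnit fun h => ha (Ideal.algebraMap_residueField_eq_zero.1 h)).map C
  show g₀ ∈ Ideal.comap (algebraMap K F) _ ↔ g₀ ∈ Ideal.comap (algebraMap K F) W₁.asIdeal
  rw [← Ideal.unit_mul_mem_iff_mem _ hu, ← hga, ← Ideal.unit_mul_mem_iff_mem (W₁.asIdeal.comap (algebraMap K F)) hu,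
    ← hga, hkey, hkey, hW, hW]
  show g ∈ Ideal.comap (algebraMap A S) q.asIdeal ↔ g ∈ Ideal.comap (algebraMap A S) q₁.asIdeal
  rw [show Ideal.comap (algebraMap A S) q.asIdeal = Q.asIdeal from congrArg PrimeSpectrum.asIdeal hq,
    show Ideal.comap (algebraMap A S) q₁.asIdeal = Q.asIdeal from congrArg PrimeSpectrum.asIdeal hq₁]

end Groth.L06.WeakNormalization
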